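/-
Tensor products of matrices composed with a permutation of the factors.
-/
import Cfsg.Prelude.Def_GeometricClasses

set_option autoImplicit false

namespace CfsgLib.Classical22.TensorMono

open Matrix

variable {F : Type*} [Field F] {ι : Type} [Fintype ι] [DecidableEq ι]
variable {D E G : Type} [Fintype D] [DecidableEq D] [Fintype E] [DecidableEq E] [Fintype G] [DecidableEq G]

/-- The product of the matrices `A i`, composed with the permutation `π` of the factors. -/
def wr (π : Equiv.Perm ι) (A : ι → Matrix D E F) : Matrix (ι → D) (ι → E) F :=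
  Matrix.of fun x y => ∏ i, A i (x i) (y (π i))

omit [DecidableEq ι] [Fintype D] [DecidableEq D] [Fintype E] [DecidableEq E] in
theorem wr_apply (π : Equiv.Perm ι) (A : ι → Matrix D E F) (x : ι → D) (y : ι → E) :
    wr π A x y = ∏ i, A i (x i) (y (π i)) := rfl

theorem wr_mul (π ρ : Equiv.Perm ι) (A : ι → Matrix D E F) (B : ι → Matrix E G F) :
    wr π A * wr ρ B = wr (π.trans ρ) fun i => A i * B (π i) := by
  ext x z
  rw [Matrix.mul_apply, wr_apply]
  simp only [Matrix.mul_apply, Equiv.trans_apply]
  rw [Finset.prod_univ_sum, Fintype.piFinset_univ]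
  refine Fintype.sum_equiv (Equiv.arrowCongr π.symm (Equiv.refl E)) _ _ fun y => ?_
  rw [wr_apply, wr_apply, ← Equiv.prod_comp π (fun j => B j (y j) (z (ρ j))), ← Finset.prod_mul_distrib]
  exact Finset.prod_congr rfl fun i _ => rfl

theorem wr_mul_one (π : Equiv.Perm ι) (A : ι → Matrix D E F) (B : ι → Matrix E G F) :
    wr π A * wr 1 B = wr π fun i => A i * B (π i) := by
  rw [wr_mul]; rfl

theorem wr_one_mul (ρ : Equiv.Perm ι) (A : ι → Matrix D E F) (B : ι → Matrix E G F) :
    wr 1 A * wr ρ B = wr ρ fun i => A i * B i := by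
  rw [wr_mul]; rfl

omit [Fintype D] in
theorem wr_one : wr (1 : Equiv.Perm ι) (fun _ => (1 : Matrix D D F)) = 1 := by
  ext x y
  rw [wr_apply]
  by_cases h : x = y
  · subst h; rw [Matrix.one_apply_eq]; exact Finset.prod_eq_one fun i _ => Matrix.one_apply_eq (x i)
  · obtain ⟨i, hi⟩ := Function.ne_iff.1 h
    rw [one_apply_ne h]
    exact Finset.prod_eq_zero (Finset.mem_univ i) (one_apply_ne hi)

omit [DecidableEq ι] [Fintype D] [DecidableEq D] [Fintype E] [DecidableEq E] in
theorem wr_transpose (π : Equiv.Perm ι) (A : ι → Matrix D E F) :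
    (wr π A)ᵀ = wr π.symm fun j => (A (π.symm j))ᵀ := by
  ext x y
  rw [transpose_apply, wr_apply, wr_apply]
  simp only [transpose_apply]
  rw [← Equiv.prod_comp π (fun j => A (π.symm j) (y (π.symm j)) (x j))]
  simp

omit [DecidableEq ι] [Fintype D] [DecidableEq D] [Fintype E] [DecidableEq E] in
theorem wr_eq_zero (π : Equiv.Perm ι) (A : ι → Matrix D E F) {i : ι} (h : A i = 0) : wr π A = 0 := by
  ext x y
  rw [wr_apply, Matrix.zero_apply]
  exact Finset.prod_eq_zero (Finset.mem_univ i) (by rw [h, Matrix.zero_apply])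

omit [Fintype D] [DecidableEq D] [Fintype E] [DecidableEq E] in
theorem wr_update_apply (π : Equiv.Perm ι) (A : ι → Matrix D E F) (j : ι) (X : Matrix D E F) (x : ι → D) (y : ι → E) :
    wr π (Function.update A j X) x y = X (x j) (y (π j)) * ∏ i ∈ Finset.univ.erase j, A i (x i) (y (π i)) := by
  rw [wr_apply, ← Finset.mul_prod_erase _ _ (Finset.mem_univ j), Function.update_self]
  congr 1
  exact Finset.prod_congr rfl fun i hi => by rw [Function.update_of_ne (Finset.ne_of_mem_erase hi)]

omit [Fintype D] [DecidableEq D] [Fintype E] [DecidableEq E] in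
theorem wr_update_add (π : Equiv.Perm ι) (A : ι → Matrix D E F) (j : ι) (X Y : Matrix D E F) :
    wr π (Function.update A j (X + Y)) = wr π (Function.update A j X) + wr π (Function.update A j Y) := by
  ext x y
  simp only [wr_update_apply, Matrix.add_apply, add_mul]

omit [Fintype D] [DecidableEq D] [Fintype E] [DecidableEq E] in
theorem wr_update_smul (π : Equiv.Perm ι) (A : ι → Matrix D E F) (j : ι) (c : F) (X : Matrix D E F) :
    wr π (Function.update A j (c • X)) = c • wr π (Function.update A j X) := by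
  ext x y
  simp only [wr_update_apply, Matrix.smul_apply, smul_eq_mul, mul_assoc]

/-- One matrix placed in the factor `j`. -/
def inj (j : ι) : Matrix D D F →ₗ[F] Matrix (ι → D) (ι → D) F where
  toFun X := wr 1 (Function.update (fun _ => 1) j X)
  map_add' X Y := wr_update_add 1 _ j X Y
  map_smul' c X := wr_update_smul 1 _ j c X

omit [Fintype D] in
theorem inj_apply (j : ι) (X : Matrix D D F) : inj j X = wr 1 (Function.update (fun _ => 1) j X) := rfl

omit [Fintype D] in
theorem inj_one (j : ι) : inj j (1 : Matrix D D F) = 1 := by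
  rw [inj_apply, Function.update_eq_self_iff.2 rfl, wr_one]

omit [Fintype D] in
theorem inj_eq_zero_entry {j i : ι} (hij : i ≠ j) (X : Matrix D D F) (x y : ι → D) (h : x i ≠ y i) :
    inj j X x y = 0 := by
  rw [inj_apply, wr_apply]
  refine Finset.prod_eq_zero (Finset.mem_univ i) ?_
  rw [Function.update_of_ne hij, Equiv.Perm.one_apply, one_apply_ne h]

theorem wr_conj (π : Equiv.Perm ι) (A : ι → GL D F) (j : ι) (X : Matrix D D F) :
    wr π (fun i => (A i : Matrix D D F)) * inj j X =
      inj (π.symm j) ((A (π.symm j) : Matrix D D F) * X * (((A (π.symm j))⁻¹ : GL D F) : Matrix D D F)) *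
        wr π (fun i => (A i : Matrix D D F)) := by
  rw [inj_apply, inj_apply, wr_mul_one, wr_one_mul]
  congr 1
  funext i
  by_cases h : i = π.symm j
  · subst h
    rw [Equiv.apply_symm_apply, Function.update_self, Function.update_self, Units.inv_mul_cancel_right]
  · rw [Function.update_of_ne h, Function.update_of_ne (fun hh => h (π.injective (by rw [hh, Equiv.apply_symm_apply]))),
      mul_one, one_mul]

omit [DecidableEq D] [DecidableEq E] in
/-- A product determines its factors up to scalars. -/
theorem factor_of_eq (A G₀ : ι → Matrix D D F) (h : wr 1 A = wr 1 G₀) (u v : ι → D) (huv : ∀ i, G₀ i (u i) (v i) ≠ 0)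
    (j : ι) : ∃ c : F, A j = c • G₀ j := by
  classical
  have hne : ∀ i, A i (u i) (v i) ≠ 0 := fun i hi => by
    have h1 := congrArg (fun N : Matrix (ι → D) (ι → D) F => N u v) h
    simp only [wr_apply, Equiv.Perm.one_apply] at h1
    exact Finset.prod_ne_zero_iff.2 (fun i _ => huv i) (h1.symm.trans (Finset.prod_eq_zero (Finset.mem_univ i) hi))
  refine ⟨(∏ i ∈ Finset.univ.erase j, G₀ i (u i) (v i)) / ∏ i ∈ Finset.univ.erase j, A i (u i) (v i),
    Matrix.ext fun a b => ?_⟩
  have h1 := congrArg (fun N : Matrix (ι → D) (ι → D) F => N (Function.update u j a) (Function.update v j b)) h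
  simp only [wr_apply, Equiv.Perm.one_apply] at h1
  rw [← Finset.mul_prod_erase _ _ (Finset.mem_univ j), ← Finset.mul_prod_erase _ _ (Finset.mem_univ j),
    Function.update_self, Function.update_self] at h1
  rw [Finset.prod_congr rfl (fun i hi => by
      rw [Function.update_of_ne (Finset.ne_of_mem_erase hi), Function.update_of_ne (Finset.ne_of_mem_erase hi)]),
    Finset.prod_congr rfl (fun i hi => by
      rw [Function.update_of_ne (Finset.ne_of_mem_erase hi), Function.update_of_ne (Finset.ne_of_mem_erase hi)] :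
      ∀ i ∈ Finset.univ.erase j, G₀ i (Function.update u j a i) (Function.update v j b i) = G₀ i (u i) (v i))] at h1
  rw [Matrix.smul_apply, smul_eq_mul, div_mul_eq_mul_div, eq_div_iff (Finset.prod_ne_zero_iff.2 fun i _ => hne i), h1,
    mul_comm]

/-- Membership in a tensor wreath stabiliser: a product composed with a permutation of the factors. -/
theorem standard_form [Finite F] {m t : ℕ} {g : GL (Fin t → Fin m) F} (hg : g ∈ Cfsg.Geo.tensorWreathStandard m t F) :
    ∃ (π : Equiv.Perm (Fin t)) (A : Fin t → GL (Fin m) F),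
      (g : Matrix (Fin t → Fin m) (Fin t → Fin m) F) = wr π fun i => (A i : Matrix (Fin m) (Fin m) F) := by
  classical
  have hbase : ∀ x : GL (Fin t → Fin m) F, Cfsg.Geo.IsPureTensor m t x ∨ Cfsg.Geo.IsFactorPermutation m t x →
      ∃ (π : Equiv.Perm (Fin t)) (A : Fin t → GL (Fin m) F),
        (x : Matrix (Fin t → Fin m) (Fin t → Fin m) F) = wr π fun i => (A i : Matrix (Fin m) (Fin m) F) := by
    rintro x (⟨gs, h⟩ | ⟨σ, h⟩)
    · exact ⟨1, gs, Matrix.ext fun a b => by rw [h, wr_apply]; rfl⟩
    · refine ⟨σ.symm, fun _ => 1, Matrix.ext fun a b => ?_⟩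
      rw [h, wr_apply]
      simp only [Units.val_one, one_apply, Finset.prod_boole, Finset.mem_univ, true_implies]
      refine if_congr ⟨fun hb i => by rw [hb]; simp, fun hh => funext fun i => ?_⟩ rfl rfl
      have := hh (σ i)
      rw [Equiv.symm_apply_apply] at this
      exact this.symm
  have hone : ∃ (π : Equiv.Perm (Fin t)) (A : Fin t → GL (Fin m) F),
      ((1 : GL (Fin t → Fin m) F) : Matrix (Fin t → Fin m) (Fin t → Fin m) F) =
        wr π fun i => (A i : Matrix (Fin m) (Fin m) F) := ⟨1, fun _ => 1, by simp [wr_one]⟩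
  have hmul : ∀ x y : GL (Fin t → Fin m) F,
      (∃ (π : Equiv.Perm (Fin t)) (A : Fin t → GL (Fin m) F),
        (x : Matrix (Fin t → Fin m) (Fin t → Fin m) F) = wr π fun i => (A i : Matrix (Fin m) (Fin m) F)) →
      (∃ (π : Equiv.Perm (Fin t)) (A : Fin t → GL (Fin m) F),
        (y : Matrix (Fin t → Fin m) (Fin t → Fin m) F) = wr π fun i => (A i : Matrix (Fin m) (Fin m) F)) →
      ∃ (π : Equiv.Perm (Fin t)) (A : Fin t → GL (Fin m) F),
        ((x * y : GL (Fin t → Fin m) F) : Matrix (Fin t → Fin m) (Fin t → Fin m) F) =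
          wr π fun i => (A i : Matrix (Fin m) (Fin m) F) := by
    rintro x y ⟨π, A, hx⟩ ⟨ρ, B, hy⟩
    exact ⟨π.trans ρ, fun i => A i * B (π i), by rw [Units.val_mul, hx, hy, wr_mul]; rfl⟩
  induction hg using Subgroup.closure_induction with
  | mem x hx => exact hbase x hx
  | one => exact hone
  | mul x y _ _ hx hy => exact hmul x y hx hy
  | inv x _ hx =>
    have hpow : ∀ l : ℕ, ∃ (π : Equiv.Perm (Fin t)) (A : Fin t → GL (Fin m) F),
        ((x ^ l : GL (Fin t → Fin m) F) : Matrix (Fin t → Fin m) (Fin t → Fin m) F) =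
          wr π fun i => (A i : Matrix (Fin m) (Fin m) F) := by
      intro l
      induction l with
      | zero => rw [pow_zero]; exact hone
      | succ l ih => rw [pow_succ]; exact hmul _ _ ih hx
    rw [show x⁻¹ = x ^ (orderOf x - 1) from inv_eq_of_mul_eq_one_right (by
      rw [← pow_succ', Nat.sub_add_cancel (orderOf_pos x), pow_orderOf_eq_one])]
    exact hpow _

end CfsgLib.Classical22.TensorMono
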