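/-
Subgroups containing the Eichler transformations: full singular points, irreducibility, stabilisers of subspaces.
-/
import Cfsg.Agent.Lib.Classical.QuadEichler

set_option autoImplicit false

namespace CfsgLib.Classical22

open CfsgLib.Classical

variable {F V : Type*} [Field F] [AddCommGroup V] [Module F V] (Q : QuadraticForm F V)

/-- The stabiliser of a subspace in the automorphism group of a quadratic form. -/
def qStab (W : Submodule F V) : Subgroup (qAut Q) where
  carrier := {g | ∀ v, v ∈ W ↔ g.1 v ∈ W}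
  mul_mem' {a b} ha hb := fun v => (hb v).trans (by rw [qAut_mul_apply]; exact ha _)
  one_mem' := fun _ => Iff.rfl
  inv_mem' {a} ha := fun v => by
    have h := ha ((a⁻¹).1 v)
    rw [show a.1 ((a⁻¹).1 v) = v by rw [← qAut_mul_apply, mul_inv_cancel]; rfl] at h
    exact h.symm

theorem qInv_apply_self (g : qAut Q) (v : V) : (g⁻¹).1 (g.1 v) = v := by
  rw [← qAut_mul_apply, inv_mul_cancel]; rfl

theorem qApply_inv_self (g : qAut Q) (v : V) : g.1 ((g⁻¹).1 v) = v := by
  rw [← qAut_mul_apply, mul_inv_cancel]; rfl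

theorem apply_mem_of_qStab {W : Submodule F V} {g : qAut Q} (hg : g ∈ qStab Q W) {v : V} (hv : v ∈ W) :
    g.1 v ∈ W :=
  (hg v).1 hv

variable [FiniteDimensional F V]

theorem mem_qStab_of_maps {W : Submodule F V} {g : qAut Q} (h : ∀ v ∈ W, g.1 v ∈ W) : g ∈ qStab Q W := by
  have he : W.map g.1.toLinearMap = W :=
    Submodule.eq_of_le_of_finrank_eq (Submodule.map_le_iff_le_comap.2 h)
      (LinearEquiv.finrank_map_eq g.1 W)
  refine fun v => ⟨h v, fun hv => ?_⟩
  rw [← he] at hv
  obtain ⟨w, hw, hwv⟩ := Submodule.mem_map.1 hv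
  rwa [← g.1.injective hwv]

/-- The orthogonal subspace. -/
noncomputable def qPerp (W : Submodule F V) : Submodule F V :=
  LinearMap.BilinForm.orthogonal (QuadraticMap.polarBilin Q) W

omit [FiniteDimensional F V] in
theorem mem_qPerp {W : Submodule F V} {x : V} : x ∈ qPerp Q W ↔ ∀ w ∈ W, QuadraticMap.polar Q w x = 0 :=
  Iff.rfl

omit [FiniteDimensional F V] in
theorem mem_qPerp_singleton {u x : V} :
    x ∈ qPerp Q (Submodule.span F {u}) ↔ QuadraticMap.polar Q u x = 0 := by
  rw [mem_qPerp]
  refine ⟨fun h => h u (Submodule.mem_span_singleton_self u), fun h w hw => ?_⟩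
  obtain ⟨t, rfl⟩ := Submodule.mem_span_singleton.1 hw
  rw [QuadraticMap.polar_smul_left, h, smul_zero]

theorem finrank_qPerp (hQ : PolarNondeg Q) (W : Submodule F V) :
    Module.finrank F (qPerp Q W) = Module.finrank F V - Module.finrank F W :=
  LinearMap.BilinForm.finrank_orthogonal (PolarNondeg.nondegenerate hQ) W

theorem qPerp_qPerp (hQ : PolarNondeg Q) (W : Submodule F V) : qPerp Q (qPerp Q W) = W :=
  LinearMap.BilinForm.orthogonal_orthogonal (PolarNondeg.nondegenerate hQ)
    (fun a b h => (QuadraticMap.polar_comm Q b a).trans h) W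

theorem qPerp_invariant {W : Submodule F V} {g : qAut Q} (hg : g ∈ qStab Q W) : g ∈ qStab Q (qPerp Q W) :=
  mem_qStab_of_maps Q fun x hx => (mem_qPerp Q).2 fun w hw => by
    rw [← qApply_inv_self Q g w, qAut_polar]
    exact (mem_qPerp Q).1 hx _ (apply_mem_of_qStab Q (inv_mem hg) hw)

/-- A totally singular subspace has at most half the dimension. -/
theorem two_mul_finrank_singular (hQ : PolarNondeg Q) {W : Submodule F V} (hW : ∀ w ∈ W, Q w = 0) :
    2 * Module.finrank F W ≤ Module.finrank F V := by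
  have h := Submodule.finrank_mono (show W ≤ qPerp Q W from fun x hx => (mem_qPerp Q).2 fun w hw => by
    simp [QuadraticMap.polar, hW _ (W.add_mem hw hx), hW w hw, hW x hx])
  rw [finrank_qPerp Q hQ] at h
  omega

omit [FiniteDimensional F V] in
theorem polar_zero_of_singular {W : Submodule F V} (hW : ∀ w ∈ W, Q w = 0) {x y : V} (hx : x ∈ W) (hy : y ∈ W) :
    QuadraticMap.polar Q x y = 0 := by
  simp [QuadraticMap.polar, hW _ (W.add_mem hx hy), hW x hx, hW y hy]

/-- The Eichler transformations with both vectors inside a subspace preserve it. -/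
theorem eich_mem_qStab {W : Submodule F V} {u w : V} (hu : Q u = 0) (h : QuadraticMap.polar Q u w = 0)
    (huW : u ∈ W) (hwW : w ∈ W) : eich Q u w ∈ qStab Q W :=
  mem_qStab_of_maps Q fun x hx => by
    rw [eich_apply Q hu h]
    exact W.sub_mem (W.add_mem hx (W.smul_mem _ hwW)) (W.smul_mem _ huW)

/-- The Eichler transformations with both vectors orthogonal to a subspace fix it. -/
theorem eich_mem_qStab_perp {W : Submodule F V} {u w : V} (hu : Q u = 0) (h : QuadraticMap.polar Q u w = 0)
    (huW : ∀ x ∈ W, QuadraticMap.polar Q x u = 0) (hwW : ∀ x ∈ W, QuadraticMap.polar Q x w = 0) :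
    eich Q u w ∈ qStab Q W :=
  mem_qStab_of_maps Q fun x hx => by
    rw [eich_apply Q hu h, huW x hx, hwW x hx]
    simpa using hx

/-- With `u` in a totally singular subspace every Eichler transformation at `u` preserves it. -/
theorem eich_mem_qStab_singular {W : Submodule F V} (hW : ∀ w ∈ W, Q w = 0) {u w : V}
    (h : QuadraticMap.polar Q u w = 0) (huW : u ∈ W) : eich Q u w ∈ qStab Q W :=
  mem_qStab_of_maps Q fun x hx => by
    rw [eich_apply Q (hW u huW) h, polar_zero_of_singular Q hW hx huW]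
    simpa using W.sub_mem hx (W.smul_mem (QuadraticMap.polar Q x w) huW)

variable [Fintype F]

theorem exists_polar_singular_ne_zero (hQ : PolarNondeg Q) (hn : 3 ≤ Module.finrank F V) {v : V} (hv : v ≠ 0) :
    ∃ u, Q u = 0 ∧ u ≠ 0 ∧ QuadraticMap.polar Q u v ≠ 0 := by
  obtain ⟨u, hu, huv⟩ := exists_singular_polar Q hQ hn hv
  exact ⟨u, hu, fun h => huv (by rw [h, QuadraticMap.polar_zero_left]), huv⟩

theorem finrank_ge_of_invariant (hQ : PolarNondeg Q) (hn : 3 ≤ Module.finrank F V) {W : Submodule F V}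
    (hW : W ≠ ⊥) (hinv : eichGroup Q ≤ qStab Q W) : Module.finrank F V ≤ Module.finrank F W + 2 := by
  obtain ⟨w, hw, hw0⟩ := Submodule.exists_mem_ne_zero_of_ne_bot hW
  obtain ⟨u, hu, hu0, huw⟩ := exists_polar_singular_ne_zero Q hQ hn hw0
  have hle : qPerp Q (Submodule.span F {u}) ≤ W ⊔ Submodule.span F {u} := by
    intro y hy
    have hy' := (mem_qPerp_singleton Q).1 hy
    have h := W.sub_mem (apply_mem_of_qStab Q (hinv (eich_mem Q hu hy')) hw) hw
    rw [eich_apply Q hu hy'] at h
    obtain ⟨c, hc⟩ : ∃ c, c = QuadraticMap.polar Q w y + Q y * QuadraticMap.polar Q w u := ⟨_, rfl⟩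
    rw [← hc] at h
    have hne : QuadraticMap.polar Q w u ≠ 0 := by rwa [QuadraticMap.polar_comm]
    refine Submodule.mem_sup.2 ⟨_, W.smul_mem (QuadraticMap.polar Q w u)⁻¹ h,
      ((QuadraticMap.polar Q w u)⁻¹ * c) • u,
      Submodule.smul_mem _ _ (Submodule.mem_span_singleton_self u), ?_⟩
    rw [smul_sub, smul_sub, smul_add, smul_smul, smul_smul, inv_mul_cancel₀ hne, one_smul]
    abel
  have h1 := Submodule.finrank_mono hle
  have h2 := Submodule.finrank_add_le_finrank_add_finrank W (Submodule.span F {u})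
  rw [finrank_qPerp Q hQ, finrank_span_singleton hu0] at h1
  rw [finrank_span_singleton hu0] at h2
  omega

/-- The Eichler group is irreducible. -/
theorem eq_top_of_invariant (hQ : PolarNondeg Q) (hn : 5 ≤ Module.finrank F V) {W : Submodule F V}
    (hW : W ≠ ⊥) (hinv : eichGroup Q ≤ qStab Q W) : W = ⊤ := by
  by_contra hne
  have h1 := finrank_ge_of_invariant Q hQ (by omega) hW hinv
  have hlt := Submodule.finrank_lt hne
  have h2 := finrank_ge_of_invariant Q hQ (by omega) (W := qPerp Q W) (fun h => by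
    have := finrank_qPerp Q hQ W
    rw [h, finrank_bot] at this
    omega) (fun g hg => qPerp_invariant Q (hinv hg))
  rw [finrank_qPerp Q hQ] at h2
  omega

omit [FiniteDimensional F V] [Fintype F] in
/-- A singular point all of whose Eichler transformations lie in `M`. -/
def EFull (M : Subgroup (qAut Q)) (u : V) : Prop :=
  ∀ w, QuadraticMap.polar Q u w = 0 → eich Q u w ∈ M

omit [FiniteDimensional F V] [Fintype F] in
theorem efull_conj {M : Subgroup (qAut Q)} {g : qAut Q} (hg : g ∈ M) {u : V} (hu : Q u = 0)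
    (h : EFull Q M u) : EFull Q M (g.1 u) := fun w hw => by
  rw [← qApply_inv_self Q g w] at hw ⊢
  rw [qAut_polar] at hw
  rw [← eich_conj Q g hu hw]
  exact mul_mem (mul_mem hg (h _ hw)) (inv_mem hg)

omit [FiniteDimensional F V] [Fintype F] in
theorem efull_smul {M : Subgroup (qAut Q)} {u : V} (hu : Q u = 0) (h : EFull Q M u) (t : F) :
    EFull Q M (t • u) := fun w hw => by
  rw [QuadraticMap.polar_smul_left, smul_eq_mul, mul_eq_zero] at hw
  rcases hw with rfl | hw
  · have h1 : eich Q ((0 : F) • u) w = 1 := qAut_ext fun y => by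
      rw [zero_smul, eich_apply Q (map_zero Q) (QuadraticMap.polar_zero_left Q w)]
      simp
    rw [h1]
    exact one_mem M
  rw [eich_smul_left Q hu hw t]
  exact h _ (by rw [QuadraticMap.polar_smul_right, hw, smul_zero])

omit [FiniteDimensional F V] [Fintype F] in
theorem efull_opp {M : Subgroup (qAut Q)} {u v x : V} (hu : Q u = 0) (hv : Q v = 0) (hx : Q x = 0)
    (hfu : EFull Q M u) (hfv : EFull Q M v) (huv : QuadraticMap.polar Q v u ≠ 0)
    (hxu : QuadraticMap.polar Q x u ≠ 0) : EFull Q M x := by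
  obtain ⟨c, hc⟩ : ∃ c, c = QuadraticMap.polar Q v u / QuadraticMap.polar Q x u := ⟨_, rfl⟩
  have hc0 : c ≠ 0 := hc ▸ div_ne_zero huv hxu
  obtain ⟨w, hw, hwx⟩ := exists_eich_move Q hv (u' := c • x) (by rw [quad_smul, hx, mul_zero]) hu
    (by rw [QuadraticMap.polar_smul_left, smul_eq_mul, hc, div_mul_cancel₀ _ hxu]) huv
  have h := efull_smul Q (by rw [quad_smul, hx, mul_zero]) (hwx ▸ efull_conj Q (hfu w hw) hv hfv) c⁻¹
  rwa [smul_smul, inv_mul_cancel₀ hc0, one_smul] at h

/-- Two full points that are not orthogonal give the whole Eichler group. -/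
theorem eichGroup_le_of_full (hQ : PolarNondeg Q) (hn : 4 ≤ Module.finrank F V) {M : Subgroup (qAut Q)} {u v : V}
    (hu : Q u = 0) (hv : Q v = 0) (huv : QuadraticMap.polar Q u v ≠ 0) (hfu : EFull Q M u) (hfv : EFull Q M v) :
    eichGroup Q ≤ M := by
  have hvu : QuadraticMap.polar Q v u ≠ 0 := by rwa [QuadraticMap.polar_comm]
  have hu0 : u ≠ 0 := by rintro rfl; simp at huv
  refine (Subgroup.closure_le _).2 ?_
  rintro _ ⟨x, w, hx, hxw, rfl⟩
  rcases eq_or_ne x 0 with rfl | hx0
  · have h1 : eich Q (0 : V) w = 1 := qAut_ext fun y => by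
      rw [eich_apply Q hx hxw]
      simp
    rw [h1]
    exact one_mem M
  suffices h : EFull Q M x from h w hxw
  by_cases hxu : QuadraticMap.polar Q x u = 0
  swap
  · exact efull_opp Q hu hv hx hfu hfv hvu hxu
  by_cases hxv : QuadraticMap.polar Q x v = 0
  swap
  · exact efull_opp Q hv hu hx hfv hfu huv hxv
  have hli : ∀ s : F, s • u ≠ x := fun s hs => by
    rw [← hs, QuadraticMap.polar_smul_left, smul_eq_mul, mul_eq_zero] at hxv
    rcases hxv with h | h
    · exact hx0 (by rw [← hs, h, zero_smul])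
    · exact huv h
  have hli' : ∀ s : F, s • x ≠ u := fun s hs => huv (by
    rw [← hs, QuadraticMap.polar_smul_left, hxv, smul_zero])
  obtain ⟨z, hz, huz, hxz⟩ := exists_common Q hQ hn hu hx hli hli'
  have hzu : QuadraticMap.polar Q z u ≠ 0 := by rwa [QuadraticMap.polar_comm]
  have hfz : EFull Q M z := efull_opp Q hu hv hz hfu hfv hvu hzu
  exact efull_opp Q hz hu hx hfz hfu huz (hxz ▸ huz)

end CfsgLib.Classical22
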