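/-
Lemmas for stabilisers of non-degenerate subspaces of quadratic spaces.
-/
import Cfsg.Agent.Lib.Classical22.OrthMaxBasic

set_option autoImplicit false

namespace CfsgLib.Classical22

open CfsgLib.Classical

variable {F V : Type*} [Field F] [AddCommGroup V] [Module F V] (Q : QuadraticForm F V)

theorem qPerp_sup (X Y : Submodule F V) : qPerp Q (X ⊔ Y) = qPerp Q X ⊓ qPerp Q Y := by
  refine le_antisymm (fun x hx => ⟨fun a ha => hx a (Submodule.mem_sup_left ha),
    fun b hb => hx b (Submodule.mem_sup_right hb)⟩) fun x hx => (mem_qPerp Q).2 fun z hz => ?_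
  obtain ⟨a, ha, b, hb, rfl⟩ := Submodule.mem_sup.1 hz
  rw [QuadraticMap.polar_add_left, (mem_qPerp Q).1 hx.1 a ha, (mem_qPerp Q).1 hx.2 b hb, add_zero]

theorem inf_qPerp_eq_bot {A : Submodule F V} (hA : NdOn Q A) : A ⊓ qPerp Q A = ⊥ := by
  refine (Submodule.eq_bot_iff _).2 fun x hx => hA x hx.1 fun y hy => ?_
  rw [QuadraticMap.polar_comm]
  exact (mem_qPerp Q).1 hx.2 y hy

variable [FiniteDimensional F V]

theorem finrank_inf_qPerp (hQ : PolarNondeg Q) {B T : Submodule F V} (hB : NdOn Q B) (hT : T ≤ B) :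
    Module.finrank F ↥(B ⊓ qPerp Q T) + Module.finrank F T = Module.finrank F B := by
  have h1 : B ⊓ qPerp Q T = qPerp Q (qPerp Q B ⊔ T) := by rw [qPerp_sup, qPerp_qPerp Q hQ]
  have h2 := Submodule.finrank_sup_add_finrank_inf_eq (qPerp Q B) T
  have h3 : qPerp Q B ⊓ T = ⊥ :=
    le_bot_iff.1 ((inf_le_inf_left _ hT).trans (inf_comm (qPerp Q B) B ▸ (inf_qPerp_eq_bot Q hB).le))
  rw [h3, finrank_bot, finrank_qPerp Q hQ] at h2
  rw [h1, finrank_qPerp Q hQ]
  have h4 := Submodule.finrank_mono hT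
  have h5 := Submodule.finrank_le B
  omega

theorem isCompl_qPerp (hQ : PolarNondeg Q) {A : Submodule F V} (hA : NdOn Q A) : IsCompl A (qPerp Q A) := by
  have h := Submodule.finrank_sup_add_finrank_inf_eq A (qPerp Q A)
  rw [inf_qPerp_eq_bot Q hA, finrank_bot, finrank_qPerp Q hQ] at h
  refine ⟨disjoint_iff.2 (inf_qPerp_eq_bot Q hA), codisjoint_iff.2 (Submodule.eq_top_of_finrank_eq ?_)⟩
  have := Submodule.finrank_le A
  omega

theorem exists_add_qPerp (hQ : PolarNondeg Q) {A : Submodule F V} (hA : NdOn Q A) (x : V) :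
    ∃ a ∈ A, ∃ b ∈ qPerp Q A, a + b = x :=
  Submodule.mem_sup.1 ((isCompl_qPerp Q hQ hA).sup_eq_top ▸ Submodule.mem_top)

theorem ndOn_qPerp (hQ : PolarNondeg Q) {A : Submodule F V} (hA : NdOn Q A) : NdOn Q (qPerp Q A) := by
  intro x hx hxy
  refine hQ x fun y => ?_
  obtain ⟨a, ha, b, hb, rfl⟩ := exists_add_qPerp Q hQ hA y
  rw [QuadraticMap.polar_add_right, hxy b hb, add_zero, QuadraticMap.polar_comm]
  exact (mem_qPerp Q).1 hx a ha

variable [Fintype F]

/-- A subspace of dimension at least three contains a singular vector outside a given plane. -/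
theorem exists_singular_mem {C : Submodule F V} (hC : 3 ≤ Module.finrank F C) : ∃ u ∈ C, u ≠ 0 ∧ Q u = 0 := by
  by_cases hnd : NdOn Q C
  · obtain ⟨⟨u, hu⟩, hu0, hQu⟩ := exists_singular (Q.comp C.subtype)
      (fun a ha => Subtype.ext (hnd a a.2 fun y hy => ha ⟨y, hy⟩)) (by simpa using hC)
    exact ⟨u, hu, fun h => hu0 (Subtype.ext h), hQu⟩
  · simp only [NdOn, not_forall] at hnd
    obtain ⟨r, hr, hrC, hr0⟩ := hnd
    by_cases hQr : Q r = 0
    · exact ⟨r, hr, hr0, hQr⟩
    have h2 : (2 : F) = 0 := by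
      have h := hrC r hr
      rw [quad_polar_self, mul_eq_zero] at h
      exact h.resolve_right hQr
    haveI : CharP F 2 := CharTwo.of_one_ne_zero_of_two_eq_zero one_ne_zero h2
    obtain ⟨x, hx, hxr⟩ : ∃ x ∈ C, x ∉ Submodule.span F {r} := SetLike.not_le_iff_exists.1 fun h => by
      have := Submodule.finrank_mono h
      rw [finrank_span_singleton hr0] at this
      omega
    obtain ⟨s, hs⟩ := FiniteField.isSquare_of_char_two (ringChar.eq F 2) (Q x / Q r)
    refine ⟨x + s • r, C.add_mem hx (C.smul_mem _ hr), fun h => hxr (Submodule.mem_span_singleton.2 ⟨-s, ?_⟩), ?_⟩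
    · rw [eq_neg_of_add_eq_zero_left h, neg_smul]
    · rw [quad_add, quad_smul, ← hs, div_mul_cancel₀ _ hQr, QuadraticMap.polar_smul_right,
        QuadraticMap.polar_comm, hrC x hx, smul_zero, add_zero, CharTwo.add_self_eq_zero]

/-- A subspace invariant under the reflections and Eichler transformations of a non-degenerate space is zero or
everything, apart from small hyperbolic planes. -/
theorem eq_of_refl_invariant (hQ : PolarNondeg Q) {B T : Submodule F V} (hB : NdOn Q B) (hTB : T ≤ B)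
    (hT0 : T ≠ ⊥)
    (hr : ∀ r ∈ B, Q r ≠ 0 → ∀ t ∈ T, QuadraticMap.polar Q t r ≠ 0 → r ∈ T)
    (he : ∀ x ∈ B, ∀ y ∈ B, Q x = 0 → QuadraticMap.polar Q x y = 0 → ∀ t ∈ T, (eich Q x y).1 t ∈ T)
    (hex : ¬ (Fintype.card F ≤ 3 ∧ Module.finrank F B = 2 ∧ ∃ x ∈ B, x ≠ 0 ∧ Q x = 0)) : T = B := by
  classical
  by_contra hTne
  have hdT := finrank_inf_qPerp Q hQ hB hTB
  have hTlt : Module.finrank F T < Module.finrank F B := Submodule.finrank_lt_finrank_of_lt (lt_of_le_of_ne hTB hTne)
  have hTpos : 1 ≤ Module.finrank F T := Submodule.one_le_finrank_iff.2 hT0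
  obtain ⟨T', hT'⟩ : ∃ T', T' = B ⊓ qPerp Q T := ⟨_, rfl⟩
  rw [← hT'] at hdT
  have hsing : ∀ x ∈ B, x ∉ T → x ∉ T' → Q x = 0 := by
    intro x hx hxT hxT'
    by_contra hQx
    refine hxT' (hT' ▸ ⟨hx, (mem_qPerp Q).2 fun t ht => ?_⟩)
    by_contra h
    exact hxT (hr x hx hQx t ht h)
  by_cases hR : T ⊓ T' = ⊥
  · have hdis : ∀ t ∈ T, t ∈ T' → t = 0 := fun t h h' => (Submodule.eq_bot_iff _).1 hR t ⟨h, h'⟩
    have horth : ∀ t ∈ T, ∀ s ∈ T', QuadraticMap.polar Q t s = 0 := fun t ht s hs => by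
      rw [hT'] at hs
      exact (mem_qPerp Q).1 hs.2 t ht
    have hneg : ∀ t ∈ T, t ≠ 0 → ∀ s ∈ T', s ≠ 0 → Q t + Q s = 0 := by
      intro t ht ht0 s hs hs0
      have hs' := hT' ▸ hs
      have h := hsing (t + s) (B.add_mem (hTB ht) hs'.1) (fun h => hs0 (hdis s ((T.add_mem_iff_right ht).1 h) hs))
        (fun h => ht0 (hdis t ht ((T'.add_mem_iff_left hs).1 h)))
      rwa [quad_add, horth t ht s hs, add_zero] at h
    obtain ⟨t0, ht0, ht00⟩ := Submodule.exists_mem_ne_zero_of_ne_bot hT0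
    obtain ⟨s0, hs0, hs00⟩ := Submodule.exists_mem_ne_zero_of_ne_bot (p := T') fun h => by
      rw [h, finrank_bot] at hdT
      omega
    obtain ⟨c, hc⟩ : ∃ c, c = Q t0 := ⟨_, rfl⟩
    have hQs : ∀ s ∈ T', s ≠ 0 → Q s = -c := fun s hs hs' => by
      rw [hc]; linear_combination hneg t0 ht0 ht00 s hs hs'
    have hQt : ∀ t ∈ T, t ≠ 0 → Q t = c := fun t ht ht' => by
      linear_combination hneg t ht ht' s0 hs0 hs00 - hQs s0 hs0 hs00
    have hc0 : c ≠ 0 := fun h => by
      refine ht00 (hdis t0 ht0 (hT' ▸ ⟨hTB ht0, (mem_qPerp Q).2 fun t ht => ?_⟩))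
      have hz : ∀ w ∈ T, Q w = 0 := fun w hw => by
        rcases eq_or_ne w 0 with rfl | hw0
        · exact map_zero Q
        · rw [hQt w hw hw0, h]
      exact polar_zero_of_singular Q hz ht ht0
    have hcard : Fintype.card F ≤ 3 := by
      have hsub : (Finset.univ : Finset F) ⊆ {0, 1, -1} := fun l _ => by
        rcases eq_or_ne l 0 with rfl | hl
        · simp
        have h := hQt _ (T.smul_mem l ht0) (smul_ne_zero hl ht00)
        rw [quad_smul, ← hc] at h
        rcases mul_self_eq_one_iff.1 (mul_right_cancel₀ hc0 (h.trans (one_mul c).symm)) with h1 | h1 <;> simp [h1]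
      exact (Finset.card_le_card hsub).trans Finset.card_le_three
    have hplane : ∀ (S : Submodule F V) (c : F), c ≠ 0 → (∀ s ∈ S, s ≠ 0 → Q s = c) →
        2 ≤ Module.finrank F S → (2 : F) = 0 ∧ ∃ a ∈ S, ∃ b ∈ S, a ≠ 0 ∧ b ≠ 0 ∧ QuadraticMap.polar Q a b = -c := by
      intro S c hc0 hS hd
      obtain ⟨a, ha, ha0⟩ := Submodule.exists_mem_ne_zero_of_ne_bot (p := S) fun h => by
        rw [h, finrank_bot] at hd
        omega
      obtain ⟨b, hb, hba⟩ : ∃ b ∈ S, b ∉ Submodule.span F {a} := SetLike.not_le_iff_exists.1 fun h => by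
        have := Submodule.finrank_mono h
        rw [finrank_span_singleton ha0] at this
        omega
      have hb0 : b ≠ 0 := fun h => hba (h ▸ Submodule.zero_mem _)
      have h1 := hS _ (S.add_mem ha hb) fun h => hba (Submodule.mem_span_singleton.2
        ⟨-1, by rw [neg_smul, one_smul]; exact (eq_neg_of_add_eq_zero_right h).symm⟩)
      have h2 := hS _ (S.sub_mem ha hb) fun h => hba (Submodule.mem_span_singleton.2
        ⟨1, by rw [one_smul]; exact sub_eq_zero.1 h⟩)
      rw [quad_add, hS a ha ha0, hS b hb hb0] at h1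
      rw [quad_sub, hS a ha ha0, hS b hb hb0] at h2
      refine ⟨?_, a, ha, b, hb, ha0, hb0, by linear_combination h1⟩
      exact (mul_eq_zero.1 (show (2 : F) * c = 0 by linear_combination h1 + h2)).resolve_right hc0
    have hone : ∀ (S S' : Submodule F V), (∀ x ∈ S, x ∈ S' → x = 0) → S' = B ⊓ qPerp Q S → S ≤ B →
        1 ≤ Module.finrank F S → (2 : F) = 0 → 2 ≤ Module.finrank F S := by
      intro S S' hd hS' hSB h1 h2
      by_contra h
      obtain ⟨a, ha, ha0⟩ := Submodule.exists_mem_ne_zero_of_ne_bot (Submodule.one_le_finrank_iff.1 h1)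
      refine ha0 (hd a ha (hS' ▸ ⟨hSB ha, (mem_qPerp Q).2 fun x hx => ?_⟩))
      have hd1 : Module.finrank F S = 1 := by omega
      obtain ⟨l, hl⟩ := (finrank_eq_one_iff_of_nonzero' (⟨a, ha⟩ : S)
        (fun h => ha0 (congrArg Subtype.val h))).1 hd1 ⟨x, hx⟩
      rw [← show l • a = x from congrArg Subtype.val hl, QuadraticMap.polar_smul_left, quad_polar_self, h2,
        zero_mul, smul_zero]
    have hT'B : T' ≤ B := hT' ▸ inf_le_left
    have hT'T : T = B ⊓ qPerp Q T' := by
      refine Submodule.eq_of_le_of_finrank_eq (le_inf hTB fun t ht => (mem_qPerp Q).2 fun s hs =>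
        (QuadraticMap.polar_comm Q s t).trans (horth t ht s hs)) ?_
      have := finrank_inf_qPerp Q hQ hB hT'B
      omega
    by_cases hbig : 2 ≤ Module.finrank F T ∨ 2 ≤ Module.finrank F T'
    · have h2 : (2 : F) = 0 := by
        rcases hbig with h | h
        · exact (hplane T c hc0 hQt h).1
        · exact (hplane T' (-c) (neg_ne_zero.2 hc0) hQs h).1
      obtain ⟨-, t1, ht1, t2, ht2, ht10, ht20, h12⟩ :=
        hplane T c hc0 hQt (hone T T' hdis hT' hTB hTpos h2)
      obtain ⟨-, s1, hs1, s2, hs2, hs10, hs20, hs12⟩ := hplane T' (-c) (neg_ne_zero.2 hc0) hQs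
        (hone T' T (fun x h h' => hdis x h' h) hT'T hT'B (by omega) h2)
      have hx : Q (t1 + s1) = 0 := by rw [quad_add, horth t1 ht1 s1 hs1, add_zero]; exact hneg t1 ht1 ht10 s1 hs1 hs10
      have hy : Q (t2 + s2) = 0 := by rw [quad_add, horth t2 ht2 s2 hs2, add_zero]; exact hneg t2 ht2 ht20 s2 hs2 hs20
      have hxy : QuadraticMap.polar Q (t1 + s1) (t2 + s2) = 0 := by
        rw [QuadraticMap.polar_add_left, QuadraticMap.polar_add_right, QuadraticMap.polar_add_right, h12, hs12,
          horth t1 ht1 s2 hs2, QuadraticMap.polar_comm Q s1 t2, horth t2 ht2 s1 hs1]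
        ring
      have hmem := he _ (B.add_mem (hTB ht1) (hT'B hs1)) _ (B.add_mem (hTB ht2) (hT'B hs2)) hx hxy t2 ht2
      rw [eich_apply Q hx hxy, hy, QuadraticMap.polar_add_right, QuadraticMap.polar_add_right, horth t2 ht2 s1 hs1,
        horth t2 ht2 s2 hs2, quad_polar_self, h2, zero_mul, QuadraticMap.polar_comm Q t2 t1, h12] at hmem
      simp only [add_zero, zero_mul, zero_smul, sub_zero] at hmem
      rw [T.add_mem_iff_right ht2] at hmem
      have h3 := T.smul_mem (-c)⁻¹ hmem
      rw [smul_smul, inv_mul_cancel₀ (neg_ne_zero.2 hc0), one_smul, T.add_mem_iff_right ht2] at h3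
      exact hs20 (hdis s2 h3 hs2)
    · push Not at hbig
      exact hex ⟨hcard, by omega, t0 + s0, B.add_mem (hTB ht0) (hT'B hs0),
        fun h => hs00 (hdis s0 ((T.add_mem_iff_right ht0).1 (h ▸ T.zero_mem)) hs0),
        by rw [quad_add, horth t0 ht0 s0 hs0, add_zero]; exact hneg t0 ht0 ht00 s0 hs0 hs00⟩
  · obtain ⟨S, hS⟩ : ∃ S, S = T ⊔ T' := ⟨_, rfl⟩
    have hT'B : T' ≤ B := hT' ▸ inf_le_left
    have hSB : S ≤ B := hS ▸ sup_le hTB hT'B
    have hTS : T ≤ S := hS ▸ le_sup_left
    obtain ⟨x, hx, hxS⟩ : ∃ x ∈ B, x ∉ S := SetLike.not_le_iff_exists.1 fun h => by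
      have h1 := Submodule.finrank_sup_add_finrank_inf_eq T T'
      have h2 := Submodule.one_le_finrank_iff.2 hR
      have h3 := Submodule.finrank_mono h
      rw [hS] at h3
      omega
    have hform : ∀ y ∈ B, y ∉ S → ∀ d ∈ S, Q d = -QuadraticMap.polar Q y d := by
      intro y hy hyS d hd
      have h1 := hsing y hy (fun h => hyS (hTS h)) (fun h => hyS (hS ▸ Submodule.mem_sup_right h))
      have hyd : y + d ∉ S := fun h => hyS ((S.add_mem_iff_left hd).1 h)
      have h2 := hsing (y + d) (B.add_mem hy (hSB hd)) (fun h => hyd (hTS h))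
        (fun h => hyd (hS ▸ Submodule.mem_sup_right h))
      rw [quad_add, h1] at h2
      linear_combination h2
    have hnot : ¬ ∀ y ∈ B, y ∉ S → ∀ d ∈ S, QuadraticMap.polar Q y d = 0 := by
      intro h
      obtain ⟨t, ht, ht0⟩ := Submodule.exists_mem_ne_zero_of_ne_bot hT0
      refine ht0 (hB t (hTB ht) fun y hy => ?_)
      rw [QuadraticMap.polar_comm]
      by_cases hyS : y ∈ S
      · have h1 := h (x + y) (B.add_mem hx hy) (fun h' => hxS ((S.add_mem_iff_left hyS).1 h')) t (hTS ht)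
        rwa [QuadraticMap.polar_add_left, h x hx hxS t (hTS ht), zero_add] at h1
      · exact h y hy hyS t (hTS ht)
    by_cases hl : ∃ l : F, l ≠ 0 ∧ l ≠ 1
    · obtain ⟨l, hl0, hl1⟩ := hl
      refine hnot fun y hy hyS d hd => ?_
      have h1 := hform y hy hyS d hd
      have hly : l • y ∉ S := fun h => hyS (by
        have := S.smul_mem l⁻¹ h
        rwa [smul_smul, inv_mul_cancel₀ hl0, one_smul] at this)
      have h2 := hform (l • y) (B.smul_mem l hy) hly d hd
      rw [QuadraticMap.polar_smul_left, smul_eq_mul] at h2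
      exact (mul_eq_zero.1 (show (l - 1) * QuadraticMap.polar Q y d = 0 by linear_combination h2 - h1)).resolve_left
        (sub_ne_zero.2 hl1)
    push Not at hl
    have h2 : (2 : F) = 0 := by
      by_contra h
      have := hl 2 h
      exact one_ne_zero (α := F) (by linear_combination this)
    have hall : ∀ y ∈ B, y ∉ S → x + y ∈ S := by
      intro y hy hyS
      by_contra h
      refine hnot fun z hz hzS d hd => ?_
      have e1 := hform x hx hxS d hd
      have e2 := hform y hy hyS d hd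
      have e3 := hform _ (B.add_mem hx hy) h d hd
      rw [QuadraticMap.polar_add_left] at e3
      have hQd : Q d = 0 := by linear_combination e1 + e2 - e3
      rw [← neg_eq_zero, ← hform z hz hzS d hd, hQd]
    have hBle : B ≤ S ⊔ Submodule.span F {x} := fun y hy => by
      by_cases hyS : y ∈ S
      · exact Submodule.mem_sup_left hyS
      · exact Submodule.mem_sup.2 ⟨x + y, hall y hy hyS, (-1 : F) • x,
          Submodule.smul_mem _ _ (Submodule.mem_span_singleton_self x), by rw [neg_smul, one_smul]; abel⟩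
    have hiso : S ≤ B ⊓ qPerp Q S := le_inf hSB fun d hd => (mem_qPerp Q).2 fun d' hd' => by
      rw [QuadraticMap.polar, hform x hx hxS _ (S.add_mem hd' hd), hform x hx hxS d hd, hform x hx hxS d' hd',
        QuadraticMap.polar_add_right]
      ring
    have d1 := Submodule.finrank_mono hBle
    have d2 := Submodule.finrank_add_le_finrank_add_finrank S (Submodule.span F {x})
    have d3 := Submodule.finrank_mono hiso
    have d4 := finrank_inf_qPerp Q hQ hB hSB
    have hx0 : x ≠ 0 := fun h => hxS (h ▸ S.zero_mem)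
    rw [finrank_span_singleton hx0] at d2
    refine hex ⟨?_, by omega, x, hx, hx0,
      hsing x hx (fun h => hxS (hTS h)) (fun h => hxS (hS ▸ Submodule.mem_sup_right h))⟩
    have hsub : (Finset.univ : Finset F) ⊆ {0, 1} := fun l _ => by
      by_cases h0 : l = 0
      · simp [h0]
      · simp [hl l h0]
    exact (Finset.card_le_card hsub).trans (Finset.card_le_two.trans (by norm_num))

end CfsgLib.Classical22
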