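/-
Elements of the stabiliser of a non-degenerate subspace inside the Eichler group.
-/
import Cfsg.Agent.Lib.Classical22.OrthMaxLemmas

set_option autoImplicit false

namespace CfsgLib.Classical22

open CfsgLib.Classical
open scoped commutatorElement

variable {F V : Type*} [Field F] [AddCommGroup V] [Module F V] (Q : QuadraticForm F V)
variable [FiniteDimensional F V] [Fintype F]

omit [FiniteDimensional F V] [Fintype F] in
theorem polarNondeg_comp {A : Submodule F V} (hA : NdOn Q A) : PolarNondeg (Q.comp A.subtype) :=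
  fun a ha => Subtype.ext (hA a a.2 fun y hy => ha ⟨y, hy⟩)

/-- Eichler transformations of a subspace extend by fixing its orthogonal. -/
theorem exists_lift_qAut {A : Submodule F V} {g : qAut (Q.comp A.subtype)} (hg : g ∈ eichGroup (Q.comp A.subtype)) :
    ∃ h : qAut Q, h ∈ qStab Q A ⊓ eichGroup Q ∧ (∀ a : A, h.1 a = g.1 a) ∧ ∀ b ∈ qPerp Q A, h.1 b = b := by
  induction hg using Subgroup.closure_induction with
  | mem x hx =>
    obtain ⟨⟨u, hu'⟩, ⟨w, hw'⟩, hu, huw, rfl⟩ := hx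
    change Q u = 0 at hu
    have huw' : QuadraticMap.polar Q u w = 0 := huw
    refine ⟨eich Q u w, ⟨eich_mem_qStab Q hu huw' hu' hw', eich_mem Q hu huw'⟩, fun a => ?_, fun b hb => ?_⟩
    · rw [eich_apply Q hu huw', eich_apply (Q.comp A.subtype) hu huw]
      rfl
    · rw [eich_apply Q hu huw', QuadraticMap.polar_comm Q b u, (mem_qPerp Q).1 hb u hu',
        QuadraticMap.polar_comm Q b w, (mem_qPerp Q).1 hb w hw']
      simp
  | one => exact ⟨1, one_mem _, fun a => rfl, fun b _ => rfl⟩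
  | mul x y _ _ hx hy =>
    obtain ⟨h, hh, hha, hhb⟩ := hx
    obtain ⟨k, hk, hka, hkb⟩ := hy
    exact ⟨h * k, mul_mem hh hk, fun a => by rw [qAut_mul_apply, hka, hha, qAut_mul_apply],
      fun b hb => by rw [qAut_mul_apply, hkb b hb, hhb b hb]⟩
  | inv x _ hx =>
    obtain ⟨h, hh, hha, hhb⟩ := hx
    refine ⟨h⁻¹, inv_mem hh, fun a => h.1.injective ?_, fun b hb => h.1.injective ?_⟩
    · rw [qApply_inv_self, hha, qApply_inv_self]
    · rw [qApply_inv_self, hhb b hb]

/-- The stabiliser moves any singular vector of the subspace to any other, fixing the orthogonal. -/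
theorem exists_move_in {A : Submodule F V} (hA : NdOn Q A) (hd : 4 ≤ Module.finrank F A) {u u' : V} (huA : u ∈ A)
    (hu'A : u' ∈ A) (hu : Q u = 0) (hu' : Q u' = 0) (hu0 : u ≠ 0) (hu0' : u' ≠ 0) :
    ∃ h : qAut Q, h ∈ qStab Q A ⊓ eichGroup Q ∧ h.1 u = u' ∧ ∀ b ∈ qPerp Q A, h.1 b = b := by
  obtain ⟨g, hg, hgu⟩ := exists_move_eichGroup (Q.comp A.subtype) (polarNondeg_comp Q hA) hd
    (u := ⟨u, huA⟩) (u' := ⟨u', hu'A⟩) hu hu' (fun h => hu0 (congrArg Subtype.val h))
    (fun h => hu0' (congrArg Subtype.val h))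
  obtain ⟨h, hh, hha, hhb⟩ := exists_lift_qAut Q hg
  exact ⟨h, hh, (hha ⟨u, huA⟩).trans (congrArg Subtype.val hgu), hhb⟩

/-- A reflection of the orthogonal, corrected by one in the subspace, lies in the Eichler group. -/
theorem exists_refl_pair (hQ : PolarNondeg Q) (hn : 5 ≤ Module.finrank F V) {A : Submodule F V} (hA : NdOn Q A)
    (hd : 2 ≤ Module.finrank F A) {r : V} (hr : r ∈ qPerp Q A) (hQr : Q r ≠ 0) :
    ∃ h : qAut Q, h ∈ qStab Q A ⊓ eichGroup Q ∧ ∀ b ∈ qPerp Q A, h.1 b = (qRefl Q hQr).1 b := by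
  obtain ⟨⟨a, ha⟩, haQ⟩ := exists_value (Q.comp A.subtype) (polarNondeg_comp Q hA) hd hQr
  change Q a = Q r at haQ
  have hQa : Q a ≠ 0 := haQ ▸ hQr
  obtain ⟨g, hg⟩ := exists_conj_refl Q hQ hQr hQa haQ.symm
  have hfix : ∀ b ∈ qPerp Q A, (qRefl Q hQa).1 b = b := fun b hb =>
    qRefl_fix Q hQa ((QuadraticMap.polar_comm Q b a).trans ((mem_qPerp Q).1 hb a ha))
  refine ⟨qRefl Q hQa * qRefl Q hQr, ⟨mem_qStab_of_maps Q fun x hx => ?_, ?_⟩, fun b hb => ?_⟩
  · rw [qAut_mul_apply, qRefl_fix Q hQr (v := r) (x := x) ((mem_qPerp Q).1 hr x hx), qRefl_apply]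
    exact A.sub_mem hx (A.smul_mem _ ha)
  · rw [eichGroup_eq_commutator Q hQ hn, ← hg, commutator_def]
    have h := Subgroup.commutator_mem_commutator (Subgroup.mem_top g) (Subgroup.mem_top (qRefl Q hQr))
    rwa [commutatorElement_def, qRefl_inv] at h
  · rw [qAut_mul_apply, hfix]
    rw [qRefl_apply]
    exact (qPerp Q A).sub_mem hb ((qPerp Q A).smul_mem _ hr)

end CfsgLib.Classical22
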