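import Mathlib

set_option autoImplicit false

/-!
# Characteristically simple finite groups are powers of simple groups
-/

namespace CfsgLib.Classical22

variable {G : Type*} [Group G]

/-- Two normal subgroups with trivial intersection commute. -/
theorem commute_of_normal_inf_bot {A B : Subgroup G} [A.Normal] [B.Normal] (h : A ⊓ B = ⊥) {a b : G}
    (ha : a ∈ A) (hb : b ∈ B) : Commute a b :=
  Subgroup.commute_of_normal_of_disjoint A B inferInstance inferInstance (disjoint_iff.mpr h) a b ha hb

/-- The orbit of a minimal normal subgroup spans directly. -/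
theorem exists_power_hom [Finite G] {N : Subgroup G} [N.Normal]
    (hmin : ∀ K : Subgroup G, K.Normal → K ≤ N → K = ⊥ ∨ K = N) (hN : N ≠ ⊥)
    (hchar : ∀ H : Subgroup G, H.Characteristic → H = ⊥ ∨ H = ⊤) :
    ∃ (n : ℕ) (ψ : (Fin (n + 1) → N) ≃* G), ∀ K : Subgroup G, K.Normal →
      K ≤ (ψ.toMonoidHom.comp (MonoidHom.mulSingle (fun _ => N) 0)).range →
      K = ⊥ ∨ K = (ψ.toMonoidHom.comp (MonoidHom.mulSingle (fun _ => N) 0)).range := by
  classical
  have himg : ∀ φ : MulAut G, (N.map φ.toMonoidHom).Normal := fun φ => Subgroup.Normal.map inferInstance _ φ.surjective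
  have himgmin : ∀ φ : MulAut G, ∀ K : Subgroup G, K.Normal → K ≤ N.map φ.toMonoidHom →
      K = ⊥ ∨ K = N.map φ.toMonoidHom := by
    intro φ K hK hle
    have h1 : (K.comap φ.toMonoidHom).Normal := Subgroup.Normal.comap hK _
    have h2 : K.comap φ.toMonoidHom ≤ N := fun x hx => by
      obtain ⟨y, hy, e⟩ := hle hx
      exact φ.injective e ▸ hy
    rcases hmin _ h1 h2 with h | h
    · left
      rw [← Subgroup.map_comap_eq_self_of_surjective (f := φ.toMonoidHom) φ.surjective K, h]; exact Subgroup.map_bot _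
    · right
      conv_lhs => rw [← Subgroup.map_comap_eq_self_of_surjective (f := φ.toMonoidHom) φ.surjective K]
      rw [h]
  have hsup : (⨆ φ : MulAut G, N.map φ.toMonoidHom) = ⊤ := by
    refine (hchar _ (Subgroup.characteristic_iff_map_le.mpr fun ψ => ?_)).resolve_left fun h => hN ?_
    · rw [Subgroup.map_iSup]
      refine iSup_le fun φ => le_iSup_of_le (φ.trans ψ) (le_of_eq ?_)
      rw [Subgroup.map_map]; rfl
    · refine le_bot_iff.mp (le_trans ?_ h.le)
      refine le_iSup_of_le (1 : MulAut G) ?_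
      intro x hx; exact ⟨x, hx, rfl⟩
  -- the inductive construction
  suffices hgrow : ∀ k, ∀ (n : ℕ) (ψ : (Fin (n + 1) → N) →* G), Function.Injective ψ → ψ.range.Normal →
      (∀ K : Subgroup G, K.Normal → K ≤ (ψ.comp (MonoidHom.mulSingle (fun _ => N) 0)).range →
        K = ⊥ ∨ K = (ψ.comp (MonoidHom.mulSingle (fun _ => N) 0)).range) →
      Nat.card G - Nat.card ψ.range = k →
      ∃ (n : ℕ) (ψ : (Fin (n + 1) → N) ≃* G), ∀ K : Subgroup G, K.Normal →
        K ≤ (ψ.toMonoidHom.comp (MonoidHom.mulSingle (fun _ => N) 0)).range →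
        K = ⊥ ∨ K = (ψ.toMonoidHom.comp (MonoidHom.mulSingle (fun _ => N) 0)).range by
    let ψ₀ : (Fin 1 → N) →* G := N.subtype.comp (Pi.evalMonoidHom (fun _ => N) 0)
    have hr : ψ₀.range = N := by
      ext x; constructor
      · rintro ⟨y, rfl⟩; exact (y 0).2
      · intro hx; exact ⟨fun _ => ⟨x, hx⟩, rfl⟩
    have hi : Function.Injective ψ₀ := fun x y e => funext fun i => by
      rw [Subsingleton.elim i 0]; exact Subtype.ext e
    have hr0 : (ψ₀.comp (MonoidHom.mulSingle (fun _ => N) 0)).range = N := by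
      ext x; constructor
      · rintro ⟨y, rfl⟩; simp [ψ₀]
      · intro hx; exact ⟨⟨x, hx⟩, by simp [ψ₀]⟩
    exact hgrow _ 0 ψ₀ hi (by rw [hr]; infer_instance) (by rw [hr0]; exact hmin) rfl
  intro k
  induction k using Nat.strong_induction_on with
  | _ k ih =>
    intro n ψ hinj hnorm hfirst hk
    haveI := hnorm
    by_cases htop : ψ.range = ⊤
    · exact ⟨n, MulEquiv.ofBijective ψ ⟨hinj, MonoidHom.range_eq_top.mp htop⟩, hfirst⟩
    obtain ⟨φ, hφ⟩ : ∃ φ : MulAut G, ¬ N.map φ.toMonoidHom ≤ ψ.range := by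
      by_contra hcon
      simp only [not_exists, not_not] at hcon
      exact htop (top_le_iff.mp (hsup ▸ iSup_le hcon))
    haveI := himg φ
    have hdis : ψ.range ⊓ N.map φ.toMonoidHom = ⊥ := (himgmin φ _ inferInstance inf_le_right).resolve_right
      fun h => hφ (h ▸ inf_le_left)
    let ι : N →* G := φ.toMonoidHom.comp N.subtype
    have hι : ∀ y, ι y ∈ N.map φ.toMonoidHom := fun y => ⟨y, y.2, rfl⟩
    let ψ' : (Fin (n + 1 + 1) → N) →* G :=
      { toFun := fun x => ι (x 0) * ψ (Fin.tail x)
        map_one' := by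
          simp only [Pi.one_apply, map_one, one_mul]
          exact map_one ψ
        map_mul' := fun x y => by
          rw [show Fin.tail (x * y) = Fin.tail x * Fin.tail y from rfl, Pi.mul_apply, map_mul, map_mul]
          have hc : Commute (ψ (Fin.tail x)) (ι (y 0)) := commute_of_normal_inf_bot hdis ⟨_, rfl⟩ (hι _)
          rw [mul_assoc, ← mul_assoc (ι (y 0)), ← hc.eq, mul_assoc, mul_assoc] }
    have hzero : ∀ y, ψ' (Pi.mulSingle 0 y) = ι y := fun y => by
      change ι _ * ψ _ = ι y
      rw [Pi.mulSingle_eq_same]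
      have ht : Fin.tail (Pi.mulSingle (M := fun _ : Fin (n + 1 + 1) => N) (0 : Fin (n + 1 + 1)) y) = 1 :=
        funext fun i => by simp [Fin.tail, Pi.mulSingle_apply, Fin.succ_ne_zero]
      erw [ht]
      rw [map_one, mul_one]
    have hinj' : Function.Injective ψ' := by
      rw [injective_iff_map_eq_one]
      intro x hx
      change ι (x 0) * ψ (Fin.tail x) = 1 at hx
      have h1 : ψ (Fin.tail x) ∈ ψ.range ⊓ N.map φ.toMonoidHom :=
        ⟨⟨_, rfl⟩, by rw [eq_inv_of_mul_eq_one_right hx]; exact Subgroup.inv_mem _ (hι _)⟩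
      rw [hdis, Subgroup.mem_bot] at h1
      rw [h1, mul_one] at hx
      have hx0 : x 0 = 1 := Subtype.ext (φ.injective (hx.trans (map_one φ).symm))
      funext i
      refine Fin.cases hx0 (fun j => ?_) i
      exact congrFun ((injective_iff_map_eq_one ψ).mp hinj _ h1) j
    have hrange : ψ'.range = ψ.range ⊔ N.map φ.toMonoidHom := by
      apply le_antisymm
      · rintro _ ⟨x, rfl⟩
        exact Subgroup.mul_mem _ (Subgroup.mem_sup_right (hι _)) (Subgroup.mem_sup_left ⟨_, rfl⟩)
      · refine sup_le ?_ ?_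
        · rintro _ ⟨z, rfl⟩
          refine ⟨Fin.cons 1 z, ?_⟩
          change ι _ * ψ _ = _
          rw [Fin.cons_zero, map_one, one_mul, Fin.tail_cons]
        · rintro _ ⟨y, hy, rfl⟩
          exact ⟨Pi.mulSingle 0 ⟨y, hy⟩, hzero _⟩
    have hfirst' : (ψ'.comp (MonoidHom.mulSingle (fun _ => N) 0)).range = N.map φ.toMonoidHom := by
      ext z; constructor
      · rintro ⟨y, rfl⟩; rw [MonoidHom.comp_apply, MonoidHom.mulSingle_apply, hzero]; exact hι y
      · rintro ⟨y, hy, rfl⟩; exact ⟨⟨y, hy⟩, hzero _⟩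
    have hlt : Nat.card ψ.range < Nat.card ψ'.range := by
      refine lt_of_not_ge fun hge => hφ ?_
      have h := Subgroup.eq_of_le_of_card_ge (hrange ▸ le_sup_left) hge
      rw [h, hrange]; exact le_sup_right
    have hle : Nat.card ψ'.range ≤ Nat.card G := Subgroup.card_le_card_group _
    refine ih _ (by omega) (n + 1) ψ' hinj' (hrange ▸ inferInstance) ?_ rfl
    rw [hfirst']
    exact himgmin φ

/-- A power of a simple group is characteristically simple. -/
theorem charSimple_pi {S : Type*} [Group S] [IsSimpleGroup S] {n : ℕ} {H : Subgroup (Fin n → S)}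
    (hH : H.Characteristic) : H = ⊥ ∨ H = ⊤ := by
  classical
  haveI := hH
  refine or_iff_not_imp_left.mpr fun hbot => ?_
  obtain ⟨⟨x, hxH⟩, hx⟩ := Subgroup.ne_bot_iff_exists_ne_one.mp hbot
  have hx1 : x ≠ 1 := fun h => hx (Subtype.ext h)
  obtain ⟨i, hi⟩ := Function.ne_iff.mp hx1
  rw [Pi.one_apply] at hi
  have hinv : ∀ (φ : (Fin n → S) ≃* (Fin n → S)) {y}, y ∈ H → φ y ∈ H := fun φ y hy =>
    Subgroup.characteristic_iff_map_le.mp hH φ ⟨y, hy, rfl⟩
  -- it is enough to find one whole coordinate
  suffices hone : ∃ j, ∀ s, Pi.mulSingle j s ∈ H by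
    obtain ⟨j, hj⟩ := hone
    rw [eq_top_iff]
    intro y _
    refine Subgroup.pi_mem_of_mulSingle_mem y fun k => ?_
    let e : (Fin n → S) ≃* (Fin n → S) :=
      { toFun := fun f => f ∘ Equiv.swap j k, invFun := fun f => f ∘ Equiv.swap j k
        left_inv := fun f => funext fun l => by simp, right_inv := fun f => funext fun l => by simp
        map_mul' := fun f g => rfl }
    have := hinv e (hj (y k))
    convert this using 1
    funext l
    change _ = Pi.mulSingle (M := fun _ => S) j (y k) (Equiv.swap j k l)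
    simp only [Pi.mulSingle_apply]
    rw [if_congr (Equiv.swap_apply_eq_iff.trans (by rw [Equiv.swap_apply_left])) rfl rfl]
  have hcomap : ∀ j (s : S), s ≠ 1 → Pi.mulSingle j s ∈ H → ∀ t, Pi.mulSingle j t ∈ H := by
    intro j s hs hmem t
    haveI : (H.comap (MonoidHom.mulSingle (fun _ : Fin n => S) j)).Normal := Subgroup.Normal.comap inferInstance _
    have htop := (inferInstance : (H.comap (MonoidHom.mulSingle (fun _ : Fin n => S) j)).Normal).eq_bot_or_eq_top.resolve_left
      fun h => hs (Subgroup.mem_bot.mp (h ▸ (hmem : s ∈ H.comap (MonoidHom.mulSingle (fun _ : Fin n => S) j))))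
    exact (htop ▸ Subgroup.mem_top t : t ∈ H.comap (MonoidHom.mulSingle (fun _ : Fin n => S) j))
  by_cases hcomm : ∀ a b : S, a * b = b * a
  · by_cases hj : ∃ j : Fin n, j ≠ i
    · obtain ⟨j, hji⟩ := hj
      let e : (Fin n → S) ≃* (Fin n → S) :=
        { toFun := fun f => f * Pi.mulSingle j (f i)
          invFun := fun f => f * Pi.mulSingle j (f i)⁻¹
          left_inv := fun f => by
            have : (f * Pi.mulSingle j (f i) : Fin n → S) i = f i := by simp [hji.symm]
            simp only [this, mul_assoc, ← Pi.mulSingle_mul, mul_inv_cancel, Pi.mulSingle_one, mul_one]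
          right_inv := fun f => by
            have : (f * Pi.mulSingle j (f i)⁻¹ : Fin n → S) i = f i := by simp [hji.symm]
            simp only [this, mul_assoc, ← Pi.mulSingle_mul, inv_mul_cancel, Pi.mulSingle_one, mul_one]
          map_mul' := fun f g => funext fun l => by
            simp only [Pi.mul_apply, Pi.mulSingle_apply]
            split <;> simp only [one_mul, mul_one, mul_assoc]
            rw [← mul_assoc (g l), hcomm (g l) (f i), mul_assoc] }
      refine ⟨j, hcomap j (x i) hi ?_⟩
      have := H.mul_mem (H.inv_mem hxH) (hinv e hxH)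
      simpa [e, ← mul_assoc] using this
    · simp only [not_exists, not_not] at hj
      refine ⟨i, hcomap i (x i) hi ?_⟩
      convert hxH using 1
      funext l
      rw [hj l, Pi.mulSingle_eq_same]
  · obtain ⟨s, hs⟩ : ∃ s, x i * s ≠ s * x i := by
      by_contra hcon
      simp only [not_exists, not_not] at hcon
      have hz : x i ∈ Subgroup.center S := Subgroup.mem_center_iff.mpr fun s => (hcon s).symm
      rcases (inferInstance : (Subgroup.center S).Normal).eq_bot_or_eq_top with h | h
      · rw [h] at hz; exact hi hz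
      · exact hcomm fun a b => Subgroup.mem_center_iff.mp (h ▸ Subgroup.mem_top b) a
    refine ⟨i, hcomap i (x i * s * (x i)⁻¹ * s⁻¹) (fun h => hs (mul_inv_eq_iff_eq_mul.mp (mul_inv_eq_one.mp h))) ?_⟩
    have h1 : x * (Pi.mulSingle i s * x⁻¹ * (Pi.mulSingle i s)⁻¹) ∈ H :=
      H.mul_mem hxH (Subgroup.Normal.conj_mem inferInstance _ (H.inv_mem hxH) _)
    convert h1 using 1
    funext l
    rcases eq_or_ne l i with rfl | hl
    · simp [mul_assoc]
    · simp [hl]

/-- Finite characteristically simple groups are exactly the powers of simple groups. -/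
theorem charSimple_iff {G : Type*} [Group G] [Finite G] [Nontrivial G] :
    (∀ H : Subgroup G, H.Characteristic → H = ⊥ ∨ H = ⊤) ↔
    ∃ (S : Type) (_ : Group S) (_ : IsSimpleGroup S) (n : ℕ), 1 ≤ n ∧ Nonempty (G ≃* (Fin n → S)) := by
  classical
  constructor
  · intro hchar
    obtain ⟨N, ⟨hNn, hN⟩, hNmin⟩ := (Set.toFinite {N : Subgroup G | N.Normal ∧ N ≠ ⊥}).exists_minimal ⟨⊤, inferInstance, top_ne_bot⟩
    haveI := hNn
    have hmin : ∀ K : Subgroup G, K.Normal → K ≤ N → K = ⊥ ∨ K = N := fun K hK hle =>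
      or_iff_not_imp_left.mpr fun h => le_antisymm hle (hNmin ⟨hK, h⟩ hle)
    obtain ⟨n, ψ, hfirst⟩ := exists_power_hom hmin hN hchar
    let e' : N ≃* Shrink.{0} N := (Shrink.mulEquiv).symm
    haveI : Nontrivial N := N.nontrivial_iff_ne_bot.mpr hN
    haveI : Nontrivial (Shrink.{0} N) := e'.injective.nontrivial
    have hsimple : IsSimpleGroup N := by
      refine ⟨fun K hK => ?_⟩
      let f := ψ.toMonoidHom.comp (MonoidHom.mulSingle (fun _ => N) 0)
      have hfinj : Function.Injective f := fun a b h => by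
        have h' := congrFun (ψ.injective h) 0
        simpa using h'
      have hKn : (K.map f).Normal := by
        have h0 : (K.map (MonoidHom.mulSingle (fun _ : Fin (n + 1) => N) 0)).Normal := by
          refine ⟨fun z hz g => ?_⟩
          obtain ⟨y, hy, rfl⟩ := hz
          refine ⟨g 0 * y * (g 0)⁻¹, hK.conj_mem y hy _, ?_⟩
          funext l
          rcases eq_or_ne l 0 with rfl | hl
          · simp
          · simp [hl]
        rw [← Subgroup.map_map]
        exact Subgroup.Normal.map h0 _ ψ.surjective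
      rcases hfirst _ hKn (Subgroup.map_le_range f K) with h | h
      · exact Or.inl (Subgroup.map_injective hfinj (h.trans (Subgroup.map_bot f).symm))
      · exact Or.inr (Subgroup.map_injective hfinj (h.trans (MonoidHom.range_eq_map f)))
    refine ⟨Shrink.{0} N, inferInstance, IsSimpleGroup.isSimpleGroup_of_surjective e'.toMonoidHom e'.surjective, n + 1, by omega, ⟨ψ.symm.trans (MulEquiv.piCongrRight fun _ => e')⟩⟩
  · rintro ⟨S, _, _, n, -, ⟨e⟩⟩ H hH
    have h1 : (H.map e.toMonoidHom).Characteristic := by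
      refine Subgroup.characteristic_iff_map_le.mpr fun φ => ?_
      rintro _ ⟨_, ⟨y, hy, rfl⟩, rfl⟩
      refine ⟨(e.trans (φ.trans e.symm)) y, ?_, by simp⟩
      exact Subgroup.characteristic_iff_map_le.mp hH (e.trans (φ.trans e.symm)) ⟨y, hy, rfl⟩
    rcases charSimple_pi h1 with h | h
    · exact Or.inl (Subgroup.map_injective (f := e.toMonoidHom) e.injective (h.trans (Subgroup.map_bot _).symm))
    · exact Or.inr (Subgroup.map_injective (f := e.toMonoidHom) e.injective (h.trans (Subgroup.map_top_of_surjective _ e.surjective).symm))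

end CfsgLib.Classical22
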