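/-
Invariant subspaces of linear maps of prime order modulo scalars.
-/
import Mathlib

set_option autoImplicit false

namespace CfsgLib.Classical22.PrimeMaps

open Polynomial

variable {F V : Type*} [Field F] [AddCommGroup V] [Module F V] [FiniteDimensional F V]

/-- `W` is mapped into itself by `f`. -/
def Inv (f : V →ₗ[F] V) (W : Submodule F V) : Prop := ∀ w ∈ W, f w ∈ W

theorem inv_aeval {f : V →ₗ[F] V} {W : Submodule F V} (hW : Inv f W) (a : F[X]) : ∀ w ∈ W, aeval f a w ∈ W := by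
  induction a using Polynomial.induction_on' with
  | add p q hp hq => intro w hw; rw [map_add, LinearMap.add_apply]; exact W.add_mem (hp w hw) (hq w hw)
  | monomial n c =>
    intro w hw
    rw [aeval_monomial, Module.algebraMap_end_eq_smul_id, smul_mul_assoc, LinearMap.smul_apply]
    refine W.smul_mem c ?_
    induction n generalizing w with
    | zero => simpa using hw
    | succ n ih => rw [pow_succ, ← mul_assoc]; exact ih (f w) (hW w hw)

theorem inv_ker {f : V →ₗ[F] V} {U : Submodule F V} (hU : Inv f U) (a : F[X]) :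
    Inv f (U ⊓ LinearMap.ker (aeval f a)) := by
  rintro w ⟨hw, ha⟩
  refine ⟨hU w hw, LinearMap.mem_ker.2 ?_⟩
  have h : (aeval f a) * f = f * (aeval f a) := by
    have := congrArg (aeval f) (mul_comm a X)
    rwa [map_mul, map_mul, aeval_X] at this
  rw [← Module.End.mul_apply, h, Module.End.mul_apply, LinearMap.mem_ker.1 ha, map_zero]

theorem exists_compl_in {f : V →ₗ[F] V} {r : ℕ} {c : F} (hr : (r : F) ≠ 0) (hc : c ≠ 0)
    (hf : ∀ v, (f ^ r) v = c • v) {U W : Submodule F V} (hU : Inv f U) (hW : Inv f W) (hWU : W ≤ U) :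
    ∃ C, Inv f C ∧ C ≤ U ∧ W ⊓ C = ⊥ ∧ W ⊔ C = U := by
  have hss : Module.End.IsSemisimple f := Module.End.isSemisimple_of_squarefree_aeval_eq_zero
    (p := X ^ r - Polynomial.C c) (separable_X_pow_sub_C c hr hc).squarefree
    (LinearMap.ext fun v => by simp [hf])
  obtain ⟨D, hD, hcompl⟩ := Module.End.isSemisimple_iff.1 hss W
    ((Module.End.mem_invtSubmodule_iff_forall_mem_of_mem f).2 hW)
  rw [Module.End.mem_invtSubmodule_iff_forall_mem_of_mem] at hD
  refine ⟨D ⊓ U, fun w hw => ⟨hD w hw.1, hU w hw.2⟩, inf_le_right, ?_, ?_⟩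
  · rw [← inf_assoc, hcompl.inf_eq_bot, bot_inf_eq]
  · rw [← sup_inf_assoc_of_le D hWU, hcompl.sup_eq_top, top_inf_eq]

/-- A minimal invariant subspace below a nonzero invariant subspace. -/
theorem exists_simple (f : V →ₗ[F] V) {U : Submodule F V} (hU : Inv f U) (hU0 : U ≠ ⊥) :
    ∃ W, Inv f W ∧ W ≤ U ∧ W ≠ ⊥ ∧ ∀ W', Inv f W' → W' ≤ W → W' ≠ ⊥ → W' = W := by
  obtain ⟨d, hd⟩ : ∃ d, Module.finrank F U = d := ⟨_, rfl⟩
  induction d using Nat.strong_induction_on generalizing U with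
  | _ d ih =>
    by_cases h : ∀ W', Inv f W' → W' ≤ U → W' ≠ ⊥ → W' = U
    · exact ⟨U, hU, le_rfl, hU0, h⟩
    · push_neg at h
      obtain ⟨W', hW', hle, h0, hne⟩ := h
      obtain ⟨W, h1, h2, h3⟩ := ih _ (hd ▸ Submodule.finrank_lt_finrank_of_lt (lt_of_le_of_ne hle hne)) hW' h0 rfl
      exact ⟨W, h1, h2.trans hle, h3⟩

/-- A simple invariant subspace is a field extension: its dimension is the degree of an irreducible annihilator. -/
theorem simple_minpoly (f : V →ₗ[F] V) {W : Submodule F V} (hW : Inv f W) (hW0 : W ≠ ⊥)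
    (hmin : ∀ W', Inv f W' → W' ≤ W → W' ≠ ⊥ → W' = W) {A : F[X]} (hA : A ≠ 0)
    (hAW : ∀ w ∈ W, aeval f A w = 0) :
    ∃ P : F[X], Irreducible P ∧ P ∣ A ∧ P.natDegree = Module.finrank F W ∧ ∀ w ∈ W, aeval f P w = 0 := by
  classical
  obtain ⟨w, hw, hw0⟩ := W.exists_mem_ne_zero_of_ne_bot hW0
  -- an irreducible factor killing a nonzero vector
  have key : ∀ (n : ℕ) (B : F[X]), B.natDegree = n → B ≠ 0 → (∀ w ∈ W, aeval f B w = 0) →
      ∃ P : F[X], Irreducible P ∧ P ∣ B ∧ ∀ w ∈ W, aeval f P w = 0 := by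
    intro n
    induction n using Nat.strong_induction_on with
    | _ n ih =>
      intro B hn hB0 hB
      by_cases hu : IsUnit B
      · exfalso
        obtain ⟨e, he, rfl⟩ := Polynomial.isUnit_iff.1 hu
        have := hB w hw
        rw [aeval_C, Module.algebraMap_end_apply] at this
        exact hw0 ((smul_eq_zero.1 this).resolve_left he.ne_zero)
      by_cases hi : Irreducible B
      · exact ⟨B, hi, dvd_rfl, hB⟩
      obtain ⟨P, hP, Q, rfl⟩ := WfDvdMonoid.exists_irreducible_factor hu hB0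
      by_cases hk : ∀ w ∈ W, aeval f P w = 0
      · exact ⟨P, hP, Dvd.intro Q rfl, hk⟩
      push_neg at hk
      obtain ⟨x, hx, hx0⟩ := hk
      have hall : ∀ w ∈ W, aeval f Q w = 0 := fun w hw => by
        have hker := hmin _ (inv_ker hW Q) inf_le_left (fun hbot => hx0 ?_)
        · exact LinearMap.mem_ker.1 (hker.ge hw).2
        · have : aeval f P x ∈ W ⊓ LinearMap.ker (aeval f Q) := ⟨inv_aeval hW P x hx, LinearMap.mem_ker.2 (by
            rw [← Module.End.mul_apply, ← map_mul, mul_comm]; exact hB x hx)⟩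
          rwa [hbot, Submodule.mem_bot] at this
      obtain ⟨P', h1, h2, h3⟩ := ih Q.natDegree (by
        rw [← hn, natDegree_mul hP.ne_zero (right_ne_zero_of_mul hB0)]
        have := hP.natDegree_pos
        omega) Q rfl (right_ne_zero_of_mul hB0) hall
      exact ⟨P', h1, h2.mul_left P, h3⟩
  obtain ⟨P, hP, hPA, hPW⟩ := key _ A rfl hA hAW
  refine ⟨P, hP, hPA, ?_, hPW⟩
  obtain ⟨Φ, hΦ⟩ : ∃ Φ : Polynomial.degreeLT F P.natDegree →ₗ[F] V, ∀ a, Φ a = aeval f (a : F[X]) w :=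
    ⟨(LinearMap.applyₗ w).comp ((aeval f).toLinearMap.comp (Polynomial.degreeLT F P.natDegree).subtype), fun a => rfl⟩
  have hsurjW : ∀ a : F[X], ∃ b : Polynomial.degreeLT F P.natDegree, Φ b = aeval f a w := by
    intro (a : F[X])
    refine ⟨⟨(a % P : F[X]), Polynomial.mem_degreeLT.2 ?_⟩, ?_⟩
    · exact lt_of_lt_of_le (EuclideanDomain.mod_lt a hP.ne_zero) Polynomial.degree_le_natDegree
    · rw [hΦ]
      conv_rhs => rw [← EuclideanDomain.div_add_mod a P, map_add, map_mul, LinearMap.add_apply]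
      rw [show aeval f P * aeval f (a / P) = aeval f (a / P) * aeval f P by rw [← map_mul, ← map_mul, mul_comm],
        Module.End.mul_apply, hPW w hw, map_zero, zero_add]
  have hrange : LinearMap.range Φ = W := by
    refine hmin _ ?_ ?_ ?_
    · rintro _ ⟨a, rfl⟩
      obtain ⟨b, hb⟩ := hsurjW (X * (a : F[X]))
      refine ⟨b, hb.trans ?_⟩
      rw [map_mul, aeval_X, Module.End.mul_apply, hΦ]
    · rintro _ ⟨a, rfl⟩
      rw [hΦ]; exact inv_aeval hW _ w hw
    · intro h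
      obtain ⟨b, hb⟩ := hsurjW 1
      rw [map_one, Module.End.one_apply] at hb
      exact hw0 (by rw [← Submodule.mem_bot F, ← h]; exact ⟨b, hb⟩)
  have hinj : Function.Injective Φ := by
    rw [← LinearMap.ker_eq_bot, LinearMap.ker_eq_bot']
    intro a ha
    rw [hΦ] at ha
    refine Subtype.ext (by_contra fun ha0 => hw0 ?_)
    obtain ⟨u, v, huv⟩ : IsCoprime (a : F[X]) P := ((hP.coprime_iff_not_dvd).2 fun hd => by
      have h1 := natDegree_le_of_dvd hd ha0
      have h2 := Polynomial.mem_degreeLT.1 a.2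
      rw [Polynomial.degree_eq_natDegree ha0, Nat.cast_lt] at h2
      omega).symm
    have h := congrArg (fun g : F[X] => aeval f g w) huv
    simp only [map_add, map_mul, LinearMap.add_apply, Module.End.mul_apply, ha, hPW w hw, map_zero, add_zero,
      map_one, Module.End.one_apply] at h
    exact h.symm
  rw [← hrange, LinearMap.finrank_range_of_inj hinj, (Polynomial.degreeLTEquiv F P.natDegree).finrank_eq,
    Module.finrank_fin_fun]

theorem simple_dim_nonpower [Fintype F] (f : V →ₗ[F] V) {r : ℕ} (hr : r.Prime) {c : F}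
    (hc : ∀ b : F, b ^ r ≠ c) (hf : ∀ v, (f ^ r) v = c • v) {W : Submodule F V} (hW : Inv f W) (hW0 : W ≠ ⊥)
    (hmin : ∀ W', Inv f W' → W' ≤ W → W' ≠ ⊥ → W' = W) : Module.finrank F W = r := by
  have hirr := X_pow_sub_C_irreducible_of_prime hr hc
  obtain ⟨P, hP, hPA, hdeg, -⟩ := simple_minpoly f hW hW0 hmin hirr.ne_zero (fun w _ => by simp [hf])
  rw [← hdeg, natDegree_eq_of_degree_eq (degree_eq_degree_of_associated (hP.associated_of_dvd hirr hPA)),
    natDegree_X_pow_sub_C]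

theorem simple_dim_order [Fintype F] (f : V →ₗ[F] V) {r : ℕ} [hr : Fact r.Prime]
    (hf : ∀ v, (f ^ r) v = v) {W : Submodule F V} (hW : Inv f W) (hW0 : W ≠ ⊥)
    (hmin : ∀ W', Inv f W' → W' ≤ W → W' ≠ ⊥ → W' = W) (hrF : (r : F) ≠ 0)
    (hfix : ∀ w ∈ W, f w = w → w = 0) : Module.finrank F W = orderOf (Fintype.card F : ZMod r) := by
  have hX : (X ^ r - C 1 : F[X]) ≠ 0 := X_pow_sub_C_ne_zero hr.out.pos _
  obtain ⟨P, hP, hPA, hdeg, hPW⟩ := simple_minpoly f hW hW0 hmin hX (fun w _ => by simp [hf])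
  rw [← hdeg]
  haveI : Fact (Irreducible P) := ⟨hP⟩
  haveI : Module.Finite F (AdjoinRoot P) := (AdjoinRoot.powerBasis hP.ne_zero).finite
  haveI : Finite (AdjoinRoot P) := Module.finite_of_finite F
  letI := Fintype.ofFinite (AdjoinRoot P)
  obtain ⟨q, hq⟩ : ∃ q, Fintype.card F = q := ⟨_, rfl⟩
  rw [hq]
  have hK : Fintype.card (AdjoinRoot P) = q ^ P.natDegree := by
    rw [Module.card_eq_pow_finrank (K := F), hq, (AdjoinRoot.powerBasis hP.ne_zero).finrank,
      AdjoinRoot.powerBasis_dim]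
  have hroot : (AdjoinRoot.root P) ^ r = 1 := by
    obtain ⟨Q, hQ⟩ := hPA
    have h := congrArg (AdjoinRoot.mk P) hQ
    rw [map_mul, AdjoinRoot.mk_self, zero_mul, map_sub, map_pow, AdjoinRoot.mk_X, AdjoinRoot.mk_C, map_one,
      sub_eq_zero] at h
    exact h
  have hne : AdjoinRoot.root P ≠ 1 := by
    intro h
    obtain ⟨w, hw, hw0⟩ := W.exists_mem_ne_zero_of_ne_bot hW0
    have hd : P ∣ X - C 1 := by
      rw [← AdjoinRoot.mk_eq_zero, map_sub, AdjoinRoot.mk_X, AdjoinRoot.mk_C, map_one, h, sub_self]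
    obtain ⟨Q, hQ⟩ := hd
    have h1 : aeval f (X - C (1 : F) : F[X]) w = 0 := by
      rw [hQ, mul_comm, map_mul, Module.End.mul_apply, hPW w hw, map_zero]
    rw [map_sub, aeval_X, aeval_C, map_one, LinearMap.sub_apply, Module.End.one_apply, sub_eq_zero] at h1
    exact hw0 (hfix w hw h1)
  have hord : orderOf (AdjoinRoot.root P) = r := orderOf_eq_prime hroot hne
  obtain ⟨i, hi⟩ : ∃ i, i = orderOf (q : ZMod r) := ⟨_, rfl⟩
  rw [← hi]
  have hd1 : i ∣ P.natDegree := by
    rw [hi]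
    refine orderOf_dvd_of_pow_eq_one ?_
    have h0 : AdjoinRoot.root P ≠ 0 := fun h => by
      rw [h, zero_pow hr.out.ne_zero] at hroot; exact zero_ne_one hroot
    have hd : r ∣ Fintype.card (AdjoinRoot P) - 1 :=
      hord ▸ orderOf_dvd_of_pow_eq_one (FiniteField.pow_card_sub_one_eq_one _ h0)
    have h1 : ((Fintype.card (AdjoinRoot P) : ℕ) : ZMod r) = 1 := by
      rw [← Nat.sub_add_cancel (Fintype.card_pos (α := AdjoinRoot P)), Nat.cast_add,
        (ZMod.natCast_eq_zero_iff _ _).2 hd, zero_add, Nat.cast_one]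
    rwa [hK, Nat.cast_pow] at h1
  have hd2 : P.natDegree ∣ i := by
    refine hP.natDegree_dvd_of_dvd_X_pow_card_pow_sub_X ?_
    rw [← AdjoinRoot.mk_eq_zero, map_sub, map_pow, AdjoinRoot.mk_X, sub_eq_zero, Nat.card_eq_fintype_card, hq]
    have h1 : q ^ i % r = 1 := by
      have h : ((q ^ i : ℕ) : ZMod r) = ((1 : ℕ) : ZMod r) := by
        rw [Nat.cast_pow, hi, pow_orderOf_eq_one, Nat.cast_one]
      rw [ZMod.natCast_eq_natCast_iff', Nat.mod_eq_of_lt hr.out.one_lt] at h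
      exact h
    rw [← pow_mod_orderOf, hord, h1, pow_one]
  exact Nat.dvd_antisymm hd2 hd1

theorem dims_of_simple {f : V →ₗ[F] V} {r : ℕ} {c : F} (hr : (r : F) ≠ 0) (hc : c ≠ 0)
    (hf : ∀ v, (f ^ r) v = c • v) {d : ℕ} {U : Submodule F V} (hU : Inv f U)
    (hs : ∀ W, Inv f W → W ≤ U → W ≠ ⊥ → (∀ W', Inv f W' → W' ≤ W → W' ≠ ⊥ → W' = W) → Module.finrank F W = d) :
    d ∣ Module.finrank F U ∧ ∀ s, s * d ≤ Module.finrank F U →
      ∃ W, Inv f W ∧ W ≤ U ∧ Module.finrank F W = s * d := by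
  obtain ⟨m, hm⟩ : ∃ m, Module.finrank F U = m := ⟨_, rfl⟩
  induction m using Nat.strong_induction_on generalizing U with
  | _ m ih =>
    have hbot : ∃ W, Inv f W ∧ W ≤ U ∧ Module.finrank F W = 0 * d :=
      ⟨⊥, fun w hw => by rw [(Submodule.mem_bot F).1 hw, map_zero]; exact Submodule.zero_mem _, bot_le,
        by rw [finrank_bot, zero_mul]⟩
    by_cases hU0 : U = ⊥
    · subst hU0
      rw [finrank_bot]
      refine ⟨dvd_zero d, fun s hs' => ?_⟩
      obtain ⟨W, h1, h2, h3⟩ := hbot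
      exact ⟨W, h1, h2, by rw [h3]; omega⟩
    obtain ⟨S, hS, hSU, hS0, hSm⟩ := exists_simple f hU hU0
    have hSd := hs S hS hSU hS0 hSm
    obtain ⟨C, hC, hCU, hi, hsup⟩ := exists_compl_in hr hc hf hU hS hSU
    have hadd := Submodule.finrank_sup_add_finrank_inf_eq S C
    rw [hsup, hi, finrank_bot, add_zero, hSd] at hadd
    have hpos : 0 < d := hSd ▸ Nat.pos_of_ne_zero fun h => hS0 (Submodule.finrank_eq_zero.1 h)
    obtain ⟨h1, h2⟩ := ih _ (by omega) hC (fun W a b => hs W a (b.trans hCU)) rfl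
    refine ⟨by rw [hadd]; exact Nat.dvd_add (dvd_refl d) h1, fun s hs' => ?_⟩
    rcases s with _ | s
    · exact hbot
    obtain ⟨W, hW, hWC, hWd⟩ := h2 s (by rw [Nat.succ_mul] at hs'; omega)
    refine ⟨S ⊔ W, ?_, sup_le hSU (hWC.trans hCU), ?_⟩
    · intro w hw
      obtain ⟨a, ha, b, hb, rfl⟩ := Submodule.mem_sup.1 hw
      rw [map_add]
      exact Submodule.add_mem_sup (hS a ha) (hW b hb)
    · have := Submodule.finrank_sup_add_finrank_inf_eq S W
      rw [show S ⊓ W = ⊥ from le_bot_iff.1 (hi ▸ inf_le_inf_left S hWC), finrank_bot, add_zero, hSd, hWd] at this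
      rw [this, Nat.succ_mul, add_comm]

/-- The fixed space. -/
def fixed (f : V →ₗ[F] V) : Submodule F V := LinearMap.ker (f - 1)

theorem mem_fixed {f : V →ₗ[F] V} {v : V} : v ∈ fixed f ↔ f v = v := by
  rw [fixed, LinearMap.mem_ker, LinearMap.sub_apply, Module.End.one_apply, sub_eq_zero]

theorem order_spec [Fintype F] {f : V →ₗ[F] V} {r : ℕ} [Fact r.Prime] (hr : (r : F) ≠ 0)
    (hf : ∀ v, (f ^ r) v = v) {X : Submodule F V} (hX : Inv f X) :
    orderOf (Fintype.card F : ZMod r) ∣ Module.finrank F X - Module.finrank F (X ⊓ fixed f : Submodule F V) ∧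
    ∀ j s, j ≤ Module.finrank F (X ⊓ fixed f : Submodule F V) →
      Module.finrank F (X ⊓ fixed f : Submodule F V) + s * orderOf (Fintype.card F : ZMod r) ≤ Module.finrank F X →
      ∃ W, Inv f W ∧ W ≤ X ∧ Module.finrank F (W ⊓ fixed f : Submodule F V) = j ∧
        Module.finrank F W = j + s * orderOf (Fintype.card F : ZMod r) := by
  have hf' : ∀ v, (f ^ r) v = (1 : F) • v := fun v => by rw [hf, one_smul]
  have hfix : ∀ J : Submodule F V, J ≤ fixed f → Inv f J := fun J hJ w hw => by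
    rw [mem_fixed.1 (hJ hw)]; exact hw
  obtain ⟨C, hC, hCX, hi, hsup⟩ := exists_compl_in hr one_ne_zero hf' hX
    (hfix _ (inf_le_right : X ⊓ fixed f ≤ fixed f)) inf_le_left
  have hCfix : ∀ w ∈ C, f w = w → w = 0 := fun w hw hfw =>
    (Submodule.mem_bot F).1 (hi ▸ ⟨⟨hCX hw, mem_fixed.2 hfw⟩, hw⟩)
  obtain ⟨h1, h2⟩ := dims_of_simple hr one_ne_zero hf' hC (fun W hW hWC hW0 hWm =>
    simple_dim_order f hf hW hW0 hWm hr fun w hw => hCfix w (hWC hw))
  have hadd := Submodule.finrank_sup_add_finrank_inf_eq (X ⊓ fixed f) C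
  rw [hsup, hi, finrank_bot, add_zero] at hadd
  refine ⟨by rw [hadd, Nat.add_sub_cancel_left]; exact h1, fun j s hj hs => ?_⟩
  obtain ⟨S, hS, hSC, hSd⟩ := h2 s (by omega)
  obtain ⟨J, hJ, hJd⟩ : ∃ J : Submodule F V, J ≤ X ⊓ fixed f ∧ Module.finrank F J = j := by
    let b := Module.finBasis F ↥(X ⊓ fixed f)
    refine ⟨Submodule.span F (Set.range fun i : Fin j => ((b (Fin.castLE hj i) : ↥(X ⊓ fixed f)) : V)), ?_, ?_⟩
    · rw [Submodule.span_le]
      rintro _ ⟨i, rfl⟩
      exact (b (Fin.castLE hj i)).2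
    · exact (finrank_span_eq_card ((b.linearIndependent.comp _ (Fin.castLE_injective hj)).map' (X ⊓ fixed f).subtype
        (Submodule.ker_subtype _))).trans (Fintype.card_fin j)
  refine ⟨J ⊔ S, ?_, sup_le (hJ.trans inf_le_left) (hSC.trans hCX), ?_, ?_⟩
  · intro w hw
    obtain ⟨a, ha, b, hb, rfl⟩ := Submodule.mem_sup.1 hw
    rw [map_add]
    exact Submodule.add_mem_sup (hfix J (hJ.trans inf_le_right) a ha) (hS b hb)
  · rw [← hJd, show (J ⊔ S) ⊓ fixed f = J from le_antisymm ?_ (le_inf le_sup_left (hJ.trans inf_le_right))]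
    rintro w ⟨hw, hwf⟩
    obtain ⟨a, ha, b, hb, rfl⟩ := Submodule.mem_sup.1 hw
    have hbf : f b = b := by
      have h := mem_fixed.1 hwf
      rw [map_add, mem_fixed.1 (hJ ha).2] at h
      exact add_left_cancel h
    rw [hCfix b (hSC hb) hbf, add_zero]
    exact ha
  · have := Submodule.finrank_sup_add_finrank_inf_eq J S
    rw [show J ⊓ S = ⊥ from le_bot_iff.1 (hi ▸ inf_le_inf hJ hSC), finrank_bot, add_zero, hJd, hSd] at this
    exact this

/-- A chain of invariant subspaces of a map of order dividing `r`. -/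
theorem order_chain [Fintype F] {f : V →ₗ[F] V} {r : ℕ} [Fact r.Prime] (hr : (r : F) ≠ 0)
    (hf : ∀ v, (f ^ r) v = v) {j j' s s' : ℕ} (hjj : j ≤ j') (hss : s ≤ s')
    (hj : j' ≤ Module.finrank F (fixed f))
    (hs : Module.finrank F (fixed f) + s' * orderOf (Fintype.card F : ZMod r) ≤ Module.finrank F V) :
    ∃ U W, Inv f U ∧ Inv f W ∧ U ≤ W ∧ Module.finrank F U = j + s * orderOf (Fintype.card F : ZMod r) ∧
      Module.finrank F W = j' + s' * orderOf (Fintype.card F : ZMod r) := by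
  have htop : Module.finrank F ((⊤ : Submodule F V) ⊓ fixed f : Submodule F V) = Module.finrank F (fixed f) := by
    rw [top_inf_eq]
  obtain ⟨W, hW, -, hWf, hWd⟩ := (order_spec hr hf (X := ⊤) fun _ _ => Submodule.mem_top).2 j' s'
    (by rw [htop]; exact hj) (by rw [htop, finrank_top]; exact hs)
  obtain ⟨U, hU, hUW, -, hUd⟩ := (order_spec hr hf hW).2 j s (by omega)
    (by rw [hWf, hWd]; exact Nat.add_le_add_left (Nat.mul_le_mul_right _ hss) _)
  exact ⟨U, W, hU, hW, hUW, hUd, hWd⟩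

theorem nonpower_spec [Fintype F] {f : V →ₗ[F] V} {r : ℕ} (hr : r.Prime) (hrF : (r : F) ≠ 0) {c : F}
    (hc : ∀ b : F, b ^ r ≠ c) (hf : ∀ v, (f ^ r) v = c • v) {X : Submodule F V} (hX : Inv f X) :
    r ∣ Module.finrank F X ∧ ∀ s, s * r ≤ Module.finrank F X →
      ∃ W, Inv f W ∧ W ≤ X ∧ Module.finrank F W = s * r :=
  dims_of_simple hrF (fun h => hc 0 (by rw [h, zero_pow hr.ne_zero])) hf hX fun _ hW _ hW0 hWm =>
    simple_dim_nonpower f hr hc hf hW hW0 hWm

end CfsgLib.Classical22.PrimeMaps
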