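/-
Numbers of subspaces of given dimension and their prime divisors.
-/
import Cfsg.Agent.Lib.Classical22.PrimeOrderMaps

set_option autoImplicit false

namespace CfsgLib.Classical22.PrimeMaps

variable {F V : Type*} [Field F] [Fintype F] [AddCommGroup V] [Module F V] [FiniteDimensional F V]

/-- The subspaces of dimension `m`. -/
abbrev Grass (F V : Type*) [Field F] [AddCommGroup V] [Module F V] (m : ℕ) :=
  {W : Submodule F V // Module.finrank F W = m}

theorem finite_of_finrank (F : Type*) {V : Type*} [Field F] [Fintype F] [AddCommGroup V] [Module F V]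
    [FiniteDimensional F V] : Finite V := Module.finite_of_finite F

theorem card_grass_congr {V' : Type*} [AddCommGroup V'] [Module F V'] (e : V ≃ₗ[F] V') (m : ℕ) :
    Nat.card (Grass F V m) = Nat.card (Grass F V' m) := by
  refine Nat.card_congr ((Submodule.orderIsoMapComap e).toEquiv.subtypeEquiv fun W => ?_)
  rw [show ((Submodule.orderIsoMapComap e).toEquiv W) = W.map (e : V →ₗ[F] V') from rfl]
  rw [LinearEquiv.finrank_map_eq]

/-- The action of the linear automorphisms on the subspaces of dimension `m`. -/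
@[instance] theorem grassFinite (m : ℕ) : Finite (Grass F V m) := by
  haveI : Finite V := finite_of_finrank F
  infer_instance

instance grassAction (m : ℕ) : MulAction (V ≃ₗ[F] V) (Grass F V m) where
  smul e W := ⟨W.1.map (e : V →ₗ[F] V), (LinearEquiv.finrank_map_eq e W.1).trans W.2⟩
  one_smul W := Subtype.ext (Submodule.map_id W.1)
  mul_smul a b W := Subtype.ext (Submodule.map_comp (b : V →ₗ[F] V) (a : V →ₗ[F] V) W.1)

theorem grass_smul_val {m : ℕ} (e : V ≃ₗ[F] V) (W : Grass F V m) : (e • W).1 = W.1.map (e : V →ₗ[F] V) := rfl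

theorem grass_transitive (m : ℕ) : MulAction.IsPretransitive (V ≃ₗ[F] V) (Grass F V m) := by
  refine ⟨fun W W' => ?_⟩
  obtain ⟨C, hC⟩ := W.1.exists_isCompl
  obtain ⟨C', hC'⟩ := W'.1.exists_isCompl
  have h1 := Submodule.finrank_add_eq_of_isCompl hC
  have h2 := Submodule.finrank_add_eq_of_isCompl hC'
  rw [W.2] at h1
  rw [W'.2] at h2
  let a := LinearEquiv.ofFinrankEq W.1 W'.1 (W.2.trans W'.2.symm)
  let b := LinearEquiv.ofFinrankEq (R := F) C C' (by omega)
  let e := ((Submodule.prodEquivOfIsCompl _ _ hC).symm.trans (a.prodCongr b)).trans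
    (Submodule.prodEquivOfIsCompl _ _ hC')
  have he : ∀ w : W.1, e (w : V) = (a w : V) := fun w => by
    simp [e, Submodule.prodEquivOfIsCompl_symm_apply_left]
  refine ⟨e, Subtype.ext ?_⟩
  rw [grass_smul_val]
  refine Submodule.eq_of_le_of_finrank_eq ?_ ((LinearEquiv.finrank_map_eq e W.1).trans (W.2.trans W'.2.symm))
  rintro _ ⟨w, hw, rfl⟩
  change e w ∈ W'.1
  rw [he ⟨w, hw⟩]
  exact (a ⟨w, hw⟩).2

theorem card_grass_dvd {m : ℕ} (hne : Nonempty (Grass F V m)) :
    Nat.card (Grass F V m) ∣ Nat.card (V ≃ₗ[F] V) := by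
  haveI : Finite V := finite_of_finrank F
  haveI : Finite (V ≃ₗ[F] V) := Finite.of_injective _ DFunLike.coe_injective
  obtain ⟨W⟩ := hne
  haveI := grass_transitive (F := F) (V := V) m
  rw [← MulAction.index_stabilizer_of_transitive (V ≃ₗ[F] V) W]
  exact Subgroup.index_dvd_card _

theorem exists_grass {m : ℕ} (hm : m ≤ Module.finrank F V) : Nonempty (Grass F V m) := by
  let b := Module.finBasis F V
  exact ⟨⟨Submodule.span F (Set.range fun i : Fin m => b (Fin.castLE hm i)), by
    exact (finrank_span_eq_card (b.linearIndependent.comp _ (Fin.castLE_injective hm))).trans (Fintype.card_fin m)⟩⟩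

theorem grass_fixed {m : ℕ} {e : V ≃ₗ[F] V} {W : Grass F V m} :
    W ∈ MulAction.fixedPoints (Subgroup.zpowers e) (Grass F V m) ↔ Inv (e : V →ₗ[F] V) W.1 := by
  constructor
  · intro h w hw
    have h1 := congrArg Subtype.val (h ⟨e, Subgroup.mem_zpowers e⟩)
    change W.1.map (e : V →ₗ[F] V) = W.1 at h1
    rw [← h1]
    exact ⟨w, hw, rfl⟩
  · intro h g
    have he : e • W = W := Subtype.ext (Submodule.eq_of_le_of_finrank_eq
      (by rw [grass_smul_val]; rintro _ ⟨w, hw, rfl⟩; exact h w hw)
      ((LinearEquiv.finrank_map_eq e W.1)))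
    obtain ⟨k, hk⟩ := g.2
    change (g : V ≃ₗ[F] V) • W = W
    rw [← hk]
    exact MulAction.zpow_smul_eq_iff_minimalPeriod_dvd.2 (by
      rw [Function.minimalPeriod_eq_one_iff_isFixedPt.2 he]; exact one_dvd _)

theorem card_grass_modEq {r : ℕ} [Fact r.Prime] {m k : ℕ} (e : V ≃ₗ[F] V) (he : e ^ r ^ k = 1) :
    Nat.card (Grass F V m) ≡ Nat.card {W : Grass F V m // Inv (e : V →ₗ[F] V) W.1} [MOD r] := by
  have hP : IsPGroup r (Subgroup.zpowers e) := by
    rintro ⟨g, j, rfl⟩
    refine ⟨k, Subtype.ext ?_⟩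
    change (e ^ j) ^ r ^ k = 1
    rw [← zpow_natCast, ← zpow_mul, mul_comm, zpow_mul, zpow_natCast, he, one_zpow]
  rw [← Nat.card_congr (Equiv.subtypeEquivRight (p := fun W => W ∈ MulAction.fixedPoints (Subgroup.zpowers e) _)
    fun W => grass_fixed (e := e) (W := W))]
  exact hP.card_modEq_card_fixedPoints _

theorem pow_coe {e : V ≃ₗ[F] V} {r : ℕ} (he : e ^ r = 1) (v : V) : ((e : V →ₗ[F] V) ^ r) v = v := by
  have : ∀ k : ℕ, ∀ v, ((e : V →ₗ[F] V) ^ k) v = (e ^ k) v := by
    intro k
    induction k with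
    | zero => intro v; rfl
    | succ k ih => intro v; rw [pow_succ, pow_succ, Module.End.mul_apply, ih]; rfl
  rw [this, he]
  rfl

theorem order_le_finrank {r : ℕ} [hr : Fact r.Prime] (hrF : (r : F) ≠ 0) {m : ℕ} (hm : m ≤ Module.finrank F V)
    (h : r ∣ Nat.card (Grass F V m)) : orderOf (Fintype.card F : ZMod r) ≤ Module.finrank F V := by
  haveI : Finite V := finite_of_finrank F
  haveI : Finite (V ≃ₗ[F] V) := Finite.of_injective _ DFunLike.coe_injective
  obtain ⟨e, he⟩ := exists_prime_orderOf_dvd_card' (G := V ≃ₗ[F] V) r (h.trans (card_grass_dvd (exists_grass hm)))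
  have her : e ^ r = 1 := he ▸ pow_orderOf_eq_one e
  have h1 := (order_spec hrF (pow_coe her) (X := ⊤) fun _ _ => Submodule.mem_top).1
  rw [top_inf_eq, finrank_top] at h1
  have hlt : Module.finrank F (fixed (e : V →ₗ[F] V)) < Module.finrank F V := by
    refine Submodule.finrank_lt fun htop => hr.out.ne_one ?_
    rw [← he, orderOf_eq_one_iff]
    exact LinearEquiv.ext fun v => mem_fixed.1 (htop ▸ Submodule.mem_top)
  exact (Nat.le_of_dvd (by omega) h1).trans (Nat.sub_le _ _)

/-- Fixed subspaces of dimension less than the order lie in the fixed space. -/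
theorem card_inv_grass {r : ℕ} [Fact r.Prime] (hrF : (r : F) ≠ 0) {f : V →ₗ[F] V} (hf : ∀ v, (f ^ r) v = v) {m : ℕ}
    (hm : m < orderOf (Fintype.card F : ZMod r)) :
    Nat.card {W : Grass F V m // Inv f W.1} = Nat.card (Grass F (fixed f) m) := by
  have hle : ∀ W : {W : Grass F V m // Inv f W.1}, W.1.1 ≤ fixed f := by
    rintro ⟨⟨W, hWd⟩, hW⟩
    change Inv f W at hW
    change W ≤ fixed f
    have h := (order_spec hrF hf hW).1
    rw [hWd] at h
    have h0 := Nat.eq_zero_of_dvd_of_lt h (lt_of_le_of_lt (Nat.sub_le _ _) hm)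
    have h1 : W ⊓ fixed f = W := Submodule.eq_of_le_of_finrank_le inf_le_left (by rw [hWd]; omega)
    exact le_of_eq_of_le h1.symm inf_le_right
  refine Nat.card_congr
    { toFun := fun W => ⟨W.1.1.comap (fixed f).subtype, by
        rw [(Submodule.comapSubtypeEquivOfLe (hle W)).finrank_eq, W.1.2]⟩
      invFun := fun J => ⟨⟨J.1.map (fixed f).subtype, by
        rw [← (Submodule.equivMapOfInjective _ (Submodule.subtype_injective _) J.1).finrank_eq, J.2]⟩, by
        rintro _ ⟨w, hw, rfl⟩
        refine ⟨w, hw, ?_⟩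
        exact (mem_fixed.1 w.2).symm⟩
      left_inv := fun W => Subtype.ext (Subtype.ext (Submodule.map_comap_eq_self (by
        rw [Submodule.range_subtype]; exact hle W)))
      right_inv := fun J => Subtype.ext (Submodule.comap_map_eq_of_injective (Submodule.subtype_injective _) J.1) }

/-- The shift `(v i) ↦ (v (i + 1))`. -/
def shift (F : Type*) [Field F] (n : ℕ) : (Fin n → F) →ₗ[F] (Fin n → F) where
  toFun v i := if h : i.val + 1 < n then v ⟨i.val + 1, h⟩ else 0
  map_add' u v := by funext i; by_cases h : i.val + 1 < n <;> simp [h]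
  map_smul' c v := by funext i; by_cases h : i.val + 1 < n <;> simp [h]

theorem shift_pow (n k : ℕ) (v : Fin n → F) (i : Fin n) :
    ((shift F n) ^ k) v i = if h : i.val + k < n then v ⟨i.val + k, h⟩ else 0 := by
  induction k generalizing i with
  | zero => simp
  | succ k ih =>
    rw [pow_succ', Module.End.mul_apply]
    change (if h : i.val + 1 < n then ((shift F n) ^ k) v ⟨i.val + 1, h⟩ else 0) = _
    by_cases h : i.val + 1 < n
    · rw [dif_pos h, ih]
      by_cases h2 : i.val + (k + 1) < n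
      · rw [dif_pos h2, dif_pos (show i.val + 1 + k < n by omega)]
        congr 1
        exact Fin.ext (by simp; omega)
      · rw [dif_neg h2, dif_neg (show ¬ i.val + 1 + k < n by omega)]
    · rw [dif_neg h, dif_neg (show ¬ i.val + (k + 1) < n by omega)]

theorem shift_inv_structure {n : ℕ} {W : Submodule F (Fin n → F)} (hW : Inv (shift F n) W) :
    ∃ j, ∀ v : Fin n → F, v ∈ W ↔ ∀ i : Fin n, j ≤ i.val → v i = 0 := by
  classical
  have key : ∀ t, t < n → ∀ w ∈ W, (∀ i : Fin n, t < i.val → w i = 0) →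
      (∀ h : t < n, w ⟨t, h⟩ ≠ 0) → ∀ v : Fin n → F, (∀ i : Fin n, t < i.val → v i = 0) → v ∈ W := by
    intro t
    induction t with
    | zero =>
      intro ht w hw hw1 hw0 v hv
      have : v = (v ⟨0, ht⟩ / w ⟨0, ht⟩) • w := by
        funext i
        rcases Nat.eq_zero_or_pos i.val with h | h
        · rw [show i = ⟨0, ht⟩ from Fin.ext h, Pi.smul_apply, smul_eq_mul, div_mul_cancel₀ _ (hw0 ht)]
        · rw [hv i h, Pi.smul_apply, hw1 i h, smul_zero]
      rw [this]
      exact W.smul_mem _ hw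
    | succ t ih =>
      intro ht w hw hw1 hw0 v hv
      have hN : ∀ i : Fin n, shift F n w i = if h : i.val + 1 < n then w ⟨i.val + 1, h⟩ else 0 := fun i => rfl
      have hsub := ih (by omega) (shift F n w) (hW w hw) (fun i hi => by
        rw [hN]
        by_cases h : i.val + 1 < n
        · rw [dif_pos h]; exact hw1 _ (show t + 1 < i.val + 1 by omega)
        · rw [dif_neg h]) (fun h => by rw [hN, dif_pos ht]; exact hw0 ht)
      have hv' := hsub (v - (v ⟨t + 1, ht⟩ / w ⟨t + 1, ht⟩) • w) (fun i hi => by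
        rcases (show i.val = t + 1 ∨ t + 1 < i.val by omega) with h | h
        · rw [show i = ⟨t + 1, ht⟩ from Fin.ext h, Pi.sub_apply, Pi.smul_apply, smul_eq_mul,
            div_mul_cancel₀ _ (hw0 ht), sub_self]
        · rw [Pi.sub_apply, Pi.smul_apply, hv i h, hw1 i h, smul_zero, sub_zero])
      simpa using W.add_mem hv' (W.smul_mem (v ⟨t + 1, ht⟩ / w ⟨t + 1, ht⟩) hw)
  have hex : ∃ j, ∀ v ∈ W, ∀ i : Fin n, j ≤ i.val → v i = 0 := ⟨n, fun v _ i hi => absurd i.2 (by omega)⟩
  refine ⟨Nat.find hex, fun v => ⟨fun hv => Nat.find_spec hex v hv, fun hv => ?_⟩⟩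
  obtain ⟨j, hj⟩ : ∃ j, j = Nat.find hex := ⟨_, rfl⟩
  rw [← hj] at hv
  rcases j with _ | t
  · rw [show v = 0 from funext fun i => hv i (Nat.zero_le _)]; exact W.zero_mem
  · obtain ⟨w, hw, i, hi, hwi⟩ : ∃ w ∈ W, ∃ i : Fin n, t ≤ i.val ∧ w i ≠ 0 := by
      by_contra hc
      push_neg at hc
      have := Nat.find_min' hex hc
      omega
    have hspec := Nat.find_spec hex w hw
    rw [← hj] at hspec
    have hit : i.val = t := by
      by_contra hne
      exact hwi (hspec i (by omega))
    exact key t (hit ▸ i.2) w hw (fun i hi => hspec i hi) (fun h => by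
      rw [show (⟨t, h⟩ : Fin n) = i from Fin.ext hit.symm]; exact hwi) v (fun i hi => hv i hi)

/-- In characteristic `r` the number of subspaces is `1` modulo `r`. -/
theorem not_dvd_char {p : ℕ} [hp : Fact p.Prime] [CharP F p] {m : ℕ} (hm : m ≤ Module.finrank F V) :
    ¬ p ∣ Nat.card (Grass F V m) := by
  classical
  obtain ⟨n, hn⟩ : ∃ n, Module.finrank F V = n := ⟨_, rfl⟩
  rw [hn] at hm
  rw [card_grass_congr (LinearEquiv.ofFinrankEq V (Fin n → F) (by rw [hn, Module.finrank_fin_fun])) m]
  obtain ⟨u, hu⟩ : ∃ u : (Fin n → F) →ₗ[F] (Fin n → F), u = 1 + shift F n := ⟨_, rfl⟩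
  have hpow : u ^ p ^ n = 1 := by
    haveI : Nontrivial ((Fin n → F) →ₗ[F] (Fin n → F)) ∨ n = 0 := by
      rcases Nat.eq_zero_or_pos n with h | h
      · exact Or.inr h
      · haveI : Nonempty (Fin n) := ⟨⟨0, h⟩⟩
        exact Or.inl inferInstance
    rcases this with hnt | rfl
    · haveI := hnt
      haveI : CharP ((Fin n → F) →ₗ[F] (Fin n → F)) p :=
        charP_of_injective_algebraMap (algebraMap F ((Fin n → F) →ₗ[F] (Fin n → F))).injective p
      rw [hu, add_pow_char_pow_of_commute p n (Commute.one_left _), one_pow, add_eq_left]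
      refine LinearMap.ext fun v => funext fun i => ?_
      rw [shift_pow, dif_neg (by have := Nat.lt_pow_self (n := n) hp.out.one_lt; omega)]
      rfl
    · exact LinearMap.ext fun v => funext fun i => i.elim0
  have hu' : IsUnit u := ⟨⟨u, u ^ (p ^ n - 1), by rw [← pow_succ', Nat.sub_add_cancel (Nat.one_le_pow _ _ hp.out.pos), hpow],
    by rw [← pow_succ, Nat.sub_add_cancel (Nat.one_le_pow _ _ hp.out.pos), hpow]⟩, rfl⟩
  let e : (Fin n → F) ≃ₗ[F] (Fin n → F) := LinearMap.GeneralLinearGroup.toLinearEquiv hu'.unit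
  have he : ∀ v, e v = u v := fun v => rfl
  have hek : ∀ (k : ℕ) v, (e ^ k) v = (u ^ k) v := by
    intro k
    induction k with
    | zero => intro v; rfl
    | succ k ih => intro v; rw [pow_succ, pow_succ, Module.End.mul_apply, ← ih, ← he]; rfl
  have hinv : ∀ W : Submodule F (Fin n → F), Inv (e : (Fin n → F) →ₗ[F] (Fin n → F)) W ↔ Inv (shift F n) W := by
    intro W
    refine forall₂_congr fun w hw => ?_
    change e w ∈ W ↔ _
    rw [he, hu, LinearMap.add_apply, Module.End.one_apply, W.add_mem_iff_right hw]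
  intro hd
  have h := (card_grass_modEq (r := p) (m := m) (k := n) e (LinearEquiv.ext fun v => by rw [hek, hpow]; rfl)).symm.trans
    (Nat.modEq_zero_iff_dvd.2 hd)
  obtain ⟨W₀, hW₀d, hW₀⟩ : ∃ W : Submodule F (Fin n → F), Module.finrank F W = m ∧ Inv (shift F n) W := by
    refine ⟨Submodule.span F (Set.range fun i : Fin m => Pi.basisFun F (Fin n) (Fin.castLE hm i)),
      (finrank_span_eq_card ((Pi.basisFun F (Fin n)).linearIndependent.comp _ (Fin.castLE_injective hm))).trans
        (Fintype.card_fin m), ?_⟩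
    intro w hw
    induction hw using Submodule.span_induction with
    | mem x hx =>
      obtain ⟨i, rfl⟩ := hx
      rcases Nat.eq_zero_or_pos i.val with h0 | h0
      · have : shift F n (Pi.basisFun F (Fin n) (Fin.castLE hm i)) = 0 := by
          funext j
          change (if h : j.val + 1 < n then _ else (0 : F)) = 0
          by_cases hj : j.val + 1 < n
          · rw [dif_pos hj, Pi.basisFun_apply, Pi.single_eq_of_ne]
            exact fun e => by have := congrArg Fin.val e; simp at this; omega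
          · rw [dif_neg hj]
        rw [this]; exact Submodule.zero_mem _
      · refine Submodule.subset_span ⟨⟨i.val - 1, by omega⟩, ?_⟩
        funext j
        change _ = (if h : j.val + 1 < n then _ else (0 : F))
        simp only [Pi.basisFun_apply]
        by_cases hj : j.val + 1 < n
        · rw [dif_pos hj]
          simp only [Pi.single_apply]
          refine if_congr ?_ rfl rfl
          simp only [Fin.ext_iff, Fin.coe_castLE]
          omega
        · rw [dif_neg hj, Pi.single_eq_of_ne]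
          exact fun e => by have := congrArg Fin.val e; simp at this; omega
    | zero => simp
    | add x y _ _ hx hy => rw [map_add]; exact Submodule.add_mem _ hx hy
    | smul c x _ hx => rw [map_smul]; exact Submodule.smul_mem _ _ hx
  have h1 : Nat.card {W : Grass F (Fin n → F) m // Inv (e : (Fin n → F) →ₗ[F] (Fin n → F)) W.1} = 1 := by
    refine Nat.card_eq_one_iff_unique.2 ⟨⟨fun A B => Subtype.ext (Subtype.ext ?_)⟩, ⟨⟨⟨W₀, hW₀d⟩, (hinv _).2 hW₀⟩⟩⟩
    obtain ⟨a, ha⟩ := shift_inv_structure ((hinv _).1 A.2)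
    obtain ⟨b, hb⟩ := shift_inv_structure ((hinv _).1 B.2)
    rcases le_total a b with hab | hab
    · exact Submodule.eq_of_le_of_finrank_eq (fun v hv => (hb v).2 fun i hi => (ha v).1 hv i (by omega))
        (A.1.2.trans B.1.2.symm)
    · exact (Submodule.eq_of_le_of_finrank_eq (fun v hv => (ha v).2 fun i hi => (hb v).1 hv i (by omega))
        (B.1.2.trans A.1.2.symm)).symm
  rw [h1] at h
  exact hp.out.one_lt.ne' (Nat.dvd_one.1 (Nat.modEq_zero_iff_dvd.1 h))

end CfsgLib.Classical22.PrimeMaps
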