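/-
Partitions attached to nilpotent linear maps.
-/
import Cfsg.Agent.Lib.Classical22.SubspaceCount

set_option autoImplicit false

namespace CfsgLib.Classical22.NilPart

open CfsgLib.Classical22.PrimeMaps

variable {F V : Type*} [Field F] [AddCommGroup V] [Module F V] [FiniteDimensional F V]

theorem inv_pow {N : V →ₗ[F] V} {X : Submodule F V} (hX : Inv N X) : ∀ k, ∀ x ∈ X, (N ^ k) x ∈ X := by
  intro k
  induction k with
  | zero => intro x hx; exact hx
  | succ k ih => intro x hx; rw [pow_succ, Module.End.mul_apply]; exact ih _ (hX x hx)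

/-- A cyclic summand of maximal length with an invariant complement, and its generator. -/
theorem exists_cyclic_vec {N : V →ₗ[F] V} {X : Submodule F V} (hX : Inv N X) (h0 : X ≠ ⊥) {p : ℕ}
    (hN : ∀ v ∈ X, (N ^ p) v = 0) :
    ∃ e Z C, 0 < e ∧ e ≤ p ∧ Inv N Z ∧ Inv N C ∧ Z ⊓ C = ⊥ ∧ Z ⊔ C = X ∧ Module.finrank F Z = e ∧
      (∀ k, Module.finrank F (Z.map (N ^ k) : Submodule F V) = e - k) ∧
      ∃ v, LinearIndependent F (fun j : Fin e => (N ^ (j : ℕ)) v) ∧ (N ^ e) v = 0 ∧
        Z = Submodule.span F (Set.range fun j : Fin e => (N ^ (j : ℕ)) v) := by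
  classical
  have hex : ∃ e, ∀ v ∈ X, (N ^ e) v = 0 := ⟨p, hN⟩
  obtain ⟨e, he⟩ : ∃ e, e = Nat.find hex := ⟨_, rfl⟩
  have hspec : ∀ v ∈ X, (N ^ e) v = 0 := he ▸ Nat.find_spec hex
  have hep : e ≤ p := he ▸ Nat.find_min' hex hN
  have he0 : 0 < e := Nat.pos_of_ne_zero fun h => h0 (eq_bot_iff.2 fun v hv => by
    have := hspec v hv
    rw [h] at this
    simpa using this)
  obtain ⟨v, hv, hve⟩ : ∃ v ∈ X, (N ^ (e - 1)) v ≠ 0 := by
    by_contra hc
    push_neg at hc
    have := he ▸ Nat.find_min' hex hc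
    omega
  obtain ⟨L, hL⟩ : ∃ L : (Fin e → F) →ₗ[F] V, ∀ g, L g = ∑ j, g j • (N ^ (j : ℕ)) v :=
    ⟨Fintype.linearCombination F (fun j : Fin e => (N ^ (j : ℕ)) v), fun g => rfl⟩
  have hinj : Function.Injective L := by
    rw [← LinearMap.ker_eq_bot, LinearMap.ker_eq_bot']
    intro g hg
    rw [hL] at hg
    by_contra hg0
    have hex' : ∃ j, ∃ h : j < e, g ⟨j, h⟩ ≠ 0 := by
      by_contra hc
      push_neg at hc
      exact hg0 (funext fun j => hc j j.2)
    obtain ⟨hj, hgj⟩ := Nat.find_spec hex'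
    have h := congrArg (N ^ (e - 1 - Nat.find hex')) hg
    rw [map_sum, map_zero, Finset.sum_eq_single ⟨Nat.find hex', hj⟩] at h
    · rw [map_smul, ← Module.End.mul_apply, ← pow_add, show e - 1 - Nat.find hex' + Nat.find hex' = e - 1 by omega,
        smul_eq_zero] at h
      exact h.elim hgj hve
    · intro b _ hb
      rw [map_smul]
      rcases Nat.lt_trichotomy b.val (Nat.find hex') with hlt | heq | hgt
      · have := Nat.find_min hex' hlt
        push_neg at this
        rw [show g b = 0 from this b.2, zero_smul]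
      · exact absurd (Fin.ext heq) hb
      · rw [← Module.End.mul_apply, ← pow_add,
          show e - 1 - Nat.find hex' + b.val = e + (b.val - Nat.find hex' - 1) by omega, add_comm, pow_add,
          Module.End.mul_apply, hspec v hv, map_zero, smul_zero]
    · intro h; exact absurd (Finset.mem_univ _) h
  obtain ⟨φ, hφ⟩ : ∃ φ : V →ₗ[F] F, φ ((N ^ (e - 1)) v) = 1 := by
    obtain ⟨φ, hφ⟩ := LinearMap.exists_extend (LinearEquiv.coord F V ((N ^ (e - 1)) v) hve).toLinearMap
    refine ⟨φ, ?_⟩
    have := LinearMap.congr_fun hφ ⟨_, Submodule.mem_span_singleton_self _⟩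
    exact this.trans (LinearEquiv.coord_self F V _ hve)
  obtain ⟨Ψ, hΨ⟩ : ∃ Ψ : X →ₗ[F] (Fin e → F), ∀ x j, Ψ x j = φ ((N ^ (j : ℕ)) x) :=
    ⟨LinearMap.pi fun j : Fin e => φ.comp ((N ^ (j : ℕ)).comp X.subtype), fun x j => rfl⟩
  obtain ⟨Z, hZ⟩ : ∃ Z, Z = LinearMap.range L := ⟨_, rfl⟩
  have hZX : Z ≤ X := by
    rw [hZ]
    rintro _ ⟨g, rfl⟩
    rw [hL]
    exact X.sum_mem fun j _ => X.smul_mem _ (inv_pow hX _ v hv)
  have hZd : Module.finrank F Z = e := by rw [hZ, LinearMap.finrank_range_of_inj hinj, Module.finrank_fin_fun]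
  have hZspan : Z = Submodule.span F (Set.range fun j : Fin e => (N ^ (j : ℕ)) v) := by
    rw [hZ, ← Fintype.range_linearCombination]
    congr 1
    exact LinearMap.ext fun g => (hL g).trans rfl
  obtain ⟨C, hC⟩ : ∃ C, C = (LinearMap.ker Ψ).map X.subtype := ⟨_, rfl⟩
  have hCX : C ≤ X := hC ▸ Submodule.map_subtype_le _ _
  have hmemC : ∀ x, x ∈ C ↔ x ∈ X ∧ ∀ j, j < e → φ ((N ^ j) x) = 0 := by
    intro x
    rw [hC]
    constructor
    · rintro ⟨y, hy, rfl⟩
      exact ⟨y.2, fun j hj => by have := congrFun (LinearMap.mem_ker.1 hy) ⟨j, hj⟩; rwa [hΨ] at this⟩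
    · rintro ⟨hx, h⟩
      exact ⟨⟨x, hx⟩, LinearMap.mem_ker.2 (funext fun j => (hΨ _ j).trans (h j j.2)), rfl⟩
  have hCinv : Inv N C := by
    intro x hx
    rw [hmemC] at hx ⊢
    refine ⟨hX x hx.1, fun j hj => ?_⟩
    rw [← Module.End.mul_apply, ← pow_succ]
    rcases (show j + 1 < e ∨ j + 1 = e by omega) with h | h
    · exact hx.2 _ h
    · rw [h, hspec x hx.1, map_zero]
  have hdisj : Z ⊓ C = ⊥ := by
    rw [eq_bot_iff, hZ]
    rintro _ ⟨⟨g, rfl⟩, hgC⟩
    rw [SetLike.mem_coe, hmemC] at hgC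
    by_contra hg0
    have hg : g ≠ 0 := fun h => hg0 (by rw [h, map_zero]; exact Submodule.zero_mem _)
    have hex' : ∃ j, ∃ h : j < e, g ⟨j, h⟩ ≠ 0 := by
      by_contra hc
      push_neg at hc
      exact hg (funext fun j => hc j j.2)
    obtain ⟨hj, hgj⟩ := Nat.find_spec hex'
    have h := hgC.2 (e - 1 - Nat.find hex') (by omega)
    rw [hL, map_sum, map_sum, Finset.sum_eq_single ⟨Nat.find hex', hj⟩] at h
    · rw [map_smul, map_smul, ← Module.End.mul_apply, ← pow_add,
        show e - 1 - Nat.find hex' + Nat.find hex' = e - 1 by omega, hφ, smul_eq_mul, mul_one] at h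
      exact hgj h
    · intro b _ hb
      rw [map_smul, map_smul]
      rcases Nat.lt_trichotomy b.val (Nat.find hex') with hlt | heq | hgt
      · have := Nat.find_min hex' hlt
        push_neg at this
        rw [show g b = 0 from this b.2, zero_smul]
      · exact absurd (Fin.ext heq) hb
      · rw [← Module.End.mul_apply, ← pow_add,
          show e - 1 - Nat.find hex' + b.val = e + (b.val - Nat.find hex' - 1) by omega, add_comm, pow_add,
          Module.End.mul_apply, hspec v hv, map_zero, map_zero, smul_zero]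
    · intro h; exact absurd (Finset.mem_univ _) h
  have hsup : Z ⊔ C = X := by
    refine Submodule.eq_of_le_of_finrank_le (sup_le hZX hCX) ?_
    have h1 := LinearMap.finrank_range_add_finrank_ker Ψ
    have h2 : Module.finrank F (LinearMap.range Ψ) ≤ e := (Submodule.finrank_le _).trans (Module.finrank_fin_fun F).le
    have h3 : Module.finrank F C = Module.finrank F (LinearMap.ker Ψ) := by
      rw [hC]; exact (Submodule.equivMapOfInjective _ (Submodule.subtype_injective _) _).finrank_eq.symm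
    have h4 := Submodule.finrank_sup_add_finrank_inf_eq Z C
    rw [hdisj, finrank_bot, add_zero, hZd] at h4
    omega
  have hZinv : Inv N Z := by
    intro x hx
    rw [hZspan] at hx ⊢
    induction hx using Submodule.span_induction with
    | mem x hx =>
      obtain ⟨j, rfl⟩ := hx
      rw [← Module.End.mul_apply, ← pow_succ']
      rcases (show j.val + 1 < e ∨ j.val + 1 = e by omega) with h | h
      · exact Submodule.subset_span ⟨⟨j + 1, h⟩, rfl⟩
      · rw [h, hspec v hv]; exact Submodule.zero_mem _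
    | zero => simp
    | add x y _ _ hx hy => rw [map_add]; exact Submodule.add_mem _ hx hy
    | smul c x _ hx => rw [map_smul]; exact Submodule.smul_mem _ _ hx
  have hindep : LinearIndependent F (fun j : Fin e => (N ^ (j : ℕ)) v) := by
    rw [Fintype.linearIndependent_iff]
    intro g hg
    have : g = 0 := hinj (by rw [hL, map_zero]; exact hg)
    exact fun j => congrFun this j
  refine ⟨e, Z, C, he0, hep, hZinv, hCinv, hdisj, hsup, hZd, fun k => ?_, v, hindep, hspec v hv, hZspan⟩
  have himg : Z.map (N ^ k) = Submodule.span F (Set.range fun j : Fin (e - k) => (N ^ (j.val + k)) v) := by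
    rw [hZspan, Submodule.map_span]
    refine le_antisymm (Submodule.span_le.2 ?_) (Submodule.span_le.2 ?_)
    · rintro _ ⟨_, ⟨j, rfl⟩, rfl⟩
      rw [← Module.End.mul_apply, ← pow_add, add_comm]
      by_cases h : j.val < e - k
      · exact Submodule.subset_span ⟨⟨j, h⟩, rfl⟩
      · rw [show j.val + k = (j.val + k - e) + e by omega, pow_add, Module.End.mul_apply, hspec v hv, map_zero]
        exact Submodule.zero_mem _
    · rintro _ ⟨j, rfl⟩
      refine Submodule.subset_span ⟨(N ^ j.val) v, ⟨⟨j, by omega⟩, rfl⟩, ?_⟩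
      rw [← Module.End.mul_apply, ← pow_add, add_comm]
  have hind : LinearIndependent F (fun j : Fin e => (N ^ (j : ℕ)) v) := by
    rw [Fintype.linearIndependent_iff]
    intro g hg
    have : g = 0 := hinj (by rw [hL, map_zero]; exact hg)
    exact fun j => congrFun this j
  rw [himg]
  exact (finrank_span_eq_card (hind.comp (fun j : Fin (e - k) => (⟨j.val + k, by omega⟩ : Fin e))
    fun a b h => Fin.ext (by have := congrArg Fin.val h; simp at this; omega))).trans (Fintype.card_fin _)

/-- A cyclic summand of maximal length with an invariant complement. -/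
theorem exists_cyclic {N : V →ₗ[F] V} {X : Submodule F V} (hX : Inv N X) (h0 : X ≠ ⊥) {p : ℕ} (hN : ∀ v ∈ X, (N ^ p) v = 0) :
    ∃ e Z C, 0 < e ∧ e ≤ p ∧ Inv N Z ∧ Inv N C ∧ Z ⊓ C = ⊥ ∧ Z ⊔ C = X ∧ Module.finrank F Z = e ∧
      ∀ k, Module.finrank F (Z.map (N ^ k) : Submodule F V) = e - k := by
  obtain ⟨e, Z, C, h1, h2, h3, h4, h5, h6, h7, h8, -⟩ := exists_cyclic_vec hX h0 hN
  exact ⟨e, Z, C, h1, h2, h3, h4, h5, h6, h7, h8⟩

/-- The rank function of a partition. -/
def prank (μ : Multiset ℕ) (k : ℕ) : ℕ := (μ.map fun a => a - k).sum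

theorem rank_add {N : V →ₗ[F] V} {A B : Submodule F V} (hA : Inv N A) (hB : Inv N B) (h : A ⊓ B = ⊥) (k : ℕ) :
    Module.finrank F ((A ⊔ B).map (N ^ k) : Submodule F V) =
      Module.finrank F (A.map (N ^ k) : Submodule F V) + Module.finrank F (B.map (N ^ k) : Submodule F V) := by
  rw [Submodule.map_sup, ← Submodule.finrank_sup_add_finrank_inf_eq]
  have h1 : A.map (N ^ k) ≤ A := by rintro _ ⟨x, hx, rfl⟩; exact inv_pow hA k x hx
  have h2 : B.map (N ^ k) ≤ B := by rintro _ ⟨x, hx, rfl⟩; exact inv_pow hB k x hx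
  rw [show A.map (N ^ k) ⊓ B.map (N ^ k) = ⊥ from le_bot_iff.1 (h ▸ inf_le_inf h1 h2), finrank_bot, add_zero]

theorem exists_partition {N : V →ₗ[F] V} {X : Submodule F V} (hX : Inv N X) {p : ℕ} (hN : ∀ v ∈ X, (N ^ p) v = 0) :
    ∃ μ : Multiset ℕ, (∀ a ∈ μ, 0 < a ∧ a ≤ p) ∧ μ.sum = Module.finrank F X ∧
      (∀ k, Module.finrank F (X.map (N ^ k) : Submodule F V) = prank μ k) ∧
      ∀ ν ≤ μ, ∃ U W, Inv N U ∧ Inv N W ∧ U ⊓ W = ⊥ ∧ U ⊔ W = X ∧ Module.finrank F U = ν.sum := by
  obtain ⟨d, hd⟩ : ∃ d, Module.finrank F X = d := ⟨_, rfl⟩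
  induction d using Nat.strong_induction_on generalizing X with
  | _ d ih =>
    by_cases h0 : X = ⊥
    · subst h0
      refine ⟨0, by simp, by simp, fun k => by simp [prank], fun ν hν => ?_⟩
      have hz : Inv N (⊥ : Submodule F V) := fun w hw => by
        rw [(Submodule.mem_bot F).1 hw, map_zero]; exact Submodule.zero_mem _
      exact ⟨⊥, ⊥, hz, hz, bot_inf_eq _, bot_sup_eq _, by rw [le_bot_iff.1 hν]; simp⟩
    obtain ⟨e, Z, C, he, hep, hZ, hC, hd', hs, hZd, hZr⟩ := exists_cyclic hX h0 hN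
    have hadd := Submodule.finrank_sup_add_finrank_inf_eq Z C
    rw [hd', hs, finrank_bot, add_zero, hZd] at hadd
    obtain ⟨μ, h1, h2, h3, h4⟩ := ih _ (by omega) hC (fun v hv => hN v (hs ▸ Submodule.mem_sup_right hv)) rfl
    refine ⟨e ::ₘ μ, fun a ha => ?_, by rw [Multiset.sum_cons, h2, hadd], fun k => ?_, fun ν hν => ?_⟩
    · rcases Multiset.mem_cons.1 ha with rfl | ha
      · exact ⟨he, hep⟩
      · exact h1 a ha
    · rw [← hs, rank_add hZ hC hd', hZr, h3]
      simp [prank]
    · by_cases hmem : e ∈ ν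
      · obtain ⟨ν', rfl⟩ := Multiset.exists_cons_of_mem hmem
        obtain ⟨U, W, hU, hW, hi, hUW, hUd⟩ := h4 ν' ((Multiset.cons_le_cons_iff e).1 hν)
        refine ⟨Z ⊔ U, W, fun x hx => ?_, hW, ?_, by rw [sup_assoc, hUW, hs], ?_⟩
        · obtain ⟨a, ha, b, hb, rfl⟩ := Submodule.mem_sup.1 hx
          rw [map_add]
          exact Submodule.add_mem_sup (hZ a ha) (hU b hb)
        · have hUC : U ≤ C := hUW ▸ le_sup_left
          have hWC : W ≤ C := hUW ▸ le_sup_right
          rw [eq_bot_iff]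
          rintro x ⟨hx, hxW⟩
          obtain ⟨a, ha, b, hb, rfl⟩ := Submodule.mem_sup.1 hx
          have ha0 : a = 0 := (Submodule.mem_bot F).1 (hd' ▸ ⟨ha, by
            have := C.sub_mem (hWC hxW) (hUC hb); rwa [add_sub_cancel_right] at this⟩)
          subst ha0
          rw [zero_add] at hxW ⊢
          exact hi ▸ ⟨hb, hxW⟩
        · have hUC : U ≤ C := hUW ▸ le_sup_left
          have h5 := Submodule.finrank_sup_add_finrank_inf_eq Z U
          rw [show Z ⊓ U = ⊥ from le_bot_iff.1 (hd' ▸ inf_le_inf_left Z hUC), finrank_bot, add_zero, hZd, hUd] at h5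
          rw [h5, Multiset.sum_cons]
      · obtain ⟨U, W, hU, hW, hi, hUW, hUd⟩ := h4 ν ((Multiset.le_cons_of_notMem hmem).1 hν)
        refine ⟨U, W ⊔ Z, hU, fun x hx => ?_, ?_, by rw [← sup_assoc, hUW, sup_comm, hs], hUd⟩
        · obtain ⟨a, ha, b, hb, rfl⟩ := Submodule.mem_sup.1 hx
          rw [map_add]
          exact Submodule.add_mem_sup (hW a ha) (hZ b hb)
        · have hUC : U ≤ C := hUW ▸ le_sup_left
          have hWC : W ≤ C := hUW ▸ le_sup_right
          rw [eq_bot_iff]
          rintro x ⟨hxU, hx⟩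
          obtain ⟨a, ha, b, hb, rfl⟩ := Submodule.mem_sup.1 hx
          have hb0 : b = 0 := (Submodule.mem_bot F).1 (hd' ▸ ⟨hb, by
            have := C.sub_mem (hUC hxU) (hWC ha); rwa [add_sub_cancel_left] at this⟩)
          subst hb0
          rw [add_zero] at hxU ⊢
          exact hi ▸ ⟨hxU, ha⟩

theorem prank_add (μ ν : Multiset ℕ) (k : ℕ) : prank (μ + ν) k = prank μ k + prank ν k := by
  simp [prank]

theorem prank_count {μ : Multiset ℕ} {a : ℕ} (ha : 0 < a) :
    μ.count a + 2 * prank μ a = prank μ (a - 1) + prank μ (a + 1) := by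
  induction μ using Multiset.induction with
  | empty => simp [prank]
  | cons b μ ih =>
    rw [Multiset.count_cons]
    simp only [prank, Multiset.map_cons, Multiset.sum_cons] at ih ⊢
    split_ifs with h <;> omega

theorem eq_of_prank {μ ν : Multiset ℕ} (hμ : ∀ a ∈ μ, 0 < a) (hν : ∀ a ∈ ν, 0 < a)
    (h : ∀ k, prank μ k = prank ν k) : μ = ν := by
  refine Multiset.ext.2 fun a => ?_
  rcases Nat.eq_zero_or_pos a with rfl | ha
  · rw [Multiset.count_eq_zero.2 fun h => lt_irrefl 0 (hμ 0 h), Multiset.count_eq_zero.2 fun h => lt_irrefl 0 (hν 0 h)]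
  · have h1 := prank_count (μ := μ) ha
    have h2 := prank_count (μ := ν) ha
    rw [h, h, h] at h1
    omega

/-- Invariant complementary subspaces split the partition. -/
theorem split_partition {N : V →ₗ[F] V} {p : ℕ} (hN : ∀ v, (N ^ p) v = 0) {μ : Multiset ℕ} (hμ : ∀ a ∈ μ, 0 < a)
    (hrank : ∀ k, Module.finrank F (LinearMap.range (N ^ k)) = prank μ k) {U W : Submodule F V}
    (hU : Inv N U) (hW : Inv N W) (hc : IsCompl U W) :
    ∃ ν ≤ μ, ν.sum = Module.finrank F U := by
  obtain ⟨α, a1, a2, a3, -⟩ := exists_partition hU (p := p) fun v _ => hN v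
  obtain ⟨β, b1, -, b3, -⟩ := exists_partition hW (p := p) fun v _ => hN v
  have : α + β = μ := by
    refine eq_of_prank (fun a ha => ?_) hμ fun k => ?_
    · rcases Multiset.mem_add.1 ha with h | h
      · exact (a1 a h).1
      · exact (b1 a h).1
    · rw [prank_add, ← a3, ← b3, ← rank_add hU hW hc.inf_eq_bot, hc.sup_eq_top, Submodule.map_top, hrank]
  exact ⟨α, this ▸ Multiset.le_add_right α β, a2⟩

theorem rank_conj {V' : Type*} [AddCommGroup V'] [Module F V'] (e : V ≃ₗ[F] V') (N : V →ₗ[F] V) (k : ℕ) :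
    Module.finrank F (LinearMap.range ((e.conj N) ^ k)) = Module.finrank F (LinearMap.range (N ^ k)) := by
  have h : (e.conj N) ^ k = e.conj (N ^ k) := by
    induction k with
    | zero => rw [pow_zero, pow_zero]; exact (LinearEquiv.conj_id e).symm
    | succ k ih => rw [pow_succ, pow_succ, ih]; exact (LinearEquiv.conj_comp e _ _).symm
  rw [h, LinearEquiv.conj_apply, LinearMap.range_comp_of_range_eq_top _ (by simp), LinearMap.range_comp]
  exact LinearEquiv.finrank_map_eq e _

/-- A nilpotent map of every given partition. -/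
theorem exists_nilpotent (F : Type*) [Field F] [Fintype F] (μ : Multiset ℕ) :
    ∃ N : (Fin μ.sum → F) →ₗ[F] (Fin μ.sum → F), ∀ k, Module.finrank F (LinearMap.range (N ^ k)) = prank μ k := by
  induction μ using Multiset.induction with
  | empty =>
    refine ⟨0, fun k => ?_⟩
    rw [show prank 0 k = 0 from rfl]
    exact Nat.le_zero.1 ((Submodule.finrank_le _).trans (le_of_eq ((Module.finrank_fin_fun F).trans Multiset.sum_zero)))
  | cons a μ ih =>
    obtain ⟨N, hN⟩ := ih
    obtain ⟨M, hM⟩ : ∃ M : ((Fin a → F) × (Fin μ.sum → F)) →ₗ[F] ((Fin a → F) × (Fin μ.sum → F)),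
        M = (shift F a).prodMap N := ⟨_, rfl⟩
    let e : ((Fin a → F) × (Fin μ.sum → F)) ≃ₗ[F] (Fin (a ::ₘ μ).sum → F) :=
      LinearEquiv.ofFinrankEq _ _ (by simp [Module.finrank_prod])
    refine ⟨e.conj M, fun k => ?_⟩
    rw [rank_conj, hM]
    have hpow : ((shift F a).prodMap N) ^ k = ((shift F a) ^ k).prodMap (N ^ k) := by
      induction k with
      | zero => rfl
      | succ k ih => rw [pow_succ, ih, pow_succ, pow_succ]; rfl
    rw [hpow, LinearMap.range_prodMap, LinearMap.prod_eq_sup_map]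
    have hs := Submodule.finrank_sup_add_finrank_inf_eq
      ((LinearMap.range ((shift F a) ^ k)).map (LinearMap.inl F (Fin a → F) (Fin μ.sum → F)))
      ((LinearMap.range (N ^ k)).map (LinearMap.inr F (Fin a → F) (Fin μ.sum → F)))
    rw [← (Submodule.equivMapOfInjective _ LinearMap.inl_injective (LinearMap.range ((shift F a) ^ k))).finrank_eq,
      ← (Submodule.equivMapOfInjective _ LinearMap.inr_injective (LinearMap.range (N ^ k))).finrank_eq, hN,
      show ((LinearMap.range ((shift F a) ^ k)).map (LinearMap.inl F (Fin a → F) (Fin μ.sum → F))) ⊓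
        ((LinearMap.range (N ^ k)).map (LinearMap.inr F (Fin a → F) (Fin μ.sum → F))) = ⊥ from
        le_bot_iff.1 ((inf_le_inf LinearMap.map_le_range LinearMap.map_le_range).trans
          LinearMap.disjoint_inl_inr.le_bot), finrank_bot, add_zero] at hs
    rw [hs, show prank (a ::ₘ μ) k = (a - k) + prank μ k by simp [prank]]
    congr 1
    obtain ⟨R, hR⟩ : ∃ R : (Fin a → F) →ₗ[F] (Fin (a - k) → F), ∀ v i, R v i = v ⟨i.val + k, by omega⟩ :=
      ⟨LinearMap.funLeft F F fun i => ⟨i.val + k, by omega⟩, fun v i => rfl⟩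
    have hker : LinearMap.ker ((shift F a) ^ k) = LinearMap.ker R := by
      ext v
      rw [LinearMap.mem_ker, LinearMap.mem_ker]
      constructor
      · intro h
        funext i
        have := congrFun h ⟨i.val, by omega⟩
        rw [shift_pow, dif_pos (show i.val + k < a by omega)] at this
        rw [hR]
        exact this
      · intro h
        funext i
        rw [shift_pow]
        by_cases hi : i.val + k < a
        · rw [dif_pos hi]
          have := congrFun h ⟨i.val, by omega⟩
          rw [hR] at this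
          exact this
        · rw [dif_neg hi]; rfl
    have h1 := LinearMap.finrank_range_add_finrank_ker ((shift F a) ^ k)
    have h2 := LinearMap.finrank_range_add_finrank_ker R
    have hsurj : LinearMap.range R = ⊤ := LinearMap.range_eq_top.2 fun w =>
      ⟨fun i => if h : k ≤ i.val then w ⟨i.val - k, by omega⟩ else 0, funext fun i => by
        rw [hR, dif_pos (show k ≤ i.val + k by omega)]
        congr 1
        exact Fin.ext (by simp)⟩
    rw [hsurj, finrank_top, Module.finrank_fin_fun] at h2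
    rw [hker] at h1
    simp only [Module.finrank_fin_fun] at h1 h2 ⊢
    omega

end CfsgLib.Classical22.NilPart
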