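/-
Witness matrices of prime order modulo scalars, and their determinants.
-/
import Cfsg.Agent.Lib.Classical22.SubspaceCount

set_option autoImplicit false

namespace CfsgLib.Classical22.PrimeMaps

open Matrix Polynomial

variable {F : Type*} [Field F] [Fintype F]

theorem card_grass_dual {V : Type*} [AddCommGroup V] [Module F V] [FiniteDimensional F V] {m : ℕ}
    (hm : m ≤ Module.finrank F V) : Nat.card (Grass F V m) = Nat.card (Grass F V (Module.finrank F V - m)) := by
  rw [card_grass_congr (LinearEquiv.ofFinrankEq V (Module.Dual F V) Subspace.dual_finrank_eq.symm)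
    (Module.finrank F V - m)]
  refine Nat.card_congr (((Subspace.orderIsoFiniteDimensional (K := F) (V := V)).toEquiv.trans OrderDual.ofDual).subtypeEquiv
    fun W => ?_)
  have h := Subspace.finrank_add_finrank_dualAnnihilator_eq W
  change _ ↔ Module.finrank F W.dualAnnihilator = _
  omega

/-- The determinant of a matrix whose `r`-th power is a scalar that is no `r`-th power. -/
theorem det_nonpower {n r : ℕ} (hr : r.Prime) {c : F} (hc : ∀ b : F, b ^ r ≠ c) (A : Matrix (Fin n) (Fin n) F)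
    (hA : A ^ r = c • (1 : Matrix (Fin n) (Fin n) F)) : r ∣ n ∧ A.det = ((-1) ^ (r + 1) * c) ^ (n / r) := by
  classical
  have hP : Irreducible (X ^ r - Polynomial.C c : F[X]) := X_pow_sub_C_irreducible_of_prime hr hc
  have hdvd : ∀ Q : F[X], Irreducible Q → Q ∣ A.charpoly → Associated Q (X ^ r - Polynomial.C c) := by
    intro Q hQ hQA
    refine hQ.associated_of_dvd hP ?_
    haveI : Fact (Irreducible Q) := ⟨hQ⟩
    obtain ⟨L, hL, φ, hφ⟩ : ∃ (L : Matrix (Fin n) (Fin n) (AdjoinRoot Q)) (_ : L = A.map (algebraMap F (AdjoinRoot Q)))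
        (φ : Matrix (Fin n) (Fin n) F →+* Matrix (Fin n) (Fin n) (AdjoinRoot Q)),
        φ = (algebraMap F (AdjoinRoot Q)).mapMatrix := ⟨_, rfl, _, rfl⟩
    have hroot : L.charpoly.IsRoot (AdjoinRoot.root Q) := by
      rw [hL, Matrix.charpoly_map, IsRoot.def, eval_map_algebraMap]
      obtain ⟨S, hS⟩ := hQA
      rw [hS, map_mul, AdjoinRoot.aeval_eq Q, AdjoinRoot.mk_self, zero_mul]
    rw [IsRoot.def, Matrix.eval_charpoly] at hroot
    obtain ⟨v, hv0, hv⟩ := Matrix.exists_mulVec_eq_zero_iff.2 hroot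
    have hLv : L *ᵥ v = AdjoinRoot.root Q • v := by
      rw [Matrix.sub_mulVec, Matrix.scalar_apply, sub_eq_zero] at hv
      rw [← hv]
      funext i
      simp [Matrix.mulVec_diagonal]
    have hpow : ∀ k : ℕ, (L ^ k) *ᵥ v = (AdjoinRoot.root Q) ^ k • v := by
      intro k
      induction k with
      | zero => simp
      | succ k ih => rw [pow_succ, ← Matrix.mulVec_mulVec, hLv, Matrix.mulVec_smul, ih, smul_smul, pow_succ, mul_comm]
    have hLr : L ^ r = algebraMap F (AdjoinRoot Q) c • (1 : Matrix (Fin n) (Fin n) (AdjoinRoot Q)) := by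
      rw [show L = φ A by rw [hL, hφ]; rfl, ← map_pow, hA, hφ]
      ext i j
      by_cases hij : i = j <;> simp [hij]
    have h := hpow r
    rw [hLr, Matrix.smul_mulVec, Matrix.one_mulVec] at h
    obtain ⟨i, hi⟩ : ∃ i, v i ≠ 0 := by
      by_contra hc
      push_neg at hc
      exact hv0 (funext hc)
    have h2 := congrFun h i
    simp only [Pi.smul_apply, smul_eq_mul] at h2
    rw [← AdjoinRoot.mk_eq_zero, map_sub, map_pow, AdjoinRoot.mk_X, AdjoinRoot.mk_C, ← mul_right_cancel₀ hi h2]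
    exact sub_self _
  -- the characteristic polynomial is a power of the irreducible binomial
  have key : ∀ (d : ℕ) (S : F[X]), S.natDegree = d → S.Monic → S ∣ A.charpoly →
      ∃ k, S = (X ^ r - Polynomial.C c) ^ k := by
    intro d
    induction d using Nat.strong_induction_on with
    | _ d ih =>
      intro S hd hS hSA
      by_cases h0 : S.natDegree = 0
      · exact ⟨0, by rw [pow_zero, hS.natDegree_eq_zero.1 h0]⟩
      obtain ⟨Q, hQ, hQS⟩ := WfDvdMonoid.exists_irreducible_factor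
        (fun hu => h0 (Polynomial.natDegree_eq_zero_of_isUnit hu)) hS.ne_zero
      obtain ⟨T, hT⟩ := ((hdvd Q hQ (hQS.trans hSA)).symm.dvd.trans hQS)
      have hTm : T.Monic := (monic_X_pow_sub_C c hr.ne_zero).of_mul_monic_left (hT ▸ hS)
      have hdeg : S.natDegree = r + T.natDegree := by
        rw [hT, (monic_X_pow_sub_C c hr.ne_zero).natDegree_mul hTm, natDegree_X_pow_sub_C]
      obtain ⟨k, hk⟩ := ih T.natDegree (by have := hr.pos; omega) T rfl hTm ((Dvd.intro_left _ hT.symm).trans hSA)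
      exact ⟨k + 1, by rw [hT, hk, pow_succ']⟩
  obtain ⟨k, hk⟩ := key _ A.charpoly rfl A.charpoly_monic dvd_rfl
  have hn : n = k * r := by
    have h := congrArg Polynomial.natDegree hk
    rw [Matrix.charpoly_natDegree_eq_dim, natDegree_pow, natDegree_X_pow_sub_C, Fintype.card_fin] at h
    exact h
  refine ⟨⟨k, by rw [hn, mul_comm]⟩, ?_⟩
  rw [Matrix.det_eq_sign_charpoly_coeff, hk, coeff_zero_eq_eval_zero, eval_pow, Fintype.card_fin, hn,
    Nat.mul_div_cancel _ hr.pos, eval_sub, eval_pow, eval_X, eval_C, zero_pow hr.ne_zero, zero_sub, mul_comm k r,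
    pow_mul, ← mul_pow]
  congr 1
  ring

theorem exists_nonpower_matrix {n r : ℕ} (hr : r.Prime) (hrn : r ∣ n) (hn : 0 < n) {c : F} (hc : ∀ b : F, b ^ r ≠ c) :
    ∃ A : Matrix (Fin n) (Fin n) F, A ^ r = c • 1 ∧ ∀ z : F, A ≠ z • 1 := by
  classical
  obtain ⟨l, rfl⟩ := hrn
  obtain ⟨P, hPdef⟩ : ∃ P : F[X], P = X ^ r - Polynomial.C c := ⟨_, rfl⟩
  have hP0 : P ≠ 0 := hPdef ▸ X_pow_sub_C_ne_zero hr.pos c
  have hdim : (AdjoinRoot.powerBasis hP0).dim = r := by rw [AdjoinRoot.powerBasis_dim, hPdef, natDegree_X_pow_sub_C]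
  let b : Module.Basis (Fin r) F (AdjoinRoot P) := (AdjoinRoot.powerBasis hP0).basis.reindex (finCongr hdim)
  obtain ⟨M, hM⟩ : ∃ M : Matrix (Fin r) (Fin r) F, M = Algebra.leftMulMatrix b (AdjoinRoot.root P) := ⟨_, rfl⟩
  have hroot : (AdjoinRoot.root P) ^ r = algebraMap F (AdjoinRoot P) c := by
    have h : AdjoinRoot.mk P (X ^ r - Polynomial.C c) = 0 := by rw [← hPdef, AdjoinRoot.mk_self]
    rwa [map_sub, map_pow, AdjoinRoot.mk_X, AdjoinRoot.mk_C, sub_eq_zero] at h
  have hMr : M ^ r = c • 1 := by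
    rw [hM, ← map_pow, hroot, AlgHom.commutes, Algebra.algebraMap_eq_smul_one]
  obtain ⟨A, hA⟩ : ∃ A : Matrix (Fin (r * l)) (Fin (r * l)) F, A = Matrix.reindexAlgEquiv F F finProdFinEquiv
      (Matrix.blockDiagonal fun _ : Fin l => M) := ⟨_, rfl⟩
  have hAr : A ^ r = c • 1 := by
    rw [hA, ← map_pow, ← Matrix.blockDiagonal_pow, show ((fun _ : Fin l => M) ^ r) = c • (1 : Fin l → Matrix (Fin r) (Fin r) F)
      from funext fun _ => hMr, Matrix.blockDiagonal_smul, Matrix.blockDiagonal_one, map_smul, map_one]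
  refine ⟨A, hAr, fun z hz => ?_⟩
  haveI : Nonempty (Fin (r * l)) := ⟨⟨0, hn⟩⟩
  rw [hz, _root_.smul_pow, one_pow] at hAr
  exact hc z (by simpa using congrFun (congrFun hAr ⟨0, hn⟩) ⟨0, hn⟩)

/-- An element of order `r` with smallest possible fixed space. -/
theorem exists_order_matrix {n r : ℕ} [hr : Fact r.Prime] (hrF : (r : F) ≠ 0)
    (h2 : 2 ≤ orderOf (Fintype.card F : ZMod r)) (hn : orderOf (Fintype.card F : ZMod r) ≤ n) :
    ∃ A : Matrix (Fin n) (Fin n) F, A ^ r = 1 ∧ A.det = 1 ∧ (∀ z : F, A ≠ z • 1) ∧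
      Module.finrank F (fixed (Matrix.toLin' A)) ≤ n % orderOf (Fintype.card F : ZMod r) := by
  classical
  obtain ⟨i, hi⟩ : ∃ i, i = orderOf (Fintype.card F : ZMod r) := ⟨_, rfl⟩
  rw [← hi] at h2 hn ⊢
  have hno : ∀ z : F, z ^ r = 1 → z = 1 := by
    intro z hz
    by_contra hz1
    have hz0 : z ≠ 0 := fun h => by rw [h, zero_pow hr.out.ne_zero] at hz; exact zero_ne_one hz
    have hd : r ∣ Fintype.card F - 1 :=
      (orderOf_eq_prime hz hz1) ▸ orderOf_dvd_of_pow_eq_one (FiniteField.pow_card_sub_one_eq_one z hz0)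
    have h1 : ((Fintype.card F : ℕ) : ZMod r) = 1 := by
      rw [← Nat.sub_add_cancel (Fintype.card_pos (α := F)), Nat.cast_add, (ZMod.natCast_eq_zero_iff _ _).2 hd,
        zero_add, Nat.cast_one]
    rw [h1, orderOf_one] at hi
    omega
  obtain ⟨p, hp⟩ := CharP.exists F
  haveI : Fact p.Prime := ⟨CharP.char_is_prime F p⟩
  haveI : NeZero i := ⟨by omega⟩
  haveI : Fintype (FiniteField.Extension F p i) := Fintype.ofFinite _
  have hK : Fintype.card (FiniteField.Extension F p i) = Fintype.card F ^ i := by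
    rw [Fintype.card_eq_nat_card, FiniteField.natCard_extension, Nat.card_eq_fintype_card]
  obtain ⟨ζ, hζ⟩ : ∃ ζ : (FiniteField.Extension F p i)ˣ, orderOf ζ = r := by
    refine exists_prime_orderOf_dvd_card' r ?_
    rw [Nat.card_eq_fintype_card, Fintype.card_units, hK]
    refine (ZMod.natCast_eq_zero_iff _ _).1 ?_
    rw [Nat.cast_sub (Nat.one_le_pow _ _ Fintype.card_pos), Nat.cast_pow, hi, pow_orderOf_eq_one, Nat.cast_one, sub_self]
  have hζr : (ζ : FiniteField.Extension F p i) ^ r = 1 := by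
    rw [← Units.val_pow_eq_pow_val, ← hζ, pow_orderOf_eq_one, Units.val_one]
  have hζ1 : (ζ : FiniteField.Extension F p i) ≠ 1 := fun h => hr.out.ne_one (by
    rw [← hζ, orderOf_eq_one_iff]; exact Units.ext h)
  let b : Module.Basis (Fin i) F (FiniteField.Extension F p i) :=
    (Module.finBasis F _).reindex (finCongr (FiniteField.finrank_extension F p i))
  obtain ⟨M, hM⟩ : ∃ M : Matrix (Fin i) (Fin i) F, M = Algebra.leftMulMatrix b (ζ : FiniteField.Extension F p i) :=
    ⟨_, rfl⟩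
  have hMr : M ^ r = 1 := by rw [hM, ← map_pow, hζr, map_one]
  obtain ⟨l, hl⟩ : ∃ l, l = n / i := ⟨_, rfl⟩
  let e : (Fin i × Fin l) ⊕ Fin (n % i) ≃ Fin n :=
    ((Equiv.sumCongr finProdFinEquiv (Equiv.refl _)).trans finSumFinEquiv).trans
      (finCongr (by rw [hl]; exact Nat.div_add_mod n i))
  obtain ⟨B, hB⟩ : ∃ B : Matrix ((Fin i × Fin l) ⊕ Fin (n % i)) ((Fin i × Fin l) ⊕ Fin (n % i)) F,
      B = Matrix.fromBlocks (Matrix.blockDiagonal fun _ => M) 0 0 1 := ⟨_, rfl⟩
  have hBr : B ^ r = 1 := by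
    rw [hB, Matrix.fromBlocks_diagonal_pow, one_pow, ← Matrix.blockDiagonal_pow,
      show ((fun _ : Fin l => M) ^ r) = 1 from funext fun _ => hMr, Matrix.blockDiagonal_one, Matrix.fromBlocks_one]
  obtain ⟨A, hA⟩ : ∃ A : Matrix (Fin n) (Fin n) F, A = Matrix.reindexAlgEquiv F F e B := ⟨_, rfl⟩
  have hAr : A ^ r = 1 := by rw [hA, ← map_pow, hBr, map_one]
  have hfix : Module.finrank F (fixed (Matrix.toLin' A)) ≤ n % i := by
    obtain ⟨φ, hφ⟩ : ∃ φ : fixed (Matrix.toLin' A) →ₗ[F] (Fin (n % i) → F),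
        ∀ v j, φ v j = (v : Fin n → F) (e (.inr j)) :=
      ⟨LinearMap.pi fun j => (LinearMap.proj (e (.inr j))).comp (fixed (Matrix.toLin' A)).subtype, fun v j => rfl⟩
    refine (LinearMap.finrank_le_finrank_of_injective (f := φ) ?_).trans (le_of_eq (Module.finrank_fin_fun F))
    rw [← LinearMap.ker_eq_bot, LinearMap.ker_eq_bot']
    intro v hv
    have hvA := mem_fixed.1 v.2
    rw [Matrix.toLin'_apply] at hvA
    obtain ⟨u, hu⟩ : ∃ u, u = (v : Fin n → F) := ⟨_, rfl⟩
    rw [← hu] at hvA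
    have hBw : B *ᵥ ((v : Fin n → F) ∘ e) = (v : Fin n → F) ∘ e := by
      rw [← hu]
      conv_rhs => rw [← hvA, hA, Matrix.reindexAlgEquiv_apply, Matrix.reindex_apply,
        Matrix.submatrix_mulVec_equiv]
      funext x
      simp
    refine Subtype.ext (funext fun x => ?_)
    obtain ⟨y, rfl⟩ := e.surjective x
    rcases y with ⟨a, s⟩ | j
    swap
    · rw [← hφ]; rw [hv]; rfl
    obtain ⟨w, hw⟩ : ∃ w : Fin i → F, w = fun a => (v : Fin n → F) (e (.inl (a, s))) := ⟨_, rfl⟩
    have hMw : M *ᵥ w = w := by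
      funext a
      have h := congrFun hBw (.inl (a, s))
      simp only [hB, Matrix.fromBlocks_mulVec, Sum.elim_inl, Matrix.zero_mulVec, add_zero, Function.comp_apply] at h
      rw [hw]
      dsimp only
      rw [← h]
      simp [Matrix.mulVec, dotProduct, Matrix.blockDiagonal_apply, Fintype.sum_prod_type, hw]
    have h0 : b.equivFun.symm w = 0 := by
      have h1 : (ζ : FiniteField.Extension F p i) * b.equivFun.symm w = b.equivFun.symm w := by
        refine b.equivFun.injective ?_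
        have h2 := Algebra.leftMulMatrix_mulVec_repr b (ζ : FiniteField.Extension F p i) (b.equivFun.symm w)
        simp only [← Module.Basis.equivFun_apply, LinearEquiv.apply_symm_apply, ← hM, hMw] at h2 ⊢
        exact h2.symm
      by_contra h0
      exact hζ1 ((mul_eq_right₀ h0).1 h1)
    have := congrFun ((LinearEquiv.map_eq_zero_iff _).1 h0) a
    rw [hw] at this
    simpa using this
  refine ⟨A, hAr, ?_, ?_, hfix⟩
  · refine hno _ ?_
    rw [← Matrix.det_pow, hAr, Matrix.det_one]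
  · intro z hz
    rw [hz, _root_.smul_pow, one_pow] at hAr
    haveI : Nonempty (Fin n) := ⟨⟨0, by omega⟩⟩
    have hz1 := hno z (by simpa using congrFun (congrFun hAr ⟨0, by omega⟩) ⟨0, by omega⟩)
    rw [hz1, one_smul] at hz
    rw [hz, Matrix.toLin'_one] at hfix
    have htop : fixed (LinearMap.id : (Fin n → F) →ₗ[F] (Fin n → F)) = ⊤ :=
      eq_top_iff.2 fun v _ => mem_fixed.2 rfl
    rw [htop, finrank_top, Module.finrank_fin_fun] at hfix
    have := Nat.mod_lt n (show i > 0 by omega)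
    omega

end CfsgLib.Classical22.PrimeMaps
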