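/-
Elements of prime order of `PSL_n(q)` fixing a subspace of given dimension.
-/
import Cfsg.Agent.Lib.Classical22.PrimeOrderWitness

set_option autoImplicit false

namespace CfsgLib.Classical22.PrimeMaps

open Matrix

variable {F : Type*} [Field F] [Fintype F]

theorem exists_gen : ∃ g : Fˣ, orderOf g = Fintype.card F - 1 ∧ ∀ x : Fˣ, ∃ k : ℕ, g ^ k = x := by
  obtain ⟨g, hg⟩ := IsCyclic.exists_generator (α := Fˣ)
  refine ⟨g, ?_, fun x => ?_⟩
  · classical
    rw [orderOf_eq_card_of_forall_mem_zpowers hg, Nat.card_eq_fintype_card, Fintype.card_units]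
  · exact Submonoid.mem_powers_iff _ _ |>.1 (mem_powers_iff_mem_zpowers.2 (hg x))

/-- Some root of unity of order dividing `l` is no `r`-th power. -/
theorem exists_nonpower_root {r l : ℕ} [hr : Fact r.Prime] (hl : l ≠ 0) (hrN : r ∣ Fintype.card F - 1)
    (hv : padicValNat r (Fintype.card F - 1) ≤ padicValNat r l) :
    ∃ c : F, c ^ l = 1 ∧ ∀ b : F, b ^ r ≠ c := by
  classical
  obtain ⟨g, hgo, -⟩ := exists_gen (F := F)
  obtain ⟨N, hN⟩ : ∃ N, Fintype.card F - 1 = N := ⟨_, rfl⟩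
  rw [hN] at hgo hrN hv
  have hN0 : N ≠ 0 := by have := Fintype.one_lt_card (α := F); omega
  obtain ⟨j, hj⟩ := pow_padicValNat_dvd (p := r) (n := N)
  refine ⟨((g ^ j : Fˣ) : F), ?_, fun b hb => ?_⟩
  · obtain ⟨t, ht⟩ : r ^ padicValNat r N ∣ l := (pow_dvd_pow r hv).trans pow_padicValNat_dvd
    have h1 : g ^ N = 1 := hgo ▸ pow_orderOf_eq_one g
    rw [← Units.val_pow_eq_pow_val, ← pow_mul, ht,
      show j * (r ^ padicValNat r N * t) = N * t by rw [← mul_assoc, mul_comm j, ← hj], pow_mul, h1, one_pow,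
      Units.val_one]
  · have hb0 : b ≠ 0 := fun h => (g ^ j : Fˣ).ne_zero (by rw [← hb, h, zero_pow hr.out.ne_zero])
    obtain ⟨u, rfl⟩ := hrN
    have h1 : g ^ (j * u) = 1 := by
      refine Units.ext ?_
      rw [pow_mul, Units.val_pow_eq_pow_val, ← hb, ← pow_mul, ← hN, FiniteField.pow_card_sub_one_eq_one b hb0,
        Units.val_one]
    have h2 := orderOf_dvd_of_pow_eq_one h1
    rw [hgo] at h2
    have hu : 0 < u := Nat.pos_of_ne_zero fun h => hN0 (by rw [h, mul_zero])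
    have hrj : r ∣ j := Nat.dvd_of_mul_dvd_mul_right hu h2
    refine pow_succ_padicValNat_not_dvd hN0 (p := r) ?_
    rw [pow_succ]
    conv_rhs => rw [hj]
    exact Nat.mul_dvd_mul_left _ hrj

/-- A root of unity of order dividing `l` is an `r`-th power when `l` has small `r`-part. -/
theorem power_of_root {r l : ℕ} [hr : Fact r.Prime] (hl : l ≠ 0)
    (hv : padicValNat r l < padicValNat r (Fintype.card F - 1)) {c : F} (hc : c ^ l = 1) : ∃ b : F, b ^ r = c := by
  classical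
  obtain ⟨g, hgo, hg⟩ := exists_gen (F := F)
  have hc0 : c ≠ 0 := fun h => by rw [h, zero_pow hl] at hc; exact zero_ne_one hc
  obtain ⟨k, hk⟩ := hg (Units.mk0 c hc0)
  have hkl : g ^ (k * l) = 1 := by rw [pow_mul, hk]; exact Units.ext (by simp [hc])
  have h1 := orderOf_dvd_of_pow_eq_one hkl
  rw [hgo] at h1
  obtain ⟨N, hN⟩ : ∃ N, Fintype.card F - 1 = N := ⟨_, rfl⟩
  rw [hN] at h1 hv
  have hrk : r ∣ k := by
    by_contra hrk
    have hd : r ^ padicValNat r N ∣ k * l := pow_padicValNat_dvd.trans h1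
    have hco : Nat.Coprime (r ^ padicValNat r N) k :=
      Nat.Coprime.pow_left _ ((Nat.Prime.coprime_iff_not_dvd hr.out).2 hrk)
    have h2 : r ^ padicValNat r N ∣ l := hco.dvd_of_dvd_mul_left hd
    have h3 := (padicValNat_dvd_iff_le hl).1 h2
    omega
  obtain ⟨j, rfl⟩ := hrk
  refine ⟨((g ^ j : Fˣ) : F), ?_⟩
  rw [← Units.val_pow_eq_pow_val, ← pow_mul, mul_comm, hk, Units.val_mk0]

theorem natCast_ne_zero_of_ne {p r : ℕ} [hp : Fact p.Prime] [CharP F p] [hr : Fact r.Prime] (h : r ≠ p) :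
    (r : F) ≠ 0 := fun h0 =>
  h ((Nat.prime_dvd_prime_iff_eq hp.out hr.out).1 ((CharP.cast_eq_zero_iff F p r).1 h0)).symm

theorem order_facts {p q r : ℕ} [hp : Fact p.Prime] [CharP F p] [hr : Fact r.Prime] (hq : Fintype.card F = q)
    (h : r ≠ p) : 0 < orderOf (q : ZMod r) ∧ (orderOf (q : ZMod r) = 1 ↔ r ∣ q - 1) := by
  have hq0 : (q : ZMod r) ≠ 0 := by
    rw [Ne, ZMod.natCast_eq_zero_iff]
    obtain ⟨a, -, ha⟩ := FiniteField.card F p
    rw [← hq, ha]
    exact fun hd => h ((Nat.prime_dvd_prime_iff_eq hr.out hp.out).1 (hr.out.dvd_of_dvd_pow hd))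
  refine ⟨Nat.pos_of_ne_zero fun h0 => ?_, ?_⟩
  · exact orderOf_eq_zero_iff'.1 h0 (r - 1) (by have := hr.out.two_le; omega) (ZMod.pow_card_sub_one_eq_one hq0)
  · rw [orderOf_eq_one_iff, ← ZMod.natCast_eq_zero_iff, Nat.cast_sub (hq ▸ Fintype.card_pos), sub_eq_zero,
      Nat.cast_one]

/-- If `r` divides the number of `m`-spaces and `m < i` then `n mod i < m`. -/
theorem mod_lt_of_dvd {n m r : ℕ} [hr : Fact r.Prime] (hrF : (r : F) ≠ 0) (hm : m ≤ n)
    (h2 : 2 ≤ orderOf (Fintype.card F : ZMod r))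
    (hd : r ∣ Nat.card (Grass F (Fin n → F) m)) (hi : m < orderOf (Fintype.card F : ZMod r)) :
    orderOf (Fintype.card F : ZMod r) ≤ n ∧ n % orderOf (Fintype.card F : ZMod r) < m := by
  obtain ⟨i, hid⟩ : ∃ i, i = orderOf (Fintype.card F : ZMod r) := ⟨_, rfl⟩
  have hle := order_le_finrank hrF (V := Fin n → F) (by rwa [Module.finrank_fin_fun]) hd
  rw [Module.finrank_fin_fun] at hle
  refine ⟨hle, Nat.lt_of_not_le fun hge => ?_⟩
  obtain ⟨A, hA, hAd, -, hfix⟩ := exists_order_matrix (n := n) hrF h2 hle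
  have hu : IsUnit A.det := by rw [hAd]; exact isUnit_one
  obtain ⟨e, he⟩ : ∃ e : (Fin n → F) ≃ₗ[F] (Fin n → F), (e : (Fin n → F) →ₗ[F] (Fin n → F)) = Matrix.toLin' A :=
    ⟨LinearEquiv.ofIsUnitDet (f := Matrix.toLin' A) (v := Pi.basisFun F (Fin n)) (v' := Pi.basisFun F (Fin n))
      (by rw [LinearMap.toMatrix_eq_toMatrix', LinearMap.toMatrix'_toLin']; exact hu), rfl⟩
  have hpow : ∀ v, ((Matrix.toLin' A) ^ r) v = v := fun v => by
    rw [← Matrix.toLin'_pow, hA, Matrix.toLin'_one]; rfl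
  have her : e ^ r ^ 1 = 1 := by
    rw [pow_one]
    refine LinearEquiv.ext fun v => ?_
    have hk : ∀ (k : ℕ) v, ((e : (Fin n → F) →ₗ[F] (Fin n → F)) ^ k) v = (e ^ k) v := by
      intro k
      induction k with
      | zero => intro v; rfl
      | succ k ih => intro v; rw [pow_succ, pow_succ, Module.End.mul_apply, ih]; rfl
    rw [← hk, he, hpow]
    rfl
  have h := (card_grass_modEq (m := m) e her).symm.trans (Nat.modEq_zero_iff_dvd.2 hd)
  rw [he, card_inv_grass hrF hpow hi] at h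
  have hdiv := (order_spec hrF hpow (X := ⊤) fun _ _ => Submodule.mem_top).1
  rw [top_inf_eq, finrank_top, Module.finrank_fin_fun, ← hid] at hdiv
  rw [← hid] at hfix hge hle h2
  obtain ⟨k, hk⟩ : ∃ k, k = Module.finrank F (fixed (Matrix.toLin' A)) := ⟨_, rfl⟩
  rw [← hk] at hdiv hfix
  have hlt := Nat.mod_lt n (show i > 0 by omega)
  obtain ⟨u, hu'⟩ := hdiv
  have hkn : n = k + i * u := by have := Nat.mod_le n i; omega
  have hnk : n % i = k := by rw [hkn, Nat.add_mul_mod_self_left, Nat.mod_eq_of_lt (by omega)]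
  have h' := order_le_finrank hrF (V := fixed (Matrix.toLin' A)) (m := m) (by omega) (Nat.modEq_zero_iff_dvd.1 h)
  omega

theorem inv_iff_map {n : ℕ} (A : Matrix (Fin n) (Fin n) F) (W : Submodule F (Fin n → F)) :
    W.map (Matrix.toLin' A) ≤ W ↔ Inv (Matrix.toLin' A) W := Submodule.map_le_iff_le_comap

theorem inv_smul {V : Type*} [AddCommGroup V] [Module F V] {f : V →ₗ[F] V} {s : F} (hs : s ≠ 0)
    {W : Submodule F V} : Inv (s • f) W ↔ Inv f W := by
  refine forall₂_congr fun w _ => ?_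
  rw [LinearMap.smul_apply, Submodule.smul_mem_iff _ hs]

/-- Invariant subspaces when the scalar is an `r`-th power. -/
theorem power_spec {n r : ℕ} [hr : Fact r.Prime] (hrF : (r : F) ≠ 0) {A : Matrix (Fin n) (Fin n) F} {s : F}
    (hs : s ≠ 0) (hA : A ^ r = s ^ r • (1 : Matrix (Fin n) (Fin n) F)) :
    ∃ k, k ≤ n ∧ orderOf (Fintype.card F : ZMod r) ∣ n - k ∧ ∀ j j' t t', j ≤ j' → t ≤ t' → j' ≤ k →
      k + t' * orderOf (Fintype.card F : ZMod r) ≤ n →
      ∃ U W : Submodule F (Fin n → F), U.map (Matrix.toLin' A) ≤ U ∧ W.map (Matrix.toLin' A) ≤ W ∧ U ≤ W ∧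
        Module.finrank F U = j + t * orderOf (Fintype.card F : ZMod r) ∧
        Module.finrank F W = j' + t' * orderOf (Fintype.card F : ZMod r) := by
  obtain ⟨f, hf⟩ : ∃ f, f = s⁻¹ • Matrix.toLin' A := ⟨_, rfl⟩
  have hpow : ∀ v, (f ^ r) v = v := fun v => by
    rw [hf, _root_.smul_pow, ← Matrix.toLin'_pow, hA, map_smul, Matrix.toLin'_one, smul_smul, inv_pow,
      inv_mul_cancel₀ (pow_ne_zero _ hs), one_smul]
    rfl
  have hd := (order_spec hrF hpow (X := ⊤) fun _ _ => Submodule.mem_top).1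
  rw [top_inf_eq, finrank_top, Module.finrank_fin_fun] at hd
  refine ⟨Module.finrank F (fixed f), (Submodule.finrank_le _).trans (by rw [Module.finrank_fin_fun]), hd,
    fun j j' t t' h1 h2 h3 h4 => ?_⟩
  obtain ⟨U, W, hU, hW, hUW, hUd, hWd⟩ := order_chain hrF hpow h1 h2 h3 (by rw [Module.finrank_fin_fun]; exact h4)
  exact ⟨U, W, (inv_iff_map A U).2 ((inv_smul (inv_ne_zero hs)).1 (hf ▸ hU)),
    (inv_iff_map A W).2 ((inv_smul (inv_ne_zero hs)).1 (hf ▸ hW)), hUW, hUd, hWd⟩

/-- The arithmetic condition for a map with non-power scalar to exist in `SL_n`. -/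
theorem nonpower_det_cond {p q n r : ℕ} [hp : Fact p.Prime] [CharP F p] [hr : Fact r.Prime] (hq : Fintype.card F = q)
    (hrp : r ≠ p) (hrq : r ∣ q - 1) (hn : 0 < n) :
    (∃ (A : Matrix (Fin n) (Fin n) F) (c : F), A.det = 1 ∧ A ^ r = c • (1 : Matrix (Fin n) (Fin n) F) ∧
      ∀ b : F, b ^ r ≠ c) ↔
    ¬ (padicValNat r n ≤ padicValNat r (q - 1) ∧ (r = 2 → Even n → q % 4 = 1)) := by
  have hN0 : q - 1 ≠ 0 := by have := Fintype.one_lt_card (α := F); omega
  have hvN : 1 ≤ padicValNat r (q - 1) := one_le_padicValNat_of_dvd hN0 hrq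
  have hvdiv : ∀ l, l ≠ 0 → padicValNat r (r * l) = 1 + padicValNat r l := fun l hl => by
    rw [padicValNat.mul hr.out.ne_zero hl, padicValNat_self]
  have h21 : r = 2 → q % 2 = 1 := fun h => by
    obtain ⟨a, -, ha⟩ := FiniteField.card F p
    rw [← hq, ha]
    exact Nat.odd_iff.1 ((hp.out.odd_of_ne_two fun e => hrp (h.trans e.symm)).pow)
  have hneg : r = 2 → q % 4 = 1 → ∃ i : F, i ^ 2 = -1 := fun h h4 => by
    obtain ⟨i, hi⟩ := (FiniteField.isSquare_neg_one_iff (F := F)).2 (by rw [hq]; omega)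
    exact ⟨i, by rw [pow_two]; exact hi.symm⟩
  constructor
  · rintro ⟨A, c, hdet, hA, hc⟩ ⟨hv, h2⟩
    obtain ⟨⟨l, rfl⟩, hd⟩ := det_nonpower hr.out hc A hA
    have hl : l ≠ 0 := fun h => by rw [h, mul_zero] at hn; omega
    rw [Nat.mul_div_cancel_left _ hr.out.pos, hdet] at hd
    rw [hvdiv l hl] at hv
    rcases hr.out.eq_two_or_odd' with rfl | hodd
    · have h4 := h2 rfl (even_two_mul l)
      obtain ⟨i, hi⟩ := hneg rfl h4
      obtain ⟨b, hb⟩ := power_of_root (F := F) (r := 2) hl (by rw [hq]; omega) (c := -c)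
        (by rw [show (-1 : F) ^ (2 + 1) * c = -c by ring] at hd; exact hd.symm)
      exact hc (i * b) (by rw [mul_pow, hi, hb]; ring)
    · rw [show (-1 : F) ^ (r + 1) = 1 from (Odd.add_one hodd).neg_one_pow, one_mul] at hd
      obtain ⟨b, hb⟩ := power_of_root (r := r) hl (by rw [hq]; omega) hd.symm
      exact hc b hb
  · intro hcond
    obtain ⟨l, c, hln, hc1, hc⟩ : ∃ l c, n = r * l ∧ ((-1 : F) ^ (r + 1) * c) ^ l = 1 ∧ ∀ b : F, b ^ r ≠ c := by
      by_cases hv : padicValNat r n ≤ padicValNat r (q - 1)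
      · have h2 : r = 2 ∧ Even n ∧ q % 4 ≠ 1 := by
          by_contra h
          exact hcond ⟨hv, fun a b => by_contra fun c => h ⟨a, b, c⟩⟩
        obtain ⟨rfl, ⟨l, rfl⟩, h4⟩ := h2
        refine ⟨l, -1, by ring, by ring_nf, fun b hb => ?_⟩
        have := (FiniteField.isSquare_neg_one_iff (F := F)).1 ⟨b, by rw [← hb, pow_two]⟩
        rw [hq] at this
        have := h21 rfl
        omega
      · obtain ⟨l, rfl⟩ : r ∣ n := dvd_of_one_le_padicValNat (by omega)
        have hl : l ≠ 0 := fun h => by rw [h, mul_zero] at hn; omega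
        rw [hvdiv l hl] at hv
        obtain ⟨c, hc1, hc⟩ := exists_nonpower_root (F := F) (r := r) hl (by rw [hq]; exact hrq) (by rw [hq]; omega)
        rcases hr.out.eq_two_or_odd' with rfl | hodd
        · by_cases h4 : q % 4 = 1
          · obtain ⟨i, hi⟩ := hneg rfl h4
            refine ⟨l, -c, rfl, by rw [show (-1 : F) ^ (2 + 1) * -c = c by ring, hc1], fun b hb => ?_⟩
            exact hc (i * b) (by rw [mul_pow, hi, hb]; ring)
          · refine ⟨l, -1, rfl, by rw [show (-1 : F) ^ (2 + 1) * -1 = 1 by ring, one_pow], fun b hb => ?_⟩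
            have := (FiniteField.isSquare_neg_one_iff (F := F)).1 ⟨b, by rw [← hb, pow_two]⟩
            rw [hq] at this
            have := h21 rfl
            omega
        · exact ⟨l, c, rfl, by rw [(Odd.add_one hodd).neg_one_pow, one_mul, hc1], hc⟩
    obtain ⟨A, hA, -⟩ := exists_nonpower_matrix hr.out ⟨l, hln⟩ hn hc
    refine ⟨A, c, ?_, hA, hc⟩
    rw [(det_nonpower hr.out hc A hA).2, hln, Nat.mul_div_cancel_left _ hr.out.pos, hc1]

theorem fixed_subspace_iff {p q n m r : ℕ} [hp : Fact p.Prime] [CharP F p] (hq : Fintype.card F = q) (hn : 2 ≤ n)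
    (hm : 1 ≤ m) (hmn : 2 * m ≤ n) [hr : Fact r.Prime] (hd : r ∣ Nat.card (Grass F (Fin n → F) m)) :
    (∀ x : Matrix.SpecialLinearGroup (Fin n) F,
      (∃ c : F, ((x ^ r : Matrix.SpecialLinearGroup (Fin n) F) : Matrix (Fin n) (Fin n) F) =
        c • (1 : Matrix (Fin n) (Fin n) F)) →
      (∀ c : F, (x : Matrix (Fin n) (Fin n) F) ≠ c • (1 : Matrix (Fin n) (Fin n) F)) →
      ∃ W : Submodule F (Fin n → F), Module.finrank F ↥W = m ∧
        W.map (Matrix.toLin' (x : Matrix (Fin n) (Fin n) F)) ≤ W) ↔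
    (r ≠ p ∧
      ((orderOf (q : ZMod r) = 1 ∧ (r ∣ m ∨ (padicValNat r n ≤ padicValNat r (q - 1) ∧
          (r = 2 → Even n → q % 4 = 1)))) ∨
       (2 ≤ orderOf (q : ZMod r) ∧ orderOf (q : ZMod r) ≤ m ∧
          m % orderOf (q : ZMod r) ≤ n % orderOf (q : ZMod r)))) := by
  classical
  have hrp : r ≠ p := fun e => by
    subst e
    exact not_dvd_char (F := F) (V := Fin n → F) (by rw [Module.finrank_fin_fun]; omega) hd
  have hrF : (r : F) ≠ 0 := natCast_ne_zero_of_ne (p := p) hrp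
  obtain ⟨hi0, hi1⟩ := order_facts (F := F) (p := p) (r := r) hq hrp
  obtain ⟨i, hi⟩ : ∃ i, i = orderOf (q : ZMod r) := ⟨_, rfl⟩
  have hiF : orderOf (Fintype.card F : ZMod r) = i := by rw [hq, hi]
  rw [← hi] at hi0 hi1 ⊢
  constructor
  · intro h
    refine ⟨hrp, ?_⟩
    rcases (show i = 1 ∨ 2 ≤ i by omega) with h1 | h2
    · refine Or.inl ⟨h1, or_iff_not_imp_left.2 fun hrm => ?_⟩
      by_contra hcond
      obtain ⟨A, c, hdet, hA, hc⟩ := (nonpower_det_cond hq hrp (hi1.1 h1) (by omega)).2 hcond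
      obtain ⟨x, hx⟩ : ∃ x : Matrix.SpecialLinearGroup (Fin n) F, (x : Matrix (Fin n) (Fin n) F) = A :=
        ⟨⟨A, hdet⟩, rfl⟩
      obtain ⟨W, hW, hWx⟩ := h x ⟨c, by rw [Matrix.SpecialLinearGroup.coe_pow, hx]; exact hA⟩ (fun z hz => by
        rw [hx] at hz
        rw [hz, _root_.smul_pow, one_pow] at hA
        haveI : Nonempty (Fin n) := ⟨⟨0, by omega⟩⟩
        exact hc z (by simpa using congrFun (congrFun hA ⟨0, by omega⟩) ⟨0, by omega⟩))
      refine hrm (hW ▸ (nonpower_spec hr.out hrF hc (f := Matrix.toLin' A) (fun v => ?_) ((inv_iff_map A W).1 (hx ▸ hWx))).1)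
      rw [← Matrix.toLin'_pow, hA, map_smul, Matrix.toLin'_one]; rfl
    · refine Or.inr ⟨h2, ?_⟩
      have hin : i ≤ n := by
        have := order_le_finrank hrF (V := Fin n → F) (by rw [Module.finrank_fin_fun]; omega) hd
        rw [Module.finrank_fin_fun, hiF] at this
        exact this
      obtain ⟨A, hA, hdet, hns, hfix⟩ := exists_order_matrix (n := n) hrF (hiF.symm ▸ h2) (hiF.symm ▸ hin)
      rw [hiF] at hfix
      obtain ⟨x, hx⟩ : ∃ x : Matrix.SpecialLinearGroup (Fin n) F, (x : Matrix (Fin n) (Fin n) F) = A :=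
        ⟨⟨A, hdet⟩, rfl⟩
      obtain ⟨W, hW, hWx⟩ := h x ⟨1, by rw [Matrix.SpecialLinearGroup.coe_pow, hx, one_smul]; exact hA⟩
        (by rw [hx]; exact hns)
      rw [hx] at hWx
      have hW' := (order_spec hrF (f := Matrix.toLin' A) (fun v => by rw [← Matrix.toLin'_pow, hA, Matrix.toLin'_one]; rfl)
        ((inv_iff_map A W).1 hWx)).1
      rw [hiF, hW] at hW'
      have hWfix : Module.finrank F (W ⊓ fixed (Matrix.toLin' A) : Submodule F (Fin n → F)) ≤ n % i :=
        (Submodule.finrank_mono inf_le_right).trans hfix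
      obtain ⟨u, hu⟩ := hW'
      obtain ⟨j, hj⟩ : ∃ j, j = Module.finrank F (W ⊓ fixed (Matrix.toLin' A) : Submodule F (Fin n → F)) := ⟨_, rfl⟩
      have hjm : j ≤ m := by rw [hj, ← hW]; exact Submodule.finrank_mono inf_le_left
      rw [← hj] at hu hWfix
      have hlt := Nat.mod_lt n (show i > 0 by omega)
      have hmi : m % i = j := by
        rw [show m = j + i * u by omega, Nat.add_mul_mod_self_left, Nat.mod_eq_of_lt (by omega)]
      refine ⟨?_, by omega⟩
      by_contra hgt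
      have := (mod_lt_of_dvd hrF (by omega) (hiF.symm ▸ h2) hd (by rw [hiF]; omega)).2
      rw [hiF] at this
      rw [Nat.mod_eq_of_lt (by omega)] at hmi
      omega
  · rintro ⟨-, hcond⟩ x ⟨c, hc⟩ hns
    rw [Matrix.SpecialLinearGroup.coe_pow] at hc
    have hc0 : c ≠ 0 := fun h0 => by
      have h := congrArg Matrix.det hc
      haveI : Nonempty (Fin n) := ⟨⟨0, by omega⟩⟩
      rw [Matrix.det_pow, x.det_coe, one_pow, h0, zero_smul, Matrix.det_zero] at h
      exact one_ne_zero h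
    by_cases hpow : ∃ s : F, s ^ r = c
    · obtain ⟨s, rfl⟩ := hpow
      obtain ⟨k, hkn, hdiv, hspec⟩ := power_spec hrF (fun h0 => hc0 (by rw [h0, zero_pow hr.out.ne_zero])) hc
      rw [hiF] at hdiv hspec
      obtain ⟨u, hu⟩ := hdiv
      obtain ⟨t, ht⟩ : ∃ t, t = min (m / i) u := ⟨_, rfl⟩
      have hmd := Nat.div_add_mod m i
      have htu : t * i ≤ i * u := by rw [mul_comm i]; exact Nat.mul_le_mul_right i (by omega)
      have htm : t * i ≤ i * (m / i) := by rw [mul_comm i]; exact Nat.mul_le_mul_right i (by omega)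
      have hk : n % i ≤ k := by rw [show n = k + i * u by omega, Nat.add_mul_mod_self_left]; exact Nat.mod_le _ _
      have hjk : m - t * i ≤ k := by
        rcases (show t = m / i ∨ t = u by omega) with h | h
        · rw [h, mul_comm, show m - i * (m / i) = m % i by omega]
          rcases hcond with ⟨h1, -⟩ | ⟨-, -, h3⟩
          · rw [h1, Nat.mod_one]; exact Nat.zero_le _
          · omega
        · rw [h, mul_comm]; omega
      obtain ⟨U, W, hU, -, -, hUd, -⟩ := hspec (m - t * i) (m - t * i) t t le_rfl le_rfl hjk (by omega)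
      exact ⟨U, by omega, hU⟩
    · push_neg at hpow
      have hrq : r ∣ q - 1 := by
        by_contra hnd
        have hco : (Nat.card Fˣ).Coprime r := by
          classical
          rw [Nat.card_eq_fintype_card, Fintype.card_units, hq]
          exact ((Nat.Prime.coprime_iff_not_dvd hr.out).2 hnd).symm
        refine hpow (((powCoprime hco).symm (Units.mk0 c hc0) : Fˣ) : F) ?_
        have h := congrArg Units.val ((powCoprime hco).apply_symm_apply (Units.mk0 c hc0))
        rw [powCoprime_apply, Units.val_pow_eq_pow_val, Units.val_mk0] at h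
        exact h
      rcases hcond with ⟨-, hrm | hcond⟩ | ⟨h2, -⟩
      · obtain ⟨-, hspec⟩ := nonpower_spec hr.out hrF hpow (f := Matrix.toLin' (x : Matrix (Fin n) (Fin n) F))
          (fun v => by rw [← Matrix.toLin'_pow, hc, map_smul, Matrix.toLin'_one]; rfl)
          (X := ⊤) fun _ _ => Submodule.mem_top
        obtain ⟨W, hW, -, hWd⟩ := hspec (m / r) (by
          rw [Nat.div_mul_cancel hrm, finrank_top, Module.finrank_fin_fun]; omega)
        exact ⟨W, by rw [hWd, Nat.div_mul_cancel hrm], (inv_iff_map _ W).2 hW⟩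
      · exact absurd hcond ((nonpower_det_cond hq hrp hrq (by omega)).1 ⟨x, c, x.det_coe, hc, hpow⟩)
      · have := hi1.2 hrq
        omega

end CfsgLib.Classical22.PrimeMaps
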