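/-
Decompositions into equidimensional subspaces permuted by a linear map of prime order.
-/
import Cfsg.Agent.Lib.Classical22.PrimeOrderSubspaces

set_option autoImplicit false

namespace CfsgLib.Classical22.PrimeMaps.Wreath

open Module Polynomial

variable {F V : Type*} [Field F] [AddCommGroup V] [Module F V] [FiniteDimensional F V]

/-- A spanning family of `s` small subspaces of `X` permuted by `f`. -/
def Split (f : V →ₗ[F] V) (a : ℕ) (X : Submodule F V) (s : ℕ) : Prop :=
  ∃ (D : Fin s → Submodule F V) (σ : Equiv.Perm (Fin s)),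
    (∀ j, finrank F (D j) ≤ a) ∧ iSup D = X ∧ ∀ j, (D j).map f = D (σ j)

theorem split_zero (f : V →ₗ[F] V) (a : ℕ) : Split f a ⊥ 0 :=
  ⟨fun j => ⊥, 1, fun j => j.elim0, by simp, fun j => j.elim0⟩

theorem split_add {f : V →ₗ[F] V} {a s s' : ℕ} {X Y Z : Submodule F V} (hX : Split f a X s) (hY : Split f a Y s')
    (hZ : X ⊔ Y = Z) : Split f a Z (s + s') := by
  obtain ⟨D, σ, hd, hD, hσ⟩ := hX
  obtain ⟨E, τ, he, hE, hτ⟩ := hY
  obtain ⟨G, hGl, hGr⟩ : ∃ G : Fin (s + s') → Submodule F V,
      (∀ j, G (finSumFinEquiv (Sum.inl j)) = D j) ∧ ∀ j, G (finSumFinEquiv (Sum.inr j)) = E j :=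
    ⟨fun j => Sum.elim D E (finSumFinEquiv.symm j), fun j => by simp, fun j => by simp⟩
  refine ⟨G, (finSumFinEquiv.symm.trans (Equiv.sumCongr σ τ)).trans finSumFinEquiv, fun j => ?_, ?_, fun j => ?_⟩
  · obtain ⟨j | j, rfl⟩ := finSumFinEquiv.surjective j
    exacts [hGl j ▸ hd j, hGr j ▸ he j]
  · rw [← hZ, ← hD, ← hE]
    refine le_antisymm (iSup_le fun j => ?_) (sup_le (iSup_le fun j => ?_) (iSup_le fun j => ?_))
    · obtain ⟨j | j, rfl⟩ := finSumFinEquiv.surjective j
      exacts [hGl j ▸ le_sup_of_le_left (le_iSup D j), hGr j ▸ le_sup_of_le_right (le_iSup E j)]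
    · exact hGl j ▸ le_iSup G _
    · exact hGr j ▸ le_iSup G _
  · obtain ⟨j | j, rfl⟩ := finSumFinEquiv.surjective j <;>
      rw [Equiv.trans_apply, Equiv.trans_apply, Equiv.symm_apply_apply, Equiv.sumCongr_apply]
    · rw [hGl, Sum.map_inl, hGl, hσ]
    · rw [hGr, Sum.map_inr, hGr, hτ]

theorem split_single {f : V →ₗ[F] V} (hf : Function.Injective f) {a : ℕ} {W : Submodule F V} (hW : Inv f W)
    (hd : finrank F W ≤ a) : Split f a W 1 := by
  refine ⟨fun _ => W, 1, fun _ => hd, iSup_const, fun _ => Submodule.eq_of_le_of_finrank_eq ?_ ?_⟩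
  · exact Submodule.map_le_iff_le_comap.2 hW
  · exact (Submodule.equivMapOfInjective f hf W).finrank_eq.symm

theorem split_cycle {f : V →ₗ[F] V} {a r : ℕ} (hr : 0 < r) {z : F} (hz : z ≠ 0) (hf : ∀ v, (f ^ r) v = z • v)
    {U W : Submodule F V} (hU : finrank F U ≤ a) (hW : ⨆ i : Fin r, U.map (f ^ (i : ℕ)) = W) : Split f a W r := by
  obtain ⟨r, rfl⟩ := Nat.exists_eq_succ_of_ne_zero hr.ne'
  refine ⟨fun i => U.map (f ^ (i : ℕ)), finRotate (r + 1), fun i => (Submodule.finrank_map_le _ _).trans hU, hW,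
    fun i => ?_⟩
  show (U.map (f ^ (i : ℕ))).map f = U.map (f ^ ((finRotate (r + 1) i : Fin (r + 1)) : ℕ))
  rw [← Submodule.map_comp, ← Module.End.mul_eq_comp, ← pow_succ', finRotate_succ_apply, Fin.val_add_one]
  split_ifs with h
  · subst h
    rw [Fin.val_last, pow_zero, show f ^ (r + 1) = z • (1 : V →ₗ[F] V) from LinearMap.ext fun v => hf v,
      Submodule.map_smul _ _ _ hz]
  · rfl

/-- A spanning family of small subspaces is a direct sum. -/
theorem indep_of_split {t a : ℕ} {D : Fin t → Submodule F V} (hd : ∀ j, finrank F (D j) ≤ a)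
    (htop : iSup D = ⊤) (hn : finrank F V = a * t) : (∀ j, finrank F (D j) = a) ∧ iSupIndep D := by
  classical
  obtain ⟨Φ, hΦ⟩ : ∃ Φ : (Π₀ j, D j) →ₗ[F] V, Φ = DFinsupp.lsum ℕ fun j => (D j).subtype := ⟨_, rfl⟩
  have hsurj : Function.Surjective Φ := by
    rw [← LinearMap.range_eq_top, hΦ, ← Submodule.iSup_eq_range_dfinsupp_lsum, htop]
  have hdim : finrank F (Π₀ j, D j) = ∑ j, finrank F (D j) := Module.finrank_directSum F fun j => ↥(D j)
  have h1 := LinearMap.finrank_range_le Φ
  rw [LinearMap.range_eq_top.2 hsurj, finrank_top, hn, hdim] at h1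
  have hsum : ∑ j, finrank F (D j) ≤ ∑ _j : Fin t, a := Finset.sum_le_sum fun j _ => hd j
  have hat : ∑ _j : Fin t, a = a * t := by simp [mul_comm]
  have heq : ∀ j, finrank F (D j) = a := fun j =>
    (Finset.sum_eq_sum_iff_of_le fun j _ => hd j).1 (le_antisymm hsum (by omega)) j (Finset.mem_univ _)
  refine ⟨heq, iSupIndep_of_dfinsupp_lsum_injective _ ?_⟩
  rw [← hΦ]
  exact (LinearMap.injective_iff_surjective_of_finrank_eq_finrank (by omega)).2 hsurj

/-- Fixed spaces add up over invariant complements. -/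
theorem fixed_add {f : V →ₗ[F] V} {X W C : Submodule F V} (hW : Inv f W) (hC : Inv f C) (hi : W ⊓ C = ⊥)
    (hs : W ⊔ C = X) :
    finrank F (W ⊓ fixed f : Submodule F V) + finrank F (C ⊓ fixed f : Submodule F V) =
      finrank F (X ⊓ fixed f : Submodule F V) := by
  have h : (W ⊓ fixed f) ⊔ (C ⊓ fixed f) = X ⊓ fixed f := by
    refine le_antisymm (sup_le (inf_le_inf_right _ (hs ▸ le_sup_left)) (inf_le_inf_right _ (hs ▸ le_sup_right))) ?_
    rintro v ⟨hv, hvf⟩
    rw [← hs] at hv
    obtain ⟨w, hw, c, hc, rfl⟩ := Submodule.mem_sup.1 hv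
    have h1 : f w - w = c - f c := by
      have := mem_fixed.1 hvf
      rw [map_add] at this
      rw [sub_eq_sub_iff_add_eq_add, this, add_comm]
    have h0 : f w - w = 0 := (Submodule.mem_bot F).1 (hi ▸ ⟨W.sub_mem (hW w hw) hw,
      h1 ▸ C.sub_mem hc (hC c hc)⟩)
    refine Submodule.add_mem_sup ⟨hw, mem_fixed.2 (sub_eq_zero.1 h0)⟩ ⟨hc, mem_fixed.2 ?_⟩
    exact (sub_eq_zero.1 (h1.symm.trans h0)).symm
  rw [← h, ← Submodule.finrank_sup_add_finrank_inf_eq,
    show W ⊓ fixed f ⊓ (C ⊓ fixed f) = ⊥ from eq_bot_iff.2 (hi ▸ inf_le_inf inf_le_left inf_le_left),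
    finrank_bot, add_zero]

/-- Invariant blocks, each with the least possible fixed space. -/
theorem split_fixed [Fintype F] {f : V →ₗ[F] V} {r : ℕ} [hr : Fact r.Prime] (hrF : (r : F) ≠ 0)
    (hf : ∀ v, (f ^ r) v = v) (hinj : Function.Injective f) {a c : ℕ}
    (hc : c = orderOf (Fintype.card F : ZMod r)) (hc0 : 0 < c) :
    ∀ (t u : ℕ) (X : Submodule F V), Inv f X → finrank F X = a * t →
      finrank F (X ⊓ fixed f : Submodule F V) = t * (a % c) + c * u → Split f a X t := by
  intro t
  induction t with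
  | zero =>
    intro u X _ hd _
    rw [mul_zero] at hd
    rw [Submodule.finrank_eq_zero.1 hd]
    exact split_zero f a
  | succ t ih =>
    intro u X hX hd hk
    obtain ⟨k, hkdef⟩ : ∃ k, finrank F (X ⊓ fixed f : Submodule F V) = k := ⟨_, rfl⟩
    obtain ⟨v, hv⟩ : ∃ v, v = min (a / c) u := ⟨_, rfl⟩
    obtain ⟨u', hu'⟩ : ∃ u', u = v + u' := ⟨u - v, by omega⟩
    obtain ⟨w, hw⟩ : ∃ w, a / c = v + w := ⟨a / c - v, by omega⟩
    have hdiv := Nat.div_add_mod a c
    rw [hw] at hdiv
    have hle : finrank F (X ⊓ fixed f : Submodule F V) ≤ finrank F X := Submodule.finrank_mono inf_le_left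
    have hneed : k + w * c ≤ finrank F X := by
      rw [← hkdef, hk, hd, hu']
      rcases Nat.eq_zero_or_pos w with h | h
      · rw [h, zero_mul, add_zero]; rw [hk, hd, hu'] at hle; exact hle
      · have : u' = 0 := by omega
        subst this
        have h2 : t * (a % c) ≤ t * a := Nat.mul_le_mul_left t (Nat.mod_le a c)
        nlinarith
    obtain ⟨W, hW, hWX, hWf, hWd⟩ := (order_spec hrF hf hX).2 (a % c + c * v) w
      (by rw [hk, hu']; nlinarith [Nat.zero_le (t * (a % c)), Nat.zero_le (c * u')]) (by rw [hkdef, ← hc]; exact hneed)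
    rw [← hc] at hWd
    have hWa : finrank F W = a := by rw [hWd]; nlinarith
    obtain ⟨C, hC, -, hi, hs⟩ := exists_compl_in hrF one_ne_zero (fun v => by rw [hf, one_smul]) hX hW hWX
    have hadd := Submodule.finrank_sup_add_finrank_inf_eq W C
    rw [hs, hi, finrank_bot, add_zero, hd, hWa] at hadd
    have hfa := fixed_add hW hC hi hs
    rw [hWf, hk, hu'] at hfa
    rw [add_comm t 1]
    exact split_add (split_single hinj hW hWa.le) (ih u' C hC (by nlinarith) (by nlinarith)) hs

/-- Cycles of lines built from a fixed vector and a simple invariant subspace. -/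
theorem split_lines [Fintype F] {f : V →ₗ[F] V} {r : ℕ} [hr : Fact r.Prime] (hrF : (r : F) ≠ 0)
    (hf : ∀ v, (f ^ r) v = v) (hinj : Function.Injective f)
    (hc : orderOf (Fintype.card F : ZMod r) + 1 = r) :
    ∀ (d : ℕ) (X : Submodule F V), Inv f X → finrank F X = d →
      d ≤ r * finrank F (X ⊓ fixed f : Submodule F V) → Split f 1 X d := by
  intro d
  induction d using Nat.strong_induction_on with
  | _ d ih =>
    intro X hX hd hk
    obtain ⟨k, hkdef⟩ : ∃ k, finrank F (X ⊓ fixed f : Submodule F V) = k := ⟨_, rfl⟩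
    rw [hkdef] at hk
    rcases Nat.eq_zero_or_pos d with rfl | hpos
    · rw [Submodule.finrank_eq_zero.1 hd]
      exact split_zero f 1
    have hkpos : 0 < k := Nat.pos_of_ne_zero fun h => by rw [h, mul_zero] at hk; omega
    have hkd : k ≤ d := by rw [← hkdef, ← hd]; exact Submodule.finrank_mono inf_le_left
    obtain ⟨w, ⟨hwX, hwf⟩, hw0⟩ := Submodule.exists_mem_ne_zero_of_ne_bot
      (show X ⊓ fixed f ≠ ⊥ from fun h => by rw [h, finrank_bot] at hkdef; omega)
    by_cases hall : k = d
    · -- everything is fixed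
      have hXf : X ≤ fixed f := inf_eq_left.1 (Submodule.eq_of_le_of_finrank_eq inf_le_left (by omega))
      have hWi : Inv f (F ∙ w) := fun v hv => by
        rwa [mem_fixed.1 ((Submodule.span_singleton_le_iff_mem w _).2 hwf hv)]
      obtain ⟨C, hC, hCX, hi, hs⟩ := exists_compl_in hrF one_ne_zero (fun v => by rw [hf, one_smul]) hX hWi
        ((Submodule.span_singleton_le_iff_mem w _).2 hwX)
      have hadd := Submodule.finrank_sup_add_finrank_inf_eq (F ∙ w) C
      rw [hs, hi, finrank_bot, add_zero, hd, finrank_span_singleton hw0] at hadd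
      obtain ⟨d', rfl⟩ : ∃ d', d = d' + 1 := ⟨d - 1, by omega⟩
      rw [add_comm d' 1]
      refine split_add (split_single hinj hWi (finrank_span_singleton hw0).le) (ih d' (by omega) C hC (by omega) ?_) hs
      rw [inf_eq_left.2 (hCX.trans hXf)]
      have := hr.out.two_le
      nlinarith
    · obtain ⟨c, hcdef⟩ : ∃ c, orderOf (Fintype.card F : ZMod r) = c := ⟨_, rfl⟩
      rw [hcdef] at hc
      have hdvd := (order_spec hrF hf hX).1
      rw [hcdef, hkdef, hd] at hdvd
      have hcd : c ≤ d - k := Nat.le_of_dvd (by omega) hdvd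
      obtain ⟨S, hS, hSX, hSf, hSd⟩ := (order_spec hrF hf hX).2 0 1 (Nat.zero_le _) (by rw [hcdef, hkdef, hd]; omega)
      rw [hcdef, zero_add, one_mul] at hSd
      rw [Submodule.finrank_eq_zero] at hSf
      obtain ⟨v, hvS, hv0⟩ := Submodule.exists_mem_ne_zero_of_ne_bot (show S ≠ ⊥ from fun h => by
        rw [h, finrank_bot] at hSd
        have := hr.out.two_le
        omega)
      obtain ⟨U, hU⟩ : ∃ U, U = ⨆ i : Fin r, (F ∙ (w + v)).map (f ^ (i : ℕ)) := ⟨_, rfl⟩
      have hcyc : Split f 1 U r := split_cycle hr.out.pos one_ne_zero (fun v => by rw [hf, one_smul])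
        ((finrank_span_le_card _).trans (by simp)) hU.symm
      have hfw : ∀ i : ℕ, (f ^ i) w = w := fun i => by
        induction i with
        | zero => rfl
        | succ i ih' => rw [pow_succ', Module.End.mul_apply, ih', mem_fixed.1 hwf]
      have hmem : ∀ i : ℕ, i < r → w + (f ^ i) v ∈ U := fun i hi => hU ▸ Submodule.mem_iSup_of_mem ⟨i, hi⟩
        ⟨w + v, Submodule.mem_span_singleton_self _, by rw [map_add, hfw]⟩
      have hsum : ∑ i ∈ Finset.range r, (f ^ i) v = 0 := by
        refine (Submodule.mem_bot F).1 (hSf ▸ ⟨?_, mem_fixed.2 ?_⟩)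
        · refine S.sum_mem fun i _ => ?_
          have : ∀ i, (f ^ i) v ∈ S := fun i => by
            induction i with
            | zero => exact hvS
            | succ i ih' => rw [pow_succ', Module.End.mul_apply]; exact hS _ ih'
          exact this i
        · rw [map_sum]
          have e1 := Finset.sum_range_succ' (fun i => (f ^ i) v) r
          rw [Finset.sum_range_succ (fun i => (f ^ i) v) r, hf, pow_zero, Module.End.one_apply, add_left_inj] at e1
          rw [e1]
          exact Finset.sum_congr rfl fun i _ => by rw [pow_succ', Module.End.mul_apply]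
      have hwU : w ∈ U := by
        have h1 := U.sum_mem (t := Finset.range r) (f := fun i => w + (f ^ i) v) fun i hi =>
          hmem i (Finset.mem_range.1 hi)
        rw [Finset.sum_add_distrib, hsum, add_zero, Finset.sum_const, Finset.card_range, ← Nat.cast_smul_eq_nsmul F,
          U.smul_mem_iff hrF] at h1
        exact h1
      have hWi : Inv f ((F ∙ w) ⊔ S) := fun x hx => by
        obtain ⟨y, hy, s, hs, rfl⟩ := Submodule.mem_sup.1 hx
        rw [map_add, mem_fixed.1 ((Submodule.span_singleton_le_iff_mem w _).2 hwf hy)]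
        exact Submodule.add_mem_sup hy (hS s hs)
      have hwS : (F ∙ w) ⊓ S = ⊥ := eq_bot_iff.2 fun x hx =>
        hSf ▸ ⟨hx.2, (Submodule.span_singleton_le_iff_mem w _).2 hwf hx.1⟩
      have hWd : finrank F ((F ∙ w) ⊔ S : Submodule F V) = r := by
        have := Submodule.finrank_sup_add_finrank_inf_eq (F ∙ w) S
        rw [hwS, finrank_bot, finrank_span_singleton hw0, hSd] at this
        omega
      have hUeq : U = (F ∙ w) ⊔ S := by
        refine le_antisymm ?_ (sup_le ((Submodule.span_singleton_le_iff_mem w _).2 hwU) ?_)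
        · rw [hU]
          refine iSup_le fun i => Submodule.map_le_iff_le_comap.2 ((Submodule.span_singleton_le_iff_mem _ _).2 ?_)
          rw [Submodule.mem_comap]
          exact inv_aeval hWi ((Polynomial.X : F[X]) ^ (i : ℕ)) (w + v) (Submodule.add_mem_sup (Submodule.mem_span_singleton_self w) hvS)
            |> fun h => by rwa [map_pow, aeval_X] at h
        · obtain ⟨S', hS'⟩ : ∃ S', S' = U ⊓ S := ⟨_, rfl⟩
          have hvU : ∀ i : ℕ, i < r → (f ^ i) v ∈ U := fun i hi => by
            simpa using U.sub_mem (hmem i hi) hwU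
          have hUi : Inv f U := by
            intro x hx
            rw [hU] at hx ⊢
            refine Submodule.iSup_induction _ (motive := fun x => f x ∈ _) hx (fun i y hy => ?_) (by simp) fun x y hx hy => ?_
            · obtain ⟨z, hz, rfl⟩ := hy
              rw [← Module.End.mul_apply, ← pow_succ']
              by_cases h : (i : ℕ) + 1 < r
              · exact Submodule.mem_iSup_of_mem ⟨_, h⟩ ⟨z, hz, rfl⟩
              · rw [show (i : ℕ) + 1 = r by omega, hf]
                exact Submodule.mem_iSup_of_mem ⟨0, hr.out.pos⟩ ⟨z, hz, rfl⟩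
            · rw [map_add]; exact Submodule.add_mem _ hx hy
          obtain ⟨h1, h2⟩ := order_spec hrF hf (X := U ⊓ S) fun x hx => ⟨hUi x hx.1, hS x hx.2⟩
          rw [show (U ⊓ S) ⊓ fixed f = ⊥ from eq_bot_iff.2 (hSf ▸ inf_le_inf_right _ inf_le_right), finrank_bot,
            Nat.sub_zero, hcdef] at h1
          have hne : 0 < finrank F (U ⊓ S : Submodule F V) := Nat.pos_of_ne_zero fun h => hv0
            ((Submodule.mem_bot F).1 (Submodule.finrank_eq_zero.1 h ▸ ⟨by simpa using hvU 0 hr.out.pos, hvS⟩))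
          exact inf_eq_right.1 (Submodule.eq_of_le_of_finrank_le inf_le_right (hSd ▸ Nat.le_of_dvd hne h1))
      rw [hUeq] at hcyc
      have hWX : (F ∙ w) ⊔ S ≤ X := sup_le ((Submodule.span_singleton_le_iff_mem w _).2 hwX) hSX
      obtain ⟨C, hC, hCX, hi, hs⟩ := exists_compl_in hrF one_ne_zero (fun v => by rw [hf, one_smul]) hX hWi hWX
      have hadd := Submodule.finrank_sup_add_finrank_inf_eq ((F ∙ w) ⊔ S) C
      rw [hs, hi, finrank_bot, add_zero, hd, hWd] at hadd
      have hfa := fixed_add hWi hC hi hs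
      rw [hkdef] at hfa
      have h1 : finrank F (((F ∙ w) ⊔ S) ⊓ fixed f : Submodule F V) = 1 := by
        rw [sup_inf_assoc_of_le S ((Submodule.span_singleton_le_iff_mem w _).2 hwf), hSf, sup_bot_eq,
          finrank_span_singleton hw0]
      obtain ⟨d', rfl⟩ : ∃ d', d = r + d' := ⟨d - r, by omega⟩
      refine split_add hcyc (ih d' (by have := hr.out.pos; omega) C hC (by omega) ?_) hs
      rw [h1] at hfa
      nlinarith

/-- The case of a scalar that is no `r`-th power. -/
theorem split_nonpower [Fintype F] {f : V →ₗ[F] V} {r : ℕ} (hr : r.Prime) (hrF : (r : F) ≠ 0) {z : F}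
    (hz : ∀ b : F, b ^ r ≠ z) (hf : ∀ v, (f ^ r) v = z • v) (hinj : Function.Injective f) {a t : ℕ} (ha : 1 ≤ a)
    (hn : finrank F V = a * t) : Split f a ⊤ t := by
  have hz0 : z ≠ 0 := fun h => hz 0 (by rw [h, zero_pow hr.ne_zero])
  have hrn := (nonpower_spec hr hrF hz hf (X := ⊤) fun _ _ => Submodule.mem_top).1
  rw [finrank_top, hn] at hrn
  -- one cycle of `a`-dimensional subspaces
  have cyc : ∀ (s : ℕ) (X : Submodule F V), Inv f X → finrank F X = r * s →
      ∃ U : Submodule F V, finrank F U ≤ s ∧ ⨆ i : Fin r, U.map (f ^ (i : ℕ)) = X := by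
    intro s
    induction s with
    | zero =>
      intro X _ hd
      rw [mul_zero] at hd
      exact ⟨⊥, by rw [finrank_bot], by rw [Submodule.finrank_eq_zero.1 hd]; simp⟩
    | succ s ih =>
      intro X hX hd
      obtain ⟨S, hS, hSX, hS0, hSm⟩ := exists_simple f hX fun h => by
        rw [h, finrank_bot] at hd
        exact absurd hd.symm (Nat.mul_ne_zero hr.ne_zero (Nat.succ_ne_zero s))
      have hSd := simple_dim_nonpower f hr hz hf hS hS0 hSm
      obtain ⟨C, hC, hCX, hi, hs⟩ := exists_compl_in hrF hz0 hf hX hS hSX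
      have hadd := Submodule.finrank_sup_add_finrank_inf_eq S C
      rw [hs, hi, finrank_bot, add_zero, hd, hSd] at hadd
      obtain ⟨U, hU, hUC⟩ := ih C hC (by rw [Nat.mul_succ] at hadd; omega)
      obtain ⟨v, hv, hv0⟩ := S.exists_mem_ne_zero_of_ne_bot hS0
      obtain ⟨W, hW⟩ : ∃ W, W = ⨆ i : Fin r, (F ∙ v).map (f ^ (i : ℕ)) := ⟨_, rfl⟩
      have hWS : W ≤ S := hW ▸ iSup_le fun i => Submodule.map_le_iff_le_comap.2
        ((Submodule.span_singleton_le_iff_mem _ _).2 (by
          rw [Submodule.mem_comap]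
          have := inv_aeval hS ((Polynomial.X : F[X]) ^ (i : ℕ)) v hv
          rwa [map_pow, aeval_X] at this))
      have hWi : Inv f W := by
        intro x hx
        rw [hW] at hx ⊢
        refine Submodule.iSup_induction _ (motive := fun x => f x ∈ _) hx (fun i y hy => ?_) (by simp) fun x y hx hy => ?_
        · obtain ⟨y, hy, rfl⟩ := hy
          rw [← Module.End.mul_apply, ← pow_succ']
          by_cases h : (i : ℕ) + 1 < r
          · exact Submodule.mem_iSup_of_mem ⟨_, h⟩ ⟨y, hy, rfl⟩
          · rw [show (i : ℕ) + 1 = r by omega, hf]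
            exact Submodule.smul_mem _ _ (Submodule.mem_iSup_of_mem ⟨0, hr.pos⟩ ⟨y, hy, rfl⟩)
        · rw [map_add]; exact Submodule.add_mem _ hx hy
      have hWeq : W = S := hSm W hWi hWS fun h => hv0 ((Submodule.mem_bot F).1 (h ▸ hW ▸
        Submodule.mem_iSup_of_mem ⟨0, hr.pos⟩ ⟨v, Submodule.mem_span_singleton_self v, rfl⟩))
      refine ⟨(F ∙ v) ⊔ U, (Submodule.finrank_add_le_finrank_add_finrank _ _).trans ?_, ?_⟩
      · rw [finrank_span_singleton hv0]; omega
      · simp only [Submodule.map_sup]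
        rw [iSup_sup_eq, ← hW, hWeq, hUC, hs]
  have rec_split : ∀ (d s : ℕ), (∀ X : Submodule F V, Inv f X → finrank F X = r * d → Split f a X s) →
      ∀ (j : ℕ) (X : Submodule F V), Inv f X → finrank F X = r * d * j → Split f a X (j * s) := by
    intro d s h j
    induction j with
    | zero =>
      intro X _ hd
      rw [mul_zero] at hd
      rw [Submodule.finrank_eq_zero.1 hd, zero_mul]
      exact split_zero f a
    | succ j ih =>
      intro X hX hd
      obtain ⟨W, hW, hWX, hWd⟩ := (nonpower_spec hr hrF hz hf hX).2 d (by rw [hd]; nlinarith)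
      obtain ⟨C, hC, -, hi, hs⟩ := exists_compl_in hrF hz0 hf hX hW hWX
      have hadd := Submodule.finrank_sup_add_finrank_inf_eq W C
      rw [hs, hi, finrank_bot, add_zero, hd, hWd] at hadd
      rw [show (j + 1) * s = s + j * s by ring]
      exact split_add (h W hW (by rw [hWd, mul_comm])) (ih C hC (by nlinarith)) hs
  rcases (Nat.Prime.dvd_mul hr).1 hrn with ⟨b, hb⟩ | ⟨j, hj⟩
  · rw [← mul_one t]
    refine rec_split b 1 (fun X hX hd => split_single hinj hX (by rw [hd, hb])) t ⊤ (fun _ _ => Submodule.mem_top) ?_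
    rw [finrank_top, hn, hb]
  · rw [hj, mul_comm r j]
    refine rec_split a r (fun X hX hd => ?_) j ⊤ (fun _ _ => Submodule.mem_top) (by rw [finrank_top, hn, hj]; ring)
    obtain ⟨U, hU, hUX⟩ := cyc a X hX hd
    exact split_cycle hr.pos hz0 hf hU hUX

end CfsgLib.Classical22.PrimeMaps.Wreath
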