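/-
Orthogonal invariant blocks of isometries of prime order of an alternating space.
-/
import Cfsg.Agent.Lib.Classical22.PrimeOrderWreath
import Cfsg.Agent.Lib.Classical.AltBasis
import Cfsg.Agent.Lib.Classical.PrimaryDecomp

set_option autoImplicit false

namespace CfsgLib.Classical22.PrimeMaps.Symp

open Module Polynomial CfsgLib.Classical22.PrimeMaps.Wreath

universe u

variable {F : Type u} [Field F] {V : Type u} [AddCommGroup V] [Module F V] [FiniteDimensional F V]

/-- The restriction of `B` to `W` has no left radical. -/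
def Nd (B : LinearMap.BilinForm F V) (W : Submodule F V) : Prop := ∀ u ∈ W, (∀ v ∈ W, B u v = 0) → u = 0

/-- The dimension of an elementary orthogonal block. -/
def blockDim (i : ℕ) : ℕ := if Even i then i else 2 * i

theorem blockDim_even (i : ℕ) : Even (blockDim i) := by
  unfold blockDim; split_ifs with h
  exacts [h, even_two_mul i]

theorem blockDim_pos {i : ℕ} (hi : 0 < i) : 0 < blockDim i := by
  unfold blockDim; split_ifs <;> omega

theorem blockDim_dvd {i n : ℕ} (h : i ∣ n) (hn : Even n) : blockDim i ∣ n := by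
  unfold blockDim; split_ifs with he
  · exact h
  · exact (Nat.coprime_two_left.2 (Nat.not_even_iff_odd.1 he)).mul_dvd_of_dvd_of_dvd hn.two_dvd h

section Alt

variable {B : LinearMap.BilinForm F V} (hA : B.IsAlt)
include hA

theorem even_finrank {W : Submodule F V} (hW : Nd B W) : Even (finrank F W) := by
  obtain ⟨m, hm, -⟩ := CfsgLib.Classical.exists_symp_equiv (B.restrict W) (fun v => hA (v : V))
    (fun v hv => Subtype.ext (hW v v.2 fun w hw => hv ⟨w, hw⟩))
  exact ⟨m, by omega⟩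

theorem isCompl_orth {W : Submodule F V} (hW : Nd B W) : IsCompl W (B.orthogonal W) := by
  refine LinearMap.BilinForm.isCompl_orthogonal_of_restrict_nondegenerate hA.isRefl ⟨fun u hu => ?_, fun u hu => ?_⟩
  · exact Subtype.ext (hW u u.2 fun v hv => hu ⟨v, hv⟩)
  · exact Subtype.ext (hW u u.2 fun v hv => hA.isRefl _ _ (hu ⟨v, hv⟩))

theorem compl_in {W X : Submodule F V} (hW : Nd B W) (hWX : W ≤ X) :
    W ⊓ (X ⊓ B.orthogonal W) = ⊥ ∧ W ⊔ (X ⊓ B.orthogonal W) = X ∧ (Nd B X → Nd B (X ⊓ B.orthogonal W)) ∧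
      finrank F W + finrank F (X ⊓ B.orthogonal W : Submodule F V) = finrank F X := by
  have hc := isCompl_orth hA hW
  have h1 : W ⊓ (X ⊓ B.orthogonal W) = ⊥ := eq_bot_iff.2 (hc.inf_eq_bot ▸ inf_le_inf_left W inf_le_right)
  have h2 : W ⊔ (X ⊓ B.orthogonal W) = X := by
    rw [inf_comm, ← sup_inf_assoc_of_le _ hWX, hc.sup_eq_top, top_inf_eq]
  refine ⟨h1, h2, fun hX u hu hu' => hX u hu.1 fun v hv => ?_, ?_⟩
  · rw [← h2] at hv
    obtain ⟨w, hw, c, hc', rfl⟩ := Submodule.mem_sup.1 hv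
    rw [map_add, hu' c hc', add_zero]
    exact hA.isRefl _ _ (hu.2 w hw)
  · have h := Submodule.finrank_sup_add_finrank_inf_eq W (X ⊓ B.orthogonal W)
    rw [h1, h2, finrank_bot, add_zero] at h
    exact h.symm

theorem nd_sup {W W' : Submodule F V} (hW : Nd B W) (hW' : Nd B W') (ho : W' ≤ B.orthogonal W) : Nd B (W ⊔ W') := by
  intro u hu hu'
  obtain ⟨a, ha, b, hb, rfl⟩ := Submodule.mem_sup.1 hu
  have h1 : a = 0 := hW a ha fun v hv => by
    have h := hu' v (Submodule.mem_sup_left hv)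
    rwa [map_add, LinearMap.add_apply, hA.isRefl _ _ (ho hb v hv), add_zero] at h
  subst h1
  rw [zero_add] at hu' ⊢
  exact hW' b hb fun v hv => hu' v (Submodule.mem_sup_right hv)

/-- A non-degenerate plane. -/
theorem exists_plane {Y : Submodule F V} (hY : Nd B Y) (hY0 : Y ≠ ⊥) :
    ∃ W, W ≤ Y ∧ Nd B W ∧ finrank F W = 2 := by
  obtain ⟨v, hv, hv0⟩ := Y.exists_mem_ne_zero_of_ne_bot hY0
  obtain ⟨w, hw, hvw⟩ : ∃ w ∈ Y, B v w ≠ 0 := by
    by_contra hcon
    push Not at hcon
    exact hv0 (hY v hv hcon)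
  refine ⟨Submodule.span F {v, w}, Submodule.span_le.2 (Set.insert_subset hv (Set.singleton_subset_iff.2 hw)), ?_, ?_⟩
  · intro u hu hu'
    obtain ⟨x, y, rfl⟩ := Submodule.mem_span_pair.1 hu
    have h1 := hu' v (Submodule.subset_span (by simp))
    have h2 := hu' w (Submodule.subset_span (by simp))
    simp only [map_add, map_smul, LinearMap.add_apply, LinearMap.smul_apply, hA v, hA w, smul_zero, zero_add,
      add_zero, smul_eq_mul, mul_zero, mul_eq_zero] at h1 h2
    rw [h2.resolve_right hvw, h1.resolve_right fun h => hvw (hA.isRefl _ _ h)]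
    simp
  · rw [show ({v, w} : Set V) = Set.range ![v, w] by simp [Set.pair_comm], finrank_span_eq_card ?_]
    · simp
    · refine linearIndependent_fin2.2 ⟨?_, ?_⟩
      · simp only [Matrix.cons_val_one, Matrix.cons_val_fin_one]
        exact fun h => hvw (by rw [h, map_zero])
      · intro x hx
        simp only [Matrix.cons_val_one, Matrix.cons_val_fin_one, Matrix.cons_val_zero] at hx
        refine hvw ?_
        rw [← hx, map_smul, LinearMap.smul_apply, hA w, smul_zero]

/-- Orthogonal sums of blocks of dimension `c`. -/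
theorem exists_mult {f : V →ₗ[F] V} {r : ℕ} (hr : 0 < r) (hf : ∀ v, (f ^ r) v = v)
    (hB : ∀ u v, B (f u) (f v) = B u v) {c : ℕ} (hc : 0 < c) :
    ∀ (s : ℕ) (Y : Submodule F V), Inv f Y → Nd B Y →
      (∀ Y', Inv f Y' → Nd B Y' → Y' ≤ Y → Y' ≠ ⊥ → ∃ W, Inv f W ∧ Nd B W ∧ W ≤ Y' ∧ finrank F W = c) →
      s * c ≤ finrank F Y → ∃ W, Inv f W ∧ Nd B W ∧ W ≤ Y ∧ finrank F W = s * c := by
  intro s
  induction s with
  | zero =>
    intro Y _ _ _ _
    exact ⟨⊥, fun w hw => by rw [(Submodule.mem_bot F).1 hw, map_zero]; exact Submodule.zero_mem _,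
      fun u hu _ => (Submodule.mem_bot F).1 hu, bot_le, by rw [finrank_bot, zero_mul]⟩
  | succ s ih =>
    intro Y hY hYn hb hs
    rw [Nat.succ_mul] at hs
    obtain ⟨W, hW, hWn, hWY, hWd⟩ := hb Y hY hYn le_rfl fun h => by rw [h, finrank_bot] at hs; omega
    obtain ⟨h1, h2, h3, h4⟩ := compl_in hA hWn hWY
    have hperp : Inv f (B.orthogonal W) := fun x hx n hn => by
      have hpow : ∀ k, ∀ w ∈ W, (f ^ k) w ∈ W := fun k => by
        induction k with
        | zero => exact fun w hw => hw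
        | succ k ihk => intro w hw; rw [pow_succ' f, Module.End.mul_apply]; exact hW _ (ihk w hw)
      have e : f ((f ^ (r - 1)) n) = n := by
        rw [← Module.End.mul_apply, ← pow_succ', Nat.sub_add_cancel hr, hf]
      rw [← e]
      exact (hB _ _).trans (hx _ (hpow _ n hn))
    obtain ⟨W', hW', hWn', hWY', hWd'⟩ := ih (Y ⊓ B.orthogonal W) (fun w hw => ⟨hY w hw.1, hperp w hw.2⟩)
      (h3 hYn) (fun Y' a b d => hb Y' a b (d.trans inf_le_left)) (by omega)
    refine ⟨W ⊔ W', ?_, nd_sup hA hWn hWn' (hWY'.trans inf_le_right), sup_le hWY (hWY'.trans inf_le_left), ?_⟩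
    · intro w hw
      obtain ⟨a, ha, b, hb', rfl⟩ := Submodule.mem_sup.1 hw
      rw [map_add]
      exact Submodule.add_mem_sup (hW a ha) (hW' b hb')
    · have h := Submodule.finrank_sup_add_finrank_inf_eq W W'
      rw [show W ⊓ W' = ⊥ from eq_bot_iff.2 (h1 ▸ inf_le_inf_left W hWY'), finrank_bot, add_zero] at h
      rw [h, hWd, hWd', Nat.succ_mul, add_comm]

end Alt

section Isometry

variable {B : LinearMap.BilinForm F V} {f : V →ₗ[F] V} {r : ℕ}

theorem pow_inv {W : Submodule F V} (hW : Inv f W) (k : ℕ) : ∀ w ∈ W, (f ^ k) w ∈ W := by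
  induction k with
  | zero => exact fun w hw => hw
  | succ k ih => intro w hw; rw [pow_succ' f, Module.End.mul_apply]; exact hW _ (ih w hw)

theorem form_pow (hB : ∀ u v, B (f u) (f v) = B u v) (k : ℕ) (u v : V) : B ((f ^ k) u) ((f ^ k) v) = B u v := by
  induction k with
  | zero => rfl
  | succ k ih => rw [pow_succ' f, Module.End.mul_apply, Module.End.mul_apply, hB, ih]

theorem inv_orth (hr : 0 < r) (hf : ∀ v, (f ^ r) v = v) (hB : ∀ u v, B (f u) (f v) = B u v)
    {W : Submodule F V} (hW : Inv f W) : Inv f (B.orthogonal W) := fun x hx n hn => by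
  have e : f ((f ^ (r - 1)) n) = n := by
    rw [← Module.End.mul_apply, ← pow_succ', Nat.sub_add_cancel hr, hf]
  rw [← e]
  exact (hB _ _).trans (hx _ (pow_inv hW _ n hn))

theorem fixed_nd (hrF : (r : F) ≠ 0) (hf : ∀ v, (f ^ r) v = v) (hB : ∀ u v, B (f u) (f v) = B u v)
    {X : Submodule F V} (hX : Inv f X) (hXn : Nd B X) : Nd B (X ⊓ fixed f) := by
  intro u hu hu'
  refine hXn u hu.1 fun v hv => ?_
  obtain ⟨w, hw⟩ : ∃ w, w = ∑ k ∈ Finset.range r, (f ^ k) v := ⟨_, rfl⟩
  have hwf : f w = w := by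
    rw [hw, map_sum]
    have e1 := Finset.sum_range_succ' (fun k => (f ^ k) v) r
    rw [Finset.sum_range_succ (fun k => (f ^ k) v) r, hf, pow_zero, Module.End.one_apply, add_left_inj] at e1
    rw [e1]
    exact Finset.sum_congr rfl fun k _ => by rw [pow_succ' f, Module.End.mul_apply]
  have h := hu' w ⟨hw ▸ Submodule.sum_mem _ fun k _ => pow_inv hX k v hv, mem_fixed.2 hwf⟩
  have hterm : ∀ k, B u ((f ^ k) v) = B u v := fun k => by
    have hfix : ∀ k, (f ^ k) u = u := fun k => by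
      induction k with
      | zero => rfl
      | succ k ih => rw [pow_succ' f, Module.End.mul_apply, ih, mem_fixed.1 hu.2]
    conv_lhs => rw [← hfix k, form_pow hB]
  rw [hw, map_sum, Finset.sum_congr rfl fun k _ => hterm k, Finset.sum_const, Finset.card_range, nsmul_eq_mul] at h
  exact (mul_eq_zero.1 h).resolve_left hrF

variable [Fintype F]

theorem dvd_sub_fixed [Fact r.Prime] (hA : B.IsAlt) (hrF : (r : F) ≠ 0) (hf : ∀ v, (f ^ r) v = v)
    (hB : ∀ u v, B (f u) (f v) = B u v) {X : Submodule F V} (hX : Inv f X) (hXn : Nd B X) :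
    blockDim (orderOf (Fintype.card F : ZMod r)) ∣
      finrank F X - finrank F (X ⊓ fixed f : Submodule F V) :=
  blockDim_dvd (order_spec hrF hf hX).1
    ((Nat.even_sub (Submodule.finrank_mono inf_le_left)).2
      (iff_of_true (even_finrank hA hXn) (even_finrank hA (fixed_nd hrF hf hB hX hXn))))

/-- A fixed-point-free non-degenerate invariant space contains a block of dimension `blockDim i`. -/
theorem exists_block [hr : Fact r.Prime] (hr2 : r ≠ 2) (hA : B.IsAlt) (hrF : (r : F) ≠ 0) (hf : ∀ v, (f ^ r) v = v)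
    (hB : ∀ u v, B (f u) (f v) = B u v) {i : ℕ} (hi : i = orderOf (Fintype.card F : ZMod r)) (hi0 : 0 < i)
    {Y : Submodule F V} (hY : Inv f Y) (hYn : Nd B Y) (hfix : ∀ w ∈ Y, f w = w → w = 0) (hY0 : Y ≠ ⊥) :
    ∃ W, Inv f W ∧ Nd B W ∧ W ≤ Y ∧ finrank F W = blockDim i := by
  have hrp := hr.out.pos
  have hmult : ∀ W, Inv f W → W ≤ Y → W ≠ ⊥ → i ∣ finrank F W ∧ i ≤ finrank F W := fun W hW hWY hW0 => by
    have h := (order_spec hrF hf hW).1
    rw [show W ⊓ fixed f = ⊥ from eq_bot_iff.2 fun w hw =>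
      (Submodule.mem_bot F).2 (hfix w (hWY hw.1) (mem_fixed.1 hw.2)), finrank_bot, Nat.sub_zero, ← hi] at h
    exact ⟨h, Nat.le_of_dvd (Nat.pos_of_ne_zero fun h0 => hW0 (Submodule.finrank_eq_zero.1 h0)) h⟩
  obtain ⟨S, hS, hSY, hS0, hSm⟩ := exists_simple f hY hY0
  have hSd : finrank F S = i := hi ▸ simple_dim_order f hf hS hS0 hSm hrF fun w hw => hfix w (hSY hw)
  -- a simple space is totally isotropic or non-degenerate
  have dich : ∀ W, Inv f W → W ≤ Y → finrank F W = i → Nd B W ∨ ∀ a ∈ W, ∀ b ∈ W, B a b = 0 := by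
    intro W hW hWY hWd
    by_cases h0 : W ⊓ B.orthogonal W = ⊥
    · left
      exact fun u hu hu' => (Submodule.mem_bot F).1 (h0 ▸ ⟨hu, fun n hn => hA.isRefl _ _ (hu' n hn)⟩)
    · right
      obtain ⟨-, hle⟩ := hmult (W ⊓ B.orthogonal W) (fun w hw => ⟨hW w hw.1, inv_orth hrp hf hB hW w hw.2⟩)
        (inf_le_left.trans hWY) h0
      have heq := Submodule.eq_of_le_of_finrank_le (inf_le_left : W ⊓ B.orthogonal W ≤ W) (by rw [hWd]; exact hle)
      intro a ha b hb
      exact (heq.ge hb).2 a ha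
  rcases dich S hS hSY hSd with hSn | hiso
  · refine ⟨S, hS, hSn, hSY, ?_⟩
    rw [hSd, blockDim, if_pos (hSd ▸ even_finrank hA hSn)]
  -- a partner of `S`
  obtain ⟨R, hR⟩ : ∃ R, R = Y ⊓ B.orthogonal S := ⟨_, rfl⟩
  have hRinv : Inv f R := by
    rw [hR]
    exact fun w hw => ⟨hY w hw.1, inv_orth hrp hf hB hS w hw.2⟩
  obtain ⟨K, hK, hKY, hi1, hs1⟩ := exists_compl_in hrF one_ne_zero (fun v => by rw [hf, one_smul]) hY hRinv
    (hR ▸ inf_le_left : R ≤ Y)
  have hpairK : ∀ k ∈ K, (∀ s ∈ S, B s k = 0) → k = 0 := fun k hk h =>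
    (Submodule.mem_bot F).1 (hi1 ▸ ⟨hR ▸ ⟨hKY hk, h⟩, hk⟩)
  have hpairS : ∀ s ∈ S, (∀ k ∈ K, B s k = 0) → s = 0 := fun s hs h => hYn s (hSY hs) fun v hv => by
    rw [← hs1] at hv
    obtain ⟨x, hx, y, hy, rfl⟩ := Submodule.mem_sup.1 hv
    rw [hR] at hx
    rw [map_add, h y hy, add_zero, hx.2 s hs]
  have hKd : finrank F K = i := by
    obtain ⟨φ, hφ⟩ : ∃ φ : K →ₗ[F] Module.Dual F S, ∀ k s, φ k s = B (s : V) (k : V) :=
      ⟨(B.flip.domRestrict₁₂ K S), fun k s => rfl⟩
    obtain ⟨ψ, hψ⟩ : ∃ ψ : S →ₗ[F] Module.Dual F K, ∀ s k, ψ s k = B (s : V) (k : V) :=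
      ⟨(B.domRestrict₁₂ S K), fun s k => rfl⟩
    have h1 := LinearMap.finrank_le_finrank_of_injective (f := φ) ((injective_iff_map_eq_zero _).2 fun k hk =>
      Subtype.ext (hpairK k k.2 fun s hs => by rw [← hφ k ⟨s, hs⟩, hk]; rfl))
    have h2 := LinearMap.finrank_le_finrank_of_injective (f := ψ) ((injective_iff_map_eq_zero _).2 fun s hs =>
      Subtype.ext (hpairS s s.2 fun k hk => by rw [← hψ s ⟨k, hk⟩, hs]; rfl))
    rw [Subspace.dual_finrank_eq] at h1 h2
    omega
  rcases dich K hK hKY hKd with hKn | hisoK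
  · refine ⟨K, hK, hKn, hKY, ?_⟩
    rw [hKd, blockDim, if_pos (hKd ▸ even_finrank hA hKn)]
  have hSK : S ⊓ K = ⊥ := eq_bot_iff.2 fun w hw =>
    (Submodule.mem_bot F).2 (hpairK w hw.2 fun s hs => hiso s hs w hw.1)
  by_cases hev : Even i
  swap
  · refine ⟨S ⊔ K, ?_, ?_, sup_le hSY hKY, ?_⟩
    · intro w hw
      obtain ⟨a, ha, b, hb, rfl⟩ := Submodule.mem_sup.1 hw
      rw [map_add]
      exact Submodule.add_mem_sup (hS a ha) (hK b hb)
    · intro u hu hu'
      obtain ⟨a, ha, b, hb, rfl⟩ := Submodule.mem_sup.1 hu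
      have hb0 : b = 0 := hpairK b hb fun s hs => by
        have h := hu' s (Submodule.mem_sup_left hs)
        rw [map_add, LinearMap.add_apply, hiso a ha s hs, zero_add] at h
        exact hA.isRefl _ _ h
      subst hb0
      rw [add_zero] at hu' ⊢
      exact hpairS a ha fun k hk => hu' k (Submodule.mem_sup_right hk)
    · have h := Submodule.finrank_sup_add_finrank_inf_eq S K
      rw [hSK, finrank_bot, add_zero, hSd, hKd] at h
      rw [h, blockDim, if_neg hev, two_mul]
  -- for even `i` the space `K` is isomorphic to `S`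
  obtain ⟨P, hP, -, hPd, hPS⟩ := simple_minpoly f hS hS0 hSm (X_pow_sub_C_ne_zero hrp (1 : F))
    (fun w _ => by simp [hf])
  rw [hSd] at hPd
  obtain ⟨m, hm⟩ := hev
  have hneg : ((Fintype.card F : ZMod r)) ^ m = -1 := by
    have h2 : ((Fintype.card F : ZMod r) ^ m) ^ 2 = 1 := by
      rw [← pow_mul, show m * 2 = i by omega, hi, pow_orderOf_eq_one]
    rcases sq_eq_one_iff.1 h2 with h | h
    · have := orderOf_dvd_of_pow_eq_one h
      rw [← hi] at this
      have := Nat.le_of_dvd (by omega) this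
      omega
    · exact h
  obtain ⟨N, hN⟩ : ∃ N, N = Fintype.card F ^ m := ⟨_, rfl⟩
  have hfN : f ^ N = f ^ (r - 1) := by
    have hmod : N % r = r - 1 := by
      have h1 : (N : ZMod r) = ((r - 1 : ℕ) : ZMod r) := by
        rw [hN, Nat.cast_pow, hneg, Nat.cast_sub hr.out.one_le, ZMod.natCast_self, zero_sub, Nat.cast_one]
      rw [ZMod.natCast_eq_natCast_iff', Nat.mod_eq_of_lt (show r - 1 < r by omega)] at h1
      exact h1
    rw [← Nat.div_add_mod N r, hmod, pow_add, pow_mul, show f ^ r = 1 from LinearMap.ext hf, one_pow, one_mul]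
  have hPinv : ∀ s ∈ S, aeval (f ^ (r - 1)) P s = 0 := by
    intro s hs
    have he : aeval (f ^ (r - 1)) P = (aeval f P) ^ N := by
      rw [← map_pow (aeval f), ← hfN, hN]
      clear hN hfN hneg hm hPd
      induction m generalizing P with
      | zero => rw [pow_zero, pow_one, pow_one]
      | succ k ih =>
        rw [pow_succ (Fintype.card F), pow_mul f, ← Polynomial.expand_aeval, FiniteField.expand_card, map_pow, ih,
          ← map_pow, ← pow_mul, map_pow]
        all_goals assumption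
    rw [he, ← Nat.sub_add_cancel (hN ▸ Nat.one_le_pow _ _ Fintype.card_pos : 1 ≤ N), pow_succ, Module.End.mul_apply,
      hPS s hs, map_zero]
  have hadj : ∀ (Q : F[X]) (x y : V), B (aeval (f ^ (r - 1)) Q x) y = B x (aeval f Q y) := by
    intro Q x y
    induction Q using Polynomial.induction_on' with
    | add Q Q' h h' => simp only [map_add, LinearMap.add_apply, h, h']
    | monomial k c =>
      simp only [aeval_monomial, Module.End.mul_apply, Module.algebraMap_end_apply, map_smul, LinearMap.smul_apply]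
      congr 1
      rw [← form_pow hB k, ← Module.End.mul_apply, ← pow_mul, ← pow_add, show k + (r - 1) * k = r * k by
        rw [Nat.sub_one_mul, Nat.add_sub_cancel' (Nat.le_mul_of_pos_left k hrp)], pow_mul,
        show f ^ r = 1 from LinearMap.ext hf, one_pow, Module.End.one_apply]
  have hPK : ∀ k ∈ K, aeval f P k = 0 := fun k hk => hpairK _ (inv_aeval hK P k hk) fun s hs => by
    rw [← hadj, hPinv s hs, map_zero, LinearMap.zero_apply]
  haveI : Fact (Irreducible P) := ⟨hP⟩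
  have hres : ∀ (W : Submodule F V) (hW : Inv f W), (∀ w ∈ W, aeval f P w = 0) → aeval (f.restrict hW) P = 0 := by
    intro W hW hPW
    refine LinearMap.ext fun w => Subtype.ext ?_
    have h2 : ∀ (Q : F[X]) (v : W), ((aeval (f.restrict hW) Q v : W) : V) = aeval f Q (v : V) := by
      intro Q
      induction Q using Polynomial.induction_on' with
      | add a b ha hb => intro v; simp [ha, hb]
      | monomial k c =>
        intro v
        have hp : ∀ k (v : W), (((f.restrict hW : Module.End F W) ^ k) v : V) = (f ^ k) (v : V) := fun k => by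
          induction k with
          | zero => exact fun v => rfl
          | succ k ih => intro v; rw [pow_succ', pow_succ' f, Module.End.mul_apply, Module.End.mul_apply, ← ih]; rfl
        rw [aeval_monomial, aeval_monomial, Module.End.mul_apply, Module.End.mul_apply]
        simp [Module.algebraMap_end_apply, hp]
    rw [h2, hPW w w.2]
    rfl
  obtain ⟨φ, hφ⟩ := CfsgLib.Classical.Primary.exists_intertwine P (f.restrict hS) (hres S hS hPS) (f.restrict hK)
    (hres K hK hPK) (hSd.trans hKd.symm)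
  have hφf : ∀ s : S, (φ (f.restrict hS s) : V) = f (φ s : V) := fun s => by rw [hφ]; rfl
  have hone : ∀ ψ : S →ₗ[F] V, (∀ s, ψ s ∈ K) → (∀ s, ψ (f.restrict hS s) = f (ψ s)) →
      (∃ s u : S, B (s : V) (ψ u) ≠ B (u : V) (ψ s)) → ∃ W, Inv f W ∧ Nd B W ∧ W ≤ Y ∧ finrank F W = blockDim i := by
    intro ψ hψK hψf ⟨s, u, hsu⟩
    obtain ⟨W, hW⟩ : ∃ W, W = LinearMap.range (S.subtype + ψ) := ⟨_, rfl⟩
    have hWinv : Inv f W := by
      rw [hW]
      rintro _ ⟨x, rfl⟩
      refine ⟨f.restrict hS x, ?_⟩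
      rw [LinearMap.add_apply, LinearMap.add_apply, map_add, hψf]
      rfl
    have hWY : W ≤ Y := by
      rw [hW]
      rintro _ ⟨x, rfl⟩
      exact Y.add_mem (hSY x.2) (hKY (hψK x))
    have hWd : finrank F W = i := by
      rw [hW, LinearMap.finrank_range_of_inj ?_, hSd]
      refine (injective_iff_map_eq_zero _).2 fun x hx => Subtype.ext ((Submodule.mem_bot F).1 (hSK ▸ ⟨x.2, ?_⟩))
      rw [LinearMap.add_apply, add_eq_zero_iff_eq_neg] at hx
      have : (x : V) = -ψ x := hx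
      exact this ▸ K.neg_mem (hψK x)
    refine ⟨W, hWinv, (dich W hWinv hWY hWd).resolve_right fun hz => hsu ?_, hWY, ?_⟩
    · have h := hz ((S.subtype + ψ) s) (hW ▸ ⟨s, rfl⟩) ((S.subtype + ψ) u) (hW ▸ ⟨u, rfl⟩)
      simp only [LinearMap.add_apply, Submodule.subtype_apply, map_add, hiso _ s.2 _ u.2,
        hisoK _ (hψK s) _ (hψK u), add_zero, zero_add] at h
      rw [← LinearMap.IsAlt.neg hA (u : V) (ψ s)] at h
      linear_combination h
    · rw [hWd, blockDim, if_pos ⟨m, hm⟩]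
  by_cases h1 : ∃ s u : S, B (s : V) (φ u : V) ≠ B (u : V) (φ s : V)
  · exact hone (K.subtype ∘ₗ φ.toLinearMap) (fun s => (φ s).2) hφf h1
  push Not at h1
  refine hone (f ∘ₗ K.subtype ∘ₗ φ.toLinearMap) (fun s => hK _ (φ s).2)
    (fun s => congrArg f (hφf s)) (by_contra fun h2 => ?_)
  push Not at h2
  obtain ⟨x, hx, hx0⟩ := S.exists_mem_ne_zero_of_ne_bot hS0
  -- both forms symmetric force `f * f = 1` on `S`
  have hsq : f (f x) = x := by
    have hz : (φ (f.restrict hS (f.restrict hS ⟨x, hx⟩) - ⟨x, hx⟩) : V) = 0 := hpairK _ (φ _).2 fun s hs => by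
      rw [map_sub, Submodule.coe_sub, map_sub, sub_eq_zero, hφf]
      have e1 := h2 ⟨s, hs⟩ (f.restrict hS ⟨x, hx⟩)
      change B s (f (φ (f.restrict hS ⟨x, hx⟩) : V)) = B (f x) (f (φ ⟨s, hs⟩ : V)) at e1
      rw [hB] at e1
      rw [e1]
      exact (h1 ⟨s, hs⟩ ⟨x, hx⟩).symm
    have h0 := φ.map_eq_zero_iff.1 (Subtype.ext hz)
    exact congrArg Subtype.val (sub_eq_zero.1 h0)
  refine hx0 (hfix x (hSY hx) ?_)
  obtain ⟨k, hk⟩ := hr.out.odd_of_ne_two hr2
  have hsqk : ∀ k, (f ^ (2 * k)) x = x := fun k => by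
    induction k with
    | zero => rfl
    | succ k ih => rw [Nat.mul_succ, pow_add, Module.End.mul_apply, pow_two, Module.End.mul_apply, hsq, ih]
  calc f x = f ((f ^ (2 * k)) x) := by rw [hsqk]
    _ = (f ^ r) x := by rw [hk, pow_succ' f, Module.End.mul_apply]
    _ = x := hf x

/-- Non-degenerate invariant subspaces with prescribed fixed space. -/
theorem exists_sub [hr : Fact r.Prime] (hr2 : r ≠ 2) (hA : B.IsAlt) (hrF : (r : F) ≠ 0) (hf : ∀ v, (f ^ r) v = v)
    (hB : ∀ u v, B (f u) (f v) = B u v) {i : ℕ} (hi : i = orderOf (Fintype.card F : ZMod r)) (hi0 : 0 < i)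
    {X : Submodule F V} (hX : Inv f X) (hXn : Nd B X) (j s : ℕ) (hj2 : Even j)
    (hj : j ≤ finrank F (X ⊓ fixed f : Submodule F V))
    (hs : finrank F (X ⊓ fixed f : Submodule F V) + s * blockDim i ≤ finrank F X) :
    ∃ W, Inv f W ∧ Nd B W ∧ W ≤ X ∧ finrank F (W ⊓ fixed f : Submodule F V) = j ∧
      finrank F W = j + s * blockDim i := by
  have hrp := hr.out.pos
  have hXfn := fixed_nd hrF hf hB hX hXn
  have hfixinv : ∀ Z : Submodule F V, Z ≤ fixed f → Inv f Z := fun Z hZ w hw => by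
    rw [mem_fixed.1 (hZ hw)]; exact hw
  obtain ⟨g, rfl⟩ := hj2
  obtain ⟨J, hJ, hJn, hJX, hJd⟩ := exists_mult hA hrp hf hB two_pos g (X ⊓ fixed f)
    (hfixinv _ inf_le_right) hXfn (fun Y' _ hY' hle hne => by
      obtain ⟨W, h1, h2, h3⟩ := exists_plane hA hY' hne
      exact ⟨W, hfixinv W ((h1.trans hle).trans inf_le_right), h2, h1, h3⟩) (by omega)
  obtain ⟨h1, h2, h3, h4⟩ := compl_in hA hXfn (inf_le_left : X ⊓ fixed f ≤ X)
  have hM : Inv f (X ⊓ B.orthogonal (X ⊓ fixed f)) := fun w hw =>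
    ⟨hX w hw.1, inv_orth hrp hf hB (hfixinv _ inf_le_right) w hw.2⟩
  obtain ⟨S, hS, hSn, hSM, hSd⟩ := exists_mult hA hrp hf hB (blockDim_pos hi0) s _ hM (h3 hXn)
    (fun Y' hY' hYn' hle hne => exists_block hr2 hA hrF hf hB hi hi0 hY' hYn'
      (fun w hw hfw => (Submodule.mem_bot F).1 (h1 ▸ ⟨⟨(hle hw).1, mem_fixed.2 hfw⟩, hle hw⟩)) hne) (by omega)
  have hsf : S ⊓ fixed f = ⊥ := eq_bot_iff.2 fun w hw =>
    h1.le ⟨⟨(hSM hw.1).1, hw.2⟩, hSM hw.1⟩
  have hbot : J ⊓ S = ⊥ := eq_bot_iff.2 (h1 ▸ inf_le_inf hJX hSM)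
  have ho : S ≤ B.orthogonal J := fun w hw n hn => (hSM hw).2 n (hJX hn)
  refine ⟨J ⊔ S, ?_, nd_sup hA hJn hSn ho, sup_le (hJX.trans inf_le_left) (hSM.trans inf_le_left), ?_, ?_⟩
  · intro w hw
    obtain ⟨a, ha, b, hb, rfl⟩ := Submodule.mem_sup.1 hw
    rw [map_add]
    exact Submodule.add_mem_sup (hJ a ha) (hS b hb)
  · have h := fixed_add hJ hS hbot rfl
    rw [hsf, finrank_bot, inf_eq_left.2 (hJX.trans inf_le_right), hJd, add_zero] at h
    omega
  · have h := Submodule.finrank_sup_add_finrank_inf_eq J S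
    rw [hbot, finrank_bot, add_zero, hJd, hSd] at h
    omega

/-- An orthogonal decomposition into invariant non-degenerate blocks. -/
theorem split_symp [hr : Fact r.Prime] (hr2 : r ≠ 2) (hA : B.IsAlt) (hrF : (r : F) ≠ 0) (hf : ∀ v, (f ^ r) v = v)
    (hB : ∀ u v, B (f u) (f v) = B u v) {i : ℕ} (hi : i = orderOf (Fintype.card F : ZMod r)) (hi0 : 0 < i)
    {a : ℕ} (hae : Even a) :
    ∀ (t u : ℕ) (X : Submodule F V), Inv f X → Nd B X → finrank F X = a * t →
      finrank F (X ⊓ fixed f : Submodule F V) = t * (a % blockDim i) + blockDim i * u →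
      ∃ D : Fin t → Submodule F V, (∀ j, finrank F (D j) = a ∧ Inv f (D j) ∧ Nd B (D j)) ∧
        (∀ j j', j ≠ j' → ∀ x ∈ D j, ∀ y ∈ D j', B x y = 0) ∧ iSup D = X := by
  intro t
  induction t with
  | zero =>
    intro u X _ _ hd _
    rw [mul_zero] at hd
    exact ⟨fun j => ⊥, fun j => j.elim0, fun j => j.elim0, by rw [Submodule.finrank_eq_zero.1 hd]; simp⟩
  | succ t ih =>
    intro u X hX hXn hd hk
    obtain ⟨c, hc⟩ : ∃ c, c = blockDim i := ⟨_, rfl⟩
    have hc0 : 0 < c := hc ▸ blockDim_pos hi0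
    have hce : Even c := hc ▸ blockDim_even i
    rw [← hc] at hk
    obtain ⟨v, hv⟩ : ∃ v, v = min (a / c) u := ⟨_, rfl⟩
    obtain ⟨u', hu'⟩ : ∃ u', u = v + u' := ⟨u - v, by omega⟩
    obtain ⟨w, hw⟩ : ∃ w, a / c = v + w := ⟨a / c - v, by omega⟩
    have hdiv := Nat.div_add_mod a c
    rw [hw] at hdiv
    have hle : finrank F (X ⊓ fixed f : Submodule F V) ≤ finrank F X := Submodule.finrank_mono inf_le_left
    have hneed : finrank F (X ⊓ fixed f : Submodule F V) + w * c ≤ finrank F X := by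
      rw [hk, hd, hu']
      rcases Nat.eq_zero_or_pos w with h | h
      · rw [h, zero_mul, add_zero]; rw [hk, hd, hu'] at hle; exact hle
      · have : u' = 0 := by omega
        subst this
        have h2 : t * (a % c) ≤ t * a := Nat.mul_le_mul_left t (Nat.mod_le a c)
        nlinarith
    have hj2 : Even (a % c + c * v) := by
      have hm : Even (a % c) := by
        rw [Nat.even_iff, Nat.mod_mod_of_dvd a hce.two_dvd]
        exact Nat.even_iff.1 hae
      exact hm.add (hce.mul_right v)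
    obtain ⟨W, hW, hWn, hWX, hWf, hWd⟩ := exists_sub hr2 hA hrF hf hB hi hi0 hX hXn (a % c + c * v) w hj2
      (by rw [hk, hu']; nlinarith [Nat.zero_le (t * (a % c)), Nat.zero_le (c * u')]) (hc ▸ hneed)
    rw [← hc] at hWd
    have hWa : finrank F W = a := by rw [hWd]; nlinarith
    obtain ⟨h1, h2, h3, h4⟩ := compl_in hA hWn hWX
    have hC : Inv f (X ⊓ B.orthogonal W) := fun x hx => ⟨hX x hx.1, inv_orth hr.out.pos hf hB hW x hx.2⟩
    have hfa := fixed_add hW hC h1 h2
    rw [hWf, hk, hu'] at hfa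
    obtain ⟨D, hD, horth, hsup⟩ := ih u' _ hC (h3 hXn) (by rw [hWa, hd] at h4; nlinarith) (by rw [← hc]; nlinarith)
    refine ⟨Fin.cons W D, fun j => ?_, fun j j' hne => ?_, ?_⟩
    · refine Fin.cases ?_ (fun j => ?_) j
      · rw [Fin.cons_zero]; exact ⟨hWa, hW, hWn⟩
      · rw [Fin.cons_succ]; exact hD j
    · have hleD : ∀ j, D j ≤ B.orthogonal W := fun j => (le_iSup D j).trans (hsup.trans_le inf_le_right)
      revert hne
      refine Fin.cases ?_ (fun j => ?_) j <;> refine Fin.cases ?_ (fun j' => ?_) j' <;> intro hne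
      · exact absurd rfl hne
      · simp only [Fin.cons_zero, Fin.cons_succ]
        exact fun x hx y hy => hleD j' hy x hx
      · simp only [Fin.cons_zero, Fin.cons_succ]
        exact fun x hx y hy => hA.isRefl _ _ (hleD j hx y hy)
      · simp only [Fin.cons_succ]
        exact horth j j' fun h => hne (by rw [h])
    · refine le_antisymm (iSup_le fun j => ?_) ?_
      · refine Fin.cases ?_ (fun j => ?_) j
        · rw [Fin.cons_zero]; exact hWX
        · rw [Fin.cons_succ]; exact ((le_iSup D j).trans hsup.le).trans inf_le_left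
      · rw [← h2, ← hsup]
        refine sup_le ?_ (iSup_le fun j => ?_)
        · exact le_iSup_of_le 0 (by rw [Fin.cons_zero])
        · exact le_iSup_of_le j.succ (by rw [Fin.cons_succ])

end Isometry

end CfsgLib.Classical22.PrimeMaps.Symp
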