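/-
Totally isotropic subspaces invariant under isometries of odd prime order of an alternating space.
-/
import Cfsg.Agent.Lib.Classical22.PrimeOrderSympBlocks
import Cfsg.Agent.Lib.Classical.InversionIndex

set_option autoImplicit false

namespace CfsgLib.Classical22.PrimeMaps.Symp

open Module Polynomial CfsgLib.Classical22.PrimeMaps.Wreath CfsgLib.Classical.InvIdx

universe u

variable {F : Type u} [Field F] {V : Type u} [AddCommGroup V] [Module F V] [FiniteDimensional F V]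

/-- The restriction of `B` to `U` vanishes. -/
def Iso (B : LinearMap.BilinForm F V) (U : Submodule F V) : Prop := ∀ a ∈ U, ∀ b ∈ U, B a b = 0

section Alt

variable {B : LinearMap.BilinForm F V} (hA : B.IsAlt)
include hA

theorem exists_iso {X : Submodule F V} (hX : Nd B X) {j : ℕ} (hj : 2 * j ≤ finrank F X) :
    ∃ U, U ≤ X ∧ Iso B U ∧ finrank F U = j := by
  classical
  obtain ⟨m, hm, e, he⟩ := CfsgLib.Classical.exists_symp_equiv (B.restrict X) (fun v => hA (v : V))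
    (fun v hv => Subtype.ext (hX v v.2 fun w hw => hv ⟨w, hw⟩))
  obtain ⟨φ, hφ⟩ : ∃ φ : (Fin j → F) →ₗ[F] V, ∀ a, φ a =
      (e (Sum.elim (fun k : Fin m => if h : (k : ℕ) < j then a ⟨k, h⟩ else 0) 0) : V) := by
    refine ⟨X.subtype ∘ₗ e.toLinearMap ∘ₗ
      { toFun := fun a => Sum.elim (fun k : Fin m => if h : (k : ℕ) < j then a ⟨k, h⟩ else 0) 0
        map_add' := fun a b => funext fun k => by rcases k with k | k <;> simp <;> split_ifs <;> simp
        map_smul' := fun a b => funext fun k => by rcases k with k | k <;> simp <;> split_ifs <;> simp }, fun a => rfl⟩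
  refine ⟨LinearMap.range φ, ?_, ?_, ?_⟩
  · rintro _ ⟨a, rfl⟩
    rw [hφ]; exact (e _).2
  · rintro _ ⟨a, rfl⟩ _ ⟨b, rfl⟩
    rw [hφ, hφ]
    refine (he _ _).trans ?_
    rw [CfsgLib.Classical.sympForm_eq]
    simp
  · rw [LinearMap.finrank_range_of_inj ((injective_iff_map_eq_zero _).2 fun a ha => ?_), Module.finrank_fin_fun]
    rw [hφ, Submodule.coe_eq_zero, e.map_eq_zero_iff] at ha
    funext k
    have h := congrFun ha (Sum.inl ⟨k, by omega⟩)
    simpa using h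

theorem iso_le_half {X : Submodule F V} (hX : Nd B X) {U : Submodule F V} (hU : U ≤ X) (hi : Iso B U) :
    2 * finrank F U ≤ finrank F X := by
  have hnd : (B.restrict X).Nondegenerate := ⟨fun u hu => Subtype.ext (hX u u.2 fun v hv => hu ⟨v, hv⟩),
    fun u hu => Subtype.ext (hX u u.2 fun v hv => hA.isRefl _ _ (hu ⟨v, hv⟩))⟩
  obtain ⟨U', hU'⟩ : ∃ U', U' = U.comap X.subtype := ⟨_, rfl⟩
  have hle : U' ≤ (B.restrict X).orthogonal U' := by
    rw [hU']
    exact fun u hu v hv => hi _ hv _ hu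
  have h := Submodule.finrank_mono hle
  rw [LinearMap.BilinForm.finrank_orthogonal hnd, hU',
    LinearEquiv.finrank_eq (Submodule.comapSubtypeEquivOfLe hU)] at h
  omega

omit [FiniteDimensional F V] hA in
theorem inv_sup {f : V →ₗ[F] V} {U W : Submodule F V} (hU : Inv f U) (hW : Inv f W) : Inv f (U ⊔ W) := by
  intro w hw
  obtain ⟨a, ha, b, hb, rfl⟩ := Submodule.mem_sup.1 hw
  rw [map_add]
  exact Submodule.add_mem_sup (hU a ha) (hW b hb)

theorem iso_sup {U W : Submodule F V} (hU : Iso B U) (hW : Iso B W) (ho : W ≤ B.orthogonal U) : Iso B (U ⊔ W) := by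
  intro a ha b hb
  obtain ⟨a1, ha1, a2, ha2, rfl⟩ := Submodule.mem_sup.1 ha
  obtain ⟨b1, hb1, b2, hb2, rfl⟩ := Submodule.mem_sup.1 hb
  simp only [map_add, LinearMap.add_apply, hU a1 ha1 b1 hb1, hW a2 ha2 b2 hb2, add_zero, zero_add]
  rw [show B a1 b2 = 0 from ho hb2 a1 ha1, show B a2 b1 = 0 from hA.isRefl _ _ (ho ha2 b1 hb1), add_zero]

end Alt

section Isometry

variable [Fintype F] {B : LinearMap.BilinForm F V} {f : V →ₗ[F] V} {r i : ℕ}

/-- `q` to the half order is `-1` modulo `r`. -/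
theorem pow_half [hr : Fact r.Prime] (hf : ∀ v, (f ^ r) v = v) (hi : i = orderOf (Fintype.card F : ZMod r)) {m : ℕ}
    (hm : i = m + m) (hm0 : 0 < m) : f ^ (Fintype.card F ^ m) = f ^ (r - 1) := by
  have hneg : ((Fintype.card F : ZMod r)) ^ m = -1 := by
    have h2 : ((Fintype.card F : ZMod r) ^ m) ^ 2 = 1 := by
      rw [← pow_mul, show m * 2 = i by omega, hi, pow_orderOf_eq_one]
    rcases sq_eq_one_iff.1 h2 with h | h
    · have := orderOf_dvd_of_pow_eq_one h
      rw [← hi] at this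
      have := Nat.le_of_dvd (by omega) this
      omega
    · exact h
  have hrp := hr.out.pos
  have hmod : Fintype.card F ^ m % r = r - 1 := by
    have h1 : ((Fintype.card F ^ m : ℕ) : ZMod r) = ((r - 1 : ℕ) : ZMod r) := by
      rw [Nat.cast_pow, hneg, Nat.cast_sub hr.out.one_le, ZMod.natCast_self, zero_sub, Nat.cast_one]
    rw [ZMod.natCast_eq_natCast_iff', Nat.mod_eq_of_lt (show r - 1 < r by omega)] at h1
    exact h1
  rw [← Nat.div_add_mod (Fintype.card F ^ m) r, hmod, pow_add, pow_mul, show f ^ r = 1 from LinearMap.ext hf, one_pow,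
    one_mul]

omit [FiniteDimensional F V] in
theorem aeval_pow_card (g : V →ₗ[F] V) (P : F[X]) : ∀ k : ℕ,
    aeval (g ^ (Fintype.card F ^ k)) P = aeval g (P ^ (Fintype.card F ^ k)) := by
  intro k
  induction k generalizing P with
  | zero => rw [pow_zero, pow_one, pow_one]
  | succ k ih =>
    rw [pow_succ (Fintype.card F), pow_mul g, ← Polynomial.expand_aeval, FiniteField.expand_card, map_pow, ih,
      ← map_pow, ← pow_mul]

omit [Fintype F] in
theorem adjoint (hr : 0 < r) (hf : ∀ v, (f ^ r) v = v) (hB : ∀ u v, B (f u) (f v) = B u v) (Q : F[X]) (x y : V) :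
    B (aeval f Q x) y = B x (aeval (f ^ (r - 1)) Q y) := by
  induction Q using Polynomial.induction_on' with
  | add Q Q' h h' => simp only [map_add, LinearMap.add_apply, h, h']
  | monomial k c =>
    simp only [aeval_monomial, Module.End.mul_apply, Module.algebraMap_end_apply, map_smul, LinearMap.smul_apply]
    congr 1
    conv_rhs => rw [← form_pow hB k, ← Module.End.mul_apply, ← pow_mul, ← pow_add, show k + (r - 1) * k = r * k by
      rw [Nat.sub_one_mul, Nat.add_sub_cancel' (Nat.le_mul_of_pos_left k hr)], pow_mul,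
      show f ^ r = 1 from LinearMap.ext hf, one_pow, Module.End.one_apply]

omit [Fintype F] in
theorem ker_nd (hr : 0 < r) (hf : ∀ v, (f ^ r) v = v) (hB : ∀ u v, B (f u) (f v) = B u v) {P Q : F[X]}
    (hPQ : P * Q = X ^ r - 1) (hco : IsCoprime P Q)
    (hself : ∀ x, aeval f P x = 0 → aeval (f ^ (r - 1)) P x = 0) {X₀ : Submodule F V} (hX : Inv f X₀) (hXn : Nd B X₀) :
    Nd B (X₀ ⊓ LinearMap.ker (aeval f P)) := by
  intro u hu hu'
  refine hXn u hu.1 fun v hv => ?_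
  obtain ⟨a, b, hab⟩ := hco
  have hv' : v = aeval f P (aeval f a v) + aeval f (b * Q) v := by
    have h := congrArg (fun g : F[X] => aeval f g v) hab
    simp only [map_one, Module.End.one_apply, map_add, LinearMap.add_apply] at h
    conv_lhs => rw [← h]
    rw [← Module.End.mul_apply (aeval f P), ← map_mul, mul_comm P a]
  have h1 : B u (aeval f P (aeval f a v)) = 0 := by
    have e : B u (aeval f P (aeval f a v)) = B (aeval (f ^ (r - 1)) P u) (aeval f a v) := by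
      have hsq : (f ^ (r - 1)) ^ (r - 1) = f := by
        obtain ⟨s, hs⟩ : ∃ s, r = s + 1 := ⟨r - 1, by omega⟩
        subst hs
        have h1 : f ^ (s + 1) = 1 := LinearMap.ext hf
        have e1 : f ^ (s * s) * f ^ (2 * s + 1) = 1 := by
          rw [← pow_add, show s * s + (2 * s + 1) = (s + 1) * (s + 1) by ring, pow_mul, h1, one_pow]
        have e2 : f ^ (2 * s + 1) * f = 1 := by
          rw [← pow_succ, show 2 * s + 1 + 1 = (s + 1) * 2 by ring, pow_mul, h1, one_pow]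
        rw [Nat.add_sub_cancel, ← pow_mul]
        calc f ^ (s * s) = f ^ (s * s) * (f ^ (2 * s + 1) * f) := by rw [e2, mul_one]
          _ = f := by rw [← mul_assoc, e1, one_mul]
      have hB' : ∀ u v, B ((f ^ (r - 1)) u) ((f ^ (r - 1)) v) = B u v := fun u v => form_pow hB _ u v
      have hf' : ∀ v, ((f ^ (r - 1)) ^ r) v = v := fun v => by
        rw [← pow_mul, mul_comm, pow_mul, show f ^ r = 1 from LinearMap.ext hf, one_pow, Module.End.one_apply]
      rw [adjoint hr hf' hB' P u, hsq]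
    rw [e, hself u (LinearMap.mem_ker.1 hu.2), map_zero, LinearMap.zero_apply]
  have h2 : aeval f (b * Q) v ∈ X₀ ⊓ LinearMap.ker (aeval f P) := by
    refine ⟨inv_aeval hX _ v hv, LinearMap.mem_ker.2 ?_⟩
    rw [← Module.End.mul_apply, ← map_mul, show P * (b * Q) = b * (X ^ r - 1) by rw [← hPQ]; ring, map_mul,
      Module.End.mul_apply, map_sub, map_pow, aeval_X, map_one, LinearMap.sub_apply, hf, Module.End.one_apply,
      sub_self, map_zero]
  rw [hv', map_add, h1, hu' _ h2, zero_add]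

/-- A fixed-point-free invariant subspace of dimension `i` is non-degenerate or totally isotropic. -/
theorem dich [Fact r.Prime] (hA : B.IsAlt) (hrF : (r : F) ≠ 0) (hf : ∀ v, (f ^ r) v = v)
    (hB : ∀ u v, B (f u) (f v) = B u v) (hi : i = orderOf (Fintype.card F : ZMod r)) {W : Submodule F V}
    (hW : Inv f W) (hfix : ∀ w ∈ W, f w = w → w = 0) (hWd : finrank F W = i) : Nd B W ∨ Iso B W := by
  by_cases h0 : W ⊓ B.orthogonal W = ⊥
  · left
    exact fun u hu hu' => (Submodule.mem_bot F).1 (h0 ▸ ⟨hu, fun n hn => hA.isRefl _ _ (hu' n hn)⟩)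
  · right
    have h := (order_spec hrF hf (X := W ⊓ B.orthogonal W) (fun w hw =>
      ⟨hW w hw.1, inv_orth (Fact.out : r.Prime).pos hf hB hW w hw.2⟩)).1
    rw [show W ⊓ B.orthogonal W ⊓ fixed f = ⊥ from eq_bot_iff.2 fun w hw =>
      (Submodule.mem_bot F).2 (hfix w hw.1.1 (mem_fixed.1 hw.2)), finrank_bot, Nat.sub_zero, ← hi] at h
    have hle := Nat.le_of_dvd (Nat.pos_of_ne_zero fun e => h0 (Submodule.finrank_eq_zero.1 e)) h
    have heq := Submodule.eq_of_le_of_finrank_le (inf_le_left : W ⊓ B.orthogonal W ≤ W) (by rw [hWd]; exact hle)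
    intro a ha b hb
    exact (heq.ge hb).2 a ha

theorem exists_iso_odd [hr : Fact r.Prime] (hr2 : r ≠ 2) (hA : B.IsAlt) (hrF : (r : F) ≠ 0)
    (hf : ∀ v, (f ^ r) v = v) (hB : ∀ u v, B (f u) (f v) = B u v) (hi : i = orderOf (Fintype.card F : ZMod r))
    (hi0 : 0 < i) (hodd : Odd i) :
    ∀ (g : ℕ) (Y : Submodule F V), Inv f Y → Nd B Y → (∀ w ∈ Y, f w = w → w = 0) → 2 * (g * i) ≤ finrank F Y →
      ∃ U, Inv f U ∧ Iso B U ∧ U ≤ Y ∧ finrank F U = g * i := by
  intro g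
  induction g with
  | zero =>
    intro Y _ _ _ _
    exact ⟨⊥, fun w hw => by rw [(Submodule.mem_bot F).1 hw, map_zero]; exact Submodule.zero_mem _,
      fun a ha b _ => by rw [(Submodule.mem_bot F).1 ha, map_zero, LinearMap.zero_apply], bot_le,
      by rw [finrank_bot, zero_mul]⟩
  | succ g ih =>
    intro Y hY hYn hfix hd
    rw [add_one_mul] at hd
    obtain ⟨W, hW, hWn, hWY, hWd⟩ := exists_block hr2 hA hrF hf hB hi hi0 hY hYn hfix
      fun h => by rw [h, finrank_bot] at hd; omega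
    rw [blockDim, if_neg (Nat.not_even_iff_odd.2 hodd)] at hWd
    obtain ⟨S, hS, hSW, hS0, hSm⟩ := exists_simple f hW fun h => by rw [h, finrank_bot] at hWd; omega
    have hfS : ∀ w ∈ S, f w = w → w = 0 := fun w hw => hfix w (hWY (hSW hw))
    have hSd : finrank F S = i := hi ▸ simple_dim_order f hf hS hS0 hSm hrF hfS
    have hiso : Iso B S := (dich hA hrF hf hB hi hS hfS hSd).resolve_left fun hn =>
      Nat.not_even_iff_odd.2 hodd (hSd ▸ even_finrank hA hn)
    obtain ⟨h1, -, h3, h4⟩ := compl_in hA hWn hWY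
    obtain ⟨U, hU, hUi, hUY, hUd⟩ := ih (Y ⊓ B.orthogonal W)
      (fun w hw => ⟨hY w hw.1, inv_orth hr.out.pos hf hB hW w hw.2⟩) (h3 hYn) (fun w hw => hfix w hw.1) (by omega)
    have ho : U ≤ B.orthogonal S := fun u hu n hn => (hUY hu).2 n (hSW hn)
    refine ⟨S ⊔ U, inv_sup hS hU, iso_sup hA hiso hUi ho, sup_le (hSW.trans hWY) (hUY.trans inf_le_left), ?_⟩
    have h := Submodule.finrank_sup_add_finrank_inf_eq S U
    rw [show S ⊓ U = ⊥ from eq_bot_iff.2 (h1 ▸ inf_le_inf hSW hUY), finrank_bot, add_zero, hSd, hUd] at h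
    rw [h, Nat.succ_mul, add_comm]

/-- Two orthogonal blocks with the same annihilator contain a totally isotropic one. -/
theorem pair_iso [hr : Fact r.Prime] (hA : B.IsAlt) (hf : ∀ v, (f ^ r) v = v) (hB : ∀ u v, B (f u) (f v) = B u v)
    (hi : i = orderOf (Fintype.card F : ZMod r)) {m : ℕ} (hm : i = m + m) (hm0 : 0 < m) {P : F[X]} (hP : Irreducible P)
    (hPd : P.natDegree = i) {S₁ S₂ : Submodule F V} (h1 : Inv f S₁) (h2 : Inv f S₂) (n1 : Nd B S₁) (n2 : Nd B S₂)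
    (d1 : finrank F S₁ = i) (d2 : finrank F S₂ = i) (p1 : ∀ v ∈ S₁, aeval f P v = 0) (p2 : ∀ v ∈ S₂, aeval f P v = 0)
    (ho : S₂ ≤ B.orthogonal S₁) :
    ∃ U, Inv f U ∧ Iso B U ∧ U ≤ S₁ ⊔ S₂ ∧ finrank F U = i := by
  classical
  haveI : Fact (Irreducible P) := ⟨hP⟩
  haveI : Module.Finite F (AdjoinRoot P) := (AdjoinRoot.powerBasis hP.ne_zero).finite
  haveI : Finite (AdjoinRoot P) := Module.finite_of_finite F
  letI := Fintype.ofFinite (AdjoinRoot P)
  have hK : finrank F (AdjoinRoot P) = i := by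
    rw [(AdjoinRoot.powerBasis hP.ne_zero).finrank, AdjoinRoot.powerBasis_dim, hPd]
  obtain ⟨Z, hZ⟩ : ∃ Z, Z = S₁ ⊔ S₂ := ⟨_, rfl⟩
  have hZinv : Inv f Z := hZ ▸ inv_sup h1 h2
  have hres : ∀ (Q : F[X]) (v : Z), ((aeval (f.restrict hZinv : Module.End F Z) Q v : Z) : V) = aeval f Q (v : V) := by
    intro Q
    induction Q using Polynomial.induction_on' with
    | add a b ha hb => intro v; simp [ha, hb]
    | monomial k c =>
      intro v
      have hp : ∀ k (v : Z), (((f.restrict hZinv : Module.End F Z) ^ k) v : V) = (f ^ k) (v : V) := fun k => by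
        induction k with
        | zero => exact fun v => rfl
        | succ k ih => intro v; rw [pow_succ', pow_succ' f, Module.End.mul_apply, Module.End.mul_apply, ← ih]; rfl
      rw [aeval_monomial, aeval_monomial, Module.End.mul_apply, Module.End.mul_apply]
      simp [Module.algebraMap_end_apply, hp]
  have hPZ : aeval (f.restrict hZinv : Module.End F Z) P = 0 := LinearMap.ext fun v => Subtype.ext (by
    rw [hres]
    have hv : (v : V) ∈ S₁ ⊔ S₂ := hZ ▸ v.2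
    obtain ⟨a, ha, b, hb, hab⟩ := Submodule.mem_sup.1 hv
    rw [← hab, map_add, p1 a ha, p2 b hb, add_zero]
    rfl)
  obtain ⟨ρ, hρ⟩ : ∃ ρ : AdjoinRoot P →ₐ[F] Module.End F Z,
      ∀ Q v, (ρ (AdjoinRoot.mk P Q) v : V) = aeval f Q (v : V) := by
    refine ⟨Ideal.Quotient.liftₐ _ (aeval (f.restrict hZinv : Module.End F Z)) fun Q hQ => ?_, fun Q v => ?_⟩
    · obtain ⟨c, rfl⟩ := Ideal.mem_span_singleton.1 hQ
      rw [map_mul, hPZ, zero_mul]
    · exact hres Q v
  obtain ⟨N, hN⟩ : ∃ N, N = Fintype.card F ^ m := ⟨_, rfl⟩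
  have hadj : ∀ (x : AdjoinRoot P) (a b : Z), B (ρ x a : V) (b : V) = B (a : V) (ρ (x ^ N) b : V) := by
    intro x a b
    obtain ⟨Q, rfl⟩ := AdjoinRoot.mk_surjective x
    rw [← map_pow, hρ, hρ, adjoint hr.out.pos hf hB, ← pow_half hf hi hm hm0, aeval_pow_card, hN]
  have hcomm : ∀ (x y : AdjoinRoot P) (a : Z), ρ x (ρ y a) = ρ (x * y) a := fun x y a => by
    rw [map_mul, Module.End.mul_apply]
  -- the pieces
  have hmem : ∀ {S : Submodule F V}, Inv f S → ∀ (x : AdjoinRoot P) (a : Z), (a : V) ∈ S → (ρ x a : V) ∈ S := by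
    intro S hS x a ha
    obtain ⟨Q, rfl⟩ := AdjoinRoot.mk_surjective x
    rw [hρ]
    exact inv_aeval hS Q _ ha
  have hinj : ∀ (a : Z), a ≠ 0 → Function.Injective fun x => ρ x a := fun a ha x y hxy => by
    by_contra hne
    have h := congrArg (ρ ((x - y)⁻¹)) (sub_eq_zero.2 hxy : ρ x a - ρ y a = 0)
    rw [← LinearMap.sub_apply, ← map_sub, hcomm, inv_mul_cancel₀ (sub_ne_zero.2 hne), map_one, Module.End.one_apply,
      map_zero] at h
    exact ha h
  have hspan : ∀ {S : Submodule F V}, Inv f S → finrank F S = i → ∀ (a : Z), a ≠ 0 → (a : V) ∈ S →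
      ∀ s ∈ S, ∃ x, (ρ x a : V) = s := by
    intro S hS hSd a ha0 ha s hs
    obtain ⟨φ, hφ⟩ : ∃ φ : AdjoinRoot P →ₗ[F] S, ∀ x, (φ x : V) = ρ x a :=
      ⟨LinearMap.codRestrict _ (Z.subtype ∘ₗ (LinearMap.applyₗ a) ∘ₗ ρ.toLinearMap) fun x => hmem hS x a ha,
        fun x => rfl⟩
    have hφi : Function.Injective φ := fun x y hxy => hinj a ha0 (Subtype.ext (by
      rw [← hφ, ← hφ, hxy]))
    obtain ⟨x, hx⟩ := (LinearMap.injective_iff_surjective_of_finrank_eq_finrank (hK.trans hSd.symm)).1 hφi ⟨s, hs⟩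
    exact ⟨x, by rw [← hφ, hx]⟩
  obtain ⟨v₀, hv₀, hv0⟩ := S₁.exists_mem_ne_zero_of_ne_bot fun h => by rw [h, finrank_bot] at d1; omega
  obtain ⟨w₀, hw₀, hw0⟩ := S₂.exists_mem_ne_zero_of_ne_bot fun h => by rw [h, finrank_bot] at d2; omega
  obtain ⟨v, hv⟩ : ∃ v : Z, (v : V) = v₀ := ⟨⟨v₀, hZ ▸ Submodule.mem_sup_left hv₀⟩, rfl⟩
  obtain ⟨w, hw⟩ : ∃ w : Z, (w : V) = w₀ := ⟨⟨w₀, hZ ▸ Submodule.mem_sup_right hw₀⟩, rfl⟩
  obtain ⟨lam, hlam⟩ : ∃ lam : Z → Module.Dual F (AdjoinRoot P), ∀ a x, lam a x = B (a : V) (ρ x a : V) :=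
    ⟨fun a => (B (a : V)) ∘ₗ Z.subtype ∘ₗ (LinearMap.applyₗ a) ∘ₗ ρ.toLinearMap, fun a x => rfl⟩
  -- the twist
  obtain ⟨μ, hμ⟩ : ∃ μ : AdjoinRoot P →ₗ[F] Module.Dual F (AdjoinRoot P), ∀ y x, μ y x = lam w (x * y) :=
    ⟨(LinearMap.mul F (AdjoinRoot P)).flip.compr₂ (lam w), fun y x => rfl⟩
  have hμi : Function.Injective μ := (injective_iff_map_eq_zero _).2 fun y hy => by
    by_contra hy0
    refine hw0 (n2 w₀ hw₀ fun s hs => ?_)
    obtain ⟨x, hx⟩ := hspan h2 d2 w (fun h => hw0 (by rw [← hw, h]; rfl)) (hw.symm ▸ hw₀) s hs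
    rw [← hx, ← hw, ← hlam, ← inv_mul_cancel_right₀ hy0 x, ← hμ, hy]
    rfl
  obtain ⟨y, hy⟩ := (LinearMap.injective_iff_surjective_of_finrank_eq_finrank
    (by rw [Subspace.dual_finrank_eq])).1 hμi (-(lam v))
  have hy' : ∀ x, lam w (x * y) = -lam v x := fun x => by rw [← hμ, hy]; rfl
  have hskew : ∀ a x, lam a (x ^ N) = -lam a x := fun a x => by
    rw [hlam, hlam, ← hadj, LinearMap.IsAlt.neg hA]
  have hNN : ∀ x : AdjoinRoot P, (x ^ N) ^ N = x := fun x => by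
    rw [← pow_mul, hN, ← pow_add, ← hm, ← hK, ← Module.card_eq_pow_finrank]
    exact FiniteField.pow_card x
  have hybar : y ^ N = y := hμi (LinearMap.ext fun x => by
    rw [hμ, hμ, hy', ← neg_eq_iff_eq_neg]
    have h := hskew w (x ^ N * y)
    rw [mul_pow, hNN, hy', hskew, neg_neg] at h
    rw [h, neg_neg])
  have hy0 : y ≠ 0 := fun h => hv0 (n1 v₀ hv₀ fun s hs => by
    obtain ⟨x, hx⟩ := hspan h1 d1 v (fun h => hv0 (by rw [← hv, h]; rfl)) (hv.symm ▸ hv₀) s hs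
    have e := hy' x
    rw [h, mul_zero, map_zero, zero_eq_neg] at e
    rw [← hx, ← hv, ← hlam, e])
  -- a norm
  obtain ⟨z, hz⟩ : ∃ z : AdjoinRoot P, z ^ (N + 1) = y := by
    obtain ⟨g, hg⟩ := IsCyclic.exists_generator (α := (AdjoinRoot P)ˣ)
    obtain ⟨k, hk⟩ := (Submonoid.mem_powers_iff _ _).1 (mem_powers_iff_mem_zpowers.2 (hg (Units.mk0 y hy0)))
    have hN1 : 1 < N := hN ▸ Nat.one_lt_pow hm0.ne' Fintype.one_lt_card
    have hord : orderOf g = (N + 1) * (N - 1) := by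
      rw [orderOf_eq_card_of_forall_mem_zpowers hg, Nat.card_eq_fintype_card, Fintype.card_units,
        Module.card_eq_pow_finrank (K := F), hK, hm, pow_add, ← hN, ← Nat.mul_self_sub_mul_self_eq, mul_one]
    have h1 : g ^ (k * (N - 1)) = 1 := by
      refine Units.ext (mul_right_cancel₀ hy0 ?_)
      rw [pow_mul, hk, Units.val_pow_eq_pow_val, Units.val_mk0, ← pow_succ, Nat.sub_add_cancel hN1.le, hybar,
        Units.val_one, one_mul]
    have h2 := orderOf_dvd_of_pow_eq_one h1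
    rw [hord] at h2
    obtain ⟨j, rfl⟩ := Nat.dvd_of_mul_dvd_mul_right (by omega) h2
    refine ⟨((g ^ j : (AdjoinRoot P)ˣ) : AdjoinRoot P), ?_⟩
    rw [← Units.val_pow_eq_pow_val, ← pow_mul, mul_comm, hk, Units.val_mk0]
  obtain ⟨u, hu⟩ : ∃ u : Z, u = v + ρ z w := ⟨_, rfl⟩
  have hu0 : u ≠ 0 := fun h => hv0 (n1 v₀ hv₀ fun s hs => by
    have e : (v : V) = -(ρ z w : V) := by
      have := congrArg Subtype.val (hu.symm.trans h)
      exact eq_neg_of_add_eq_zero_left this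
    rw [← hv, e]
    exact hA.isRefl _ _ (ho (S₂.neg_mem (hmem h2 z w (hw.symm ▸ hw₀))) s hs))
  obtain ⟨φ, hφ⟩ : ∃ φ : AdjoinRoot P →ₗ[F] V, ∀ x, φ x = ρ x u :=
    ⟨Z.subtype ∘ₗ (LinearMap.applyₗ u) ∘ₗ ρ.toLinearMap, fun x => rfl⟩
  refine ⟨LinearMap.range φ, ?_, ?_, ?_, ?_⟩
  · rintro _ ⟨x, rfl⟩
    refine ⟨AdjoinRoot.mk P X * x, ?_⟩
    rw [hφ, hφ, ← hcomm, hρ, aeval_X]
  · rintro _ ⟨x, rfl⟩ _ ⟨x', rfl⟩
    rw [hφ, hφ, hadj, hcomm]
    generalize x ^ N * x' = s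
    have e1 : B (v : V) (ρ (s * z) w : V) = 0 := ho (hmem h2 _ w (hw.symm ▸ hw₀)) _ (hv.symm ▸ hv₀)
    have e2 : B (ρ z w : V) (ρ s v : V) = 0 :=
      hA.isRefl _ _ (ho (hmem h2 _ w (hw.symm ▸ hw₀)) _ (hmem h1 _ v (hv.symm ▸ hv₀)))
    have e3 : B (ρ z w : V) (ρ (s * z) w : V) = -lam v s := by
      rw [hadj, hcomm, ← hlam, ← hy' s, ← hz, pow_succ]
      congr 1
      ring
    rw [hu, map_add (ρ s), hcomm, Submodule.coe_add, Submodule.coe_add]
    simp only [map_add, LinearMap.add_apply, e1, e2, e3, ← hlam]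
    ring
  · rintro _ ⟨x, rfl⟩
    rw [hφ]
    exact hZ ▸ (ρ x u).2
  · rw [LinearMap.finrank_range_of_inj fun x y hxy => hinj u hu0 (Subtype.ext (by rw [← hφ, ← hφ, hxy])), hK]

/-- The isotropic part guaranteed by repeated types. -/
theorem exists_iso_even [hr : Fact r.Prime] (hr2 : r ≠ 2) (hA : B.IsAlt) (hrF : (r : F) ≠ 0)
    (hf : ∀ v, (f ^ r) v = v) (hB : ∀ u v, B (f u) (f v) = B u v) (hi : i = orderOf (Fintype.card F : ZMod r))
    (hi0 : 0 < i) (hev : Even i) {T : ℕ} {P : Option (Fin T) → F[X]} (hD : Data F r i T P) :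
    ∀ (g e : ℕ) (Y : Submodule F V), Inv f Y → Nd B Y → (∀ w ∈ Y, f w = w → w = 0) → finrank F Y = e * i →
      (g = 0 ∨ 2 * g + T ≤ e + 1) → ∃ U, Inv f U ∧ Iso B U ∧ U ≤ Y ∧ finrank F U = g * i := by
  classical
  have hblock : ∀ Y', Inv f Y' → Nd B Y' → (∀ w ∈ Y', f w = w → w = 0) → Y' ≠ ⊥ →
      ∃ S, Inv f S ∧ Nd B S ∧ S ≤ Y' ∧ finrank F S = i ∧ ∃ j, ∀ s ∈ S, aeval f (P (some j)) s = 0 := by
    intro Y' a b c d
    obtain ⟨S, hS, hSn, hSY, hSd⟩ := exists_block hr2 hA hrF hf hB hi hi0 a b c d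
    rw [blockDim, if_pos hev] at hSd
    have hS0 : S ≠ ⊥ := fun h => by rw [h, finrank_bot] at hSd; omega
    obtain ⟨R, hR, hRS, hR0, hRm⟩ := exists_simple f hS hS0
    have hRS' : R = S := Submodule.eq_of_le_of_finrank_eq hRS (by
      rw [hSd, hi, simple_dim_order f hf hR hR0 hRm hrF fun w hw => c w (hSY (hRS hw))])
    subst hRS'
    obtain ⟨Q, hQ, hQd, hQdeg, hQS⟩ := simple_minpoly f hS hS0 hRm (X_pow_sub_C_ne_zero hr.out.pos (1 : F))
      (fun w _ => by simp [hf])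
    rw [map_one, ← hD.prod] at hQd
    obtain ⟨o, -, ho⟩ := (Prime.dvd_finset_prod_iff hQ.prime _).1 hQd
    have hker : ∀ s ∈ R, aeval f (P o) s = 0 := by
      obtain ⟨c', hc'⟩ := ho
      intro s hs
      rw [hc', mul_comm, map_mul, Module.End.mul_apply, hQS s hs, map_zero]
    rcases o with _ | j
    · exfalso
      obtain ⟨s, hs, hs0⟩ := R.exists_mem_ne_zero_of_ne_bot hS0
      refine hs0 (c s (hSY hs) ?_)
      have h := hker s hs
      rwa [hD.zero, map_sub, aeval_X, aeval_C, map_one, LinearMap.sub_apply, Module.End.one_apply, sub_eq_zero] at h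
    · exact ⟨R, hS, hSn, hSY, hSd, j, hker⟩
  have hfam : ∀ (s : ℕ) (Y : Submodule F V), Inv f Y → Nd B Y → (∀ w ∈ Y, f w = w → w = 0) → s * i ≤ finrank F Y →
      ∃ (S : Fin s → Submodule F V) (ty : Fin s → Fin T), (∀ k, Inv f (S k) ∧ Nd B (S k) ∧ S k ≤ Y ∧ finrank F (S k) = i ∧
        ∀ x ∈ S k, aeval f (P (some (ty k))) x = 0) ∧ ∀ k l, k < l → S l ≤ B.orthogonal (S k) := by
    intro s
    induction s with
    | zero => intro Y _ _ _ _; exact ⟨Fin.elim0, Fin.elim0, fun k => k.elim0, fun k => k.elim0⟩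
    | succ s ih =>
      intro Y hY hYn hfix hd
      rw [Nat.succ_mul] at hd
      obtain ⟨S₀, a, b, c, d, j, hj⟩ := hblock Y hY hYn hfix fun h => by rw [h, finrank_bot] at hd; omega
      obtain ⟨-, -, h3, h4⟩ := compl_in hA b c
      obtain ⟨S, ty, hS, hSo⟩ := ih (Y ⊓ B.orthogonal S₀) (fun w hw => ⟨hY w hw.1, inv_orth hr.out.pos hf hB a w hw.2⟩)
        (h3 hYn) (fun w hw => hfix w hw.1) (by omega)
      refine ⟨Fin.cons S₀ S, Fin.cons j ty, fun k => ?_, fun k l hkl => ?_⟩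
      · refine Fin.cases ?_ (fun k => ?_) k
        · simp only [Fin.cons_zero]; exact ⟨a, b, c, d, hj⟩
        · simp only [Fin.cons_succ]
          obtain ⟨a', b', c', d'⟩ := hS k
          exact ⟨a', b', c'.trans inf_le_left, d'⟩
      · revert hkl
        refine Fin.cases ?_ (fun l => ?_) l
        · intro h; exact absurd h (Fin.not_lt_zero k)
        · refine Fin.cases ?_ (fun k => ?_) k <;> intro hkl <;> simp only [Fin.cons_zero, Fin.cons_succ]
          · exact ((hS l).2.2.1).trans inf_le_right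
          · exact hSo k l (Fin.succ_lt_succ_iff.1 hkl)
  intro g
  induction g with
  | zero =>
    intro e Y _ _ _ _ _
    exact ⟨⊥, fun w hw => by rw [(Submodule.mem_bot F).1 hw, map_zero]; exact Submodule.zero_mem _,
      fun a ha b _ => by rw [(Submodule.mem_bot F).1 ha, map_zero, LinearMap.zero_apply], bot_le,
      by rw [finrank_bot, zero_mul]⟩
  | succ g ih =>
    intro e Y hY hYn hfix hd hg
    have hge : 2 * g + T + 1 ≤ e := by omega
    obtain ⟨S, ty, hS, hSo⟩ := hfam (T + 1) Y hY hYn hfix (by rw [hd]; exact Nat.mul_le_mul_right i (by omega))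
    obtain ⟨k, l, hne, hkl⟩ := Fintype.exists_ne_map_eq_of_card_lt ty (by simp)
    obtain ⟨k, l, hlt, hkl⟩ : ∃ k l, k < l ∧ ty k = ty l := by
      rcases lt_or_gt_of_ne hne with h | h
      · exact ⟨k, l, h, hkl⟩
      · exact ⟨l, k, h, hkl.symm⟩
    obtain ⟨a1, b1, c1, d1, p1⟩ := hS k
    obtain ⟨a2, b2, c2, d2, p2⟩ := hS l
    obtain ⟨mh, hmh⟩ := hev
    obtain ⟨U₁, hU₁, hUi₁, hUS, hUd₁⟩ := pair_iso hA hf hB hi hmh (by omega) (hD.irred (some (ty k))) (hD.deg _) a1 a2 b1 b2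
      d1 d2 p1 (hkl.symm ▸ p2) (hSo k l hlt)
    obtain ⟨W, hW⟩ : ∃ W, W = S k ⊔ S l := ⟨_, rfl⟩
    have hWn : Nd B W := hW ▸ nd_sup hA b1 b2 (hSo k l hlt)
    have hWY : W ≤ Y := hW ▸ sup_le c1 c2
    have hWinv : Inv f W := hW ▸ inv_sup a1 a2
    have hWd : finrank F W = i + i := by
      obtain ⟨h1, -, -, -⟩ := compl_in hA b1 (le_sup_left : S k ≤ S k ⊔ S l)
      have h := Submodule.finrank_sup_add_finrank_inf_eq (S k) (S l)
      rw [show S k ⊓ S l = ⊥ from eq_bot_iff.2 (h1 ▸ le_inf inf_le_left (le_inf (inf_le_right.trans le_sup_right)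
        (inf_le_right.trans (hSo k l hlt)))), finrank_bot, add_zero, d1, d2, ← hW] at h
      exact h
    obtain ⟨h1, -, h3, h4⟩ := compl_in hA hWn hWY
    obtain ⟨e', rfl⟩ : ∃ e', e = e' + 2 := ⟨e - 2, by omega⟩
    obtain ⟨U, hU, hUi, hUY, hUd⟩ := ih e' (Y ⊓ B.orthogonal W)
      (fun w hw => ⟨hY w hw.1, inv_orth hr.out.pos hf hB hWinv w hw.2⟩) (h3 hYn) (fun w hw => hfix w hw.1)
      (by rw [hd, hWd, add_mul] at h4; omega) (Or.inr (by omega))
    have hUW : U₁ ≤ W := hW ▸ hUS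
    have ho : U ≤ B.orthogonal U₁ := fun u hu n hn => (hUY hu).2 n (hUW hn)
    refine ⟨U₁ ⊔ U, inv_sup hU₁ hU, iso_sup hA hUi₁ hUi ho, sup_le (hUW.trans hWY) (hUY.trans inf_le_left), ?_⟩
    have h := Submodule.finrank_sup_add_finrank_inf_eq U₁ U
    rw [show U₁ ⊓ U = ⊥ from eq_bot_iff.2 (h1 ▸ inf_le_inf hUW hUY), finrank_bot, add_zero, hUd₁, hUd] at h
    rw [h, Nat.succ_mul, add_comm]

/-- A totally isotropic invariant subspace made from a fixed and a moving part. -/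
theorem combine (hA : B.IsAlt) {X₀ Y₀ U : Submodule F V} (hXn : Nd B X₀) (hfix : X₀ ≤ fixed f)
    (hY : Y₀ ≤ B.orthogonal X₀) (hU : Inv f U) (hUi : Iso B U) (hUY : U ≤ Y₀) {j : ℕ} (hj : 2 * j ≤ finrank F X₀) :
    ∃ W, Inv f W ∧ Iso B W ∧ finrank F W = j + finrank F U := by
  obtain ⟨J, hJX, hJi, hJd⟩ := exists_iso hA hXn hj
  have hJ : Inv f J := fun w hw => by rw [mem_fixed.1 (hfix (hJX hw))]; exact hw
  refine ⟨J ⊔ U, inv_sup hJ hU, iso_sup hA hJi hUi fun u hu n hn => hY (hUY hu) n (hJX hn), ?_⟩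
  have h := Submodule.finrank_sup_add_finrank_inf_eq J U
  rw [show J ⊓ U = ⊥ from eq_bot_iff.2 ((isCompl_orth hA hXn).inf_eq_bot ▸ inf_le_inf hJX (hUY.trans hY)),
    finrank_bot, add_zero, hJd] at h
  exact h

end Isometry

end CfsgLib.Classical22.PrimeMaps.Symp
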