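/-
Constraints on maps of prime order stabilising an equidimensional decomposition.
-/
import Cfsg.Agent.Lib.Classical22.PrimeOrderWreath

set_option autoImplicit false

namespace CfsgLib.Classical22.PrimeMaps.Wreath

open Module Polynomial

section Nec

variable {F V : Type*} [Field F] [AddCommGroup V] [Module F V] [FiniteDimensional F V] {t a r : ℕ}
  {D : Fin t → Submodule F V} {f : V →ₗ[F] V} {σ : Equiv.Perm (Fin t)}

theorem pow_mem_block (hσ : ∀ j, (D j).map f = D (σ j)) (i : ℕ) {j : Fin t} {v : V} (hv : v ∈ D j) :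
    (f ^ i) v ∈ D ((σ ^ i) j) := by
  induction i with
  | zero => exact hv
  | succ i ih =>
    rw [pow_succ' f, Module.End.mul_apply, pow_succ' σ, Equiv.Perm.mul_apply, ← hσ]
    exact Submodule.mem_map_of_mem ih

theorem block_injective (hi : iSupIndep D) (h0 : ∀ j, D j ≠ ⊥) : Function.Injective D := fun i j h => by
  by_contra hne
  have := hi i
  rw [disjoint_iff] at this
  refine h0 i (eq_bot_iff.2 (le_trans (le_inf le_rfl ?_) this.le))
  exact h ▸ le_iSup₂ (f := fun k (_ : k ≠ i) => D k) j (Ne.symm hne)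

theorem sigma_pow (hi : iSupIndep D) (h0 : ∀ j, D j ≠ ⊥) (hf : ∀ v, (f ^ r) v = v)
    (hσ : ∀ j, (D j).map f = D (σ j)) (j : Fin t) : (σ ^ r) j = j := by
  apply block_injective hi h0
  have hmapk : ∀ k : ℕ, (D j).map (f ^ k) = D ((σ ^ k) j) := by
    intro k
    induction k with
    | zero => rw [pow_zero, pow_zero]; exact Submodule.map_id (D j)
    | succ k ih =>
      rw [pow_succ', Module.End.mul_eq_comp, Submodule.map_comp, ih, hσ, pow_succ', Equiv.Perm.mul_apply]
  rw [← hmapk r, show f ^ r = LinearMap.id from LinearMap.ext fun v => hf v]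
  exact Submodule.map_id (D j)

theorem orbit_ne (hr : r.Prime) {j : Fin t} (hper : (σ ^ r) j = j) (hj : σ j ≠ j) {i k : ℕ} (hi : i < r) (hk : k < r)
    (h : (σ ^ i) j = (σ ^ k) j) : i = k := by
  wlog hik : i ≤ k generalizing i k
  · exact (this hk hi h.symm (by omega)).symm
  by_contra hne
  have h1 : Function.IsPeriodicPt σ (k - i) j := by
    rw [Function.IsPeriodicPt, Function.IsFixedPt, ← Equiv.Perm.coe_pow]
    refine (σ ^ i).injective ?_
    rw [← Equiv.Perm.mul_apply, ← pow_add, Nat.add_sub_cancel' hik, h]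
  have h2 : Function.IsPeriodicPt σ r j := by
    rw [Function.IsPeriodicPt, Function.IsFixedPt, ← Equiv.Perm.coe_pow]; exact hper
  have h3 := h1.gcd h2
  rw [Nat.Coprime.gcd_eq_one ((hr.coprime_iff_not_dvd.2 (Nat.not_dvd_of_pos_of_lt (by omega) (by omega))).symm)] at h3
  exact hj h3

theorem eq_zero_of_components (hi : iSupIndep D) {ι : Type*} [Fintype ι] (g : ι → Fin t) (hg : Function.Injective g)
    (v : ι → V) (hv : ∀ i, v i ∈ D (g i)) (hs : ∑ i, v i = 0) : ∀ i, v i = 0 := fun i =>
  (iSupIndep_iff_finset_sum_eq_zero_imp_eq_zero _).1 (hi.comp hg) Finset.univ v (fun i _ => hv i) hs i (Finset.mem_univ i)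

/-- A moved block contributes a full block of fixed vectors. -/
theorem le_fixed_of_moved (hr : r.Prime) (hi : iSupIndep D) (h0 : ∀ j, D j ≠ ⊥) (hd : ∀ j, finrank F (D j) = a)
    (hf : ∀ v, (f ^ r) v = v) (hσ : ∀ j, (D j).map f = D (σ j)) {j : Fin t} (hj : σ j ≠ j) :
    a ≤ finrank F (fixed f) := by
  obtain ⟨φ, hφ⟩ : ∃ φ : D j →ₗ[F] fixed f, ∀ v, (φ v : V) = ∑ i : Fin r, (f ^ (i : ℕ)) (v : V) := by
    refine ⟨LinearMap.codRestrict _ ((∑ i : Fin r, f ^ (i : ℕ)).comp (D j).subtype) fun v => ?_, fun v => by simp⟩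
    rw [mem_fixed, LinearMap.comp_apply, LinearMap.sum_apply, map_sum,
      Fin.sum_univ_eq_sum_range (fun i => f ((f ^ i) ((D j).subtype v))),
      Fin.sum_univ_eq_sum_range (fun i => (f ^ i) ((D j).subtype v))]
    have e1 := Finset.sum_range_succ' (fun i => (f ^ i) ((D j).subtype v)) r
    rw [Finset.sum_range_succ (fun i => (f ^ i) ((D j).subtype v)) r, hf, pow_zero, Module.End.one_apply,
      add_left_inj] at e1
    rw [e1]
    exact Finset.sum_congr rfl fun i _ => by rw [pow_succ', Module.End.mul_apply]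
  rw [← hd j]
  refine LinearMap.finrank_le_finrank_of_injective (f := φ) ((injective_iff_map_eq_zero _).2 fun v hv => ?_)
  have h := congrArg Subtype.val hv
  rw [hφ] at h
  have hinj : Function.Injective fun i : Fin r => (σ ^ (i : ℕ)) j := fun i k h' =>
    Fin.ext (orbit_ne hr (sigma_pow hi h0 hf hσ j) hj i.2 k.2 h')
  exact Subtype.ext (by
    simpa using eq_zero_of_components hi _ hinj _ (fun i => pow_mem_block hσ (i : ℕ) v.2) h ⟨0, hr.pos⟩)

/-- A moved block makes the range of `f - 1` large. -/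
theorem le_range_of_moved (hr : r.Prime) (hi : iSupIndep D) (h0 : ∀ j, D j ≠ ⊥) (hd : ∀ j, finrank F (D j) = a)
    (hf : ∀ v, (f ^ r) v = v) (hσ : ∀ j, (D j).map f = D (σ j)) {j : Fin t} (hj : σ j ≠ j) :
    a * (r - 1) ≤ finrank F (LinearMap.range (f - 1)) := by
  obtain ⟨m, rfl⟩ : ∃ m, r = m + 1 := ⟨r - 1, by have := hr.pos; omega⟩
  rw [Nat.add_sub_cancel]
  obtain ⟨φ, hφ⟩ : ∃ φ : (Fin m → D j) →ₗ[F] LinearMap.range (f - 1),
      ∀ v, (φ v : V) = ∑ i : Fin m, ((f ^ ((i : ℕ) + 1)) (v i : V) - (v i : V)) := by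
    refine ⟨LinearMap.codRestrict _ (∑ i : Fin m,
      (f ^ ((i : ℕ) + 1) - 1).comp ((D j).subtype.comp (LinearMap.proj i))) fun v => ?_,
      fun v => by simp [LinearMap.sum_apply]⟩
    rw [LinearMap.sum_apply]
    refine Submodule.sum_mem _ fun i _ => ?_
    refine LinearMap.mem_range.2 ⟨(∑ k ∈ Finset.range ((i : ℕ) + 1), f ^ k) (v i : V), ?_⟩
    rw [← Module.End.mul_apply, mul_geom_sum]
    rfl
  have hinj : Function.Injective fun i : Fin (m + 1) => (σ ^ (i : ℕ)) j := fun i k h' =>
    Fin.ext (orbit_ne hr (sigma_pow hi h0 hf hσ j) hj i.2 k.2 h')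
  have h := LinearMap.finrank_le_finrank_of_injective (f := φ) ((injective_iff_map_eq_zero _).2 fun v hv => ?_)
  · simpa [Module.finrank_pi_fintype, hd, mul_comm] using h
  have h' := congrArg Subtype.val hv
  rw [hφ, Finset.sum_sub_distrib] at h'
  obtain ⟨w, hw⟩ : ∃ w : Fin (m + 1) → V,
      w = Fin.cons (-(∑ i, (v i : V))) (fun i => (f ^ ((i : ℕ) + 1)) (v i : V)) := ⟨_, rfl⟩
  have hw0 : ∀ i, w i = 0 := eq_zero_of_components hi _ hinj w (fun i => by
      rw [hw]
      refine Fin.cases ?_ (fun i => ?_) i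
      · rw [Fin.cons_zero, Fin.val_zero, pow_zero]
        exact neg_mem (sum_mem fun i _ => (v i).2)
      · rw [Fin.cons_succ, Fin.val_succ]
        exact pow_mem_block hσ _ (v i).2)
    (by rw [hw, Fin.sum_cons, neg_add_eq_sub]; exact h')
  funext i
  have h1 := hw0 i.succ
  rw [hw, Fin.cons_succ] at h1
  have hinjf : Function.Injective f := fun x y hxy => by
    rw [← hf x, ← hf y, pow_succ, Module.End.mul_apply, Module.End.mul_apply, hxy]
  exact Subtype.ext ((injective_iff_map_eq_zero _).1 ((Module.End.coe_pow f _).symm ▸ hinjf.iterate _) _ h1)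

/-- A small annihilator forbids moved blocks. -/
theorem natDegree_ge_of_moved (hr : r.Prime) (hi : iSupIndep D) (h0 : ∀ j, D j ≠ ⊥) (hf : ∀ v, (f ^ r) v = v)
    (hσ : ∀ j, (D j).map f = D (σ j)) {j : Fin t} (hj : σ j ≠ j) {Q : F[X]} (hQ : Q.Monic)
    (hQf : ∀ v, aeval f Q v = 0) : r ≤ Q.natDegree := by
  by_contra hlt
  push Not at hlt
  have hinj : Function.Injective fun i : Fin (Q.natDegree + 1) => (σ ^ (i : ℕ)) j := fun i k h' =>
    Fin.ext (orbit_ne hr (sigma_pow hi h0 hf hσ j) hj (by omega) (by omega) h')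
  obtain ⟨v, hv, hv0⟩ := Submodule.exists_mem_ne_zero_of_ne_bot (h0 j)
  have h : ∑ i : Fin (Q.natDegree + 1), Q.coeff i • (f ^ (i : ℕ)) v = 0 := by
    rw [Fin.sum_univ_eq_sum_range fun i => Q.coeff i • (f ^ i) v, ← hQf v, aeval_eq_sum_range, LinearMap.sum_apply]
    rfl
  have h1 := eq_zero_of_components hi _ hinj _ (fun i => Submodule.smul_mem _ _ (pow_mem_block hσ (i : ℕ) hv)) h
    (Fin.last _)
  rw [Fin.val_last, hQ.coeff_natDegree, one_smul] at h1
  have hinjf : Function.Injective f := fun x y hxy => by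
    obtain ⟨m, rfl⟩ : ∃ m, r = m + 1 := ⟨r - 1, by have := hr.pos; omega⟩
    rw [← hf x, ← hf y, pow_succ, Module.End.mul_apply, Module.End.mul_apply, hxy]
  exact hv0 ((injective_iff_map_eq_zero _).1 ((Module.End.coe_pow f _).symm ▸ hinjf.iterate _) _ h1)

/-- Invariant blocks each carry their minimal fixed space. -/
theorem le_fixed_of_all [Fintype F] [Fact r.Prime] (hrF : (r : F) ≠ 0) (hi : iSupIndep D)
    (hd : ∀ j, finrank F (D j) = a) (hf : ∀ v, (f ^ r) v = v) (hσ : ∀ j, (D j).map f = D (σ j))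
    (hall : ∀ j, σ j = j) : t * (a % orderOf (Fintype.card F : ZMod r)) ≤ finrank F (fixed f) ∧
      (a < orderOf (Fintype.card F : ZMod r) → iSup D ≤ fixed f) := by
  have hinv : ∀ j, Inv f (D j) := fun j v hv => by
    have h := hσ j
    rw [hall j] at h
    exact h.le (Submodule.mem_map_of_mem hv)
  have hj : ∀ j, a % orderOf (Fintype.card F : ZMod r) ≤ finrank F (D j ⊓ fixed f : Submodule F V) := fun j => by
    obtain ⟨s, hs⟩ := (order_spec hrF hf (hinv j)).1
    have hle : finrank F (D j ⊓ fixed f : Submodule F V) ≤ a := hd j ▸ Submodule.finrank_mono inf_le_left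
    rw [hd j] at hs
    rw [show a = finrank F (D j ⊓ fixed f : Submodule F V) + orderOf (Fintype.card F : ZMod r) * s by omega,
      Nat.add_mul_mod_self_left]
    exact (Nat.mod_le _ _)
  refine ⟨?_, fun ha => iSup_le fun j => ?_⟩
  · have hindep : iSupIndep fun j => D j ⊓ fixed f := hi.mono fun j => inf_le_left
    have hsum := (LinearMap.finrank_range_of_inj hindep.dfinsupp_lsum_injective)
    rw [← Submodule.iSup_eq_range_dfinsupp_lsum] at hsum
    have h1 : finrank F (⨆ j, D j ⊓ fixed f : Submodule F V) ≤ finrank F (fixed f) :=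
      Submodule.finrank_mono (iSup_le fun j => inf_le_right)
    have h2 : finrank F (Π₀ j, (D j ⊓ fixed f : Submodule F V)) =
        ∑ j, finrank F (D j ⊓ fixed f : Submodule F V) :=
      Module.finrank_directSum F fun j => ↥(D j ⊓ fixed f : Submodule F V)
    rw [hsum, h2] at h1
    refine le_trans ?_ h1
    refine le_trans (le_of_eq ?_) (Finset.sum_le_sum fun j _ => hj j)
    simp
  · have h := hj j
    rw [Nat.mod_eq_of_lt ha] at h
    exact inf_eq_left.1 (Submodule.eq_of_le_of_finrank_le inf_le_left (hd j ▸ h))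

/-- Every orbit of lines contributes a fixed vector. -/
theorem lines_le_fixed [Fintype F] [Fact r.Prime] (hrF : (r : F) ≠ 0) (hi : iSupIndep D)
    (hd : ∀ j, finrank F (D j) = 1) (hf : ∀ v, (f ^ r) v = v) (hσ : ∀ j, (D j).map f = D (σ j))
    (hc : 1 < orderOf (Fintype.card F : ZMod r)) : t ≤ r * finrank F (fixed f) := by
  classical
  have hr : r.Prime := Fact.out
  have h0 : ∀ j, D j ≠ ⊥ := fun j h => by
    have := hd j
    rw [h, finrank_bot] at this
    omega
  have hper := sigma_pow hi h0 hf hσ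
  obtain ⟨R, hR⟩ : ∃ R, R = Finset.univ.filter fun j : Fin t => ∀ i : ℕ, j ≤ (σ ^ i) j := ⟨_, rfl⟩
  have hmod : ∀ (j : Fin t) (i : ℕ), (σ ^ i) j = (σ ^ (i % r)) j := fun j i => by
    conv_lhs => rw [← Nat.mod_add_div i r, pow_add, Equiv.Perm.mul_apply]
    congr 1
    induction (i / r) with
    | zero => simp
    | succ k ih => rw [Nat.mul_succ, pow_add, Equiv.Perm.mul_apply, hper, ih]
  -- every point lies on the orbit of a representative
  have hcover : Finset.univ ⊆ (R ×ˢ Finset.range r).image fun x => (σ ^ x.2) x.1 := by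
    intro j _
    obtain ⟨m, hm, hmin⟩ := Finset.exists_min_image ((Finset.range r).image fun i => (σ ^ i) j) id
      (Finset.image_nonempty.2 (Finset.nonempty_range_iff.2 hr.ne_zero))
    obtain ⟨i, hi', rfl⟩ := Finset.mem_image.1 hm
    rw [Finset.mem_range] at hi'
    refine Finset.mem_image.2 ⟨((σ ^ i) j, (r - i) % r), Finset.mem_product.2 ⟨?_,
      Finset.mem_range.2 (Nat.mod_lt _ hr.pos)⟩, ?_⟩
    · rw [hR, Finset.mem_filter]
      refine ⟨Finset.mem_univ _, fun k => ?_⟩
      show (σ ^ i) j ≤ (σ ^ k) ((σ ^ i) j)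
      rw [← Equiv.Perm.mul_apply, ← pow_add, hmod j (k + i)]
      exact hmin _ (Finset.mem_image_of_mem _ (Finset.mem_range.2 (Nat.mod_lt _ hr.pos)))
    · show (σ ^ ((r - i) % r)) ((σ ^ i) j) = j
      rw [← hmod, ← Equiv.Perm.mul_apply, ← pow_add, Nat.sub_add_cancel hi'.le, hper]
  have hcard : t ≤ R.card * r := by
    have := (Finset.card_le_card hcover).trans Finset.card_image_le
    rwa [Finset.card_univ, Fintype.card_fin, Finset.card_product, Finset.card_range] at this
  have hv : ∀ j : Fin t, ∃ v ∈ D j, v ≠ 0 := fun j => Submodule.exists_mem_ne_zero_of_ne_bot (h0 j)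
  choose v hvD hv0 using hv
  obtain ⟨g, hg⟩ : ∃ g : Fin t → V, ∀ j, g j = ∑ i ∈ Finset.range r, (f ^ i) (v j) := ⟨_, fun j => rfl⟩
  have hgf : ∀ j, g j ∈ fixed f := fun j => by
    rw [mem_fixed, hg, map_sum]
    have e1 := Finset.sum_range_succ' (fun i => (f ^ i) (v j)) r
    rw [Finset.sum_range_succ (fun i => (f ^ i) (v j)) r, hf, pow_zero, Module.End.one_apply, add_left_inj] at e1
    rw [e1]
    exact Finset.sum_congr rfl fun i _ => by rw [pow_succ', Module.End.mul_apply]
  obtain ⟨O, hO⟩ : ∃ O : Fin t → Finset (Fin t), ∀ j, O j = (Finset.range r).image fun i => (σ ^ i) j :=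
    ⟨_, fun j => rfl⟩
  have hgO : ∀ j, g j ∈ ⨆ k ∈ (O j : Set (Fin t)), D k := fun j => hg j ▸ Submodule.sum_mem _ fun i hi =>
    Submodule.mem_iSup_of_mem ((σ ^ i) j) (Submodule.mem_iSup_of_mem
      (Finset.mem_coe.2 (hO j ▸ Finset.mem_image_of_mem _ hi)) (pow_mem_block hσ i (hvD j)))
  have hg0 : ∀ j, g j ≠ 0 := fun j => by
    by_cases hj : σ j = j
    · have hfix : v j ∈ fixed f := by
        have hinv : Inv f (D j) := fun w hw => by
          have h := hσ j
          rw [hj] at h
          exact h.le (Submodule.mem_map_of_mem hw)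
        obtain ⟨s, hs⟩ := (order_spec hrF hf hinv).1
        rw [hd j] at hs
        have : s = 0 := by
          rcases Nat.eq_zero_or_pos s with h | h
          · exact h
          · nlinarith [Nat.sub_le 1 (finrank F (D j ⊓ fixed f : Submodule F V))]
        subst this
        refine (inf_eq_left.1 (Submodule.eq_of_le_of_finrank_le inf_le_left ?_) : D j ≤ fixed f) (hvD j)
        rw [hd j]
        omega
      have hp : ∀ i, (f ^ i) (v j) = v j := fun i => by
        induction i with
        | zero => rfl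
        | succ i ih => rw [pow_succ', Module.End.mul_apply, ih, mem_fixed.1 hfix]
      rw [hg, Finset.sum_congr rfl fun i _ => hp i, Finset.sum_const, Finset.card_range, ← Nat.cast_smul_eq_nsmul F]
      exact smul_ne_zero hrF (hv0 j)
    · intro h
      rw [hg, ← Fin.sum_univ_eq_sum_range fun i => (f ^ i) (v j)] at h
      exact hv0 j (eq_zero_of_components hi _ (fun i k h' => Fin.ext (orbit_ne hr (hper j) hj i.2 k.2 h'))
        (fun i : Fin r => (f ^ (i : ℕ)) (v j)) (fun i => pow_mem_block hσ (i : ℕ) (hvD j)) h ⟨0, hr.pos⟩)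
  have hind : LinearIndependent F fun j : R => (⟨g j, hgf j⟩ : fixed f) := by
    rw [← (fixed f).subtype.linearIndependent_iff (Submodule.ker_subtype _)]
    refine iSupIndep.linearIndependent (fun j : R => ⨆ k ∈ (O j : Set (Fin t)), D k) (fun j => ?_)
      (fun j => hgO j) fun j => hg0 j
    have hdisj := hi.disjoint_biSup_biSup (s := (O j : Set (Fin t))) (t := ⋃ j' ∈ {j' : R | j' ≠ j}, (O j' : Set (Fin t))) ?_
    · refine hdisj.mono_right ?_
      refine iSup₂_le fun j' hj' => iSup₂_le fun k hk => ?_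
      exact le_iSup₂ (f := fun k (_ : k ∈ ⋃ j' ∈ {j' : R | j' ≠ j}, (O j' : Set (Fin t))) => D k) k
        (Set.mem_biUnion hj' hk)
    · simp only [Set.disjoint_iUnion_right]
      intro j' hj'
      rw [Finset.disjoint_coe, Finset.disjoint_left]
      intro k hk hk'
      rw [hO, Finset.mem_image] at hk hk'
      obtain ⟨i, hi1, rfl⟩ := hk
      obtain ⟨i', hi2, he⟩ := hk'
      rw [Finset.mem_range] at hi1 hi2
      refine hj' (Subtype.ext (le_antisymm ?_ ?_)).symm
      · obtain ⟨j1, hj1⟩ := j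
        rw [hR, Finset.mem_filter] at hj1
        refine (hj1.2 ((r - i') + i)).trans (le_of_eq ?_)
        show (σ ^ (r - i' + i)) j1 = _
        rw [pow_add, Equiv.Perm.mul_apply, ← he, ← Equiv.Perm.mul_apply, ← pow_add, Nat.sub_add_cancel hi2.le, hper]
      · obtain ⟨j2, hj2⟩ := j'
        rw [hR, Finset.mem_filter] at hj2
        refine (hj2.2 ((r - i) + i')).trans (le_of_eq ?_)
        show (σ ^ (r - i + i')) j2 = _
        rw [pow_add, Equiv.Perm.mul_apply, he, ← Equiv.Perm.mul_apply, ← pow_add, Nat.sub_add_cancel hi1.le, hper]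
  have := hind.fintype_card_le_finrank
  rw [Fintype.card_coe] at this
  nlinarith

end Nec

section Witness

variable {F : Type*} [Field F] [Fintype F]

/-- An element of order `r` with `l` isomorphic nontrivial simple summands. -/
theorem exists_element {p n r l : ℕ} [hp : Fact p.Prime] [CharP F p] [hr : Fact r.Prime]
    (h2 : 2 ≤ orderOf (Fintype.card F : ZMod r)) (hl : orderOf (Fintype.card F : ZMod r) * l ≤ n) :
    ∃ f : (Fin n → F) →ₗ[F] (Fin n → F), (∀ v, (f ^ r) v = v) ∧
      finrank F (fixed f) = n - orderOf (Fintype.card F : ZMod r) * l ∧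
      ∃ P : F[X], P.Monic ∧ P.natDegree ≤ orderOf (Fintype.card F : ZMod r) ∧ ∀ v, aeval f P (f v - v) = 0 := by
  classical
  obtain ⟨i, hi⟩ : ∃ i, i = orderOf (Fintype.card F : ZMod r) := ⟨_, rfl⟩
  rw [← hi] at h2 hl ⊢
  haveI : NeZero i := ⟨by omega⟩
  haveI : Fintype (FiniteField.Extension F p i) := Fintype.ofFinite _
  have hK : Fintype.card (FiniteField.Extension F p i) = Fintype.card F ^ i := by
    rw [Fintype.card_eq_nat_card, FiniteField.natCard_extension, Nat.card_eq_fintype_card]
  obtain ⟨ζ, hζ⟩ : ∃ ζ : (FiniteField.Extension F p i)ˣ, orderOf ζ = r := by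
    refine exists_prime_orderOf_dvd_card' r ?_
    rw [Nat.card_eq_fintype_card, Fintype.card_units, hK]
    refine (ZMod.natCast_eq_zero_iff _ _).1 ?_
    rw [Nat.cast_sub (Nat.one_le_pow _ _ Fintype.card_pos), Nat.cast_pow, hi, pow_orderOf_eq_one, Nat.cast_one, sub_self]
  obtain ⟨z, hz⟩ : ∃ z : FiniteField.Extension F p i, z = ζ := ⟨_, rfl⟩
  have hzr : z ^ r = 1 := by rw [hz, ← Units.val_pow_eq_pow_val, ← hζ, pow_orderOf_eq_one, Units.val_one]
  have hz1 : z ≠ 1 := fun h => hr.out.ne_one (by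
    rw [← hζ, orderOf_eq_one_iff]; exact Units.ext (hz ▸ h))
  haveI : FiniteDimensional F (FiniteField.Extension F p i) := Module.Finite.of_finite
  have hdim : finrank F ((Fin l → FiniteField.Extension F p i) × (Fin (n - i * l) → F)) =
      finrank F (Fin n → F) := by
    rw [Module.finrank_prod, Module.finrank_pi_fintype, Module.finrank_fin_fun, Module.finrank_fin_fun,
      Finset.sum_const, FiniteField.finrank_extension, Finset.card_univ, Fintype.card_fin, smul_eq_mul, mul_comm]
    omega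
  obtain ⟨e⟩ : Nonempty (((Fin l → FiniteField.Extension F p i) × (Fin (n - i * l) → F)) ≃ₗ[F] (Fin n → F)) :=
    ⟨LinearEquiv.ofFinrankEq _ _ hdim⟩
  obtain ⟨f, hf⟩ : ∃ f : (Fin n → F) →ₗ[F] (Fin n → F), ∀ w u, f (e (w, u)) = e (z • w, u) := by
    refine ⟨e.toLinearMap.comp (((z • (LinearMap.id : (Fin l → FiniteField.Extension F p i) →ₗ[F] _)).prodMap
      (LinearMap.id : (Fin (n - i * l) → F) →ₗ[F] _)).comp e.symm.toLinearMap), fun w u => by simp⟩
  have hpow : ∀ k w u, (f ^ k) (e (w, u)) = e (z ^ k • w, u) := fun k w u => by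
    induction k with
    | zero => simp
    | succ k ih => rw [pow_succ', Module.End.mul_apply, ih, hf, smul_smul, pow_succ']
  refine ⟨f, fun v => ?_, ?_, minpoly F z, minpoly.monic (Algebra.IsIntegral.isIntegral z), ?_, fun v => ?_⟩
  · obtain ⟨⟨w, u⟩, rfl⟩ := e.surjective v
    rw [hpow, hzr, one_smul]
  · have : fixed f = LinearMap.range (e.toLinearMap.comp (LinearMap.inr F _ (Fin (n - i * l) → F))) := by
      ext v
      obtain ⟨⟨w, u⟩, rfl⟩ := e.surjective v
      rw [mem_fixed, hf, e.injective.eq_iff, LinearMap.mem_range]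
      constructor
      · intro h
        refine ⟨u, ?_⟩
        have h0 : z • w = w := congrArg Prod.fst h
        have h1 : (z - 1) • w = 0 := by rw [sub_smul, one_smul, h0, sub_self]
        rw [(smul_eq_zero.1 h1).resolve_left (sub_ne_zero.2 hz1)]
        rfl
      · rintro ⟨u', h⟩
        simp only [LinearMap.comp_apply, LinearEquiv.coe_coe, LinearMap.inr_apply, e.injective.eq_iff,
          Prod.ext_iff] at h
        rw [← h.1, smul_zero]
    rw [this]
    refine (LinearMap.finrank_range_of_inj ?_).trans (Module.finrank_fin_fun F)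
    exact e.injective.comp LinearMap.inr_injective
  · exact (minpoly.natDegree_le z).trans_eq (FiniteField.finrank_extension F p i)
  · obtain ⟨⟨w, u⟩, rfl⟩ := e.surjective v
    rw [hf, ← map_sub]
    simp only [Prod.mk_sub_mk, sub_self]
    have h : ∀ (P : F[X]) (w : Fin l → FiniteField.Extension F p i), aeval f P (e (w, 0)) = e (aeval z P • w, 0) := by
      intro P w
      induction P using Polynomial.induction_on' with
      | add P Q hP hQ => rw [map_add, LinearMap.add_apply, hP, hQ, map_add (aeval z), add_smul, ← map_add,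
          Prod.mk_add_mk, add_zero]
      | monomial m x =>
        rw [aeval_monomial, aeval_monomial, Module.algebraMap_end_eq_smul_id, smul_mul_assoc, LinearMap.smul_apply,
          Module.End.mul_apply, LinearMap.id_apply, hpow, ← map_smul, Prod.smul_mk, smul_zero, ← Algebra.smul_def,
          smul_assoc]
    rw [h, minpoly.aeval, zero_smul]
    exact map_zero e

end Witness

end CfsgLib.Classical22.PrimeMaps.Wreath
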