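/-
Witness elements of prime order in symplectic groups and orthogonal decompositions.
-/
import Cfsg.Agent.Lib.Classical22.PrimeOrderSympBlocks
import Cfsg.Agent.Lib.Classical22.PrimeOrderWreathNec
import Cfsg.Agent.Lib.Classical.SpOrder
import Cfsg.Agent.Lib.Classical.SpSplit
import Cfsg.Prelude.Def_GeometricClasses

set_option autoImplicit false

namespace CfsgLib.Classical22.PrimeMaps.Symp

open Module Polynomial CfsgLib.Classical22.PrimeMaps.Wreath CfsgLib.Classical Matrix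

universe u

variable {F : Type u} [Field F] {d a t : ℕ}

/-- An orthogonal decomposition into non-degenerate subspaces of dimension `a`. -/
def IsSympDecomp (d a : ℕ) {t : ℕ} (D : Fin t → Submodule F (Fin d ⊕ Fin d → F)) : Prop :=
  Cfsg.Geo.IsMDecomposition a D ∧ (∀ j, ∀ u ∈ D j, u ≠ 0 → ∃ v ∈ D j, Cfsg.sympForm d F u v ≠ 0) ∧
    (∀ j j', j ≠ j' → ∀ u ∈ D j, ∀ v ∈ D j', Cfsg.sympForm d F u v = 0)

theorem spBilin_apply' (u v : Fin d ⊕ Fin d → F) : spBilin d F u v = Cfsg.sympForm d F u v := rfl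

theorem nd_top : Nd (spBilin d F) (⊤ : Submodule F (Fin d ⊕ Fin d → F)) :=
  fun _ _ h => sympForm_nondeg fun w => h w Submodule.mem_top

theorem nd_of_decomp {D : Fin t → Submodule F (Fin d ⊕ Fin d → F)} (hD : IsSympDecomp d a D) (j : Fin t) :
    Nd (spBilin d F) (D j) := fun u hu h => by
  by_contra h0
  obtain ⟨v, hv, hv0⟩ := hD.2.1 j u hu h0
  exact hv0 (h v hv)

theorem iSupIndep_of_orth {D : Fin t → Submodule F (Fin d ⊕ Fin d → F)} (hn : ∀ j, Nd (spBilin d F) (D j))
    (ho : ∀ j j', j ≠ j' → ∀ x ∈ D j, ∀ y ∈ D j', spBilin d F x y = 0) : iSupIndep D := fun j => by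
  rw [disjoint_iff, eq_bot_iff]
  rintro y ⟨hy, hy'⟩
  refine (Submodule.mem_bot F).2 (hn j y hy fun b hb => ?_)
  rw [SetLike.mem_coe, iSup_subtype'] at hy'
  exact Submodule.iSup_induction (fun i : {i // i ≠ j} => D i) (motive := fun y => spBilin d F y b = 0) hy'
    (fun i y hy => ho i j i.2 y hy b hb) (by simp) fun x y hx hy => by simp [hx, hy]

theorem isSympDecomp_of_blocks (ha : 1 ≤ a) (ht : 2 ≤ t) {D : Fin t → Submodule F (Fin d ⊕ Fin d → F)}
    (hd : ∀ j, finrank F (D j) = a) (hn : ∀ j, Nd (spBilin d F) (D j))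
    (ho : ∀ j j', j ≠ j' → ∀ x ∈ D j, ∀ y ∈ D j', spBilin d F x y = 0) (hsup : iSup D = ⊤) :
    IsSympDecomp d a D :=
  ⟨⟨ht, ha, hd, iSupIndep_of_orth hn ho, hsup⟩, fun j u hu hu0 => by
    by_contra h
    push Not at h
    exact hu0 (hn j u hu h), ho⟩

theorem pow_apply_sp {r : ℕ} {x : symplecticGroup (Fin d) F} (hx : x ^ r = 1) (v : Fin d ⊕ Fin d → F) :
    (Matrix.toLin' (x : Matrix (Fin d ⊕ Fin d) (Fin d ⊕ Fin d) F) ^ r) v = v := by
  have h : (x : Matrix (Fin d ⊕ Fin d) (Fin d ⊕ Fin d) F) ^ r = 1 := by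
    rw [← SubmonoidClass.coe_pow, hx]; rfl
  rw [← Matrix.toLin'_pow, h, Matrix.toLin'_one]
  rfl

theorem form_sp (x : symplecticGroup (Fin d) F) (u v : Fin d ⊕ Fin d → F) :
    spBilin d F (Matrix.toLin' (x : Matrix (Fin d ⊕ Fin d) (Fin d ⊕ Fin d) F) u)
      (Matrix.toLin' (x : Matrix (Fin d ⊕ Fin d) (Fin d ⊕ Fin d) F) v) = spBilin d F u v :=
  sp_form x u v

theorem finrank_std : finrank F (Fin d ⊕ Fin d → F) = 2 * d := by
  rw [Module.finrank_pi, Fintype.card_sum, Fintype.card_fin, two_mul]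

variable [Fintype F]

/-- A symplectic group of order divisible by `r` has dimension at least `blockDim i`. -/
theorem blockDim_le {r : ℕ} [Fact r.Prime] (hrF : (r : F) ≠ 0) (h : r ∣ Nat.card (symplecticGroup (Fin d) F)) :
    blockDim (orderOf (Fintype.card F : ZMod r)) ≤ 2 * d ∧
      ∃ x : symplecticGroup (Fin d) F, x ^ r = 1 ∧
        finrank F (fixed (Matrix.toLin' (x : Matrix (Fin d ⊕ Fin d) (Fin d ⊕ Fin d) F))) +
          blockDim (orderOf (Fintype.card F : ZMod r)) ≤ 2 * d := by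
  haveI : Finite (symplecticGroup (Fin d) F) := Finite.of_injective _ Subtype.val_injective
  obtain ⟨x, hx⟩ := exists_prime_orderOf_dvd_card' (G := symplecticGroup (Fin d) F) r h
  have hxr : x ^ r = 1 := hx ▸ pow_orderOf_eq_one x
  obtain ⟨f, hf⟩ : ∃ f, f = Matrix.toLin' (x : Matrix (Fin d ⊕ Fin d) (Fin d ⊕ Fin d) F) := ⟨_, rfl⟩
  have hdvd := dvd_sub_fixed (B := spBilin d F) (f := f) spBilin_isAlt hrF (fun v => by rw [hf]; exact pow_apply_sp hxr v)
    (fun u v => by rw [hf]; exact form_sp x u v) (X := ⊤) (fun _ _ => Submodule.mem_top) nd_top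
  rw [top_inf_eq, finrank_top, finrank_std] at hdvd
  have hlt : finrank F (fixed f) < 2 * d := by
    rw [← finrank_std (F := F)]
    refine Submodule.finrank_lt fun htop => (Fact.out : r.Prime).ne_one ?_
    rw [← hx, orderOf_eq_one_iff]
    refine sp_ext fun u => ?_
    have h := mem_fixed.1 (htop.symm ▸ Submodule.mem_top : u ∈ fixed f)
    rw [hf, Matrix.toLin'_apply] at h
    rw [h]
    exact (Matrix.one_mulVec u).symm
  have hle := Nat.le_of_dvd (by omega) hdvd
  refine ⟨by omega, x, hxr, ?_⟩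
  rw [← hf]
  omega

/-- `r` divides the order of the symplectic group in dimension `blockDim i`. -/
theorem dvd_card_sp {r m : ℕ} [Fact r.Prime] (hm : blockDim (orderOf (Fintype.card F : ZMod r)) = 2 * m) (h0 : 0 < m) :
    r ∣ Nat.card (symplecticGroup (Fin m) F) := by
  rw [card_sp]
  refine Dvd.dvd.mul_left (dvd_trans ?_ (Finset.dvd_prod_of_mem _ (Finset.mem_range.2 (show m - 1 < m by omega)))) _
  rw [Nat.sub_add_cancel h0, ← (ZMod.natCast_eq_zero_iff _ r), Nat.cast_sub (Nat.one_le_pow _ _ Fintype.card_pos),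
    Nat.cast_pow, Nat.cast_one, sub_eq_zero]
  refine orderOf_dvd_iff_pow_eq_one.1 ?_
  rw [← hm, blockDim]
  split_ifs
  exacts [dvd_rfl, dvd_mul_left _ _]

/-- Witness elements. -/
theorem exists_element {r : ℕ} [Fact r.Prime] (hrF : (r : F) ≠ 0) (hi : 0 < orderOf (Fintype.card F : ZMod r)) {l : ℕ}
    (hl : blockDim (orderOf (Fintype.card F : ZMod r)) * l ≤ 2 * d) :
    ∃ f : (Fin d ⊕ Fin d → F) →ₗ[F] (Fin d ⊕ Fin d → F), (∀ v, (f ^ r) v = v) ∧
      (∀ u v, spBilin d F (f u) (f v) = spBilin d F u v) ∧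
      finrank F (fixed f) = 2 * d - blockDim (orderOf (Fintype.card F : ZMod r)) * l ∧
      ∃ Q : F[X], Q.Monic ∧ Q.natDegree = blockDim (orderOf (Fintype.card F : ZMod r)) + 1 ∧ ∀ v, aeval f Q v = 0 := by
  obtain ⟨c, hc⟩ : ∃ c, c = blockDim (orderOf (Fintype.card F : ZMod r)) := ⟨_, rfl⟩
  rw [← hc] at hl ⊢
  obtain ⟨m, hm⟩ : ∃ m, c = 2 * m := (hc ▸ blockDim_even _).two_dvd
  have hc0 : 0 < c := hc ▸ blockDim_pos hi
  obtain ⟨-, x, hxr, hxf⟩ := blockDim_le (d := m) hrF (dvd_card_sp (hc ▸ hm) (by omega))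
  rw [← hc] at hxf
  obtain ⟨g, hg⟩ : ∃ g, g = Matrix.toLin' (x : Matrix (Fin m ⊕ Fin m) (Fin m ⊕ Fin m) F) := ⟨_, rfl⟩
  have hgfix : ∀ v, g v = v → v = 0 := fun v hv => by
    have h0 : fixed g = ⊥ := Submodule.finrank_eq_zero.1 (by rw [hg]; omega)
    exact (Submodule.mem_bot F).1 (h0 ▸ mem_fixed.2 hv)
  have hgr : g ^ r = 1 := LinearMap.ext fun v => by rw [hg]; exact pow_apply_sp hxr v
  have hgc : aeval g g.charpoly = 0 := LinearMap.aeval_self_charpoly g
  have hgd : g.charpoly.natDegree = c := by rw [LinearMap.charpoly_natDegree, finrank_std, hm]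
  obtain ⟨k, hk⟩ : ∃ k, d = m * l + k := ⟨d - m * l, by
    rw [hm, mul_assoc] at hl
    omega⟩
  -- the model
  obtain ⟨F₀, hF₀⟩ : ∃ F₀ : Module.End F ((Fin l → (Fin m ⊕ Fin m → F)) × (Fin k ⊕ Fin k → F)),
      ∀ w u, F₀ (w, u) = (fun j => g (w j), u) := ⟨(g.compLeft (Fin l)).prodMap LinearMap.id, fun w u => rfl⟩
  obtain ⟨BW, hBW⟩ : ∃ BW : LinearMap.BilinForm F ((Fin l → (Fin m ⊕ Fin m → F)) × (Fin k ⊕ Fin k → F)),
      ∀ w u w' u', BW (w, u) (w', u') = ∑ j, Cfsg.sympForm m F (w j) (w' j) + Cfsg.sympForm k F u u' :=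
    ⟨∑ j, (spBilin m F).compl₁₂ ((LinearMap.proj j).comp (LinearMap.fst F (Fin l → (Fin m ⊕ Fin m → F)) _))
      ((LinearMap.proj j).comp (LinearMap.fst F (Fin l → (Fin m ⊕ Fin m → F)) _)) +
      (spBilin k F).compl₁₂ (LinearMap.snd F _ _) (LinearMap.snd F _ _), fun w u w' u' => by
        simp [spBilin_apply']⟩
  have hWA : BW.IsAlt := fun ⟨w, u⟩ => by
    show BW (w, u) (w, u) = 0
    simp [hBW, sympForm_self]
  have hWn : ∀ v, (∀ v', BW v v' = 0) → v = 0 := by
    rintro ⟨w, u⟩ h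
    refine Prod.ext (funext fun j => sympForm_nondeg fun y => ?_) (sympForm_nondeg fun y => ?_)
    · have h1 := h (Pi.single j y, 0)
      rw [hBW, Finset.sum_eq_single j (fun b _ hb => ?_) (by simp), Pi.single_eq_same] at h1
      · rwa [← spBilin_apply' u 0, map_zero, add_zero] at h1
      · rw [Pi.single_eq_of_ne hb, ← spBilin_apply' (w b) 0, map_zero]
    · have h1 := h (0, y)
      rwa [hBW, Finset.sum_eq_zero (fun b _ => by rw [Pi.zero_apply, ← spBilin_apply' (w b) 0, map_zero]), zero_add] at h1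
  obtain ⟨d', hd', e, he⟩ := exists_symp_equiv BW hWA hWn
  rw [Module.finrank_prod, Module.finrank_pi_fintype, Finset.sum_congr rfl fun j _ => finrank_std, finrank_std,
    Finset.sum_const, Finset.card_univ, Fintype.card_fin, smul_eq_mul] at hd'
  obtain rfl : d' = d := by
    rw [hk]
    nlinarith
  obtain ⟨f, hf⟩ : ∃ f, f = e.symm.conjAlgEquiv F F₀ := ⟨_, rfl⟩
  have hfa : ∀ v, f v = e.symm (F₀ (e v)) := fun v => by rw [hf]; simp
  have hpow : ∀ (n : ℕ) w u, (F₀ ^ n) (w, u) = (fun j => (g ^ n) (w j), u) := fun n => by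
    induction n with
    | zero => intro w u; rfl
    | succ n ih => intro w u; rw [pow_succ' F₀, Module.End.mul_apply, ih, hF₀]; simp [pow_succ' g, Module.End.mul_apply]
  refine ⟨f, fun v => ?_, fun u v => ?_, ?_, g.charpoly * (X - Polynomial.C 1),
    (LinearMap.charpoly_monic g).mul (monic_X_sub_C 1), ?_, fun v => ?_⟩
  · rw [hf, ← map_pow, show F₀ ^ r = 1 from LinearMap.ext fun ⟨w, u⟩ => by rw [hpow, hgr]; rfl, map_one]
    rfl
  · rw [spBilin_apply', spBilin_apply', ← he, ← he, hfa, hfa, e.apply_symm_apply, e.apply_symm_apply]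
    rcases e u with ⟨w, y⟩
    rcases e v with ⟨w', y'⟩
    rw [hF₀, hF₀, hBW, hBW, hg]
    simp only [← spBilin_apply', form_sp]
  · have h1 : fixed f = (LinearMap.range (e.symm.toLinearMap ∘ₗ
        LinearMap.inr F (Fin l → (Fin m ⊕ Fin m → F)) (Fin k ⊕ Fin k → F))) := by
      ext v
      rw [mem_fixed, hfa, LinearMap.mem_range, LinearEquiv.symm_apply_eq]
      obtain ⟨⟨w, u⟩, hwu⟩ : ∃ y, e v = y := ⟨_, rfl⟩
      rw [hwu, hF₀, Prod.ext_iff]
      constructor
      · intro h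
        have hw : w = 0 := funext fun j => hgfix _ (congrFun h.1 j)
        refine ⟨u, ?_⟩
        rw [LinearMap.comp_apply, LinearEquiv.coe_coe, LinearMap.inr_apply, ← hw, ← hwu, e.symm_apply_apply]
      · rintro ⟨u', hu'⟩
        rw [← hu', LinearMap.comp_apply, LinearEquiv.coe_coe, LinearMap.inr_apply, e.apply_symm_apply] at hwu
        obtain ⟨hw, -⟩ := Prod.ext_iff.1 hwu
        change (0 : Fin l → (Fin m ⊕ Fin m → F)) = w at hw
        subst hw
        exact ⟨funext fun j => map_zero g, rfl⟩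
    have hinj : Function.Injective (e.symm.toLinearMap ∘ₗ
        LinearMap.inr F (Fin l → (Fin m ⊕ Fin m → F)) (Fin k ⊕ Fin k → F)) :=
      e.symm.injective.comp LinearMap.inr_injective
    rw [h1, LinearMap.finrank_range_of_inj hinj, finrank_std, hm, hk]
    rw [mul_assoc]
    omega
  · rw [(LinearMap.charpoly_monic g).natDegree_mul (monic_X_sub_C 1), hgd, natDegree_X_sub_C]
  · have hae : ∀ (P : F[X]) w, aeval F₀ P (w, (0 : Fin k ⊕ Fin k → F)) = (fun j => aeval g P (w j), 0) := by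
      intro P w
      induction P using Polynomial.induction_on' with
      | add P Q hP hQ =>
        rw [map_add, LinearMap.add_apply, hP, hQ, Prod.mk_add_mk, add_zero]
        simp [Pi.add_def]
      | monomial n x =>
        simp only [aeval_monomial, Module.End.mul_apply, Module.algebraMap_end_apply, hpow, Prod.smul_mk, smul_zero]
        rfl
    rw [hf, show aeval (e.symm.conjAlgEquiv F F₀) (g.charpoly * (X - Polynomial.C 1)) =
      e.symm.conjAlgEquiv F (aeval F₀ (g.charpoly * (X - Polynomial.C 1))) from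
      aeval_algHom_apply (e.symm.conjAlgEquiv F).toAlgHom F₀ _]
    show e.symm (aeval F₀ (g.charpoly * (X - Polynomial.C 1)) (e v)) = 0
    rcases e v with ⟨w, u⟩
    rw [map_mul, Module.End.mul_apply, map_sub, aeval_X, aeval_C, map_one, LinearMap.sub_apply, Module.End.one_apply,
      hF₀, Prod.mk_sub_mk, sub_self, hae, hgc]
    exact map_zero e.symm

omit [Fintype F] in
/-- Invariant blocks carry their minimal fixed space. -/
theorem sum_le_fixed {V : Type u} [AddCommGroup V] [Module F V] [FiniteDimensional F V] {f : V →ₗ[F] V}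
    {D : Fin t → Submodule F V} (hi : iSupIndep D) {e : ℕ} (he : ∀ j, e ≤ finrank F (D j ⊓ fixed f : Submodule F V)) :
    t * e ≤ finrank F (fixed f) := by
  have hindep : iSupIndep fun j => D j ⊓ fixed f := hi.mono fun j => inf_le_left
  have hsum := LinearMap.finrank_range_of_inj hindep.dfinsupp_lsum_injective
  rw [← Submodule.iSup_eq_range_dfinsupp_lsum] at hsum
  have h1 : finrank F (⨆ j, D j ⊓ fixed f : Submodule F V) ≤ finrank F (fixed f) :=
    Submodule.finrank_mono (iSup_le fun j => inf_le_right)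
  have h2 : finrank F (Π₀ j, (D j ⊓ fixed f : Submodule F V)) =
      ∑ j, finrank F (D j ⊓ fixed f : Submodule F V) :=
    Module.finrank_directSum F fun j => ↥(D j ⊓ fixed f : Submodule F V)
  rw [hsum, h2] at h1
  refine le_trans (le_trans (le_of_eq ?_) (Finset.sum_le_sum fun j _ => he j)) h1
  simp

theorem blocks_fixed {r : ℕ} [Fact r.Prime] (hrF : (r : F) ≠ 0) {f : (Fin d ⊕ Fin d → F) →ₗ[F] (Fin d ⊕ Fin d → F)}
    (hf : ∀ v, (f ^ r) v = v) (hB : ∀ u v, spBilin d F (f u) (f v) = spBilin d F u v)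
    {D : Fin t → Submodule F (Fin d ⊕ Fin d → F)} (hD : IsSympDecomp d a D) {σ : Equiv.Perm (Fin t)}
    (hσ : ∀ j, (D j).map f = D (σ j)) (hall : ∀ j, σ j = j) :
    t * (a % blockDim (orderOf (Fintype.card F : ZMod r))) ≤ finrank F (fixed f) ∧
      (a < blockDim (orderOf (Fintype.card F : ZMod r)) → fixed f = ⊤) := by
  have hinv : ∀ j, Inv f (D j) := fun j v hv => by
    have h := hσ j
    rw [hall j] at h
    exact h.le (Submodule.mem_map_of_mem hv)
  have hj : ∀ j, a % blockDim (orderOf (Fintype.card F : ZMod r)) ≤ finrank F (D j ⊓ fixed f : Submodule F _) := by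
    intro j
    obtain ⟨s, hs⟩ := dvd_sub_fixed spBilin_isAlt hrF hf hB (hinv j) (nd_of_decomp hD j)
    have hle : finrank F (D j ⊓ fixed f : Submodule F _) ≤ a := hD.1.finrank_eq j ▸ Submodule.finrank_mono inf_le_left
    rw [hD.1.finrank_eq j] at hs
    rw [show a = finrank F (D j ⊓ fixed f : Submodule F _) + blockDim (orderOf (Fintype.card F : ZMod r)) * s by omega,
      Nat.add_mul_mod_self_left]
    exact Nat.mod_le _ _
  refine ⟨sum_le_fixed hD.1.indep hj, fun ha => eq_top_iff.2 ?_⟩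
  rw [← hD.1.iSup_eq_top]
  refine iSup_le fun j => ?_
  have h := hj j
  rw [Nat.mod_eq_of_lt ha] at h
  exact inf_eq_left.1 (Submodule.eq_of_le_of_finrank_le inf_le_left (hD.1.finrank_eq j ▸ h))

omit [Fintype F] in
theorem exists_equiv_decomp {D E : Fin t → Submodule F (Fin d ⊕ Fin d → F)} (hD : IsSympDecomp d a D)
    (hE : IsSympDecomp d a E) :
    ∃ g : symplecticGroup (Fin d) F, ∀ j, (D j).map (Matrix.toLin' (g : Matrix (Fin d ⊕ Fin d) (Fin d ⊕ Fin d) F)) = E j := by
  classical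
  have key : ∀ {G : Fin t → Submodule F (Fin d ⊕ Fin d → F)}, IsSympDecomp d a G → ∀ j,
      ∃ b : Basis (Fin (a / 2) ⊕ Fin (a / 2)) F (G j), ∀ i i',
        spBilin d F (b i : Fin d ⊕ Fin d → F) (b i') = Cfsg.sympForm (a / 2) F (Pi.single i 1) (Pi.single i' 1) := by
    intro G hG j
    obtain ⟨m, hm, e, he⟩ := exists_symp_equiv ((spBilin d F).restrict (G j))
      (fun v => spBilin_isAlt (v : Fin d ⊕ Fin d → F))
      (fun v hv => Subtype.ext (nd_of_decomp hG j v v.2 fun w hw => hv ⟨w, hw⟩))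
    rw [hG.1.finrank_eq j] at hm
    obtain rfl : m = a / 2 := by omega
    refine ⟨(Pi.basisFun F _).map e, fun i i' => ?_⟩
    rw [Basis.map_apply, Basis.map_apply, Pi.basisFun_apply, Pi.basisFun_apply, ← he]
    rfl
  choose b hb using key hD
  choose b' hb' using key hE
  have iD := (DirectSum.isInternal_submodule_iff_iSupIndep_and_iSup_eq_top D).2 ⟨hD.1.indep, hD.1.iSup_eq_top⟩
  have iE := (DirectSum.isInternal_submodule_iff_iSupIndep_and_iSup_eq_top E).2 ⟨hE.1.indep, hE.1.iSup_eq_top⟩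
  obtain ⟨e, he⟩ : ∃ e, e = (iD.collectedBasis b).equiv (iE.collectedBasis b') (Equiv.refl _) := ⟨_, rfl⟩
  have hemap : ∀ j i, e (b j i : Fin d ⊕ Fin d → F) = b' j i := fun j i => by
    have h1 := congrFun (iD.collectedBasis_coe b) ⟨j, i⟩
    simp only at h1
    rw [← h1, he, Basis.equiv_apply, Equiv.refl_apply, congrFun (iE.collectedBasis_coe b') ⟨j, i⟩]
  have hpres : (spBilin d F).compl₁₂ e.toLinearMap e.toLinearMap = spBilin d F := by
    refine LinearMap.ext_basis (iD.collectedBasis b) (iD.collectedBasis b) fun ⟨j, i⟩ ⟨j', i'⟩ => ?_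
    simp only [LinearMap.compl₁₂_apply, LinearEquiv.coe_coe, congrFun (iD.collectedBasis_coe b), hemap]
    by_cases h : j = j'
    · subst h; rw [hb, hb']
    · rw [spBilin_apply', spBilin_apply', hE.2.2 j j' h _ (b' j i).2 _ (b' j' i').2,
        hD.2.2 j j' h _ (b j i).2 _ (b j' i').2]
  obtain ⟨g, hg⟩ := spMk_exists e.toLinearMap fun u v => by
    rw [← spBilin_apply', ← spBilin_apply']
    exact LinearMap.congr_fun₂ hpres u v
  refine ⟨g, fun j => Submodule.eq_of_le_of_finrank_eq ?_ ?_⟩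
  · rintro _ ⟨v, hv, rfl⟩
    rw [Matrix.toLin'_apply, hg]
    obtain ⟨v, rfl⟩ : ∃ w : D j, (w : Fin d ⊕ Fin d → F) = v := ⟨⟨v, hv⟩, rfl⟩
    rw [← (b j).sum_repr v]
    simp only [Submodule.coe_sum, Submodule.coe_smul, map_sum, map_smul, LinearEquiv.coe_coe, hemap]
    exact Submodule.sum_mem _ fun i _ => Submodule.smul_mem _ _ (b' j i).2
  · rw [hE.1.finrank_eq j, ← hD.1.finrank_eq j]
    exact (Submodule.equivMapOfInjective _ (by
      intro u v huv; exact sp_mulVec_injective g huv) (D j)).finrank_eq.symm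

/-- The number of unordered decompositions divides the order of the symplectic group. -/
theorem unordered_dvd (hN0 : Nat.card {D : Fin t → Submodule F (Fin d ⊕ Fin d → F) // IsSympDecomp d a D} ≠ 0) :
    Nat.card {D : Fin t → Submodule F (Fin d ⊕ Fin d → F) // IsSympDecomp d a D} / Nat.factorial t ∣
      Nat.card (symplecticGroup (Fin d) F) := by
  classical
  obtain ⟨⟨D₀, hD₀⟩⟩ := (Nat.card_ne_zero.1 hN0).1
  letI : MulAction (symplecticGroup (Fin d) F) (Fin t → Submodule F (Fin d ⊕ Fin d → F)) :=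
    { smul := fun g D j => (D j).map (Matrix.toLin' (g : Matrix (Fin d ⊕ Fin d) (Fin d ⊕ Fin d) F))
      one_smul := fun D => funext fun j => by
        show (D j).map (Matrix.toLin' (1 : Matrix (Fin d ⊕ Fin d) (Fin d ⊕ Fin d) F)) = D j
        rw [Matrix.toLin'_one]; exact Submodule.map_id _
      mul_smul := fun g h D => funext fun j => by
        show (D j).map (Matrix.toLin' ((g * h : symplecticGroup (Fin d) F) : Matrix (Fin d ⊕ Fin d) (Fin d ⊕ Fin d) F)) =
          ((D j).map (Matrix.toLin' (h : Matrix (Fin d ⊕ Fin d) (Fin d ⊕ Fin d) F))).map (Matrix.toLin' (g : Matrix (Fin d ⊕ Fin d) (Fin d ⊕ Fin d) F))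
        rw [Submonoid.coe_mul, Matrix.toLin'_mul, Submodule.map_comp] }
  have horb : MulAction.orbit (symplecticGroup (Fin d) F) D₀ =
      {D : Fin t → Submodule F (Fin d ⊕ Fin d → F) | IsSympDecomp d a D} := by
    ext D
    constructor
    · rintro ⟨g, rfl⟩
      obtain ⟨E, hE⟩ : ∃ E : (Fin d ⊕ Fin d → F) ≃ₗ[F] (Fin d ⊕ Fin d → F),
          (E : (Fin d ⊕ Fin d → F) →ₗ[F] (Fin d ⊕ Fin d → F)) = Matrix.toLin' (g : Matrix (Fin d ⊕ Fin d) (Fin d ⊕ Fin d) F) :=
        ⟨LinearEquiv.ofInjectiveEndo (Matrix.toLin' (g : Matrix (Fin d ⊕ Fin d) (Fin d ⊕ Fin d) F))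
          (fun u v huv => sp_mulVec_injective g huv), LinearMap.ext fun v => rfl⟩
      refine isSympDecomp_of_blocks hD₀.1.pos hD₀.1.two_le (fun j => ?_) (fun j => ?_) ?_ ?_
      · show finrank F ((D₀ j).map (Matrix.toLin' (g : Matrix (Fin d ⊕ Fin d) (Fin d ⊕ Fin d) F))) = a
        rw [← hE, LinearEquiv.finrank_map_eq, hD₀.1.finrank_eq]
      · rintro _ ⟨u, hu, rfl⟩ h
        rw [nd_of_decomp hD₀ j u hu fun v hv => (form_sp g u v).symm.trans (h _ ⟨v, hv, rfl⟩), map_zero]
      · rintro j j' h _ ⟨u, hu, rfl⟩ _ ⟨v, hv, rfl⟩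
        exact (form_sp g u v).trans (hD₀.2.2 j j' h u hu v hv)
      · show ⨆ j, (D₀ j).map (Matrix.toLin' (g : Matrix (Fin d ⊕ Fin d) (Fin d ⊕ Fin d) F)) = ⊤
        rw [← Submodule.map_iSup, hD₀.1.iSup_eq_top, Submodule.map_top, ← hE, LinearEquiv.range]
    · intro hD
      obtain ⟨g, hg⟩ := exists_equiv_decomp hD₀ hD
      exact ⟨g, funext hg⟩
  obtain ⟨N, hN⟩ : ∃ N, Nat.card {D : Fin t → Submodule F (Fin d ⊕ Fin d → F) // IsSympDecomp d a D} = N := ⟨_, rfl⟩
  rw [hN]
  have hdvd : N ∣ Nat.card (symplecticGroup (Fin d) F) := by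
    rw [← hN, ← Set.coe_setOf, ← horb, Nat.card_congr (MulAction.orbitEquivQuotientStabilizer _ D₀)]
    exact Subgroup.card_quotient_dvd_card _
  suffices hfac : Nat.factorial t ∣ N from (Nat.div_dvd_of_dvd hfac).trans hdvd
  -- permuting the parts is free
  letI : MulAction (Equiv.Perm (Fin t)) {D : Fin t → Submodule F (Fin d ⊕ Fin d → F) // IsSympDecomp d a D} :=
    { smul := fun σ D => ⟨D.1 ∘ σ.symm, ⟨D.2.1.two_le, D.2.1.pos, fun j => D.2.1.finrank_eq _,
        D.2.1.indep.comp σ.symm.injective, by rw [← D.2.1.iSup_eq_top]; exact Equiv.iSup_comp (g := D.1) σ.symm⟩,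
        fun j => D.2.2.1 _, fun j j' h => D.2.2.2 _ _ fun e => h (σ.symm.injective e)⟩
      one_smul := fun D => rfl
      mul_smul := fun σ τ D => rfl }
  rw [← hN, Nat.card_congr (MulAction.selfEquivSigmaOrbits (Equiv.Perm (Fin t)) _), Nat.card_sigma]
  refine Finset.dvd_sum fun q _ => dvd_of_eq ?_
  have hst : MulAction.stabilizer (Equiv.Perm (Fin t)) q.out = ⊥ := by
    refine eq_bot_iff.2 fun σ hσ => Equiv.ext fun j => ?_
    have h := congrFun (congrArg Subtype.val hσ) (σ j)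
    change q.out.1 (σ.symm (σ j)) = q.out.1 (σ j) at h
    rw [Equiv.symm_apply_apply] at h
    refine (block_injective q.out.2.1.indep (fun j hj => ?_) h).symm
    have := q.out.2.1.finrank_eq j
    rw [hj, finrank_bot] at this
    have := q.out.2.1.pos
    omega
  have h := MulAction.index_stabilizer (Equiv.Perm (Fin t)) q.out
  rw [hst, Subgroup.index_bot, Nat.card_perm, Nat.card_fin] at h
  rw [h]
  rfl

end CfsgLib.Classical22.PrimeMaps.Symp
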