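/-
Skew-adjoint square roots of a non-square for the standard symplectic form.
-/
import Cfsg.Agent.Lib.Classical.SpBasic
import Cfsg.Agent.Lib.Classical.SpSimple
import Cfsg.Agent.Lib.Classical.SpInvolutions
import Cfsg.Agent.Lib.Classical.FiniteFieldSq
import Cfsg.Prelude.Def_GeometricClasses

set_option autoImplicit false

namespace CfsgLib.Classical22.PrimeMaps.UType

open Module Matrix CfsgLib.Classical Cfsg
open scoped MatrixGroups

universe u

variable {F : Type u} [Field F] {d : ℕ}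

/-- A skew-adjoint square root of `ν`. -/
def IsStruct (ν : F) (j : Matrix (Fin d ⊕ Fin d) (Fin d ⊕ Fin d) F) : Prop :=
  j * j = ν • 1 ∧ ∀ u v, sympForm d F (j *ᵥ u) v = -sympForm d F u (j *ᵥ v)

/-- The standard one. -/
def stdRoot (d : ℕ) (ν : F) : Matrix (Fin d ⊕ Fin d) (Fin d ⊕ Fin d) F :=
  Matrix.fromBlocks 0 (ν • 1) 1 0

theorem stdRoot_apply (ν : F) (w : Fin d ⊕ Fin d → F) :
    stdRoot d ν *ᵥ w = Sum.elim (fun i => ν * w (Sum.inr i)) (fun i => w (Sum.inl i)) := by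
  rw [stdRoot, Matrix.fromBlocks_mulVec]
  simp [Matrix.smul_mulVec]
  rfl

theorem stdRoot_struct (ν : F) : IsStruct ν (stdRoot d ν) := by
  refine ⟨?_, fun u v => ?_⟩
  · rw [stdRoot, Matrix.fromBlocks_multiply, ← Matrix.fromBlocks_one, Matrix.fromBlocks_smul]
    simp
  · rw [sympForm_eq, sympForm_eq, ← Finset.sum_neg_distrib]
    refine Finset.sum_congr rfl fun i _ => ?_
    rw [stdRoot_apply, stdRoot_apply]
    simp only [Sum.elim_inl, Sum.elim_inr]
    ring

/-- Matrices are detected by the form. -/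
theorem form_ext {A B : Matrix (Fin d ⊕ Fin d) (Fin d ⊕ Fin d) F}
    (h : ∀ u v, sympForm d F u (A *ᵥ v) = sympForm d F u (B *ᵥ v)) : A = B := by
  refine Matrix.ext_of_mulVec_single fun i => sub_eq_zero.1 (sympForm_nondeg fun w => ?_)
  rw [sympForm_swap, sympForm_sub_right, h, sub_self, neg_zero]

theorem no_zero_div {ι : Type} [Fintype ι] [DecidableEq ι] {r : ℕ} {K : Subalgebra F (Matrix ι ι F)}
    (hK : Cfsg.Geo.IsFieldSubalgebra r K) {x y : Matrix ι ι F} (hx : x ∈ K) (hxy : x * y = 0) (hx0 : x ≠ 0) :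
    y = 0 := by
  obtain ⟨z, hz, hxz⟩ := hK.inv x hx hx0
  rw [hK.comm x hx z hz] at hxz
  rw [← one_mul y, ← hxz, mul_assoc, hxy, mul_zero]

/-- A quadratic field subalgebra on which the adjoint is non-trivial is spanned by a structure. -/
theorem exists_gen (h2 : (2 : F) ≠ 0) (hd : 0 < d) {K : Subalgebra F (Matrix (Fin d ⊕ Fin d) (Fin d ⊕ Fin d) F)}
    (hK : Cfsg.Geo.IsFieldSubalgebra 2 K) (hKf : Cfsg.Geo.IsAdjointClosedFor (sympForm d F) K)
    (hKns : ¬ Cfsg.Geo.IsSelfAdjointFor (sympForm d F) K) :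
    ∃ (ν : F) (j : Matrix (Fin d ⊕ Fin d) (Fin d ⊕ Fin d) F), ¬ IsSquare ν ∧ j ∈ K ∧ IsStruct ν j ∧
      ∀ y ∈ K, ∃ a b : F, y = a • 1 + b • j := by
  classical
  haveI : Nonempty (Fin d) := ⟨⟨0, hd⟩⟩
  have hne : (1 : Matrix (Fin d ⊕ Fin d) (Fin d ⊕ Fin d) F) ≠ 0 := one_ne_zero
  obtain ⟨k, hk⟩ : ∃ k : K, ∀ a : F, (k : Matrix (Fin d ⊕ Fin d) (Fin d ⊕ Fin d) F) ≠ a • 1 := by
    by_contra! h
    have h1 : Module.finrank F K ≤ 1 := finrank_le_one (⟨1, K.one_mem⟩ : K) fun w => by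
      obtain ⟨a, ha⟩ := h w
      exact ⟨a, Subtype.ext (by simp [ha])⟩
    rw [hK.finrank_eq] at h1
    omega
  have hspan : ∀ y ∈ K, ∃ a b : F, y = a • 1 + b • (k : Matrix (Fin d ⊕ Fin d) (Fin d ⊕ Fin d) F) := by
    intro y hy
    have hli : LinearIndependent F ![(1 : K), k] := by
      rw [LinearIndependent.pair_iff]
      intro a b hab
      have h' := congrArg Subtype.val hab
      simp at h'
      by_cases hb : b = 0
      · subst hb
        simp at h'
        exact ⟨h', rfl⟩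
      · refine absurd ?_ (hk (-(b⁻¹ * a)))
        have h2 := congrArg (b⁻¹ • ·) h'
        simp only [smul_add, smul_smul, inv_mul_cancel₀ hb, one_smul, smul_zero] at h2
        rw [neg_smul]
        exact eq_neg_of_add_eq_zero_right h2
    have hsp := hli.span_eq_top_of_card_eq_finrank (by rw [hK.finrank_eq]; rfl)
    have hy' : (⟨y, hy⟩ : K) ∈ Submodule.span F ({1, k} : Set K) := by
      rw [show ({1, k} : Set K) = Set.range ![(1 : K), k] by simp [Set.pair_comm], hsp]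
      trivial
    obtain ⟨a, b, hab⟩ := Submodule.mem_span_pair.1 hy'
    exact ⟨a, b, by simpa using (congrArg Subtype.val hab).symm⟩
  obtain ⟨k', hk', hkk⟩ : ∃ k' : Matrix (Fin d ⊕ Fin d) (Fin d ⊕ Fin d) F, k' ∈ K ∧ k' = k := ⟨_, k.2, rfl⟩
  rw [← hkk] at hk hspan
  obtain ⟨a, b, hab⟩ := hspan _ (K.mul_mem hk' hk')
  obtain ⟨c, hc⟩ : ∃ c : F, c + c = b := ⟨b / 2, by field_simp; ring⟩
  obtain ⟨j, hj⟩ : ∃ j, j = k' - c • 1 := ⟨_, rfl⟩
  have hjK : j ∈ K := hj ▸ K.sub_mem hk' (K.smul_mem K.one_mem c)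
  have hjj : j * j = (a + c * c) • 1 := by
    subst hc
    simp only [hj, sub_mul, mul_sub, hab, Matrix.smul_mul, Matrix.mul_smul, one_mul, mul_one, smul_smul]
    module
  have hjs : ∀ e : F, j ≠ e • 1 := fun e he => hk (e + c) (by rw [add_smul, ← he, hj, sub_add_cancel])
  have hspj : ∀ y ∈ K, ∃ a b : F, y = a • 1 + b • j := fun y hy => by
    obtain ⟨a', b', h⟩ := hspan y hy
    exact ⟨a' + b' * c, b', by rw [h, hj]; module⟩
  have hns : ¬ IsSquare (a + c * c) := by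
    rintro ⟨e, he⟩
    rw [he] at hjj
    have hz : (j - e • 1) * (j + e • 1) = 0 := by
      rw [sub_mul, mul_add, mul_add, hjj, Matrix.smul_mul, Matrix.mul_smul, one_mul, mul_one, Matrix.smul_mul,
        one_mul, smul_smul]
      module
    have h := no_zero_div hK (K.sub_mem hjK (K.smul_mem K.one_mem e)) hz (sub_ne_zero.2 (hjs e))
    exact hjs (-e) (by rw [neg_smul]; exact eq_neg_of_add_eq_zero_left h)
  refine ⟨a + c * c, j, hns, hjK, ⟨hjj, ?_⟩, hspj⟩
  obtain ⟨ν, hν⟩ : ∃ ν, ν = a + c * c := ⟨_, rfl⟩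
  rw [← hν] at hjj hns
  obtain ⟨k₂, hk₂, hadj⟩ := hKf j hjK
  obtain ⟨a₂, b₂, hk₂e⟩ := hspj k₂ hk₂
  have hsq : k₂ * k₂ = ν • 1 := form_ext fun u v => by
    rw [← mulVec_mulVec, ← hadj, ← hadj, mulVec_mulVec, hjj, smul_mulVec, one_mulVec, smul_mulVec, one_mulVec,
      sympForm_smul_left, sympForm_smul_right]
  have hcoef : (a₂ * a₂ + b₂ * b₂ * ν) • (1 : Matrix (Fin d ⊕ Fin d) (Fin d ⊕ Fin d) F) + (a₂ * b₂ + a₂ * b₂) • j =
      ν • 1 := by
    rw [← hsq, hk₂e]
    simp only [add_mul, mul_add, Matrix.smul_mul, Matrix.mul_smul, one_mul, mul_one, hjj, smul_smul]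
    module
  have hab0 : a₂ * b₂ + a₂ * b₂ = 0 := by
    by_contra h0
    refine hjs ((a₂ * b₂ + a₂ * b₂)⁻¹ * (ν - (a₂ * a₂ + b₂ * b₂ * ν))) ?_
    rw [mul_smul, sub_smul, ← hcoef, add_sub_cancel_left, inv_smul_smul₀ h0]
  rw [hab0, zero_smul, add_zero] at hcoef
  have he := smul_left_injective F hne hcoef
  have ha0 : a₂ = 0 := by
    rw [← mul_two] at hab0
    rcases mul_eq_zero.1 ((mul_eq_zero.1 hab0).resolve_right h2) with h | h
    · exact h
    · subst h
      exact absurd ⟨a₂, by rw [← he]; ring⟩ hns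
  subst ha0
  have hν0 : ν ≠ 0 := fun h => hns ⟨0, by rw [h, mul_zero]⟩
  have hb : b₂ = 1 ∨ b₂ = -1 := by
    refine mul_self_eq_one_iff.1 ?_
    exact mul_right_cancel₀ hν0 (by linear_combination he)
  rw [zero_smul, zero_add] at hk₂e
  rcases hb with rfl | rfl
  · refine absurd (fun y hy u v => ?_) hKns
    obtain ⟨a', b', rfl⟩ := hspj y hy
    rw [one_smul] at hk₂e
    subst hk₂e
    simp only [add_mulVec, smul_mulVec, one_mulVec, sympForm_add_left, sympForm_add_right, sympForm_smul_left,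
      sympForm_smul_right, hadj]
  · intro u v
    rw [hadj, hk₂e, smul_mulVec, sympForm_smul_right, neg_one_mul]

theorem struct_skew {ν : F} {j : Matrix (Fin d ⊕ Fin d) (Fin d ⊕ Fin d) F} (h : IsStruct ν j)
    (u v : Fin d ⊕ Fin d → F) : sympForm d F (j *ᵥ u) (j *ᵥ v) = -(ν * sympForm d F u v) := by
  rw [h.2, mulVec_mulVec, h.1, smul_mulVec, one_mulVec, sympForm_smul_right]

/-- Orthogonal families adapted to a structure. -/
theorem exists_family [Finite F] (h2 : (2 : F) ≠ 0) {ν : F} (hν : ¬ IsSquare ν)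
    {j : Matrix (Fin d ⊕ Fin d) (Fin d ⊕ Fin d) F} (hj : IsStruct ν j) :
    ∀ k ≤ d, ∃ x : Fin k → (Fin d ⊕ Fin d → F), (∀ a b, sympForm d F (x a) (x b) = 0) ∧
      ∀ a b, sympForm d F (x a) (j *ᵥ x b) = if a = b then -1 else 0 := by
  classical
  have hν0 : ν ≠ 0 := fun h => hν ⟨0, by rw [h, mul_zero]⟩
  intro k hk
  induction k with
  | zero => exact ⟨Fin.elim0, fun a => a.elim0, fun a => a.elim0⟩
  | succ k ih =>
    obtain ⟨x, hxx, hxj⟩ := ih (by omega)
    have hjx : ∀ a b, sympForm d F (j *ᵥ x a) (x b) = if a = b then 1 else 0 := fun a b => by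
      rw [hj.2, hxj]; split_ifs <;> simp
    obtain ⟨L, hL⟩ : ∃ L : (Fin d ⊕ Fin d → F) →ₗ[F] (Fin k ⊕ Fin k → F), ∀ v,
        L v = Sum.elim (fun a => sympForm d F v (x a)) (fun a => sympForm d F v (j *ᵥ x a)) :=
      ⟨LinearMap.pi (Sum.elim (fun a => (spBilin d F).flip (x a)) (fun a => (spBilin d F).flip (j *ᵥ x a))),
        fun v => funext fun c => by rcases c with c | c <;> simp⟩
    have hker : ∀ v, L v = 0 ↔ ∀ a, sympForm d F v (x a) = 0 ∧ sympForm d F v (j *ᵥ x a) = 0 := fun v => by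
      rw [hL, funext_iff, Sum.forall]
      simp [forall_and]
    obtain ⟨y, hy, hy0⟩ : ∃ y, L y = 0 ∧ y ≠ 0 := by
      obtain ⟨y, hy, hy0⟩ := Submodule.exists_mem_ne_zero_of_ne_bot
        (LinearMap.ker_ne_bot_of_finrank_lt (f := L) (by simp; omega))
      exact ⟨y, LinearMap.mem_ker.1 hy, hy0⟩
    have hjinv : ∀ v, L v = 0 → L (j *ᵥ v) = 0 := fun v hv => by
      rw [hker] at hv ⊢
      intro a
      refine ⟨by rw [hj.2, (hv a).2, neg_zero], ?_⟩
      rw [struct_skew hj, (hv a).1, mul_zero, neg_zero]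
    have hproj : ∀ v, ∃ w, L w = 0 ∧ ∀ z, L z = 0 →
        sympForm d F z (j *ᵥ w) = sympForm d F z (j *ᵥ v) := by
      intro v
      refine ⟨v - ∑ a, (-(sympForm d F v (j *ᵥ x a)) • x a + sympForm d F v (x a) • (j *ᵥ x a)), ?_, fun z hz => ?_⟩
      · rw [hker]
        intro b
        constructor
        · rw [← spBilin_apply, map_sub, LinearMap.sub_apply, map_sum, LinearMap.sum_apply]
          simp [hxx, hjx]
        · rw [← spBilin_apply, map_sub, LinearMap.sub_apply, map_sum, LinearMap.sum_apply]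
          simp [hxj, struct_skew hj, hxx]
      · have hz' := (hker z).1 hz
        rw [Matrix.mulVec_sub, Matrix.mulVec_sum, ← spBilin_apply, map_sub, map_sum, Finset.sum_eq_zero, sub_zero,
          spBilin_apply]
        intro a _
        simp [Matrix.mulVec_add, Matrix.mulVec_smul, Matrix.mulVec_neg, ← neg_smul, sympForm_add_right, sympForm_smul_right, mulVec_mulVec, hj.1, smul_mulVec, (hz' a).1, (hz' a).2]
    obtain ⟨z, hz, hzz⟩ : ∃ z, L z = 0 ∧ sympForm d F z (j *ᵥ z) ≠ 0 := by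
      by_contra! h
      have hpol : ∀ u v, L u = 0 → L v = 0 → sympForm d F u (j *ᵥ v) = 0 := by
        intro u v hu hv
        have h1 := h (u + v) (by rw [map_add, hu, hv, add_zero])
        rw [Matrix.mulVec_add, sympForm_add_left, sympForm_add_right, sympForm_add_right, h u hu, h v hv] at h1
        have h3 : sympForm d F v (j *ᵥ u) = sympForm d F u (j *ᵥ v) := by
          rw [sympForm_swap, hj.2, neg_neg]
        rw [h3, zero_add, add_zero, ← mul_two] at h1
        exact (mul_eq_zero.1 h1).resolve_right h2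
      refine hy0 (sympForm_nondeg fun v => ?_)
      obtain ⟨w, hw, hwz⟩ := hproj (ν⁻¹ • (j *ᵥ v))
      have h1 := hwz y hy
      rw [hpol y w hy hw, Matrix.mulVec_smul, mulVec_mulVec, hj.1, smul_mulVec, one_mulVec, smul_smul,
        inv_mul_cancel₀ hν0, one_smul] at h1
      exact h1.symm
    obtain ⟨s, t, hst⟩ := exists_mul_sq_add_mul_sq (F := F) h2 one_ne_zero (neg_ne_zero.2 hν0)
      (-(sympForm d F z (j *ᵥ z))⁻¹)
    obtain ⟨z', hz'⟩ : ∃ z', z' = s • z + t • (j *ᵥ z) := ⟨_, rfl⟩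
    have hz'L : L z' = 0 := by rw [hz', map_add, map_smul, map_smul, hz, hjinv z hz, smul_zero, smul_zero, add_zero]
    have hz'1 : sympForm d F z' (j *ᵥ z') = -1 := by
      rw [hz', Matrix.mulVec_add, Matrix.mulVec_smul, Matrix.mulVec_smul, mulVec_mulVec, hj.1, smul_mulVec, one_mulVec]
      simp only [sympForm_add_left, sympForm_add_right, sympForm_smul_left, sympForm_smul_right, struct_skew hj,
        sympForm_self, hj.2]
      have e : (1 * s ^ 2 + -ν * t ^ 2) * sympForm d F z (j *ᵥ z) = -1 := by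
        rw [hst, neg_mul, inv_mul_cancel₀ hzz]
      linear_combination e
    have hzx := (hker z').1 hz'L
    refine ⟨Fin.snoc x z', fun a b => ?_, fun a b => ?_⟩
    · induction a using Fin.lastCases with
      | last => induction b using Fin.lastCases with
        | last => simp [sympForm_self]
        | cast b => simp [(hzx b).1]
      | cast a => induction b using Fin.lastCases with
        | last => simp [sympForm_swap z' (x a), (hzx a).1]
        | cast b => simp [hxx]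
    · induction a using Fin.lastCases with
      | last => induction b using Fin.lastCases with
        | last => simp [hz'1]
        | cast b => simp [(hzx b).2, (Fin.castSucc_ne_last _).symm]
      | cast a => induction b using Fin.lastCases with
        | last =>
          have e : sympForm d F (x a) (j *ᵥ z') = 0 := by
            rw [sympForm_swap, hj.2, (hzx a).2, neg_zero, neg_zero]
          simp [e, Fin.castSucc_ne_last]
        | cast b => simp [hxj]

/-- All structures are conjugate. -/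
theorem exists_conj [Finite F] (h2 : (2 : F) ≠ 0) {ν : F} (hν : ¬ IsSquare ν)
    {j : Matrix (Fin d ⊕ Fin d) (Fin d ⊕ Fin d) F} (hj : IsStruct ν j) :
    ∃ g : symplecticGroup (Fin d) F, j * g.1 = g.1 * stdRoot d ν := by
  classical
  obtain ⟨x, hxx, hxj⟩ := exists_family h2 hν hj d le_rfl
  obtain ⟨G, hG⟩ : ∃ G : Matrix (Fin d ⊕ Fin d) (Fin d ⊕ Fin d) F,
      ∀ a b, G a b = Sum.elim (fun i => x i) (fun i => j *ᵥ x i) b a := ⟨Matrix.of fun a b => _, fun _ _ => rfl⟩
  have hcol : ∀ w, G *ᵥ w = ∑ i, (w (Sum.inl i) • x i + w (Sum.inr i) • (j *ᵥ x i)) := by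
    intro w
    funext a
    simp only [Matrix.mulVec, dotProduct, hG, Fintype.sum_sum_type, Sum.elim_inl, Sum.elim_inr, Finset.sum_add_distrib,
      Pi.add_apply, Finset.sum_apply, Pi.smul_apply, smul_eq_mul, mul_comm]
  have hmem : G ∈ symplecticGroup (Fin d) F := by
    rw [mem_sp_iff]
    intro u v
    conv_rhs => rw [sympForm_eq]
    rw [hcol, hcol, ← spBilin_apply, map_sum]
    refine Finset.sum_congr rfl fun i _ => ?_
    rw [map_sum, LinearMap.sum_apply, Finset.sum_eq_single i]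
    · simp [hxx, hxj, struct_skew hj, hj.2, sympForm_add_right, sympForm_smul_right, Matrix.mulVec_add, Matrix.mulVec_smul,
        mulVec_mulVec, hj.1, smul_mulVec]
      try ring
    · intro b _ hb
      simp [hxx, hxj, struct_skew hj, hj.2, sympForm_add_right, sympForm_smul_right, Matrix.mulVec_add, Matrix.mulVec_smul,
        mulVec_mulVec, hj.1, smul_mulVec, Ne.symm hb, hb]
    · simp
  refine ⟨⟨G, hmem⟩, ?_⟩
  refine Matrix.ext_of_mulVec_single fun b => ?_
  show (j * G) *ᵥ _ = (G * stdRoot d ν) *ᵥ _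
  rw [← mulVec_mulVec, ← mulVec_mulVec, hcol, hcol, stdRoot_apply, Matrix.mulVec_sum]
  refine Finset.sum_congr rfl fun i _ => ?_
  simp only [Sum.elim_inl, Sum.elim_inr, Matrix.mulVec_add, Matrix.mulVec_smul, mulVec_mulVec, hj.1, smul_mulVec,
    one_mulVec, smul_smul]
  rw [add_comm, mul_comm ν]

theorem struct_conj {ν : F} {j P Q : Matrix (Fin d ⊕ Fin d) (Fin d ⊕ Fin d) F} (hj : IsStruct ν j)
    (hP : ∀ u v, sympForm d F (P *ᵥ u) (P *ᵥ v) = sympForm d F u v) (hQP : Q * P = 1) (hPQ : P * Q = 1) :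
    IsStruct ν (P * j * Q) := by
  refine ⟨?_, fun u v => ?_⟩
  · calc P * j * Q * (P * j * Q) = P * j * (Q * P) * (j * Q) := by noncomm_ring
      _ = P * (j * j) * Q := by rw [hQP]; noncomm_ring
      _ = ν • 1 := by rw [hj.1, Matrix.mul_smul, mul_one, Matrix.smul_mul, hPQ]
  · have h : ∀ w, P *ᵥ (Q *ᵥ w) = w := fun w => by rw [mulVec_mulVec, hPQ, one_mulVec]
    simp only [← mulVec_mulVec]
    conv_lhs => rw [← h v, hP, hj.2, ← hP, h]

/-- Elements commuting or anticommuting with a spanning element normalise the algebra. -/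
theorem mem_normalizer {K : Subalgebra F (Matrix (Fin d ⊕ Fin d) (Fin d ⊕ Fin d) F)}
    {j : Matrix (Fin d ⊕ Fin d) (Fin d ⊕ Fin d) F} (hj : j ∈ K) (hspan : ∀ y ∈ K, ∃ a b : F, y = a • 1 + b • j)
    {g : GL (Fin d ⊕ Fin d) F}
    (h : (g : Matrix (Fin d ⊕ Fin d) (Fin d ⊕ Fin d) F) * j = j * g.1 ∨
      (g : Matrix (Fin d ⊕ Fin d) (Fin d ⊕ Fin d) F) * j = -(j * g.1)) :
    g ∈ Cfsg.Geo.subalgebraNormalizer K := by
  have key : ∀ (A B : Matrix (Fin d ⊕ Fin d) (Fin d ⊕ Fin d) F), A * B = 1 → (A * j = j * A ∨ A * j = -(j * A)) →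
      ∀ k ∈ K, A * k * B ∈ K := by
    intro A B hAB hA k hk
    obtain ⟨a, b, rfl⟩ := hspan k hk
    have e : A * j * B = j ∨ A * j * B = -j := hA.imp (fun e => by rw [e, mul_assoc, hAB, mul_one])
      (fun e => by rw [e, neg_mul, mul_assoc, hAB, mul_one])
    rw [mul_add, add_mul, mul_smul_comm, mul_one, smul_mul_assoc, hAB, mul_smul_comm, smul_mul_assoc]
    refine K.add_mem (K.smul_mem K.one_mem a) (K.smul_mem ?_ b)
    rcases e with e | e <;> rw [e]
    · exact hj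
    · exact K.neg_mem hj
  refine fun k => ⟨key _ _ g.mul_inv h k, fun hk => ?_⟩
  have h' : ((g⁻¹ : GL (Fin d ⊕ Fin d) F) : Matrix (Fin d ⊕ Fin d) (Fin d ⊕ Fin d) F) * j =
      j * (g⁻¹ : GL (Fin d ⊕ Fin d) F).1 ∨ ((g⁻¹ : GL (Fin d ⊕ Fin d) F) : Matrix (Fin d ⊕ Fin d) (Fin d ⊕ Fin d) F) * j =
      -(j * (g⁻¹ : GL (Fin d ⊕ Fin d) F).1) := by
    refine h.imp (fun e => ?_) (fun e => ?_)
    · rw [Units.inv_mul_eq_iff_eq_mul, ← mul_assoc, e, mul_assoc, g.mul_inv, mul_one]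
    · rw [Units.inv_mul_eq_iff_eq_mul, mul_neg, ← mul_assoc, e, neg_mul, mul_assoc, g.mul_inv, mul_one, neg_neg]
  have h2 := key _ _ g.inv_mul h' _ hk
  simpa [mul_assoc] using h2

/-- Normalising elements of odd order modulo scalars centralise. -/
theorem commute_of_odd (h2 : (2 : F) ≠ 0) (hd : 0 < d) {K : Subalgebra F (Matrix (Fin d ⊕ Fin d) (Fin d ⊕ Fin d) F)}
    (hK : Cfsg.Geo.IsFieldSubalgebra 2 K) {ν : F} {j : Matrix (Fin d ⊕ Fin d) (Fin d ⊕ Fin d) F} (hj : j ∈ K)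
    (hjj : j * j = ν • 1) (hν : ¬ IsSquare ν) {r : ℕ} (hr : Odd r) {g : GL (Fin d ⊕ Fin d) F}
    (hg : g ∈ Cfsg.Geo.subalgebraNormalizer K) {z : F}
    (hz : ((g ^ r : GL (Fin d ⊕ Fin d) F) : Matrix (Fin d ⊕ Fin d) (Fin d ⊕ Fin d) F) = z • 1) :
    (g : Matrix (Fin d ⊕ Fin d) (Fin d ⊕ Fin d) F) * j = j * g.1 := by
  haveI : Nonempty (Fin d) := ⟨⟨0, hd⟩⟩
  obtain ⟨k, hkd⟩ : ∃ k, k = g.1 * j * (g⁻¹ : GL (Fin d ⊕ Fin d) F).1 := ⟨_, rfl⟩
  have hk : k ∈ K := hkd ▸ (hg j).1 hj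
  have hkg : g.1 * j = k * g.1 := by rw [hkd, mul_assoc _ _ g.1, g.inv_mul, mul_one]
  have hkk : k * k = ν • 1 := by
    rw [hkd]
    calc g.1 * j * (g⁻¹).1 * (g.1 * j * (g⁻¹).1) = g.1 * j * ((g⁻¹).1 * g.1) * j * (g⁻¹).1 := by noncomm_ring
      _ = g.1 * (j * j) * (g⁻¹).1 := by rw [g.inv_mul]; noncomm_ring
      _ = ν • 1 := by rw [hjj, Matrix.mul_smul, mul_one, Matrix.smul_mul, g.mul_inv]
  have hz' : (k - j) * (k + j) = 0 := by
    rw [sub_mul, mul_add, mul_add, hkk, hjj, hK.comm k hk j hj]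
    abel
  rcases em (k - j = 0) with h | h
  · rw [hkg, sub_eq_zero.1 h]
  exfalso
  have hkj : k = -j := eq_neg_of_add_eq_zero_left (no_zero_div hK (K.sub_mem hk hj) hz' h)
  have hn : ∀ n : ℕ, g.1 ^ n * j = (-1 : F) ^ n • (j * g.1 ^ n) := by
    intro n
    induction n with
    | zero => simp
    | succ n ih =>
      rw [pow_succ (g.1) n, mul_assoc, hkg, hkj, neg_mul, mul_neg, ← mul_assoc, ih, Matrix.smul_mul, mul_assoc,
        pow_succ' (-1 : F), neg_one_mul, neg_smul]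
  have h1 := hn r
  rw [← Units.val_pow_eq_pow_val, hz, hr.neg_one_pow, Matrix.smul_mul, one_mul, Matrix.mul_smul, mul_one, neg_one_smul] at h1
  have hz0 : z ≠ 0 := fun h0 => (g ^ r).ne_zero (by rw [hz, h0, zero_smul])
  rw [eq_neg_iff_add_eq_zero, ← add_smul, ← mul_two] at h1
  have hj0 : j = 0 := (smul_eq_zero.1 h1).resolve_left (mul_ne_zero hz0 h2)
  rw [hj0, mul_zero] at hjj
  exact hν ⟨0, by rw [mul_zero]; exact (smul_eq_zero.1 hjj.symm).resolve_right one_ne_zero⟩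

end CfsgLib.Classical22.PrimeMaps.UType
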