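/-
The unitary group inside the centraliser of a structure, the index, and involutions.
-/
import Cfsg.Agent.Lib.Classical22.PrimeOrderUnitaryTypeForms
import Cfsg.Agent.Lib.Classical.HermOrder
import Cfsg.Agent.Lib.Classical.SpOrder
import Mathlib.Algebra.QuadraticAlgebra.Basic

set_option autoImplicit false

namespace CfsgLib.Classical22.PrimeMaps.UType

open Module Matrix CfsgLib.Classical Cfsg
open scoped MatrixGroups

attribute [local simp] QuadraticAlgebra.re_one QuadraticAlgebra.im_one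

universe u

variable {F : Type u} [Field F] [Fintype F] {d : ℕ}

/-- Coordinates of a vector over the quadratic extension. -/
def enc (d : ℕ) (ν : F) : (Fin d → QuadraticAlgebra F ν 0) ≃ₗ[F] (Fin d ⊕ Fin d → F) where
  toFun u := Sum.elim (fun i => (u i).re) (fun i => (u i).im)
  invFun w i := ⟨w (Sum.inl i), w (Sum.inr i)⟩
  map_add' u v := by funext c; rcases c with c | c <;> simp
  map_smul' a u := by funext c; rcases c with c | c <;> simp
  left_inv u := by funext i; ext <;> simp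
  right_inv w := by funext c; rcases c with c | c <;> simp

theorem enc_omega (ν : F) (u : Fin d → QuadraticAlgebra F ν 0) :
    stdRoot d ν *ᵥ enc d ν u = enc d ν ((⟨0, 1⟩ : QuadraticAlgebra F ν 0) • u) := by
  rw [stdRoot_apply]
  funext c
  rcases c with c | c <;> simp [enc]

theorem card_quad (ν : F) : Nat.card (QuadraticAlgebra F ν 0) = Fintype.card F ^ 2 := by
  rw [Nat.card_congr (QuadraticAlgebra.equivProd ν 0), Nat.card_prod, Nat.card_eq_fintype_card, sq]

theorem frob_eq (h2 : (2 : F) ≠ 0) {ν : F} (hν : ¬ IsSquare ν) [Fact (∀ r : F, r ^ 2 ≠ ν + 0 * r)]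
    (x : QuadraticAlgebra F ν 0) : x ^ Fintype.card F = ⟨x.re, -x.im⟩ := by
  classical
  obtain ⟨ω, hω⟩ : ∃ ω : QuadraticAlgebra F ν 0, ω = ⟨0, 1⟩ := ⟨_, rfl⟩
  have hν0 : ν ≠ 0 := fun h => hν ⟨0, by rw [h, mul_zero]⟩
  have hchar : ringChar F ≠ 2 := fun h => h2 (by
    haveI : CharP F 2 := ringChar.of_eq h
    exact_mod_cast CharP.cast_eq_zero F 2)
  have hodd := FiniteField.odd_card_of_char_ne_two hchar
  have hωq : ω ^ Fintype.card F = (-1 : F) • ω := by
    have hww : ω * ω = algebraMap F (QuadraticAlgebra F ν 0) ν := by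
      rw [Algebra.algebraMap_eq_smul_one, hω]
      ext <;> simp
    have he : ν ^ (Fintype.card F / 2) = -1 :=
      (FiniteField.pow_dichotomy hchar hν0).resolve_left fun h => hν ((FiniteField.isSquare_iff hchar hν0).2 h)
    conv_lhs => rw [show Fintype.card F = 2 * (Fintype.card F / 2) + 1 by omega, pow_succ, pow_mul, sq, hww, ← map_pow, he]
    rw [← Algebra.smul_def]
  have hx : x = algebraMap F (QuadraticAlgebra F ν 0) x.re + x.im • ω := by
    rw [Algebra.algebraMap_eq_smul_one, hω]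
    ext <;> simp
  have h := congrArg (FiniteField.frobeniusAlgHom F (QuadraticAlgebra F ν 0)) hx
  rw [map_add, map_smul, AlgHom.commutes] at h
  simp only [FiniteField.frobeniusAlgHom_apply] at h
  rw [h, hωq, Algebra.algebraMap_eq_smul_one, hω]
  ext <;> simp

theorem form_enc (h2 : (2 : F) ≠ 0) {ν : F} (hν : ¬ IsSquare ν) [Fact (∀ r : F, r ^ 2 ≠ ν + 0 * r)]
    (u v : Fin d → QuadraticAlgebra F ν 0) :
    sympForm d F (enc d ν u) (enc d ν v) = (hermForm d (QuadraticAlgebra F ν 0) (Fintype.card F) u v).im := by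
  rw [sympForm_eq, hermForm]
  have : ∀ g : Fin d → QuadraticAlgebra F ν 0, (∑ i, g i).im = ∑ i, (g i).im := fun g =>
    map_sum ({ toFun := fun x => x.im, map_zero' := by simp, map_add' := by simp } :
      QuadraticAlgebra F ν 0 →+ F) g Finset.univ
  rw [this]
  refine Finset.sum_congr rfl fun i _ => ?_
  simp [frob_eq h2 hν, enc]
  ring

/-- The structure centraliser is large. -/
theorem unitaryOrder_dvd (h2 : (2 : F) ≠ 0) (hd : 0 < d)
    {K : Subalgebra F (Matrix (Fin d ⊕ Fin d) (Fin d ⊕ Fin d) F)} {ν : F}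
    {j : Matrix (Fin d ⊕ Fin d) (Fin d ⊕ Fin d) F} (hν : ¬ IsSquare ν) (hjK : j ∈ K) (hj : IsStruct ν j)
    (hspan : ∀ y ∈ K, ∃ a b : F, y = a • 1 + b • j) :
    unitaryOrder (Fintype.card F) d ∣
      Nat.card ((Cfsg.Geo.subalgebraNormalizer K).subgroupOf (Cfsg.spGL d F)) := by
  classical
  haveI : Fact (∀ r : F, r ^ 2 ≠ ν + 0 * r) := ⟨fun r h => hν ⟨r, by rw [← sq, h, zero_mul, add_zero]⟩⟩
  haveI : Module.Finite F (QuadraticAlgebra F ν 0) := inferInstance
  haveI : Finite (QuadraticAlgebra F ν 0) := Module.finite_of_finite F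
  letI := Fintype.ofFinite (QuadraticAlgebra F ν 0)
  obtain ⟨g, hg⟩ := exists_conj h2 hν hj
  have hcard : Fintype.card (QuadraticAlgebra F ν 0) = Fintype.card F ^ 2 := by
    rw [← Nat.card_eq_fintype_card, card_quad]
  rw [← card_gu hcard d]
  obtain ⟨φ, hφ⟩ : ∃ φ : Matrix (Fin d) (Fin d) (QuadraticAlgebra F ν 0) → Matrix (Fin d ⊕ Fin d) (Fin d ⊕ Fin d) F,
      ∀ U u, φ U *ᵥ enc d ν u = enc d ν (U *ᵥ u) :=
    ⟨fun U => LinearMap.toMatrix' ((enc d ν).toLinearMap ∘ₗ (U.mulVecLin.restrictScalars F) ∘ₗ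
      (enc d ν).symm.toLinearMap), fun U u => by
      rw [← Matrix.toLin'_apply (LinearMap.toMatrix' _), Matrix.toLin'_toMatrix']
      simp⟩
  have ext' : ∀ {A B : Matrix (Fin d ⊕ Fin d) (Fin d ⊕ Fin d) F}, (∀ u, A *ᵥ enc d ν u = B *ᵥ enc d ν u) → A = B :=
    fun {A B} h => Matrix.ext_of_mulVec_single fun i => by simpa using h ((enc d ν).symm (Pi.single i 1))
  have hmul : ∀ U V, φ (U * V) = φ U * φ V := fun U V => ext' fun u => by
    rw [← mulVec_mulVec, hφ, hφ, hφ, ← mulVec_mulVec]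
  have hcomm : ∀ U, φ U * stdRoot d ν = stdRoot d ν * φ U := fun U => ext' fun u => by
    rw [← mulVec_mulVec, ← mulVec_mulVec, enc_omega, hφ, hφ, enc_omega, Matrix.mulVec_smul]
  have hsp : ∀ U : GU d (QuadraticAlgebra F ν 0) (Fintype.card F), φ U.1.1 ∈ symplecticGroup (Fin d) F := by
    intro U
    rw [mem_sp_iff]
    intro a b
    obtain ⟨u, rfl⟩ := (enc d ν).surjective a
    obtain ⟨v, rfl⟩ := (enc d ν).surjective b
    rw [hφ, hφ, form_enc h2 hν, form_enc h2 hν]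
    exact congrArg QuadraticAlgebra.im (U.2 u v)
  obtain ⟨Ψ, hΨ⟩ : ∃ Ψ : GU d (QuadraticAlgebra F ν 0) (Fintype.card F) → symplecticGroup (Fin d) F,
      ∀ U, Ψ U = g * ⟨φ U.1.1, hsp U⟩ * g⁻¹ := ⟨_, fun _ => rfl⟩
  have hΨm : ∀ U V, Ψ (U * V) = Ψ U * Ψ V := fun U V => by
    rw [hΨ, hΨ, hΨ, show (⟨φ (U * V).1.1, hsp (U * V)⟩ : symplecticGroup (Fin d) F) = ⟨φ U.1.1, hsp U⟩ * ⟨φ V.1.1, hsp V⟩
      from Subtype.ext (hmul _ _)]
    group
  have hmem : ∀ U, spToSpGL (Ψ U) ∈ (Cfsg.Geo.subalgebraNormalizer K).subgroupOf (Cfsg.spGL d F) := by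
    intro U
    rw [Subgroup.mem_subgroupOf]
    refine mem_normalizer hjK hspan (Or.inl ?_)
    show (Ψ U).1 * j = j * (Ψ U).1
    have hinv : (g⁻¹).1 * g.1 = (1 : Matrix (Fin d ⊕ Fin d) (Fin d ⊕ Fin d) F) := by
      rw [← Submonoid.coe_mul, inv_mul_cancel, Submonoid.coe_one]
    have hinv' : g.1 * (g⁻¹).1 = (1 : Matrix (Fin d ⊕ Fin d) (Fin d ⊕ Fin d) F) := by
      rw [← Submonoid.coe_mul, mul_inv_cancel, Submonoid.coe_one]
    have hj' : j = g.1 * stdRoot d ν * (g⁻¹).1 := by rw [← hg, mul_assoc, hinv', mul_one]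
    rw [hΨ, hj', Submonoid.coe_mul, Submonoid.coe_mul]
    calc g.1 * φ U.1.1 * (g⁻¹).1 * (g.1 * stdRoot d ν * (g⁻¹).1)
        = g.1 * φ U.1.1 * ((g⁻¹).1 * g.1) * stdRoot d ν * (g⁻¹).1 := by simp only [mul_assoc]
      _ = g.1 * (stdRoot d ν * φ U.1.1) * (g⁻¹).1 := by rw [hinv, mul_one, mul_assoc g.1, hcomm]
      _ = g.1 * stdRoot d ν * ((g⁻¹).1 * g.1) * φ U.1.1 * (g⁻¹).1 := by rw [hinv]; simp only [mul_one, mul_assoc]
      _ = _ := by simp only [mul_assoc]
  refine Subgroup.card_dvd_of_injective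
    (MonoidHom.mk' (fun U => (⟨spToSpGL (Ψ U), hmem U⟩ : (Cfsg.Geo.subalgebraNormalizer K).subgroupOf (Cfsg.spGL d F)))
      fun U V => Subtype.ext (by simp only [hΨm, map_mul, Subgroup.coe_mul])) ?_
  intro U V h
  have h1 : (Ψ U).1 = (Ψ V).1 :=
    congrArg (fun x : (Cfsg.Geo.subalgebraNormalizer K).subgroupOf (Cfsg.spGL d F) => x.1.1.1) h
  have h2 := Subtype.ext h1
  rw [hΨ, hΨ, mul_left_inj, mul_right_inj] at h2
  refine Subtype.ext (Units.ext (Matrix.ext_of_mulVec_single fun i => (enc d ν).injective ?_))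
  rw [← hφ, ← hφ]
  exact congrArg (· *ᵥ _) (congrArg Subtype.val h2)

theorem card_spGL : Nat.card (Cfsg.spGL d F) = Nat.card (symplecticGroup (Fin d) F) := by
  refine (Nat.card_eq_of_bijective spToSpGL ⟨fun a b h => ?_, fun x => ?_⟩).symm
  · exact Subtype.ext (congrArg (fun y : Cfsg.spGL d F => y.1.1) h)
  · exact ⟨⟨x.1.1, mem_sp_iff.2 x.2⟩, Subtype.ext (Units.ext rfl)⟩

/-- The index divides the product of the complementary factors. -/
theorem index_dvd (h2 : (2 : F) ≠ 0) (hd : 0 < d)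
    {K : Subalgebra F (Matrix (Fin d ⊕ Fin d) (Fin d ⊕ Fin d) F)} {ν : F}
    {j : Matrix (Fin d ⊕ Fin d) (Fin d ⊕ Fin d) F} (hν : ¬ IsSquare ν) (hjK : j ∈ K) (hj : IsStruct ν j)
    (hspan : ∀ y ∈ K, ∃ a b : F, y = a • 1 + b • j) :
    (Cfsg.Geo.subalgebraNormalizer K).relIndex (Cfsg.spGL d F) ∣ Fintype.card F ^ (d ^ 2) *
      ∏ i ∈ Finset.range d, (if Even i then Fintype.card F ^ (i + 1) - 1 else Fintype.card F ^ (i + 1) + 1) := by
  obtain ⟨q, hq⟩ : ∃ q, q = Fintype.card F := ⟨_, rfl⟩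
  obtain ⟨c, hc⟩ := unitaryOrder_dvd h2 hd hν hjK hj hspan
  have hcard := Subgroup.index_mul_card ((Cfsg.Geo.subalgebraNormalizer K).subgroupOf (Cfsg.spGL d F))
  rw [card_spGL, card_sp, hc] at hcard
  rw [← hq] at hcard hc ⊢
  have hpos : 0 < q := hq ▸ Fintype.card_pos
  have hU : 0 < ∏ i ∈ Finset.range d, (if Even i then q ^ (i + 1) + 1 else q ^ (i + 1) - 1) :=
    Finset.prod_pos fun i _ => by
      have : 2 ≤ q ^ (i + 1) := le_trans (hq ▸ Fintype.one_lt_card) (Nat.le_self_pow (by omega) q)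
      split_ifs <;> omega
  have hfac : ∏ i ∈ Finset.range d, (q ^ (2 * (i + 1)) - 1) =
      (∏ i ∈ Finset.range d, (if Even i then q ^ (i + 1) + 1 else q ^ (i + 1) - 1)) *
        ∏ i ∈ Finset.range d, (if Even i then q ^ (i + 1) - 1 else q ^ (i + 1) + 1) := by
    rw [← Finset.prod_mul_distrib]
    refine Finset.prod_congr rfl fun i _ => ?_
    rw [mul_comm 2, pow_mul, ← one_pow 2, Nat.sq_sub_sq, one_pow]
    split_ifs <;> ring
  refine Dvd.intro (q ^ (d * (d - 1) / 2) * c) (Nat.eq_of_mul_eq_mul_right hU ?_)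
  show Subgroup.index _ * _ * _ = _
  rw [unitaryOrder, hfac] at hcard
  linear_combination hcard

/-- Maps with scalar square are conjugate into the normaliser. -/
theorem invol_mem (h2 : (2 : F) ≠ 0) (hd : 0 < d)
    {K : Subalgebra F (Matrix (Fin d ⊕ Fin d) (Fin d ⊕ Fin d) F)} {ν : F}
    {j : Matrix (Fin d ⊕ Fin d) (Fin d ⊕ Fin d) F} (hν : ¬ IsSquare ν) (hjK : j ∈ K) (hj : IsStruct ν j)
    (hspan : ∀ y ∈ K, ∃ a b : F, y = a • 1 + b • j) (x : GL (Fin d ⊕ Fin d) F) (hx : x ∈ Cfsg.spGL d F) {z : F}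
    (hz : ((x ^ 2 : GL (Fin d ⊕ Fin d) F) : Matrix (Fin d ⊕ Fin d) (Fin d ⊕ Fin d) F) = z • 1) :
    ∃ g ∈ Cfsg.spGL d F, g⁻¹ * x * g ∈ Cfsg.Geo.subalgebraNormalizer K := by
  classical
  haveI : Nonempty (Fin d) := ⟨⟨0, hd⟩⟩
  obtain ⟨t, ht⟩ : ∃ t : symplecticGroup (Fin d) F, t.1 = x.1 := ⟨⟨x.1, mem_sp_iff.2 hx⟩, rfl⟩
  have htt : (t * t).1 = z • 1 := by rw [Submonoid.coe_mul, ht, ← sq, ← Units.val_pow_eq_pow_val, hz]
  have hz1 : z * z = 1 := by
    obtain ⟨w, hw⟩ := exists_sympForm_ne_zero (F := F) (m := d) (v := Pi.single (Sum.inl ⟨0, hd⟩) 1) (by simp)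
    have h := sp_form (t * t) (Pi.single (Sum.inl ⟨0, hd⟩) 1) w
    rw [htt, smul_mulVec, one_mulVec, smul_mulVec, one_mulVec, sympForm_smul_left, sympForm_smul_right, ← mul_assoc] at h
    exact (mul_eq_right₀ hw).1 h
  have key : ∀ (k : symplecticGroup (Fin d) F),
      ((k * t * k⁻¹).1 * stdRoot d ν = stdRoot d ν * (k * t * k⁻¹).1 ∨
        (k * t * k⁻¹).1 * stdRoot d ν = -(stdRoot d ν * (k * t * k⁻¹).1)) →
      ∃ g ∈ Cfsg.spGL d F, g⁻¹ * x * g ∈ Cfsg.Geo.subalgebraNormalizer K := by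
    intro k hk
    obtain ⟨h, hh⟩ := exists_conj h2 hν hj
    refine ⟨(spToSpGL (k⁻¹ * h⁻¹)).1, (spToSpGL (k⁻¹ * h⁻¹)).2, ?_⟩
    have hxe : x = (spToSpGL t).1 := Units.ext ht.symm
    rw [hxe, ← Subgroup.coe_inv, ← map_inv, ← Subgroup.coe_mul, ← Subgroup.coe_mul, ← map_mul, ← map_mul]
    refine mem_normalizer hjK hspan ?_
    obtain ⟨y, hy⟩ : ∃ y, y = k * t * k⁻¹ := ⟨_, rfl⟩
    rw [← hy] at hk
    have he : (k⁻¹ * h⁻¹)⁻¹ * t * (k⁻¹ * h⁻¹) = h * y * h⁻¹ := by rw [hy]; group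
    rw [he]
    show (h * y * h⁻¹).1 * j = j * (h * y * h⁻¹).1 ∨ (h * y * h⁻¹).1 * j = -(j * (h * y * h⁻¹).1)
    have hinv : (h⁻¹).1 * h.1 = (1 : Matrix (Fin d ⊕ Fin d) (Fin d ⊕ Fin d) F) := by
      rw [← Submonoid.coe_mul, inv_mul_cancel, Submonoid.coe_one]
    have hinv' : h.1 * (h⁻¹).1 = (1 : Matrix (Fin d ⊕ Fin d) (Fin d ⊕ Fin d) F) := by
      rw [← Submonoid.coe_mul, mul_inv_cancel, Submonoid.coe_one]
    have hj' : j = h.1 * stdRoot d ν * (h⁻¹).1 := by rw [← hh, mul_assoc, hinv', mul_one]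
    have c1 : (h * y * h⁻¹).1 * j = h.1 * (y.1 * stdRoot d ν) * (h⁻¹).1 := by
      rw [hj', Submonoid.coe_mul, Submonoid.coe_mul]
      calc h.1 * y.1 * (h⁻¹).1 * (h.1 * stdRoot d ν * (h⁻¹).1)
          = h.1 * y.1 * ((h⁻¹).1 * h.1) * stdRoot d ν * (h⁻¹).1 := by simp only [mul_assoc]
        _ = _ := by rw [hinv, mul_one, mul_assoc h.1]
    have c2 : j * (h * y * h⁻¹).1 = h.1 * (stdRoot d ν * y.1) * (h⁻¹).1 := by
      rw [hj', Submonoid.coe_mul, Submonoid.coe_mul]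
      calc h.1 * stdRoot d ν * (h⁻¹).1 * (h.1 * y.1 * (h⁻¹).1)
          = h.1 * stdRoot d ν * ((h⁻¹).1 * h.1) * y.1 * (h⁻¹).1 := by simp only [mul_assoc]
        _ = _ := by rw [hinv, mul_one, mul_assoc h.1]
    rw [c1, c2]
    exact hk.imp (fun e => by rw [e]) (fun e => by rw [e, mul_neg, neg_mul])
  rcases mul_self_eq_one_iff.1 hz1 with rfl | rfl
  · obtain ⟨i, -, k, hk⟩ := exists_conj_spSign h2 t (Subtype.ext (by rw [htt, one_smul]; rfl))
    refine key k (Or.inl ?_)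
    rw [hk]
    refine Matrix.ext_of_mulVec_single fun c => ?_
    rw [← mulVec_mulVec, ← mulVec_mulVec, stdRoot_apply, stdRoot_apply]
    funext a
    rw [spSign_apply]
    rcases a with a | a <;>
      simp only [Sum.elim_inl, Sum.elim_inr, spSign_apply] <;> ring
  · obtain ⟨k, hk⟩ := exists_conj_spJ h2 t (sp_ext fun w => by
      rw [htt, spNegOne_apply, smul_mulVec, one_mulVec, neg_one_smul])
    obtain ⟨y, hyy, hy⟩ : ∃ y : symplecticGroup (Fin d) F, y * y = spNegOne ∧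
        (y.1 * stdRoot d ν = stdRoot d ν * y.1 ∨ y.1 * stdRoot d ν = -(stdRoot d ν * y.1)) := by
      by_cases hs : IsSquare (-1 : F)
      · obtain ⟨e, he⟩ := hs
        have hm : ∀ w, Matrix.fromBlocks (e • (1 : Matrix (Fin d) (Fin d) F)) 0 0 ((-e) • (1 : Matrix (Fin d) (Fin d) F)) *ᵥ w =
            Sum.elim (fun i => e * w (Sum.inl i)) (fun i => -e * w (Sum.inr i)) := by
          intro w
          rw [Matrix.fromBlocks_mulVec]
          funext c
          rcases c with c | c <;> simp [Matrix.smul_mulVec, Matrix.neg_mulVec]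
        refine ⟨⟨Matrix.fromBlocks (e • (1 : Matrix (Fin d) (Fin d) F)) 0 0 ((-e) • (1 : Matrix (Fin d) (Fin d) F)), mem_sp_iff.2 fun u v => ?_⟩, ?_, Or.inr ?_⟩
        · rw [sympForm_eq, sympForm_eq]
          refine Finset.sum_congr rfl fun i _ => ?_
          rw [hm, hm]
          simp only [Sum.elim_inl, Sum.elim_inr]
          linear_combination (u (Sum.inr i) * v (Sum.inl i) - u (Sum.inl i) * v (Sum.inr i)) * he
        · refine sp_ext fun w => ?_
          rw [Submonoid.coe_mul, ← mulVec_mulVec, hm, hm, spNegOne_apply]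
          funext c
          rcases c with c | c <;> simp only [Sum.elim_inl, Sum.elim_inr, Pi.neg_apply] <;>
            linear_combination (-(w _)) * he
        · show Matrix.fromBlocks _ _ _ _ * stdRoot d ν = -(stdRoot d ν * Matrix.fromBlocks _ _ _ _)
          rw [stdRoot, Matrix.fromBlocks_multiply, Matrix.fromBlocks_multiply, Matrix.fromBlocks_neg]
          simp [smul_smul, mul_comm]
      · have hν0 : ν ≠ 0 := fun h => hν ⟨0, by rw [h, mul_zero]⟩
        have hchar : ringChar F ≠ 2 := fun h => h2 (by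
          haveI : CharP F 2 := ringChar.of_eq h
          exact_mod_cast CharP.cast_eq_zero F 2)
        obtain ⟨c, hc⟩ : ∃ c : F, c * c * ν = -1 := by
          have hsq : IsSquare (-1 * ν) := by
            rw [FiniteField.isSquare_iff hchar (mul_ne_zero (neg_ne_zero.2 one_ne_zero) hν0), mul_pow,
              (FiniteField.pow_dichotomy hchar (neg_ne_zero.2 one_ne_zero)).resolve_left
                (fun h => hs ((FiniteField.isSquare_iff hchar (neg_ne_zero.2 one_ne_zero)).2 h)),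
              (FiniteField.pow_dichotomy hchar hν0).resolve_left
                (fun h => hν ((FiniteField.isSquare_iff hchar hν0).2 h)), neg_one_mul, neg_neg]
          obtain ⟨e, he⟩ := hsq
          refine ⟨e / ν, ?_⟩
          field_simp
          linear_combination -he
        obtain ⟨hj1, hj2⟩ := stdRoot_struct (d := d) ν
        refine ⟨⟨c • stdRoot d ν, mem_sp_iff.2 fun u v => ?_⟩, ?_, Or.inl ?_⟩
        · rw [smul_mulVec, smul_mulVec, sympForm_smul_left, sympForm_smul_right, struct_skew ⟨hj1, hj2⟩]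
          linear_combination (-sympForm d F u v) * hc
        · refine sp_ext fun w => ?_
          rw [Submonoid.coe_mul, Matrix.smul_mul, Matrix.mul_smul, hj1, smul_smul, smul_smul, hc, spNegOne_apply,
            smul_mulVec, one_mulVec, neg_one_smul]
        · show c • stdRoot d ν * stdRoot d ν = stdRoot d ν * (c • stdRoot d ν)
          rw [Matrix.smul_mul, Matrix.mul_smul]
    obtain ⟨k', hk'⟩ := exists_conj_spJ h2 y hyy
    refine key (k'⁻¹ * k) ?_
    rw [show k'⁻¹ * k * t * (k'⁻¹ * k)⁻¹ = k'⁻¹ * (k * t * k⁻¹) * k' by group, hk, ← hk',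
      show k'⁻¹ * (k' * y * k'⁻¹) * k' = y by group]
    exact hy

end CfsgLib.Classical22.PrimeMaps.UType
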