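/-
Prime order elements of the symplectic group and subgroups of unitary type.
-/
import Cfsg.Agent.Lib.Classical22.PrimeOrderUnitaryTypeIndex
import Cfsg.Agent.Lib.Classical22.PrimeOrderSympIso
import Cfsg.Agent.Lib.Classical22.PrimeOrderSympWreath
import Mathlib.FieldTheory.Finite.GaloisField

set_option autoImplicit false

namespace CfsgLib.Classical22.PrimeMaps.UType

open Module Polynomial Matrix CfsgLib.Classical Cfsg CfsgLib.Classical22.PrimeMaps.Symp
open scoped MatrixGroups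

universe u

variable {F : Type u} [Field F] [Fintype F] {d : ℕ}

theorem odd_card (h2 : (2 : F) ≠ 0) : Fintype.card F % 2 = 1 :=
  FiniteField.odd_card_of_char_ne_two fun h => h2 (by
    haveI : CharP F 2 := ringChar.of_eq h
    exact_mod_cast CharP.cast_eq_zero F 2)

theorem pow_card_root {R : Type u} [Ring R] [Algebra F R] (h2 : (2 : F) ≠ 0) {ν : F} (hν : ¬ IsSquare ν) {J : R}
    (hJ : J * J = algebraMap F R ν) : ∀ b : ℕ, J ^ (Fintype.card F ^ b) = ((-1 : F) ^ b) • J := by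
  intro b
  have hchar : ringChar F ≠ 2 := fun h => h2 (by
    haveI : CharP F 2 := ringChar.of_eq h
    exact_mod_cast CharP.cast_eq_zero F 2)
  have hodd := odd_card h2
  have hν0 : ν ≠ 0 := fun h => hν ⟨0, by rw [h, mul_zero]⟩
  have he : ν ^ (Fintype.card F / 2) = -1 :=
    (FiniteField.pow_dichotomy hchar hν0).resolve_left fun h => hν ((FiniteField.isSquare_iff hchar hν0).2 h)
  have hq : J ^ Fintype.card F = -J := by
    conv_lhs => rw [show Fintype.card F = 2 * (Fintype.card F / 2) + 1 by omega, pow_succ, pow_mul, sq, hJ, ← map_pow, he]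
    rw [map_neg, map_one, neg_one_mul]
  induction b with
  | zero => simp
  | succ b ih =>
    rw [pow_succ (Fintype.card F) b, pow_mul, ih, _root_.smul_pow, hq, ← pow_mul, mul_comm b, pow_mul,
      (Nat.odd_iff.2 hodd).neg_one_pow, pow_succ, mul_neg_one, smul_neg, neg_smul]

theorem eq_one_of_self_recip {r e : ℕ} [hr : Fact r.Prime] {P : F[X]} (hP : Irreducible P) (hPd : P.natDegree = e)
    (he : Odd e) (hr2 : r ≠ 2) (hPr : P ∣ X ^ r - 1) (hPi : P ∣ P.comp (X ^ (r - 1))) : P ∣ X - 1 := by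
  classical
  haveI : Fact (Irreducible P) := ⟨hP⟩
  haveI : Module.Finite F (AdjoinRoot P) := (AdjoinRoot.powerBasis hP.ne_zero).finite
  haveI : Finite (AdjoinRoot P) := Module.finite_of_finite F
  obtain ⟨α, hα⟩ : ∃ α, α = AdjoinRoot.root P := ⟨_, rfl⟩
  have hrp := hr.out.two_le
  have hαr : α ^ r = 1 := by
    have h := AdjoinRoot.mk_eq_zero.2 hPr
    rwa [map_sub, map_pow, map_one, AdjoinRoot.mk_X, ← hα, sub_eq_zero] at h
  have hz : aeval (α ^ (r - 1)) P = 0 := by
    have h := AdjoinRoot.mk_eq_zero.2 hPi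
    rwa [← AdjoinRoot.aeval_eq, aeval_comp, aeval_X_pow, ← hα] at h
  obtain ⟨σ, hσ⟩ : ∃ σ : AdjoinRoot P →ₐ[F] AdjoinRoot P, σ α = α ^ (r - 1) :=
    ⟨AdjoinRoot.liftAlgHom P (Algebra.ofId F _) (α ^ (r - 1)) hz, by subst hα; exact AdjoinRoot.liftAlgHom_root ..⟩
  have hσσ : σ.comp σ = AlgHom.id F _ := AdjoinRoot.algHom_ext (by
    rw [AlgHom.comp_apply, ← hα, hσ, map_pow, hσ, AlgHom.id_apply, ← pow_mul]
    obtain ⟨s, hs⟩ : ∃ s, r = s + 2 := ⟨r - 2, by omega⟩
    rw [hs] at hαr ⊢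
    rw [show (s + 2 - 1) * (s + 2 - 1) = (s + 2) * s + 1 by rw [show s + 2 - 1 = s + 1 from rfl]; ring, pow_succ,
      pow_mul, hαr, one_pow, one_mul])
  obtain ⟨τ, hτ⟩ : ∃ τ : AdjoinRoot P ≃ₐ[F] AdjoinRoot P, ∀ x, τ x = σ x :=
    ⟨AlgEquiv.ofAlgHom σ σ hσσ hσσ, fun _ => rfl⟩
  have hτ2 : τ ^ 2 = 1 := AlgEquiv.ext fun x => by
    rw [sq, AlgEquiv.mul_apply, hτ, hτ, ← AlgHom.comp_apply, hσσ]
    rfl
  have hcard : Nat.card (AdjoinRoot P ≃ₐ[F] AdjoinRoot P) = e := by
    rw [IsGalois.card_aut_eq_finrank, (AdjoinRoot.powerBasis hP.ne_zero).finrank, AdjoinRoot.powerBasis_dim, hPd]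
  have hτ1 : τ = 1 := by
    have h1 : τ ^ e = 1 := hcard ▸ pow_card_eq_one'
    have h := pow_gcd_eq_one.2 ⟨hτ2, h1⟩
    rwa [show Nat.gcd 2 e = 1 from Nat.Coprime.gcd_eq_one (Nat.coprime_two_left.2 he), pow_one] at h
  have hα2 : α ^ 2 = 1 := by
    have h : α ^ (r - 1) = α := by rw [← hσ, ← hτ, hτ1]; rfl
    rw [← hαr, show r = r - 1 + 1 by omega, pow_succ α (r - 1), h, sq]
  have hα1 : α = 1 := by
    have h := pow_gcd_eq_one.2 ⟨hα2, hαr⟩
    rwa [show Nat.gcd 2 r = 1 from Nat.Coprime.gcd_eq_one ((Nat.coprime_primes Nat.prime_two hr.out).2 (Ne.symm hr2)),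
      pow_one] at h
  rw [← AdjoinRoot.mk_eq_zero, map_sub, map_one, AdjoinRoot.mk_X, ← hα, hα1, sub_self]

/-- No structure commutes with the witness. -/
theorem no_struct {r e : ℕ} [hr : Fact r.Prime] (hr2 : r ≠ 2) (hrF : (r : F) ≠ 0) (h2 : (2 : F) ≠ 0)
    (he : e = orderOf (Fintype.card F : ZMod r)) (he0 : 0 < e) (hcase : Odd e ∨ 4 ∣ e)
    (hc : blockDim e ≤ 2 * d) {f : Module.End F (Fin d ⊕ Fin d → F)} (hf : ∀ v, (f ^ r) v = v)
    (hB : ∀ u v, spBilin d F (f u) (f v) = spBilin d F u v) (hfd : finrank F (fixed f) = 2 * d - blockDim e)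
    {ν : F} (hν : ¬ IsSquare ν) {J : Module.End F (Fin d ⊕ Fin d → F)} (hJJ : ∀ v, J (J v) = ν • v)
    (hJs : ∀ u v, spBilin d F (J u) v = -spBilin d F u (J v)) (hfJ : ∀ v, f (J v) = J (f v)) : False := by
  classical
  obtain ⟨B, hBd⟩ : ∃ B, B = spBilin d F := ⟨_, rfl⟩
  rw [← hBd] at hB hJs
  have hA : B.IsAlt := hBd ▸ spBilin_isAlt
  have hν0 : ν ≠ 0 := fun h => hν ⟨0, by rw [h, mul_zero]⟩
  have hJinj : ∀ v, J v = 0 → v = 0 := fun v hv => by
    have h := hJJ v
    rw [hv, map_zero] at h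
    exact (smul_eq_zero.1 h.symm).resolve_left hν0
  obtain ⟨W, hWdef⟩ : ∃ W, W = LinearMap.range (f - 1) := ⟨_, rfl⟩
  have hWmem : ∀ w, w ∈ W ↔ ∃ u, f u - u = w := fun w => by rw [hWdef]; exact Iff.rfl
  have hWinv : Inv f W := fun w hw => by
    obtain ⟨u, rfl⟩ := (hWmem w).1 hw
    exact (hWmem _).2 ⟨f u, by rw [map_sub]⟩
  have hWJ : ∀ w ∈ W, J w ∈ W := fun w hw => by
    obtain ⟨u, rfl⟩ := (hWmem w).1 hw
    exact (hWmem _).2 ⟨J u, by rw [hfJ, map_sub]⟩
  have horth : ∀ w ∈ W, ∀ y, f y = y → B w y = 0 := fun w hw y hy => by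
    obtain ⟨u, rfl⟩ := (hWmem w).1 hw
    rw [map_sub, LinearMap.sub_apply, ← hB u y, hy, sub_self]
  have hfn : Nd B (fixed f) := by
    have h := fixed_nd hrF hf hB (X := (⊤ : Submodule F (Fin d ⊕ Fin d → F))) (fun _ _ => Submodule.mem_top)
      (hBd ▸ nd_top)
    rwa [top_inf_eq] at h
  have hWfix : ∀ w ∈ W, f w = w → w = 0 := fun w hw hw' =>
    hfn w (mem_fixed.2 hw') fun y hy => horth w hw y (mem_fixed.1 hy)
  have hWd : finrank F W = blockDim e := by
    have h := LinearMap.finrank_range_add_finrank_ker (f - 1)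
    rw [← hWdef, show LinearMap.ker (f - 1) = fixed f from rfl, hfd, finrank_std] at h
    omega
  have hsup : W ⊔ fixed f = ⊤ := by
    refine Submodule.eq_top_of_finrank_eq ?_
    have h := Submodule.finrank_sup_add_finrank_inf_eq W (fixed f)
    rw [show W ⊓ fixed f = ⊥ from eq_bot_iff.2 fun w hw => (Submodule.mem_bot F).2 (hWfix w hw.1 (mem_fixed.1 hw.2)),
      finrank_bot, add_zero, hWd, hfd] at h
    rw [h, finrank_std]
    omega
  have hWn : Nd B W := fun u hu h => by
    subst hBd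
    refine sympForm_nondeg fun v => ?_
    rw [← spBilin_apply]
    obtain ⟨a, ha, b, hb, rfl⟩ := Submodule.mem_sup.1 (hsup ▸ (Submodule.mem_top : v ∈ ⊤))
    rw [map_add, h a ha, horth u hu b (mem_fixed.1 hb), add_zero]
  obtain ⟨S, hS, hSW, hS0, hSm⟩ := exists_simple f hWinv fun h => by
    rw [h, finrank_bot] at hWd
    have := blockDim_pos he0
    omega
  have hSd : finrank F S = e :=
    he ▸ simple_dim_order f hf hS hS0 hSm hrF fun w hw => hWfix w (hSW hw)
  obtain ⟨P, hP, hPr, hPd, hPS⟩ := simple_minpoly f hS hS0 hSm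
    (A := X ^ r - 1) (by simpa using X_pow_sub_C_ne_zero hr.out.pos (1 : F)) (fun w _ => by simp [hf])
  rw [hSd] at hPd
  obtain ⟨s, hs, hs0⟩ := S.exists_mem_ne_zero_of_ne_bot hS0
  have hcomm : ∀ (a : F[X]) v, aeval f a (J v) = J (aeval f a v) := fun a => by
    induction a using Polynomial.induction_on with
    | C c => intro v; simp
    | add a b ha hb => intro v; simp [ha, hb]
    | monomial n c ih =>
      intro v
      rw [show Polynomial.C c * X ^ (n + 1) = (Polynomial.C c * X ^ n) * X by ring, map_mul _ _ X, aeval_X,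
        Module.End.mul_apply, hfJ, ih, Module.End.mul_apply]
  have hJS : ∀ w ∈ S, J w ∈ S := by
    rcases Nat.even_or_odd e with hev | hod
    · have hSW' : S = W := Submodule.eq_of_le_of_finrank_eq hSW (by rw [hSd, hWd, blockDim, if_pos hev])
      rw [hSW']; exact hWJ
    obtain ⟨S', hS'def⟩ : ∃ S', S' = S.map J := ⟨_, rfl⟩
    have hS'd : finrank F S' = e := by
      rw [hS'def, (Submodule.equivMapOfInjective J (fun a b h => sub_eq_zero.1 (hJinj _ (by rw [map_sub, h, sub_self])))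
        S).symm.finrank_eq, hSd]
    by_contra hcon
    have hne : S ⊓ S' = ⊥ := by
      by_contra hne
      have hi : Inv f (S ⊓ S') := fun w hw => ⟨hS w hw.1, by
        obtain ⟨u, hu, rfl⟩ := hS'def ▸ hw.2
        rw [hfJ, hS'def]; exact ⟨f u, hS u hu, rfl⟩⟩
      have heq := Submodule.eq_of_le_of_finrank_eq (inf_eq_left.1 (hSm _ hi inf_le_left hne) : S ≤ S') (by rw [hSd, hS'd])
      exact hcon fun w hw => by rw [heq, hS'def]; exact Submodule.mem_map_of_mem hw
    have hS'W : S' ≤ W := by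
      rw [hS'def]; rintro _ ⟨u, hu, rfl⟩; exact hWJ u (hSW hu)
    have hSS : S ⊔ S' = W := by
      refine Submodule.eq_of_le_of_finrank_eq (sup_le hSW hS'W) ?_
      have h := Submodule.finrank_sup_add_finrank_inf_eq S S'
      rw [hne, finrank_bot, add_zero, hSd, hS'd] at h
      rw [h, hWd, blockDim, if_neg (Nat.not_even_iff_odd.2 hod)]
      omega
    have hPW : ∀ w ∈ W, aeval f P w = 0 := fun w hw => by
      obtain ⟨a, ha, b, hb, rfl⟩ := Submodule.mem_sup.1 (hSS.ge hw)
      rw [hS'def] at hb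
      obtain ⟨c, hc', rfl⟩ := hb
      rw [map_add, hPS a ha, hcomm, hPS c hc', map_zero, add_zero]
    have hP' : ∀ w ∈ W, aeval (f ^ (r - 1)) P w = 0 := fun w hw => by
      have hmem : aeval (f ^ (r - 1)) P w ∈ W := inv_aeval (pow_inv hWinv (r - 1)) P w hw
      refine hWn _ hmem fun x hx => ?_
      rw [← LinearMap.IsAlt.neg hA, ← adjoint hr.out.pos hf hB, hPW x hx, map_zero, LinearMap.zero_apply, neg_zero]
    have hPi : P ∣ P.comp (X ^ (r - 1)) := by
      by_contra hnd
      obtain ⟨u, v, huv⟩ := (hP.coprime_iff_not_dvd).2 hnd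
      have h := congrArg (fun g : F[X] => aeval f g s) huv
      simp only [map_add, map_mul, map_one, LinearMap.add_apply, Module.End.mul_apply, Module.End.one_apply,
        hPS s hs, aeval_comp, aeval_X_pow, hP' s (hSW hs), map_zero, add_zero] at h
      exact hs0 h.symm
    obtain ⟨Q, hQ⟩ := eq_one_of_self_recip (r := r) hP hPd hod hr2 hPr hPi
    have h := congrArg (fun g : F[X] => aeval f g s) hQ
    rw [mul_comm] at h
    simp only [map_sub, aeval_X, map_one, LinearMap.sub_apply, Module.End.one_apply, map_mul, Module.End.mul_apply,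
      hPS s hs, map_zero] at h
    exact hs0 (hWfix s (hSW hs) (sub_eq_zero.1 h))
  obtain ⟨Z, hZ⟩ : ∃ Z : Submodule F (Fin d ⊕ Fin d → F), ∀ z, z ∈ Z ↔ ∃ a : F[X], aeval f a s = z :=
    ⟨LinearMap.range ((LinearMap.applyₗ s).comp (aeval f : F[X] →ₐ[F] _).toLinearMap), fun z => Iff.rfl⟩
  have hZS : Z = S := hSm _ (fun z hz => by
      obtain ⟨a, rfl⟩ := (hZ z).1 hz
      exact (hZ _).2 ⟨X * a, by rw [map_mul, aeval_X, Module.End.mul_apply]⟩)
    (fun z hz => by obtain ⟨a, rfl⟩ := (hZ z).1 hz; exact inv_aeval hS a s hs)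
    fun h => hs0 ((Submodule.mem_bot F).1 (h ▸ (hZ s).2 ⟨1, by rw [map_one, Module.End.one_apply]⟩))
  obtain ⟨g, hg⟩ := (hZ (J s)).1 (hZS.ge (hJS s hs))
  have hgJ : ∀ x ∈ S, aeval f g x = J x := fun x hx => by
    obtain ⟨a, rfl⟩ := (hZ x).1 (hZS.ge hx)
    rw [← hcomm, ← hg, ← Module.End.mul_apply, ← map_mul, mul_comm, map_mul, Module.End.mul_apply]
  have hpowJ : ∀ n : ℕ, ∀ x ∈ S, (J ^ n) x = aeval f (g ^ n) x := fun n => by
    induction n with
    | zero => intro x _; simp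
    | succ n ih =>
      intro x hx
      rw [pow_succ' J, Module.End.mul_apply, ih x hx, ← hgJ _ (inv_aeval hS _ x hx), pow_succ' g, map_mul,
        Module.End.mul_apply]
  have hJJ' : J * J = algebraMap F (Module.End F (Fin d ⊕ Fin d → F)) ν := LinearMap.ext fun v => by
    rw [Module.End.mul_apply, hJJ, Module.algebraMap_end_apply]
  have hend : ∀ x, J x = -J x → x = 0 := fun x hx => hJinj x (by
    have h : (2 : F) • J x = 0 := by rw [two_smul, ← eq_neg_iff_add_eq_zero]; exact hx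
    exact (smul_eq_zero.1 h).resolve_left h2)
  rcases Nat.even_or_odd e with hev | hod
  · obtain ⟨m, hm⟩ : ∃ m, e = m + m := hev
    have hmev : Even m := by
      rcases hcase with h | ⟨k, hk⟩
      · exact absurd h (Nat.not_odd_iff_even.2 ⟨m, hm⟩)
      · exact ⟨k, by omega⟩
    have hfh := pow_half hf he hm (by omega)
    have hgr : ∀ x ∈ S, aeval (f ^ (r - 1)) g x = J x := fun x hx => by
      rw [← hfh, aeval_pow_card, ← hpowJ _ x hx, pow_card_root h2 hν hJJ' m, hmev.neg_one_pow, one_smul]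
    have hSW' : S = W := Submodule.eq_of_le_of_finrank_eq hSW (by rw [hSd, hWd, blockDim, if_pos ⟨m, hm⟩])
    refine hs0 (hJinj _ (hWn _ (hWJ s (hSW hs)) fun y hy => ?_))
    have h1 := adjoint hr.out.pos hf hB g s y
    rw [hgJ s hs, hgr y (hSW'.ge hy)] at h1
    have h3 : (2 : F) * B (J s) y = 0 := by linear_combination h1 + hJs s y
    exact (mul_eq_zero.1 h3).resolve_left h2
  · have hfe : f ^ (Fintype.card F ^ e) = f := by
      have h1 : ((Fintype.card F ^ e : ℕ) : ZMod r) = ((1 : ℕ) : ZMod r) := by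
        rw [Nat.cast_pow, he, pow_orderOf_eq_one, Nat.cast_one]
      rw [ZMod.natCast_eq_natCast_iff', Nat.mod_eq_of_lt hr.out.one_lt] at h1
      rw [← Nat.div_add_mod (Fintype.card F ^ e) r, h1, pow_add, pow_mul,
        show f ^ r = 1 from LinearMap.ext hf, one_pow, one_mul, pow_one]
    refine hs0 (hend s ?_)
    have h1 := hpowJ (Fintype.card F ^ e) s hs
    rw [← aeval_pow_card, hfe, hgJ s hs, pow_card_root h2 hν hJJ' e, hod.neg_one_pow, LinearMap.smul_apply,
      neg_one_smul] at h1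
    exact h1.symm

/-- Transvections commute with no structure. -/
theorem transv_no_struct (hd : 0 < d) {ν : F} (hν : ¬ IsSquare ν)
    {j : Matrix (Fin d ⊕ Fin d) (Fin d ⊕ Fin d) F} (hj : j * j = ν • 1) {v : Fin d ⊕ Fin d → F} (hv : v ≠ 0) :
    (spT v 1).1 * j ≠ j * (spT v 1).1 := by
  intro h
  obtain ⟨u, hu⟩ := exists_sympForm_ne_zero hv
  have hu' : sympForm d F u v ≠ 0 := by rwa [sympForm_swap, neg_ne_zero]
  have h1 := congrArg (· *ᵥ u) h
  simp only [← mulVec_mulVec, spT_apply, Matrix.mulVec_add, Matrix.mulVec_smul, one_mul, add_right_inj] at h1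
  have hjv : j *ᵥ v = (sympForm d F (j *ᵥ u) v / sympForm d F u v) • v := by
    rw [div_eq_inv_mul, mul_smul, h1, inv_smul_smul₀ hu']
  have h2 := congrArg (j *ᵥ ·) hjv
  simp only [mulVec_mulVec, hj, smul_mulVec, one_mulVec, Matrix.mulVec_smul] at h2
  rw [hjv, smul_smul] at h2
  exact hν ⟨_, smul_left_injective F hv h2⟩

/-- The classification. -/
theorem main {p q r : ℕ} [Fact p.Prime] [CharP F p] [hr : Fact r.Prime] (hq : Fintype.card F = q) (hodd : Odd q)
    (hd : 0 < d) {K : Subalgebra F (Matrix (Fin d ⊕ Fin d) (Fin d ⊕ Fin d) F)}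
    (hK : Cfsg.Geo.IsFieldSubalgebra 2 K) (hKf : Cfsg.Geo.IsAdjointClosedFor (Cfsg.sympForm d F) K)
    (hKns : ¬ Cfsg.Geo.IsSelfAdjointFor (Cfsg.sympForm d F) K)
    (hΩ : r ∣ (Cfsg.Geo.subalgebraNormalizer K).relIndex (Cfsg.spGL d F)) :
    (∀ x ∈ Cfsg.spGL d F, (∃ z : F, ((x ^ r : GL (Fin d ⊕ Fin d) F) : Matrix (Fin d ⊕ Fin d) (Fin d ⊕ Fin d) F) =
        z • (1 : Matrix (Fin d ⊕ Fin d) (Fin d ⊕ Fin d) F)) →
      (∀ z : F, (x : Matrix (Fin d ⊕ Fin d) (Fin d ⊕ Fin d) F) ≠ z • (1 : Matrix (Fin d ⊕ Fin d) (Fin d ⊕ Fin d) F)) →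
      ∃ g ∈ Cfsg.spGL d F, g⁻¹ * x * g ∈ Cfsg.Geo.subalgebraNormalizer K) ↔ r = 2 := by
  classical
  subst hq
  have h2 : (2 : F) ≠ 0 := fun h => by
    haveI : CharP F 2 := CharTwo.of_one_ne_zero_of_two_eq_zero one_ne_zero h
    have := FiniteField.even_card_of_char_two (ringChar.eq F 2)
    rw [Nat.odd_iff] at hodd
    omega
  obtain ⟨ν, j, hν, hjK, hj, hspan⟩ := exists_gen h2 hd hK hKf hKns
  constructor
  · intro h
    by_contra hr2
    obtain ⟨t, htr, hts⟩ : ∃ t : symplecticGroup (Fin d) F, t ^ r = 1 ∧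
        ∀ j', IsStruct ν j' → t.1 * j' ≠ j' * t.1 := by
      by_cases hrp : r = p
      · obtain ⟨v, hv⟩ : ∃ v : Fin d ⊕ Fin d → F, v ≠ 0 := ⟨Pi.single (Sum.inl ⟨0, hd⟩) 1, by simp⟩
        refine ⟨spT v 1, ?_, fun j' hj' => transv_no_struct hd hν hj'.1 hv⟩
        have : ∀ n : ℕ, spT v (1 : F) ^ n = spT v (n : F) := by
          intro n
          induction n with
          | zero => simp [spT_zero]
          | succ n ih => rw [pow_succ, ih, spT_mul, Nat.cast_succ]
        rw [this, hrp, CharP.cast_eq_zero F p, spT_zero]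
      have hrF : (r : F) ≠ 0 := by
        rw [Ne, CharP.cast_eq_zero_iff F p]
        exact fun h => hrp ((Nat.prime_dvd_prime_iff_eq Fact.out hr.out).1 h).symm
      obtain ⟨a, hp, ha⟩ := FiniteField.card F p
      have hrq : ¬ r ∣ Fintype.card F := fun h => hrp ((Nat.prime_dvd_prime_iff_eq hr.out hp).1
        (hr.out.dvd_of_dvd_pow (ha ▸ h)))
      have hQ0 : (Fintype.card F : ZMod r) ≠ 0 := by rwa [Ne, ZMod.natCast_eq_zero_iff]
      obtain ⟨e, he⟩ : ∃ e, e = orderOf (Fintype.card F : ZMod r) := ⟨_, rfl⟩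
      have he0 : 0 < e := he ▸ orderOf_pos_iff.2
        (isOfFinOrder_iff_pow_eq_one.2 ⟨r - 1, by have := hr.out.two_le; omega, ZMod.pow_card_sub_one_eq_one hQ0⟩)
      have hcard : r ∣ Nat.card (symplecticGroup (Fin d) F) := by
        rw [← card_spGL]
        exact hΩ.trans (Subgroup.index_dvd_card _)
      have hc := (blockDim_le hrF hcard).1
      rw [← he] at hc
      by_cases hcase : Odd e ∨ 4 ∣ e
      · obtain ⟨f, hf, hB, hfd, -⟩ := exists_element (d := d) hrF (he ▸ he0) (l := 1) (by rw [← he, mul_one]; exact hc)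
        rw [← he, mul_one] at hfd
        refine ⟨⟨LinearMap.toMatrix' f, mem_sp_iff.2 fun u v => ?_⟩, Subtype.ext ?_, fun j' hj' hcom => ?_⟩
        · rw [← Matrix.toLin'_apply (LinearMap.toMatrix' f), ← Matrix.toLin'_apply (LinearMap.toMatrix' f),
            Matrix.toLin'_toMatrix']
          exact hB u v
        · rw [SubmonoidClass.coe_pow]
          show LinearMap.toMatrix' f ^ r = 1
          rw [show LinearMap.toMatrix' f = LinearMap.toMatrixAlgEquiv' f from rfl, ← map_pow,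
            show f ^ r = 1 from LinearMap.ext hf, map_one]
        · refine no_struct hr2 hrF h2 he he0 hcase hc hf hB hfd hν (J := Matrix.toLin' j') (fun v => ?_) (fun u v => ?_)
            fun v => ?_
          · rw [Matrix.toLin'_apply, Matrix.toLin'_apply, mulVec_mulVec, hj'.1, smul_mulVec, one_mulVec]
          · rw [spBilin_apply, spBilin_apply, Matrix.toLin'_apply, Matrix.toLin'_apply, hj'.2]
          · have h1 := congrArg (· *ᵥ v) hcom
            simp only [← mulVec_mulVec] at h1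
            rw [← Matrix.toLin'_apply (LinearMap.toMatrix' f), ← Matrix.toLin'_apply (LinearMap.toMatrix' f),
              Matrix.toLin'_toMatrix'] at h1
            simpa using h1
      · exfalso
        rw [not_or, Nat.not_odd_iff_even] at hcase
        obtain ⟨b, hb⟩ := hcase.1
        have hbo : Odd b := by
          rcases Nat.even_or_odd b with ⟨c, hc⟩ | h
          · exact absurd ⟨c, by omega⟩ hcase.2
          · exact h
        have hQb : (Fintype.card F : ZMod r) ^ b = -1 := by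
          have h2' : ((Fintype.card F : ZMod r) ^ b) ^ 2 = 1 := by
            rw [← pow_mul, show b * 2 = e by omega, he, pow_orderOf_eq_one]
          rcases sq_eq_one_iff.1 h2' with h | h
          · have := Nat.le_of_dvd (by omega) (orderOf_dvd_of_pow_eq_one h)
            omega
          · exact h
        rcases (hr.out.dvd_mul).1 (hΩ.trans (index_dvd h2 hd hν hjK hj hspan)) with h | h
        · exact hrq (hr.out.dvd_of_dvd_pow h)
        obtain ⟨i, -, hi⟩ := hr.out.prime.exists_mem_finset_dvd h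
        rw [← ZMod.natCast_eq_zero_iff] at hi
        rcases Nat.even_or_odd i with hie | hio
        · rw [if_pos hie, Nat.cast_sub (Nat.one_le_pow _ _ Fintype.card_pos), Nat.cast_pow, Nat.cast_one,
            sub_eq_zero] at hi
          have := orderOf_dvd_of_pow_eq_one hi
          rw [← he, hb, ← two_mul] at this
          exact Nat.not_even_iff_odd.2 hie.add_one (even_iff_two_dvd.2 ((dvd_mul_right 2 b).trans this))
        · rw [if_neg (Nat.not_even_iff_odd.2 hio), Nat.cast_add, Nat.cast_pow, Nat.cast_one,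
            ← eq_neg_iff_add_eq_zero] at hi
          have h1 : (Fintype.card F : ZMod r) ^ (2 * (i + 1)) = 1 := by
            rw [mul_comm, pow_mul, hi, neg_one_sq]
          have := orderOf_dvd_of_pow_eq_one h1
          rw [← he, hb, ← two_mul, Nat.mul_dvd_mul_iff_left (by norm_num)] at this
          obtain ⟨c, hc⟩ := this
          have hcev : Even c := by
            have := hio.add_one
            rw [hc, Nat.even_mul] at this
            exact this.resolve_left (Nat.not_even_iff_odd.2 hbo)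
          rw [hc, pow_mul, hQb, hcev.neg_one_pow, eq_neg_iff_add_eq_zero, one_add_one_eq_two] at hi
          have hi' : ((2 : ℕ) : ZMod r) = 0 := hi
          rw [ZMod.natCast_eq_zero_iff] at hi'
          exact hr2 ((Nat.prime_dvd_prime_iff_eq hr.out Nat.prime_two).1 hi')
    obtain ⟨x, hx⟩ : ∃ x : GL (Fin d ⊕ Fin d) F, x = (spToSpGL t).1 := ⟨_, rfl⟩
    have hxr : ((x ^ r : GL (Fin d ⊕ Fin d) F) : Matrix (Fin d ⊕ Fin d) (Fin d ⊕ Fin d) F) = (1 : F) • 1 := by
      rw [hx, ← SubgroupClass.coe_pow, ← map_pow, htr, map_one, one_smul]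
      rfl
    have hxs : ∀ z : F, (x : Matrix (Fin d ⊕ Fin d) (Fin d ⊕ Fin d) F) ≠ z • 1 := fun z hz => by
      refine hts (stdRoot d ν) (stdRoot_struct ν) ?_
      rw [show t.1 = x.1 by rw [hx]; rfl, hz, Matrix.smul_mul, Matrix.mul_smul, one_mul, mul_one]
    obtain ⟨g, hg, hgx⟩ := h x (hx ▸ (spToSpGL t).2) ⟨1, hxr⟩ hxs
    have hpow : ((g⁻¹ * x * g) ^ r : GL (Fin d ⊕ Fin d) F).1 = (1 : F) • (1 : Matrix (Fin d ⊕ Fin d) (Fin d ⊕ Fin d) F) := by
      have : (g⁻¹ * x * g) ^ r = g⁻¹ * x ^ r * g := by simpa using conj_pow (i := r) (a := g⁻¹) (b := x)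
      rw [this, Units.val_mul, Units.val_mul, hxr, one_smul, mul_one, g.inv_mul]
    have hcom := commute_of_odd h2 hd hK hjK hj.1 hν ((hr.out.odd_of_ne_two hr2)) hgx hpow
    refine hts (g.1 * j * (g⁻¹).1) (struct_conj hj hg g.inv_mul g.mul_inv) ?_
    rw [show t.1 = x.1 by rw [hx]; rfl]
    rw [Units.val_mul, Units.val_mul] at hcom
    calc x.1 * (g.1 * j * (g⁻¹).1) = g.1 * ((g⁻¹).1 * x.1 * g.1 * j) * (g⁻¹).1 := by
          simp only [← mul_assoc, g.mul_inv, one_mul]
      _ = g.1 * j * (g⁻¹).1 * x.1 := by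
          rw [hcom]; simp only [mul_assoc, g.mul_inv, mul_one]
  · rintro rfl
    rintro x hx ⟨z, hz⟩ -
    exact invol_mem h2 hd hν hjK hj hspan x hx hz

end CfsgLib.Classical22.PrimeMaps.UType
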