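/-
Field subalgebras of matrices and the elements normalising them.
-/
import Cfsg.Prelude.Def_GeometricClasses
import Mathlib.FieldTheory.Finite.GaloisField
import Mathlib.LinearAlgebra.Matrix.Rank

set_option autoImplicit false

namespace CfsgLib.Classical22.PrimeMaps.FType

open Module Matrix

universe u

variable {F : Type u} [Field F] {ι : Type} [Fintype ι] [DecidableEq ι] {k : ℕ}
  {K : Subalgebra F (Matrix ι ι F)}

theorem no_zero_div (hK : Cfsg.Geo.IsFieldSubalgebra k K) {x y : Matrix ι ι F} (hx : x ∈ K) (hxy : x * y = 0)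
    (hx0 : x ≠ 0) : y = 0 := by
  obtain ⟨z, hz, hxz⟩ := hK.inv x hx hx0
  rw [hK.comm x hx z hz] at hxz
  rw [← one_mul y, ← hxz, mul_assoc, hxy, mul_zero]

/-- An element of the field killing a non-zero vector is zero. -/
theorem eq_zero_of_kill (hK : Cfsg.Geo.IsFieldSubalgebra k K) {x : Matrix ι ι F} (hx : x ∈ K) {v : ι → F}
    (hv : v ≠ 0) (h : x *ᵥ v = 0) : x = 0 := by
  by_contra hx0
  obtain ⟨z, hz, hxz⟩ := hK.inv x hx hx0
  rw [hK.comm x hx z hz] at hxz
  refine hv ?_
  rw [← Matrix.one_mulVec v, ← hxz, ← Matrix.mulVec_mulVec, h, Matrix.mulVec_zero]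

theorem isFieldK [Nonempty ι] (hK : Cfsg.Geo.IsFieldSubalgebra k K) : IsField K where
  exists_pair_ne := ⟨1, 0, fun h => one_ne_zero (α := Matrix ι ι F) (congrArg Subtype.val h)⟩
  mul_comm x y := Subtype.ext (hK.comm _ x.2 _ y.2)
  mul_inv_cancel {x} hx := by
    obtain ⟨y, hy, hxy⟩ := hK.inv _ x.2 fun h => hx (Subtype.ext h)
    exact ⟨⟨y, hy⟩, Subtype.ext hxy⟩

theorem exists_nonscalar [Nonempty ι] (hK : Cfsg.Geo.IsFieldSubalgebra k K) (hk : 2 ≤ k) :
    ∃ a ∈ K, ∀ c : F, a ≠ c • 1 := by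
  by_contra! h
  have h1 : Module.finrank F K ≤ 1 := finrank_le_one (⟨1, K.one_mem⟩ : K) fun w => by
    obtain ⟨a, ha⟩ := h w w.2
    exact ⟨a, Subtype.ext (by simp [ha])⟩
  rw [hK.finrank_eq] at h1
  omega

/-- An element fixed by two coprime powers of Frobenius is a scalar. -/
theorem scalar_of_fixed [Fintype F] [Nonempty ι] (hK : Cfsg.Geo.IsFieldSubalgebra k K) (hk : k.Prime) {b : ℕ}
    (hkb : ¬ k ∣ b) {a : Matrix ι ι F} (ha : a ∈ K) (hab : a ^ (Fintype.card F ^ b) = a) :
    ∃ c : F, a = c • 1 := by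
  classical
  letI : Field K := (isFieldK hK).toField
  haveI : Module.Finite F K := Module.finite_of_finrank_eq_succ (n := k - 1) (by
    rw [hK.finrank_eq]; have := hk.pos; omega)
  haveI : Finite K := Module.finite_of_finite F
  letI := Fintype.ofFinite K
  obtain ⟨A, hA⟩ : ∃ A : K, (A : Matrix ι ι F) = a := ⟨⟨a, ha⟩, rfl⟩
  obtain ⟨q, hq⟩ : ∃ q, q = Fintype.card F := ⟨_, rfl⟩
  have hit : ∀ n, (fun x : K => x ^ q)^[n] A = A ^ q ^ n := fun n => by
    induction n with
    | zero => simp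
    | succ n ih => rw [Function.iterate_succ_apply', ih, ← pow_mul, ← pow_succ]
  have hb : Function.IsPeriodicPt (fun x : K => x ^ q) b A := by
    show _ = _
    rw [hit]
    exact Subtype.ext (by rw [Subalgebra.coe_pow, hA, hq, hab])
  have hk' : Function.IsPeriodicPt (fun x : K => x ^ q) k A := by
    show _ = _
    rw [hit, hq, ← hK.finrank_eq, ← Module.card_eq_pow_finrank, FiniteField.pow_card]
  have h1 := Function.IsPeriodicPt.gcd hb hk'
  rw [Nat.Coprime.gcd_eq_one ((hk.coprime_iff_not_dvd.2 hkb).symm)] at h1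
  have hAq : A ^ Fintype.card F = A := by
    have h2 : (fun x : K => x ^ q)^[1] A = A := h1
    rwa [hit, pow_one, hq] at h2
  by_contra! hne
  have hcard : Fintype.card F < Fintype.card F + 1 := by omega
  obtain ⟨p, hp⟩ : ∃ p : Polynomial K, p = Polynomial.X ^ Fintype.card F - Polynomial.X := ⟨_, rfl⟩
  have hq1 : 1 < Fintype.card F := Fintype.one_lt_card
  have hp0 : p ≠ 0 := hp ▸ FiniteField.X_pow_card_sub_X_ne_zero K hq1
  have hdeg : p.natDegree = Fintype.card F := hp ▸ FiniteField.X_pow_card_sub_X_natDegree_eq K hq1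
  have hroots : ∀ x ∈ insert A (Finset.univ.image (algebraMap F K)), x ∈ p.roots.toFinset := by
    intro x hx
    rw [Multiset.mem_toFinset, Polynomial.mem_roots hp0]
    rcases Finset.mem_insert.1 hx with rfl | hx
    · simp [hp, hAq]
    · obtain ⟨c, -, rfl⟩ := Finset.mem_image.1 hx
      simp [hp, ← map_pow, FiniteField.pow_card]
  have hle := (Finset.card_le_card hroots).trans ((Multiset.toFinset_card_le _).trans (Polynomial.card_roots' p))
  rw [hdeg, Finset.card_insert_of_notMem (fun hm => ?_),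
    Finset.card_image_of_injective _ (algebraMap F K).injective, Finset.card_univ] at hle
  · omega
  · obtain ⟨c, -, hc⟩ := Finset.mem_image.1 hm
    refine hne c ?_
    rw [← hA, ← hc, Subalgebra.coe_algebraMap, Algebra.algebraMap_eq_smul_one]

/-- Elements of small rank minus identity normalise only by centralising. -/
theorem commute_of_rank (hK : Cfsg.Geo.IsFieldSubalgebra k K) {g : GL ι F}
    (hg : g ∈ Cfsg.Geo.subalgebraNormalizer K) (hR : 2 * ((g : Matrix ι ι F) - 1).rank < Fintype.card ι)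
    {a : Matrix ι ι F} (ha : a ∈ K) : (g : Matrix ι ι F) * a = a * g.1 := by
  obtain ⟨a', ha'd⟩ : ∃ a', a' = g.1 * a * (g⁻¹ : GL ι F).1 := ⟨_, rfl⟩
  have ha' : a' ∈ K := ha'd ▸ (hg a).1 ha
  have hga : g.1 * a = a' * g.1 := by rw [ha'd, mul_assoc _ _ g.1, g.inv_mul, mul_one]
  suffices h : a' - a = 0 by rw [hga, sub_eq_zero.1 h]
  by_contra h0
  obtain ⟨y, -, hy⟩ := hK.inv _ (K.sub_mem ha' ha) h0
  have hu : IsUnit ((a' - a) * g.1) := ((IsUnit.of_mul_eq_one y hy).mul g.isUnit)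
  have he : (a' - a) * g.1 = (g.1 - 1) * a - a * (g.1 - 1) := by
    rw [sub_mul, ← hga]; noncomm_ring
  have h1 := Matrix.rank_of_isUnit _ hu
  have h2 : ((g.1 - 1) * a - a * (g.1 - 1)).rank ≤ (g.1 - 1).rank + (g.1 - 1).rank := by
    refine le_trans ?_ (add_le_add (Matrix.rank_mul_le_left (g.1 - 1) a) (Matrix.rank_mul_le_right a (g.1 - 1)))
    simp only [Matrix.rank]
    refine le_trans (Submodule.finrank_mono (t := LinearMap.range ((g.1 - 1) * a).mulVecLin ⊔
      LinearMap.range (a * (g.1 - 1)).mulVecLin) ?_) (Submodule.finrank_add_le_finrank_add_finrank _ _)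
    rintro _ ⟨x, rfl⟩
    rw [Matrix.mulVecLin_apply, Matrix.sub_mulVec]
    exact Submodule.sub_mem _ (Submodule.mem_sup_left ⟨x, rfl⟩) (Submodule.mem_sup_right ⟨x, rfl⟩)
  rw [← he, h1] at h2
  omega

/-- Elements of prime order different from the degree normalise only by centralising. -/
theorem commute_of_order [Fintype F] [Nonempty ι] (hK : Cfsg.Geo.IsFieldSubalgebra k K) (hk : k.Prime) {r : ℕ}
    (hr : r.Prime) (hrk : r ≠ k) {g : GL ι F} (hg : g ∈ Cfsg.Geo.subalgebraNormalizer K) (hgr : g ^ r = 1)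
    {a : Matrix ι ι F} (ha : a ∈ K) : (g : Matrix ι ι F) * a = a * g.1 := by
  classical
  letI : Field K := (isFieldK hK).toField
  haveI : Module.Finite F K := Module.finite_of_finrank_eq_succ (n := k - 1) (by
    rw [hK.finrank_eq]; have := hk.pos; omega)
  haveI : Finite K := Module.finite_of_finite F
  obtain ⟨σ, hσ⟩ : ∃ σ : K →ₐ[F] K, ∀ x : K, (σ x : Matrix ι ι F) = g.1 * x.1 * (g⁻¹ : GL ι F).1 :=
    ⟨{ toFun := fun x => ⟨g.1 * x.1 * (g⁻¹ : GL ι F).1, (hg x.1).1 x.2⟩
       map_one' := Subtype.ext (by simp)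
       map_mul' := fun x y => Subtype.ext (by
         simp only [Subalgebra.coe_mul, ← mul_assoc]
         rw [mul_assoc (g.1 * x.1) (g⁻¹ : GL ι F).1 g.1, g.inv_mul, mul_one])
       map_zero' := Subtype.ext (by simp)
       map_add' := fun x y => Subtype.ext (by simp [mul_add, add_mul])
       commutes' := fun c => Subtype.ext (by
         simp [Algebra.algebraMap_eq_smul_one]) }, fun x => rfl⟩
  obtain ⟨τ, hτ⟩ : ∃ τ : K ≃ₐ[F] K, ∀ x, τ x = σ x :=
    ⟨AlgEquiv.ofBijective σ (Finite.injective_iff_bijective.1 (RingHom.injective (σ : K →+* K))), fun _ => rfl⟩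
  have hpow : ∀ (n : ℕ) (x : K), ((τ ^ n) x : Matrix ι ι F) = (g ^ n).1 * x.1 * ((g ^ n)⁻¹ : GL ι F).1 := by
    intro n
    induction n with
    | zero => intro x; simp
    | succ n ih =>
      intro x
      rw [pow_succ, AlgEquiv.mul_apply, ih, hτ, hσ, pow_succ, _root_.mul_inv_rev, Units.val_mul, Units.val_mul]
      simp only [mul_assoc]
  have hτr : τ ^ r = 1 := AlgEquiv.ext fun x => Subtype.ext (by
    rw [hpow, hgr, inv_one, Units.val_one, one_mul, mul_one]; rfl)
  have hcard : Nat.card (K ≃ₐ[F] K) = k := by rw [IsGalois.card_aut_eq_finrank, hK.finrank_eq]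
  have hτ1 : τ = 1 := by
    have h1 : τ ^ k = 1 := hcard ▸ pow_card_eq_one'
    have h := pow_gcd_eq_one.2 ⟨hτr, h1⟩
    rwa [Nat.Coprime.gcd_eq_one ((Nat.coprime_primes hr hk).2 hrk), pow_one] at h
  have h := hσ ⟨a, ha⟩
  rw [← hτ, hτ1] at h
  change a = g.1 * a * (g⁻¹ : GL ι F).1 at h
  calc g.1 * a = g.1 * a * ((g⁻¹ : GL ι F).1 * g.1) := by rw [g.inv_mul, mul_one]
    _ = a * g.1 := by rw [← mul_assoc, ← h]

end CfsgLib.Classical22.PrimeMaps.FType
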