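/-
Every linear map with scalar square permutes the members of some decomposition into equal-dimensional summands.
-/
import Mathlib
import Cfsg.Prelude.Def_GeometricClasses

set_option autoImplicit false

namespace CfsgLib.Classical22.InvolDecomp

/-- An involution of `A × Fin a` moving `2 k` points and permuting the fibres over `A`. -/
def Good (A : Type) (a k : ℕ) : Prop :=
  ∃ σ : Equiv.Perm (A × Fin a), (∀ x, σ (σ x) = x) ∧ Nat.card {x // σ x ≠ x} = 2 * k ∧
    ∃ τ : Equiv.Perm A, ∀ x, (σ x).1 = τ x.1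

theorem good_congr {A B : Type} {a k : ℕ} (e : A ≃ B) (h : Good A a k) : Good B a k := by
  obtain ⟨σ, h1, h2, τ, h3⟩ := h
  obtain ⟨E, hE⟩ : ∃ E : A × Fin a ≃ B × Fin a, ∀ x, (E x).1 = e x.1 :=
    ⟨e.prodCongr (Equiv.refl (Fin a)), fun x => rfl⟩
  refine ⟨(E.symm.trans σ).trans E, fun x => by simp [h1], ?_, (e.symm.trans τ).trans e, fun x => ?_⟩
  · rw [← h2]
    refine Nat.card_congr (E.symm.subtypeEquiv fun x => ?_)
    obtain ⟨y, rfl⟩ := E.surjective x
    simp
  · obtain ⟨y, rfl⟩ := E.surjective x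
    simp [hE, h3]

theorem good_sum {A B : Type} [Finite A] [Finite B] {a k l : ℕ} (h : Good A a k) (h' : Good B a l) :
    Good (A ⊕ B) a (k + l) := by
  obtain ⟨σ, h1, h2, τ, h3⟩ := h
  obtain ⟨σ', h1', h2', τ', h3'⟩ := h'
  let E := Equiv.sumProdDistrib A B (Fin a)
  refine ⟨(E.trans (Equiv.sumCongr σ σ')).trans E.symm, fun x => ?_, ?_, Equiv.sumCongr τ τ', ?_⟩
  · obtain ⟨y, rfl⟩ := E.symm.surjective x
    rcases y with y | y <;> simp [h1, h1']
  · rw [Nat.mul_add, ← h2, ← h2', ← Nat.card_sum]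
    refine Nat.card_congr ((E.subtypeEquiv (q := fun y => Equiv.sumCongr σ σ' y ≠ y) fun x => ?_).trans ?_)
    · obtain ⟨y, rfl⟩ := E.symm.surjective x
      simp
    · refine (Equiv.subtypeSum).trans (Equiv.sumCongr (Equiv.subtypeEquivRight fun x => ?_)
        (Equiv.subtypeEquivRight fun x => ?_)) <;> simp
  · rintro ⟨x | x, i⟩ <;> simp [E, h3, h3']

theorem good_bool (a : ℕ) : Good Bool a a := by
  refine ⟨Function.Involutive.toPerm (fun x : Bool × Fin a => (!x.1, x.2)) fun x => Prod.ext (Bool.not_not _) rfl,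
    fun x => Prod.ext (Bool.not_not _) rfl, ?_, Function.Involutive.toPerm (fun b => !b) (fun b => by simp), fun x => rfl⟩
  rw [Nat.card_congr (Equiv.subtypeUnivEquiv fun x => ?_), Nat.card_prod]
  · simp
  · intro h
    have h' := congrArg Prod.fst h
    revert h'
    rcases x with ⟨b, i⟩
    cases b <;> exact Bool.noConfusion

theorem good_one {a k : ℕ} (h : 2 * k ≤ a) : Good Unit a k := by
  let f : Fin a → Fin a := fun i =>
    if hi : i.val < 2 * k then ⟨if i.val % 2 = 0 then i.val + 1 else i.val - 1, by split <;> omega⟩ else i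
  have hf : Function.Involutive f := fun i => by
    by_cases hi : i.val < 2 * k
    · have h1 : (f i).val = if i.val % 2 = 0 then i.val + 1 else i.val - 1 := by simp [f, dif_pos hi]
      have hlt : (f i).val < 2 * k := by rw [h1]; split <;> omega
      have h2 : (f (f i)).val = if (f i).val % 2 = 0 then (f i).val + 1 else (f i).val - 1 := by
        simp only [f] at hlt ⊢
        simp only [dif_pos hi] at hlt ⊢
        rw [dif_pos hlt]
      refine Fin.ext ?_
      rw [h2, h1]
      split_ifs <;> omega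
    · simp [f, dif_neg hi]
  refine ⟨(Equiv.refl Unit).prodCongr hf.toPerm, fun x => Prod.ext rfl (hf x.2), ?_, Equiv.refl Unit, fun x => rfl⟩
  rw [show 2 * k = Nat.card (Fin (2 * k)) by simp]
  refine Nat.card_congr ⟨fun x => ⟨x.1.2.val, ?_⟩, fun i => ⟨((), ⟨i.val, by omega⟩), ?_⟩, fun x => ?_, fun i => rfl⟩
  · have hx := x.2
    by_contra hi
    apply hx
    refine Prod.ext rfl ?_
    change f x.1.2 = x.1.2
    simp [f, dif_neg hi]
  · simp only [ne_eq, Equiv.prodCongr_apply, Prod.map, Prod.mk.injEq, not_and]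
    intro _ he
    have := congrArg Fin.val he
    simp [f, dif_pos i.2] at this
    split at this <;> omega
  · rfl

theorem good_fin {a : ℕ} : ∀ t k : ℕ, 2 * k ≤ t * a → Good (Fin t) a k
  | 0, k, h => ⟨1, fun x => rfl, by simp; omega, 1, fun x => rfl⟩
  | 1, k, h => good_congr finOneEquiv.symm (good_one (by omega))
  | t + 2, k, h => by
    rw [show (t + 2) * a = t * a + 2 * a by ring] at h
    rcases le_or_gt a k with hk | hk
    · rw [show k = a + (k - a) by omega]
      exact good_congr ((Equiv.sumCongr finTwoEquiv.symm (Equiv.refl (Fin t))).trans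
        (finSumFinEquiv.trans (finCongr (by omega)))) (good_sum (good_bool a) (good_fin t (k - a) (by omega)))
    · rw [show k = min k (a / 2) + (k - min k (a / 2)) by omega]
      refine good_congr ((Equiv.sumCongr finOneEquiv.symm (Equiv.refl (Fin (t + 1)))).trans
        (finSumFinEquiv.trans (finCongr (by omega)))) (good_sum (good_one (by omega)) (good_fin (t + 1) _ ?_))
      rw [show (t + 1) * a = t * a + a by ring]
      omega

theorem perm_conj {α : Type*} [Finite α] {s u : Equiv.Perm α} (hs : ∀ x, s (s x) = x) (hu : ∀ x, u (u x) = x)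
    (h : Nat.card {x // s x ≠ x} = Nat.card {x // u x ≠ x}) : ∃ c : Equiv.Perm α, ∀ x, c (s x) = u (c x) := by
  classical
  haveI := Fintype.ofFinite α
  have key : ∀ v : Equiv.Perm α, (∀ x, v (v x) = x) →
      v.cycleType = Multiset.replicate (v.cycleType.card) 2 ∧ 2 * v.cycleType.card = Nat.card {x // v x ≠ x} := by
    intro v hv
    have h2 : ∀ c ∈ v.cycleType, c = 2 := fun c hc => by
      have hd : c ∣ 2 := (Equiv.Perm.dvd_of_mem_cycleType hc).trans
        (orderOf_dvd_of_pow_eq_one (Equiv.ext fun x => by rw [pow_two]; exact hv x))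
      have := Equiv.Perm.two_le_of_mem_cycleType hc
      have := Nat.le_of_dvd two_pos hd
      omega
    refine ⟨Multiset.eq_replicate_card.2 h2, ?_⟩
    have hs' := v.sum_cycleType
    rw [Multiset.eq_replicate_card.2 h2, Multiset.sum_replicate, smul_eq_mul] at hs'
    rw [Nat.card_eq_fintype_card, Fintype.card_subtype, mul_comm, hs']
    rfl
  obtain ⟨a1, a2⟩ := key s hs
  obtain ⟨b1, b2⟩ := key u hu
  have hc : IsConj s u := Equiv.Perm.isConj_iff_cycleType_eq.2 (by
    rw [a1, b1, show s.cycleType.card = u.cycleType.card by omega])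
  obtain ⟨c, hc⟩ := isConj_iff.1 hc
  exact ⟨c, fun x => by rw [← hc]; simp⟩

section Linear

variable {F V : Type*} [Field F] [AddCommGroup V] [Module F V]

/-- `f` acts on some basis as a scaled involution of the basis. -/
def Monomial (f : V →ₗ[F] V) : Prop :=
  ∃ (ι : Type) (_ : Finite ι) (b : Module.Basis ι F V) (σ : Equiv.Perm ι) (c : ι → F),
    (∀ i, σ (σ i) = i) ∧ ∀ i, f (b i) = c i • b (σ i)

variable [FiniteDimensional F V]

theorem nonsquare_basis {f : V →ₗ[F] V} {z : F} (hf : ∀ v, f (f v) = z • v) (hz : ∀ s : F, s ^ 2 ≠ z) :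
    ∃ (k : ℕ) (b : Module.Basis (Fin k ⊕ Fin k) F V),
      ∀ i, f (b (.inl i)) = b (.inr i) ∧ f (b (.inr i)) = z • b (.inl i) := by
  classical
  let good : Set ℕ := {k | ∃ c : Fin k → V, LinearIndependent F (Sum.elim c (f ∘ c))}
  have hbdd : ∀ k ∈ good, k ≤ Module.finrank F V := by
    rintro k ⟨c, hc⟩
    have := hc.fintype_card_le_finrank
    simp at this
    omega
  obtain ⟨k, ⟨c, hc⟩, hmax⟩ : ∃ k ∈ good, ∀ l ∈ good, l ≤ k := by
    have hne : good.Nonempty := ⟨0, Fin.elim0, linearIndependent_empty_type⟩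
    have hfin : good.Finite := Set.Finite.subset (Set.finite_Iic (Module.finrank F V)) hbdd
    obtain ⟨k, hk, hk'⟩ := hfin.exists_maximal hne
    exact ⟨k, hk, fun l hl => (le_total l k).elim id fun h => hk' hl h⟩
  obtain ⟨W, hW⟩ : ∃ W, W = Submodule.span F (Set.range (Sum.elim c (f ∘ c))) := ⟨_, rfl⟩
  have hfW : ∀ v ∈ W, f v ∈ W := by
    intro v hv
    rw [hW] at hv ⊢
    induction hv using Submodule.span_induction with
    | mem x hx =>
      obtain ⟨i | i, rfl⟩ := hx
      · exact Submodule.subset_span ⟨.inr i, rfl⟩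
      · simp only [Sum.elim_inr, Function.comp_apply, hf]
        exact Submodule.smul_mem _ _ (Submodule.subset_span ⟨.inl i, rfl⟩)
    | zero => simp
    | add x y _ _ hx hy => rw [map_add]; exact Submodule.add_mem _ hx hy
    | smul r x _ hx => rw [map_smul]; exact Submodule.smul_mem _ _ hx
  have hspan : ∀ v, v ∈ W := by
    intro v
    by_contra hv
    have hpair : ∀ a b : F, a • v + b • f v ∈ W → a = 0 ∧ b = 0 := by
      intro a b hab
      have h1 := hfW _ hab
      rw [map_add, map_smul, map_smul, hf, smul_smul] at h1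
      have h2 : (a * a - b * (b * z)) • v ∈ W := by
        have := W.sub_mem (W.smul_mem a hab) (W.smul_mem b h1)
        convert this using 1
        rw [smul_add, smul_add, smul_smul, smul_smul, smul_smul, smul_smul, sub_smul, mul_comm b a]
        abel
      by_contra hne
      have h0 : a * a - b * (b * z) = 0 := by
        by_contra h0
        exact hv (by simpa [h0] using W.smul_mem (a * a - b * (b * z))⁻¹ h2)
      rcases eq_or_ne b 0 with rfl | hb
      · exact hne ⟨mul_self_eq_zero.1 (by simpa using h0), rfl⟩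
      · exact hz (a / b) (by field_simp; linear_combination h0)
    have hk1 : k + 1 ∈ good := by
      refine ⟨Fin.snoc c v, ?_⟩
      let e : (Fin k ⊕ Fin k) ⊕ Fin 2 ≃ Fin (k + 1) ⊕ Fin (k + 1) :=
        { toFun := fun x => match x with
            | .inl (.inl i) => .inl i.castSucc
            | .inl (.inr i) => .inr i.castSucc
            | .inr j => if j = 0 then .inl (Fin.last k) else .inr (Fin.last k)
          invFun := fun x => match x with
            | .inl i => Fin.lastCases (motive := fun _ => (Fin k ⊕ Fin k) ⊕ Fin 2) (.inr 0) (fun i => .inl (.inl i)) i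
            | .inr i => Fin.lastCases (motive := fun _ => (Fin k ⊕ Fin k) ⊕ Fin 2) (.inr 1) (fun i => .inl (.inr i)) i
          left_inv := fun x => by
            rcases x with (i | i) | j
            · simp
            · simp
            · fin_cases j <;> simp
          right_inv := fun x => by
            rcases x with i | i <;> induction i using Fin.lastCases <;> simp }
      rw [← linearIndependent_equiv e]
      refine linearIndependent_sum.2 ⟨?_, ?_, ?_⟩
      · have heq : (Sum.elim (Fin.snoc c v) (f ∘ Fin.snoc c v) ∘ e) ∘ Sum.inl = Sum.elim c (f ∘ c) := by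
          funext x
          rcases x with i | i <;> simp [e]
        rw [heq]
        exact hc
      · rw [Fintype.linearIndependent_iff]
        intro g hg
        simp [Fin.sum_univ_two, e] at hg
        obtain ⟨h0, h1⟩ := hpair (g 0) (g 1) (by rw [hg]; exact W.zero_mem)
        intro j; fin_cases j <;> assumption
      · rw [Submodule.disjoint_def]
        intro x hx hx'
        rw [Submodule.mem_span_range_iff_exists_fun] at hx'
        obtain ⟨g, rfl⟩ := hx'
        have hxW : ∑ j, g j • ((Sum.elim (Fin.snoc c v) (f ∘ Fin.snoc c v) ∘ e) ∘ Sum.inr) j ∈ W := by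
          refine hW ▸ Submodule.span_mono ?_ hx
          rintro _ ⟨i | i, rfl⟩
          · exact ⟨.inl i, by simp [e]⟩
          · exact ⟨.inr i, by simp [e]⟩
        simp [Fin.sum_univ_two, e] at hxW ⊢
        obtain ⟨h0, h1⟩ := hpair _ _ hxW
        simp [h0, h1]
    exact absurd (hmax _ hk1) (by omega)
  exact ⟨k, Module.Basis.mk hc (fun v _ => by rw [← hW]; exact hspan v), fun i => by simp [hf]⟩

theorem monomial_nonsquare {f : V →ₗ[F] V} {z : F} (hf : ∀ v, f (f v) = z • v) (hz : ∀ s : F, s ^ 2 ≠ z) :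
    Monomial f := by
  obtain ⟨k, b, hb⟩ := nonsquare_basis hf hz
  refine ⟨Fin k ⊕ Fin k, inferInstance, b, Equiv.sumComm _ _, Sum.elim (fun _ => 1) (fun _ => z),
    fun i => by rcases i with i | i <;> rfl, fun i => ?_⟩
  rcases i with i | i <;> simp [(hb i).1, (hb i).2]

theorem monomial_diag (h2 : (2 : F) ≠ 0) {f : V →ₗ[F] V} {s : F} (hs : s ≠ 0)
    (hf : ∀ v, f (f v) = (s ^ 2) • v) : Monomial f := by
  classical
  obtain ⟨P, hP⟩ : ∃ P : F → Submodule F V, P = fun r => LinearMap.ker (f - r • LinearMap.id) := ⟨_, rfl⟩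
  have hmem : ∀ r v, v ∈ P r ↔ f v = r • v := fun r v => by rw [hP]; simp [sub_eq_zero]
  have hc : IsCompl (P s) (P (-s)) := by
    refine ⟨Submodule.disjoint_def.2 fun v hv hv' => ?_, codisjoint_iff.2 (eq_top_iff.2 fun v _ => ?_)⟩
    · rw [hmem] at hv hv'
      have : (2 * s) • v = 0 := by
        rw [two_mul, add_smul, ← hv]
        nth_rewrite 1 [hv']
        rw [hv, neg_smul, neg_add_cancel]
      exact (smul_eq_zero.1 this).resolve_left (mul_ne_zero h2 hs)
    · rw [Submodule.mem_sup]
      refine ⟨(2 * s)⁻¹ • (s • v + f v), ?_, (2 * s)⁻¹ • (s • v - f v), ?_, ?_⟩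
      · rw [hmem, map_smul, map_add, map_smul, hf, smul_comm s, smul_add, smul_add, smul_add, smul_smul s s, pow_two]
        abel
      · rw [hmem, map_smul, map_sub, map_smul, hf, neg_smul, smul_comm s, smul_sub, smul_sub, smul_sub,
          smul_smul s s, pow_two]
        abel
      · rw [← smul_add, add_add_sub_cancel, ← add_smul, ← two_mul, smul_smul, inv_mul_cancel₀ (mul_ne_zero h2 hs),
          one_smul]
  let b := ((Module.finBasis F (P s)).prod (Module.finBasis F (P (-s)))).map (Submodule.prodEquivOfIsCompl _ _ hc)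
  refine ⟨_, inferInstance, b, Equiv.refl _, Sum.elim (fun _ => s) (fun _ => -s), fun i => rfl, fun i => ?_⟩
  rcases i with i | i
  · simpa [b] using (hmem s _).1 (Module.finBasis F (P s) i).2
  · simpa [b] using (hmem (-s) _).1 (Module.finBasis F (P (-s)) i).2

theorem monomial_char_two (h2 : (2 : F) = 0) {f : V →ₗ[F] V} {s : F} (hs : s ≠ 0)
    (hf : ∀ v, f (f v) = (s ^ 2) • v) : Monomial f := by
  classical
  obtain ⟨N, hN⟩ : ∃ N : V →ₗ[F] V, N = f - s • LinearMap.id := ⟨_, rfl⟩
  have hfv : ∀ v, f v = s • v + N v := fun v => by rw [hN]; simp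
  have hNN : ∀ v, N (N v) = 0 := fun v => by
    have h := hf v
    rw [hfv (f v), hfv v, map_add, map_smul, smul_add, smul_smul, ← pow_two] at h
    have h22 : s • N v + s • N v = 0 := by rw [← two_smul F, smul_smul, h2, zero_mul, zero_smul]
    calc N (N v) = (s ^ 2) • v + s • N v + (s • N v + N (N v)) - (s • N v + s • N v) - (s ^ 2) • v := by abel
      _ = 0 := by rw [h, h22]; abel
  obtain ⟨C, hC⟩ := (LinearMap.ker N).exists_isCompl
  have hinj : Function.Injective (N.domRestrict C) := by
    rw [← LinearMap.ker_eq_bot, LinearMap.ker_eq_bot']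
    intro x hx
    exact Subtype.ext ((Submodule.disjoint_def.1 hC.disjoint) x.1 (LinearMap.mem_ker.2 hx) x.2)
  obtain ⟨R, hRle⟩ : ∃ R : Submodule F V, R = LinearMap.range (N.domRestrict C) := ⟨_, rfl⟩
  have hRk : R ≤ LinearMap.ker N := by
    rw [hRle]; rintro _ ⟨x, rfl⟩; exact LinearMap.mem_ker.2 (hNN _)
  obtain ⟨D, hD⟩ := (R.comap (LinearMap.ker N).subtype).exists_isCompl
  let bC := Module.finBasis F C
  let bD := Module.finBasis F D
  let v : (Fin (Module.finrank F C) ⊕ Fin (Module.finrank F C)) ⊕ Fin (Module.finrank F D) → V :=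
    Sum.elim (Sum.elim (fun i => (bC i : V)) (fun i => f (bC i))) (fun j => ((bD j : LinearMap.ker N) : V))
  have hv : LinearIndependent F v := by
    rw [Fintype.linearIndependent_iff]
    intro g hg
    simp only [Fintype.sum_sum_type, v, Sum.elim_inl, Sum.elim_inr] at hg
    obtain ⟨x, hx⟩ : ∃ x : C, x = ∑ i, g (.inl (.inl i)) • bC i := ⟨_, rfl⟩
    obtain ⟨y, hy⟩ : ∃ y : C, y = ∑ i, g (.inl (.inr i)) • bC i := ⟨_, rfl⟩
    obtain ⟨d, hd⟩ : ∃ d : D, d = ∑ j, g (.inr j) • bD j := ⟨_, rfl⟩
    have hsum : (x : V) + f y + ((d : LinearMap.ker N) : V) = 0 := by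
      rw [hx, hy, hd]; simp [map_sum, hg]
    have hxy : (x : V) + s • (y : V) = 0 := by
      refine Submodule.disjoint_def.1 hC.disjoint _ ?_ (C.add_mem x.2 (C.smul_mem s y.2))
      rw [hfv] at hsum
      rw [show (x : V) + s • (y : V) = -(N y + ((d : LinearMap.ker N) : V)) by
        rw [eq_neg_iff_add_eq_zero, ← hsum]; abel]
      exact Submodule.neg_mem _ (Submodule.add_mem _ (LinearMap.mem_ker.2 (hNN _)) (d : LinearMap.ker N).2)
    have hNd : N y + ((d : LinearMap.ker N) : V) = 0 := by
      rw [hfv] at hsum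
      calc N y + ((d : LinearMap.ker N) : V) = (x : V) + (s • (y : V) + N y) + ((d : LinearMap.ker N) : V) -
          ((x : V) + s • (y : V)) := by abel
        _ = 0 := by rw [hsum, hxy, sub_zero]
    have hd0 : (d : LinearMap.ker N) = 0 := by
      refine Submodule.disjoint_def.1 hD.disjoint _ ?_ d.2
      rw [Submodule.mem_comap, hRle]
      refine ⟨-y, ?_⟩
      rw [map_neg, LinearMap.domRestrict_apply, Submodule.subtype_apply]
      exact (eq_neg_of_add_eq_zero_right hNd).symm
    have hy0 : y = 0 := hinj (by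
      rw [map_zero, LinearMap.domRestrict_apply]
      simpa [hd0] using hNd)
    have hx0 : x = 0 := Subtype.ext (by simpa [hy0] using hxy)
    have gx := Fintype.linearIndependent_iff.1 bC.linearIndependent _ (hx.symm.trans hx0)
    have gy := Fintype.linearIndependent_iff.1 bC.linearIndependent _ (hy.symm.trans hy0)
    have gd := Fintype.linearIndependent_iff.1 bD.linearIndependent _ (hd.symm.trans (Subtype.ext hd0))
    rintro ((i | i) | j)
    exacts [gx i, gy i, gd j]
  have hspan : ⊤ ≤ Submodule.span F (Set.range v) := by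
    intro w _
    have hCs : ∀ x : C, (x : V) ∈ Submodule.span F (Set.range v) ∧ f x ∈ Submodule.span F (Set.range v) := by
      intro x
      rw [← bC.sum_repr x]
      constructor <;> simp only [Submodule.coe_sum, Submodule.coe_smul, map_sum, map_smul] <;>
        refine Submodule.sum_mem _ fun i _ => Submodule.smul_mem _ _ (Submodule.subset_span ?_)
      exacts [⟨.inl (.inl i), rfl⟩, ⟨.inl (.inr i), rfl⟩]
    have hDs : ∀ x : D, ((x : LinearMap.ker N) : V) ∈ Submodule.span F (Set.range v) := by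
      intro x
      rw [← bD.sum_repr x]
      simp only [Submodule.coe_sum, Submodule.coe_smul]
      exact Submodule.sum_mem _ fun i _ => Submodule.smul_mem _ _ (Submodule.subset_span ⟨.inr i, rfl⟩)
    obtain ⟨k, hk, c, hc', rfl⟩ := Submodule.mem_sup.1 (hC.sup_eq_top ▸ Submodule.mem_top (x := w))
    obtain ⟨r, hr, d, hd, hrd⟩ := Submodule.mem_sup.1 (hD.sup_eq_top ▸ Submodule.mem_top (x := (⟨k, hk⟩ : LinearMap.ker N)))
    rw [Submodule.mem_comap, hRle] at hr
    obtain ⟨y, hy⟩ := hr
    refine Submodule.add_mem _ ?_ (hCs ⟨c, hc'⟩).1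
    rw [show k = (r : V) + (d : V) from congrArg Subtype.val hrd.symm]
    refine Submodule.add_mem _ ?_ (hDs ⟨d, hd⟩)
    rw [Submodule.subtype_apply] at hy
    rw [← hy, LinearMap.domRestrict_apply, show N y = f y - s • (y : V) by rw [hfv]; abel]
    exact Submodule.sub_mem _ (hCs y).2 (Submodule.smul_mem _ _ (hCs y).1)
  refine ⟨_, inferInstance, Module.Basis.mk hv hspan,
    Equiv.sumCongr (Equiv.sumComm _ _) (Equiv.refl _),
    Sum.elim (Sum.elim (fun _ => 1) (fun _ => s ^ 2)) (fun _ => s),
    fun i => by rcases i with (i | i) | j <;> rfl, fun i => ?_⟩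
  rcases i with (i | i) | j <;> simp [v, hf]
  rw [hfv, LinearMap.mem_ker.1 (bD j : LinearMap.ker N).2, add_zero]

theorem monomial_of_sq {f : V →ₗ[F] V} {z : F} (hz0 : z ≠ 0) (hf : ∀ v, f (f v) = z • v) : Monomial f := by
  by_cases hsq : ∃ s : F, s ^ 2 = z
  · obtain ⟨s, rfl⟩ := hsq
    have hs : s ≠ 0 := fun h => hz0 (by rw [h]; ring)
    by_cases h2 : (2 : F) = 0
    · exact monomial_char_two h2 hs hf
    · exact monomial_diag h2 hs hf
  · push_neg at hsq
    exact monomial_nonsquare hf hsq

theorem exists_blocks {f : V →ₗ[F] V} (hf : Monomial f) (hinj : Function.Injective f) {a t : ℕ}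
    (hn : Module.finrank F V = t * a) :
    ∃ b : Module.Basis (Fin t × Fin a) F V, ∃ τ : Equiv.Perm (Fin t), ∀ j,
      (Submodule.span F (b '' {x | x.1 = j})).map f = Submodule.span F (b '' {x | x.1 = τ j}) := by
  classical
  obtain ⟨ι, _, b, σ, c, hσ, hb⟩ := hf
  haveI := Fintype.ofFinite ι
  have hcard : Fintype.card ι = t * a := by rw [← Module.finrank_eq_card_basis b, hn]
  let e₀ : ι ≃ Fin t × Fin a := Fintype.equivOfCardEq (by simp [hcard])
  obtain ⟨u, hu⟩ : ∃ u : Equiv.Perm (Fin t × Fin a), u = (e₀.symm.trans σ).trans e₀ := ⟨_, rfl⟩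
  have hu2 : ∀ x, u (u x) = x := fun x => by rw [hu]; simp [hσ]
  obtain ⟨m, hm⟩ : ∃ m, Nat.card {x // u x ≠ x} = 2 * m := by
    refine ⟨u.cycleType.card, ?_⟩
    have h := u.sum_cycleType
    have h2 : ∀ c ∈ u.cycleType, c = 2 := fun c hc => by
      have hd : c ∣ 2 := (Equiv.Perm.dvd_of_mem_cycleType hc).trans
        (orderOf_dvd_of_pow_eq_one (Equiv.ext fun x => by rw [pow_two]; exact hu2 x))
      have := Equiv.Perm.two_le_of_mem_cycleType hc
      have := Nat.le_of_dvd two_pos hd
      omega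
    rw [Multiset.eq_replicate_card.2 h2, Multiset.sum_replicate, smul_eq_mul] at h
    rw [Nat.card_eq_fintype_card, Fintype.card_subtype, mul_comm, h]
    rfl
  obtain ⟨s, hs1, hs2, τ, hτ⟩ := good_fin (a := a) t m (by
    rw [← hm]
    exact (Finite.card_subtype_le _).trans (by simp))
  obtain ⟨g, hg⟩ := perm_conj hu2 hs1 (hm.trans hs2.symm)
  refine ⟨b.reindex (e₀.trans g), τ, fun j => ?_⟩
  have himg : ∀ x, f (b.reindex (e₀.trans g) x) = c ((e₀.trans g).symm x) • b.reindex (e₀.trans g) (s x) := by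
    intro x
    obtain ⟨i, rfl⟩ := (e₀.trans g).surjective x
    have h := hg (e₀ i)
    rw [hu] at h
    simp only [Equiv.trans_apply, Equiv.symm_apply_apply] at h
    simp [hb, ← h]
  have hc0 : ∀ i, c i ≠ 0 := fun i h => b.ne_zero i (hinj (by rw [hb, h, zero_smul, map_zero]))
  rw [Submodule.map_span, Set.image_image]
  refine le_antisymm (Submodule.span_le.2 ?_) (Submodule.span_le.2 ?_)
  · rintro _ ⟨x, hx, rfl⟩
    simp only [himg]
    refine Submodule.smul_mem _ _ (Submodule.subset_span ⟨s x, ?_, rfl⟩)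
    rw [Set.mem_setOf_eq, hτ]
    exact congrArg τ hx
  · rintro _ ⟨x, hx, rfl⟩
    have h := himg (s x)
    rw [hs1] at h
    rw [show b.reindex (e₀.trans g) x = (c ((e₀.trans g).symm (s x)))⁻¹ • f (b.reindex (e₀.trans g) (s x)) by
      rw [h, smul_smul, inv_mul_cancel₀ (hc0 _), one_smul]]
    refine Submodule.smul_mem _ _ (Submodule.subset_span ⟨s x, ?_, rfl⟩)
    have := hτ (s x)
    rw [hs1] at this
    exact τ.injective (this.symm.trans hx)

end Linear

theorem main {F : Type*} [Field F] {n a t : ℕ} (hat : n = a * t) (ha : 1 ≤ a) (ht : 2 ≤ t)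
    (x : Matrix.SpecialLinearGroup (Fin n) F)
    (hx : ∃ z : F, ((x ^ 2 : Matrix.SpecialLinearGroup (Fin n) F) : Matrix (Fin n) (Fin n) F) =
      z • (1 : Matrix (Fin n) (Fin n) F)) :
    ∃ D : Fin t → Submodule F (Fin n → F), Cfsg.Geo.IsMDecomposition a D ∧
      ∃ σ : Equiv.Perm (Fin t), ∀ j, (D j).map (Matrix.toLin' (x : Matrix (Fin n) (Fin n) F)) = D (σ j) := by
  classical
  obtain ⟨z, hz⟩ := hx
  obtain ⟨f, hfd⟩ : ∃ f, f = Matrix.toLin' (x : Matrix (Fin n) (Fin n) F) := ⟨_, rfl⟩
  rw [← hfd]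
  have hf : ∀ v, f (f v) = z • v := fun v => by
    rw [hfd, ← LinearMap.comp_apply, ← Matrix.toLin'_mul]
    rw [Matrix.SpecialLinearGroup.coe_pow, pow_two] at hz
    rw [hz]
    simp
  have hinj : Function.Injective f := by
    rw [hfd]
    exact Matrix.mulVec_injective_iff_isUnit.2 ((Matrix.isUnit_iff_isUnit_det _).2 (by simp))
  have hn0 : 0 < n := by rw [hat]; exact Nat.mul_pos (by omega) (by omega)
  have hz0 : z ≠ 0 := fun h => by
    have h1 : (Pi.single ⟨0, hn0⟩ 1 : Fin n → F) = 0 := hinj (hinj (by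
      rw [hf, h, zero_smul, map_zero, map_zero]))
    simpa using congrFun h1 ⟨0, hn0⟩
  obtain ⟨b, τ, hτ⟩ := exists_blocks (monomial_of_sq hz0 hf) hinj (a := a) (t := t)
    (by rw [Module.finrank_fin_fun, hat, mul_comm])
  refine ⟨fun j => Submodule.span F (b '' {x | x.1 = j}), ⟨ht, by omega, fun i => ?_, ?_, ?_⟩, τ, hτ⟩
  · have h : LinearIndependent F (fun m : Fin a => b (i, m)) :=
      b.linearIndependent.comp (fun m => (i, m)) fun m m' hmm => (Prod.ext_iff.1 hmm).2
    have hr : Set.range (fun m : Fin a => b (i, m)) = b '' {x | x.1 = i} := by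
      ext y
      constructor
      · rintro ⟨m, rfl⟩; exact ⟨(i, m), rfl, rfl⟩
      · rintro ⟨⟨j, m⟩, rfl, rfl⟩; exact ⟨m, rfl⟩
    change Module.finrank F (Submodule.span F (b '' {x | x.1 = i})) = a
    rw [← hr, finrank_span_eq_card h, Fintype.card_fin]
  · refine fun i => ?_
    refine (b.linearIndependent.disjoint_span_image (s := {x | x.1 = i}) (t := {x | x.1 ≠ i}) ?_).mono_right ?_
    · exact Set.disjoint_left.2 fun x hx hx' => hx' hx
    · refine iSup₂_le fun j hj => Submodule.span_mono (Set.image_mono fun x hx => ?_)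
      exact fun h => hj (hx.symm.trans h)
  · rw [eq_top_iff, ← b.span_eq, Submodule.span_le]
    rintro _ ⟨⟨j, m⟩, rfl⟩
    exact Submodule.mem_iSup_of_mem j (Submodule.subset_span ⟨(j, m), rfl, rfl⟩)

end CfsgLib.Classical22.InvolDecomp
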