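/-
Monomial matrices and pseudo-reflections in GL(ι, F).
-/
import Cfsg.Agent.Lib.Transvec.Linear
import Cfsg.Agent.Lib.Transvec.UnitaryGen

set_option autoImplicit false

namespace CfsgLib.Classical22.Monomial

open Matrix CfsgLib.Transvec CfsgLib.Transvec.Unitary
open scoped MatrixGroups

variable {ι : Type} [Fintype ι] [DecidableEq ι] {F : Type*} [Field F]

/-- The monomial map sending the `j`-th unit vector to `d j` times the `σ j`-th one. -/
def mono (σ : Equiv.Perm ι) (d : ι → Fˣ) : GL ι F where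
  val := Matrix.of fun i j => if i = σ j then (d j : F) else 0
  inv := Matrix.of fun i j => if σ i = j then (((d i)⁻¹ : Fˣ) : F) else 0
  val_inv := by
    ext i k
    rw [Matrix.mul_apply, Finset.sum_eq_single (σ.symm i)]
    · by_cases h : i = k
      · subst h; simp
      · simp [h]
    · intro b _ hb
      simp [show i ≠ σ b from fun h => hb (by rw [h, Equiv.symm_apply_apply])]
    · simp
  inv_val := by
    ext i k
    rw [Matrix.mul_apply, Finset.sum_eq_single (σ i)]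
    · by_cases h : i = k
      · subst h; simp
      · simp [h]
    · intro b _ hb
      simp [Ne.symm hb]
    · simp

lemma mono_apply (σ : Equiv.Perm ι) (d : ι → Fˣ) (i j : ι) :
    (mono σ d : Matrix ι ι F) i j = if i = σ j then (d j : F) else 0 := rfl

lemma mono_mulVec (σ : Equiv.Perm ι) (d : ι → Fˣ) (x : ι → F) (j : ι) :
    ((mono σ d : Matrix ι ι F) *ᵥ x) (σ j) = d j * x j := by
  simp [mulVec, dotProduct, mono_apply]

lemma mono_vecMul (σ : Equiv.Perm ι) (d : ι → Fˣ) (φ : ι → F) (j : ι) :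
    (φ ᵥ* (mono σ d : Matrix ι ι F)) j = φ (σ j) * d j := by
  simp [vecMul, dotProduct, mono_apply]

lemma mono_mulVec_single (σ : Equiv.Perm ι) (d : ι → Fˣ) (j : ι) (c : F) :
    (mono σ d : Matrix ι ι F) *ᵥ Pi.single j c = Pi.single (σ j) (d j * c) := by
  funext i
  obtain ⟨i, rfl⟩ := σ.surjective i
  rw [mono_mulVec]
  by_cases h : i = j
  · subst h; simp
  · simp [h]

lemma mono_mul (σ τ : Equiv.Perm ι) (d e : ι → Fˣ) :
    mono σ d * mono τ e = mono (σ * τ) (fun j => d (τ j) * e j) := by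
  refine gl_ext fun x => funext fun i => ?_
  obtain ⟨i, rfl⟩ := (σ * τ).surjective i
  rw [mul_mulVec, mono_mulVec, Equiv.Perm.mul_apply, mono_mulVec, mono_mulVec, Units.val_mul, mul_assoc]

lemma mono_one : mono (1 : Equiv.Perm ι) (1 : ι → Fˣ) = (1 : GL ι F) := by
  refine gl_ext fun x => funext fun i => ?_
  have h := mono_mulVec (1 : Equiv.Perm ι) (1 : ι → Fˣ) x i
  rw [Equiv.Perm.one_apply] at h
  simp [h]

lemma mono_inv (σ : Equiv.Perm ι) (d : ι → Fˣ) :
    (mono σ d)⁻¹ = mono σ⁻¹ (fun i => (d (σ⁻¹ i))⁻¹) := by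
  rw [inv_eq_iff_mul_eq_one, mono_mul, ← mono_one]
  congr 1
  · exact mul_inv_cancel σ
  · funext j; simp

lemma mono_inj {σ τ : Equiv.Perm ι} {d e : ι → Fˣ} (h : mono σ d = mono τ e) : σ = τ := by
  ext j
  have h1 := congrArg (fun g : GL ι F => (g : Matrix ι ι F) (σ j) j) h
  by_contra hne
  simp [mono_apply, hne] at h1

lemma det_mono (σ : Equiv.Perm ι) (d : ι → Fˣ) :
    (mono σ d : Matrix ι ι F).det = ((Equiv.Perm.sign σ : ℤ) : F) * ∏ j, (d j : F) := by
  have e : (mono σ d : Matrix ι ι F) = (σ⁻¹).permMatrix F * diagonal fun j => (d j : F) := by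
    ext i j
    rw [Matrix.mul_diagonal, mono_apply]
    by_cases h : i = σ j
    · subst h; simp
    · have h' : σ⁻¹ i ≠ j := fun e => h (by rw [← e]; simp)
      have h'' : σ.symm i ≠ j := fun e => h (by rw [← e]; simp)
      simp [h, h'', PEquiv.toMatrix_apply]
  rw [e, det_mul, det_permutation, det_diagonal, Equiv.Perm.sign_inv]

/-- Given a permutation and the entries away from `k`, the entry at `k` makes the determinant one. -/
lemma exists_det_one (σ : Equiv.Perm ι) (d : ι → Fˣ) (k : ι) :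
    ∃ e : ι → Fˣ, (∀ j, j ≠ k → e j = d j) ∧ (mono σ e : Matrix ι ι F).det = 1 := by
  obtain ⟨D, hD⟩ : ∃ D : Fˣ, D = Matrix.GeneralLinearGroup.det (mono σ d) := ⟨_, rfl⟩
  have hD' : (mono σ d : Matrix ι ι F).det = D := by rw [hD, Matrix.GeneralLinearGroup.val_det_apply]
  refine ⟨Function.update d k (d k * D⁻¹), fun j hj => Function.update_of_ne hj _ _, ?_⟩
  rw [det_mono] at hD'
  rw [det_mono]
  have e : ∏ j, ((Function.update d k (d k * D⁻¹) j : Fˣ) : F) = (∏ j, (d j : F)) * ((D⁻¹ : Fˣ) : F) := by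
    rw [← Finset.mul_prod_erase _ _ (Finset.mem_univ k), ← Finset.mul_prod_erase _ (fun j => (d j : F)) (Finset.mem_univ k),
      Function.update_self, Units.val_mul, Finset.prod_congr rfl fun j hj => by
        rw [Function.update_of_ne (Finset.ne_of_mem_erase hj)]]
    ring
  rw [e, ← mul_assoc, hD', ← Units.val_mul, mul_inv_cancel, Units.val_one]

/-- Every column has a single non-zero entry. -/
def IsMono (x : GL ι F) : Prop := ∀ j, ∃ i, ∀ l, l ≠ i → (x : Matrix ι ι F) l j = 0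

lemma isMono_mono (σ : Equiv.Perm ι) (d : ι → Fˣ) : IsMono (mono σ d) := fun j =>
  ⟨σ j, fun l hl => by simp [mono_apply, hl]⟩

lemma col_ne_zero (x : GL ι F) (j : ι) : ∃ i, (x : Matrix ι ι F) i j ≠ 0 := by
  by_contra h
  simp only [not_exists, not_not] at h
  exact mulVec_ne_zero x (x := Pi.single j 1) (by simp) (funext fun i => by simp [mulVec_single_one, h i])

lemma row_ne_zero (x : GL ι F) (i : ι) : ∃ j, (x : Matrix ι ι F) i j ≠ 0 := by
  by_contra h
  simp only [not_exists, not_not] at h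
  have h1 := congrFun (mulVec_inv_cancel x (Pi.single i 1)) i
  simp [mulVec, dotProduct, h] at h1

lemma IsMono.exists_mono {x : GL ι F} (hx : IsMono x) : ∃ σ d, x = mono σ d := by
  choose f hf using hx
  have hfj : ∀ j, (x : Matrix ι ι F) (f j) j ≠ 0 := fun j h => by
    obtain ⟨i, hi⟩ := col_ne_zero x j
    by_cases e : i = f j
    · exact hi (e ▸ h)
    · exact hi (hf j i e)
  have hsurj : Function.Surjective f := fun i => by
    obtain ⟨j, hj⟩ := row_ne_zero x i
    exact ⟨j, by_contra fun e => hj (hf j i (Ne.symm e))⟩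
  refine ⟨Equiv.ofBijective f (Finite.injective_iff_surjective.mpr hsurj |> fun h => ⟨h, hsurj⟩),
    fun j => Units.mk0 _ (hfj j), Units.ext (Matrix.ext fun i j => ?_)⟩
  rw [mono_apply]
  change (x : Matrix ι ι F) i j = if i = f j then (x : Matrix ι ι F) (f j) j else 0
  by_cases e : i = f j
  · rw [if_pos e, e]
  · rw [if_neg e, hf j i e]

lemma IsMono.mul {x y : GL ι F} (hx : IsMono x) (hy : IsMono y) : IsMono (x * y) := by
  obtain ⟨σ, d, rfl⟩ := hx.exists_mono
  obtain ⟨τ, e, rfl⟩ := hy.exists_mono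
  rw [mono_mul]; exact isMono_mono _ _

lemma IsMono.inv {x : GL ι F} (hx : IsMono x) : IsMono x⁻¹ := by
  obtain ⟨σ, d, rfl⟩ := hx.exists_mono
  rw [mono_inv]; exact isMono_mono _ _

lemma not_isMono_inv {x : GL ι F} (hx : ¬ IsMono x) : ¬ IsMono x⁻¹ := fun h => hx (inv_inv x ▸ h.inv)

lemma not_isMono_mono_mul {x : GL ι F} (hx : ¬ IsMono x) (σ : Equiv.Perm ι) (d : ι → Fˣ) :
    ¬ IsMono (mono σ d * x) := fun h => hx (by
  have h1 := (isMono_mono σ d).inv.mul h
  rwa [inv_mul_cancel_left] at h1)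

/-- The diagonal matrix with the given units on the diagonal. -/
def diagGL (d : ι → Fˣ) : GL ι F := mono 1 d

lemma diag_mulVec (d : ι → Fˣ) (x : ι → F) :
    (diagGL d : Matrix ι ι F) *ᵥ x = fun i => d i * x i :=
  funext fun i => mono_mulVec 1 d x i

lemma diag_vecMul_inv (d : ι → Fˣ) (φ : ι → F) :
    φ ᵥ* (((diagGL d)⁻¹ : GL ι F) : Matrix ι ι F) = fun i => φ i * ((d i)⁻¹ : Fˣ) := by
  funext i
  rw [diagGL, mono_inv, mono_vecMul]
  simp

lemma det_diag (d : ι → Fˣ) : (diagGL d : Matrix ι ι F).det = ∏ j, (d j : F) := by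
  simp [diagGL, det_mono]

lemma conj_diag_transv (d : ι → Fˣ) {v φ : ι → F} (h : φ ⬝ᵥ v = 0) :
    diagGL d * transv v φ * (diagGL d)⁻¹ = transv (fun i => d i * v i) (fun i => φ i * ((d i)⁻¹ : Fˣ)) := by
  rw [conj_transv _ h, diag_mulVec, diag_vecMul_inv]

lemma diag_dot (d : ι → Fˣ) (v φ : ι → F) :
    (fun i => φ i * ((d i)⁻¹ : Fˣ)) ⬝ᵥ (fun i => (d i : F) * v i) = φ ⬝ᵥ v :=
  Finset.sum_congr rfl fun i _ => by
    show φ i * _ * ((d i : F) * v i) = φ i * v i
    rw [mul_assoc, Units.inv_mul_cancel_left]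

lemma mono_conj_transv (σ : Equiv.Perm ι) (d : ι → Fˣ) {a b : ι} (hab : a ≠ b) (c : F) :
    mono σ d * transv (Pi.single a 1) (Pi.single b c) * (mono σ d)⁻¹ =
      transv (Pi.single (σ a) 1) (Pi.single (σ b) (d a * c * ((d b)⁻¹ : Fˣ))) := by
  have hd : (Pi.single b c : ι → F) ⬝ᵥ Pi.single a 1 = 0 := single_dotProduct_single hab c
  rw [conj_transv _ hd, mono_mulVec_single, mul_one]
  have e1 : (Pi.single (σ a) (d a : F) : ι → F) = (d a : F) • Pi.single (σ a) 1 := by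
    rw [← Pi.single_smul, smul_eq_mul, mul_one]
  have e2 : (Pi.single b c : ι → F) ᵥ* (((mono σ d)⁻¹ : GL ι F) : Matrix ι ι F) =
      Pi.single (σ b) (c * ((d b)⁻¹ : Fˣ)) := by
    funext i
    rw [mono_inv, mono_vecMul]
    by_cases h : i = σ b
    · subst h; simp
    · have h' : σ.symm i ≠ b := fun e => h (by rw [← e]; simp)
      simp [h, h']
  rw [e1, e2, transv_smul_left _ (single_dotProduct_single (σ.injective.ne hab) _), ← Pi.single_smul, smul_eq_mul, mul_assoc]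

/-- The pseudo-reflection fixing the kernel of `φ` and multiplying `v` by `c`. -/
noncomputable def refl (v φ : ι → F) (c : F) : GL ι F := pseudo v ((c - 1) • φ)

lemma refl_ne {v φ : ι → F} (h : φ ⬝ᵥ v = 1) {c : F} (hc : c ≠ 0) : 1 + ((c - 1) • φ) ⬝ᵥ v ≠ 0 := by
  rw [smul_dotProduct, h, smul_eq_mul, mul_one, add_sub_cancel]; exact hc

lemma refl_mulVec {v φ : ι → F} (h : φ ⬝ᵥ v = 1) {c : F} (hc : c ≠ 0) (x : ι → F) :
    (refl v φ c : Matrix ι ι F) *ᵥ x = x + ((c - 1) * (φ ⬝ᵥ x)) • v := by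
  rw [refl, pseudo_mulVec (refl_ne h hc), smul_dotProduct, smul_eq_mul]

lemma refl_vecMul {v φ : ι → F} (h : φ ⬝ᵥ v = 1) {c : F} (hc : c ≠ 0) (η : ι → F) :
    η ᵥ* (refl v φ c : Matrix ι ι F) = η + ((η ⬝ᵥ v) * (c - 1)) • φ := by
  rw [refl, pseudo_val (refl_ne h hc), vecMul_add, vecMul_one, vecMul_vecMulVec, smul_smul]

lemma det_refl {v φ : ι → F} (h : φ ⬝ᵥ v = 1) {c : F} (hc : c ≠ 0) : (refl v φ c : Matrix ι ι F).det = c := by
  rw [refl, det_pseudo (refl_ne h hc), smul_dotProduct, h, smul_eq_mul, mul_one, add_sub_cancel]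

lemma refl_inv {v φ : ι → F} (h : φ ⬝ᵥ v = 1) {c : F} (hc : c ≠ 0) : (refl v φ c)⁻¹ = refl v φ c⁻¹ := by
  rw [inv_eq_iff_mul_eq_one]
  refine gl_ext fun x => ?_
  rw [mul_mulVec, refl_mulVec h (inv_ne_zero hc), refl_mulVec h hc, Units.val_one, one_mulVec, dotProduct_add,
    dotProduct_smul, h, smul_eq_mul, mul_one, add_assoc, ← add_smul]
  have e : (c⁻¹ - 1) * (φ ⬝ᵥ x) + (c - 1) * (φ ⬝ᵥ x + (c⁻¹ - 1) * (φ ⬝ᵥ x)) = 0 := by field_simp; ring
  rw [e, zero_smul, add_zero]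

lemma conj_refl (g : GL ι F) {v φ : ι → F} (h : φ ⬝ᵥ v = 1) {c : F} (hc : c ≠ 0) :
    g * refl v φ c * g⁻¹ = refl ((g : Matrix ι ι F) *ᵥ v) (φ ᵥ* ((g⁻¹ : GL ι F) : Matrix ι ι F)) c := by
  refine gl_ext fun x => ?_
  rw [mul_mulVec, mul_mulVec, refl_mulVec h hc, refl_mulVec (by rw [vecMul_inv_dotProduct, h]) hc,
    mulVec_add, mulVec_inv_cancel, mulVec_smul, ← dotProduct_mulVec]

lemma refl_single (i : ι) (c : Fˣ) :
    refl (Pi.single i (1 : F)) (Pi.single i 1) (c : F) = diagGL (Function.update 1 i c) := by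
  refine gl_ext fun x => funext fun l => ?_
  rw [refl_mulVec (by simp) c.ne_zero, diag_mulVec]
  by_cases h : l = i
  · subst h; simp; ring
  · simp [h]

/-- Two pseudo-reflections with the same axis give a transvection. -/
lemma refl_mul_inv_axis {u u' ψ : ι → F} (h : ψ ⬝ᵥ u = 1) (h' : ψ ⬝ᵥ u' = 1) {c : F} (hc : c ≠ 0) :
    refl u' ψ c * (refl u ψ c)⁻¹ = transv ((c⁻¹ - 1) • (u - u')) ψ := by
  refine gl_ext fun x => ?_
  rw [refl_inv h hc, mul_mulVec, refl_mulVec h (inv_ne_zero hc), refl_mulVec h' hc,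
    transv_mulVec (by rw [dotProduct_smul, dotProduct_sub, h, h', sub_self, smul_zero]), dotProduct_add,
    dotProduct_smul, h, smul_eq_mul, mul_one, add_assoc, smul_sub, smul_sub, smul_smul, smul_smul]
  have e : (c - 1) * (ψ ⬝ᵥ x + (c⁻¹ - 1) * (ψ ⬝ᵥ x)) = - (ψ ⬝ᵥ x * (c⁻¹ - 1)) := by field_simp; ring
  rw [e, mul_comm (c⁻¹ - 1), neg_smul]
  abel

/-- Two pseudo-reflections with the same centre give a transvection. -/
lemma refl_mul_inv_centre {u ψ ψ' : ι → F} (h : ψ ⬝ᵥ u = 1) (h' : ψ' ⬝ᵥ u = 1) {c : F} (hc : c ≠ 0) :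
    refl u ψ' c * (refl u ψ c)⁻¹ = transv u ((c - 1) • (ψ' - ψ)) := by
  refine gl_ext fun x => ?_
  rw [refl_inv h hc, mul_mulVec, refl_mulVec h (inv_ne_zero hc), refl_mulVec h' hc,
    transv_mulVec (by rw [smul_dotProduct, sub_dotProduct, h, h', sub_self, smul_zero]), dotProduct_add,
    dotProduct_smul, h', smul_eq_mul, mul_one, add_assoc, ← add_smul, smul_dotProduct, sub_dotProduct, smul_eq_mul]
  congr 2
  field_simp
  ring

end CfsgLib.Classical22.Monomial
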