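/-
Normal forms and centraliser determinants for invertible matrices with scalar square over a finite field.
-/
import Cfsg.Agent.Lib.Classical22.InvolDecomp
import Cfsg.Agent.Lib.Classical22.Monomial

set_option autoImplicit false

namespace CfsgLib.Classical22.InvolClasses

open Matrix CfsgLib.Transvec CfsgLib.Classical22.Monomial

variable {F : Type*} [Field F] {n : ℕ}

theorem linMap_sq {g : GL (Fin n) F} {z : F} (hg : (g : Matrix (Fin n) (Fin n) F) * g = z • 1) (v : Fin n → F) :
    Matrix.toLin' (g : Matrix (Fin n) (Fin n) F) (Matrix.toLin' (g : Matrix (Fin n) (Fin n) F) v) = z • v := by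
  rw [toLin'_apply, toLin'_apply, mulVec_mulVec, hg, smul_mulVec, one_mulVec]

theorem sq_ne_zero {g : GL (Fin n) F} {z : F} (hg : (g : Matrix (Fin n) (Fin n) F) * g = z • 1) (hn : 0 < n) :
    z ≠ 0 := by
  intro h
  rw [h, zero_smul, ← Units.val_mul] at hg
  haveI : Nonempty (Fin n) := ⟨⟨0, hn⟩⟩
  exact (g * g).ne_zero hg

/-- A basis permuted up to scalars gives a monomial conjugate. -/
theorem of_basis (g : GL (Fin n) F) (b : Module.Basis (Fin n) F (Fin n → F)) (σ : Equiv.Perm (Fin n))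
    (c : Fin n → Fˣ) (h : ∀ j, (g : Matrix (Fin n) (Fin n) F) *ᵥ b j = (c j : F) • b (σ j)) :
    ∃ P : GL (Fin n) F, P⁻¹ * g * P = mono σ c := by
  obtain ⟨U, hU⟩ : ∃ U : Matrix (Fin n) (Fin n) F, ∀ x, U *ᵥ x = ∑ j, x j • b j := by
    refine ⟨Matrix.of fun i j => b j i, fun x => funext fun i => ?_⟩
    rw [Finset.sum_apply]
    simp [Matrix.mulVec, dotProduct, mul_comm]
  have hinj : Function.Injective U.mulVec := fun x y hxy => by
    simp only [hU, ← Module.Basis.equivFun_symm_apply] at hxy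
    exact b.equivFun.symm.injective hxy
  obtain ⟨P, hP⟩ : ∃ P : GL (Fin n) F, (P : Matrix (Fin n) (Fin n) F) = U :=
    ⟨(Matrix.mulVec_injective_iff_isUnit.1 hinj).unit, rfl⟩
  refine ⟨P, ?_⟩
  rw [mul_assoc, inv_mul_eq_iff_eq_mul]
  refine Units.ext (Matrix.ext_of_mulVec_single fun j => ?_)
  rw [Units.val_mul, Units.val_mul, ← mulVec_mulVec, ← mulVec_mulVec, mono_mulVec_single, hP, hU, hU,
    Finset.sum_eq_single j, Finset.sum_eq_single (σ j)]
  · simp [h]
  all_goals simp +contextual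

theorem exists_diag (h2 : (2 : F) ≠ 0) {g : GL (Fin n) F} {s : Fˣ}
    (hg : (g : Matrix (Fin n) (Fin n) F) * g = ((s : F) ^ 2) • 1) :
    ∃ (P : GL (Fin n) F) (c : Fin n → Fˣ), P⁻¹ * g * P = mono 1 c ∧ ∀ i, c i = s ∨ c i = -s := by
  classical
  obtain ⟨f, hfd⟩ : ∃ f, f = Matrix.toLin' (g : Matrix (Fin n) (Fin n) F) := ⟨_, rfl⟩
  have hf : ∀ v, f (f v) = ((s : F) ^ 2) • v := fun v => hfd ▸ linMap_sq hg v
  obtain ⟨P, hP⟩ : ∃ P : F → Submodule F (Fin n → F), P = fun r => LinearMap.ker (f - r • LinearMap.id) := ⟨_, rfl⟩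
  have hmem : ∀ r v, v ∈ P r ↔ f v = r • v := fun r v => by rw [hP]; simp [sub_eq_zero]
  have hc : IsCompl (P s) (P (-s)) := by
    refine ⟨Submodule.disjoint_def.2 fun v hv hv' => ?_, codisjoint_iff.2 (eq_top_iff.2 fun v _ => ?_)⟩
    · rw [hmem] at hv hv'
      have : (2 * (s : F)) • v = 0 := by
        rw [two_mul, add_smul, ← hv]
        nth_rewrite 1 [hv']
        rw [hv, neg_smul, neg_add_cancel]
      exact (smul_eq_zero.1 this).resolve_left (mul_ne_zero h2 s.ne_zero)
    · rw [Submodule.mem_sup]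
      refine ⟨(2 * (s : F))⁻¹ • ((s : F) • v + f v), ?_, (2 * (s : F))⁻¹ • ((s : F) • v - f v), ?_, ?_⟩
      · rw [hmem, map_smul, map_add, map_smul, hf, smul_comm (s : F), smul_add, smul_add, smul_add,
          smul_smul (s : F) (s : F), pow_two]
        abel
      · rw [hmem, map_smul, map_sub, map_smul, hf, neg_smul, smul_comm (s : F), smul_sub, smul_sub, smul_sub,
          smul_smul (s : F) (s : F), pow_two]
        abel
      · rw [← smul_add, add_add_sub_cancel, ← add_smul, ← two_mul, smul_smul,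
          inv_mul_cancel₀ (mul_ne_zero h2 s.ne_zero), one_smul]
  let b₀ := ((Module.finBasis F (P s)).prod (Module.finBasis F (P (-s)))).map (Submodule.prodEquivOfIsCompl _ _ hc)
  have hcard : Fintype.card (Fin (Module.finrank F (P s)) ⊕ Fin (Module.finrank F (P (-s : F)))) = n := by
    rw [← Module.finrank_eq_card_basis b₀]; simp
  let e := Fintype.equivFinOfCardEq hcard
  obtain ⟨Q, hQ⟩ := of_basis g (b₀.reindex e) 1 (fun j => Sum.elim (fun _ => s) (fun _ => -s) (e.symm j)) (fun j => by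
    rw [Equiv.Perm.one_apply, Module.Basis.reindex_apply, ← Matrix.toLin'_apply, ← hfd]
    rcases e.symm j with i | i
    · simpa [b₀] using (hmem s _).1 (Module.finBasis F (P s) i).2
    · simpa [b₀] using (hmem (-s) _).1 (Module.finBasis F (P (-s)) i).2)
  exact ⟨Q, _, hQ, fun i => by rcases e.symm i with a | a <;> simp⟩

theorem exists_char_two [Fintype F] (h2 : (2 : F) = 0) (hn : 0 < n) {g : GL (Fin n) F} {z : F}
    (hg : (g : Matrix (Fin n) (Fin n) F) * g = z • 1) :
    ∃ (s : Fˣ) (P : GL (Fin n) F) (σ : Equiv.Perm (Fin n)), (∀ i, σ (σ i) = i) ∧ z = (s : F) ^ 2 ∧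
      P⁻¹ * g * P = mono σ (fun _ => s) := by
  classical
  haveI : CharP F 2 := CharTwo.of_one_ne_zero_of_two_eq_zero one_ne_zero h2
  have hsq : ∀ a : F, ∃ b : F, b ^ 2 = a := fun a => by
    obtain ⟨b, hb⟩ := FiniteField.isSquare_of_char_two (ringChar.eq F 2) a
    exact ⟨b, by rw [sq]; exact hb.symm⟩
  obtain ⟨s₀, hs₀⟩ := hsq z
  have hs0 : s₀ ≠ 0 := fun h => sq_ne_zero hg hn (by rw [← hs₀, h]; ring)
  obtain ⟨s, rfl⟩ : ∃ s : Fˣ, (s : F) = s₀ := ⟨Units.mk0 s₀ hs0, rfl⟩
  obtain ⟨ι, hι, b, τ, c, hττ, hb⟩ := InvolDecomp.monomial_char_two h2 hs0 (fun v => by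
    rw [linMap_sq hg v, hs₀])
  letI := Fintype.ofFinite ι
  have hcard : Fintype.card ι = n := by rw [← Module.finrank_eq_card_basis b]; simp
  let e := Fintype.equivFinOfCardEq hcard
  have hcc : ∀ i, c (τ i) * c i = (s : F) ^ 2 := fun i => by
    have h := linMap_sq hg (b i)
    rw [hb, map_smul, hb, smul_smul, hττ, ← hs₀] at h
    rw [mul_comm]
    exact (smul_left_injective F (b.ne_zero i) h)
  have hc0 : ∀ i, c i ≠ 0 := fun i h => by
    have := hcc i
    rw [h, mul_zero] at this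
    exact pow_ne_zero 2 hs0 this.symm
  choose d hd using fun i => hsq (c (τ i))
  have hd0 : ∀ i, d i ≠ 0 := fun i h => hc0 (τ i) (by rw [← hd, h]; ring)
  have hdc : ∀ i, d i * c i = (s : F) * d (τ i) := fun i => by
    refine CharTwo.sq_inj.1 ?_
    rw [mul_pow, mul_pow, hd, hd, hττ, ← hcc i]
    ring
  obtain ⟨P, hP⟩ := of_basis g ((b.unitsSMul fun i => Units.mk0 _ (hd0 i)).reindex e) (e.permCongr τ) (fun _ => s)
    (fun j => by
      rw [Module.Basis.reindex_apply, Module.Basis.reindex_apply, Equiv.permCongr_apply, Equiv.symm_apply_apply,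
        Module.Basis.unitsSMul_apply, Module.Basis.unitsSMul_apply, Units.smul_def, Units.smul_def, Units.val_mk0,
        Units.val_mk0, mulVec_smul, ← Matrix.toLin'_apply, hb, smul_smul, smul_smul, hdc])
  exact ⟨s, P, _, fun i => by simp [Equiv.permCongr_apply, hττ], hs₀.symm, hP⟩

/-- The permutation swapping the two members of each pair. -/
def pairSwap {m : ℕ} (e : Fin 2 × Fin m ≃ Fin n) : Equiv.Perm (Fin n) :=
  e.permCongr (Equiv.prodCongrLeft fun _ : Fin m => Equiv.swap (0 : Fin 2) 1)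

theorem pairSwap_apply {m : ℕ} (e : Fin 2 × Fin m ≃ Fin n) (i : Fin 2) (j : Fin m) :
    pairSwap e (e (i, j)) = e (Equiv.swap 0 1 i, j) := by
  simp [pairSwap, Equiv.permCongr_apply, Equiv.prodCongrLeft_apply]

theorem pairSwap_pairSwap {m : ℕ} (e : Fin 2 × Fin m ≃ Fin n) (i : Fin n) : pairSwap e (pairSwap e i) = i := by
  obtain ⟨⟨a, j⟩, rfl⟩ := e.surjective i
  rw [pairSwap_apply, pairSwap_apply, Equiv.swap_apply_self]

/-- The coefficients of the standard element with non-square square. -/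
def pairCoeff {m : ℕ} (e : Fin 2 × Fin m ≃ Fin n) (z : Fˣ) (i : Fin n) : Fˣ :=
  if (e.symm i).1 = 0 then 1 else z

theorem exists_nonsquare {g : GL (Fin n) F} {z : Fˣ}
    (hg : (g : Matrix (Fin n) (Fin n) F) * g = (z : F) • 1) (hz : ∀ s : F, s ^ 2 ≠ z) :
    ∃ (m : ℕ) (e : Fin 2 × Fin m ≃ Fin n) (P : GL (Fin n) F),
      P⁻¹ * g * P = mono (pairSwap e) (pairCoeff e z) := by
  classical
  obtain ⟨m, b, hb⟩ := InvolDecomp.nonsquare_basis (linMap_sq hg) hz
  have hcard : m + m = n := by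
    have h := Module.finrank_eq_card_basis b
    simp at h
    omega
  let e : Fin 2 × Fin m ≃ Fin n := finProdFinEquiv.trans (finCongr (by omega))
  let e' : Fin 2 × Fin m ≃ Fin m ⊕ Fin m :=
    { toFun := fun x => if x.1 = 0 then .inl x.2 else .inr x.2
      invFun := Sum.elim (fun i => (0, i)) (fun i => (1, i))
      left_inv := fun ⟨a, i⟩ => by fin_cases a <;> simp
      right_inv := fun x => by rcases x with i | i <;> simp }
  obtain ⟨P, hP⟩ := of_basis g (b.reindex (e'.symm.trans e)) (pairSwap e) (pairCoeff e z) (fun j => by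
    obtain ⟨⟨a, i⟩, rfl⟩ := e.surjective j
    rw [pairSwap_apply, Module.Basis.reindex_apply, Module.Basis.reindex_apply, ← Matrix.toLin'_apply]
    fin_cases a <;> simp [e', pairCoeff, (hb i).1, (hb i).2])
  exact ⟨m, e, P, hP⟩

theorem pair_eq_block {m : ℕ} (e : Fin 2 × Fin m ≃ Fin n) (z : Fˣ) :
    (mono (pairSwap e) (pairCoeff e z) : Matrix (Fin n) (Fin n) F) =
      Matrix.reindex e e (blockDiagonal fun _ => !![0, (z : F); 1, 0]) := by
  ext i j
  obtain ⟨⟨a, k⟩, rfl⟩ := e.surjective i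
  obtain ⟨⟨b, l⟩, rfl⟩ := e.surjective j
  rw [mono_apply, pairSwap_apply, Matrix.reindex_apply, Matrix.submatrix_apply, Equiv.symm_apply_apply,
    Equiv.symm_apply_apply, blockDiagonal_apply]
  by_cases hkl : k = l
  · subst hkl
    fin_cases a <;> fin_cases b <;> simp [pairCoeff]
  · simp [hkl]

theorem det_pair {m : ℕ} (e : Fin 2 × Fin m ≃ Fin n) (z : Fˣ) :
    (mono (pairSwap e) (pairCoeff e z) : Matrix (Fin n) (Fin n) F).det = (-(z : F)) ^ m := by
  rw [pair_eq_block, Matrix.reindex_apply, Matrix.det_submatrix_equiv_self, Matrix.det_blockDiagonal]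
  simp

theorem cent_transfer {g M P : GL (Fin n) F} (hP : P⁻¹ * g * P = M) {C : GL (Fin n) F} (hC : C * M = M * C) :
    (P * C * P⁻¹) * g = g * (P * C * P⁻¹) := by
  have hg : g = P * M * P⁻¹ := by rw [← hP]; group
  rw [hg]
  calc P * C * P⁻¹ * (P * M * P⁻¹) = P * (C * M) * P⁻¹ := by group
    _ = P * M * P⁻¹ * (P * C * P⁻¹) := by rw [hC]; group

/-- The centraliser of an element with scalar square has all determinants. -/
theorem det_cent [Fintype F] (hn : 0 < n) {g : GL (Fin n) F} {z : F}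
    (hg : (g : Matrix (Fin n) (Fin n) F) * g = z • 1) (t : Fˣ) :
    ∃ C : GL (Fin n) F, C * g = g * C ∧ Matrix.GeneralLinearGroup.det C = t := by
  classical
  have hdet : ∀ (P C : GL (Fin n) F), Matrix.GeneralLinearGroup.det (P * C * P⁻¹) = Matrix.GeneralLinearGroup.det C :=
    fun P C => by rw [map_mul, map_mul, map_inv, mul_inv_cancel_comm]
  have hdiag : ∀ (d : Fin n → Fˣ), Matrix.GeneralLinearGroup.det (diagGL d) = ∏ i, d i := fun d => Units.ext (by
    rw [Matrix.GeneralLinearGroup.val_det_apply, det_diag, Units.coe_prod])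
  by_cases h2 : (2 : F) = 0
  · obtain ⟨s, P, σ, hσ, -, hP⟩ := exists_char_two h2 hn hg
    haveI : CharP F 2 := CharTwo.of_one_ne_zero_of_two_eq_zero one_ne_zero h2
    obtain ⟨i₀, hi₀⟩ : ∃ i : Fin n, i = ⟨0, hn⟩ := ⟨_, rfl⟩
    obtain ⟨d, hds, hdp⟩ : ∃ d : Fin n → Fˣ, (∀ i, d (σ i) = d i) ∧ ∏ i, d i = t := by
      by_cases hfix : σ i₀ = i₀
      · refine ⟨Function.update 1 i₀ t, fun i => ?_, by simp [Finset.prod_update_of_mem]⟩
        by_cases hi : i = i₀
        · subst hi; rw [hfix]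
        · have : σ i ≠ i₀ := fun h => hi (σ.injective (by rw [h, hfix]))
          simp [hi, this]
      · obtain ⟨u, hu⟩ := FiniteField.isSquare_of_char_two (ringChar.eq F 2) (t : F)
        have hu0 : u ≠ 0 := fun h => t.ne_zero (by rw [hu, h, mul_zero])
        refine ⟨Function.update (Function.update 1 i₀ (Units.mk0 u hu0)) (σ i₀) (Units.mk0 u hu0), fun i => ?_, ?_⟩
        · by_cases hi : i = i₀
          · subst hi; simp [Ne.symm hfix]
          · by_cases hi' : i = σ i₀
            · subst hi'; simp [hσ, Ne.symm hfix]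
            · have h1 : σ i ≠ σ i₀ := fun h => hi (σ.injective h)
              have h2' : σ i ≠ i₀ := fun h => hi' (by rw [← h, hσ])
              simp [hi, hi', h1, h2']
        · rw [Finset.prod_update_of_mem (Finset.mem_univ _), Finset.prod_update_of_mem (by simpa using Ne.symm hfix)]
          refine Units.ext ?_
          simp [hu]
    refine ⟨P * diagGL d * P⁻¹, cent_transfer hP ?_, by rw [hdet, hdiag, hdp]⟩
    rw [diagGL, mono_mul, mono_mul, one_mul, mul_one]
    congr 1
    funext j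
    rw [hds]
    exact mul_comm _ _
  · by_cases hz : ∃ s : F, s ^ 2 = z
    · obtain ⟨s₀, rfl⟩ := hz
      have hs0 : s₀ ≠ 0 := fun h => sq_ne_zero hg hn (by rw [h]; ring)
      obtain ⟨s, rfl⟩ : ∃ s : Fˣ, (s : F) = s₀ := ⟨Units.mk0 s₀ hs0, rfl⟩
      obtain ⟨P, c, hP, -⟩ := exists_diag h2 hg
      refine ⟨P * diagGL (Function.update 1 ⟨0, hn⟩ t) * P⁻¹, cent_transfer hP ?_, ?_⟩
      · rw [diagGL, mono_mul, mono_mul]
        congr 1
        funext j
        simp [mul_comm]
      · rw [hdet, hdiag]; simp [Finset.prod_update_of_mem]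
    · push Not at hz
      obtain ⟨zu, rfl⟩ : ∃ zu : Fˣ, (zu : F) = z := ⟨Units.mk0 z (sq_ne_zero hg hn), rfl⟩
      obtain ⟨m, e, P, hP⟩ := exists_nonsquare hg hz
      have hm : 0 < m := by
        have h := Fintype.card_congr e
        simp at h
        omega
      have hodd : Fintype.card F % 2 = 1 :=
        FiniteField.odd_card_of_char_ne_two fun h => h2 (by
          haveI : CharP F 2 := h ▸ ringChar.charP F
          exact CharTwo.two_eq_zero)
      obtain ⟨a, b, hab⟩ := FiniteField.exists_root_sum_quadratic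
        (f := Polynomial.X ^ 2 - Polynomial.C (t : F)) (g := Polynomial.C (-(zu : F)) * Polynomial.X ^ 2)
        (Polynomial.degree_X_pow_sub_C two_pos _)
        (Polynomial.degree_C_mul_X_pow 2 (neg_ne_zero.2 zu.ne_zero)) hodd
      simp at hab
      obtain ⟨B, hB⟩ : ∃ B : Fin m → Matrix (Fin 2) (Fin 2) F,
          B = Function.update (fun _ => (1 : Matrix (Fin 2) (Fin 2) F)) ⟨0, hm⟩ !![a, b * (zu : F); b, a] := ⟨_, rfl⟩
      obtain ⟨C₀, hC₀⟩ : ∃ C₀ : Matrix (Fin n) (Fin n) F, C₀ = Matrix.reindex e e (blockDiagonal B) := ⟨_, rfl⟩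
      have hCd : C₀.det = t := by
        rw [hC₀, Matrix.reindex_apply, Matrix.det_submatrix_equiv_self, Matrix.det_blockDiagonal, hB]
        rw [Finset.prod_eq_single ⟨0, hm⟩]
        · rw [Function.update_self, Matrix.det_fin_two_of]; linear_combination hab
        · intro i _ hi; rw [Function.update_of_ne hi]; simp
        · simp
      obtain ⟨C, hC⟩ : ∃ C : GL (Fin n) F, (C : Matrix (Fin n) (Fin n) F) = C₀ :=
        ⟨Matrix.GeneralLinearGroup.mkOfDetNeZero C₀ (by rw [hCd]; exact t.ne_zero), rfl⟩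
      refine ⟨P * C * P⁻¹, cent_transfer hP (Units.ext ?_), ?_⟩
      · rw [Units.val_mul, Units.val_mul, pair_eq_block, hC, hC₀, Matrix.reindex_apply, Matrix.reindex_apply,
          Matrix.submatrix_mul_equiv, Matrix.submatrix_mul_equiv, ← blockDiagonal_mul, ← blockDiagonal_mul]
        congr 2
        funext i
        by_cases hi : i = ⟨0, hm⟩
        · subst hi
          rw [hB, Function.update_self]
          ext u v
          fin_cases u <;> fin_cases v <;> simp [mul_comm]
        · rw [hB, Function.update_of_ne hi]; simp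
      · rw [hdet]
        exact Units.ext (by rw [Matrix.GeneralLinearGroup.val_det_apply, hC, hCd])

/-- GL-conjugation of an element with scalar square can be done by determinant one. -/
theorem conj_sl [Fintype F] (hn : 0 < n) (x : SpecialLinearGroup (Fin n) F) {z : F}
    (hx : (x : Matrix (Fin n) (Fin n) F) * x = z • 1) (P : GL (Fin n) F) :
    ∃ P' : SpecialLinearGroup (Fin n) F,
      SpecialLinearGroup.toGL (P'⁻¹ * x * P') = P⁻¹ * SpecialLinearGroup.toGL x * P := by
  obtain ⟨C, hC, hCd⟩ := det_cent hn (g := SpecialLinearGroup.toGL x) hx (Matrix.GeneralLinearGroup.det P)⁻¹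
  have hd : ((C * P : GL (Fin n) F) : Matrix (Fin n) (Fin n) F).det = 1 := by
    rw [← Matrix.GeneralLinearGroup.val_det_apply, map_mul, hCd, inv_mul_cancel, Units.val_one]
  obtain ⟨P', hP'⟩ : ∃ P' : SpecialLinearGroup (Fin n) F, SpecialLinearGroup.toGL P' = C * P :=
    ⟨⟨_, hd⟩, Units.ext rfl⟩
  refine ⟨P', ?_⟩
  rw [map_mul, map_mul, map_inv, hP', _root_.mul_inv_rev]
  calc P⁻¹ * C⁻¹ * SpecialLinearGroup.toGL x * (C * P) =
      P⁻¹ * C⁻¹ * (SpecialLinearGroup.toGL x * C) * P := by group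
    _ = P⁻¹ * SpecialLinearGroup.toGL x * P := by rw [← hC]; group

end CfsgLib.Classical22.InvolClasses
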