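/-
Non-abelian subgroups of order 27 and exponent 3 in three dimensions and their normalisers.
-/
import Cfsg.Agent.Lib.Classical22.InvolClasses
import Cfsg.Agent.Lib.Classical.GLOrder
import Cfsg.Prelude.Def_GeometricClasses

set_option autoImplicit false

namespace CfsgLib.Classical22.ExtraThree

open Matrix CfsgLib.Classical22.Monomial CfsgLib.Classical22.InvolClasses

variable {F : Type*} [Field F]

/-- The cyclic shift of three points. -/
def shift : Equiv.Perm (Fin 3) := Equiv.addRight 1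

/-- The inversion of three points. -/
def flip : Equiv.Perm (Fin 3) := Equiv.neg (Fin 3)

@[simp] theorem shift_apply (i : Fin 3) : shift i = i + 1 := rfl

@[simp] theorem flip_apply (i : Fin 3) : flip i = -i := rfl

theorem shift_cube (i : Fin 3) : shift (shift (shift i)) = i := by fin_cases i <;> rfl

theorem eigen_span {g : Matrix (Fin 3) (Fin 3) F} (h3 : (3 : F) ≠ 0) {ω : F} (hω : ω ^ 3 = 1) (hω1 : ω ≠ 1)
    (hg : g ^ 3 = 1) :
    Submodule.span F {v | ∃ l : F, l ^ 3 = 1 ∧ g *ᵥ v = l • v} = ⊤ := by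
  have hsum : ω ^ 2 + ω + 1 = 0 :=
    (mul_eq_zero.1 (show (ω - 1) * (ω ^ 2 + ω + 1) = 0 by linear_combination hω)).resolve_left (sub_ne_zero.2 hω1)
  refine eq_top_iff.2 fun v _ => ?_
  have h3g : g *ᵥ (g *ᵥ (g *ᵥ v)) = v := by
    rw [mulVec_mulVec, mulVec_mulVec, show g * g * g = g ^ 3 by rw [pow_succ, pow_two], hg, one_mulVec]
  obtain ⟨w, hw⟩ : ∃ w : F → Fin 3 → F, ∀ l, w l = v + l • (g *ᵥ v) + (l * l) • (g *ᵥ (g *ᵥ v)) := ⟨_, fun l => rfl⟩
  have hmem : ∀ l, l ^ 3 = 1 → w l ∈ Submodule.span F {v | ∃ l : F, l ^ 3 = 1 ∧ g *ᵥ v = l • v} := by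
    intro l hl
    refine Submodule.subset_span ⟨l * l, by linear_combination (l ^ 3 + 1) * hl, ?_⟩
    rw [hw, mulVec_add, mulVec_add, mulVec_smul, mulVec_smul, h3g, smul_add, smul_add, smul_smul, smul_smul]
    match_scalars
    · linear_combination -hl
    · linear_combination -l * hl
    · ring
  have hv : v = (3 : F)⁻¹ • (w 1 + w ω + w (ω * ω)) := by
    rw [eq_inv_smul_iff₀ h3, hw, hw, hw]
    match_scalars
    · norm_num
    · linear_combination -hsum
    · linear_combination -ω * hω - hsum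
  rw [hv]
  exact Submodule.smul_mem _ _ (Submodule.add_mem _ (Submodule.add_mem _ (hmem 1 (one_pow 3)) (hmem ω hω))
    (hmem _ (by linear_combination (ω ^ 3 + 1) * hω)))

theorem exists_diag_three {g : GL (Fin 3) F} (h3 : (3 : F) ≠ 0) {ω : F} (hω : ω ^ 3 = 1) (hω1 : ω ≠ 1)
    (hg : (g : Matrix (Fin 3) (Fin 3) F) ^ 3 = 1) :
    ∃ (P : GL (Fin 3) F) (c : Fin 3 → Fˣ), P⁻¹ * g * P = mono 1 c ∧ ∀ i, c i ^ 3 = 1 := by
  classical
  obtain ⟨S, hS⟩ : ∃ S, S = {v | ∃ l : F, l ^ 3 = 1 ∧ (g : Matrix (Fin 3) (Fin 3) F) *ᵥ v = l • v} := ⟨_, rfl⟩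
  have hspan : ⊤ ≤ Submodule.span F S := by rw [hS, eigen_span h3 hω hω1 hg]
  let b₀ := Module.Basis.ofSpan hspan
  let b := b₀.reindex (b₀.indexEquiv (Pi.basisFun F (Fin 3)))
  have hb : ∀ i, ∃ l : Fˣ, l ^ 3 = 1 ∧ (g : Matrix (Fin 3) (Fin 3) F) *ᵥ b i = (l : F) • b i := by
    intro i
    have hmem : b i ∈ S := by
      rw [Module.Basis.reindex_apply]
      exact Module.Basis.ofSpan_subset hspan ⟨_, rfl⟩
    rw [hS] at hmem
    obtain ⟨l, hl, hgl⟩ := hmem
    exact ⟨Units.mk0 l (fun h => by rw [h] at hl; simp at hl), Units.ext (by simpa using hl), hgl⟩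
  choose l hl3 hl using hb
  obtain ⟨P, hP⟩ := of_basis g b 1 l (fun j => hl j)
  exact ⟨P, l, hP, hl3⟩

theorem entry_diag (M : GL (Fin 3) F) (w : Fin 3 → Fˣ) (a b : Fin 3) :
    ((M * mono 1 w : GL (Fin 3) F) : Matrix (Fin 3) (Fin 3) F) a b = (M : Matrix (Fin 3) (Fin 3) F) a b * w b ∧
      ((mono 1 w * M : GL (Fin 3) F) : Matrix (Fin 3) (Fin 3) F) a b = w a * (M : Matrix (Fin 3) (Fin 3) F) a b := by
  rw [Units.val_mul, Units.val_mul, Matrix.mul_apply, Matrix.mul_apply, Finset.sum_eq_single b,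
    Finset.sum_eq_single a]
  · simp [mono_apply]
  · intro c _ hc; simp [mono_apply, Ne.symm hc]
  · simp
  · intro c _ hc; simp [mono_apply, hc]
  · simp

theorem scalar_central (h3 : (3 : F) ≠ 0) {ω : F} (hω : ω ^ 3 = 1) (hω1 : ω ≠ 1) {g h z : GL (Fin 3) F}
    (hz3 : z ^ 3 = 1) (hgz : g * z = z * g) (hhz : h * z = z * h) (hgh : g * h = z * (h * g)) (hz1 : z ≠ 1) :
    ∃ l : Fˣ, l ^ 3 = 1 ∧ l ≠ 1 ∧ (z : Matrix (Fin 3) (Fin 3) F) = (l : F) • 1 := by
  classical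
  obtain ⟨P, c, hP, hc⟩ := exists_diag_three h3 hω hω1 (g := z)
    (by rw [← Units.val_pow_eq_pow_val, hz3, Units.val_one])
  have key : ∀ t : Fˣ, t ≠ 1 → (∃ i, c i = t) → ∀ i, c i = t := by
    rintro t ht ⟨i₀, hi₀⟩ i
    obtain ⟨G, hG⟩ : ∃ G, G = P⁻¹ * g * P := ⟨_, rfl⟩
    obtain ⟨H, hH⟩ : ∃ H, H = P⁻¹ * h * P := ⟨_, rfl⟩
    obtain ⟨Z, hZ⟩ : ∃ Z, Z = P⁻¹ * z * P := ⟨_, rfl⟩
    have hGZ : G * Z = Z * G := by
      rw [hG, hZ, show P⁻¹ * g * P * (P⁻¹ * z * P) = P⁻¹ * (g * z) * P by group, hgz]; group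
    have hHZ : H * Z = Z * H := by
      rw [hH, hZ, show P⁻¹ * h * P * (P⁻¹ * z * P) = P⁻¹ * (h * z) * P by group, hhz]; group
    have hGH : G * H = Z * (H * G) := by
      rw [hG, hH, hZ, show P⁻¹ * g * P * (P⁻¹ * h * P) = P⁻¹ * (g * h) * P by group, hgh]; group
    rw [← hZ] at hP
    have hblock : ∀ M : GL (Fin 3) F, M * Z = Z * M → ∀ a b, c a = t → c b ≠ t →
        (M : Matrix (Fin 3) (Fin 3) F) a b = 0 ∧ (M : Matrix (Fin 3) (Fin 3) F) b a = 0 := by
      intro M hM a b ha hb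
      have e : ∀ a b, (M : Matrix (Fin 3) (Fin 3) F) a b * ((c b : F) - c a) = 0 := by
        intro a b
        have h0 := congrArg (fun N : GL (Fin 3) F => (N : Matrix (Fin 3) (Fin 3) F) a b) hM
        simp only [hP, (entry_diag M c a b).1, (entry_diag M c a b).2] at h0
        linear_combination h0
      have hne : (c b : F) - c a ≠ 0 := sub_ne_zero.2 fun e => hb (by rw [Units.ext e, ha])
      refine ⟨(mul_eq_zero.1 (e a b)).resolve_right hne,
        (mul_eq_zero.1 (e b a)).resolve_right fun e => hne (by linear_combination -e)⟩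
    obtain ⟨pr, hpr⟩ : ∃ pr : GL (Fin 3) F → Matrix {a // c a = t} {a // c a = t} F,
        ∀ M a b, pr M a b = (M : Matrix (Fin 3) (Fin 3) F) a b := ⟨fun M => Matrix.of fun a b => M.1 a b, fun _ _ _ => rfl⟩
    have hmul : ∀ M N : GL (Fin 3) F, N * Z = Z * N → pr (M * N) = pr M * pr N := by
      intro M N hN
      ext a b
      rw [hpr, Units.val_mul, Matrix.mul_apply, Matrix.mul_apply]
      simp only [hpr]
      refine (Fintype.sum_subtype_add_sum_subtype (fun a => c a = t) _).symm.trans ?_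
      rw [add_eq_left]
      exact Finset.sum_eq_zero fun x _ => by rw [(hblock N hN b x b.2 x.2).2, mul_zero]
    have hone : pr 1 = 1 := by
      ext a b
      rw [hpr, Units.val_one, Matrix.one_apply, Matrix.one_apply]
      simp [Subtype.ext_iff]
    have hdet0 : ∀ M : GL (Fin 3) F, M * Z = Z * M → (pr M).det ≠ 0 := by
      intro M hM h0
      have hMi : M⁻¹ * Z = Z * M⁻¹ := by
        rw [inv_mul_eq_iff_eq_mul, ← mul_assoc, hM, mul_inv_cancel_right]
      have := congrArg Matrix.det (hmul M M⁻¹ hMi)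
      rw [mul_inv_cancel, hone, det_one, det_mul, h0, zero_mul] at this
      exact one_ne_zero this
    have hd := congrArg Matrix.det ((hmul G H hHZ).symm.trans ((congrArg pr hGH).trans
      ((hmul Z (H * G) (by rw [mul_assoc, hGZ, ← mul_assoc, hHZ, mul_assoc])).trans
        (congrArg (pr Z * ·) (hmul H G hGZ)))))
    rw [det_mul, det_mul, det_mul] at hd
    have hZd : (pr Z).det = (t : F) ^ Fintype.card {a // c a = t} := by
      rw [show pr Z = (t : F) • 1 by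
        ext a b
        rw [hpr, hP, mono_apply, Matrix.smul_apply, Matrix.one_apply, Equiv.Perm.one_apply]
        by_cases hab : a = b
        · subst hab; simp [a.2]
        · rw [if_neg hab, if_neg fun e => hab (Subtype.ext e), smul_zero], det_smul, det_one, mul_one]
    have h1 : (t : F) ^ Fintype.card {a // c a = t} = 1 := by
      rw [← hZd]
      exact mul_right_cancel₀ (mul_ne_zero (hdet0 H hHZ) (hdet0 G hGZ)) (by rw [one_mul, ← hd]; ring)
    obtain ⟨k, hk⟩ : ∃ k, Fintype.card {a // c a = t} = k := ⟨_, rfl⟩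
    rw [hk, ← Units.val_pow_eq_pow_val, Units.val_eq_one] at h1
    have hdvd := orderOf_dvd_of_pow_eq_one h1
    haveI : Fact (Nat.Prime 3) := ⟨Nat.prime_three⟩
    rw [orderOf_eq_prime (hi₀ ▸ hc i₀) ht] at hdvd
    have hk0 : 0 < k := hk ▸ Fintype.card_pos_iff.2 ⟨⟨i₀, hi₀⟩⟩
    have hk3 : k ≤ 3 := hk ▸ (Fintype.card_subtype_le _).trans (Fintype.card_fin 3).le
    by_contra hi
    have := Fintype.card_subtype_lt (p := fun a => c a = t) hi
    rw [hk, Fintype.card_fin] at this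
    have := Nat.le_of_dvd hk0 hdvd
    omega
  obtain ⟨i, hi⟩ : ∃ i, c i ≠ 1 := by
    by_contra! h
    refine hz1 ?_
    rw [show c = 1 from funext h, mono_one] at hP
    rw [show z = P * (P⁻¹ * z * P) * P⁻¹ by group, hP, mul_one, mul_inv_cancel]
  have hall := key (c i) hi ⟨i, rfl⟩
  refine ⟨c i, hc i, hi, ?_⟩
  rw [show z = P * (P⁻¹ * z * P) * P⁻¹ by group, hP, Units.val_mul, Units.val_mul,
    show ((mono 1 c : GL (Fin 3) F) : Matrix (Fin 3) (Fin 3) F) = (c i : F) • 1 by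
      ext a b
      rw [mono_apply, Matrix.smul_apply, Matrix.one_apply, hall b, Equiv.Perm.one_apply]
      split_ifs <;> simp,
    mul_smul_comm, mul_one, smul_mul_assoc, Units.mul_inv]

theorem inv_pow_sq {g : GL (Fin 3) F} (hg : g ^ 3 = 1) : g * g = g⁻¹ := by
  refine eq_inv_of_mul_eq_one_left ?_
  rw [← pow_two, ← pow_succ, hg]

/-- Normal form of the group. -/
theorem exists_form (h3 : (3 : F) ≠ 0) {ω : F} (hω : ω ^ 3 = 1) (hω1 : ω ≠ 1) (R : Subgroup (GL (Fin 3) F))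
    (hR : Nat.card R = 27) (hRe : Monoid.exponent R = 3) (hRna : ¬ IsMulCommutative R) :
    ∃ (Q : GL (Fin 3) F) (l : Fˣ), l ^ 3 = 1 ∧ l ≠ 1 ∧ Q * mono 1 (fun i : Fin 3 => l ^ (i : ℕ)) * Q⁻¹ ∈ R ∧
      Q * mono shift 1 * Q⁻¹ ∈ R ∧ Q * mono 1 (fun _ => l) * Q⁻¹ ∈ R ∧
      Subgroup.closure {Q * mono 1 (fun i : Fin 3 => l ^ (i : ℕ)) * Q⁻¹, Q * mono shift 1 * Q⁻¹,
        Q * mono 1 (fun _ => l) * Q⁻¹} = R := by
  classical
  haveI : Fact (Nat.Prime 3) := ⟨Nat.prime_three⟩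
  haveI : Finite R := Nat.finite_of_card_ne_zero (by omega)
  have hp : IsPGroup 3 R := IsPGroup.of_card (n := 3) (by rw [hR]; norm_num)
  have hcomm : ∀ a b : R, a * b * a⁻¹ * b⁻¹ ∈ Subgroup.center R := by
    haveI : Nontrivial R := Finite.one_lt_card_iff_nontrivial.1 (by omega)
    haveI := hp.center_nontrivial
    have h1 : 1 < Nat.card (Subgroup.center R) := Finite.one_lt_card
    obtain ⟨k, hk⟩ := (hp.to_quotient (Subgroup.center R)).exists_card_eq
    have hm := Subgroup.card_eq_card_quotient_mul_card_subgroup (Subgroup.center R)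
    rw [hR, hk] at hm
    have hk2 : k ≤ 2 := by
      by_contra h
      have : 3 ^ 3 ≤ 3 ^ k := Nat.pow_le_pow_right (by norm_num) (by omega)
      nlinarith
    intro a b
    rw [← QuotientGroup.eq_one_iff, QuotientGroup.mk_mul, QuotientGroup.mk_mul, QuotientGroup.mk_mul,
      QuotientGroup.mk_inv, QuotientGroup.mk_inv]
    have hc : ∀ u v : R ⧸ Subgroup.center R, u * v = v * u := by
      rcases Nat.lt_or_ge k 2 with h | h
      · haveI : IsCyclic (R ⧸ Subgroup.center R) := by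
          rcases Nat.eq_zero_or_pos k with rfl | h0
          · haveI : Subsingleton (R ⧸ Subgroup.center R) :=
              (Nat.card_eq_one_iff_unique.1 (by simpa using hk)).1
            infer_instance
          · obtain rfl : k = 1 := by omega
            exact isCyclic_of_prime_card (p := 3) (by simpa using hk)
        exact fun u v => (IsCyclic.commGroup (α := R ⧸ Subgroup.center R)).mul_comm u v
      · obtain rfl : k = 2 := by omega
        exact fun u v => (IsPGroup.commGroupOfCardEqPrimeSq (p := 3) hk).mul_comm u v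
    rw [hc (a : R ⧸ Subgroup.center R) b]; group
  obtain ⟨a, b, hab⟩ : ∃ a b : R, a * b ≠ b * a := by
    by_contra! h
    exact hRna ⟨⟨h⟩⟩
  have hpow : ∀ u : R, (u : GL (Fin 3) F) ^ 3 = 1 := fun u => by
    have h := Monoid.pow_exponent_eq_one u
    rw [hRe] at h
    exact congrArg Subtype.val h
  obtain ⟨z, hz⟩ : ∃ z : R, z = a * b * a⁻¹ * b⁻¹ := ⟨_, rfl⟩
  have hzc : z ∈ Subgroup.center R := hz ▸ hcomm a b
  have hz1 : z ≠ 1 := fun h => hab (by
    rw [h, eq_comm, mul_inv_eq_one, mul_inv_eq_iff_eq_mul] at hz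
    exact hz)
  have hzab : a * b = z * (b * a) := by rw [hz]; group
  obtain ⟨l, hl, hl1, hlz⟩ := scalar_central h3 hω hω1 (g := (a : GL (Fin 3) F)) (h := b) (z := z) (hpow z)
    (congrArg Subtype.val (Subgroup.mem_center_iff.1 hzc a)) (congrArg Subtype.val (Subgroup.mem_center_iff.1 hzc b))
    (congrArg Subtype.val hzab) (fun h => hz1 (Subtype.ext h))
  obtain ⟨A, hA⟩ : ∃ A, A = ((a : GL (Fin 3) F) : Matrix (Fin 3) (Fin 3) F) := ⟨_, rfl⟩
  obtain ⟨B, hB⟩ : ∃ B, B = ((b : GL (Fin 3) F) : Matrix (Fin 3) (Fin 3) F) := ⟨_, rfl⟩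
  have hAB : A * B = (l : F) • (B * A) := by
    have h := congrArg (fun u : R => ((u : GL (Fin 3) F) : Matrix (Fin 3) (Fin 3) F)) hzab
    simp only [Subgroup.coe_mul, Units.val_mul, hlz, smul_mul_assoc, one_mul, ← hA, ← hB] at h
    exact h
  have hA3 : A ^ 3 = 1 := by rw [hA, ← Units.val_pow_eq_pow_val, hpow, Units.val_one]
  have hB3 : B * (B * B) = 1 := by
    rw [hB, ← Units.val_mul, ← Units.val_mul, ← pow_two, ← pow_succ', hpow, Units.val_one]
  obtain ⟨v, hv, hAv⟩ : ∃ v, v ≠ 0 ∧ A *ᵥ v = v := by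
    obtain ⟨v, ⟨μ, hμ, hv⟩, hv0⟩ : ∃ v ∈ {v | ∃ μ : F, μ ^ 3 = 1 ∧ A *ᵥ v = μ • v}, v ≠ 0 := by
      by_contra! h
      have hs := eigen_span h3 hω hω1 hA3
      have : Submodule.span F {v | ∃ μ : F, μ ^ 3 = 1 ∧ A *ᵥ v = μ • v} ≤ ⊥ :=
        Submodule.span_le.2 fun v hv => (Submodule.mem_bot F).2 (h v hv)
      rw [hs] at this
      have h1 := this (Submodule.mem_top : (Pi.single 0 1 : Fin 3 → F) ∈ (⊤ : Submodule F (Fin 3 → F)))
      simp at h1
    have hl3 : (l : F) ^ 3 = 1 := by rw [← Units.val_pow_eq_pow_val, hl, Units.val_one]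
    have hshift : ∀ w (t : F), A *ᵥ w = t • w → A *ᵥ (B *ᵥ w) = ((l : F) * t) • (B *ᵥ w) := fun w t hw => by
      rw [mulVec_mulVec, hAB, smul_mulVec, ← mulVec_mulVec, hw, mulVec_smul, smul_smul]
    have hsum : (l : F) ^ 2 + l + 1 = 0 :=
      (mul_eq_zero.1 (show ((l : F) - 1) * ((l : F) ^ 2 + l + 1) = 0 by linear_combination hl3)).resolve_left
        (sub_ne_zero.2 fun h => hl1 (Units.ext h))
    have hBi : ∀ w, B *ᵥ w = 0 → w = 0 := fun w hw => by
      rw [← one_mulVec w, ← Units.inv_mul (b : GL (Fin 3) F), ← mulVec_mulVec, ← hB, hw, mulVec_zero]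
    have hroots : μ = 1 ∨ (l : F) * μ = 1 ∨ (l : F) * ((l : F) * μ) = 1 := by
      have h : (μ - 1) * (((l : F) * μ - 1) * ((l : F) * ((l : F) * μ) - 1)) = 0 := by
        linear_combination μ ^ 3 * hl3 + hμ + (μ - μ ^ 2 * (l : F)) * hsum
      rcases mul_eq_zero.1 h with h | h
      · exact Or.inl (sub_eq_zero.1 h)
      · rcases mul_eq_zero.1 h with h | h
        · exact Or.inr (Or.inl (sub_eq_zero.1 h))
        · exact Or.inr (Or.inr (sub_eq_zero.1 h))
    rcases hroots with h | h | h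
    · exact ⟨v, hv0, by rw [hv, h, one_smul]⟩
    · exact ⟨B *ᵥ v, fun e => hv0 (hBi _ e), by rw [hshift v μ hv, h, one_smul]⟩
    · exact ⟨B *ᵥ (B *ᵥ v), fun e => hv0 (hBi _ (hBi _ e)), by rw [hshift _ _ (hshift v μ hv), h, one_smul]⟩
  obtain ⟨w, hw⟩ : ∃ w : Fin 3 → Fin 3 → F, ∀ i : Fin 3, w i = (B ^ (i : ℕ)) *ᵥ v := ⟨_, fun i => rfl⟩
  have hAw : ∀ i : Fin 3, A *ᵥ w i = ((l : F) ^ (i : ℕ)) • w i := by
    intro i
    rw [hw]
    have : ∀ k : ℕ, A *ᵥ ((B ^ k) *ᵥ v) = ((l : F) ^ k) • ((B ^ k) *ᵥ v) := by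
      intro k
      induction k with
      | zero => simp [hAv]
      | succ k ih => rw [pow_succ' B, ← mulVec_mulVec, mulVec_mulVec, hAB, smul_mulVec, ← mulVec_mulVec, ih,
          mulVec_smul, smul_smul, pow_succ']
    exact this i
  have hw0 : ∀ i, w i ≠ 0 := fun i e => by
    rw [hw] at e
    refine hv ?_
    rw [← one_mulVec v, ← Units.inv_mul ((b : GL (Fin 3) F) ^ (i : ℕ)), ← mulVec_mulVec, Units.val_pow_eq_pow_val,
      ← hB, e, mulVec_zero]
  have hLI : LinearIndependent F w := by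
    refine Module.End.eigenvectors_linearIndependent' (Matrix.toLin' A) (fun i : Fin 3 => (l : F) ^ (i : ℕ)) ?_ w
      fun i => Module.End.hasEigenvector_iff.2 ⟨Module.End.mem_eigenspace_iff.2 (by rw [Matrix.toLin'_apply, hAw]), hw0 i⟩
    intro i j hij
    simp only [← Units.val_pow_eq_pow_val, Units.val_inj] at hij
    have ho : orderOf l = 3 := orderOf_eq_prime hl hl1
    exact Fin.ext (pow_injOn_Iio_orderOf (by rw [ho]; exact i.2) (by rw [ho]; exact j.2) hij)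
  let bas := basisOfLinearIndependentOfCardEqFinrank hLI (by simp)
  have hbas : ∀ i, bas i = w i := fun i => by simp [bas]
  obtain ⟨U, hU⟩ : ∃ U : Matrix (Fin 3) (Fin 3) F, ∀ x, U *ᵥ x = ∑ j, x j • w j := by
    refine ⟨Matrix.of fun i j => w j i, fun x => funext fun i => ?_⟩
    rw [Finset.sum_apply]
    simp [Matrix.mulVec, dotProduct, mul_comm]
  have hinj : Function.Injective U.mulVec := fun x y hxy => by
    simp only [hU, ← hbas, ← Module.Basis.equivFun_symm_apply] at hxy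
    exact bas.equivFun.symm.injective hxy
  obtain ⟨Q, hQ⟩ : ∃ Q : GL (Fin 3) F, (Q : Matrix (Fin 3) (Fin 3) F) = U :=
    ⟨(Matrix.mulVec_injective_iff_isUnit.1 hinj).unit, rfl⟩
  have hcol : ∀ (j : Fin 3) (t : F), U *ᵥ Pi.single j t = t • w j := fun j t => by
    rw [hU, Finset.sum_eq_single j]
    · simp
    · intro i _ hi; simp [hi]
    · simp
  have conj_of : ∀ (X : GL (Fin 3) F) (σ : Equiv.Perm (Fin 3)) (d : Fin 3 → Fˣ),
      (∀ j, (X : Matrix (Fin 3) (Fin 3) F) *ᵥ w j = (d j : F) • w (σ j)) → X = Q * mono σ d * Q⁻¹ := by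
    intro X σ d hX
    rw [eq_mul_inv_iff_mul_eq]
    refine Units.ext (Matrix.ext_of_mulVec_single fun j => ?_)
    rw [Units.val_mul, Units.val_mul, ← mulVec_mulVec, ← mulVec_mulVec, hQ, hcol, mono_mulVec_single, hcol, one_smul,
      mul_one, hX]
  have ha' := conj_of a 1 (fun i : Fin 3 => l ^ (i : ℕ)) fun j => by
    rw [← hA, hAw, Units.val_pow_eq_pow_val]; rfl
  have hb' := conj_of b shift 1 fun j => by
    rw [← hB, Pi.one_apply, Units.val_one, one_smul, hw, hw]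
    fin_cases j
    · simp
    · simp [pow_two, ← mulVec_mulVec]
    · show B *ᵥ ((B ^ 2) *ᵥ v) = (B ^ 0) *ᵥ v
      rw [pow_two, pow_zero, mulVec_mulVec, hB3]
  have hz' := conj_of z 1 (fun _ => l) fun j => by rw [hlz, smul_mulVec, one_mulVec]; rfl
  refine ⟨Q, l, hl, hl1, ha' ▸ a.2, hb' ▸ b.2, hz' ▸ z.2, ?_⟩
  rw [← ha', ← hb', ← hz']
  obtain ⟨K, hK⟩ : ∃ K, K = Subgroup.closure {(a : GL (Fin 3) F), (b : GL (Fin 3) F), (z : GL (Fin 3) F)} := ⟨_, rfl⟩
  rw [← hK]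
  have hle : K ≤ R := by
    rw [hK, Subgroup.closure_le]
    rintro _ (rfl | rfl | rfl) <;> exact SetLike.coe_mem _
  haveI : Finite K := Finite.of_injective _ (Subgroup.inclusion_injective hle)
  refine Subgroup.eq_of_le_of_card_ge hle ?_
  rw [hR]
  have hdvd := Subgroup.card_dvd_of_le hle
  rw [hR] at hdvd
  obtain ⟨k, hk, hk'⟩ := (Nat.dvd_prime_pow Nat.prime_three).1 (show Nat.card K ∣ 3 ^ 3 by simpa using hdvd)
  have haK : (a : GL (Fin 3) F) ∈ K := hK ▸ Subgroup.subset_closure (by simp)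
  have hbK : (b : GL (Fin 3) F) ∈ K := hK ▸ Subgroup.subset_closure (by simp)
  by_contra hlt
  have hk2 : k ≤ 2 := by
    by_contra h
    have : k = 3 := by omega
    rw [hk', this] at hlt
    norm_num at hlt
  refine hab (Subtype.ext ?_)
  have hc : ∀ u v : K, u * v = v * u := by
    rcases Nat.lt_or_ge k 2 with h | h
    · haveI : IsCyclic K := by
        rcases Nat.eq_zero_or_pos k with rfl | h0
        · haveI : Subsingleton K := (Nat.card_eq_one_iff_unique.1 (by simpa using hk')).1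
          infer_instance
        · obtain rfl : k = 1 := by omega
          exact isCyclic_of_prime_card (p := 3) (by simpa using hk')
      exact fun u v => (IsCyclic.commGroup (α := K)).mul_comm u v
    · obtain rfl : k = 2 := by omega
      exact fun u v => (IsPGroup.commGroupOfCardEqPrimeSq (p := 3) hk').mul_comm u v
  have := congrArg (fun u : K => (u : GL (Fin 3) F)) (hc ⟨_, haK⟩ ⟨_, hbK⟩)
  simpa using this

theorem mem_normalizer_of_gen {ι : Type} [Fintype ι] [DecidableEq ι] (R : Subgroup (GL ι F)) [Finite R]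
    {s : Set (GL ι F)} (hs : Subgroup.closure s = R) {x : GL ι F} (h : ∀ u ∈ s, x * u * x⁻¹ ∈ R) :
    x ∈ Cfsg.Geo.subgroupNormalizer R := by
  have hmap : R.map (MulAut.conj x).toMonoidHom ≤ R := by
    conv_lhs => rw [← hs]
    rw [MonoidHom.map_closure, Subgroup.closure_le]
    rintro _ ⟨u, hu, rfl⟩
    exact h u hu
  have heq : R.map (MulAut.conj x).toMonoidHom = R :=
    Subgroup.eq_of_le_of_card_ge hmap (Nat.card_congr (R.equivMapOfInjective _ (MulAut.conj x).injective).toEquiv).le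
  refine Subgroup.mem_normalizer_iff.2 fun u => ⟨fun hu => ?_, fun hu => ?_⟩
  · exact hmap ⟨u, hu, rfl⟩
  · change x * u * x⁻¹ ∈ R at hu; rw [← heq] at hu
    obtain ⟨v, hv, hvu⟩ := hu
    have : v = u := (MulAut.conj x).injective hvu
    exact this ▸ hv

theorem no_large_prime (R : Subgroup (GL (Fin 3) F)) (hR : Nat.card R = 27) {Q : GL (Fin 3) F} {l : Fˣ} (hl : l ^ 3 = 1)
    (hl1 : l ≠ 1) (h1 : Q * mono 1 (fun i : Fin 3 => l ^ (i : ℕ)) * Q⁻¹ ∈ R) (h2 : Q * mono shift 1 * Q⁻¹ ∈ R)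
    (hz : Q * mono 1 (fun _ => l) * Q⁻¹ ∈ R)
    {r : ℕ} [hr : Fact r.Prime] (hr5 : 5 ≤ r) {x : GL (Fin 3) F} (hx : x ∈ Cfsg.Geo.subgroupNormalizer R)
    {z : F} (hxr : ((x ^ r : GL (Fin 3) F) : Matrix (Fin 3) (Fin 3) F) = z • 1) :
    ∃ c : F, (x : Matrix (Fin 3) (Fin 3) F) = c • 1 := by
  classical
  haveI : Finite R := Nat.finite_of_card_ne_zero (by omega)
  letI : Fintype R := Fintype.ofFinite R
  have hx' : x ∈ Subgroup.normalizer (R : Set (GL (Fin 3) F)) := hx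
  obtain ⟨σ, hσ⟩ : ∃ σ : Equiv.Perm R, ∀ u : R, (σ u : GL (Fin 3) F) = x * u * x⁻¹ :=
    ⟨{ toFun := fun u => ⟨x * u * x⁻¹, (Subgroup.mem_normalizer_iff.1 hx' _).1 u.2⟩
       invFun := fun u => ⟨x⁻¹ * u * x, (Subgroup.mem_normalizer_iff.1 hx' _).2 (by
         show x * (x⁻¹ * u * x) * x⁻¹ ∈ R
         rw [show x * (x⁻¹ * u * x) * x⁻¹ = u by group]; exact u.2)⟩
       left_inv := fun u => Subtype.ext (by show x⁻¹ * (x * u * x⁻¹) * x = u; group)
       right_inv := fun u => Subtype.ext (by show x * (x⁻¹ * u * x) * x⁻¹ = u; group) }, fun u => rfl⟩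
  have hcomm : ∀ u : GL (Fin 3) F, x ^ r * u = u * x ^ r := fun u => Units.ext (by
    rw [Units.val_mul, Units.val_mul, hxr, smul_mul_assoc, one_mul, mul_smul_comm, mul_one])
  have hpow : ∀ (k : ℕ) (u : R), ((σ ^ k) u : GL (Fin 3) F) = x ^ k * u * (x ^ k)⁻¹ := by
    intro k u
    induction k with
    | zero => simp
    | succ k ih => rw [pow_succ', Equiv.Perm.mul_apply, hσ, ih, pow_succ' x]; group
  have hσr : σ ^ r ^ 1 = 1 := Equiv.ext fun u => Subtype.ext (by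
    rw [pow_one, hpow, hcomm, mul_inv_cancel_right]; rfl)
  obtain ⟨K, hK⟩ : ∃ K : Subgroup R, ∀ u, u ∈ K ↔ σ u = u := by
    refine ⟨(Subgroup.centralizer {x}).subgroupOf R, fun u => ?_⟩
    rw [Subgroup.mem_subgroupOf, Subgroup.mem_centralizer_singleton_iff, Subtype.ext_iff, hσ, mul_inv_eq_iff_eq_mul]
    exact eq_comm
  have hcl := Equiv.Perm.card_compl_support_modEq (p := r) (n := 1) hσr
  have hsupp : σ.supportᶜ.card = Nat.card K := by
    rw [Nat.card_eq_fintype_card, ← Fintype.card_coe]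
    exact Fintype.card_congr (Equiv.subtypeEquivRight fun u => by simp [hK, Finset.mem_compl, Equiv.Perm.mem_support])
  rw [hsupp, ← Nat.card_eq_fintype_card, hR] at hcl
  have hK3 : Q * mono 1 (fun _ => l) * Q⁻¹ = mono 1 (fun _ => l) := by
    rw [mul_inv_eq_iff_eq_mul]
    refine Units.ext ?_
    rw [Units.val_mul, Units.val_mul, show ((mono 1 (fun _ => l) : GL (Fin 3) F) : Matrix (Fin 3) (Fin 3) F) = (l : F) • 1 by
      ext a b; rw [mono_apply, Matrix.smul_apply, Matrix.one_apply, Equiv.Perm.one_apply]; split_ifs <;> simp,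
      mul_smul_comm, mul_one, smul_mul_assoc, one_mul]
  have hne : 1 < Nat.card K := by
    rw [hK3] at hz
    refine Finite.one_lt_card_iff_nontrivial.2 ⟨⟨1, ⟨⟨_, hz⟩, (hK _).2 (Subtype.ext ?_)⟩, fun h => hl1 ?_⟩⟩
    · rw [hσ, mul_inv_eq_iff_eq_mul]
      refine Units.ext (Matrix.ext fun a b => ?_)
      rw [(entry_diag x _ a b).1, (entry_diag x _ a b).2, mul_comm]
    · have := congrArg (fun u : K => (((u : R) : GL (Fin 3) F) : Matrix (Fin 3) (Fin 3) F) 0 0) h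
      simp [mono_apply] at this
      exact Units.ext this.symm
  have hd := Subgroup.card_subgroup_dvd_card K
  rw [hR] at hd
  have hKtop : Nat.card K = 27 := by
    obtain ⟨k, hk, hk'⟩ := (Nat.dvd_prime_pow Nat.prime_three).1 (show Nat.card K ∣ 3 ^ 3 by simpa using hd)
    have h1 : (r : ℕ) ∣ 27 - Nat.card K := (Nat.modEq_iff_dvd' (Nat.le_of_dvd (by norm_num) hd)).1 hcl
    interval_cases k
    · rw [hk'] at hne; norm_num at hne
    · rw [hk'] at h1
      have := Nat.le_of_dvd (by norm_num) h1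
      have : r ∣ 2 ^ 3 * 3 := h1
      rcases hr.out.dvd_mul.1 this with h | h
      · have := Nat.le_of_dvd two_pos (hr.out.dvd_of_dvd_pow h); omega
      · have := Nat.le_of_dvd (by norm_num) h; omega
    · rw [hk'] at h1
      have : r ∣ 2 * 3 ^ 2 := h1
      rcases hr.out.dvd_mul.1 this with h | h
      · have := Nat.le_of_dvd two_pos h; omega
      · have := Nat.le_of_dvd (by norm_num) (hr.out.dvd_of_dvd_pow h); omega
    · rw [hk']; norm_num
  have hKt : K = ⊤ := Subgroup.eq_top_of_card_eq K (by rw [hKtop, hR])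
  have hfix : ∀ u ∈ R, x * u = u * x := fun u hu => by
    have h := congrArg Subtype.val ((hK ⟨u, hu⟩).1 (hKt ▸ Subgroup.mem_top _))
    rw [hσ, mul_inv_eq_iff_eq_mul] at h
    exact h
  obtain ⟨y, hy⟩ : ∃ y, y = Q⁻¹ * x * Q := ⟨_, rfl⟩
  have hyc : ∀ M, Q * M * Q⁻¹ ∈ R → y * M = M * y := fun M hM => by
    rw [hy, show Q⁻¹ * x * Q * M = Q⁻¹ * (x * (Q * M * Q⁻¹)) * Q by group, hfix _ hM]; group
  have hoff : ∀ a b : Fin 3, a ≠ b → (y : Matrix (Fin 3) (Fin 3) F) a b = 0 := by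
    intro a b hab
    have h := congrArg (fun N : GL (Fin 3) F => (N : Matrix (Fin 3) (Fin 3) F) a b) (hyc _ h1)
    simp only [(entry_diag y _ a b).1, (entry_diag y _ a b).2] at h
    by_contra h0
    have e : ((l ^ (a : ℕ) : Fˣ) : F) = ((l ^ (b : ℕ) : Fˣ) : F) := mul_left_cancel₀ h0 (by linear_combination -h)
    haveI : Fact (Nat.Prime 3) := ⟨Nat.prime_three⟩
    have ho : orderOf l = 3 := orderOf_eq_prime hl hl1
    exact hab (Fin.ext (pow_injOn_Iio_orderOf (by rw [ho]; exact a.2) (by rw [ho]; exact b.2) (Units.ext e)))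
  have hdiag : ∀ a : Fin 3, (y : Matrix (Fin 3) (Fin 3) F) (shift a) (shift a) = (y : Matrix (Fin 3) (Fin 3) F) a a := by
    intro a
    have h := congrArg (fun N : GL (Fin 3) F => (N : Matrix (Fin 3) (Fin 3) F) (shift a) a) (hyc _ h2)
    beta_reduce at h
    rw [Units.val_mul, Units.val_mul, Matrix.mul_apply, Matrix.mul_apply, Finset.sum_eq_single (shift a),
      Finset.sum_eq_single a] at h
    · simpa [mono_apply] using h
    · intro c _ hc; rw [hoff c a hc, mul_zero]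
    · simp
    · intro c _ hc; rw [mono_apply, if_neg hc, mul_zero]
    · simp
  refine ⟨(y : Matrix (Fin 3) (Fin 3) F) 0 0, ?_⟩
  rw [show x = Q * y * Q⁻¹ by rw [hy]; group, Units.val_mul, Units.val_mul,
    show (y : Matrix (Fin 3) (Fin 3) F) = (y : Matrix (Fin 3) (Fin 3) F) 0 0 • 1 by
      ext a b
      rw [Matrix.smul_apply, Matrix.one_apply]
      by_cases hab : a = b
      · subst hab
        have e0 := hdiag 0
        have e1 := hdiag 1
        simp at e0 e1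
        fin_cases a <;> simp [e0, e1]
      · rw [if_neg hab, smul_zero, hoff a b hab],
    mul_smul_comm, mul_one, smul_mul_assoc, Units.mul_inv]
  simp

theorem diag_normalizes (R : Subgroup (GL (Fin 3) F)) [Finite R] {Q : GL (Fin 3) F} {l : Fˣ} (hl : l ^ 3 = 1)
    (hl1 : l ≠ 1) (h1 : Q * mono 1 (fun i : Fin 3 => l ^ (i : ℕ)) * Q⁻¹ ∈ R) (h2 : Q * mono shift 1 * Q⁻¹ ∈ R)
    (hz : Q * mono 1 (fun _ => l) * Q⁻¹ ∈ R)
    (hcl : Subgroup.closure {Q * mono 1 (fun i : Fin 3 => l ^ (i : ℕ)) * Q⁻¹, Q * mono shift 1 * Q⁻¹,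
        Q * mono 1 (fun _ => l) * Q⁻¹} = R) (u : Fˣ) (c : Fin 3 → Fˣ) (hc : ∀ i, c i ^ 3 = 1) :
    Q * mono 1 (fun i => u * c i) * Q⁻¹ ∈ Cfsg.Geo.subgroupNormalizer R := by
  classical
  haveI : Fact (Nat.Prime 3) := ⟨Nat.prime_three⟩
  obtain ⟨d, hd⟩ : ∃ d : Fin 3 → Fˣ, ∀ i, d i = u * c i := ⟨_, fun i => rfl⟩
  rw [show (fun i => u * c i) = d from funext fun i => (hd i).symm]
  refine mem_normalizer_of_gen R hcl ?_
  have e : ∀ M, Q * mono 1 d * Q⁻¹ * (Q * M * Q⁻¹) * (Q * mono 1 d * Q⁻¹)⁻¹ =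
      Q * (mono 1 d * M * (mono 1 d)⁻¹) * Q⁻¹ := fun M => by group
  have hdiag : ∀ w : Fin 3 → Fˣ, mono 1 d * mono 1 w * (mono 1 d)⁻¹ = mono 1 w := fun w => by
    rw [mul_inv_eq_iff_eq_mul, mono_mul, mono_mul]
    congr 1
    funext j
    simp [mul_comm]
  rintro _ (rfl | rfl | rfl)
  · rw [e, hdiag]; exact h1
  · obtain ⟨ρ, hρ⟩ : ∃ ρ : Fin 3 → Fˣ, ∀ j, ρ j = c (shift j) * (c j)⁻¹ := ⟨_, fun j => rfl⟩
    have hρ3 : ∀ j, ρ j ^ 3 = 1 := fun j => by rw [hρ, mul_pow, hc, _root_.inv_pow, hc, inv_one, one_mul]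
    have hpowl : ∀ t : Fˣ, t ^ 3 = 1 → ∃ k : ℕ, t = l ^ k := by
      intro t ht
      have ho : orderOf l = 3 := orderOf_eq_prime hl hl1
      haveI : NeZero (3 : ℕ) := ⟨by norm_num⟩
      obtain ⟨k, -, hk⟩ := (IsPrimitiveRoot.coe_units_iff.2 (IsPrimitiveRoot.iff_orderOf.2 ho)).eq_pow_of_pow_eq_one
        (show (t : F) ^ 3 = 1 by rw [← Units.val_pow_eq_pow_val, ht, Units.val_one])
      exact ⟨k, Units.ext (by rw [Units.val_pow_eq_pow_val, hk])⟩
    obtain ⟨A, hA⟩ := hpowl (ρ 0) (hρ3 0)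
    obtain ⟨B, hB⟩ := hpowl (ρ 1 * (ρ 0)⁻¹) (by rw [mul_pow, hρ3, _root_.inv_pow, hρ3, inv_one, one_mul])
    have hlin : ∀ j : Fin 3, ρ j = l ^ A * (l ^ (j : ℕ)) ^ B := by
      have hprod : ρ 0 * ρ 1 * ρ 2 = 1 := by
        simp only [hρ, shift_apply]
        rw [show (0 : Fin 3) + 1 = 1 from rfl, show (1 : Fin 3) + 1 = 2 from rfl, show (2 : Fin 3) + 1 = 0 from rfl]
        rw [show c 1 * (c 0)⁻¹ * (c 2 * (c 1)⁻¹) * (c 0 * (c 2)⁻¹) =
          (c 1 * (c 1)⁻¹) * (c 0 * (c 0)⁻¹) * (c 2 * (c 2)⁻¹) by ac_rfl]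
        simp
      intro j
      fin_cases j
      · simp [hA]
      · show ρ 1 = l ^ A * (l ^ 1) ^ B
        rw [pow_one, ← hA, ← hB, mul_comm (ρ 1), mul_inv_cancel_left]
      · show ρ 2 = l ^ A * (l ^ 2) ^ B
        rw [← pow_mul, mul_comm 2 B, pow_mul, ← hA, ← hB]
        have h2 : ρ 2 = (ρ 0 * ρ 1)⁻¹ := eq_inv_of_mul_eq_one_right hprod
        rw [h2, inv_eq_iff_mul_eq_one, pow_two]
        calc ρ 0 * ρ 1 * (ρ 0 * (ρ 1 * (ρ 0)⁻¹ * (ρ 1 * (ρ 0)⁻¹))) =
            (ρ 1 * ρ 1 * ρ 1) * ((ρ 0 * (ρ 0)⁻¹) * (ρ 0 * (ρ 0)⁻¹)) := by ac_rfl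
          _ = 1 := by rw [mul_inv_cancel, one_mul, mul_one, ← pow_two, ← pow_succ, hρ3]
    have key : mono 1 d * mono shift 1 * (mono 1 d)⁻¹ =
        mono shift 1 * (mono 1 (fun _ => l)) ^ A * (mono 1 (fun i : Fin 3 => l ^ (i : ℕ))) ^ B := by
      have hp : ∀ (w : Fin 3 → Fˣ) (k : ℕ), (mono 1 w : GL (Fin 3) F) ^ k = mono 1 (fun i => w i ^ k) := by
        intro w k
        induction k with
        | zero => simp only [pow_zero]; exact mono_one.symm
        | succ k ih => rw [pow_succ, ih, mono_mul]; simp [pow_succ]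
      rw [mul_inv_eq_iff_eq_mul, hp, hp, mono_mul, mono_mul, mono_mul, mono_mul, mul_one, mul_one]
      congr 1
      funext j
      simp only [Equiv.Perm.one_apply, Pi.one_apply, one_mul, mul_one]
      have h := hlin j
      rw [hρ] at h
      rw [hd, hd, ← h]
      rw [show c (shift j) * (c j)⁻¹ * (u * c j) = u * c (shift j) * ((c j)⁻¹ * c j) by ac_rfl, inv_mul_cancel, mul_one]
    rw [e, key, show Q * (mono shift 1 * mono 1 (fun _ => l) ^ A * mono 1 (fun i : Fin 3 => l ^ (i : ℕ)) ^ B) * Q⁻¹ =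
      (Q * mono shift 1 * Q⁻¹) * (Q * mono 1 (fun _ => l) * Q⁻¹) ^ A *
        (Q * mono 1 (fun i : Fin 3 => l ^ (i : ℕ)) * Q⁻¹) ^ B by rw [conj_pow, conj_pow]; group]
    exact mul_mem (mul_mem h2 (pow_mem hz A)) (pow_mem h1 B)
  · rw [e, hdiag]; exact hz

theorem flip_normalizes (R : Subgroup (GL (Fin 3) F)) [Finite R] {Q : GL (Fin 3) F} {l : Fˣ} (hl : l ^ 3 = 1)
    (h1 : Q * mono 1 (fun i : Fin 3 => l ^ (i : ℕ)) * Q⁻¹ ∈ R) (h2 : Q * mono shift 1 * Q⁻¹ ∈ R)
    (hz : Q * mono 1 (fun _ => l) * Q⁻¹ ∈ R)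
    (hcl : Subgroup.closure {Q * mono 1 (fun i : Fin 3 => l ^ (i : ℕ)) * Q⁻¹, Q * mono shift 1 * Q⁻¹,
        Q * mono 1 (fun _ => l) * Q⁻¹} = R) (u : Fˣ) :
    Q * mono flip (fun _ => u) * Q⁻¹ ∈ Cfsg.Geo.subgroupNormalizer R := by
  classical
  refine mem_normalizer_of_gen R hcl ?_
  have e : ∀ M, Q * mono flip (fun _ => u) * Q⁻¹ * (Q * M * Q⁻¹) * (Q * mono flip (fun _ => u) * Q⁻¹)⁻¹ =
      Q * (mono flip (fun _ => u) * M * (mono flip (fun _ => u))⁻¹) * Q⁻¹ := fun M => by group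
  rintro _ (rfl | rfl | rfl)
  · have k : mono flip (fun _ => u) * mono 1 (fun i : Fin 3 => l ^ (i : ℕ)) * (mono flip (fun _ => u))⁻¹ =
        (mono 1 (fun i : Fin 3 => l ^ (i : ℕ)))⁻¹ := by
      rw [mul_inv_eq_iff_eq_mul, eq_inv_mul_iff_mul_eq, mono_mul, mono_mul, mul_one, one_mul]
      congr 1
      funext j
      fin_cases j
      · simp
      · show l ^ 2 * (u * l ^ 1) = u
        rw [pow_one, mul_left_comm, ← pow_succ, hl, mul_one]
      · show l ^ 1 * (u * l ^ 2) = u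
        rw [pow_one, mul_left_comm, ← pow_succ', hl, mul_one]
    rw [e, k, ← conj_inv]
    exact inv_mem h1
  · have k : mono flip (fun _ => u) * mono shift 1 * (mono flip (fun _ => u))⁻¹ = (mono shift 1)⁻¹ := by
      rw [mul_inv_eq_iff_eq_mul, eq_inv_mul_iff_mul_eq, mono_mul, mono_mul]
      congr 1
      · ext j; fin_cases j <;> rfl
      · funext j; simp
    rw [e, k, ← conj_inv]
    exact inv_mem h2
  · have k : mono flip (fun _ => u) * mono 1 (fun _ : Fin 3 => l) * (mono flip (fun _ => u))⁻¹ =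
        mono 1 (fun _ => l) := by
      rw [mul_inv_eq_iff_eq_mul, mono_mul, mono_mul, mul_one, one_mul]
      congr 1
      funext j
      exact mul_comm _ _
    rw [e, k]
    exact hz

end CfsgLib.Classical22.ExtraThree
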