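/-
Unitary normal forms: diagonalisable elements and non-abelian subgroups of order 27 in three dimensions.
-/
import Cfsg.Agent.Lib.Classical22.ExtraThree
import Cfsg.Agent.Lib.Classical.HermSplit
import Cfsg.Agent.Lib.Classical.HermOrder

set_option autoImplicit false

namespace CfsgLib.Classical22.UnitaryThree

open Matrix CfsgLib.Classical CfsgLib.Classical22.Monomial CfsgLib.Classical22.InvolClasses

variable {F : Type*} [Field F] [Fintype F] {q n : ℕ}

theorem mem_gu_iff (g : GL (Fin n) F) : g ∈ Cfsg.GU n F q ↔ ∀ u v,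
    Cfsg.hermForm n F q ((g : Matrix (Fin n) (Fin n) F) *ᵥ u) ((g : Matrix (Fin n) (Fin n) F) *ᵥ v) =
      Cfsg.hermForm n F q u v := Iff.rfl

theorem hermForm_sum_right (hF : Fintype.card F = q ^ 2) {κ : Type*} [Fintype κ] (a : κ → F) (b : κ → Fin n → F)
    (w : Fin n → F) :
    Cfsg.hermForm n F q w (∑ i, a i • b i) = ∑ i, a i ^ q * Cfsg.hermForm n F q w (b i) := by
  obtain ⟨σ, hσ, -, -⟩ := exists_qPow hF
  rw [← hermForm_conj hF, hermForm_sum_left, ← hσ, map_sum]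
  exact Finset.sum_congr rfl fun i _ => by rw [map_mul, hσ, hσ, hermForm_conj hF]

theorem mem_of_columns (hF : Fintype.card F = q ^ 2) (g : GL (Fin n) F)
    (h : ∀ i j, Cfsg.hermForm n F q ((g : Matrix (Fin n) (Fin n) F) *ᵥ Pi.single i 1)
      ((g : Matrix (Fin n) (Fin n) F) *ᵥ Pi.single j 1) = if i = j then 1 else 0) : g ∈ Cfsg.GU n F q := by
  classical
  refine (mem_gu_iff g).2 fun u v => ?_
  have e : ∀ w : Fin n → F, (g : Matrix (Fin n) (Fin n) F) *ᵥ w =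
      ∑ i, w i • ((g : Matrix (Fin n) (Fin n) F) *ᵥ Pi.single i 1) := fun w => by
    conv_lhs => rw [pi_eq_sum_univ' w, mulVec_sum]
    exact Finset.sum_congr rfl fun i _ => mulVec_smul _ _ _
  rw [e u, e v, hermForm_sum_left]
  refine Finset.sum_congr rfl fun i _ => ?_
  rw [hermForm_sum_right hF, Finset.sum_eq_single i]
  · rw [h, if_pos rfl, mul_one]
  · intro j _ hj; rw [h, if_neg (Ne.symm hj), mul_zero]
  · simp

theorem mono_mem (hF : Fintype.card F = q ^ 2) (σ : Equiv.Perm (Fin n)) (d : Fin n → Fˣ)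
    (hd : ∀ i, (d i : F) ^ (q + 1) = 1) : mono σ d ∈ Cfsg.GU n F q := by
  refine mem_of_columns hF _ fun i j => ?_
  rw [mono_mulVec_single, mono_mulVec_single, mul_one, mul_one,
    show (Pi.single (σ i) (d i : F) : Fin n → F) = (d i : F) • Pi.single (σ i) 1 by rw [← Pi.single_smul]; simp,
    show (Pi.single (σ j) (d j : F) : Fin n → F) = (d j : F) • Pi.single (σ j) 1 by rw [← Pi.single_smul]; simp]
  have hq := two_le_q hF
  rw [show Cfsg.hermForm n F q ((d i : F) • Pi.single (σ i) 1) ((d j : F) • Pi.single (σ j) 1) =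
      (d i : F) * (d j : F) ^ q * Cfsg.hermForm n F q (Pi.single (σ i) 1) (Pi.single (σ j) 1) by
    simp only [Cfsg.hermForm, Pi.smul_apply, smul_eq_mul, Finset.mul_sum, mul_pow]
    exact Finset.sum_congr rfl fun k _ => by ring,
    hermForm_single_one (by omega)]
  by_cases h : i = j
  · subst h; rw [if_pos rfl, if_pos rfl, mul_one, ← pow_succ', hd]
  · rw [if_neg (σ.injective.ne h), if_neg h, mul_zero]

/-- A unitary map diagonalisable over the field is diagonal in an orthonormal basis. -/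
theorem exists_unitary_diag (hF : Fintype.card F = q ^ 2) {x : GL (Fin n) F} (hx : x ∈ Cfsg.GU n F q) {P : GL (Fin n) F}
    {c : Fin n → Fˣ} (hP : P⁻¹ * x * P = mono 1 c) (hc : ∀ i, (c i : F) ^ (q + 1) = 1) :
    ∃ U ∈ Cfsg.GU n F q, ∃ c' : Fin n → Fˣ, U⁻¹ * x * U = mono 1 c' ∧ ∀ i, ∃ j, c' i = c j := by
  classical
  have hq := two_le_q hF
  obtain ⟨f, hf⟩ : ∃ f, f = Matrix.toLin' (x : Matrix (Fin n) (Fin n) F) := ⟨_, rfl⟩
  obtain ⟨S, hS⟩ : ∃ S, S = Finset.univ.image c := ⟨_, rfl⟩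
  obtain ⟨E, hE⟩ : ∃ E : Fˣ → Submodule F (Fin n → F), ∀ l v, v ∈ E l ↔ f v = (l : F) • v :=
    ⟨fun l => LinearMap.ker (f - (l : F) • LinearMap.id), fun l v => by simp [sub_eq_zero]⟩
  have horth : ∀ l ∈ S, ∀ m ∈ S, l ≠ m → ∀ u ∈ E l, ∀ v ∈ E m, Cfsg.hermForm n F q u v = 0 := by
    intro l hl m hm hlm u hu v hv
    have h := (mem_gu_iff x).1 hx u v
    rw [hE, hf, Matrix.toLin'_apply] at hu hv
    rw [hu, hv, show Cfsg.hermForm n F q ((l : F) • u) ((m : F) • v) = (l : F) * (m : F) ^ q * Cfsg.hermForm n F q u v by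
      simp only [Cfsg.hermForm, Pi.smul_apply, smul_eq_mul, Finset.mul_sum, mul_pow]
      exact Finset.sum_congr rfl fun k _ => by ring] at h
    rw [hS, Finset.mem_image] at hm
    obtain ⟨j, -, hj⟩ := hm
    by_contra h0
    have h1 : (l : F) * (m : F) ^ q = 1 := mul_right_cancel₀ h0 (h.trans (one_mul _).symm)
    refine hlm (Units.ext ?_)
    have h2 : (m : F) ^ (q + 1) = 1 := by rw [← hj, hc]
    rw [pow_succ'] at h2
    exact mul_right_cancel₀ (pow_ne_zero q m.ne_zero) (h1.trans h2.symm)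
  have hcols : ∀ i, (P : Matrix (Fin n) (Fin n) F) *ᵥ Pi.single i 1 ∈ E (c i) := by
    intro i
    rw [hE, hf, Matrix.toLin'_apply, mulVec_mulVec, ← Units.val_mul,
      show x * P = P * mono 1 c by rw [← hP]; group, Units.val_mul, ← mulVec_mulVec, mono_mulVec_single, mul_one,
      Equiv.Perm.one_apply, ← mulVec_smul, ← Pi.single_smul, smul_eq_mul, mul_one]
  have hsup : ∀ v, ∃ w : Fin n → F, v = ∑ i, w i • ((P : Matrix (Fin n) (Fin n) F) *ᵥ Pi.single i 1) := fun v => by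
    refine ⟨((P⁻¹ : GL (Fin n) F) : Matrix (Fin n) (Fin n) F) *ᵥ v, ?_⟩
    conv_lhs => rw [← one_mulVec v, ← Units.mul_inv P, ← mulVec_mulVec,
      pi_eq_sum_univ' (((P⁻¹ : GL (Fin n) F) : Matrix (Fin n) (Fin n) F) *ᵥ v), mulVec_sum]
    exact Finset.sum_congr rfl fun i _ => mulVec_smul _ _ _
  have hnd : ∀ l ∈ S, ∀ u ∈ E l, (∀ v ∈ E l, Cfsg.hermForm n F q u v = 0) → u = 0 := by
    intro l hl u hu h
    obtain ⟨σ, hσ, -, -⟩ := exists_qPow hF
    refine hermForm_nondeg hσ (by omega) fun v => ?_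
    rw [hermB_apply, ← hermForm_conj hF]
    obtain ⟨w, hw⟩ := hsup v
    rw [show Cfsg.hermForm n F q u v = 0 by
      rw [hw, hermForm_sum_right hF]
      refine Finset.sum_eq_zero fun i _ => ?_
      by_cases hi : c i = l
      · rw [h _ (hi ▸ hcols i), mul_zero]
      · rw [horth l hl (c i) (hS ▸ Finset.mem_image_of_mem c (Finset.mem_univ i)) (Ne.symm hi) u hu _ (hcols i),
          mul_zero], zero_pow (by omega)]
  choose b hb hbs using fun l : S => exists_orthonormal_span hF (E l) (hnd l l.2)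
  obtain ⟨B, hB⟩ : ∃ B : (Σ l : S, Fin (Module.finrank F (E l))) → Fin n → F, ∀ p, B p = b p.1 p.2 :=
    ⟨fun p => b p.1 p.2, fun p => rfl⟩
  have hBmem : ∀ p, B p ∈ E p.1 := fun p => by
    rw [hB]; exact (hbs p.1).le (Submodule.subset_span ⟨p.2, rfl⟩)
  have hBo : ∀ p r, Cfsg.hermForm n F q (B p) (B r) = if p = r then 1 else 0 := by
    rintro ⟨l, i⟩ ⟨m, j⟩
    by_cases hlm : l = m
    · subst hlm; rw [hB, hB, hb]; simp
    · rw [horth l l.2 m m.2 (fun h => hlm (Subtype.ext h)) _ (hBmem ⟨l, i⟩) _ (hBmem ⟨m, j⟩),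
        if_neg fun h => hlm (congrArg Sigma.fst h)]
  have hspan : ⊤ ≤ Submodule.span F (Set.range B) := by
    intro v _
    obtain ⟨w, rfl⟩ := hsup v
    refine Submodule.sum_mem _ fun i _ => Submodule.smul_mem _ _ ?_
    have h := hcols i
    rw [← hbs ⟨c i, hS ▸ Finset.mem_image_of_mem c (Finset.mem_univ i)⟩] at h
    refine Submodule.span_mono ?_ h
    rintro _ ⟨j, rfl⟩
    exact ⟨⟨_, j⟩, hB _⟩
  let bas := Module.Basis.mk (orthonormal_li hBo) hspan
  let bas' := bas.reindex (bas.indexEquiv (Pi.basisFun F (Fin n)))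
  obtain ⟨ix, hix⟩ : ∃ ix : Fin n → (Σ l : S, Fin (Module.finrank F (E l))), Function.Injective ix ∧ ∀ i, bas' i = B (ix i) :=
    ⟨(bas.indexEquiv (Pi.basisFun F (Fin n))).symm, Equiv.injective _, fun i => by simp [bas', bas]⟩
  obtain ⟨M, hM⟩ : ∃ M : Matrix (Fin n) (Fin n) F, ∀ i, M *ᵥ Pi.single i 1 = bas' i :=
    ⟨Matrix.of fun i j => bas' j i, fun i => by ext k; simp [Matrix.mulVec_single_one, Matrix.col_apply]⟩
  have hMinj : Function.Injective M.mulVec := fun u v h => by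
    have e : ∀ u, M *ᵥ u = bas'.equivFun.symm u := fun u => by
      rw [Module.Basis.equivFun_symm_apply]
      conv_lhs => rw [pi_eq_sum_univ' u, mulVec_sum]
      exact Finset.sum_congr rfl fun i _ => by rw [mulVec_smul, hM]
    rw [e, e] at h
    exact bas'.equivFun.symm.injective h
  obtain ⟨U, hU⟩ : ∃ U : GL (Fin n) F, (U : Matrix (Fin n) (Fin n) F) = M :=
    ⟨(Matrix.mulVec_injective_iff_isUnit.1 hMinj).unit, rfl⟩
  refine ⟨U, mem_of_columns hF U fun i j => ?_, fun i => (ix i).1, ?_, fun i => ?_⟩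
  · rw [hU, hM, hM, hix.2, hix.2, hBo]
    simp [hix.1.eq_iff]
  · rw [mul_assoc, inv_mul_eq_iff_eq_mul]
    refine Units.ext (Matrix.ext_of_mulVec_single fun j => ?_)
    rw [Units.val_mul, Units.val_mul, ← mulVec_mulVec, ← mulVec_mulVec, mono_mulVec_single, hU, hM, mul_one,
      Equiv.Perm.one_apply, hix.2, ← Matrix.toLin'_apply, ← hf, (hE _ _).1 (hBmem (ix j)),
      show (Pi.single j ((((ix j).1 : Fˣ)) : F) : Fin n → F) = (((ix j).1 : Fˣ) : F) • Pi.single j 1 by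
        rw [← Pi.single_smul]; simp,
      mulVec_smul, hM, hix.2]
  · have hm : ((ix i).1 : Fˣ) ∈ Finset.univ.image c := hS ▸ (ix i).1.2
    obtain ⟨j, -, hj⟩ := Finset.mem_image.1 hm
    exact ⟨j, hj.symm⟩

theorem det_norm_one (hF : Fintype.card F = q ^ 2) {g : GL (Fin n) F} (hg : g ∈ Cfsg.GU n F q) :
    ((Matrix.GeneralLinearGroup.det g : Fˣ) : F) ^ (q + 1) = 1 := by
  have := two_le_q hF
  rw [Matrix.GeneralLinearGroup.val_det_apply]
  exact det_gu_pow (det_map_pow hF) (by omega) ⟨g, hg⟩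

/-- Unitary conjugation of a unitarily diagonalisable element can be done by determinant one. -/
theorem adjust (hF : Fintype.card F = q ^ 2) (hn : 0 < n) {x U G : GL (Fin n) F} (hU : U ∈ Cfsg.GU n F q)
    (hG : G ∈ Cfsg.GU n F q) {c : Fin n → Fˣ} (hx : U⁻¹ * x * U = mono 1 c) :
    ∃ g ∈ Cfsg.GU n F q ⊓ Cfsg.Geo.specialLinear (Fin n) F, g⁻¹ * x * g = G⁻¹ * x * G := by
  classical
  obtain ⟨t, ht⟩ : ∃ t, t = (Matrix.GeneralLinearGroup.det G)⁻¹ := ⟨_, rfl⟩
  obtain ⟨C, hC⟩ : ∃ C, C = U * mono 1 (Function.update 1 ⟨0, hn⟩ t) * U⁻¹ := ⟨_, rfl⟩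
  have hCx : C * x = x * C := by
    rw [hC]
    refine cent_transfer hx ?_
    rw [mono_mul, mono_mul]
    congr 1
    funext j
    simp [mul_comm]
  have hCU : C ∈ Cfsg.GU n F q := by
    rw [hC]
    refine mul_mem (mul_mem hU (mono_mem hF _ _ fun i => ?_)) (inv_mem hU)
    by_cases hi : i = ⟨0, hn⟩
    · rw [hi, Function.update_self, ht, Units.val_inv_eq_inv_val, _root_.inv_pow, det_norm_one hF hG, inv_one]
    · simp [hi]
  refine ⟨C * G, ⟨mul_mem hCU hG, MonoidHom.mem_ker.2 ?_⟩, ?_⟩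
  · rw [hC, map_mul, map_mul, map_mul, map_inv, mul_inv_cancel_comm, ← eq_inv_iff_mul_eq_one, ← ht]
    refine Units.ext ?_
    rw [Matrix.GeneralLinearGroup.val_det_apply]
    refine (det_diag _).trans ?_
    rw [Fintype.prod_eq_single (⟨0, hn⟩ : Fin n) fun i hi => by simp [hi]]
    simp
  · rw [show (C * G)⁻¹ * x * (C * G) = G⁻¹ * C⁻¹ * (x * C) * G by group, ← hCx]
    group

/-- The conjugating matrix of the normal form may be chosen unitary. -/
theorem exists_unitary_form (hF : Fintype.card F = q ^ 2) {Q : GL (Fin 3) F} {l : Fˣ} (hl : l ^ 3 = 1) (hl1 : l ≠ 1)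
    (hlq : (l : F) ^ (q + 1) = 1)
    (ha : Q * mono 1 (fun i : Fin 3 => l ^ (i : ℕ)) * Q⁻¹ ∈ Cfsg.GU 3 F q)
    (hb : Q * mono ExtraThree.shift 1 * Q⁻¹ ∈ Cfsg.GU 3 F q) :
    ∃ U ∈ Cfsg.GU 3 F q, ∀ M : GL (Fin 3) F, U * M * U⁻¹ = Q * M * Q⁻¹ := by
  classical
  obtain ⟨w, hw⟩ : ∃ w : Fin 3 → Fin 3 → F, ∀ i, w i = (Q : Matrix (Fin 3) (Fin 3) F) *ᵥ Pi.single i 1 :=
    ⟨_, fun i => rfl⟩
  have hconj : ∀ (σ : Equiv.Perm (Fin 3)) (d : Fin 3 → Fˣ) i,
      ((Q * mono σ d * Q⁻¹ : GL (Fin 3) F) : Matrix (Fin 3) (Fin 3) F) *ᵥ w i = (d i : F) • w (σ i) := by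
    intro σ d i
    rw [hw, hw, mulVec_mulVec, ← Units.val_mul, inv_mul_cancel_right, Units.val_mul, ← mulVec_mulVec,
      mono_mulVec_single, ← mulVec_smul, ← Pi.single_smul]
    rfl
  have hsm : ∀ (s t : F) u v, Cfsg.hermForm 3 F q (s • u) (t • v) = s * t ^ q * Cfsg.hermForm 3 F q u v := fun s t u v => by
    simp only [Cfsg.hermForm, Pi.smul_apply, smul_eq_mul, Finset.mul_sum, mul_pow]
    exact Finset.sum_congr rfl fun k _ => by ring
  have hoff : ∀ i j, i ≠ j → Cfsg.hermForm 3 F q (w i) (w j) = 0 := by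
    intro i j hij
    have h := (mem_gu_iff _).1 ha (w i) (w j)
    rw [hconj, hconj, Equiv.Perm.one_apply, Equiv.Perm.one_apply, hsm] at h
    by_contra h0
    have h1 : ((l ^ (i : ℕ) : Fˣ) : F) * ((l ^ (j : ℕ) : Fˣ) : F) ^ q = 1 :=
      mul_right_cancel₀ h0 (h.trans (one_mul _).symm)
    have h2 : ((l ^ (j : ℕ) : Fˣ) : F) * ((l ^ (j : ℕ) : Fˣ) : F) ^ q = 1 := by
      rw [← pow_succ', Units.val_pow_eq_pow_val, ← pow_mul, mul_comm, pow_mul, hlq, one_pow]
    have e := mul_right_cancel₀ (pow_ne_zero q (l ^ (j : ℕ)).ne_zero) (h1.trans h2.symm)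
    haveI : Fact (Nat.Prime 3) := ⟨Nat.prime_three⟩
    have ho : orderOf l = 3 := orderOf_eq_prime hl hl1
    exact hij (Fin.ext (pow_injOn_Iio_orderOf (by rw [ho]; exact i.2) (by rw [ho]; exact j.2) (Units.ext e)))
  obtain ⟨ν, hν⟩ : ∃ ν, Cfsg.hermForm 3 F q (w 0) (w 0) = ν := ⟨_, rfl⟩
  have hstep : ∀ i, Cfsg.hermForm 3 F q (w (ExtraThree.shift i)) (w (ExtraThree.shift i)) =
      Cfsg.hermForm 3 F q (w i) (w i) := fun i => by
    have h := (mem_gu_iff _).1 hb (w i) (w i)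
    rw [hconj, Pi.one_apply, Units.val_one, one_smul] at h
    exact h
  have hall : ∀ i, Cfsg.hermForm 3 F q (w i) (w i) = ν := by
    intro i
    fin_cases i
    · exact hν
    · exact (hstep 0).trans hν
    · exact (hstep 1).trans ((hstep 0).trans hν)
  have hν0 : ν ≠ 0 := by
    intro h0
    have hq := two_le_q hF
    obtain ⟨σ, hσ, -, -⟩ := exists_qPow hF
    have hz : w 0 = 0 := by
      refine hermForm_nondeg hσ (by omega) fun v => ?_
      rw [hermB_apply, ← hermForm_conj hF]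
      have : v = ∑ i, (((Q⁻¹ : GL (Fin 3) F) : Matrix (Fin 3) (Fin 3) F) *ᵥ v) i • w i := by
        conv_lhs => rw [← one_mulVec v, ← Units.mul_inv Q, ← mulVec_mulVec,
          pi_eq_sum_univ' (((Q⁻¹ : GL (Fin 3) F) : Matrix (Fin 3) (Fin 3) F) *ᵥ v), mulVec_sum]
        exact Finset.sum_congr rfl fun i _ => by rw [mulVec_smul, hw]
      rw [show Cfsg.hermForm 3 F q (w 0) v = 0 by
        rw [this, hermForm_sum_right hF]
        refine Finset.sum_eq_zero fun i _ => ?_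
        by_cases hi : (0 : Fin 3) = i
        · rw [← hi, hν, h0, mul_zero]
        · rw [hoff 0 i hi, mul_zero], zero_pow (by omega)]
    have := congrArg (((Q⁻¹ : GL (Fin 3) F) : Matrix (Fin 3) (Fin 3) F) *ᵥ ·) hz
    simp only [hw, mulVec_mulVec, Units.inv_mul, one_mulVec, mulVec_zero] at this
    simpa using congrFun this 0
  obtain ⟨μ, hμ⟩ := exists_norm_eq hF (show ν ^ q = ν by rw [← hν, hermForm_conj hF])
  have hμ0 : μ ≠ 0 := fun h => hν0 (by rw [← hμ, h, zero_pow (by omega)])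
  obtain ⟨S, hS⟩ : ∃ S : GL (Fin 3) F, (S : Matrix (Fin 3) (Fin 3) F) = μ⁻¹ • 1 :=
    ⟨⟨μ⁻¹ • 1, μ • 1, by simp [smul_smul, hμ0], by simp [smul_smul, hμ0]⟩, rfl⟩
  refine ⟨Q * S, mem_of_columns hF _ fun i j => ?_, fun M => ?_⟩
  · rw [Units.val_mul, hS, Matrix.mul_smul, mul_one, smul_mulVec, smul_mulVec, ← hw, ← hw, hsm]
    by_cases h : i = j
    · subst h
      rw [hall, if_pos rfl, ← pow_succ', _root_.inv_pow, hμ, inv_mul_cancel₀ hν0]
    · rw [hoff i j h, if_neg h, mul_zero]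
  · have hSc : S * M = M * S := Units.ext (by
      rw [Units.val_mul, Units.val_mul, hS, smul_mul_assoc, one_mul, mul_smul_comm, mul_one])
    rw [show Q * S * M * (Q * S)⁻¹ = Q * (S * M) * S⁻¹ * Q⁻¹ by group, hSc]
    group

end CfsgLib.Classical22.UnitaryThree
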