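/-
Unipotent isometries of alternating spaces: orthogonal Jordan blocks and their partitions.
-/
import Cfsg.Agent.Lib.Classical22.PrimeOrderSympWreath
import Cfsg.Agent.Lib.Classical22.NilpotentPartition
import Cfsg.Agent.Lib.Classical.SpRegularClasses
import Cfsg.Agent.Lib.Classical.SelfDualBlocks

set_option autoImplicit false

namespace CfsgLib.Classical22.PrimeMaps.Symp

open Module Polynomial CfsgLib.Classical CfsgLib.Classical22.NilPart

universe u

variable {F : Type u} [Field F]

section Structure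

variable {V : Type u} [AddCommGroup V] [Module F V] [FiniteDimensional F V]
  {B : LinearMap.BilinForm F V} {f : V →ₗ[F] V}

omit [FiniteDimensional F V] in
theorem unip_skew (hB : ∀ u v, B (f u) (f v) = B u v) (x y : V) :
    B ((f - 1) x) y = - B (f x) ((f - 1) y) := by
  simp only [LinearMap.sub_apply, Module.End.one_apply, map_sub, hB]
  ring

omit [FiniteDimensional F V] in
theorem unip_skew_pow (hB : ∀ u v, B (f u) (f v) = B u v) : ∀ (k : ℕ) (x y : V),
    B (((f - 1) ^ k) x) y = (-1) ^ k * B ((f ^ k) x) (((f - 1) ^ k) y) := by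
  intro k
  induction k with
  | zero => intro x y; simp
  | succ k ih =>
    intro x y
    have hcomm : f * (f - 1) ^ k = (f - 1) ^ k * f := ((Commute.refl f).sub_right (Commute.one_right f)).pow_right k
    rw [pow_succ' (f - 1), Module.End.mul_apply, unip_skew hB, ← Module.End.mul_apply f, hcomm, Module.End.mul_apply, ih,
      pow_succ f, Module.End.mul_apply, ← Module.End.mul_apply ((f - 1) ^ k), ← pow_succ, pow_succ' (f - 1), pow_succ (-1 : F)]
    ring

omit [FiniteDimensional F V] in
theorem unip_top (hB : ∀ u v, B (f u) (f v) = B u v) {e : ℕ} (he : 1 ≤ e) {y : V} (hy : ((f - 1) ^ e) y = 0) :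
    ∀ (j : ℕ) (w : V), B ((f ^ j) w) (((f - 1) ^ (e - 1)) y) = B w (((f - 1) ^ (e - 1)) y) := by
  have h1 : ∀ w, B (f w) (((f - 1) ^ (e - 1)) y) = B w (((f - 1) ^ (e - 1)) y) := fun w => by
    have h := unip_skew hB w (((f - 1) ^ (e - 1)) y)
    rw [← Module.End.mul_apply, ← pow_succ', Nat.sub_add_cancel he, hy, map_zero, neg_zero, LinearMap.sub_apply,
      Module.End.one_apply, map_sub, LinearMap.sub_apply, sub_eq_zero] at h
    exact h
  intro j
  induction j with
  | zero => intro w; rfl
  | succ j ih => intro w; rw [pow_succ' f, Module.End.mul_apply, h1, ih]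

omit [FiniteDimensional F V] in
/-- The leading pairing of two vectors of height at most `e`. -/
theorem unip_pair (hB : ∀ u v, B (f u) (f v) = B u v) {e : ℕ} (he : 1 ≤ e) {x y : V} (hy : ((f - 1) ^ e) y = 0)
    (i j : ℕ) :
    B (((f - 1) ^ i) x) (((f - 1) ^ j) y) =
      if e ≤ i + j then 0 else if i + j = e - 1 then (-1) ^ i * B x (((f - 1) ^ (e - 1)) y) else
        B (((f - 1) ^ i) x) (((f - 1) ^ j) y) := by
  split_ifs with h1 h2
  · rw [unip_skew_pow hB, ← Module.End.mul_apply, ← pow_add, show i + j = (i + j - e) + e by omega, pow_add,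
      Module.End.mul_apply, hy, map_zero, map_zero, mul_zero]
  · rw [unip_skew_pow hB, ← Module.End.mul_apply, ← pow_add, h2, unip_top hB he hy]
  · rfl

theorem chain_nd (hB : ∀ u v, B (f u) (f v) = B u v) {X : Submodule F V} (hX : Inv f X) {e : ℕ} (he : 1 ≤ e)
    (hN : ∀ x ∈ X, ((f - 1) ^ e) x = 0) {s : ℕ} (g : Fin s → V) (hg : ∀ a, g a ∈ X)
    (hM : ∀ c : Fin s → F, (∀ a, ∑ b, c b * B (g b) (((f - 1) ^ (e - 1)) (g a)) = 0) → c = 0) :
    ∃ Z, Inv f Z ∧ Nd B Z ∧ Z ≤ X ∧ finrank F Z = s * e ∧
      ∀ k, finrank F (Z.map ((f - 1) ^ k) : Submodule F V) = s * (e - k) := by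
  classical
  obtain ⟨w, hw⟩ : ∃ w : Fin s × Fin e → V, ∀ x, w x = ((f - 1) ^ (x.2 : ℕ)) (g x.1) := ⟨_, fun x => rfl⟩
  have hXN : Inv (f - 1) X := fun x hx => by
    rw [LinearMap.sub_apply, Module.End.one_apply]; exact X.sub_mem (hX x hx) hx
  have hNg : ∀ a, ((f - 1) ^ e) (g a) = 0 := fun a => hN _ (hg a)
  have key : ∀ c : Fin s × Fin e → F, (∀ x, B (∑ y, c y • w y) (w x) = 0) → c = 0 := by
    intro c hc
    suffices ∀ i : ℕ, ∀ hi : i < e, ∀ b, c (b, ⟨i, hi⟩) = 0 from funext fun x => this x.2 x.2.2 x.1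
    intro i
    induction i using Nat.strong_induction_on with
    | _ i ih =>
      intro hi b
      have h : ∀ a, ∑ b, c (b, ⟨i, hi⟩) * B (g b) (((f - 1) ^ (e - 1)) (g a)) = 0 := fun a => by
        have h1 := hc (a, ⟨e - 1 - i, by omega⟩)
        rw [map_sum, LinearMap.sum_apply, Fintype.sum_prod_type] at h1
        have h2 : ∀ b, ∑ k, B (c (b, k) • w (b, k)) (w (a, ⟨e - 1 - i, by omega⟩)) =
            (-1) ^ i * (c (b, ⟨i, hi⟩) * B (g b) (((f - 1) ^ (e - 1)) (g a))) := fun b => by
          rw [Finset.sum_eq_single ⟨i, hi⟩ (fun k _ hk => ?_) (by simp)]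
          · rw [map_smul, LinearMap.smul_apply, hw, hw, unip_pair hB he (hNg a)]
            simp only
            rw [if_neg (by omega), if_pos (by omega), smul_eq_mul]
            ring
          · rw [map_smul, LinearMap.smul_apply]
            rcases lt_trichotomy (k : ℕ) i with hlt | heq | hgt
            · rw [show c (b, k) = 0 from ih k hlt k.2 b, zero_smul]
            · exact absurd (Fin.ext heq) hk
            · rw [hw, hw, unip_pair hB he (hNg a)]
              simp only
              rw [if_pos (by omega), smul_zero]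
        rw [Finset.sum_congr rfl fun b _ => h2 b, ← Finset.mul_sum] at h1
        exact (mul_eq_zero.1 h1).resolve_left (pow_ne_zero _ (neg_ne_zero.2 one_ne_zero))
      exact congrFun (hM _ h) b
  have hli : LinearIndependent F w := Fintype.linearIndependent_iff.2 fun c hc => by
    exact congrFun (key c fun x => by rw [hc, map_zero, LinearMap.zero_apply])
  refine ⟨Submodule.span F (Set.range w), ?_, ?_, Submodule.span_le.2 ?_, ?_, fun k => ?_⟩
  · intro x hx
    have hsub : ∀ x ∈ Submodule.span F (Set.range w), (f - 1) x ∈ Submodule.span F (Set.range w) := by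
      intro x hx
      induction hx using Submodule.span_induction with
      | zero => rw [map_zero]; exact Submodule.zero_mem _
      | add y y' _ _ h h' => rw [map_add]; exact Submodule.add_mem _ h h'
      | smul a y _ h => rw [map_smul]; exact Submodule.smul_mem _ _ h
      | mem y hy =>
        obtain ⟨⟨a, i⟩, rfl⟩ := hy
        rw [hw, ← Module.End.mul_apply, ← pow_succ']
        rcases lt_or_ge ((i : ℕ) + 1) e with hlt | hge
        · exact Submodule.subset_span ⟨(a, ⟨(i : ℕ) + 1, hlt⟩), by rw [hw]⟩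
        · rw [show (i : ℕ) + 1 = e by omega, hNg]; exact Submodule.zero_mem _
    have h := Submodule.add_mem _ (hsub x hx) hx
    rwa [LinearMap.sub_apply, Module.End.one_apply, sub_add_cancel] at h
  · intro u hu hu'
    obtain ⟨c, rfl⟩ := (Submodule.mem_span_range_iff_exists_fun F).1 hu
    rw [key c fun x => hu' _ (Submodule.subset_span ⟨x, rfl⟩)]
    simp
  · rintro _ ⟨⟨a, i⟩, rfl⟩
    rw [hw]; exact inv_pow hXN _ _ (hg a)
  · rw [finrank_span_eq_card hli, Fintype.card_prod, Fintype.card_fin, Fintype.card_fin]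
  · obtain ⟨φ, hφ⟩ : ∃ φ : Fin s × Fin (e - k) → Fin s × Fin e, ∀ x, φ x = (x.1, ⟨(x.2 : ℕ) + k, by have := x.2.2; omega⟩) :=
      ⟨_, fun x => rfl⟩
    have hφi : Function.Injective φ := fun x y h => by
      rw [hφ, hφ, Prod.ext_iff, Fin.ext_iff] at h
      exact Prod.ext (Fin.ext h.1) (Fin.ext (by simpa using h.2))
    have hmap : (Submodule.span F (Set.range w)).map ((f - 1) ^ k) = Submodule.span F (Set.range (w ∘ φ)) := by
      rw [Submodule.map_span]
      refine le_antisymm (Submodule.span_le.2 ?_) (Submodule.span_le.2 ?_)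
      · rintro _ ⟨_, ⟨⟨a, i⟩, rfl⟩, rfl⟩
        rw [hw, ← Module.End.mul_apply, ← pow_add]
        rcases lt_or_ge (k + (i : ℕ)) e with hlt | hge
        · refine Submodule.subset_span ⟨(a, ⟨i, by omega⟩), ?_⟩
          simp only [Function.comp_apply, hφ, hw, add_comm]
        · rw [show k + (i : ℕ) = (k + i - e) + e by omega, pow_add, Module.End.mul_apply, hNg, map_zero]
          exact Submodule.zero_mem _
      · rintro _ ⟨⟨a, i⟩, rfl⟩
        refine Submodule.subset_span ⟨w (a, ⟨i, by omega⟩), ⟨_, rfl⟩, ?_⟩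
        simp only [Function.comp_apply, hφ, hw, ← Module.End.mul_apply, ← pow_add, add_comm]
    rw [hmap, finrank_span_eq_card (hli.comp φ hφi), Fintype.card_prod, Fintype.card_fin, Fintype.card_fin]

/-- Odd parts have even multiplicity. -/
def OddPaired (μ : Multiset ℕ) : Prop := ∀ a : ℕ, Odd a → Even (μ.count a)

theorem unip_partition (h2 : (2 : F) ≠ 0) (hA : B.IsAlt) (hB : ∀ u v, B (f u) (f v) = B u v) {p : ℕ} :
    ∀ X : Submodule F V, Inv f X → Nd B X → (∀ x ∈ X, ((f - 1) ^ p) x = 0) →
      ∃ μ : Multiset ℕ, (∀ a ∈ μ, 0 < a ∧ a ≤ p) ∧ OddPaired μ ∧ μ.sum = finrank F X ∧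
        (∀ k, finrank F (X.map ((f - 1) ^ k) : Submodule F V) = prank μ k) ∧
        ∀ ν ≤ μ, OddPaired ν → ∃ W, Inv f W ∧ Nd B W ∧ W ≤ X ∧ finrank F W = ν.sum := by
  classical
  intro X
  obtain ⟨d, hd⟩ : ∃ d, finrank F X = d := ⟨_, rfl⟩
  induction d using Nat.strong_induction_on generalizing X with
  | _ d ih =>
    intro hX hXn hN
    have hbot : ∃ W, Inv f W ∧ Nd B W ∧ W ≤ X ∧ finrank F W = (0 : Multiset ℕ).sum :=
      ⟨⊥, fun w hw => by rw [(Submodule.mem_bot F).1 hw, map_zero]; exact Submodule.zero_mem _,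
        fun u hu _ => (Submodule.mem_bot F).1 hu, bot_le, by simp⟩
    by_cases h0 : X = ⊥
    · subst h0
      exact ⟨0, by simp, fun a _ => by simp, by simp, fun k => by simp [prank],
        fun ν hν _ => by rw [le_bot_iff.1 hν]; exact hbot⟩
    have hex : ∃ e : ℕ, ∀ x ∈ X, ((f - 1) ^ e) x = 0 := ⟨p, hN⟩
    obtain ⟨e, he⟩ : ∃ e, e = Nat.find hex := ⟨_, rfl⟩
    have hNe : ∀ x ∈ X, ((f - 1) ^ e) x = 0 := he ▸ Nat.find_spec hex
    have hep : e ≤ p := he ▸ Nat.find_le hN
    have he1 : 1 ≤ e := Nat.pos_of_ne_zero fun h => by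
      obtain ⟨x, hx, hx0⟩ := X.exists_mem_ne_zero_of_ne_bot h0
      exact hx0 (by simpa [h] using hNe x hx)
    obtain ⟨v, hv, hv0⟩ : ∃ v ∈ X, ((f - 1) ^ (e - 1)) v ≠ 0 := by
      by_contra hcon
      push Not at hcon
      have := Nat.find_le (h := hex) hcon
      omega
    have hXN : Inv (f - 1) X := fun x hx => by
      rw [LinearMap.sub_apply, Module.End.one_apply]; exact X.sub_mem (hX x hx) hx
    obtain ⟨b, hb⟩ : ∃ b : V → V → F, ∀ x y, b x y = B x (((f - 1) ^ (e - 1)) y) := ⟨_, fun _ _ => rfl⟩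
    have hflip : ∀ x ∈ X, ∀ y ∈ X, b y x = (-1) ^ e * b x y := fun x hx y hy => by
      rw [hb, hb, ← LinearMap.IsAlt.neg hA (((f - 1) ^ (e - 1)) x) y, unip_skew_pow hB,
        unip_top hB he1 (hNe y hy), show (-1 : F) ^ e = -(-1) ^ (e - 1) by
          conv_lhs => rw [← Nat.sub_add_cancel he1]
          rw [pow_succ, mul_neg, mul_one]]
      ring
    obtain ⟨u, hu, huv⟩ : ∃ u ∈ X, b u v ≠ 0 := by
      by_contra hcon
      push Not at hcon
      refine hv0 (hXn _ (inv_pow hXN _ v hv) fun y hy => hA.isRefl _ _ ?_)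
      rw [← hb]
      exact hcon y hy
    obtain ⟨s, g, hg, hM, hse⟩ : ∃ (s : ℕ) (g : Fin s → V), (∀ a, g a ∈ X) ∧
        (∀ c : Fin s → F, (∀ a, ∑ b', c b' * B (g b') (((f - 1) ^ (e - 1)) (g a)) = 0) → c = 0) ∧
        (s = 1 ∧ Even e ∨ s = 2 ∧ Odd e) := by
      rcases Nat.even_or_odd e with hev | hod
      · obtain ⟨x, hx, hxx⟩ : ∃ x ∈ X, b x x ≠ 0 := by
          by_contra hcon
          push Not at hcon
          have h1 := hcon (u + v) (X.add_mem hu hv)
          have h3 := hflip u hu v hv
          rw [hev.neg_one_pow, one_mul] at h3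
          simp only [hb, map_add, LinearMap.add_apply] at h1 hcon h3 huv
          rw [hcon u hu, hcon v hv, h3] at h1
          exact huv ((mul_eq_zero.1 (show (2 : F) * B u (((f - 1) ^ (e - 1)) v) = 0 by linear_combination h1)).resolve_left h2)
        refine ⟨1, fun _ => x, fun _ => hx, fun c hc => funext fun a => ?_, Or.inl ⟨rfl, hev⟩⟩
        have h := hc 0
        rw [Fin.sum_univ_one, ← hb] at h
        rw [Subsingleton.elim a 0]
        exact (mul_eq_zero.1 h).resolve_right hxx
      · have hzero : ∀ x ∈ X, b x x = 0 := fun x hx => by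
          have h := hflip x hx x hx
          rw [hod.neg_one_pow] at h
          exact (mul_eq_zero.1 (show (2 : F) * b x x = 0 by linear_combination h)).resolve_left h2
        refine ⟨2, ![u, v], fun a => by fin_cases a <;> assumption, fun c hc => ?_, Or.inr ⟨rfl, hod⟩⟩
        have h0 := hc 0
        have h1 := hc 1
        simp only [Fin.sum_univ_two, Matrix.cons_val_zero, Matrix.cons_val_one, Matrix.cons_val_fin_one, ← hb,
          hzero u hu, hzero v hv, mul_zero, zero_add, add_zero, mul_eq_zero] at h0 h1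
        rw [hflip u hu v hv, hod.neg_one_pow, neg_one_mul, neg_eq_zero] at h0
        funext a
        fin_cases a
        · exact h1.resolve_right huv
        · exact h0.resolve_right huv
    obtain ⟨Z, hZ, hZn, hZX, hZd, hZr⟩ := chain_nd hB hX he1 hNe g hg hM
    obtain ⟨h1, hs1, h3, h4⟩ := compl_in hA hZn hZX
    have hpow : ∀ k w, w ∈ Z → (f ^ k) w ∈ Z := fun k w hw => pow_inv hZ k w hw
    have hC : Inv f (X ⊓ B.orthogonal Z) := fun x hx => by
      refine ⟨hX x hx.1, fun n hn => ?_⟩
      have hinj : Function.Injective (f.restrict hZ) := (injective_iff_map_eq_zero _).2 fun y hy =>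
        Subtype.ext (hZn y y.2 fun z hz => by
          have hy' : f (y : V) = 0 := congrArg Subtype.val hy
          rw [← hB, hy', map_zero, LinearMap.zero_apply])
      obtain ⟨n', hn'⟩ := (LinearMap.injective_iff_surjective (f := f.restrict hZ)).1 hinj ⟨n, hn⟩
      have hn'' : f (n' : V) = n := congrArg Subtype.val hn'
      rw [← hn'']
      exact (hB _ _).trans (hx.2 _ n'.2)
    have hs0 : 0 < s := by omega
    have hpos : 0 < s * e := Nat.mul_pos hs0 he1
    obtain ⟨μ, m1, m2, m3, m4, m5⟩ := ih _ (by omega) (X ⊓ B.orthogonal Z) rfl hC (h3 hXn) fun x hx => hN x hx.1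
    refine ⟨Multiset.replicate s e + μ, fun a ha => ?_, fun a ha => ?_, ?_, fun k => ?_, fun ν hν hνp => ?_⟩
    · rcases Multiset.mem_add.1 ha with h | h
      · rw [Multiset.eq_of_mem_replicate h]; exact ⟨he1, hep⟩
      · exact m1 a h
    · rw [Multiset.count_add, Multiset.count_replicate]
      refine Even.add ?_ (m2 a ha)
      rcases hse with ⟨rfl, hev⟩ | ⟨rfl, -⟩
      · rw [if_neg fun h => Nat.not_even_iff_odd.2 ha (by simpa [h] using hev)]
        exact ⟨0, rfl⟩
      · split_ifs
        exacts [even_two, ⟨0, rfl⟩]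
    · rw [Multiset.sum_add, Multiset.sum_replicate, smul_eq_mul, m3, ← hZd]
      exact h4
    · have hNi : ∀ {W : Submodule F V}, Inv f W → Inv (f - 1) W := fun hW x hx => by
        rw [LinearMap.sub_apply, Module.End.one_apply]; exact Submodule.sub_mem _ (hW x hx) hx
      conv_lhs => rw [← hs1]
      rw [rank_add (hNi hZ) (hNi hC) h1, hZr, m4, prank_add]
      congr 1
      simp [prank]
    · by_cases hcnt : s ≤ ν.count e
      · obtain ⟨ν', rfl⟩ := le_iff_exists_add.1 (Multiset.le_count_iff_replicate_le.1 hcnt)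
        obtain ⟨W, hW, hWn, hWC, hWd⟩ := m5 ν' (le_of_add_le_add_left hν) fun a ha => by
          have h := hνp a ha
          rw [Multiset.count_add, Multiset.count_replicate] at h
          refine (Nat.even_add.1 h).1 ?_
          rcases hse with ⟨rfl, hev⟩ | ⟨rfl, -⟩
          · rw [if_neg fun h' => Nat.not_even_iff_odd.2 ha (by simpa [h'] using hev)]
            exact ⟨0, rfl⟩
          · split_ifs
            exacts [even_two, ⟨0, rfl⟩]
        refine ⟨Z ⊔ W, fun x hx => ?_, nd_sup hA hZn hWn (hWC.trans inf_le_right),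
          sup_le hZX (hWC.trans inf_le_left), ?_⟩
        · obtain ⟨y, hy, z, hz, rfl⟩ := Submodule.mem_sup.1 hx
          rw [map_add]
          exact Submodule.add_mem_sup (hZ y hy) (hW z hz)
        · have h := Submodule.finrank_sup_add_finrank_inf_eq Z W
          rw [show Z ⊓ W = ⊥ from eq_bot_iff.2 (h1 ▸ inf_le_inf_left Z hWC), finrank_bot, add_zero, hZd, hWd] at h
          rw [h, Multiset.sum_add, Multiset.sum_replicate, smul_eq_mul]
      · have hle : ν ≤ μ := by
          refine Multiset.le_iff_count.2 fun a => ?_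
          by_cases hae : a = e
          · subst hae
            rcases hse with ⟨rfl, -⟩ | ⟨rfl, hod⟩
            · omega
            · obtain ⟨r, hr⟩ := hνp a hod
              omega
          · have := Multiset.le_iff_count.1 hν a
            rwa [Multiset.count_add, Multiset.count_replicate, if_neg (Ne.symm hae), zero_add] at this
        obtain ⟨W, hW, hWn, hWC, hWd⟩ := m5 ν hle hνp
        exact ⟨W, hW, hWn, hWC.trans inf_le_left, hWd⟩

end Structure

section Models

/-- A unipotent isometry of a standard symplectic space with the given partition. -/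
def HasModel (F : Type u) [Field F] (p : ℕ) (μ : Multiset ℕ) : Prop :=
  ∃ (d : ℕ) (f : Module.End F (Fin d ⊕ Fin d → F)), 2 * d = μ.sum ∧
    (∀ u v, spBilin d F (f u) (f v) = spBilin d F u v) ∧ (f - 1) ^ p = 0 ∧
    ∀ k, finrank F (LinearMap.range ((f - 1) ^ k)) = prank μ k

theorem hasModel_of_space {p : ℕ} {μ : Multiset ℕ} {W : Type u} [AddCommGroup W] [Module F W] [FiniteDimensional F W]
    (B : LinearMap.BilinForm F W) (hA : B.IsAlt) (hn : ∀ x, (∀ y, B x y = 0) → x = 0) (A : Module.End F W)
    (hsum : finrank F W = μ.sum) (hB : ∀ u v, B (A u) (A v) = B u v) (hp : (A - 1) ^ p = 0)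
    (hr : ∀ k, finrank F (LinearMap.range ((A - 1) ^ k)) = prank μ k) : HasModel F p μ := by
  obtain ⟨d, hd, e, he⟩ := exists_symp_equiv B hA hn
  refine ⟨d, e.symm.conjAlgEquiv F A, by omega, fun u v => ?_, ?_, fun k => ?_⟩
  · rw [spBilin_apply', spBilin_apply', ← he, ← he]
    simp [hB]
  · rw [← map_one (e.symm.conjAlgEquiv F), ← map_sub, ← map_pow, hp, map_zero]
  · rw [← hr k, ← rank_conj e.symm (A - 1) k, ← map_one (e.symm.conjAlgEquiv F), ← map_sub]
    rfl

theorem finrank_range_prodMap {V W : Type u} [AddCommGroup V] [Module F V] [FiniteDimensional F V] [AddCommGroup W]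
    [Module F W] [FiniteDimensional F W] (A : Module.End F V) (C : Module.End F W) :
    finrank F (LinearMap.range (A.prodMap C)) = finrank F (LinearMap.range A) + finrank F (LinearMap.range C) := by
  rw [LinearMap.range_prodMap, LinearMap.prod_eq_sup_map]
  have hs := Submodule.finrank_sup_add_finrank_inf_eq
    ((LinearMap.range A).map (LinearMap.inl F V W)) ((LinearMap.range C).map (LinearMap.inr F V W))
  rw [show (LinearMap.range A).map (LinearMap.inl F V W) ⊓ (LinearMap.range C).map (LinearMap.inr F V W) = ⊥ from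
    eq_bot_iff.2 (le_trans (inf_le_inf LinearMap.map_le_range LinearMap.map_le_range)
      (disjoint_iff.1 LinearMap.isCompl_range_inl_inr.disjoint).le), finrank_bot, add_zero,
    ← (Submodule.equivMapOfInjective _ LinearMap.inl_injective _).finrank_eq,
    ← (Submodule.equivMapOfInjective _ LinearMap.inr_injective _).finrank_eq] at hs
  exact hs

theorem hasModel_add {p : ℕ} {μ ν : Multiset ℕ} (hμ : HasModel F p μ) (hν : HasModel F p ν) :
    HasModel F p (μ + ν) := by
  obtain ⟨d, f, hd, hf, hfp, hfr⟩ := hμ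
  obtain ⟨d', g, hd', hg, hgp, hgr⟩ := hν
  have hpow : ∀ k, (f.prodMap g - 1) ^ k = ((f - 1) ^ k).prodMap ((g - 1) ^ k) := fun k => by
    rw [show f.prodMap g - 1 = LinearMap.prodMapAlgHom F (Fin d ⊕ Fin d → F) (Fin d' ⊕ Fin d' → F) (f - 1, g - 1) from
      LinearMap.ext fun x => Prod.ext (by simp) (by simp), ← map_pow]
    rfl
  refine hasModel_of_space
    ((spBilin d F).compl₁₂ (LinearMap.fst F _ (Fin d' ⊕ Fin d' → F)) (LinearMap.fst F _ (Fin d' ⊕ Fin d' → F)) +
      (spBilin d' F).compl₁₂ (LinearMap.snd F (Fin d ⊕ Fin d → F) _) (LinearMap.snd F (Fin d ⊕ Fin d → F) _))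
    (fun x => ?_) (fun x hx => ?_) (f.prodMap g) ?_ (fun u v => by simp [hf, hg]) ?_ (fun k => ?_)
  · simp [spBilin_isAlt x.1, spBilin_isAlt x.2]
  · refine Prod.ext (sympForm_nondeg fun y => ?_) (sympForm_nondeg fun y => ?_)
    · simpa [spBilin_apply'] using (by simpa using hx (y, 0) : spBilin d F x.1 y = 0)
    · simpa [spBilin_apply'] using (by simpa using hx (0, y) : spBilin d' F x.2 y = 0)
  · rw [Module.finrank_prod, finrank_std, finrank_std, hd, hd', Multiset.sum_add]
  · rw [hpow, hfp, hgp]; rfl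
  · rw [hpow, prank_add, ← hfr, ← hgr, finrank_range_prodMap]

theorem card_add_prank_one {μ : Multiset ℕ} (hμ : ∀ a ∈ μ, 0 < a) : Multiset.card μ + prank μ 1 = μ.sum := by
  induction μ using Multiset.induction with
  | empty => simp [prank]
  | cons b μ ih =>
    have := ih fun a ha => hμ a (Multiset.mem_cons_of_mem ha)
    have := hμ b (Multiset.mem_cons_self b μ)
    simp only [prank, Multiset.map_cons, Multiset.sum_cons, Multiset.card_cons] at *
    omega

/-- A model with the fewest possible kernel has equal blocks. -/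
theorem hasModel_replicate {p a s : ℕ} (h2 : (2 : F) ≠ 0) (hap : a ≤ p) {W : Type u} [AddCommGroup W] [Module F W]
    [FiniteDimensional F W] (B : LinearMap.BilinForm F W) (hA : B.IsAlt) (hn : ∀ x, (∀ y, B x y = 0) → x = 0)
    (A : Module.End F W) (hsum : finrank F W = s * a) (hB : ∀ u v, B (A u) (A v) = B u v) (hp : (A - 1) ^ a = 0)
    (hr : finrank F (LinearMap.range (A - 1)) + s = s * a) : HasModel F p (Multiset.replicate s a) := by
  obtain ⟨μ, hμa, -, hμs, hμr, -⟩ := unip_partition (p := a) h2 hA hB ⊤ (fun _ _ => Submodule.mem_top)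
    (fun u _ h => hn u fun v => h v Submodule.mem_top) fun x _ => by rw [hp]; rfl
  rw [finrank_top, hsum] at hμs
  have h1 := hμr 1
  rw [pow_one, Submodule.map_top] at h1
  have hcard := card_add_prank_one fun b hb => (hμa b hb).1
  have hμ : μ = Multiset.replicate s a := by
    refine Multiset.eq_replicate.2 ⟨by omega, fun b hb => ?_⟩
    by_contra hne
    have hlt : b < a := lt_of_le_of_ne (hμa b hb).2 hne
    obtain ⟨μ', rfl⟩ := Multiset.exists_cons_of_mem hb
    have := Multiset.sum_le_card_nsmul μ' a fun c hc => (hμa c (Multiset.mem_cons_of_mem hc)).2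
    simp only [Multiset.sum_cons, Multiset.card_cons, smul_eq_mul] at *
    have hs : s = Multiset.card μ' + 1 := by omega
    subst hs
    rw [Nat.succ_mul] at hμs
    omega
  refine hasModel_of_space B hA hn A (by rw [hsum, Multiset.sum_replicate, smul_eq_mul]) hB
    (pow_eq_zero_of_le hap hp) fun k => ?_
  have := hμr k
  rw [Submodule.map_top, hμ] at this
  exact this

variable [Fintype F]

theorem hasModel_even {p a : ℕ} (h2 : (2 : F) ≠ 0) (ha : Even a) (ha0 : 0 < a) (hap : a ≤ p) :
    HasModel F p (Multiset.replicate 1 a) := by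
  obtain ⟨m, rfl⟩ := ha
  obtain ⟨u, hu, hur⟩ := CfsgLib.Classical.SpRegular.exists_regular (F := F) (m := m) h2 (by omega)
  obtain ⟨A, hA⟩ : ∃ A : Module.End F (Fin m ⊕ Fin m → F),
      A = Matrix.toLinAlgEquiv' (u : Matrix (Fin m ⊕ Fin m) (Fin m ⊕ Fin m) F) := ⟨_, rfl⟩
  have hsub : A - 1 = Matrix.toLinAlgEquiv' ((u : Matrix (Fin m ⊕ Fin m) (Fin m ⊕ Fin m) F) - 1) := by
    rw [hA, map_sub, map_one]
  refine hasModel_replicate h2 hap (spBilin m F) spBilin_isAlt (fun x hx => sympForm_nondeg hx) A
    (by rw [finrank_std]; omega) (fun u' v => by rw [hA]; exact sp_form u u' v) ?_ ?_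
  · rw [hsub, ← map_pow, show m + m = 2 * m by ring, hu, map_zero]
  · rw [hsub]
    show finrank F (LinearMap.range (Matrix.toLin' ((u : Matrix (Fin m ⊕ Fin m) (Fin m ⊕ Fin m) F) - 1))) + 1 = _
    refine (congrArg (· + 1) hur).trans ?_
    omega

theorem hasModel_pair {p a : ℕ} (h2 : (2 : F) ≠ 0) (ha0 : 0 < a) (hap : a ≤ p) :
    HasModel F p (Multiset.replicate 2 a) := by
  classical
  obtain ⟨S, hS⟩ : ∃ S : Module.End F (Fin a → F), S = CfsgLib.Classical22.PrimeMaps.shift F a := ⟨_, rfl⟩
  have hSa : S ^ a = 0 := LinearMap.ext fun v => funext fun i => by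
    rw [hS, shift_pow, dif_neg (by omega)]; rfl
  obtain ⟨E, hE⟩ : IsUnit (1 + S) := IsNilpotent.isUnit_one_add ⟨a, hSa⟩
  have hcomm : Commute ((E⁻¹ : (Module.End F (Fin a → F))ˣ) : Module.End F (Fin a → F)) S := by
    have : Commute (E : Module.End F (Fin a → F)) S := by rw [hE]; exact (Commute.one_left S).add_left (Commute.refl S)
    exact this.units_inv_left
  have hinv : ((E⁻¹ : (Module.End F (Fin a → F))ˣ) : Module.End F (Fin a → F)) - 1 =
      -(((E⁻¹ : (Module.End F (Fin a → F))ˣ) : Module.End F (Fin a → F)) * S) := by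
    have h := Units.inv_mul E
    rw [hE, mul_add, mul_one] at h
    linear_combination (norm := abel) h
  obtain ⟨A, hA⟩ : ∃ A : Module.End F ((Fin a → F) × Module.Dual F (Fin a → F)),
      A = ((E : Module.End F (Fin a → F))).prodMap ((E⁻¹ : (Module.End F (Fin a → F))ˣ) : Module.End F (Fin a → F)).dualMap :=
    ⟨_, rfl⟩
  obtain ⟨D, hD⟩ : ∃ D : LinearMap.BilinForm F ((Fin a → F) × Module.Dual F (Fin a → F)),
      ∀ x y, D x y = x.2 y.1 - y.2 x.1 :=
    ⟨(LinearMap.id (R := F)).compl₁₂ (LinearMap.snd F (Fin a → F) (Module.Dual F (Fin a → F))) (LinearMap.fst F (Fin a → F) _) -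
      ((LinearMap.id (R := F)).compl₁₂ (LinearMap.snd F (Fin a → F) (Module.Dual F (Fin a → F))) (LinearMap.fst F (Fin a → F) _)).flip,
      fun x y => by simp⟩
  have hsub : A - 1 = S.prodMap (((E⁻¹ : (Module.End F (Fin a → F))ˣ) : Module.End F (Fin a → F)) - 1).dualMap := by
    rw [hA, hE]
    exact LinearMap.ext fun x => Prod.ext (by simp) (LinearMap.ext fun v => by simp)
  have hSr : finrank F (LinearMap.range S) + 1 = a := by
    have h := LinearMap.finrank_range_add_finrank_ker S
    rw [Module.finrank_fin_fun] at h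
    have hk : LinearMap.ker S = Submodule.span F {Pi.single (⟨0, ha0⟩ : Fin a) (1 : F)} := by
      have hsh : ∀ (v : Fin a → F) (i : Fin a), S v i = if h : i.val + 1 < a then v ⟨i.val + 1, h⟩ else 0 := fun v i => by
        have := shift_pow (F := F) a 1 v i
        rwa [pow_one, ← hS] at this
      ext v
      rw [LinearMap.mem_ker, Submodule.mem_span_singleton]
      constructor
      · intro hv
        refine ⟨v ⟨0, ha0⟩, funext fun i => ?_⟩
        rw [Pi.smul_apply, Pi.single_apply, smul_eq_mul]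
        split_ifs with hi
        · rw [hi, mul_one]
        · have hi0 : (i : ℕ) ≠ 0 := fun e => hi (Fin.ext e)
          have h' := congrFun hv ⟨(i : ℕ) - 1, by omega⟩
          rw [hsh, dif_pos (by simp only; omega), Pi.zero_apply] at h'
          rw [mul_zero, ← h']
          congr 1
          exact Fin.ext (by simp only; omega)
      · rintro ⟨c, rfl⟩
        funext i
        rw [hsh, Pi.zero_apply]
        split_ifs
        · rw [Pi.smul_apply, Pi.single_eq_of_ne (by rw [Ne, Fin.ext_iff]; simp), smul_zero]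
        · rfl
    rw [hk, finrank_span_singleton (by simp)] at h
    exact h
  refine hasModel_replicate h2 hap D (fun x => by show D x x = 0; rw [hD, sub_self]) (fun x hx => ?_) A
    (by rw [Module.finrank_prod, Subspace.dual_finrank_eq, Module.finrank_fin_fun]; ring) (fun x y => ?_) ?_ ?_
  · have h1 : x.2 = 0 := LinearMap.ext fun v => by simpa [hD] using hx (v, 0)
    refine Prod.ext ((Module.forall_dual_apply_eq_zero_iff F x.1).1 fun g => ?_) h1
    simpa [hD, h1] using hx (0, g)
  · rw [hD, hD, hA]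
    simp only [LinearMap.prodMap_apply, LinearMap.dualMap_apply, ← Module.End.mul_apply, Units.inv_mul,
      Module.End.one_apply]
  · have hzero : (((E⁻¹ : (Module.End F (Fin a → F))ˣ) : Module.End F (Fin a → F)) - 1) ^ a = 0 := by
      rw [hinv, ← neg_one_smul F, _root_.smul_pow, hcomm.mul_pow, hSa, mul_zero, smul_zero]
    rw [hsub, CfsgLib.Classical.SDBlock.prodMap_pow, hSa, CfsgLib.Classical.SDBlock.dualMap_pow, hzero]
    exact LinearMap.ext fun x => by ext <;> simp
  · rw [hsub, finrank_range_prodMap,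
      LinearMap.finrank_range_dualMap_eq_finrank_range, hinv, LinearMap.range_neg, Module.End.mul_eq_comp,
      LinearMap.range_comp,
      ← (Submodule.equivMapOfInjective _ ((Module.End.isUnit_iff _).1 (E⁻¹).isUnit).1 _).finrank_eq]
    omega

theorem hasModel_partition {p : ℕ} (h2 : (2 : F) ≠ 0) : ∀ μ : Multiset ℕ, (∀ a ∈ μ, 0 < a ∧ a ≤ p) →
    OddPaired μ → HasModel F p μ := by
  intro μ
  induction μ using Multiset.strongInductionOn with
  | _ μ ih =>
    intro h1 h3
    by_cases h0 : μ = 0
    · subst h0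
      exact ⟨0, 1, by simp, fun u v => rfl, Subsingleton.elim _ _, fun k => by
        rw [prank, Multiset.map_zero, Multiset.sum_zero]
        exact Nat.le_zero.1 ((Submodule.finrank_le _).trans (finrank_std (F := F) (d := 0)).le)⟩
    obtain ⟨a, ha⟩ := Multiset.exists_mem_of_ne_zero h0
    obtain ⟨s, hs, hse, hmod⟩ : ∃ s, 0 < s ∧ Multiset.replicate s a ≤ μ ∧ (HasModel F p (Multiset.replicate s a) ∧
        OddPaired (Multiset.replicate s a)) := by
      rcases Nat.even_or_odd a with hev | hod
      · refine ⟨1, one_pos, Multiset.le_count_iff_replicate_le.1 (Multiset.one_le_count_iff_mem.2 ha),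
          hasModel_even h2 hev (h1 a ha).1 (h1 a ha).2, fun b hb => ?_⟩
        rw [Multiset.count_replicate, if_neg fun h => Nat.not_even_iff_odd.2 hb (by simpa [h] using hev)]
        exact ⟨0, rfl⟩
      · refine ⟨2, two_pos, Multiset.le_count_iff_replicate_le.1 ?_, hasModel_pair h2 (h1 a ha).1 (h1 a ha).2,
          fun b _ => ?_⟩
        · obtain ⟨r, hr⟩ := h3 a hod
          have := Multiset.count_pos.2 ha
          omega
        · rw [Multiset.count_replicate]
          split_ifs
          exacts [even_two, ⟨0, rfl⟩]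
    obtain ⟨μ', rfl⟩ := le_iff_exists_add.1 hse
    refine hasModel_add hmod.1 (ih μ' ?_ (fun b hb => h1 b (Multiset.mem_add.2 (Or.inr hb))) fun b hb => ?_)
    · refine lt_of_le_of_ne (Multiset.le_add_left _ _) fun h => ?_
      have := congrArg Multiset.card h
      rw [Multiset.card_add, Multiset.card_replicate] at this
      omega
    · have h := h3 b hb
      rw [Multiset.count_add] at h
      exact (Nat.even_add.1 h).1 (hmod.2 b hb)

/-- Characteristic `p`: unipotent means order dividing `p`. -/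
theorem sub_one_pow {V : Type u} [AddCommGroup V] [Module F V] {p : ℕ} [Fact p.Prime] [CharP F p] (f : Module.End F V) :
    (f - 1) ^ p = f ^ p - 1 := by
  have h := congrArg (Polynomial.aeval f) (sub_pow_char (R := F[X]) (p := p) Polynomial.X 1)
  simpa using h

end Models

end CfsgLib.Classical22.PrimeMaps.Symp
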