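import Mathlib

set_option autoImplicit false

/-!
# The affine group: a maximal subgroup of the complement that is not second maximal
-/

namespace CfsgLib.Classical22

variable {F V : Type*} [Field F] [AddCommGroup V] [Module F V]

/-- There is a linear automorphism carrying one independent pair to another. -/
theorem exists_linearEquiv_pair [FiniteDimensional F V] {w w₁ u u' : V} (h : LinearIndependent F ![w, u])
    (h' : LinearIndependent F ![w₁, u']) : ∃ e : V ≃ₗ[F] V, e w = w₁ ∧ e u = u' := by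
  have key : ∀ {w x : V}, LinearIndependent F ![w, x] → ∃ (b : Module.Basis (Fin (Module.finrank F V)) F V) (i j : Fin (Module.finrank F V)),
      i.val = 0 ∧ j.val = 1 ∧ b i = w ∧ b j = x := by
    intro w x hx
    let s := Submodule.span F (Set.range ![w, x])
    obtain ⟨t, ht⟩ := Submodule.exists_isCompl s
    let bs := Module.Basis.span hx
    let bt := Module.finBasis F t
    let b0 := (bs.prod bt).map (Submodule.prodEquivOfIsCompl s t ht)
    have hn : 2 + Module.finrank F t = Module.finrank F V := by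
      rw [← Submodule.finrank_add_eq_of_isCompl ht, finrank_span_eq_card hx, Fintype.card_fin]
    refine ⟨b0.reindex (finSumFinEquiv.trans (finCongr hn)), finCongr hn (finSumFinEquiv (Sum.inl 0)),
      finCongr hn (finSumFinEquiv (Sum.inl 1)), rfl, rfl, ?_, ?_⟩
    · simp [b0, bs, Module.Basis.span_apply]
    · simp [b0, bs, Module.Basis.span_apply]
  obtain ⟨b, i, j, hi, hj, hw, hu⟩ := key h
  obtain ⟨b', i', j', hi', hj', hw', hu'⟩ := key h'
  obtain rfl : i = i' := Fin.ext (hi.trans hi'.symm)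
  obtain rfl : j = j' := Fin.ext (hj.trans hj'.symm)
  refine ⟨b.equiv b' (Equiv.refl _), ?_, ?_⟩
  · conv_lhs => rw [← hw]
    rw [Module.Basis.equiv_apply]; exact hw'
  · conv_lhs => rw [← hu]
    rw [Module.Basis.equiv_apply]; exact hu'

/-- The stabiliser of a line in `GL(V)`. -/
def lineStab (w : V) : Subgroup (V ≃ₗ[F] V) where
  carrier := {e | ∃ c : F, c ≠ 0 ∧ e w = c • w}
  one_mem' := ⟨1, one_ne_zero, (one_smul F w).symm⟩
  mul_mem' := by
    rintro e f ⟨c, hc, he⟩ ⟨d, hd, hf⟩
    exact ⟨d * c, mul_ne_zero hd hc, by rw [LinearEquiv.mul_apply, hf, map_smul, he, mul_smul]⟩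
  inv_mem' := by
    rintro e ⟨c, hc, he⟩
    refine ⟨c⁻¹, inv_ne_zero hc, e.injective ?_⟩
    rw [map_smul, he, ← mul_smul, inv_mul_cancel₀ hc, one_smul]
    exact e.apply_symm_apply w

/-- Line stabilisers are maximal. -/
theorem eq_top_of_lineStab_lt [FiniteDimensional F V] {w : V} (hw : w ≠ 0) {L : Subgroup (V ≃ₗ[F] V)}
    (hL : lineStab w < L) : L = ⊤ := by
  obtain ⟨g, hgL, hg⟩ := SetLike.exists_of_lt hL
  have hind : ∀ {e : V ≃ₗ[F] V}, e ∉ lineStab w → LinearIndependent F ![w, e w] := by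
    intro e he
    rw [LinearIndependent.pair_iff' hw]
    intro c hc
    exact he ⟨c, fun h0 => hw (e.injective (by rw [← hc, h0, zero_smul, map_zero])), hc.symm⟩
  rw [eq_top_iff]
  intro e _
  by_cases he : e ∈ lineStab w
  · exact hL.le he
  obtain ⟨k, hk1, hk2⟩ := exists_linearEquiv_pair (hind hg) (hind he)
  have h1 : (k * g)⁻¹ * e ∈ lineStab w := ⟨1, one_ne_zero, by
    rw [one_smul, LinearEquiv.mul_apply, ← hk2]
    exact (k * g).symm_apply_apply w⟩
  have h2 : k ∈ L := hL.le ⟨1, one_ne_zero, by rw [hk1, one_smul]⟩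
  have h3 := L.mul_mem (L.mul_mem h2 hgL) (hL.le h1)
  rwa [mul_inv_cancel_left] at h3

/-- The counterexample in the affine group. -/
theorem exists_not_secondMaximal (p d : ℕ) (hp : p.Prime) (hd : 2 ≤ d) :
    ∃ (G : Type) (_ : Group G) (_ : Finite G) (M H K : Subgroup G), IsCoatom M ∧ M.index = p ^ d ∧ H ≤ M ∧
      IsCoatom (H.subgroupOf M) ∧ IsCoatom K ∧ H ≤ K ∧ ¬ IsCoatom (H.subgroupOf K) := by
  classical
  haveI := Fact.mk hp
  let W := Fin d → ZMod p
  let G := W ≃ᵃ[ZMod p] W
  haveI : Finite G := Finite.of_injective (fun g : G => g.toEquiv) (AffineEquiv.toEquiv_injective)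
  obtain ⟨w, hw⟩ : ∃ w : W, w ≠ 0 := ⟨fun _ => 1, fun h => one_ne_zero (congrFun h ⟨0, by omega⟩)⟩
  let M : Subgroup G :=
    { carrier := {g | g 0 = 0}
      one_mem' := rfl
      mul_mem' := fun {g h} hg hh => by change g (h 0) = 0; rw [hh, hg]
      inv_mem' := fun {g} hg => by
        have hg' : g 0 = 0 := hg
        change g.symm 0 = 0
        conv_lhs => rw [← hg']
        exact g.symm_apply_apply 0 }
  let K : Subgroup G := (lineStab w).comap AffineEquiv.linearHom
  let tr : W → G := fun v => AffineEquiv.constVAdd (ZMod p) W v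
  have htr0 : ∀ v, tr v 0 = v := fun v => add_zero v
  have hlin : ∀ v, AffineEquiv.linearHom (tr v) = 1 := fun v => AffineEquiv.linear_constVAdd (k := ZMod p) (P₁ := W) v
  let lin : (W ≃ₗ[ZMod p] W) → G := fun e => e.toAffineEquiv
  have hlin0 : ∀ e, lin e ∈ M := fun e => map_zero e
  have hlin1 : ∀ e, AffineEquiv.linearHom (lin e) = e := fun e => rfl
  have happ : ∀ (g : G) (x : W), g x = AffineEquiv.linearHom g x + g 0 := fun g x => by
    have := g.map_vadd 0 x
    simpa using this
  have hM_eq : ∀ g ∈ M, g = lin (AffineEquiv.linearHom g) := fun g hg => AffineEquiv.ext fun x => by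
    rw [happ g x, show g 0 = 0 from hg, add_zero]; rfl
  have hfactor : ∀ g : G, g = tr (g 0) * lin (AffineEquiv.linearHom g) := fun g => AffineEquiv.ext fun x => by
    change g x = g 0 + AffineEquiv.linearHom g x
    rw [happ g x, add_comm]
  obtain ⟨u, hu⟩ : ∃ u : W, u ∉ Submodule.span (ZMod p) {w} := by
    by_contra h
    simp only [not_exists, not_not] at h
    have h1 : Submodule.span (ZMod p) {w} = ⊤ := eq_top_iff.mpr fun x _ => h x
    have h2 := finrank_span_singleton (K := ZMod p) hw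
    rw [h1, finrank_top, Module.finrank_fin_fun] at h2
    omega
  have hline : ∀ x y : W, x ≠ 0 → y ≠ 0 → ∃ e : W ≃ₗ[ZMod p] W, e x = y := fun x y hx hy => by
    have hex : ∀ z : W, z ≠ 0 → ∃ z', LinearIndependent (ZMod p) ![z, z'] := fun z hz => by
      by_contra h
      simp only [not_exists, LinearIndependent.pair_iff' hz, not_forall, not_not] at h
      have h1 : Submodule.span (ZMod p) {z} = ⊤ := eq_top_iff.mpr fun v _ =>
        Submodule.mem_span_singleton.mpr (h v)
      have h2 := finrank_span_singleton (K := ZMod p) hz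
      rw [h1, finrank_top, Module.finrank_fin_fun] at h2
      omega
    obtain ⟨x', hx'⟩ := hex x hx
    obtain ⟨y', hy'⟩ := hex y hy
    obtain ⟨e, he, -⟩ := exists_linearEquiv_pair hx' hy'
    exact ⟨e, he⟩
  refine ⟨G, inferInstance, inferInstance, M, M ⊓ K, K, ⟨?_, fun L hL => ?_⟩, ?_, inf_le_left,
    ⟨?_, fun L hL => ?_⟩, ⟨?_, fun L hL => ?_⟩, inf_le_right, ?_⟩
  · intro h
    have h1 : tr w ∈ M := h ▸ Subgroup.mem_top _
    exact hw ((htr0 w).symm.trans h1)
  · obtain ⟨g, hgL, hg⟩ := SetLike.exists_of_lt hL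
    have htrL : tr (g 0) ∈ L := by
      have : tr (g 0) = g * (lin (AffineEquiv.linearHom g))⁻¹ := eq_mul_inv_of_mul_eq (hfactor g).symm
      rw [this]; exact L.mul_mem hgL (L.inv_mem (hL.le (hlin0 _)))
    have hall : ∀ v, tr v ∈ L := by
      intro v
      rcases eq_or_ne v 0 with rfl | hv
      · exact hL.le (htr0 0)
      obtain ⟨e, he⟩ := hline _ v hg hv
      have : tr v = lin e * tr (g 0) * (lin e)⁻¹ := eq_mul_inv_of_mul_eq (AffineEquiv.ext fun x => by
        change v + e x = e (g 0 + x)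
        rw [map_add, he])
      rw [this]; exact L.mul_mem (L.mul_mem (hL.le (hlin0 _)) htrL) (L.inv_mem (hL.le (hlin0 _)))
    rw [eq_top_iff]
    intro k _
    rw [hfactor k]
    exact L.mul_mem (hall _) (hL.le (hlin0 _))
  · letI : MulAction G W :=
      { smul := fun g x => g x
        one_smul := fun _ => rfl
        mul_smul := fun _ _ _ => rfl }
    haveI : MulAction.IsPretransitive G W := ⟨fun x y => ⟨tr (y - x), sub_add_cancel y x⟩⟩
    rw [show M = MulAction.stabilizer G (0 : W) from rfl, MulAction.index_stabilizer_of_transitive]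
    simp [W]
  · intro h
    have hMK : M ≤ K := fun g hg => (Subgroup.subgroupOf_eq_top.mp h hg).2
    obtain ⟨e, he⟩ := hline w u hw (fun h0 => hu (h0 ▸ Submodule.zero_mem _))
    obtain ⟨c, -, hc⟩ := hMK (hlin0 e)
    rw [hlin1, he] at hc
    exact hu (hc ▸ Submodule.smul_mem _ c (Submodule.mem_span_singleton_self w))
  · rw [eq_top_iff]
    intro x _
    have himg : lineStab w < (L.map M.subtype).map AffineEquiv.linearHom := by
      obtain ⟨y, hyL, hy⟩ := SetLike.exists_of_lt hL
      refine lt_of_le_of_ne (fun e he => ?_) fun h => hy ?_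
      · exact ⟨lin e, ⟨⟨lin e, hlin0 e⟩, hL.le ⟨hlin0 e, show AffineEquiv.linearHom (lin e) ∈ lineStab w by rwa [hlin1]⟩, rfl⟩, rfl⟩
      · refine ⟨y.2, ?_⟩
        change AffineEquiv.linearHom (y : G) ∈ lineStab w
        rw [h]; exact ⟨y, ⟨y, hyL, rfl⟩, rfl⟩
    obtain ⟨z, ⟨z', hz', rfl⟩, hz⟩ :=
      (eq_top_of_lineStab_lt hw himg).symm ▸ Subgroup.mem_top (AffineEquiv.linearHom (x : G))
    have hzx : z' = x := Subtype.ext ((hM_eq _ z'.2).trans ((congrArg lin hz).trans (hM_eq _ x.2).symm))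
    exact hzx ▸ hz'
  · intro h
    obtain ⟨e, he⟩ := hline w u hw (fun h0 => hu (h0 ▸ Submodule.zero_mem _))
    have h1 : lin e ∈ K := h ▸ Subgroup.mem_top _
    obtain ⟨c, -, hc⟩ := h1
    rw [hlin1, he] at hc
    exact hu (hc ▸ Submodule.smul_mem _ c (Submodule.mem_span_singleton_self w))
  · have himg : lineStab w < L.map AffineEquiv.linearHom := by
      obtain ⟨y, hyL, hy⟩ := SetLike.exists_of_lt hL
      refine lt_of_le_of_ne (fun e he => ⟨lin e, hL.le (show AffineEquiv.linearHom (lin e) ∈ lineStab w by rwa [hlin1]), hlin1 e⟩) fun h => hy ?_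
      change AffineEquiv.linearHom y ∈ lineStab w
      rw [h]; exact ⟨y, hyL, rfl⟩
    rw [eq_top_iff]
    intro k _
    obtain ⟨z, hz, hzk⟩ := (eq_top_of_lineStab_lt hw himg).symm ▸ Subgroup.mem_top (AffineEquiv.linearHom k)
    have h1 : z⁻¹ * k ∈ K := by
      change AffineEquiv.linearHom (z⁻¹ * k) ∈ lineStab w
      rw [map_mul, map_inv, hzk, inv_mul_cancel]; exact one_mem _
    simpa using L.mul_mem hz (hL.le h1)
  · intro hco
    let S := Submodule.span (ZMod p) {w}
    have hSK : ∀ g ∈ K, ∀ x ∈ S, AffineEquiv.linearHom g x ∈ S := fun g hg x hx => by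
      obtain ⟨c, -, hc⟩ := hg
      obtain ⟨a, rfl⟩ := Submodule.mem_span_singleton.mp hx
      rw [map_smul, hc]
      exact S.smul_mem _ (S.smul_mem _ (Submodule.mem_span_singleton_self w))
    let J : Subgroup K :=
      { carrier := {g | (g : G) 0 ∈ S}
        one_mem' := S.zero_mem
        mul_mem' := fun {g h} hg hh => by
          change (g : G) ((h : G) 0) ∈ S
          rw [happ]
          exact S.add_mem (hSK _ g.2 _ hh) hg
        inv_mem' := fun {g} hg => by
          change ((g⁻¹ : K) : G) 0 ∈ S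
          have h1 : (0 : W) = AffineEquiv.linearHom ((g⁻¹ : K) : G) ((g : G) 0) + ((g⁻¹ : K) : G) 0 := by
            rw [← happ]; exact ((g : G).symm_apply_apply 0).symm
          rw [eq_neg_of_add_eq_zero_right h1.symm]
          exact S.neg_mem (hSK _ (g⁻¹).2 _ hg) }
    have htrK : ∀ v, tr v ∈ K := fun v => show AffineEquiv.linearHom (tr v) ∈ lineStab w by rw [hlin]; exact one_mem _
    have hle : (M ⊓ K).subgroupOf K < J := by
      refine lt_of_le_of_ne (fun g hg => show (g : G) 0 ∈ S by rw [show (g : G) 0 = 0 from hg.1]; exact S.zero_mem) fun h => ?_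
      have h1 : (⟨tr w, htrK w⟩ : K) ∈ J := show tr w 0 ∈ S by rw [htr0]; exact Submodule.mem_span_singleton_self w
      rw [← h] at h1
      exact hw ((htr0 w).symm.trans h1.1)
    have h2 : (⟨tr u, htrK u⟩ : K) ∈ J := hco.2 J hle ▸ Subgroup.mem_top _
    exact hu ((htr0 u) ▸ h2)

end CfsgLib.Classical22
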