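/-
Tensor stabilisers with a monomial factor lie in stabilisers of orthogonal decompositions.
-/
import Cfsg.Prelude.Def_GeometricClasses
import Cfsg.Agent.Lib.Transvec.Unitary

set_option autoImplicit false

namespace CfsgLib.Classical22.TensorRefine

open Matrix Kronecker CfsgLib.Transvec

variable {F : Type*} [Field F]

/-- A form is given by its Gram matrix. -/
theorem form_eq {κ : Type} [Fintype κ] [DecidableEq κ] {f : (κ → F) → (κ → F) → F} {σ : F → F}
    (hal : ∀ x y v, f (x + y) v = f x v + f y v) (hsl : ∀ (c : F) (x v : κ → F), f (c • x) v = c * f x v)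
    (har : ∀ v x y, f v (x + y) = f v x + f v y) (hsr : ∀ (c : F) (v x : κ → F), f v (c • x) = σ c * f v x)
    (x y : κ → F) : f x y = Cfsg.Geo.formOfGram σ (Cfsg.Geo.gramMatrix f) x y := by
  obtain ⟨φ, hφ⟩ : ∃ φ : (κ → F) →+ F, ∀ v, φ v = f v y := ⟨AddMonoidHom.mk' (fun v => f v y) (fun a b => hal a b y), fun v => rfl⟩
  rw [← hφ]
  conv_lhs => rw [pi_eq_sum_univ' x, map_sum]
  refine Finset.sum_congr rfl fun a _ => ?_
  obtain ⟨ψ, hψ⟩ : ∃ ψ : (κ → F) →+ F, ∀ v, ψ v = f (Pi.single a 1) v :=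
    ⟨AddMonoidHom.mk' (fun v => f (Pi.single a 1) v) (fun b c => har _ b c), fun v => rfl⟩
  rw [hφ, hsl, ← hψ]
  conv_lhs => rw [pi_eq_sum_univ' y, map_sum, Finset.mul_sum]
  refine Finset.sum_congr rfl fun b _ => ?_
  rw [hψ, hsr, Cfsg.Geo.gramMatrix]
  ring

theorem kronecker_mulVec {a b : Type} [Fintype a] [Fintype b] (A : Matrix a a F) (B : Matrix b b F) (u : a → F) (y : b → F) :
    (A ⊗ₖ B) *ᵥ (fun p => u p.1 * y p.2) = fun p => (A *ᵥ u) p.1 * (B *ᵥ y) p.2 := by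
  funext p
  simp only [Matrix.mulVec, dotProduct, Matrix.kroneckerMap_apply, Fintype.sum_prod_type, Finset.sum_mul_sum]
  exact Finset.sum_congr rfl fun i _ => Finset.sum_congr rfl fun j _ => by ring

theorem formOfGram_kronecker {n₁ n₂ : ℕ} (σ : F → F) (hσ : ∀ x y, σ (x * y) = σ x * σ y)
    (G₁ : Matrix (Fin n₁) (Fin n₁) F) (G₂ : Matrix (Fin n₂) (Fin n₂) F) (u u' : Fin n₁ → F) (y y' : Fin n₂ → F) :
    Cfsg.Geo.formOfGram σ (G₁ ⊗ₖ G₂) (fun p => u p.1 * y p.2) (fun p => u' p.1 * y' p.2) =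
      Cfsg.Geo.formOfGram σ G₁ u u' * Cfsg.Geo.formOfGram σ G₂ y y' := by
  simp only [Cfsg.Geo.formOfGram, Fintype.sum_prod_type, Finset.sum_mul_sum, Matrix.kroneckerMap_apply, hσ]
  refine Finset.sum_congr rfl fun a _ => Finset.sum_congr rfl fun c _ => Finset.sum_congr rfl fun b _ =>
    Finset.sum_congr rfl fun d _ => ?_
  ring

theorem tensor_mem {ι : Type} [Fintype ι] [DecidableEq ι] {n₁ n₂ : ℕ} (e : ι ≃ Fin n₁ × Fin n₂) (P : GL ι F)
    {g : GL ι F} (hg : g ∈ Cfsg.Geo.tensorProductSubgroup n₁ n₂ e P) :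
    ∃ (A : (Fin n₁ → F) →ₗ[F] (Fin n₁ → F)) (B : (Fin n₂ → F) →ₗ[F] (Fin n₂ → F)),
      Function.Injective A ∧ Function.Injective B ∧ ∀ u y,
        (g : Matrix ι ι F) *ᵥ ((P : Matrix ι ι F) *ᵥ ((fun p => u p.1 * y p.2) ∘ e)) =
          (P : Matrix ι ι F) *ᵥ ((fun p => A u p.1 * B y p.2) ∘ e) := by
  obtain ⟨_, ⟨z, ⟨a, b, hz⟩, rfl⟩, rfl⟩ := hg
  refine ⟨(a : Matrix (Fin n₁) (Fin n₁) F).mulVecLin, (b : Matrix (Fin n₂) (Fin n₂) F).mulVecLin,
    mulVec_injective a, mulVec_injective b, fun u y => ?_⟩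
  change ((P : Matrix ι ι F) * Matrix.reindexAlgEquiv F F e.symm (z : Matrix (Fin n₁ × Fin n₂) (Fin n₁ × Fin n₂) F) *
    ((P⁻¹ : GL ι F) : Matrix ι ι F)) *ᵥ _ = _
  rw [← Matrix.mulVec_mulVec, Matrix.mulVec_mulVec ((fun p => u p.1 * y p.2) ∘ e), Units.inv_mul, Matrix.one_mulVec,
    ← Matrix.mulVec_mulVec, Matrix.reindexAlgEquiv_apply, Matrix.reindex_apply, Equiv.symm_symm,
    Matrix.submatrix_mulVec_equiv, hz]
  simp only [Function.comp_assoc, Equiv.self_comp_symm, Function.comp_id, kronecker_mulVec, Matrix.mulVecLin_apply]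

variable {ι : Type} [Fintype ι] [DecidableEq ι]

theorem exists_overgroup {a b : ℕ} (ha : 2 ≤ a) {σ : F ≃+* F} (f : (ι → F) → (ι → F) → F)
    (hal : ∀ x y v, f (x + y) v = f x v + f y v) (har : ∀ v x y, f v (x + y) = f v x + f v y)
    (fA : (Fin a → F) → (Fin a → F) → F) (fB : (Fin b → F) → (Fin b → F) → F)
    (hAl : ∀ (c : F) (x v : Fin a → F), fA (c • x) v = c * fA x v)
    (hAr : ∀ (c : F) (v x : Fin a → F), fA v (c • x) = σ c * fA v x)
    (hBal : ∀ x y v, fB (x + y) v = fB x v + fB y v) (hBl : ∀ (c : F) (x v : Fin b → F), fB (c • x) v = c * fB x v)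
    (hBn : ∀ y, y ≠ 0 → ∃ y', fB y y' ≠ 0)
    (τ : (Fin a → F) →ₗ[F] (Fin b → F) →ₗ[F] (ι → F)) {c : F} (hc : c ≠ 0)
    (hf : ∀ u u' y y', f (τ u y) (τ u' y') = c * (fA u u' * fB y y'))
    (M I : Subgroup (GL ι F)) (hI : ∀ g ∈ I, ∀ x y, f ((g : Matrix ι ι F) *ᵥ x) ((g : Matrix ι ι F) *ᵥ y) = f x y)
    (hM : ∀ g ∈ M, ∃ (A : (Fin a → F) →ₗ[F] (Fin a → F)) (B : (Fin b → F) →ₗ[F] (Fin b → F)),
      Function.Injective A ∧ Function.Injective B ∧ ∀ u y, (g : Matrix ι ι F) *ᵥ τ u y = τ (A u) (B y))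
    (u : Fin a → (Fin a → F)) (hu : ∀ i j, fA (u i) (u j) = if i = j then 1 else 0)
    (hmono : ∀ v : Fin a → (Fin a → F), ∀ s : F, s ≠ 0 → (∀ i j, fA (v i) (v j) = if i = j then s else 0) →
      ∀ i, ∃ (k : Fin a) (d : F), v i = d • u k)
    {y₀ y₁ : Fin b → F} (hy₀ : y₀ ≠ 0) (h00 : fB y₀ y₀ = 0) (h10 : fB y₁ y₀ ≠ 0)
    (hT : ∀ v, f v v = 0 → ∃ g ∈ I, ∀ x, (g : Matrix ι ι F) *ᵥ x = x + f x v • v) :
    ∃ K : Subgroup (GL ι F), M ⊓ I < K ∧ K < I := by
  classical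
  obtain ⟨i₀, hi₀⟩ : ∃ i : Fin a, i.val = 0 := ⟨⟨0, by omega⟩, rfl⟩
  obtain ⟨i₁, hi₁⟩ : ∃ i : Fin a, i.val = 1 := ⟨⟨1, by omega⟩, rfl⟩
  have h01 : i₀ ≠ i₁ := fun h => by rw [h] at hi₀; omega
  obtain ⟨y₂, h02⟩ := hBn y₀ hy₀
  have hinj : ∀ i, Function.Injective (τ (u i)) := fun i => by
    rw [← LinearMap.ker_eq_bot, LinearMap.ker_eq_bot']
    intro y hy
    by_contra h0
    obtain ⟨y', hy'⟩ := hBn y h0
    have h := hf (u i) (u i) y y'
    rw [hy, hu, if_pos rfl, one_mul] at h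
    have h0' := hal 0 0 (τ (u i) y')
    rw [add_zero] at h0'
    rw [show f 0 (τ (u i) y') = 0 from left_eq_add.1 h0'] at h
    exact mul_ne_zero hc hy' h.symm
  obtain ⟨D, hD⟩ : ∃ D : Fin a → Submodule F (ι → F), ∀ i, D i = LinearMap.range (τ (u i)) := ⟨_, fun i => rfl⟩
  have hdim : ∀ i, Module.finrank F (D i) = b := fun i => by
    rw [hD, LinearMap.finrank_range_of_inj (hinj i), Module.finrank_fin_fun]
  have hle : M ⊓ I ≤ Cfsg.Geo.decompositionStabilizer D ⊓ I := by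
    rintro g ⟨hg, hgI⟩
    refine ⟨?_, hgI⟩
    obtain ⟨A, B, hA, hB, hAB⟩ := hM g hg
    have key : ∀ i j y y', fA (A (u i)) (A (u j)) * fB (B y) (B y') = fA (u i) (u j) * fB y y' := by
      intro i j y y'
      have h := hI g hgI (τ (u i) y) (τ (u j) y')
      rw [hAB, hAB, hf, hf] at h
      exact mul_left_cancel₀ hc h
    have hB0 : fB (B y₀) (B y₂) ≠ 0 := fun h => by
      have := key i₀ i₀ y₀ y₂
      rw [h, mul_zero, hu, if_pos rfl, one_mul] at this
      exact h02 this.symm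
    obtain ⟨s, hs⟩ : ∃ s, s = fB y₀ y₂ / fB (B y₀) (B y₂) := ⟨_, rfl⟩
    have hs0 : s ≠ 0 := hs ▸ div_ne_zero h02 hB0
    have hv : ∀ i j, fA (A (u i)) (A (u j)) = if i = j then s else 0 := by
      intro i j
      have h := key i j y₀ y₂
      rw [hu] at h
      split_ifs at h ⊢ with hij
      · rw [hs, eq_div_iff hB0]; rw [one_mul] at h; exact h
      · rw [zero_mul] at h; exact (mul_eq_zero.1 h).resolve_right hB0
    choose π d hπ using hmono (fun i => A (u i)) s hs0 hv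
    have hd : ∀ i, d i ≠ 0 := fun i h => by
      have := hv i i
      rw [show A (u i) = d i • u (π i) from hπ i, h, hAl, zero_mul, if_pos rfl] at this
      exact hs0 this.symm
    have hπi : Function.Injective π := fun i j hij => by
      by_contra hne
      have := hv i j
      rw [show A (u i) = d i • u (π i) from hπ i, show A (u j) = d j • u (π j) from hπ j, hij, hAl, hAr, hu,
        if_pos rfl, if_neg hne, mul_one, mul_eq_zero, map_eq_zero] at this
      exact this.elim (hd i) (hd j)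
    refine ⟨Equiv.ofBijective π (Finite.injective_iff_bijective.1 hπi), fun i => Submodule.eq_of_le_of_finrank_eq ?_ ?_⟩
    · rintro _ ⟨x, hx, rfl⟩
      rw [hD] at hx
      obtain ⟨y, rfl⟩ := hx
      rw [Matrix.toLin'_apply, hAB, show A (u i) = d i • u (π i) from hπ i, map_smul, LinearMap.smul_apply,
        ← map_smul, hD]
      exact ⟨_, rfl⟩
    · rw [← (Submodule.equivMapOfInjective (Matrix.toLin' (g : Matrix ι ι F))
        (by intro p q h; exact mulVec_injective g (by simpa [Matrix.toLin'_apply] using h)) (D i)).finrank_eq, hdim, hdim]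
  refine ⟨Cfsg.Geo.decompositionStabilizer D ⊓ I, lt_of_le_of_ne hle fun heq => ?_,
    lt_of_le_of_ne inf_le_right fun heq => ?_⟩
  · obtain ⟨g, hgI, hg⟩ := hT (τ (u i₀) y₀) (by rw [hf, h00, mul_zero, mul_zero])
    have hmem : g ∈ Cfsg.Geo.decompositionStabilizer D ⊓ I := by
      refine ⟨⟨1, fun i => Submodule.eq_of_le_of_finrank_eq ?_ ?_⟩, hgI⟩
      · rintro _ ⟨x, hx, rfl⟩
        rw [hD] at hx
        obtain ⟨y, rfl⟩ := hx
        rw [Matrix.toLin'_apply, hg, hf, hu, Equiv.Perm.one_apply, hD]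
        by_cases hi : i = i₀
        · subst hi
          exact Submodule.add_mem _ ⟨_, rfl⟩ (Submodule.smul_mem _ _ ⟨_, rfl⟩)
        · rw [if_neg hi, zero_mul, mul_zero, zero_smul, add_zero]
          exact ⟨_, rfl⟩
      · rw [← (Submodule.equivMapOfInjective (Matrix.toLin' (g : Matrix ι ι F))
          (by intro p q h; exact mulVec_injective g (by simpa [Matrix.toLin'_apply] using h)) (D i)).finrank_eq, hdim, hdim]
    rw [← heq] at hmem
    obtain ⟨A, B, -, -, hAB⟩ := hM g hmem.1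
    have hfix : ∀ y, τ (A (u i₁)) (B y) = τ (u i₁) y := fun y => by
      rw [← hAB, hg, hf, hu, if_neg h01.symm, zero_mul, mul_zero, zero_smul, add_zero]
    have hBy : ∀ y y', fA (A (u i₁)) (u i₁) * fB (B y) y' = fB y y' := by
      intro y y'
      have h := congrArg (fun x => f x (τ (u i₁) y')) (hfix y)
      rw [hf, hf, hu, if_pos rfl, one_mul] at h
      exact mul_left_cancel₀ hc h
    have hκ : fA (A (u i₁)) (u i₁) ≠ 0 := fun h => h02 (by rw [← hBy, h, zero_mul])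
    have him : ∀ y, fA (A (u i₀)) (u i₀) * fB y y₂ =
        fA (A (u i₁)) (u i₁) * (fB y y₂ + c * fB y y₀ * fB y₀ y₂) := by
      intro y
      have h := congrArg (fun x => f x (τ (u i₀) y₂)) (hAB (u i₀) y)
      rw [hg, hal, hf, hu, if_pos rfl, one_mul, hf (u i₀) (u i₀) y y₀, hu, if_pos rfl, one_mul, ← LinearMap.map_smul,
        hf, hu, if_pos rfl, one_mul, hBl, hf] at h
      have h' := hBy y y₂
      refine mul_left_cancel₀ hc ?_
      linear_combination (-fA (A (u i₁)) (u i₁)) * h - (c * fA (A (u i₀)) (u i₀)) * h'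
    have e0 := him y₀
    rw [h00, mul_zero, zero_mul, add_zero] at e0
    have eκ : fA (A (u i₀)) (u i₀) = fA (A (u i₁)) (u i₁) := mul_right_cancel₀ h02 e0
    have e1 := him y₁
    rw [eκ] at e1
    exact mul_ne_zero (mul_ne_zero hκ (mul_ne_zero hc h10)) h02 (by linear_combination -e1)
  · obtain ⟨g, hgI, hg⟩ := hT (τ (u i₀) y₀ + τ (u i₁) y₀) (by
      simp only [hal, har, hf, h00, mul_zero, add_zero])
    rw [← heq] at hgI
    obtain ⟨π, hπ⟩ := hgI.1
    have hx : Matrix.toLin' (g : Matrix ι ι F) (τ (u i₀) y₁) ∈ D (π i₀) := by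
      rw [← hπ]
      exact Submodule.mem_map_of_mem (by rw [hD]; exact ⟨_, rfl⟩)
    have hval : f (τ (u i₀) y₁) (τ (u i₀) y₀ + τ (u i₁) y₀) = c * fB y₁ y₀ := by
      rw [har, hf, hf, hu, hu, if_pos rfl, if_neg h01, one_mul, zero_mul, mul_zero, add_zero]
    rw [Matrix.toLin'_apply, hg, hval, hD, LinearMap.mem_range] at hx
    obtain ⟨y, hy⟩ := hx
    rw [smul_add, ← LinearMap.map_smul, ← LinearMap.map_smul] at hy
    by_cases hp : π i₀ = i₀
    · have h := congrArg (fun x => f x (τ (u i₁) y₂)) hy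
      simp only [hal, hf, hu, hp, hBl, if_pos rfl, if_neg h01, one_mul, zero_mul, mul_zero, zero_add, if_true] at h
      exact mul_ne_zero hc (mul_ne_zero (mul_ne_zero hc h10) h02) h.symm
    · have h := congrArg (fun x => f x (τ (u i₀) y₀)) hy
      simp only [hal, hf, hu, hBl, if_pos rfl, if_neg hp, if_neg h01.symm, one_mul, zero_mul, mul_zero, h00,
        add_zero, if_true] at h
      exact mul_ne_zero hc h10 h.symm

end CfsgLib.Classical22.TensorRefine
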