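/-
Passing maximality questions between the Eichler group and the matrix group `omegaGL`.
-/
import Cfsg.Agent.Lib.Classical22.OrthMaxBasic
import Cfsg.Agent.Lib.Classical.QuadSiegel
import Cfsg.Prelude.Def_GeometricClasses

set_option autoImplicit false

namespace CfsgLib.Classical22

open CfsgLib.Classical Cfsg
open scoped MatrixGroups Matrix

variable {F : Type*} [Field F] {ι : Type} [Fintype ι] [DecidableEq ι] (Q : QuadraticForm F (ι → F))

/-- The automorphisms of a quadratic form as invertible matrices. -/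
noncomputable def qHom : qAut Q →* GL ι F :=
  (isometryGroup F ⇑Q).subtype.comp (isoEquiv Q).symm.toMonoidHom

theorem qHom_mulVec (g : qAut Q) (x : ι → F) : (qHom Q g : Matrix ι ι F) *ᵥ x = g.1 x := by
  conv_rhs => rw [← (isoEquiv Q).apply_symm_apply g, isoEquiv_apply]
  rfl

theorem qHom_injective : Function.Injective (qHom Q) := fun a b h =>
  qAut_ext fun x => by rw [← qHom_mulVec, h, qHom_mulVec]

theorem comap_subspaceStabilizer (W : Submodule F (ι → F)) :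
    (Cfsg.Geo.subspaceStabilizer W).comap (qHom Q) = qStab Q W := by
  ext g
  change (∀ v, v ∈ (W : Set (ι → F)) ↔ (qHom Q g : Matrix ι ι F) *ᵥ v ∈ (W : Set (ι → F))) ↔ _
  simp only [qHom_mulVec, SetLike.mem_coe]
  rfl

theorem toLin'_qHom (g : qAut Q) : Matrix.toLin' (qHom Q g : Matrix ι ι F) = g.1.toLinearMap :=
  LinearMap.ext fun x => by rw [Matrix.toLin'_apply, qHom_mulVec]; rfl

variable [Fintype F]

theorem omegaGL_eq_map (hQ : PolarNondeg Q) (hn : 5 ≤ Fintype.card ι) :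
    Cfsg.Geo.omegaGL ⇑Q = (eichGroup Q).map (qHom Q) := by
  have hn' : 5 ≤ Module.finrank F (ι → F) := by rwa [Module.finrank_pi]
  rw [eichGroup_eq_commutator Q hQ hn', Cfsg.Geo.omegaGL, qHom, ← Subgroup.map_map]
  congr 1
  ext g
  rw [mem_Omega_iff]
  constructor
  · exact fun h => ⟨_, h, (isoEquiv Q).symm_apply_apply g⟩
  · rintro ⟨a, ha, rfl⟩
    rwa [MulEquiv.coe_toMonoidHom, MulEquiv.apply_symm_apply]

theorem isMaximalIn_omegaGL (hQ : PolarNondeg Q) (hn : 5 ≤ Fintype.card ι) {S : Subgroup (GL ι F)}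
    {S' : Subgroup (qAut Q)} (hS : S.comap (qHom Q) = S') (h1 : ¬ eichGroup Q ≤ S')
    (h2 : ∀ M : Subgroup (qAut Q), S' ⊓ eichGroup Q ≤ M → M ≤ eichGroup Q → ¬ M ≤ S' → eichGroup Q ≤ M) :
    Cfsg.Geo.IsMaximalIn (Cfsg.Geo.omegaGL ⇑Q) (S ⊓ Cfsg.Geo.omegaGL ⇑Q) := by
  subst hS
  rw [omegaGL_eq_map Q hQ hn]
  refine ⟨lt_of_le_not_ge inf_le_right fun h => h1 fun g hg => ?_, fun M hHM hMK => ?_⟩
  · exact (h ⟨g, hg, rfl⟩).1
  by_cases hMS : M ≤ S
  · exact Or.inl (le_antisymm (le_inf hMS hMK) hHM)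
  right
  refine le_antisymm hMK ?_
  have hM : M = (M.comap (qHom Q)).map (qHom Q) := by
    rw [Subgroup.map_comap_eq, right_eq_inf]
    exact hMK.trans (Subgroup.map_le_range (qHom Q) _)
  rw [hM] at hMK hMS ⊢
  refine Subgroup.map_mono (h2 _ (fun g hg => hHM ⟨hg.1, g, hg.2, rfl⟩) ?_ fun h => hMS ?_)
  · exact fun g hg => (Subgroup.map_le_map_iff_of_injective (qHom_injective Q)).1 hMK hg
  · exact Subgroup.map_le_iff_le_comap.2 h

theorem exists_between_omegaGL (hQ : PolarNondeg Q) (hn : 5 ≤ Fintype.card ι) {S : Subgroup (GL ι F)}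
    {S' K : Subgroup (qAut Q)} (hS : S.comap (qHom Q) = S') (h1 : S' ⊓ eichGroup Q < K) (h2 : K < eichGroup Q) :
    ∃ K' : Subgroup (GL ι F), S ⊓ Cfsg.Geo.omegaGL ⇑Q < K' ∧ K' < Cfsg.Geo.omegaGL ⇑Q := by
  subst hS
  rw [omegaGL_eq_map Q hQ hn]
  refine ⟨K.map (qHom Q), ?_, (Subgroup.map_lt_map_iff_of_injective (qHom_injective Q)).2 h2⟩
  refine lt_of_eq_of_lt ?_ ((Subgroup.map_lt_map_iff_of_injective (qHom_injective Q)).2 h1)
  ext g
  constructor
  · rintro ⟨hgS, a, ha, rfl⟩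
    exact ⟨a, ⟨hgS, ha⟩, rfl⟩
  · rintro ⟨a, ⟨haS, ha⟩, rfl⟩
    exact ⟨haS, a, ha, rfl⟩

omit [Fintype F] in
/-- A non-degenerate quadratic form given as a function is a quadratic form. -/
theorem exists_quadraticForm {Q₀ : (ι → F) → F} (h : Cfsg.Geo.IsNondegenerateQuadraticForm Q₀) :
    ∃ q : QuadraticForm F (ι → F), ⇑q = Q₀ ∧ PolarNondeg q := by
  refine ⟨QuadraticMap.ofPolar Q₀ (fun a x => by rw [h.smul, sq, smul_eq_mul]) h.polar_bilinear.add_left
    (fun a x y => by rw [h.polar_bilinear.smul_left, smul_eq_mul]), rfl, fun v hv => ?_⟩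
  by_contra hv0
  obtain ⟨x, hx⟩ := (h.nondegenerate v hv0).2
  exact hx (hv x)

end CfsgLib.Classical22
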