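/-
Stabilisers of non-degenerate subspaces in the Eichler group.
-/
import Cfsg.Agent.Lib.Classical22.OrthMaxMove

set_option autoImplicit false

namespace CfsgLib.Classical22

open CfsgLib.Classical

variable {F V : Type*} [Field F] [AddCommGroup V] [Module F V] (Q : QuadraticForm F V)
variable [FiniteDimensional F V] [Fintype F]

/-- The Eichler group is irreducible from dimension three on. -/
theorem eq_top_of_invariant_three (hQ : PolarNondeg Q) (hn : 3 ≤ Module.finrank F V) {W : Submodule F V}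
    (hW : W ≠ ⊥) (hinv : eichGroup Q ≤ qStab Q W) : W = ⊤ := by
  have key : ∀ U : Submodule F V, U ≠ ⊥ → eichGroup Q ≤ qStab Q U → Module.finrank F V ≤ Module.finrank F U + 1 := by
    intro U hU hUinv
    obtain ⟨w, hw, hw0⟩ := Submodule.exists_mem_ne_zero_of_ne_bot hU
    obtain ⟨u, hu, hu0, huw⟩ := exists_polar_singular_ne_zero Q hQ hn hw0
    have hne : QuadraticMap.polar Q w u ≠ 0 := by rwa [QuadraticMap.polar_comm]
    have hle : qPerp Q (Submodule.span F {u}) ≤ U ⊔ Submodule.span F {u} := by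
      intro y hy
      have hy' := (mem_qPerp_singleton Q).1 hy
      have h := U.sub_mem (apply_mem_of_qStab Q (hUinv (eich_mem Q hu hy')) hw) hw
      rw [eich_apply Q hu hy'] at h
      obtain ⟨c, hc⟩ : ∃ c, c = QuadraticMap.polar Q w y + Q y * QuadraticMap.polar Q w u := ⟨_, rfl⟩
      rw [← hc] at h
      refine Submodule.mem_sup.2 ⟨_, U.smul_mem (QuadraticMap.polar Q w u)⁻¹ h,
        ((QuadraticMap.polar Q w u)⁻¹ * c) • u,
        Submodule.smul_mem _ _ (Submodule.mem_span_singleton_self u), ?_⟩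
      rw [smul_sub, smul_sub, smul_add, smul_smul, smul_smul, inv_mul_cancel₀ hne, one_smul]
      abel
    by_contra hc
    have h2 := Submodule.finrank_add_le_finrank_add_finrank U (Submodule.span F {u})
    have h1 := finrank_qPerp Q hQ (Submodule.span F {u})
    rw [finrank_span_singleton hu0] at h2 h1
    have heq := Submodule.eq_of_le_of_finrank_le hle (by omega)
    have hwu : w ∈ qPerp Q (Submodule.span F {u}) := heq ▸ Submodule.mem_sup_left hw
    exact huw ((mem_qPerp_singleton Q).1 hwu)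
  by_contra hne
  have h1 := key W hW hinv
  have hlt := Submodule.finrank_lt hne
  have hd := finrank_qPerp Q hQ W
  have h2 := key (qPerp Q W) (fun h => by
    rw [h, finrank_bot] at hd
    omega) (fun g hg => qPerp_invariant Q (hinv hg))
  omega

/-- Some conjugate of an Eichler transformation of the subspace moves the subspace. -/
theorem exists_eich_moving (hQ : PolarNondeg Q) {A : Submodule F V} (hA : NdOn Q A)
    (hd : 3 ≤ Module.finrank F A) (hle : Module.finrank F V ≤ 2 * Module.finrank F A) {g : qAut Q}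
    (hg : g ∉ qStab Q A) (hswap : ¬ ∀ a ∈ A, g.1 a ∈ qPerp Q A) :
    ∃ x ∈ A, ∃ y ∈ A, Q x = 0 ∧ QuadraticMap.polar Q x y = 0 ∧ eich Q (g.1 x) (g.1 y) ∉ qStab Q A := by
  by_contra hc
  push Not at hc
  have hpull : ∀ p, g.1 p ∈ A → ∀ x ∈ A, ∀ y ∈ A, Q x = 0 → QuadraticMap.polar Q x y = 0 →
      g.1 ((eich Q x y).1 p) ∈ A := by
    intro p hp x hx y hy hQx hxy
    have h := apply_mem_of_qStab Q (hc x hx y hy hQx hxy) hp
    rwa [← eich_conj Q g hQx hxy, qAut_mul_apply, qAut_mul_apply, qInv_apply_self] at h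
  obtain ⟨S, hS⟩ : ∃ S : Submodule F A, S = (A.comap g.1.toLinearMap).comap A.subtype := ⟨_, rfl⟩
  have hQA : PolarNondeg (Q.comp A.subtype) := polarNondeg_comp Q hA
  by_cases hS0 : S = ⊥
  · refine hswap ?_
    have hfix : ∀ p, g.1 p ∈ A → p ∈ qPerp Q A := by
      intro p hp
      obtain ⟨a, ha, b, hb, rfl⟩ := exists_add_qPerp Q hQ hA p
      suffices h : a = 0 by rwa [h, zero_add]
      by_contra ha0
      have hinv : eichGroup (Q.comp A.subtype) ≤ qStab (Q.comp A.subtype) (Submodule.span F {(⟨a, ha⟩ : A)}) := by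
        refine (Subgroup.closure_le _).2 ?_
        rintro _ ⟨⟨x, hx⟩, ⟨y, hy⟩, hQx, hxy, rfl⟩
        change Q x = 0 at hQx
        have hxy' : QuadraticMap.polar Q x y = 0 := hxy
        obtain ⟨z, hz⟩ : ∃ z, z = (eich (Q.comp A.subtype) ⟨x, hx⟩ ⟨y, hy⟩).1 ⟨a, ha⟩ - ⟨a, ha⟩ := ⟨_, rfl⟩
        have hbx : QuadraticMap.polar Q b x = 0 := (QuadraticMap.polar_comm Q b x).trans ((mem_qPerp Q).1 hb x hx)
        have hby : QuadraticMap.polar Q b y = 0 := (QuadraticMap.polar_comm Q b y).trans ((mem_qPerp Q).1 hb y hy)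
        have he : (z : V) = (eich Q x y).1 (a + b) - (a + b) := by
          rw [hz, Submodule.coe_sub, eich_apply Q hQx hxy', eich_apply (Q.comp A.subtype) hQx hxy,
            QuadraticMap.polar_add_left, QuadraticMap.polar_add_left, hbx, hby, add_zero, add_zero]
          change _ = a + b + QuadraticMap.polar Q a x • y -
            (QuadraticMap.polar Q a y + Q y * QuadraticMap.polar Q a x) • x - (a + b)
          simp only [Submodule.coe_sub, Submodule.coe_add, Submodule.coe_smul_of_tower]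
          change a + QuadraticMap.polar Q a x • y -
            (QuadraticMap.polar Q a y + Q y * QuadraticMap.polar Q a x) • x - a = _
          abel
        have hz0 : z = 0 := by
          rw [← Submodule.mem_bot F, ← hS0, hS]
          change g.1 z ∈ A
          rw [he, map_sub]
          exact A.sub_mem (hpull _ hp x hx y hy hQx hxy') hp
        refine mem_qStab_of_maps _ fun v hv => ?_
        obtain ⟨t, rfl⟩ := Submodule.mem_span_singleton.1 hv
        rw [map_smul, sub_eq_zero.1 (hz.symm.trans hz0)]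
        exact hv
      have htop := eq_top_of_invariant_three _ hQA hd
        (Submodule.span_singleton_eq_bot.not.2 fun h => ha0 (congrArg Subtype.val h)) hinv
      have hd' := congrArg (fun W : Submodule F A => Module.finrank F W) htop
      simp only [finrank_top] at hd'
      have := finrank_span_singleton (K := F) (v := (⟨a, ha⟩ : A)) fun h => ha0 (congrArg Subtype.val h)
      omega
    have hle' : A.comap g.1.toLinearMap ≤ qPerp Q A := hfix
    have hdim : Module.finrank F ↥(A.comap g.1.toLinearMap) = Module.finrank F A := by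
      rw [Submodule.comap_equiv_eq_map_symm, LinearEquiv.finrank_map_eq]
    have heq : A.comap g.1.toLinearMap = qPerp Q A := Submodule.eq_of_le_of_finrank_le hle' (by
      rw [finrank_qPerp Q hQ, hdim]
      omega)
    intro a ha
    refine (mem_qPerp Q).2 fun a' ha' => ?_
    rw [← qApply_inv_self Q g a', qAut_polar]
    have hmem : (g⁻¹).1 a' ∈ qPerp Q A := heq ▸ (show g.1 ((g⁻¹).1 a') ∈ A by rwa [qApply_inv_self])
    rw [QuadraticMap.polar_comm]
    exact (mem_qPerp Q).1 hmem a ha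
  · refine hg (mem_qStab_of_maps Q fun a ha => ?_)
    have hinv : eichGroup (Q.comp A.subtype) ≤ qStab (Q.comp A.subtype) S := by
      refine (Subgroup.closure_le _).2 ?_
      rintro _ ⟨⟨x, hx⟩, ⟨y, hy⟩, hQx, hxy, rfl⟩
      refine mem_qStab_of_maps _ fun v hv => ?_
      rw [hS] at hv ⊢
      change g.1 (v : V) ∈ A at hv
      change g.1 (A.subtype _) ∈ A
      rw [Submodule.subtype_apply, show (((eich (Q.comp A.subtype) ⟨x, hx⟩ ⟨y, hy⟩).1 v : A) : V) = (eich Q x y).1 v from ?_]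
      · exact hpull v hv x hx y hy hQx hxy
      · rw [eich_apply (Q.comp A.subtype) hQx hxy, eich_apply Q (show Q x = 0 from hQx)
          (show QuadraticMap.polar Q x y = 0 from hxy)]
        rfl
    have h := eq_top_of_invariant_three _ hQA hd hS0 hinv
    have hmem : (⟨a, ha⟩ : A) ∈ S := h ▸ Submodule.mem_top
    rw [hS] at hmem
    exact hmem

/-- One mixed Eichler transformation gives everything. -/
theorem eichGroup_le_of_mixed (hQ : PolarNondeg Q) {A : Submodule F V} (hA : NdOn Q A)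
    (hd : 4 ≤ Module.finrank F A) (hn : 5 ≤ Module.finrank F V)
    (hex : ¬ (Fintype.card F ≤ 3 ∧ Module.finrank F (qPerp Q A) = 2 ∧ ∃ x ∈ qPerp Q A, x ≠ 0 ∧ Q x = 0))
    {M : Subgroup (qAut Q)} (hHM : qStab Q A ⊓ eichGroup Q ≤ M) {u b : V}
    (huA : u ∈ A) (hu0 : u ≠ 0) (hQu : Q u = 0) (hb : b ∈ qPerp Q A) (hb0 : b ≠ 0) (hmix : eich Q u b ∈ M) :
    eichGroup Q ≤ M := by
  have hub : ∀ u' ∈ A, ∀ b' ∈ qPerp Q A, QuadraticMap.polar Q u' b' = 0 := fun u' hu' b' hb' =>
    (mem_qPerp Q).1 hb' u' hu'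
  have hmove : ∀ h ∈ qStab Q A ⊓ eichGroup Q, ∀ b' ∈ qPerp Q A, eich Q u b' ∈ M → eich Q u (h.1 b') ∈ M := by
    intro h hh b' hb' hmem
    have h1 := mul_mem (mul_mem (hHM hh) hmem) (inv_mem (hHM hh))
    rw [eich_conj Q h hQu (hub u huA b' hb')] at h1
    obtain ⟨k, hk, hku, hkb⟩ := exists_move_in Q hA (by omega) (apply_mem_of_qStab Q hh.1 huA) huA
      (by rw [qAut_map, hQu]) hQu (fun he => hu0 (h.1.injective (he.trans (map_zero _).symm))) hu0
    have h2 := mul_mem (mul_mem (hHM hk) h1) (inv_mem (hHM hk))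
    rwa [eich_conj Q k (by rw [qAut_map, hQu]) (by rw [qAut_polar, hub u huA b' hb']), hku,
      hkb _ (apply_mem_of_qStab Q (qPerp_invariant Q hh.1) hb')] at h2
  let T : Submodule F V :=
    { carrier := {b' | b' ∈ qPerp Q A ∧ eich Q u b' ∈ M}
      add_mem' := fun {p q} hp hq => ⟨(qPerp Q A).add_mem hp.1 hq.1, by
        rw [← eich_mul Q hQu (hub u huA _ hp.1) (hub u huA _ hq.1)]
        exact mul_mem hp.2 hq.2⟩
      zero_mem' := ⟨(qPerp Q A).zero_mem, by rw [eich_zero Q hQu]; exact one_mem M⟩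
      smul_mem' := fun t p hp => ⟨(qPerp Q A).smul_mem t hp.1, by
        rcases eq_or_ne t 0 with rfl | ht
        · rw [zero_smul, eich_zero Q hQu]
          exact one_mem M
        obtain ⟨k, hk, hku, hkb⟩ := exists_move_in Q hA (by omega) huA (A.smul_mem t huA) hQu
          (by rw [quad_smul, hQu, mul_zero]) hu0 (smul_ne_zero ht hu0)
        have h2 := mul_mem (mul_mem (hHM hk) hp.2) (inv_mem (hHM hk))
        rwa [eich_conj Q k hQu (hub u huA p hp.1), hku, hkb p hp.1, eich_smul_left Q hQu (hub u huA p hp.1)] at h2⟩ }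
  have hT : T = qPerp Q A := by
    refine eq_of_refl_invariant Q hQ (ndOn_qPerp Q hQ hA) (fun p hp => hp.1)
      (fun h => hb0 ((Submodule.eq_bot_iff T).1 h b ⟨hb, hmix⟩)) ?_ ?_ hex
    · intro r hr hQr t ht htr
      obtain ⟨h, hh, hhb⟩ := exists_refl_pair Q hQ (by omega) hA (by omega) hr hQr
      have h1 : (qRefl Q hQr).1 t ∈ T :=
        ⟨hhb t ht.1 ▸ apply_mem_of_qStab Q (qPerp_invariant Q hh.1) ht.1, hhb t ht.1 ▸ hmove h hh t ht.1 ht.2⟩
      rw [qRefl_apply, T.sub_mem_iff_right ht] at h1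
      have h2 := T.smul_mem ((Q r)⁻¹ * QuadraticMap.polar Q t r)⁻¹ h1
      rwa [smul_smul, inv_mul_cancel₀ (mul_ne_zero (inv_ne_zero hQr) htr), one_smul] at h2
    · intro p hp q hq hQp hpq t ht
      have hh : eich Q p q ∈ qStab Q A ⊓ eichGroup Q :=
        ⟨eich_mem_qStab_perp Q hQp hpq (fun z hz => hub z hz p hp) (fun z hz => hub z hz q hq), eich_mem Q hQp hpq⟩
      exact ⟨apply_mem_of_qStab Q (qPerp_invariant Q hh.1) ht.1, hmove _ hh t ht.1 ht.2⟩
  have hfull : EFull Q M u := by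
    intro z hz
    obtain ⟨a', ha', b', hb', rfl⟩ := exists_add_qPerp Q hQ hA z
    rw [QuadraticMap.polar_add_right, hub u huA b' hb', add_zero] at hz
    rw [← eich_mul Q hQu hz (hub u huA b' hb')]
    exact mul_mem (hHM ⟨eich_mem_qStab Q hQu hz huA ha', eich_mem Q hQu hz⟩) (hT.symm ▸ hb' : b' ∈ T).2
  obtain ⟨v, hvA, hQv, huv⟩ := exists_partner Q hA huA hu0 hQu
  obtain ⟨k, hk, hku, -⟩ := exists_move_in Q hA (by omega) huA hvA hQu hQv hu0 (fun h => by
    rw [h, QuadraticMap.polar_zero_right] at huv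
    exact zero_ne_one huv)
  exact eichGroup_le_of_full Q hQ (by omega) hQu hQv (huv ▸ one_ne_zero) hfull
    (hku ▸ efull_conj Q (hHM hk) hQu hfull)

/-- One element of `M` carrying a singular vector of `A` into `A`, but not all of its perp in `A`, gives
everything. -/
theorem eichGroup_le_of_pair (hQ : PolarNondeg Q) {A : Submodule F V} (hA : NdOn Q A)
    (hd : 4 ≤ Module.finrank F A) (hn : 5 ≤ Module.finrank F V)
    (hex : ¬ (Fintype.card F ≤ 3 ∧ Module.finrank F (qPerp Q A) = 2 ∧ ∃ x ∈ qPerp Q A, x ≠ 0 ∧ Q x = 0))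
    {M : Subgroup (qAut Q)} (hHM : qStab Q A ⊓ eichGroup Q ≤ M) {g₁ : qAut Q} (hg₁M : g₁ ∈ M) {u w : V}
    (huA : u ∈ A) (hu0 : u ≠ 0) (hQu : Q u = 0) (hgu : g₁.1 u ∈ A) (hwA : w ∈ A)
    (huw : QuadraticMap.polar Q u w = 0) (hgw : g₁.1 w ∉ A) : eichGroup Q ≤ M := by
  obtain ⟨a, ha, b, hb, hab⟩ := exists_add_qPerp Q hQ hA (g₁.1 w)
  have hb0 : b ≠ 0 := fun h => hgw (by rw [← hab, h, add_zero]; exact ha)
  have hub : ∀ u' ∈ A, ∀ b' ∈ qPerp Q A, QuadraticMap.polar Q u' b' = 0 := fun u' hu' b' hb' =>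
    (mem_qPerp Q).1 hb' u' hu'
  have hQu' : Q (g₁.1 u) = 0 := by rw [qAut_map, hQu]
  have hua : QuadraticMap.polar Q (g₁.1 u) a = 0 := by
    have h := qAut_polar g₁ u w
    rw [huw, ← hab, QuadraticMap.polar_add_right, hub (g₁.1 u) hgu b hb, add_zero] at h
    exact h
  -- one mixed element
  have hmix : eich Q u b ∈ M := by
    have h1 : eich Q (g₁.1 u) (g₁.1 w) ∈ M := by
      have h := mul_mem (mul_mem hg₁M (hHM ⟨eich_mem_qStab Q hQu huw huA hwA, eich_mem Q hQu huw⟩)) (inv_mem hg₁M)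
      rwa [eich_conj Q _ hQu huw] at h
    rw [← hab, ← eich_mul Q hQu' hua (hub _ hgu b hb)] at h1
    have h2 := (Subgroup.mul_mem_cancel_left M (hHM ⟨eich_mem_qStab Q hQu' hua hgu ha, eich_mem Q hQu' hua⟩)).1 h1
    obtain ⟨k, hk, hku, hkb⟩ := exists_move_in Q hA (by omega) hgu huA hQu' hQu
      (fun he => hu0 (g₁.1.injective (he.trans (map_zero _).symm))) hu0
    have h3 := mul_mem (mul_mem (hHM hk) h2) (inv_mem (hHM hk))
    rwa [eich_conj Q k hQu' (hub _ hgu b hb), hku, hkb b hb] at h3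
  exact eichGroup_le_of_mixed Q hQ hA hd hn hex hHM huA hu0 hQu hb hb0 hmix

/-- A group above the stabiliser of a non-degenerate subspace is the stabiliser or everything. -/
theorem eichGroup_le_of_nondeg (hQ : PolarNondeg Q) {A : Submodule F V} (hA : NdOn Q A)
    (hd : 5 ≤ Module.finrank F A) (hle : Module.finrank F V ≤ 2 * Module.finrank F A)
    (hswap : ∀ g ∈ eichGroup Q, ¬ ∀ a ∈ A, g.1 a ∈ qPerp Q A)
    (hex : ¬ (Fintype.card F ≤ 3 ∧ Module.finrank F (qPerp Q A) = 2 ∧ ∃ x ∈ qPerp Q A, x ≠ 0 ∧ Q x = 0))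
    {M : Subgroup (qAut Q)} (hHM : qStab Q A ⊓ eichGroup Q ≤ M) (hME : M ≤ eichGroup Q)
    (hne : ¬ M ≤ qStab Q A) : eichGroup Q ≤ M := by
  have hdV := Submodule.finrank_le A
  obtain ⟨g, hgM, hgA⟩ := SetLike.not_le_iff_exists.1 hne
  obtain ⟨x, hx, y, hy, hQx, hxy, hg1⟩ := exists_eich_moving Q hQ hA (by omega) hle hgA (hswap g (hME hgM))
  obtain ⟨X, hX⟩ : ∃ X, X = g.1 x := ⟨_, rfl⟩
  obtain ⟨Y, hY⟩ : ∃ Y, Y = g.1 y := ⟨_, rfl⟩
  have hg1M : eich Q X Y ∈ M := by
    rw [hX, hY, ← eich_conj Q g hQx hxy]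
    exact mul_mem (mul_mem hgM (hHM ⟨eich_mem_qStab Q hQx hxy hx hy, eich_mem Q hQx hxy⟩)) (inv_mem hgM)
  rw [← hX, ← hY] at hg1
  have hQX : Q X = 0 := by rw [hX, qAut_map, hQx]
  have hXY : QuadraticMap.polar Q X Y = 0 := by rw [hX, hY, qAut_polar, hxy]
  obtain ⟨K, hK⟩ : ∃ K, K = A ⊓ A.comap (eich Q X Y).1.toLinearMap := ⟨_, rfl⟩
  obtain ⟨D, hD⟩ : ∃ D, D = A ⊓ qPerp Q (Submodule.span F {X} ⊔ Submodule.span F {Y}) := ⟨_, rfl⟩
  have hfix : ∀ v ∈ D, (eich Q X Y).1 v = v := by
    intro v hv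
    rw [hD] at hv
    have h := (mem_qPerp Q).1 hv.2
    rw [eich_apply Q hQX hXY, QuadraticMap.polar_comm Q v X,
      h X (Submodule.mem_sup_left (Submodule.mem_span_singleton_self X)), QuadraticMap.polar_comm Q v Y,
      h Y (Submodule.mem_sup_right (Submodule.mem_span_singleton_self Y))]
    simp
  have hDA : D ≤ A := hD ▸ inf_le_left
  have hDK : D ≤ K := fun v hv => hK ▸ ⟨hDA hv, show (eich Q X Y).1 v ∈ A from (hfix v hv).symm ▸ hDA hv⟩
  have hKA : K ≤ A := hK ▸ inf_le_left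
  have hKlt : Module.finrank F K < Module.finrank F A :=
    Submodule.finrank_lt_finrank_of_lt (lt_of_le_of_ne hKA fun h => hg1 (mem_qStab_of_maps Q fun v hv => by
      rw [← h, hK] at hv
      exact hv.2))
  have hDdim : Module.finrank F A ≤ Module.finrank F D + 2 := by
    have h1 := Submodule.finrank_sup_add_finrank_inf_eq A (qPerp Q (Submodule.span F {X} ⊔ Submodule.span F {Y}))
    have h2 := Submodule.finrank_le (A ⊔ qPerp Q (Submodule.span F {X} ⊔ Submodule.span F {Y}))
    have h3 := Submodule.finrank_add_le_finrank_add_finrank (Submodule.span F {X}) (Submodule.span F {Y})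
    have h4 : ∀ v : V, Module.finrank F (Submodule.span F {v}) ≤ 1 := fun v => by
      simpa using finrank_span_le_card (R := F) ({v} : Set V)
    rw [← hD, finrank_qPerp Q hQ] at h1
    have := h4 X
    have := h4 Y
    have := Submodule.finrank_le (Submodule.span F {X} ⊔ Submodule.span F {Y})
    omega
  have hKperp := finrank_inf_qPerp Q hQ hA hKA
  have hDKd := Submodule.finrank_mono hDK
  obtain ⟨u, huK, hu0, hQu, hor⟩ : ∃ u ∈ K, u ≠ 0 ∧ Q u = 0 ∧
      (Module.finrank F K + 2 ≤ Module.finrank F A ∨ u ∉ qPerp Q K) := by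
    by_cases hsmall : Module.finrank F K + 2 ≤ Module.finrank F A
    · obtain ⟨u, hu, hu0, hQu⟩ := exists_singular_mem Q (C := K) (by omega)
      exact ⟨u, hu, hu0, hQu, Or.inl hsmall⟩
    obtain ⟨C, hC⟩ := Submodule.exists_isCompl (A ⊓ qPerp Q K)
    obtain ⟨u, huC, hu0, hQu⟩ := exists_singular_mem Q (C := K ⊓ C) (by
      have h1 := Submodule.finrank_sup_add_finrank_inf_eq K C
      have h2 := Submodule.finrank_le (K ⊔ C)
      have h3 := Submodule.finrank_add_eq_of_isCompl hC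
      omega)
    exact ⟨u, huC.1, hu0, hQu, Or.inr fun h =>
      hu0 (Submodule.disjoint_def.1 hC.disjoint u ⟨hKA huC.1, h⟩ huC.2)⟩
  have huA : u ∈ A := hKA huK
  obtain ⟨w, ⟨hwA, hwu⟩, hwK⟩ : ∃ w ∈ A ⊓ qPerp Q (Submodule.span F {u}), w ∉ K :=
    SetLike.not_le_iff_exists.1 fun h => by
      have h1 := finrank_inf_qPerp Q hQ hA (T := Submodule.span F {u})
        ((Submodule.span_singleton_le_iff_mem _ _).2 huA)
      rw [finrank_span_singleton hu0] at h1
      rcases hor with hsmall | huK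
      · have := Submodule.finrank_mono h
        omega
      have heq := Submodule.eq_of_le_of_finrank_le h (by omega)
      refine huK ((mem_qPerp Q).2 fun k hk => ?_)
      rw [← heq] at hk
      rw [QuadraticMap.polar_comm]
      exact (mem_qPerp_singleton Q).1 hk.2
  have huw : QuadraticMap.polar Q u w = 0 := (mem_qPerp_singleton Q).1 hwu
  have hgu : (eich Q X Y).1 u ∈ A := by
    rw [hK] at huK
    exact huK.2
  exact eichGroup_le_of_pair Q hQ hA (by omega) (by omega) hex hHM hg1M huA hu0 hQu hgu hwA huw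
    fun h => hwK (hK ▸ ⟨hwA, h⟩)

end CfsgLib.Classical22
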