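import Mathlib.Topology.Compactification.OnePoint.ProjectiveLine
import Mathlib.LinearAlgebra.Matrix.GeneralLinearGroup.Basic
import Mathlib.FieldTheory.IsAlgClosed.AlgebraicClosure
import Mathlib.GroupTheory.GroupAction.Quotient
import Mathlib.GroupTheory.Sylow

/-!
Dickson's bound: a finite subgroup of `GL(2)` which has a non-trivial translation group `A` at infinity
and moves infinity has `|A| < 2 |Λ|`, where `Λ` is the set of multipliers of `A`.
-/

set_option autoImplicit false

namespace CfsgLib.Classical22.DicksonPlane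

open Matrix OnePoint
open scoped MatrixGroups

variable {F : Type*} [Field F]

/-- The translations in `G`, up to scalars. -/
def transl (G : Subgroup (GL (Fin 2) F)) : Set F :=
  {a | ∃ g ∈ G, g.val 1 0 = 0 ∧ g.val 0 0 = g.val 1 1 ∧ g.val 0 1 = a * g.val 0 0}

/-- The multipliers preserving a set. -/
def multipliers (A : Set F) : Set F := {l | ∀ a ∈ A, l * a ∈ A}

theorem diag_ne_zero {g : GL (Fin 2) F} (h : g.val 1 0 = 0) : g.val 0 0 ≠ 0 ∧ g.val 1 1 ≠ 0 := by
  have h2 : IsUnit (g : Matrix (Fin 2) (Fin 2) F).det := (Matrix.isUnit_iff_isUnit_det _).mp g.isUnit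
  rw [Matrix.det_fin_two, h, mul_zero, sub_zero, isUnit_iff_ne_zero, mul_ne_zero_iff] at h2
  exact h2

theorem mul_apply_two (g h : GL (Fin 2) F) (i j : Fin 2) :
    (g * h).val i j = g.val i 0 * h.val 0 j + g.val i 1 * h.val 1 j := by
  rw [Units.val_mul, Matrix.mul_apply, Fin.sum_univ_two]

/-- The scalar matrices. -/
def IsScal (g : GL (Fin 2) F) : Prop := g.val 1 0 = 0 ∧ g.val 0 1 = 0 ∧ g.val 0 0 = g.val 1 1

theorem isScal_iff (g : GL (Fin 2) F) : IsScal g ↔ (g : Matrix (Fin 2) (Fin 2) F) = g.val 0 0 • 1 := by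
  constructor
  · rintro ⟨h1, h2, h3⟩
    ext i j
    fin_cases i <;> fin_cases j <;> simp [h1, h2, h3]
  · intro h
    refine ⟨?_, ?_, ?_⟩
    · have := congrFun (congrFun h 1) 0; simpa using this
    · have := congrFun (congrFun h 0) 1; simpa using this
    · have := congrFun (congrFun h 1) 1; simpa using this.symm

theorem isScal_conj {g : GL (Fin 2) F} (hg : IsScal g) (h : GL (Fin 2) F) : IsScal (h * g * h⁻¹) := by
  have he : (h * g * h⁻¹ : GL (Fin 2) F) = g := by
    apply Units.ext
    rw [Units.val_mul, Units.val_mul, (isScal_iff g).mp hg, Matrix.mul_smul, Matrix.mul_one,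
      Matrix.smul_mul, Units.mul_inv]
  rw [he]
  exact hg

section Fix

variable {K : Type*} [Field K] [DecidableEq K]

theorem fix_infty_iff (g : GL (Fin 2) K) : g • (∞ : OnePoint K) = ∞ ↔ g.val 1 0 = 0 := by
  rw [OnePoint.smul_infty_eq_ite]
  split_ifs with h <;> simp [h]

theorem fix_some_iff (g : GL (Fin 2) K) (x : K) : g • (x : OnePoint K) = x ↔
    g.val 1 0 * (x * x) + (g.val 1 1 - g.val 0 0) * x - g.val 0 1 = 0 := by
  rw [OnePoint.smul_some_eq_ite]
  split_ifs with h
  · simp only [OnePoint.infty_ne_coe, false_iff]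
    intro h0
    have hdet : IsUnit (g : Matrix (Fin 2) (Fin 2) K).det := (Matrix.isUnit_iff_isUnit_det _).mp g.isUnit
    rw [Matrix.det_fin_two, isUnit_iff_ne_zero] at hdet
    apply hdet
    linear_combination g.val 0 0 * h + g.val 1 0 * h0 - g.val 1 0 * x * h
  · rw [OnePoint.coe_eq_coe, div_eq_iff h]
    constructor <;> intro h0 <;> linear_combination -h0

/-- The fixed points of a non-scalar element. -/
theorem fix_cases [IsAlgClosed K] (g : GL (Fin 2) K) (hg : ¬ IsScal g) :
    ∃ P R : OnePoint K, (∀ x, g • x = x ↔ x = P ∨ x = R) ∧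
      (P = R → ∃ l : K, ((g : Matrix (Fin 2) (Fin 2) K) - l • 1) * ((g : Matrix (Fin 2) (Fin 2) K) - l • 1) = 0) := by
  by_cases hc : g.val 1 0 = 0
  · by_cases had : g.val 0 0 = g.val 1 1
    · refine ⟨∞, ∞, fun x => ?_, fun _ => ⟨g.val 0 0, ?_⟩⟩
      · induction x using OnePoint.rec with
        | infty => simp [fix_infty_iff, hc]
        | coe y =>
          simp only [fix_some_iff, OnePoint.coe_ne_infty, or_self, iff_false]
          rw [hc, had, sub_self, zero_mul, zero_mul, add_zero, zero_sub, neg_eq_zero]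
          exact fun h => hg ⟨hc, h, had⟩
      · ext i j
        fin_cases i <;> fin_cases j <;> simp [Matrix.mul_apply, Fin.sum_univ_two, hc, had]
    · refine ⟨∞, ((g.val 0 1 / (g.val 1 1 - g.val 0 0) : K) : OnePoint K), fun x => ?_, fun h => absurd h (OnePoint.infty_ne_coe _)⟩
      have hne : g.val 1 1 - g.val 0 0 ≠ 0 := sub_ne_zero.mpr (Ne.symm had)
      induction x using OnePoint.rec with
      | infty => simp [fix_infty_iff, hc]
      | coe y =>
        simp only [fix_some_iff, OnePoint.coe_ne_infty, false_or, OnePoint.coe_eq_coe]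
        rw [hc, eq_div_iff hne]
        constructor <;> intro h0 <;> linear_combination h0
  · obtain ⟨x₁, hx₁⟩ := IsAlgClosed.exists_root
      (Polynomial.C (g.val 1 0) * Polynomial.X ^ 2 + Polynomial.C (g.val 1 1 - g.val 0 0) * Polynomial.X +
        Polynomial.C (- g.val 0 1))
      (by rw [Polynomial.degree_quadratic hc]; decide)
    simp only [Polynomial.IsRoot.def, Polynomial.eval_add, Polynomial.eval_mul, Polynomial.eval_C,
      Polynomial.eval_pow, Polynomial.eval_X] at hx₁
    set x₂ := (g.val 0 0 - g.val 1 1) / g.val 1 0 - x₁ with hx₂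
    have hsum : g.val 1 0 * (x₁ + x₂) = g.val 0 0 - g.val 1 1 := by
      rw [hx₂]; field_simp; ring
    have hb : g.val 0 1 = - g.val 1 0 * x₁ * x₂ := by
      linear_combination -hx₁ + x₁ * hsum
    refine ⟨(x₁ : OnePoint K), (x₂ : OnePoint K), fun x => ?_, fun h => ⟨g.val 1 0 * x₁ + g.val 1 1, ?_⟩⟩
    · induction x using OnePoint.rec with
      | infty => simp [fix_infty_iff, hc]
      | coe y =>
        simp only [fix_some_iff, OnePoint.coe_eq_coe]
        rw [show g.val 1 0 * (y * y) + (g.val 1 1 - g.val 0 0) * y - g.val 0 1 =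
          g.val 1 0 * ((y - x₁) * (y - x₂)) by linear_combination -hb + y * hsum,
          mul_eq_zero, mul_eq_zero, sub_eq_zero, sub_eq_zero, or_iff_right hc]
    · rw [OnePoint.coe_eq_coe] at h
      rw [← h] at hb hsum
      have ha : g.val 0 0 = g.val 1 1 + 2 * g.val 1 0 * x₁ := by linear_combination -hsum
      have key : ∀ a b c d : K, a = d + 2 * c * x₁ → b = -c * x₁ * x₁ →
          (!![a, b; c, d] - (c * x₁ + d) • 1) * (!![a, b; c, d] - (c * x₁ + d) • 1) = 0 := by
        rintro a b c d rfl rfl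
        ext i j
        fin_cases i <;> fin_cases j <;> simp [Matrix.mul_apply, Fin.sum_univ_two] <;> ring
      have h0 := key _ _ _ _ ha hb
      rwa [← Matrix.eta_fin_two (g : Matrix (Fin 2) (Fin 2) K)] at h0

end Fix

section Count

variable [Finite F]

/-- The pair of bounds coming from the count of fixed points. -/
theorem numerics {N z Q d f k : ℕ} {X : ℕ} (hz : 0 < z) (hd : 0 < d) (hQ : 2 ≤ Q) (hf : 2 ≤ f)
    (hN : N = f * (z * Q * d)) (hXk : k = 0 → X = 0)
    (hburn : (k + 1) * N + f * (z * Q) + 2 * z = z * (f + X) + 2 * N + f * z)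
    (hX2 : 2 * z * X ≤ k * N) (hXdvd : k = 1 → ∃ e, e * z * X = N) : Q < 2 * (d + 1) := by
  subst hN
  have h1 : z * ((k + 1) * (f * (Q * d)) + f * Q + 2) = z * (f + X + 2 * (f * (Q * d)) + f) := by
    linarith [hburn, show (k + 1) * (f * (z * Q * d)) = z * ((k + 1) * (f * (Q * d))) by ring,
      show f * (z * Q * d) = z * (f * (Q * d)) by ring]
  have h2 := Nat.eq_of_mul_eq_mul_left hz h1
  have h3 : 2 * X ≤ k * (f * (Q * d)) := by
    refine Nat.le_of_mul_le_mul_left ?_ hz
    linarith [hX2, show k * (f * (z * Q * d)) = z * (k * (f * (Q * d))) by ring]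
  rcases k with - | k
  · rw [hXk rfl] at h2
    by_contra hlt
    push_neg at hlt
    have : f * (2 * (d + 1)) ≤ f * Q := Nat.mul_le_mul_left f hlt
    rcases Nat.lt_or_ge d 2 with hd2 | hd2
    · obtain rfl : d = 1 := by omega
      simp only [mul_one, zero_add, one_mul] at h2
      omega
    · have : f * (Q * 2) ≤ f * (Q * d) := Nat.mul_le_mul_left _ (Nat.mul_le_mul_left _ hd2)
      have h4 : f * (Q * 2) = 2 * (f * Q) := by ring
      nlinarith [h2, this, h4, Nat.zero_le (f * Q)]
  · rcases k with - | k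
    · obtain ⟨e, he⟩ := hXdvd rfl
      have he' : e * X = f * (Q * d) := by
        refine Nat.eq_of_mul_eq_mul_left hz ?_
        linarith [he, show e * z * X = z * (e * X) by ring, show f * (z * Q * d) = z * (f * (Q * d)) by ring]
      have hX : X + 2 * f = f * Q + 2 := by linarith [h2]
      by_contra hlt
      push_neg at hlt
      rcases Nat.lt_or_ge d e with hde | hde
      · have : (d + 1) * X ≤ e * X := Nat.mul_le_mul_right _ hde
        have : f * (2 * (d + 1)) ≤ f * Q := Nat.mul_le_mul_left f hlt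
        nlinarith [he', hX]
      · have : e * X ≤ d * X := Nat.mul_le_mul_right _ hde
        have hlt' : X < f * Q := by omega
        have : d * X < d * (f * Q) := Nat.mul_lt_mul_of_pos_left hlt' hd
        nlinarith [he']
    · exfalso
      have h5 : f * Q ≥ 4 := Nat.mul_le_mul hf hQ
      nlinarith [h2, h3, Nat.zero_le (k * (f * (Q * d))), Nat.le_mul_of_pos_right (f * Q) hd]

theorem exists_prime_pow_dvd_eq_one {K : Type*} [Field K] {p : ℕ} [Fact p.Prime] [CharP K p] {l : K} {s : ℕ}
    (h : l ^ p ^ s = 1) : l = 1 := by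
  refine sub_eq_zero.mp ((pow_eq_zero_iff (n := p ^ s) (pow_ne_zero _ (Fact.out (p := p.Prime)).ne_zero)).mp ?_)
  rw [sub_pow_char_pow, h, one_pow, sub_self]

open scoped Classical in
/-- Dickson's bound. -/
theorem card_transl_lt (G : Subgroup (GL (Fin 2) F)) {a₀ : F} (ha₀ : a₀ ≠ 0) {u₀ : GL (Fin 2) F}
    (hu₀ : u₀ ∈ G) (hu₀v : (u₀ : Matrix (Fin 2) (Fin 2) F) = !![1, a₀; 0, 1])
    {g₀ : GL (Fin 2) F} (hg₀ : g₀ ∈ G) (hg₀c : g₀.val 1 0 ≠ 0) :
    (transl G).ncard < 2 * (multipliers (transl G)).ncard := by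
  haveI := Fintype.ofFinite F
  obtain ⟨p, hp⟩ := CharP.exists F
  haveI : Fact p.Prime := ⟨CharP.char_is_prime F p⟩
  let K := AlgebraicClosure F
  haveI : CharP K p := charP_of_injective_algebraMap (algebraMap F K).injective p
  let ι : GL (Fin 2) F →* GL (Fin 2) K := Matrix.GeneralLinearGroup.map (algebraMap F K)
  have hι : ∀ (g : GL (Fin 2) F) i j, (ι g).val i j = algebraMap F K (g.val i j) := fun _ _ _ => rfl
  have hscal : ∀ g : GL (Fin 2) F, IsScal (ι g) ↔ IsScal g := fun g => by
    simp [IsScal, hι]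
  letI : MulAction G (OnePoint K) := MulAction.compHom _ (ι.comp G.subtype)
  have hsmul : ∀ (g : G) (x : OnePoint K), g • x = ι (g : GL (Fin 2) F) • x := fun _ _ => rfl
  have hscalfix : ∀ (g : G), IsScal (g : GL (Fin 2) F) → ∀ x : OnePoint K, g • x = x := by
    intro g hg x
    have h := (hscal g).mpr hg
    rw [hsmul]
    induction x using OnePoint.rec with
    | infty => rw [fix_infty_iff]; exact h.1
    | coe y => rw [fix_some_iff, h.1, h.2.1, h.2.2]; ring
  -- scalars
  let Z : Subgroup G :=
    { carrier := {g | IsScal (g : GL (Fin 2) F)}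
      one_mem' := ⟨by simp, by simp, by simp⟩
      mul_mem' := by
        rintro x y ⟨h1, h2, h3⟩ ⟨h4, h5, h6⟩
        exact ⟨by simp [mul_apply_two, h1, h4], by simp [mul_apply_two, h2, h5],
          by simp [mul_apply_two, h1, h2, h3, h6, h5]⟩
      inv_mem' := by
        intro x hx
        have h := (isScal_iff _).mp hx
        have hne := (diag_ne_zero hx.1).1
        refine (isScal_iff _).mpr ?_
        have h2 : (((x : GL (Fin 2) F)⁻¹ : GL (Fin 2) F) : Matrix (Fin 2) (Fin 2) F) = ((x : GL (Fin 2) F).val 0 0)⁻¹ • 1 := by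
          have h3 := Units.inv_mul (x : GL (Fin 2) F)
          rw [h, Matrix.mul_smul, Matrix.mul_one] at h3
          rw [← h3, smul_smul, inv_mul_cancel₀ hne, one_smul]
        rw [Subgroup.coe_inv]
        conv_rhs => rw [h2]
        rw [h2]; simp }
  -- fixed points
  have hfix : ∀ g : G, ¬ IsScal (g : GL (Fin 2) F) → ∃ P R : OnePoint K, (∀ x, g • x = x ↔ x = P ∨ x = R) ∧
      (P = R → ∃ l : K, ((ι (g : GL (Fin 2) F) : Matrix (Fin 2) (Fin 2) K) - l • 1) *
        ((ι (g : GL (Fin 2) F) : Matrix (Fin 2) (Fin 2) K) - l • 1) = 0) := fun g hg =>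
    fix_cases (ι (g : GL (Fin 2) F)) (by rwa [hscal])
  choose P R hPR hPReq using hfix
  -- a non-trivial p-element fixes exactly one point
  have hpelem : ∀ g : G, g ≠ 1 → (∃ s, g ^ p ^ s = 1) → ∃ h : ¬ IsScal (g : GL (Fin 2) F), P g h = R g h := by
    rintro g hg1 ⟨s, hs⟩
    have hgs : (g : GL (Fin 2) F) ^ p ^ s = 1 := by rw [← SubgroupClass.coe_pow, hs, Subgroup.coe_one]
    have hns : ¬ IsScal (g : GL (Fin 2) F) := by
      intro hc
      apply hg1
      have h := (isScal_iff _).mp hc
      have h2 : ((g : GL (Fin 2) F).val 0 0) ^ p ^ s = 1 := by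
        have h3 := congrArg (fun m : GL (Fin 2) F => m.val 0 0) hgs
        simp only [Units.val_pow_eq_pow_val] at h3
        rw [h, smul_pow, one_pow] at h3
        simpa using h3
      rw [exists_prime_pow_dvd_eq_one h2, one_smul] at h
      exact Subtype.ext (Units.ext h)
    refine ⟨hns, ?_⟩
    by_contra hne
    -- in a basis of the two fixed lines the element would be diagonal
    obtain ⟨M, hM⟩ : ∃ M : GL (Fin 2) K, M = ι (g : GL (Fin 2) F) := ⟨_, rfl⟩
    have hMs : (M : Matrix (Fin 2) (Fin 2) K) ^ p ^ s = 1 := by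
      rw [hM, ← Units.val_pow_eq_pow_val, ← map_pow, hgs, map_one, Units.val_one]
    have key : ∀ x : OnePoint K, g • x = x → ∃ (v : Fin 2 → K), v ≠ 0 ∧ (M : Matrix (Fin 2) (Fin 2) K) *ᵥ v = v ∧
        ((x = ∞ ∧ v = ![1, 0]) ∨ ∃ y : K, x = (y : OnePoint K) ∧ v = ![y, 1]) := by
      intro x hx
      have heig : ∀ (v : Fin 2 → K) (l : K), v ≠ 0 → (M : Matrix (Fin 2) (Fin 2) K) *ᵥ v = l • v →
          (M : Matrix (Fin 2) (Fin 2) K) *ᵥ v = v := by
        intro v l hv hl
        have hpow : ∀ j : ℕ, ((M : Matrix (Fin 2) (Fin 2) K) ^ j) *ᵥ v = l ^ j • v := by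
          intro j
          induction j with
          | zero => simp
          | succ j ih => rw [pow_succ', ← Matrix.mulVec_mulVec, ih, Matrix.mulVec_smul, hl, smul_smul, ← pow_succ]
        have h2 := hpow (p ^ s)
        rw [hMs, Matrix.one_mulVec] at h2
        have : l ^ p ^ s = 1 := by
          by_contra hl1
          apply hv
          have h3 : (l ^ p ^ s - 1) • v = 0 := by rw [sub_smul, one_smul, ← h2, sub_self]
          exact (smul_eq_zero.mp h3).resolve_left (sub_ne_zero.mpr hl1)
        rw [hl, exists_prime_pow_dvd_eq_one this, one_smul]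
      rw [hsmul, ← hM] at hx
      induction x using OnePoint.rec with
      | infty =>
        rw [fix_infty_iff] at hx
        refine ⟨![1, 0], by simp, heig _ (M.val 0 0) (by simp) ?_, Or.inl ⟨rfl, rfl⟩⟩
        ext i
        fin_cases i <;> simp [Matrix.mulVec, dotProduct, Fin.sum_univ_two, hx]
      | coe y =>
        rw [fix_some_iff] at hx
        refine ⟨![y, 1], by simp, heig _ (M.val 1 0 * y + M.val 1 1) (by simp) ?_, Or.inr ⟨y, rfl, rfl⟩⟩
        ext i
        fin_cases i
        · simp [Matrix.mulVec, dotProduct, Fin.sum_univ_two]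
          linear_combination -hx
        · simp [Matrix.mulVec, dotProduct, Fin.sum_univ_two]
    obtain ⟨v, -, hv, hv'⟩ := key _ ((hPR g hns _).mpr (Or.inl rfl))
    obtain ⟨w, -, hw, hw'⟩ := key _ ((hPR g hns _).mpr (Or.inr rfl))
    apply hns
    rw [← hscal, ← hM]
    have hMone : (M : Matrix (Fin 2) (Fin 2) K) = 1 := by
      have e0 := congrFun hv 0
      have e1 := congrFun hv 1
      have f0 := congrFun hw 0
      have f1 := congrFun hw 1
      rcases hv' with ⟨hP, rfl⟩ | ⟨y, hP, rfl⟩ <;> rcases hw' with ⟨hR, rfl⟩ | ⟨y', hR, rfl⟩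
      · exact absurd (hP.trans hR.symm) hne
      all_goals simp [Matrix.mulVec, dotProduct, Fin.sum_univ_two] at e0 e1 f0 f1
      · ext i j
        fin_cases i <;> fin_cases j <;> simp
        · exact e0
        · rw [e0] at f0; linear_combination f0
        · exact e1
        · rw [e1] at f1; linear_combination f1
      · ext i j
        fin_cases i <;> fin_cases j <;> simp
        · exact f0
        · rw [f0] at e0; linear_combination e0
        · exact f1
        · rw [f1] at e1; linear_combination e1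
      · have hyy : y - y' ≠ 0 := sub_ne_zero.mpr fun h => hne (by rw [hP, hR, h])
        have h00 : M.val 0 0 = 1 := mul_right_cancel₀ hyy (by linear_combination e0 - f0)
        have h10 : M.val 1 0 = 0 := mul_right_cancel₀ hyy (by linear_combination e1 - f1)
        ext i j
        fin_cases i <;> fin_cases j <;> simp
        · exact h00
        · rw [h00] at e0; linear_combination e0
        · exact h10
        · rw [h10] at e1; linear_combination e1
    refine ⟨?_, ?_, ?_⟩ <;> simp [hMone]
  -- the p-element at infinity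
  let u : G := ⟨u₀, hu₀⟩
  have huns : ¬ IsScal (u : GL (Fin 2) F) := fun h => ha₀ (by simpa [u, hu₀v] using h.2.1)
  have hu1 : u ≠ 1 := fun h => huns (by rw [h]; exact ⟨by simp, by simp, by simp⟩)
  have hup : u ^ p = 1 := by
    have hk : ∀ k : ℕ, (u₀ : Matrix (Fin 2) (Fin 2) F) ^ k = !![1, (k : F) * a₀; 0, 1] := by
      intro k
      induction k with
      | zero => simp [Matrix.one_fin_two]
      | succ k ih =>
        rw [pow_succ, ih, hu₀v]
        ext i j
        fin_cases i <;> fin_cases j <;> simp [Matrix.mul_apply, Fin.sum_univ_two]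
        ring
    refine Subtype.ext (Units.ext ?_)
    show ((u₀ ^ p : GL (Fin 2) F) : Matrix (Fin 2) (Fin 2) F) = 1
    rw [Units.val_pow_eq_pow_val, hk, CharP.cast_eq_zero, zero_mul, Matrix.one_fin_two]
  have hinf : ∀ g : G, g • (∞ : OnePoint K) = ∞ ↔ (g : GL (Fin 2) F).val 1 0 = 0 := fun g => by
    rw [hsmul, fix_infty_iff, hι, map_eq_zero]
  -- the poles
  let Xset : Set (OnePoint K) := {x | ∃ g : G, ¬ IsScal (g : GL (Fin 2) F) ∧ g • x = x}
  haveI : Finite G := Finite.of_injective (fun g : G => (g : GL (Fin 2) F)) Subtype.val_injective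
  haveI hXfin : Finite Xset := by
    refine Set.Finite.to_subtype (Set.Finite.subset (Set.finite_iUnion fun g : {g : G // ¬ IsScal (g : GL (Fin 2) F)} =>
      Set.toFinite ({P g.1 g.2, R g.1 g.2} : Set (OnePoint K))) ?_)
    rintro x ⟨g, hg, hx⟩
    exact Set.mem_iUnion.mpr ⟨⟨g, hg⟩, (hPR g hg x).mp hx⟩
  have hXinv : ∀ (h : G) (x : OnePoint K), x ∈ Xset → h • x ∈ Xset := by
    rintro h x ⟨g, hg, hx⟩
    refine ⟨h * g * h⁻¹, fun hc => hg ?_, by rw [mul_smul, mul_smul, inv_smul_smul, hx]⟩
    have := isScal_conj hc (h⁻¹ : GL (Fin 2) F)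
    simpa [mul_assoc] using this
  letI : MulAction G Xset :=
    { smul := fun g x => ⟨g • x.1, hXinv g x.1 x.2⟩
      one_smul := fun x => Subtype.ext (one_smul G x.1)
      mul_smul := fun g h x => Subtype.ext (mul_smul g h x.1) }
  haveI : Fintype G := Fintype.ofFinite G
  haveI : Fintype Xset := Fintype.ofFinite Xset
  let inf₀ : Xset := ⟨∞, u, huns, (hinf u).mpr (by simp [u, hu₀v])⟩
  -- an element with a single fixed point fixes a point of the orbit of infinity
  have hone : ∀ (g : G) (hg : ¬ IsScal (g : GL (Fin 2) F)), P g hg = R g hg →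
      ∃ h : G, h • (∞ : OnePoint K) = P g hg := by
    intro g hg he
    obtain ⟨l, hl⟩ := hPReq g hg he
    set M : Matrix (Fin 2) (Fin 2) K := (ι (g : GL (Fin 2) F) : Matrix (Fin 2) (Fin 2) K) with hM
    have hMp : M ^ p = l ^ p • 1 := by
      have h0 : (M - l • 1) ^ p = 0 :=
        pow_eq_zero_of_le (Fact.out (p := p.Prime)).two_le (by rw [pow_two]; exact hl)
      haveI : CharP (Matrix (Fin 2) (Fin 2) K) p :=
        charP_of_injective_algebraMap (algebraMap K (Matrix (Fin 2) (Fin 2) K)).injective p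
      rwa [sub_pow_char_of_commute _ ((Commute.one_right M).smul_right l), smul_pow, one_pow, sub_eq_zero] at h0
    have hgp : IsScal ((g ^ p : G) : GL (Fin 2) F) := by
      rw [← hscal, SubgroupClass.coe_pow, map_pow]
      refine ⟨?_, ?_, ?_⟩ <;> rw [Units.val_pow_eq_pow_val, ← hM, hMp] <;> simp
    obtain ⟨s, m, hm, hord⟩ := Nat.exists_eq_pow_mul_and_not_dvd (orderOf_pos g).ne' p (Fact.out (p := p.Prime)).ne_one
    have hgm : (g ^ m) ^ p ^ s = 1 := by rw [← pow_mul, mul_comm, ← hord, pow_orderOf_eq_one]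
    have hgm1 : g ^ m ≠ 1 := by
      intro h1
      apply hg
      have hcop : Nat.Coprime m p := ((Fact.out (p := p.Prime)).coprime_iff_not_dvd.mpr hm).symm
      have hgd : g ^ (Nat.gcd m p : ℤ) = (g ^ m) ^ Nat.gcdA m p * (g ^ p) ^ Nat.gcdB m p := by
        rw [Nat.gcd_eq_gcd_ab, zpow_add, zpow_mul, zpow_mul, zpow_natCast, zpow_natCast]
      rw [hcop, Nat.cast_one, zpow_one] at hgd
      show g ∈ Z
      rw [hgd]
      exact Z.mul_mem (Z.zpow_mem (by rw [h1]; exact Z.one_mem) _) (Z.zpow_mem hgp _)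
    obtain ⟨hns, hsame⟩ := hpelem (g ^ m) hgm1 ⟨s, hgm⟩
    -- the common fixed point
    have hfixm : (g ^ m) • P g hg = P g hg := by
      have h1 : g • P g hg = P g hg := (hPR g hg _).mpr (Or.inl rfl)
      clear hns hsame hgm hgm1 hord hm
      induction m with
      | zero => rw [pow_zero, one_smul]
      | succ m ih => rw [pow_succ', mul_smul, ih, h1]
    have hpow : IsPGroup p (Subgroup.zpowers (g ^ m)) := by
      rintro ⟨x, i, rfl⟩
      refine ⟨s, Subtype.ext ?_⟩
      show ((g ^ m) ^ i) ^ (p ^ s) = 1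
      rw [← zpow_natCast, ← zpow_mul, mul_comm, zpow_mul, zpow_natCast, hgm, one_zpow]
    have hupow : IsPGroup p (Subgroup.zpowers u) := by
      rintro ⟨x, i, rfl⟩
      refine ⟨1, Subtype.ext ?_⟩
      show (u ^ i) ^ (p ^ 1) = 1
      rw [pow_one, ← zpow_natCast, ← zpow_mul, mul_comm, zpow_mul, zpow_natCast, hup, one_zpow]
    obtain ⟨S, hS⟩ := hpow.exists_le_sylow
    obtain ⟨T, hT⟩ := hupow.exists_le_sylow
    -- all elements of a Sylow subgroup fix the same point
    have hcommon : ∀ (S : Sylow p G) (x : G), x ∈ (S : Subgroup G) → x ≠ 1 → ∀ y : OnePoint K, x • y = y →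
        ∀ x' ∈ (S : Subgroup G), x' • y = y := by
      intro S x hx hx1 y hy x' hx'
      haveI : Nontrivial (S : Subgroup G) := ⟨⟨x, hx⟩, 1, fun h => hx1 (congrArg Subtype.val h)⟩
      haveI := S.isPGroup'.center_nontrivial
      obtain ⟨⟨z, hzc⟩, hz1⟩ := exists_ne (1 : Subgroup.center (S : Subgroup G))
      have hzc' := Subgroup.mem_center_iff.mp hzc
      have hz1' : (z : G) ≠ 1 := fun h => hz1 (Subtype.ext (Subtype.ext h))
      have hpp : ∀ x : G, x ∈ (S : Subgroup G) → ∃ s, x ^ p ^ s = 1 := fun x hx => by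
        obtain ⟨t, ht⟩ := S.isPGroup' ⟨x, hx⟩
        exact ⟨t, congrArg Subtype.val ht⟩
      obtain ⟨hzns, hzsame⟩ := hpelem z hz1' (hpp z z.2)
      obtain ⟨hxns, hxsame⟩ := hpelem x hx1 (hpp x hx)
      have hzfix : ∀ w ∈ (S : Subgroup G), w • P z hzns = P z hzns := by
        intro w hw
        have hwz : (z : G) * w = w * z := congrArg Subtype.val (hzc' ⟨w, hw⟩).symm
        have h1 : (z : G) • (w • P z hzns) = w • P z hzns := by
          rw [← mul_smul, hwz, mul_smul, (hPR z hzns _).mpr (Or.inl rfl)]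
        have h2 := (hPR z hzns _).mp h1
        rwa [← hzsame, or_self] at h2
      have hy' := (hPR x hxns y).mp hy
      have hz' := (hPR x hxns _).mp (hzfix x hx)
      rw [← hxsame, or_self] at hy' hz'
      rw [hy', ← hz']
      exact hzfix x' hx'
    obtain ⟨h, hh⟩ := MulAction.exists_smul_eq G T S
    refine ⟨h, ?_⟩
    have huT : u ∈ (T : Subgroup G) := hT (Subgroup.mem_zpowers u)
    have hTinf : ∀ x ∈ (T : Subgroup G), x • (∞ : OnePoint K) = ∞ :=
      hcommon T u huT hu1 ∞ ((hinf u).mpr (by simp [u, hu₀v]))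
    have hmemS : g ^ m ∈ (S : Subgroup G) := hS (Subgroup.mem_zpowers _)
    rw [← hh, Sylow.coe_subgroup_smul, Subgroup.mem_pointwise_smul_iff_inv_smul_mem] at hmemS
    have h1 := hTinf _ hmemS
    rw [MulAut.smul_def, ← map_inv, MulAut.conj_apply, inv_inv, mul_smul, mul_smul, inv_smul_eq_iff] at h1
    have h2 := (hPR (g ^ m) hns _).mp h1
    have h3 := (hPR (g ^ m) hns _).mp hfixm
    rw [← hsame, or_self] at h2 h3
    rw [h2, ← h3]
  -- groups at infinity
  let B : Subgroup G := MulAction.stabilizer G inf₀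
  have hB : ∀ g : G, g ∈ B ↔ (g : GL (Fin 2) F).val 1 0 = 0 := fun g => by
    rw [MulAction.mem_stabilizer_iff, ← hinf, Subtype.ext_iff]
    exact Iff.rfl
  let T : Subgroup G :=
    { carrier := {g | (g : GL (Fin 2) F).val 1 0 = 0 ∧ (g : GL (Fin 2) F).val 0 0 = (g : GL (Fin 2) F).val 1 1}
      one_mem' := ⟨by simp, by simp⟩
      mul_mem' := by
        rintro x y ⟨h1, h2⟩ ⟨h3, h4⟩
        exact ⟨by simp [mul_apply_two, h1, h3], by simp [mul_apply_two, h1, h2, h3, h4]⟩
      inv_mem' := by
        rintro x ⟨h1, h2⟩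
        have hx := (hB x).mpr h1
        have h5 := (hB x⁻¹).mp (B.inv_mem hx)
        refine ⟨h5, ?_⟩
        have e := Units.mul_inv (x : GL (Fin 2) F)
        have e00 := congrFun (congrFun e 0) 0
        have e11 := congrFun (congrFun e 1) 1
        rw [← Subgroup.coe_inv] at e00 e11
        rw [Matrix.mul_apply, Fin.sum_univ_two, Matrix.one_apply_eq] at e00 e11
        rw [h1, zero_mul, zero_add] at e11
        rw [h5, mul_zero, add_zero, h2] at e00
        exact mul_left_cancel₀ (diag_ne_zero h1).2 (e00.trans e11.symm) }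
  -- translations
  let tr : T →* Multiplicative F :=
    { toFun := fun g => Multiplicative.ofAdd ((g.1 : GL (Fin 2) F).val 0 1 / (g.1 : GL (Fin 2) F).val 0 0)
      map_one' := by simp
      map_mul' := fun x y => by
        rw [← ofAdd_add]
        congr 1
        have hx := (diag_ne_zero x.2.1).1
        have hy := (diag_ne_zero y.2.1).1
        simp only [Subgroup.coe_mul, mul_apply_two, x.2.1, y.2.1, mul_zero, add_zero, ← y.2.2]
        field_simp
        ring }
  have hrange : (transl G).ncard = Nat.card tr.range := by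
    rw [← Nat.card_coe_set_eq]
    refine Nat.card_congr (Equiv.subtypeEquiv Multiplicative.ofAdd fun a => ⟨?_, ?_⟩)
    · rintro ⟨g, hg, h1, h2, h3⟩
      exact ⟨⟨⟨g, hg⟩, h1, h2⟩, congrArg Multiplicative.ofAdd (by
        show g.val 0 1 / g.val 0 0 = a
        rw [h3, mul_div_cancel_right₀ _ (diag_ne_zero h1).1])⟩
    · rintro ⟨g, hg⟩
      have hg' := Multiplicative.ofAdd.injective hg
      exact ⟨g.1.1, g.1.2, g.2.1, g.2.2, by rw [← hg', div_mul_cancel₀ _ (diag_ne_zero g.2.1).1]⟩
  have hker : Nat.card tr.ker = Nat.card Z := by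
    refine Nat.card_congr
      { toFun := fun g => ⟨g.1.1, g.1.2.1, ?_, g.1.2.2⟩
        invFun := fun g => ⟨⟨g.1, g.2.1, g.2.2.2⟩, ?_⟩
        left_inv := fun _ => rfl
        right_inv := fun _ => rfl }
    · have h := Multiplicative.ofAdd.injective (MonoidHom.mem_ker.mp g.2 :
        Multiplicative.ofAdd ((g.1.1 : GL (Fin 2) F).val 0 1 / (g.1.1 : GL (Fin 2) F).val 0 0) = Multiplicative.ofAdd 0)
      exact (div_eq_zero_iff.mp h).resolve_right (diag_ne_zero g.1.2.1).1
    · rw [MonoidHom.mem_ker]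
      have h0 : ((g : G) : GL (Fin 2) F).val 0 1 / ((g : G) : GL (Fin 2) F).val 0 0 = 0 :=
        div_eq_zero_iff.mpr (Or.inl g.2.2.1)
      exact congrArg Multiplicative.ofAdd h0
  have hTcard : Nat.card T = Nat.card Z * (transl G).ncard := by
    rw [hrange, ← hker, ← Subgroup.index_ker tr, Subgroup.card_mul_index]
  -- the multiplier homomorphism
  let ra : B →* Fˣ :=
    { toFun := fun g => Units.mk0 ((g.1 : GL (Fin 2) F).val 0 0 / (g.1 : GL (Fin 2) F).val 1 1)
        (div_ne_zero (diag_ne_zero ((hB g.1).mp g.2)).1 (diag_ne_zero ((hB g.1).mp g.2)).2)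
      map_one' := Units.ext (by simp)
      map_mul' := fun x y => Units.ext (by
        rw [Units.val_mul, Units.val_mk0, Units.val_mk0, Units.val_mk0]
        have hx := (hB x.1).mp x.2
        have hy := (hB y.1).mp y.2
        simp only [Subgroup.coe_mul, mul_apply_two, hx, hy, mul_zero, add_zero, zero_mul, zero_add]
        rw [mul_div_mul_comm]) }
  have hTB : T ≤ B := fun g hg => (hB g).mpr hg.1
  have hBker : ra.ker = T.subgroupOf B := by
    ext g
    rw [MonoidHom.mem_ker, Subgroup.mem_subgroupOf, Units.ext_iff, Units.val_one]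
    show (g.1 : GL (Fin 2) F).val 0 0 / (g.1 : GL (Fin 2) F).val 1 1 = 1 ↔ _
    rw [div_eq_one_iff_eq (diag_ne_zero ((hB g.1).mp g.2)).2]
    exact ⟨fun h => ⟨(hB g.1).mp g.2, h⟩, fun h => h.2⟩
  have hramult : ∀ g : B, (ra g : F) ∈ multipliers (transl G) := by
    rintro g a ⟨t, ht, h1, h2, h3⟩
    have hg := (hB g.1).mp g.2
    have hg' := (hB (g.1)⁻¹).mp (B.inv_mem g.2)
    rw [Subgroup.coe_inv] at hg'
    have e := Units.mul_inv (g.1 : GL (Fin 2) F)
    have e00 := congrFun (congrFun e 0) 0
    have e11 := congrFun (congrFun e 1) 1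
    have e01 := congrFun (congrFun e 0) 1
    rw [Matrix.mul_apply, Fin.sum_univ_two] at e00 e11 e01
    rw [Matrix.one_apply_eq, hg', mul_zero, add_zero] at e00
    rw [Matrix.one_apply_eq, hg, zero_mul, zero_add] at e11
    rw [Matrix.one_apply_ne (by decide)] at e01
    refine ⟨g.1 * t * (g.1 : GL (Fin 2) F)⁻¹, G.mul_mem (G.mul_mem g.1.2 ht) (G.inv_mem g.1.2), ?_, ?_, ?_⟩
    · simp [mul_apply_two, hg, h1, hg']
    · simp only [mul_apply_two, hg, h1, hg', mul_zero, add_zero, zero_mul, zero_add]
      linear_combination t.val 0 0 * (e00 - e11) + ((g.1 : GL (Fin 2) F).val 1 1 * ((g.1 : GL (Fin 2) F)⁻¹).val 1 1) * h2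
    · simp only [mul_apply_two, hg, h1, hg', mul_zero, add_zero, zero_mul, zero_add]
      show _ = (g.1 : GL (Fin 2) F).val 0 0 / (g.1 : GL (Fin 2) F).val 1 1 * a * _
      have hd : (g.1 : GL (Fin 2) F).val 1 1 ≠ 0 := (diag_ne_zero hg).2
      rw [div_mul_eq_mul_div, div_mul_eq_mul_div, eq_div_iff hd, ← h2, h3]
      linear_combination (g.1 : GL (Fin 2) F).val 1 1 * t.val 0 0 * e01 +
        (a * (g.1 : GL (Fin 2) F).val 0 0 * t.val 0 0) * (e11 - e00)
  set d := Nat.card ra.range with hd
  have hBcard : Nat.card B = Nat.card T * d := by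
    have h1 : Nat.card (T.subgroupOf B) = Nat.card T := Nat.card_congr (Subgroup.subgroupOfEquivOfLe hTB).toEquiv
    rw [hd, ← h1, ← hBker, ← Subgroup.index_ker ra, Subgroup.card_mul_index]
  have hd_le : d + 1 ≤ (multipliers (transl G)).ncard := by
    have h0 : (0 : F) ∈ multipliers (transl G) := fun a _ => by
      rw [zero_mul]
      exact ⟨1, G.one_mem, by simp, by simp, by simp⟩
    have hsub : insert (0 : F) (Units.val '' (ra.range : Set Fˣ)) ⊆ multipliers (transl G) := by
      refine Set.insert_subset h0 ?_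
      rintro _ ⟨_, ⟨g, rfl⟩, rfl⟩
      exact hramult g
    have hnot : (0 : F) ∉ Units.val '' (ra.range : Set Fˣ) := fun ⟨x, _, hx⟩ => x.ne_zero hx
    have h := Set.ncard_le_ncard hsub
    rw [Set.ncard_insert_of_notMem hnot, Set.ncard_image_of_injective _ Units.val_injective,
      ← Nat.card_coe_set_eq] at h
    exact h
  -- counting
  set z := Nat.card Z with hz
  set Q := (transl G).ncard with hQ
  set f := Nat.card (MulAction.orbit G inf₀) with hf
  have hzpos : 0 < z := Nat.card_pos
  have hdpos : 0 < d := Nat.card_pos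
  have hQ2 : 2 ≤ Q := by
    rw [hQ]
    refine (Set.one_lt_ncard).mpr ⟨0, ⟨1, G.one_mem, by simp, by simp, by simp⟩, a₀,
      ⟨u₀, hu₀, by simp [hu₀v], by simp [hu₀v], by simp [hu₀v]⟩, ha₀.symm⟩
  have hN : Nat.card G = f * (z * Q * d) := by
    rw [hf, ← hTcard, ← hBcard, ← Nat.card_prod]
    exact (Nat.card_congr (MulAction.orbitProdStabilizerEquivGroup G inf₀)).symm
  have hf2 : 2 ≤ f := by
    rw [hf, Nat.card_coe_set_eq]
    refine (Set.one_lt_ncard).mpr ⟨_, MulAction.mem_orbit_self inf₀, _, MulAction.mem_orbit inf₀ (⟨g₀, hg₀⟩ : G), ?_⟩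
    intro h
    exact hg₀c ((hinf ⟨g₀, hg₀⟩).mp (congrArg Subtype.val h).symm)
  -- fixed point counts
  let single : G → Prop := fun g => ∃ h : ¬ IsScal (g : GL (Fin 2) F), P g h = R g h
  have hcount : ∀ g : G, Fintype.card (MulAction.fixedBy Xset g) + (if single g then 1 else 0) =
      if g ∈ Z then Fintype.card Xset else 2 := by
    intro g
    by_cases hg : g ∈ Z
    · have hns : ¬ single g := fun ⟨h, _⟩ => h hg
      rw [if_neg hns, if_pos hg, add_zero]
      exact Fintype.card_congr (Equiv.subtypeUnivEquiv fun x => Subtype.ext (hscalfix g hg x.1))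
    · rw [if_neg hg]
      have hg' : ¬ IsScal (g : GL (Fin 2) F) := hg
      have hPX : P g hg' ∈ Xset := ⟨g, hg', (hPR g hg' _).mpr (Or.inl rfl)⟩
      have hRX : R g hg' ∈ Xset := ⟨g, hg', (hPR g hg' _).mpr (Or.inr rfl)⟩
      have hset : MulAction.fixedBy Xset g = {⟨P g hg', hPX⟩, ⟨R g hg', hRX⟩} := by
        ext x
        rw [MulAction.mem_fixedBy, Subtype.ext_iff, Set.mem_insert_iff, Set.mem_singleton_iff, Subtype.ext_iff,
          Subtype.ext_iff]
        exact hPR g hg' x.1
      rw [← Nat.card_eq_fintype_card, Nat.card_coe_set_eq, hset]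
      by_cases he : P g hg' = R g hg'
      · rw [if_pos ⟨hg', he⟩, show (⟨P g hg', hPX⟩ : Xset) = ⟨R g hg', hRX⟩ from Subtype.ext he]
        simp
      · rw [if_neg (fun ⟨_, h⟩ => he h), Set.ncard_pair (fun h => he (congrArg Subtype.val h))]
  -- the number of elements with a single fixed point
  have hsingle : Nat.card {g : G // single g} + f * z = f * (z * Q) := by
    have hfib : ∀ y : MulAction.orbit G inf₀, Nat.card {g : G // g ∈ T ∧ g ∉ Z} =
        Nat.card {g : {g : G // single g} // g.1 • y.1 = y.1} := by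
      rintro ⟨y, k, rfl⟩
      refine Nat.card_congr
        { toFun := fun g => ⟨⟨k * g.1 * k⁻¹, ?_⟩, ?_⟩
          invFun := fun g => ⟨k⁻¹ * g.1.1 * k, ?_⟩
          left_inv := fun g => Subtype.ext (by simp [mul_assoc])
          right_inv := fun g => Subtype.ext (Subtype.ext (by simp [mul_assoc])) }
      · have hns : ¬ IsScal ((k * g.1 * k⁻¹ : G) : GL (Fin 2) F) := fun h => g.2.2 (by
          have := isScal_conj h ((k⁻¹ : G) : GL (Fin 2) F)
          show IsScal (g.1 : GL (Fin 2) F)
          simpa [mul_assoc] using this)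
        refine ⟨hns, ?_⟩
        have hall : ∀ x : OnePoint K, (k * g.1 * k⁻¹) • x = x → x = k • (∞ : OnePoint K) := by
          intro x hx
          rw [mul_smul, mul_smul, smul_eq_iff_eq_inv_smul] at hx
          rw [← inv_smul_eq_iff]
          generalize k⁻¹ • x = w at hx
          rw [hsmul] at hx
          induction w using OnePoint.rec with
          | infty => rfl
          | coe y =>
            exfalso
            rw [fix_some_iff] at hx
            simp only [hι, g.2.1.1, g.2.1.2, map_zero, zero_mul, sub_self, add_zero, zero_sub, neg_eq_zero,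
              map_eq_zero] at hx
            exact g.2.2 ⟨g.2.1.1, hx, g.2.1.2⟩
        rw [hall _ ((hPR _ hns _).mpr (Or.inl rfl)), hall _ ((hPR _ hns _).mpr (Or.inr rfl))]
      · refine Subtype.ext ?_
        show (k * g.1 * k⁻¹) • k • (∞ : OnePoint K) = k • (∞ : OnePoint K)
        rw [mul_smul, mul_smul, inv_smul_smul, (hinf g.1).mpr g.2.1.1]
      · obtain ⟨hns, he⟩ := g.1.2
        have hfix' : g.1.1 • k • (∞ : OnePoint K) = k • (∞ : OnePoint K) := congrArg Subtype.val g.2
        have hc : ((k⁻¹ * g.1.1 * k : G) : GL (Fin 2) F).val 1 0 = 0 := by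
          rw [← hinf, mul_smul, mul_smul, hfix', inv_smul_smul]
        have hns' : ¬ IsScal ((k⁻¹ * g.1.1 * k : G) : GL (Fin 2) F) := fun h => hns (by
          have := isScal_conj h (k : GL (Fin 2) F)
          simpa [mul_assoc] using this)
        refine ⟨⟨hc, ?_⟩, hns'⟩
        by_contra had
        set h' : G := k⁻¹ * g.1.1 * k with hh'
        set y : K := algebraMap F K ((h' : GL (Fin 2) F).val 0 1 / ((h' : GL (Fin 2) F).val 1 1 - (h' : GL (Fin 2) F).val 0 0)) with hy
        have hyfix : h' • (y : OnePoint K) = y := by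
          rw [hsmul, fix_some_iff]
          simp only [hι, hc, map_zero, zero_mul, zero_add, hy, ← map_sub, ← map_mul]
          rw [mul_div_cancel₀ _ (sub_ne_zero.mpr (Ne.symm had)), sub_self, map_zero]
        have hfix'' : g.1.1 • k • (y : OnePoint K) = k • (y : OnePoint K) := by
          rw [hh', mul_smul, mul_smul, inv_smul_eq_iff] at hyfix
          exact hyfix
        have h1 := (hPR g.1.1 hns _).mp hfix'
        have h2 := (hPR g.1.1 hns _).mp hfix''
        rw [← he, or_self] at h1 h2
        exact OnePoint.coe_ne_infty y (MulAction.injective k (h2.trans h1.symm))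
    have hex : ∀ g : {g : G // single g}, ∃ y : MulAction.orbit G inf₀,
        g.1 • y.1 = y.1 ∧ ∀ y' : MulAction.orbit G inf₀, g.1 • y'.1 = y'.1 → y' = y := by
      rintro ⟨g, hns, he⟩
      obtain ⟨h, hh⟩ := hone g hns he
      refine ⟨⟨h • inf₀, MulAction.mem_orbit _ _⟩, Subtype.ext ?_, ?_⟩
      · show g • h • (∞ : OnePoint K) = h • (∞ : OnePoint K)
        rw [hh, (hPR g hns _).mpr (Or.inl rfl)]
      · intro y hy
        refine Subtype.ext (Subtype.ext ?_)
        show (y.1.1 : OnePoint K) = h • (∞ : OnePoint K)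
        have := (hPR g hns _).mp (congrArg Subtype.val hy)
        rwa [← he, or_self, ← hh] at this
    choose y hy hyu using hex
    have h1 : Nat.card {g : G // single g} = Nat.card ((o : MulAction.orbit G inf₀) × {g // y g = o}) :=
      Nat.card_congr (Equiv.sigmaFiberEquiv y).symm
    haveI : Fintype (MulAction.orbit G inf₀) := Fintype.ofFinite _
    have h2 : ∀ o, Nat.card {g // y g = o} = Nat.card {g : G // g ∈ T ∧ g ∉ Z} := fun o => by
      rw [hfib o]
      exact Nat.card_congr (Equiv.subtypeEquivRight fun g =>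
        ⟨fun h => h ▸ hy g, fun h => (hyu g o h).symm⟩)
    rw [h1, Nat.card_sigma, Finset.sum_congr rfl fun o _ => h2 o, Finset.sum_const, Finset.card_univ,
      ← Nat.card_eq_fintype_card, ← hf, smul_eq_mul, ← mul_add]
    congr 1
    rw [← hTcard]
    have hsplit : Nat.card {g : G // g ∈ T ∧ g ∉ Z} + Nat.card {g : G // g ∈ T ∧ g ∈ Z} = Nat.card T := by
      rw [← Nat.card_sum]
      exact Nat.card_congr ((Equiv.sumCongr
        (Equiv.subtypeSubtypeEquivSubtypeInter (fun g => g ∈ T) fun g => g ∉ Z).symm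
        (Equiv.subtypeSubtypeEquivSubtypeInter (fun g => g ∈ T) fun g => g ∈ Z).symm).trans
        ((Equiv.sumComm _ _).trans (Equiv.sumCompl fun g : {g : G // g ∈ T} => g.1 ∈ Z)))
    rw [← hsplit, hz]
    congr 1
    exact Nat.card_congr (Equiv.subtypeEquivRight fun g => ⟨fun h => ⟨⟨h.1, h.2.2⟩, h⟩, fun h => h.2⟩)
  -- Burnside
  let o := MulAction.orbitRel.Quotient G Xset
  let o₀ : o := Quotient.mk'' inf₀
  haveI : Fintype o := Fintype.ofFinite _
  have hburn : Fintype.card o * Nat.card G + Nat.card {g : G // single g} =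
      z * Fintype.card Xset + 2 * (Nat.card G - z) := by
    rw [Nat.card_eq_fintype_card (α := G), ← MulAction.sum_card_fixedBy_eq_card_orbits_mul_card_group G Xset,
      Nat.card_eq_fintype_card, Fintype.card_subtype, Finset.card_filter, ← Finset.sum_add_distrib,
      Finset.sum_congr rfl fun g _ => hcount g, Finset.sum_ite, Finset.sum_const, Finset.sum_const,
      smul_eq_mul, smul_eq_mul]
    have h1 : (Finset.univ.filter fun g : G => g ∈ Z).card = z := by
      rw [hz, Nat.card_eq_fintype_card, Fintype.card_subtype]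
    have h2 := Finset.card_filter_add_card_filter_not (s := (Finset.univ : Finset G)) (fun g => g ∈ Z)
    rw [Finset.card_univ, h1] at h2
    rw [h1, show (Finset.univ.filter fun g : G => ¬ g ∈ Z).card = Fintype.card G - z by omega, mul_comm 2]
  -- sizes of the other orbits
  let k := Fintype.card o - 1
  have hko : Fintype.card o = k + 1 := by
    have : 0 < Fintype.card o := Fintype.card_pos_iff.mpr ⟨o₀⟩
    omega
  let other : Finset o := Finset.univ.erase o₀
  let Xo : ℕ := ∑ w ∈ other, Nat.card w.orbit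
  have hX : Fintype.card Xset = f + Xo := by
    have h1 : Fintype.card Xset = ∑ w : o, Nat.card w.orbit := by
      rw [← Nat.card_eq_fintype_card, Nat.card_congr (MulAction.selfEquivSigmaOrbits' G Xset), Nat.card_sigma]
    rw [h1, ← Finset.add_sum_erase _ _ (Finset.mem_univ o₀), hf, MulAction.orbitRel.Quotient.orbit_mk]
  have hotherk : other.card = k := by
    rw [Finset.card_erase_of_mem (Finset.mem_univ _), Finset.card_univ]
  have horb : ∀ w : o, ∃ e, 2 ≤ e ∧ e * z * Nat.card w.orbit = Nat.card G := by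
    intro w
    induction w using Quotient.inductionOn' with
    | h x =>
      rw [MulAction.orbitRel.Quotient.orbit_mk]
      obtain ⟨g, hg, hgx⟩ := x.2
      have hZS : Z ≤ MulAction.stabilizer G x := fun z hz => Subtype.ext (hscalfix z hz x.1)
      obtain ⟨e, he⟩ := Subgroup.card_dvd_of_le hZS
      refine ⟨e, ?_, ?_⟩
      · have hne : Z ≠ MulAction.stabilizer G x := fun h => hg (by
          have : g ∈ MulAction.stabilizer G x := Subtype.ext hgx
          rwa [← h] at this)
        by_contra hlt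
        apply hne
        refine Subgroup.eq_of_le_of_card_ge hZS ?_
        rw [he]
        calc Nat.card Z * e ≤ Nat.card Z * 1 := Nat.mul_le_mul_left _ (by omega)
          _ = Nat.card Z := mul_one _
      · rw [hz, mul_comm e, ← he, mul_comm, ← Nat.card_prod]
        exact Nat.card_congr (MulAction.orbitProdStabilizerEquivGroup G x)
  have hX2 : 2 * z * Xo ≤ k * Nat.card G := by
    calc 2 * z * Xo = ∑ w ∈ other, 2 * z * Nat.card w.orbit := Finset.mul_sum _ _ _
      _ ≤ ∑ _w ∈ other, Nat.card G := Finset.sum_le_sum fun w _ => by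
          obtain ⟨e, he2, he⟩ := horb w
          rw [← he]
          exact Nat.mul_le_mul_right _ (Nat.mul_le_mul_right _ he2)
      _ = k * Nat.card G := by rw [Finset.sum_const, hotherk, smul_eq_mul]
  have hXdvd : k = 1 → ∃ e, e * z * Xo = Nat.card G := by
    intro hk1
    obtain ⟨w, hw⟩ := Finset.card_eq_one.mp (hotherk.trans hk1)
    obtain ⟨e, -, he⟩ := horb w
    exact ⟨e, by rwa [show Xo = Nat.card w.orbit by simp only [Xo, hw, Finset.sum_singleton]]⟩
  have hXk : k = 0 → Xo = 0 := fun hk0 => by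
    have : other = ∅ := Finset.card_eq_zero.mp (hotherk.trans hk0)
    simp [Xo, this]
  have hzle : z ≤ Nat.card G := Nat.card_le_card_of_injective Subtype.val Subtype.val_injective
  rw [hko, hX] at hburn
  have hb : (k + 1) * Nat.card G + f * (z * Q) + 2 * z = z * (f + Xo) + 2 * Nat.card G + f * z := by
    clear hXdvd hX2 hXk horb
    omega
  have hfinal := numerics (N := Nat.card G) (z := z) (Q := Q) (d := d) (f := f) (k := k) (X := Xo)
    hzpos hdpos hQ2 hf2 hN hXk hb hX2 hXdvd
  clear hXdvd hX2 hXk horb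
  omega

end Count

end CfsgLib.Classical22.DicksonPlane
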