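/-
Orthogonal decompositions into isometric non-degenerate subspaces: basic maps.
-/
import Cfsg.Agent.Lib.Classical22.OrthMaxMove

set_option autoImplicit false

namespace CfsgLib.Classical22.OrthDecomp

open CfsgLib.Classical

variable {F V : Type*} [Field F] [AddCommGroup V] [Module F V] (Q : QuadraticForm F V)

/-- The vectors of `A` orthogonal to `v`. -/
noncomputable def orthIn (A : Submodule F V) (v : V) : Submodule F V :=
  A ⊓ LinearMap.ker (QuadraticMap.polarBilin Q v)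

theorem mem_orthIn {A : Submodule F V} {v x : V} :
    x ∈ orthIn Q A v ↔ x ∈ A ∧ QuadraticMap.polar Q v x = 0 := by
  simp [orthIn]

theorem ndOn_orthIn (h2 : (2 : F) ≠ 0) {A : Submodule F V} (hA : NdOn Q A) {v : V} (hv : v ∈ A)
    (hQv : Q v ≠ 0) : NdOn Q (orthIn Q A v) :=
  ndOn_linePerp Q h2 hA hv hQv

theorem finrank_orthIn_ge [FiniteDimensional F V] (A : Submodule F V) (v : V) :
    Module.finrank F A ≤ Module.finrank F (orthIn Q A v) + 1 := by
  have h := LinearMap.finrank_range_add_finrank_ker ((QuadraticMap.polarBilin Q v).comp A.subtype)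
  have h1 : Module.finrank F (LinearMap.range ((QuadraticMap.polarBilin Q v).comp A.subtype)) ≤ 1 :=
    (Submodule.finrank_le _).trans (by simp)
  have h2 : Module.finrank F (LinearMap.ker ((QuadraticMap.polarBilin Q v).comp A.subtype)) ≤
      Module.finrank F (orthIn Q A v) := by
    rw [(Submodule.equivMapOfInjective A.subtype A.injective_subtype _).finrank_eq]
    refine Submodule.finrank_mono ?_
    rintro _ ⟨⟨x, hx⟩, hx', rfl⟩
    exact ⟨hx, hx'⟩
  omega

/-- The decomposition data. -/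
structure Data {t : ℕ} (D : Fin t → Submodule F V) (k : ℕ) : Prop where
  sup : ⨆ i, D i = ⊤
  orth : ∀ i j, i ≠ j → ∀ x ∈ D i, ∀ y ∈ D j, QuadraticMap.polar Q x y = 0
  nd : ∀ i, NdOn Q (D i)
  dim : ∀ i, Module.finrank F (D i) = k
  isom : ∀ i j, ∃ φ : D i ≃ₗ[F] D j, ∀ x, Q (φ x : V) = Q (x : V)

variable {t : ℕ} {D : Fin t → Submodule F V} {k : ℕ}

/-- The isometries permuting the members. -/
def dStab (D : Fin t → Submodule F V) : Subgroup (qAut Q) where
  carrier := {g | ∃ σ : Equiv.Perm (Fin t), ∀ i, (D i).map g.1.toLinearMap = D (σ i)}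
  mul_mem' {a b} ha hb := by
    obtain ⟨σ, hσ⟩ := ha
    obtain ⟨τ, hτ⟩ := hb
    refine ⟨τ.trans σ, fun i => ?_⟩
    rw [Equiv.trans_apply, ← hσ, ← hτ, ← Submodule.map_comp]
    rfl
  one_mem' := ⟨Equiv.refl _, fun i => Submodule.map_id (D i)⟩
  inv_mem' {a} ha := by
    obtain ⟨σ, hσ⟩ := ha
    refine ⟨σ.symm, fun i => ?_⟩
    conv_lhs => rw [← σ.apply_symm_apply i, ← hσ]
    rw [← Submodule.map_comp]
    convert Submodule.map_id _ using 2
    exact LinearMap.ext fun x => qInv_apply_self Q a x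

variable {Q}

/-- A space with a singular point is spanned by its singular vectors. -/
theorem le_of_singular_span {A : Submodule F V} (hA : NdOn Q A) {u : V} (hu : u ∈ A) (hu0 : u ≠ 0) (hQu : Q u = 0)
    {L : Submodule F V} (h : ∀ x ∈ A, Q x = 0 → x ∈ L) : A ≤ L := by
  have huL := h u hu hQu
  have key : ∀ x ∈ A, QuadraticMap.polar Q x u ≠ 0 → x ∈ L := fun x hx hxu => by
    obtain ⟨s, hs⟩ : ∃ s : F, s = -Q x / QuadraticMap.polar Q x u := ⟨_, rfl⟩
    have hmem : x + s • u ∈ L := h _ (A.add_mem hx (A.smul_mem s hu)) (by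
      rw [quad_add, quad_smul, hQu, QuadraticMap.polar_smul_right, smul_eq_mul, hs, div_mul_cancel₀ _ hxu]
      ring)
    have := L.sub_mem hmem (L.smul_mem s huL)
    rwa [add_sub_cancel_right] at this
  intro x hx
  by_cases hxu : QuadraticMap.polar Q x u = 0
  · obtain ⟨z, hz, hQz, huz⟩ := exists_partner Q hA hu hu0 hQu
    have h1 := key (x + z) (A.add_mem hx hz) (by
      rw [QuadraticMap.polar_add_left, hxu, zero_add, QuadraticMap.polar_comm, huz]
      exact one_ne_zero)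
    have := L.sub_mem h1 (h z hz hQz)
    rwa [add_sub_cancel_right] at this
  · exact key x hx hxu

theorem Data.perp_le (hD : Data Q D k) {i j : Fin t} (h : i ≠ j) : D j ≤ qPerp Q (D i) :=
  fun y hy => (mem_qPerp Q).2 fun x hx => hD.orth i j h x hx y hy

theorem Data.polar_eq_zero (hD : Data Q D k) {i : Fin t} {x b : V} (hx : x ∈ D i) (hb : b ∈ qPerp Q (D i)) :
    QuadraticMap.polar Q x b = 0 :=
  (mem_qPerp Q).1 hb x hx

theorem Data.eq_zero_of_perp_all (hD : Data Q D k) (hQ : PolarNondeg Q) {x : V}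
    (h : ∀ j, x ∈ qPerp Q (D j)) : x = 0 := by
  refine hQ x fun w => ?_
  have hw : w ∈ ⨆ i, D i := hD.sup ▸ Submodule.mem_top
  induction hw using Submodule.iSup_induction' with
  | mem i y hy => rw [QuadraticMap.polar_comm]; exact hD.polar_eq_zero hy (h i)
  | zero => simp
  | add y z _ _ hy hz => rw [QuadraticMap.polar_add_right, hy, hz, add_zero]

theorem Data.mem_of_perp_others [FiniteDimensional F V] (hD : Data Q D k) (hQ : PolarNondeg Q) {l : Fin t}
    {x : V} (h : ∀ j, j ≠ l → x ∈ qPerp Q (D j)) : x ∈ D l := by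
  obtain ⟨a, ha, b, hb, rfl⟩ := exists_add_qPerp Q hQ (hD.nd l) x
  suffices hb0 : b = 0 by rwa [hb0, add_zero]
  refine hD.eq_zero_of_perp_all hQ fun j => ?_
  rcases eq_or_ne j l with rfl | hj
  · exact hb
  · have := (qPerp Q (D j)).sub_mem (h j hj) (hD.perp_le hj ha)
    rwa [add_sub_cancel_left] at this

/-- A map fixing each member lies in the stabiliser. -/
theorem mem_dStab_of_maps [FiniteDimensional F V] {g : qAut Q} (σ : Equiv.Perm (Fin t))
    (hdim : ∀ i j, Module.finrank F (D i) = Module.finrank F (D j))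
    (h : ∀ i, ∀ x ∈ D i, g.1 x ∈ D (σ i)) : g ∈ dStab Q D := by
  refine ⟨σ, fun i => Submodule.eq_of_le_of_finrank_le ?_ ?_⟩
  · rintro _ ⟨x, hx, rfl⟩
    exact h i x hx
  · rw [LinearEquiv.finrank_map_eq, hdim i (σ i)]

/-- A map supported inside one member lies in the stabiliser. -/
theorem Data.mem_dStab_of_supp [FiniteDimensional F V] (hD : Data Q D k) (hQ : PolarNondeg Q) {c : Fin t}
    {A : Submodule F V} (hA : NdOn Q A) (hAc : A ≤ D c) {g : qAut Q}
    (hg : ∀ b ∈ qPerp Q A, g.1 b = b) : g ∈ dStab Q D := by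
  have hinv : ∀ a ∈ A, g.1 a ∈ A := fun a ha => by
    rw [← qPerp_qPerp Q hQ A, mem_qPerp]
    intro b hb
    rw [← hg b hb, qAut_polar, QuadraticMap.polar_comm]
    exact (mem_qPerp Q).1 hb a ha
  refine mem_dStab_of_maps (Equiv.refl _) (fun i j => by rw [hD.dim, hD.dim]) fun i x hx => ?_
  rw [Equiv.refl_apply]
  rcases eq_or_ne i c with rfl | hi
  · obtain ⟨a, ha, b, hb, rfl⟩ := exists_add_qPerp Q hQ hA x
    have hb' : b ∈ D i := by
      have := (D i).sub_mem hx (hAc ha)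
      rwa [add_sub_cancel_left] at this
    rw [map_add, hg b hb]
    exact (D i).add_mem (hAc (hinv a ha)) hb'
  · rw [hg x ((mem_qPerp Q).2 fun a ha => hD.orth c i hi.symm a (hAc ha) x hx)]
    exact hx

theorem Data.eich_mem_dStab [FiniteDimensional F V] (hD : Data Q D k) (hQ : PolarNondeg Q) {l : Fin t} {u w : V}
    (hu : u ∈ D l) (hw : w ∈ D l) (hQu : Q u = 0) (huw : QuadraticMap.polar Q u w = 0) :
    eich Q u w ∈ dStab Q D ⊓ eichGroup Q :=
  ⟨hD.mem_dStab_of_supp hQ (hD.nd l) le_rfl fun b hb => by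
      rw [eich_apply Q hQu huw, (QuadraticMap.polar_comm Q b u).trans (hD.polar_eq_zero hu hb),
        (QuadraticMap.polar_comm Q b w).trans (hD.polar_eq_zero hw hb)]
      simp,
    eich_mem Q hQu huw⟩

theorem Data.qRefl_mem_dStab [FiniteDimensional F V] (hD : Data Q D k) (hQ : PolarNondeg Q) {l : Fin t} {n : V}
    (hn : n ∈ D l) (hQn : Q n ≠ 0) : qRefl Q hQn ∈ dStab Q D :=
  hD.mem_dStab_of_supp hQ (hD.nd l) le_rfl fun b hb => qRefl_fix Q hQn
    ((QuadraticMap.polar_comm Q b n).trans (hD.polar_eq_zero hn hb))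

variable [FiniteDimensional F V] [Fintype F]

theorem exists_value_in {A : Submodule F V} (hA : NdOn Q A) (hd : 2 ≤ Module.finrank F A) {c : F} (hc : c ≠ 0) :
    ∃ a ∈ A, Q a = c := by
  obtain ⟨⟨a, ha⟩, haQ⟩ := exists_value (Q.comp A.subtype) (polarNondeg_comp Q hA) hd hc
  exact ⟨a, ha, haQ⟩

/-- Two reflections of equal value lie in the Eichler group. -/
theorem qRefl_mul_mem (hQ : PolarNondeg Q) (hn : 5 ≤ Module.finrank F V) {v w : V} (hv : Q v ≠ 0)
    (hw : Q w ≠ 0) (h : Q v = Q w) : qRefl Q hw * qRefl Q hv ∈ eichGroup Q := by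
  obtain ⟨g, hg⟩ := exists_conj_refl Q hQ hv hw h
  rw [eichGroup_eq_commutator Q hQ hn, ← hg, commutator_def]
  have h := Subgroup.commutator_mem_commutator (Subgroup.mem_top g) (Subgroup.mem_top (qRefl Q hv))
  rwa [commutatorElement_def, qRefl_inv] at h

/-- Every isometry can be corrected inside any non-degenerate space of dimension at least two. -/
theorem exists_correction (hQ : PolarNondeg Q) (hn : 5 ≤ Module.finrank F V) {A : Submodule F V} (hA : NdOn Q A)
    (hd : 2 ≤ Module.finrank F A) (g : qAut Q) :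
    ∃ h : qAut Q, g * h ∈ eichGroup Q ∧ ∀ b ∈ qPerp Q A, h.1 b = b := by
  haveI := eichGroup_normal Q
  have hg : g ∈ reflGroup Q := by
    rw [reflGroup_eq_top Q hQ (Or.inr (by omega))]
    exact Subgroup.mem_top g
  induction hg using Subgroup.closure_induction with
  | mem x hx =>
    obtain ⟨v, hv, rfl⟩ := hx
    obtain ⟨a, ha, haQ⟩ := exists_value_in hA hd hv
    refine ⟨qRefl Q (haQ ▸ hv : Q a ≠ 0), qRefl_mul_mem hQ hn _ hv haQ, fun b hb => ?_⟩
    exact qRefl_fix Q _ ((QuadraticMap.polar_comm Q b a).trans ((mem_qPerp Q).1 hb a ha))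
  | one => exact ⟨1, by rw [mul_one]; exact one_mem _, fun b _ => rfl⟩
  | mul x y _ _ hx hy =>
    obtain ⟨h, hh, hhb⟩ := hx
    obtain ⟨h', hh', hhb'⟩ := hy
    refine ⟨h' * h, ?_, fun b hb => by rw [qAut_mul_apply, hhb b hb, hhb' b hb]⟩
    have := mul_mem (Subgroup.Normal.conj_mem (inferInstance : (eichGroup Q).Normal) _ hh' x) hh
    have e : x * y * (h' * h) = x * (y * h') * x⁻¹ * (x * h) := by group
    rwa [e]
  | inv x _ hx =>
    obtain ⟨h, hh, hhb⟩ := hx
    refine ⟨h⁻¹, ?_, fun b hb => ?_⟩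
    · have := Subgroup.Normal.conj_mem (inferInstance : (eichGroup Q).Normal) _ (inv_mem hh) h
      have e : x⁻¹ * h⁻¹ = h * (x * h)⁻¹ * h⁻¹ := by group
      rwa [e]
    · conv_lhs => rw [← hhb b hb]
      exact qInv_apply_self Q h b

theorem Data.exists_comp (hD : Data Q D k) (hQ : PolarNondeg Q) (hn : 5 ≤ Module.finrank F V) {c : Fin t}
    {A : Submodule F V} (hA : NdOn Q A) (hd : 2 ≤ Module.finrank F A) (hAc : A ≤ D c) {g : qAut Q}
    (hg : g ∈ dStab Q D) :
    ∃ h ∈ dStab Q D ⊓ eichGroup Q, ∀ b ∈ qPerp Q A, h.1 b = g.1 b := by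
  obtain ⟨h, hh, hhb⟩ := exists_correction hQ hn hA hd g
  exact ⟨g * h, ⟨mul_mem hg (hD.mem_dStab_of_supp hQ hA hAc hhb), hh⟩,
    fun b hb => by rw [qAut_mul_apply, hhb b hb]⟩

omit [Fintype F] in
/-- The exchange of two members. -/
theorem Data.exists_swap (hD : Data Q D k) (hQ : PolarNondeg Q) {i j : Fin t} (hij : i ≠ j) :
    ∃ g ∈ dStab Q D, (∀ x ∈ D i, g.1 x ∈ D j) ∧ ∀ l, l ≠ i → l ≠ j → ∀ x ∈ D l, g.1 x = x := by
  obtain ⟨φ, hφ⟩ := hD.isom i j
  obtain ⟨P, hP⟩ : ∃ P : V →ₗ[F] D i, P = (D i).projectionOnto _ (isCompl_qPerp Q hQ (hD.nd i)) := ⟨_, rfl⟩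
  obtain ⟨R, hR⟩ : ∃ R : V →ₗ[F] D j, R = (D j).projectionOnto _ (isCompl_qPerp Q hQ (hD.nd j)) := ⟨_, rfl⟩
  have hPl : ∀ x : D i, P x = x := fun x => hP ▸ Submodule.projectionOnto_apply_left _ x
  have hRl : ∀ x : D j, R x = x := fun x => hR ▸ Submodule.projectionOnto_apply_left _ x
  have hPr : ∀ x ∈ qPerp Q (D i), P x = 0 := fun x hx =>
    hP ▸ Submodule.projectionOnto_apply_right _ ⟨x, hx⟩
  have hRr : ∀ x ∈ qPerp Q (D j), R x = 0 := fun x hx =>
    hR ▸ Submodule.projectionOnto_apply_right _ ⟨x, hx⟩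
  obtain ⟨L, hL⟩ : ∃ L : V →ₗ[F] V, ∀ x, L x =
      x + ((φ (P x) : V) - (P x : V)) + ((φ.symm (R x) : V) - (R x : V)) :=
    ⟨LinearMap.id + ((D j).subtype.comp (φ.toLinearMap.comp P) - (D i).subtype.comp P) +
      ((D i).subtype.comp (φ.symm.toLinearMap.comp R) - (D j).subtype.comp R), fun x => rfl⟩
  have hLi : ∀ x : D i, L x = (φ x : V) := fun x => by
    rw [hL, hPl, hRr _ (hD.perp_le hij.symm x.2), map_zero, Submodule.coe_zero, Submodule.coe_zero,
      sub_zero, add_zero]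
    abel
  have hLj : ∀ x : D j, L x = (φ.symm x : V) := fun x => by
    rw [hL, hRl, hPr _ (hD.perp_le hij x.2), map_zero, Submodule.coe_zero, Submodule.coe_zero,
      sub_zero, add_zero]
    abel
  have hLf : ∀ x, x ∈ qPerp Q (D i) → x ∈ qPerp Q (D j) → L x = x := fun x h1 h2 => by
    rw [hL, hPr x h1, hRr x h2, map_zero, map_zero]
    simp
  have hsplit : ∀ x, ∃ a : D i, ∃ b : D j, ∃ r, r ∈ qPerp Q (D i) ∧ r ∈ qPerp Q (D j) ∧
      (a : V) + (b : V) + r = x := by
    intro x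
    obtain ⟨a, ha, y, hy, rfl⟩ := exists_add_qPerp Q hQ (hD.nd i) x
    obtain ⟨b, hb, r, hr, rfl⟩ := exists_add_qPerp Q hQ (hD.nd j) y
    refine ⟨⟨a, ha⟩, ⟨b, hb⟩, r, ?_, hr, add_assoc _ _ _⟩
    have := (qPerp Q (D i)).sub_mem hy (hD.perp_le hij hb)
    rwa [add_sub_cancel_left] at this
  have hinv : ∀ x, L (L x) = x := fun x => by
    obtain ⟨a, b, r, h1, h2, rfl⟩ := hsplit x
    have e : L ((a : V) + (b : V) + r) = (φ a : V) + (φ.symm b : V) + r := by
      simp only [map_add, hLi, hLj, hLf r h1 h2]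
    rw [e]
    simp only [map_add, hLi, hLj, hLf r h1 h2, φ.symm_apply_apply, φ.apply_symm_apply]
  have hquad : ∀ x, Q (L x) = Q x := fun x => by
    obtain ⟨a, b, r, h1, h2, rfl⟩ := hsplit x
    have e : L ((a : V) + (b : V) + r) = (φ a : V) + (φ.symm b : V) + r := by
      simp only [map_add, hLi, hLj, hLf r h1 h2]
    rw [e]
    have e1 : Q (φ.symm b : V) = Q (b : V) := by
      conv_rhs => rw [← φ.apply_symm_apply b, hφ]
    simp only [quad_add, QuadraticMap.polar_add_left, hφ, e1]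
    rw [hD.orth i j hij a a.2 b b.2, QuadraticMap.polar_comm Q (φ a : V) (φ.symm b : V),
      hD.orth i j hij _ (φ.symm b).2 _ (φ a).2, hD.polar_eq_zero a.2 h1, hD.polar_eq_zero b.2 h2,
      hD.polar_eq_zero (φ a).2 h2, hD.polar_eq_zero (φ.symm b).2 h1]
  obtain ⟨g, hg⟩ : ∃ g : qAut Q, ∀ x, g.1 x = L x :=
    ⟨⟨LinearEquiv.ofInvolutive L hinv, hquad⟩, fun x => rfl⟩
  refine ⟨g, mem_dStab_of_maps (Equiv.swap i j) (fun a b => by rw [hD.dim, hD.dim]) fun l x hx => ?_,
    fun x hx => ?_, fun l hli hlj x hx => ?_⟩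
  · rcases eq_or_ne l i with rfl | hli
    · rw [Equiv.swap_apply_left, hg, hLi ⟨x, hx⟩]
      exact (φ _).2
    rcases eq_or_ne l j with rfl | hlj
    · rw [Equiv.swap_apply_right, hg, hLj ⟨x, hx⟩]
      exact (φ.symm _).2
    rw [Equiv.swap_apply_of_ne_of_ne hli hlj, hg, hLf x (hD.perp_le hli.symm hx) (hD.perp_le hlj.symm hx)]
    exact hx
  · rw [hg, hLi ⟨x, hx⟩]
    exact (φ _).2
  · rw [hg]
    exact hLf x (hD.perp_le hli.symm hx) (hD.perp_le hlj.symm hx)

end CfsgLib.Classical22.OrthDecomp
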