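/-
Rational structures on quadratic spaces over a finite field, and identities between root elements.
-/
import Cfsg.Agent.Lib.Classical22.OrthMaxLemmas

set_option autoImplicit false

namespace CfsgLib.Classical22.OrthSubfield

open CfsgLib.Classical

section Generic

variable {F V : Type*} [Field F] [AddCommGroup V] [Module F V] (Q : QuadraticForm F V)

theorem mem_qPerp_span {s : Set V} {x : V} :
    x ∈ qPerp Q (Submodule.span F s) ↔ ∀ a ∈ s, QuadraticMap.polar Q a x = 0 := by
  rw [mem_qPerp]
  refine ⟨fun h a ha => h a (Submodule.subset_span ha), fun h w hw => ?_⟩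
  induction hw using Submodule.span_induction with
  | mem a ha => exact h a ha
  | zero => exact QuadraticMap.polar_zero_left Q x
  | add a b _ _ ha hb => rw [QuadraticMap.polar_add_left, ha, hb, add_zero]
  | smul t a _ ha => rw [QuadraticMap.polar_smul_left, ha, smul_zero]

theorem mem_qPerp_pair {x z v : V} :
    v ∈ qPerp Q (Submodule.span F {x, z}) ↔
      QuadraticMap.polar Q x v = 0 ∧ QuadraticMap.polar Q z v = 0 := by
  simp [mem_qPerp_span]

theorem singular_span_pair {x z : V} (hx : Q x = 0) (hz : Q z = 0) (hxz : QuadraticMap.polar Q x z = 0) :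
    ∀ w ∈ Submodule.span F ({x, z} : Set V), Q w = 0 := fun w hw => by
  obtain ⟨a, b, rfl⟩ := Submodule.mem_span_pair.1 hw
  simp [quad_add, quad_smul, hx, hz, hxz]

/-- The root element of a totally singular line does not depend on the order of the spanning vectors. -/
theorem eich_swap {u w : V} (hu : Q u = 0) (hw : Q w = 0) (h : QuadraticMap.polar Q u w = 0) :
    eich Q u w = eich Q w (-u) := by
  have h' : QuadraticMap.polar Q w (-u) = 0 := by
    rw [QuadraticMap.polar_neg_right, QuadraticMap.polar_comm, h, neg_zero]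
  refine qAut_ext fun x => ?_
  rw [eich_apply Q hu h, eich_apply Q hw h', QuadraticMap.polar_neg_right, QuadraticMap.map_neg, hu, hw]
  module

/-- A point `c₁ x + c₂ z` of a totally singular line with a multiple of `x`. -/
theorem eich_line_left {x z : V} (hx : Q x = 0) (hz : Q z = 0) (hxz : QuadraticMap.polar Q x z = 0)
    (c₁ c₂ t : F) : eich Q (c₁ • x + c₂ • z) (t • x) = eich Q x (-(t * c₂) • z) := by
  have hs := singular_span_pair Q hx hz hxz
  have hp : c₁ • x + c₂ • z ∈ Submodule.span F ({x, z} : Set V) := Submodule.mem_span_pair.2 ⟨_, _, rfl⟩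
  have hxm : x ∈ Submodule.span F ({x, z} : Set V) := Submodule.subset_span (by simp)
  have hpx : QuadraticMap.polar Q x (c₁ • x + c₂ • z) = 0 := polar_zero_of_singular Q hs hxm hp
  rw [eich_swap Q (hs _ hp) (hs _ (Submodule.smul_mem _ t hxm))
      (polar_zero_of_singular Q hs hp (Submodule.smul_mem _ t hxm)),
    eich_smul_left Q hx (by rw [QuadraticMap.polar_neg_right, hpx, neg_zero]) t]
  conv_lhs => rw [show t • -(c₁ • x + c₂ • z) = -(t * c₂) • z + (-(t * c₁)) • x by module]
  exact eich_add_self Q hx (by rw [QuadraticMap.polar_smul_right, hxz, smul_zero]) _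

/-- Sliding a root element along a third orthogonal singular vector. -/
theorem eich_slide {v y r : V} (hv : Q v = 0) (hy : Q y = 0) (hr : Q r = 0)
    (hvy : QuadraticMap.polar Q v y = 0) (hvr : QuadraticMap.polar Q v r = 0)
    (hyr : QuadraticMap.polar Q y r = 0) (a b : F) :
    eich Q (v + a • r) (y + b • r) = eich Q v y * eich Q r (a • y - b • v) := by
  have hrv : QuadraticMap.polar Q r v = 0 := (QuadraticMap.polar_comm Q r v).trans hvr
  have hry : QuadraticMap.polar Q r y = 0 := (QuadraticMap.polar_comm Q r y).trans hyr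
  have hyv : QuadraticMap.polar Q y v = 0 := (QuadraticMap.polar_comm Q y v).trans hvy
  have h1 : Q (v + a • r) = 0 := by simp [quad_add, quad_smul, hv, hr, hvr]
  have h2 : QuadraticMap.polar Q (v + a • r) (y + b • r) = 0 := by
    simp [QuadraticMap.polar_add_right, QuadraticMap.polar_smul_right, hvy, hvr, hry, quad_polar_self, hr]
  have h3 : QuadraticMap.polar Q r (a • y - b • v) = 0 := by
    simp [QuadraticMap.polar_sub_right, QuadraticMap.polar_smul_right, hry, hrv]
  have h4 : Q (a • y - b • v) = 0 := by simp [quad_sub, quad_smul, hy, hv, hyv]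
  have h5 : Q (y + b • r) = 0 := by simp [quad_add, quad_smul, hy, hr, hyr]
  refine qAut_ext fun x => ?_
  rw [qAut_mul_apply, eich_apply Q h1 h2, eich_apply Q hr h3, eich_apply Q hv hvy, h4, h5, hy]
  simp only [QuadraticMap.polar_add_left, QuadraticMap.polar_add_right, QuadraticMap.polar_sub_left,
    QuadraticMap.polar_sub_right, QuadraticMap.polar_smul_left, QuadraticMap.polar_smul_right, smul_eq_mul,
    quad_polar_self, hvy, hvr, hyr, hrv, hry, hyv, hv, hy, mul_zero, zero_mul, add_zero, sub_zero]
  module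

variable {Q}

/-- The vectors `w` with `eich u w` in a subgroup form an additive group. -/
theorem eich_sub_mem {M : Subgroup (qAut Q)} {u w w' : V} (hu : Q u = 0) (h : QuadraticMap.polar Q u w = 0)
    (h' : QuadraticMap.polar Q u w' = 0) (hw : eich Q u w ∈ M) (hw' : eich Q u w' ∈ M) :
    eich Q u (w - w') ∈ M := by
  rw [sub_eq_add_neg, ← eich_mul Q hu h (by rw [QuadraticMap.polar_neg_right, h', neg_zero]),
    ← eich_inv Q hu h']
  exact mul_mem hw (inv_mem hw')

theorem eich_add_mem {M : Subgroup (qAut Q)} {u w w' : V} (hu : Q u = 0) (h : QuadraticMap.polar Q u w = 0)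
    (h' : QuadraticMap.polar Q u w' = 0) (hw : eich Q u w ∈ M) (hw' : eich Q u w' ∈ M) :
    eich Q u (w + w') ∈ M := by
  rw [← eich_mul Q hu h h']
  exact mul_mem hw hw'

/-- The difference of a root element and its conjugate by an element fixing the centre. -/
theorem eich_diff_mem {M : Subgroup (qAut Q)} {g : qAut Q} (hg : g ∈ M) {u l : V} (hu : Q u = 0)
    (hgu : g.1 u = u) (hl : QuadraticMap.polar Q u l = 0) (hM : eich Q u l ∈ M) :
    QuadraticMap.polar Q u (g.1 l - l) = 0 ∧ eich Q u (g.1 l - l) ∈ M := by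
  have hgl : QuadraticMap.polar Q u (g.1 l) = 0 := by
    rw [← hgu, qAut_polar]
    exact hl
  refine ⟨by rw [QuadraticMap.polar_sub_right, hgl, hl, sub_zero], eich_sub_mem hu hgl hl ?_ hM⟩
  have := eich_conj Q g hu hl
  rw [hgu] at this
  rw [← this]
  exact mul_mem (mul_mem hg hM) (inv_mem hg)

variable (Q) [FiniteDimensional F V]

theorem finrank_le_qPerp_singleton (hQ : PolarNondeg Q) (x : V) :
    Module.finrank F V ≤ Module.finrank F (qPerp Q (Submodule.span F {x})) + 1 := by
  have h1 := finrank_span_le_card (R := F) ({x} : Set V)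
  rw [Set.toFinset_singleton, Finset.card_singleton] at h1
  rw [finrank_qPerp Q hQ]
  omega

theorem finrank_le_qPerp_pair (hQ : PolarNondeg Q) (x z : V) :
    Module.finrank F V ≤ Module.finrank F (qPerp Q (Submodule.span F {x, z})) + 2 := by
  classical
  have h1 := finrank_span_le_card (R := F) ({x, z} : Set V)
  rw [Set.toFinset_insert, Set.toFinset_singleton] at h1
  have h2 : ({x, z} : Finset V).card ≤ 2 := Finset.card_le_two
  rw [finrank_qPerp Q hQ]
  omega

theorem exists_perp_notMem_pair (hQ : PolarNondeg Q) (hn : 5 ≤ Module.finrank F V) (x z : V) :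
    ∃ a, QuadraticMap.polar Q x a = 0 ∧ QuadraticMap.polar Q z a = 0 ∧
      a ∉ Submodule.span F ({x, z} : Set V) := by
  classical
  by_contra hcon
  have hle : qPerp Q (Submodule.span F {x, z}) ≤ Submodule.span F {x, z} := fun a ha => by
    by_contra hna
    exact hcon ⟨a, ((mem_qPerp_pair Q).1 ha).1, ((mem_qPerp_pair Q).1 ha).2, hna⟩
  have h1 := Submodule.finrank_mono hle
  have h2 := finrank_le_qPerp_pair Q hQ x z
  have h3 := finrank_span_le_card (R := F) ({x, z} : Set V)
  rw [Set.toFinset_insert, Set.toFinset_singleton] at h3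
  have h4 : ({x, z} : Finset V).card ≤ 2 := Finset.card_le_two
  omega

variable [Fintype F]

/-- The orthogonal of a singular vector is spanned by singular vectors. -/
theorem mem_span_singular_perp (hQ : PolarNondeg Q) (hn : 5 ≤ Module.finrank F V) {x v : V} (hx : Q x = 0)
    (hx0 : x ≠ 0) (hv : QuadraticMap.polar Q x v = 0) :
    v ∈ Submodule.span F {u | Q u = 0 ∧ QuadraticMap.polar Q x u = 0} := by
  obtain ⟨T, hT⟩ : ∃ T, T = Submodule.span F {u | Q u = 0 ∧ QuadraticMap.polar Q x u = 0} := ⟨_, rfl⟩
  rw [← hT]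
  have hxx : QuadraticMap.polar Q x x = 0 := by rw [quad_polar_self, hx, mul_zero]
  have hxT : x ∈ T := hT ▸ Submodule.subset_span ⟨hx, hxx⟩
  obtain ⟨z, -, hz, hxz⟩ := exists_partner Q (P := ⊤) (fun a _ h => hQ a fun b => h b trivial)
    (Submodule.mem_top (x := x)) hx0 hx
  obtain ⟨w, hw⟩ : ∃ w, w = v - QuadraticMap.polar Q v z • x := ⟨_, rfl⟩
  suffices hwT : w ∈ T by
    have : v = w + QuadraticMap.polar Q v z • x := by rw [hw, sub_add_cancel]
    rw [this]
    exact T.add_mem hwT (T.smul_mem _ hxT)
  rcases eq_or_ne w 0 with hw0 | hw0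
  · rw [hw0]; exact T.zero_mem
  have hxw : QuadraticMap.polar Q x w = 0 := by
    rw [hw, QuadraticMap.polar_sub_right, QuadraticMap.polar_smul_right, hxx, hv, smul_zero, sub_zero]
  have hzw : QuadraticMap.polar Q z w = 0 := by
    rw [hw, QuadraticMap.polar_sub_right, QuadraticMap.polar_smul_right, QuadraticMap.polar_comm Q z x, hxz,
      QuadraticMap.polar_comm Q z v, smul_eq_mul, mul_one, sub_self]
  have hmem : w ∈ LinearMap.ker ((QuadraticMap.polarBilin Q x).prod (QuadraticMap.polarBilin Q z)) :=
    LinearMap.mem_ker.2 (Prod.ext hxw hzw)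
  have hdim := finrank_pairPerp Q (u := x) (z := z)
  obtain ⟨⟨u, hu⟩, hQu, hpol⟩ := exists_singular_polar _ (polarNondeg_pairPerp Q hQ hx hz hxz) (by omega)
    (v := ⟨w, hmem⟩) (fun h => hw0 (congrArg Subtype.val h))
  change QuadraticMap.polar Q u w ≠ 0 at hpol
  change Q u = 0 at hQu
  have hxu : QuadraticMap.polar Q x u = 0 := (Prod.ext_iff.1 (LinearMap.mem_ker.1 hu)).1
  obtain ⟨t, ht⟩ : ∃ t, t = Q w / QuadraticMap.polar Q u w := ⟨_, rfl⟩
  have huT : u ∈ T := hT ▸ Submodule.subset_span ⟨hQu, hxu⟩
  have h2T : w - t • u ∈ T := by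
    refine hT ▸ Submodule.subset_span ⟨?_, ?_⟩
    · rw [quad_sub, quad_smul, hQu, QuadraticMap.polar_smul_right, QuadraticMap.polar_comm Q w u, ht, smul_eq_mul,
        mul_zero, add_zero, div_mul_cancel₀ _ hpol, sub_self]
    · rw [QuadraticMap.polar_sub_right, QuadraticMap.polar_smul_right, hxw, hxu, smul_zero, sub_zero]
  simpa using T.add_mem h2T (T.smul_mem t huT)

/-- A space of dimension at least five is spanned by its singular vectors. -/
theorem mem_span_singular (hQ : PolarNondeg Q) (hn : 5 ≤ Module.finrank F V) (v : V) :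
    v ∈ Submodule.span F {u | Q u = 0} := by
  obtain ⟨x, hx, hx0, hQx⟩ := exists_singular_mem Q (C := qPerp Q (Submodule.span F {v}))
    (by have := finrank_le_qPerp_singleton Q hQ v; omega)
  have hxv : QuadraticMap.polar Q x v = 0 :=
    (QuadraticMap.polar_comm Q x v).trans ((mem_qPerp_singleton Q).1 hx)
  exact Submodule.span_mono (fun u hu => hu.1) (mem_span_singular_perp Q hQ hn hQx hx0 hxv)

end Generic

/-- A rational structure: a space over a subfield whose image spans and on which the form takes rational values. -/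
structure RatForm {F V : Type*} [Field F] [AddCommGroup V] [Module F V] (Q : QuadraticForm F V) (F₀ : Subfield F)
    (U : Type*) [AddCommGroup U] [Module F₀ U] where
  /-- The embedding. -/
  emb : U →+ V
  emb_smul : ∀ (c : F₀) (u : U), emb (c • u) = (c : F) • emb u
  /-- The rational form. -/
  form : QuadraticForm F₀ U
  quad : ∀ u, Q (emb u) = (form u : F)
  nd : PolarNondeg form
  span : ∀ v, v ∈ Submodule.span F (Set.range emb)

namespace RatForm

variable {F V : Type*} [Field F] [AddCommGroup V] [Module F V] {Q : QuadraticForm F V} {F₀ : Subfield F}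
  {U : Type*} [AddCommGroup U] [Module F₀ U] (R : RatForm Q F₀ U)

/-- The polar form of the rational form. -/
abbrev pol (u u' : U) : F₀ := QuadraticMap.polar R.form u u'

theorem polar_emb (u u' : U) : QuadraticMap.polar Q (R.emb u) (R.emb u') = (R.pol u u' : F) := by
  simp only [pol, QuadraticMap.polar, ← map_add, R.quad]
  rfl

theorem quad_eq_zero {u : U} (h : R.form u = 0) : Q (R.emb u) = 0 := by rw [R.quad, h]; rfl

theorem polar_eq_zero {u u' : U} (h : R.pol u u' = 0) : QuadraticMap.polar Q (R.emb u) (R.emb u') = 0 := by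
  rw [R.polar_emb, h]; rfl

theorem form_eq_zero {u : U} (h : Q (R.emb u) = 0) : R.form u = 0 := Subtype.ext ((R.quad u).symm.trans h)

theorem pol_eq_zero {u u' : U} (h : QuadraticMap.polar Q (R.emb u) (R.emb u') = 0) : R.pol u u' = 0 :=
  Subtype.ext ((R.polar_emb u u').symm.trans h)

theorem emb_ne_zero {u : U} (hu : u ≠ 0) : R.emb u ≠ 0 := fun h => hu (R.nd u fun u' => R.pol_eq_zero (by
  rw [h, QuadraticMap.polar_zero_left]))

theorem emb_injective : Function.Injective R.emb := (injective_iff_map_eq_zero R.emb).2 fun u h => by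
  by_contra hu
  exact R.emb_ne_zero hu h

theorem exists_pol_ne_zero {x : U} (hx : x ≠ 0) : ∃ u, R.pol x u ≠ 0 := by
  by_contra h
  push Not at h
  exact hx (R.nd x h)

theorem exists_pol_one {x : U} (hx : x ≠ 0) : ∃ u, R.pol x u = 1 := by
  obtain ⟨u, hu⟩ := R.exists_pol_ne_zero hx
  exact ⟨(R.pol x u)⁻¹ • u, by simp only [pol, QuadraticMap.polar_smul_right, smul_eq_mul]; exact inv_mul_cancel₀ hu⟩

/-- A rational vector on the line of another one is a rational multiple of it. -/
theorem mem_line {x z : U} (hx : x ≠ 0) {t : F} (h : R.emb z = t • R.emb x) :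
    z ∈ Submodule.span F₀ {x} ∧ t ∈ F₀ := by
  obtain ⟨u, hu⟩ := R.exists_pol_one hx
  have ht : t = (R.pol z u : F) := by
    rw [← R.polar_emb, h, QuadraticMap.polar_smul_left, R.polar_emb, hu]
    simp
  refine ⟨Submodule.mem_span_singleton.2 ⟨R.pol z u, R.emb_injective ?_⟩, ht ▸ (R.pol z u).2⟩
  rw [R.emb_smul, ← ht, h]

theorem indep {x z : U} (hx : x ≠ 0) (hz : z ∉ Submodule.span F₀ {x}) {a b : F}
    (h : a • R.emb x + b • R.emb z = 0) : a = 0 ∧ b = 0 := by
  have hb : b = 0 := by
    by_contra hb
    refine hz (R.mem_line hx (t := -(b⁻¹ * a)) ?_).1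
    have := congrArg (fun w => b⁻¹ • w) h
    simp only [smul_add, smul_smul, smul_zero, inv_mul_cancel₀ hb, one_smul] at this
    rw [neg_smul]
    exact eq_neg_of_add_eq_zero_right this
  rw [hb, zero_smul, add_zero, smul_eq_zero] at h
  exact ⟨h.resolve_right (R.emb_ne_zero hx), hb⟩

theorem eq_zero_of_polar (hQ : PolarNondeg Q) {v : V} (h : ∀ u, QuadraticMap.polar Q v (R.emb u) = 0) : v = 0 := by
  refine hQ v fun y => ?_
  induction R.span y using Submodule.span_induction with
  | mem a ha => obtain ⟨u, rfl⟩ := ha; exact h u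
  | zero => exact QuadraticMap.polar_zero_right Q v
  | add a b _ _ ha hb => rw [QuadraticMap.polar_add_right, ha, hb, add_zero]
  | smul t a _ ha => rw [QuadraticMap.polar_smul_right, ha, smul_zero]

theorem polar_of_span_perp {x : U} {y0 : U} (hy0 : R.pol x y0 = 1) {v : V}
    (hv : QuadraticMap.polar Q (R.emb x) v = 0) :
    v ∈ Submodule.span F (R.emb '' {u | R.pol x u = 0}) := by
  have key : v - QuadraticMap.polar Q (R.emb x) v • R.emb y0 ∈ Submodule.span F (R.emb '' {u | R.pol x u = 0}) := by
    clear hv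
    induction R.span v using Submodule.span_induction with
    | mem a ha =>
      obtain ⟨u, rfl⟩ := ha
      refine Submodule.subset_span ⟨u - R.pol x u • y0, ?_, ?_⟩
      · show R.pol x (u - R.pol x u • y0) = 0
        simp only [pol, QuadraticMap.polar_sub_right, QuadraticMap.polar_smul_right, smul_eq_mul] at hy0 ⊢
        rw [hy0, mul_one, sub_self]
      · rw [map_sub, R.emb_smul, R.polar_emb]
    | zero => simp
    | add a b _ _ ha hb =>
      have e : a + b - QuadraticMap.polar Q (R.emb x) (a + b) • R.emb y0 =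
          (a - QuadraticMap.polar Q (R.emb x) a • R.emb y0) + (b - QuadraticMap.polar Q (R.emb x) b • R.emb y0) := by
        rw [QuadraticMap.polar_add_right]; module
      rw [e]
      exact Submodule.add_mem _ ha hb
    | smul t a _ ha =>
      have e : t • a - QuadraticMap.polar Q (R.emb x) (t • a) • R.emb y0 =
          t • (a - QuadraticMap.polar Q (R.emb x) a • R.emb y0) := by
        rw [QuadraticMap.polar_smul_right, smul_eq_mul]; module
      rw [e]
      exact Submodule.smul_mem _ _ ha
  rwa [hv, zero_smul, sub_zero] at key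

/-- The subgroup contains the rational root elements. -/
def InM (M : Subgroup (qAut Q)) : Prop :=
  ∀ x w, R.form x = 0 → R.pol x w = 0 → eich Q (R.emb x) (R.emb w) ∈ M

/-- The rational Eichler group lifts into any subgroup containing the rational root elements. -/
theorem exists_lift {M : Subgroup (qAut Q)} (hM : R.InM M) {h : qAut R.form} (hh : h ∈ eichGroup R.form) :
    ∃ k ∈ M, ∀ u, k.1 (R.emb u) = R.emb (h.1 u) := by
  induction hh using Subgroup.closure_induction with
  | mem g hg =>
    obtain ⟨x, w, hx, hxw, rfl⟩ := hg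
    refine ⟨_, hM x w hx hxw, fun u => ?_⟩
    rw [eich_apply Q (R.quad_eq_zero hx) (R.polar_eq_zero hxw), eich_apply R.form hx hxw, map_sub, map_add,
      R.emb_smul, R.emb_smul, R.polar_emb, R.polar_emb, R.quad]
    rfl
  | one => exact ⟨1, one_mem M, fun _ => rfl⟩
  | mul g g' _ _ ih ih' =>
    obtain ⟨k, hk, hku⟩ := ih
    obtain ⟨k', hk', hku'⟩ := ih'
    exact ⟨k * k', mul_mem hk hk', fun u => by rw [qAut_mul_apply, hku', hku, qAut_mul_apply]⟩
  | inv g _ ih =>
    obtain ⟨k, hk, hku⟩ := ih
    refine ⟨k⁻¹, inv_mem hk, fun u => k.1.injective ?_⟩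
    rw [qApply_inv_self, hku, qApply_inv_self]

end RatForm

end CfsgLib.Classical22.OrthSubfield
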