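/-
A root element with a rational centre and a non-rational vector generates, together with the rational ones, the
whole Eichler group.
-/
import Cfsg.Agent.Lib.Classical22.OrthSubfieldSpace
import Cfsg.Agent.Lib.Classical22.OrthDecompBasic

set_option autoImplicit false

namespace CfsgLib.Classical22.OrthSubfield

open CfsgLib.Classical CfsgLib.Classical22.OrthDecomp

section Frames

variable {F V : Type*} [Field F] [AddCommGroup V] [Module F V] (Q : QuadraticForm F V) [FiniteDimensional F V]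
  [Fintype F]

/-- An orthogonal pair of singular vectors lies in a hyperbolic frame, orthogonal to a large non-degenerate space. -/
theorem exists_pair_complement (hQ : PolarNondeg Q) {x z : V} (hx : Q x = 0) (hz : Q z = 0) (hx0 : x ≠ 0)
    (hxz : QuadraticMap.polar Q x z = 0) (hzx : z ∉ Submodule.span F {x}) :
    ∃ A : Submodule F V, NdOn Q A ∧ Module.finrank F V ≤ Module.finrank F A + 4 ∧ x ∈ qPerp Q A ∧ z ∈ qPerp Q A := by
  have htop : NdOn Q (⊤ : Submodule F V) := fun a _ h => hQ a fun b => h b trivial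
  obtain ⟨x', -, hx', hxx'⟩ := exists_partner Q htop (Submodule.mem_top (x := x)) hx0 hx
  obtain ⟨z1, hz1⟩ : ∃ z1, z1 = z - QuadraticMap.polar Q z x' • x := ⟨_, rfl⟩
  obtain ⟨P, hP⟩ : ∃ P : Submodule F V, P = ⊤ ⊓ LinearMap.ker (QuadraticMap.polarBilin Q x) ⊓
      LinearMap.ker (QuadraticMap.polarBilin Q x') := ⟨_, rfl⟩
  have hxxs : QuadraticMap.polar Q x x = 0 := by rw [quad_polar_self, hx, mul_zero]
  have hz1P : z1 ∈ P := by
    rw [hP]
    refine ⟨⟨trivial, LinearMap.mem_ker.2 ?_⟩, LinearMap.mem_ker.2 ?_⟩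
    · simp [hz1, hxz, hxxs]
    · simp [hz1, QuadraticMap.polar_comm Q x' x, hxx', QuadraticMap.polar_comm Q x' z]
  have hz10 : z1 ≠ 0 := fun h => hzx (Submodule.mem_span_singleton.2 ⟨_, (sub_eq_zero.1 (hz1 ▸ h)).symm⟩)
  have hQz1 : Q z1 = 0 := by
    simp [hz1, quad_sub, quad_smul, hx, hz, QuadraticMap.polar_comm Q z x, hxz]
  have hPnd : NdOn Q P := hP ▸ ndOn_pairPerp Q htop trivial trivial hx hx' hxx'
  obtain ⟨z', hz'P, hz', hzz'⟩ := exists_partner Q hPnd hz1P hz10 hQz1
  obtain ⟨A, hA⟩ : ∃ A : Submodule F V, A = P ⊓ LinearMap.ker (QuadraticMap.polarBilin Q z1) ⊓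
      LinearMap.ker (QuadraticMap.polarBilin Q z') := ⟨_, rfl⟩
  have hAnd : NdOn Q A := hA ▸ ndOn_pairPerp Q hPnd hz1P hz'P hQz1 hz' hzz'
  have hmem : ∀ a ∈ A, QuadraticMap.polar Q x a = 0 ∧ QuadraticMap.polar Q z1 a = 0 := fun a ha => by
    rw [hA, hP] at ha
    exact ⟨ha.1.1.1.2, ha.1.2⟩
  refine ⟨A, hAnd, ?_, (mem_qPerp Q).2 fun a ha => (QuadraticMap.polar_comm Q a x).trans (hmem a ha).1,
    (mem_qPerp Q).2 fun a ha => ?_⟩
  · have h1 : qPerp Q (Submodule.span F {x, x'}) ⊓ qPerp Q (Submodule.span F {z1, z'}) ≤ A := by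
      rintro a ⟨ha1, ha2⟩
      have ha1' := (mem_qPerp_pair Q).1 ha1
      have ha2' := (mem_qPerp_pair Q).1 ha2
      rw [hA, hP]
      exact ⟨⟨⟨⟨trivial, ha1'.1⟩, ha1'.2⟩, ha2'.1⟩, ha2'.2⟩
    have h2 := Submodule.finrank_sup_add_finrank_inf_eq (qPerp Q (Submodule.span F {x, x'}))
      (qPerp Q (Submodule.span F {z1, z'}))
    have h3 := Submodule.finrank_le (qPerp Q (Submodule.span F {x, x'}) ⊔ qPerp Q (Submodule.span F {z1, z'}))
    have h4 := finrank_le_qPerp_pair Q hQ x x'
    have h5 := finrank_le_qPerp_pair Q hQ z1 z'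
    have h6 := Submodule.finrank_mono h1
    omega
  · have h := hmem a ha
    rw [hz1, QuadraticMap.polar_sub_left, QuadraticMap.polar_smul_left, h.1, smul_zero, sub_zero] at h
    exact (QuadraticMap.polar_comm Q a z).trans h.2

/-- An element of the Eichler group moves one orthogonal pair of independent singular vectors to another. -/
theorem exists_pair_move (hQ : PolarNondeg Q) (hn : 7 ≤ Module.finrank F V) {x z p q : V} (hx : Q x = 0)
    (hz : Q z = 0) (hx0 : x ≠ 0) (hxz : QuadraticMap.polar Q x z = 0) (hzx : z ∉ Submodule.span F {x})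
    (hp : Q p = 0) (hq : Q q = 0) (hp0 : p ≠ 0) (hpq : QuadraticMap.polar Q p q = 0)
    (hqp : q ∉ Submodule.span F {p}) : ∃ h ∈ eichGroup Q, h.1 x = p ∧ h.1 z = q := by
  have hinj : ∀ {a b : V}, a ≠ 0 → b ∉ Submodule.span F {a} →
      Function.Injective ((LinearMap.toSpanSingleton F V a).coprod (LinearMap.toSpanSingleton F V b)) := by
    intro a b ha hb
    refine (injective_iff_map_eq_zero _).2 fun st h => ?_
    obtain ⟨s, t⟩ := st
    simp only [LinearMap.coprod_apply, LinearMap.toSpanSingleton_apply] at h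
    have ht : t = 0 := by
      by_contra ht
      refine hb (Submodule.mem_span_singleton.2 ⟨-(t⁻¹ * s), ?_⟩)
      rw [neg_smul, mul_smul, eq_neg_of_add_eq_zero_left h, smul_neg, neg_neg, smul_smul,
        inv_mul_cancel₀ ht, one_smul]
    rw [ht, zero_smul, add_zero, smul_eq_zero] at h
    rw [ht, h.resolve_right ha]
    rfl
  obtain ⟨L, hL⟩ : ∃ L, L = (LinearMap.toSpanSingleton F V x).coprod (LinearMap.toSpanSingleton F V z) := ⟨_, rfl⟩
  obtain ⟨L', hL'⟩ : ∃ L', L' = (LinearMap.toSpanSingleton F V p).coprod (LinearMap.toSpanSingleton F V q) := ⟨_, rfl⟩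
  have hLi : Function.Injective L := hL ▸ hinj hx0 hzx
  have hLi' : Function.Injective L' := hL' ▸ hinj hp0 hqp
  obtain ⟨g, hg, hgX⟩ := witt_quad Q hQ (LinearMap.range L)
    (L'.comp (LinearEquiv.ofInjective L hLi).symm.toLinearMap)
    (hLi'.comp (LinearEquiv.ofInjective L hLi).symm.injective) (fun a => by
      obtain ⟨st, rfl⟩ := (LinearEquiv.ofInjective L hLi).surjective a
      rw [LinearMap.comp_apply, LinearEquiv.coe_coe, LinearEquiv.symm_apply_apply, LinearEquiv.ofInjective_apply,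
        hL, hL']
      simp [quad_add, quad_smul, hx, hz, hxz, hp, hq, hpq])
  have hval : ∀ st, g (L st) = L' st := fun st => by
    have := hgX (LinearEquiv.ofInjective L hLi st)
    simpa using this
  have hgx : g x = p := by simpa [hL, hL'] using hval (1, 0)
  have hgz : g z = q := by simpa [hL, hL'] using hval (0, 1)
  obtain ⟨A, hA, hdim, hxA, hzA⟩ := exists_pair_complement Q hQ hx hz hx0 hxz hzx
  obtain ⟨h, hh, hfix⟩ := exists_correction hQ (by omega) hA (by omega) (⟨g, hg⟩ : qAut Q)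
  exact ⟨_, hh, by rw [qAut_mul_apply, hfix x hxA]; exact hgx, by rw [qAut_mul_apply, hfix z hzA]; exact hgz⟩

/-- Orthogonal to a pair there are singular vectors with prescribed product. -/
theorem exists_pair_dual (hQ : PolarNondeg Q) (hn : 7 ≤ Module.finrank F V) {x z : V} (hx : Q x = 0)
    (hz : Q z = 0) (hx0 : x ≠ 0) (hxz : QuadraticMap.polar Q x z = 0) (hzx : z ∉ Submodule.span F {x}) (c : F) :
    ∃ a b, Q a = 0 ∧ Q b = 0 ∧ QuadraticMap.polar Q x a = 0 ∧ QuadraticMap.polar Q z a = 0 ∧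
      QuadraticMap.polar Q x b = 0 ∧ QuadraticMap.polar Q z b = 0 ∧ QuadraticMap.polar Q a b = c ∧ a ≠ 0 := by
  obtain ⟨A, hA, hdim, hxA, hzA⟩ := exists_pair_complement Q hQ hx hz hx0 hxz hzx
  obtain ⟨a, ha, ha0, hQa⟩ := exists_singular_mem Q (C := A) (by omega)
  obtain ⟨b, hb, hQb, hab⟩ := exists_partner Q hA ha ha0 hQa
  have key : ∀ {y : V}, y ∈ qPerp Q A → ∀ w ∈ A, QuadraticMap.polar Q y w = 0 := fun hy w hw =>
    (QuadraticMap.polar_comm Q _ w).trans ((mem_qPerp Q).1 hy w hw)
  exact ⟨a, c • b, hQa, by rw [quad_smul, hQb, mul_zero], key hxA a ha, key hzA a ha,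
    key hxA _ (A.smul_mem c hb), key hzA _ (A.smul_mem c hb),
    by rw [QuadraticMap.polar_smul_right, hab, smul_eq_mul, mul_one], ha0⟩

end Frames

namespace RatForm

variable {F V : Type*} [Field F] [AddCommGroup V] [Module F V] {Q : QuadraticForm F V} {F₀ : Subfield F}
  {U : Type*} [AddCommGroup U] [Module F₀ U] (R : RatForm Q F₀ U) {M : Subgroup (qAut Q)}

/-- Every root element of the subgroup with a rational centre is rational. -/
def Tight (M : Subgroup (qAut Q)) : Prop :=
  ∀ x, x ≠ 0 → R.form x = 0 → ∀ y, QuadraticMap.polar Q (R.emb x) y = 0 → eich Q (R.emb x) y ∈ M →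
    ∃ (u : U) (s : F), y = R.emb u + s • R.emb x

variable [FiniteDimensional F₀ U] [Fintype F₀]

theorem exists_rep (hQ : PolarNondeg Q) (hn : 5 ≤ Module.finrank F₀ U) {x : U} (hx : x ≠ 0) (hQx : R.form x = 0)
    {y : V} (hy : QuadraticMap.polar Q (R.emb x) y = 0)
    (h : ∀ z, R.form z = 0 → R.pol x z = 0 → QuadraticMap.polar Q y (R.emb z) ∈ F₀) :
    ∃ (u : U) (s : F), y = R.emb u + s • R.emb x := by
  have hperp : ∀ w, R.pol x w = 0 → QuadraticMap.polar Q y (R.emb w) ∈ F₀ := by
    intro w hw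
    have := mem_span_singular_perp R.form R.nd hn hQx hx hw
    clear hw
    induction this using Submodule.span_induction with
    | mem a ha => exact h a ha.1 ha.2
    | zero => rw [map_zero, QuadraticMap.polar_zero_right]; exact zero_mem F₀
    | add a b _ _ ha hb => rw [map_add, QuadraticMap.polar_add_right]; exact add_mem ha hb
    | smul t a _ ha => rw [R.emb_smul, QuadraticMap.polar_smul_right]; exact mul_mem t.2 ha
  obtain ⟨y0, hy0⟩ := R.exists_pol_one hx
  have hy0' : ∀ w, R.pol x (w - R.pol x w • y0) = 0 := fun w => by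
    simp only [pol, QuadraticMap.polar_sub_right, QuadraticMap.polar_smul_right, smul_eq_mul] at hy0 ⊢
    rw [hy0, mul_one, sub_self]
  let f : U →ₗ[F₀] F₀ :=
    { toFun := fun w => ⟨QuadraticMap.polar Q y (R.emb (w - R.pol x w • y0)), hperp _ (hy0' w)⟩
      map_add' := fun a b => Subtype.ext (by
        simp only [pol, QuadraticMap.polar_add_right, add_smul, map_sub, map_add, QuadraticMap.polar_sub_right,
          AddMemClass.mk_add_mk]
        abel)
      map_smul' := fun t a => Subtype.ext (by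
        simp only [pol, QuadraticMap.polar_smul_right, smul_eq_mul, map_sub, R.emb_smul, mul_smul,
          QuadraticMap.polar_sub_right, RingHom.id_apply, MulMemClass.coe_mul]
        ring) }
  obtain ⟨u, hu⟩ : ∃ u, ∀ w, R.pol u w = f w := ⟨(LinearMap.BilinForm.toDual (QuadraticMap.polarBilin R.form)
    (PolarNondeg.nondegenerate R.nd)).symm f, fun w => LinearMap.BilinForm.apply_toDual_symm_apply (B := QuadraticMap.polarBilin R.form)
      (hB := PolarNondeg.nondegenerate R.nd) f w⟩
  obtain ⟨d, hd⟩ : ∃ d, d = y - R.emb u := ⟨_, rfl⟩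
  have hdperp : ∀ w, R.pol x w = 0 → QuadraticMap.polar Q d (R.emb w) = 0 := fun w hw => by
    rw [hd, QuadraticMap.polar_sub_left, R.polar_emb, hu]
    show _ - QuadraticMap.polar Q y (R.emb (w - R.pol x w • y0)) = 0
    rw [hw, zero_smul, sub_zero, sub_self]
  refine ⟨u, QuadraticMap.polar Q d (R.emb y0), ?_⟩
  have hz : d - QuadraticMap.polar Q d (R.emb y0) • R.emb x = 0 := by
    refine R.eq_zero_of_polar hQ fun w => ?_
    obtain ⟨w', hw'⟩ : ∃ w', w' = w - R.pol x w • y0 := ⟨_, rfl⟩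
    have hw : w = w' + R.pol x w • y0 := by rw [hw', sub_add_cancel]
    have h1 := hdperp w' (hw' ▸ hy0' w)
    rw [QuadraticMap.polar_sub_left, QuadraticMap.polar_smul_left, R.polar_emb x w]
    conv_lhs => arg 1; rw [hw, map_add, R.emb_smul, QuadraticMap.polar_add_right, QuadraticMap.polar_smul_right, h1]
    simp [mul_comm]
  rw [← sub_eq_zero.1 hz, hd]
  abel

/-- The scalars occurring on all rational singular lines. -/
def Scal (M : Subgroup (qAut Q)) : Set F :=
  {c | ∀ p q, p ≠ 0 → R.form p = 0 → R.form q = 0 → R.pol p q = 0 → q ∉ Submodule.span F₀ {p} →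
    eich Q (R.emb p) (c • R.emb q) ∈ M}

variable (hM : R.InM M)
include hM

omit [FiniteDimensional F₀ U] [Fintype F₀] in
theorem coe_mem_scal (c : F₀) : (c : F) ∈ R.Scal M := fun p q _ hp _ hpq _ => by
  rw [← R.emb_smul]
  exact hM p _ hp (by simp only [pol, QuadraticMap.polar_smul_right] at hpq ⊢; rw [hpq, smul_zero])

theorem scal_mul (hn : 7 ≤ Module.finrank F₀ U) {c d : F} (hc : c ∈ R.Scal M) (hd : d ∈ R.Scal M) :
    c * d ∈ R.Scal M := by
  intro p p' hp0 hp hp' hpp' hp'p
  obtain ⟨a, b, ha, hb, hpa, hp'a, hpb, hp'b, hab, ha0⟩ :=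
    exists_pair_dual R.form R.nd hn hp hp' hp0 hpp' hp'p (-1)
  have hp'0 : p' ≠ 0 := fun h => hp'p (h ▸ Submodule.zero_mem _)
  have h1 := hc p a hp0 hp ha hpa fun h => by
    obtain ⟨t, rfl⟩ := Submodule.mem_span_singleton.1 h
    rw [QuadraticMap.polar_smul_left, hpb, smul_zero] at hab
    exact neg_ne_zero.2 one_ne_zero hab.symm
  have h2 := hd p' b hp'0 hp' hb hp'b fun h => by
    obtain ⟨t, rfl⟩ := Submodule.mem_span_singleton.1 h
    rw [QuadraticMap.polar_smul_right, QuadraticMap.polar_comm, hp'a, smul_zero] at hab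
    exact neg_ne_zero.2 one_ne_zero hab.symm
  have hab' : QuadraticMap.polar Q (R.emb a) (R.emb b) = -1 := by
    rw [R.polar_emb]
    show ((QuadraticMap.polar R.form a b : F₀) : F) = -1
    rw [hab]
    simp
  have e1 : QuadraticMap.polar Q (R.emb p') (d • R.emb b) = 0 := by
    rw [QuadraticMap.polar_smul_right, R.polar_eq_zero hp'b, smul_zero]
  have e2 : QuadraticMap.polar Q (R.emb p) (c • R.emb a) = 0 := by
    rw [QuadraticMap.polar_smul_right, R.polar_eq_zero hpa, smul_zero]
  have hfix : (eich Q (R.emb p') (d • R.emb b)).1 (R.emb p) = R.emb p := by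
    rw [eich_apply Q (R.quad_eq_zero hp') e1, R.polar_eq_zero hpp', QuadraticMap.polar_smul_right,
      R.polar_eq_zero hpb]
    simp
  have h3 := (eich_diff_mem h2 (R.quad_eq_zero hp) hfix e2 h1).2
  rw [eich_apply Q (R.quad_eq_zero hp') e1] at h3
  simp only [QuadraticMap.polar_smul_left, QuadraticMap.polar_smul_right,
    QuadraticMap.polar_comm Q (R.emb a) (R.emb p'), R.polar_eq_zero hp'a, hab', smul_eq_mul] at h3
  convert h3 using 2
  module

theorem pair_move_mem (hn : 7 ≤ Module.finrank F₀ U) {x z : U} (hx : R.form x = 0) (hz : R.form z = 0)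
    (hx0 : x ≠ 0) (hxz : R.pol x z = 0) (hzx : z ∉ Submodule.span F₀ {x}) {c : F}
    (hc : eich Q (R.emb x) (c • R.emb z) ∈ M) : c ∈ R.Scal M := by
  intro p q hp0 hp hq hpq hqp
  obtain ⟨h, hh, hhx, hhz⟩ := exists_pair_move R.form R.nd hn hx hz hx0 hxz hzx hp hq hp0 hpq hqp
  obtain ⟨k, hk, hku⟩ := R.exists_lift hM hh
  have := eich_conj Q k (R.quad_eq_zero hx) (w := c • R.emb z)
    (by rw [QuadraticMap.polar_smul_right, R.polar_eq_zero hxz, smul_zero])
  rw [map_smul, hku, hku, hhx, hhz] at this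
  rw [← this]
  exact mul_mem (mul_mem hk hc) (inv_mem hk)

theorem scal_eq_univ [Finite F] (hn : 7 ≤ Module.finrank F₀ U) (hgen : ∀ K : Subfield F, F₀ < K → K = ⊤)
    {c : F} (hc : c ∈ R.Scal M) (hc0 : c ∉ F₀) (d : F) : d ∈ R.Scal M := by
  have h0 : (0 : F) ∈ R.Scal M := by simpa using R.coe_mem_scal hM 0
  have h1 : (1 : F) ∈ R.Scal M := by simpa using R.coe_mem_scal hM 1
  have hadd : ∀ {a b : F}, a ∈ R.Scal M → b ∈ R.Scal M → a + b ∈ R.Scal M := by
    intro a b ha hb p q hp0 hp hq hpq hqp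
    rw [add_smul]
    exact eich_add_mem (R.quad_eq_zero hp)
      (by rw [QuadraticMap.polar_smul_right, R.polar_eq_zero hpq, smul_zero])
      (by rw [QuadraticMap.polar_smul_right, R.polar_eq_zero hpq, smul_zero])
      (ha p q hp0 hp hq hpq hqp) (hb p q hp0 hp hq hpq hqp)
  have hneg : ∀ {a : F}, a ∈ R.Scal M → -a ∈ R.Scal M := fun ha => by
    have := R.scal_mul hM hn (R.coe_mem_scal hM (-1)) ha
    simpa using this
  let K : Subfield F :=
    { carrier := R.Scal M
      mul_mem' := R.scal_mul hM hn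
      one_mem' := h1
      add_mem' := hadd
      zero_mem' := h0
      neg_mem' := hneg
      inv_mem' := fun a ha => by
        haveI := Fintype.ofFinite F
        rcases eq_or_ne a 0 with rfl | ha0
        · rw [inv_zero]; exact h0
        have e : a⁻¹ = a ^ (Fintype.card F - 2) := by
          have hq : 1 < Fintype.card F := Fintype.one_lt_card
          refine inv_eq_of_mul_eq_one_right ?_
          rw [← pow_succ', show Fintype.card F - 2 + 1 = Fintype.card F - 1 by omega,
            FiniteField.pow_card_sub_one_eq_one a ha0]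
        rw [e]
        induction Fintype.card F - 2 with
        | zero => rw [pow_zero]; exact h1
        | succ k ih => rw [pow_succ]; exact R.scal_mul hM hn ih ha }
  have hlt : F₀ < K := lt_of_le_of_ne (fun x hx => R.coe_mem_scal hM ⟨x, hx⟩) fun h => hc0 (by rw [h]; exact hc)
  have : d ∈ K := by rw [hgen K hlt]; trivial
  exact this

theorem efull_of_scal (hn : 5 ≤ Module.finrank F₀ U) (hs : ∀ d, d ∈ R.Scal M) {x : U} (hx0 : x ≠ 0)
    (hx : R.form x = 0) : EFull Q M (R.emb x) := by
  intro w hw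
  obtain ⟨y0, hy0⟩ := R.exists_pol_one hx0
  have hxx := R.quad_eq_zero hx
  suffices h : ∀ t : F, QuadraticMap.polar Q (R.emb x) w = 0 ∧ eich Q (R.emb x) (t • w) ∈ M by
    have := (h 1).2
    rwa [one_smul] at this
  have hmem := R.polar_of_span_perp hy0 hw
  clear hw
  induction hmem using Submodule.span_induction with
  | mem a ha =>
    obtain ⟨u, hu, rfl⟩ := ha
    have hsing := mem_span_singular_perp R.form R.nd hn hx hx0 hu
    clear hu
    induction hsing using Submodule.span_induction with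
    | mem z hz =>
      intro t
      refine ⟨R.polar_eq_zero hz.2, ?_⟩
      by_cases hzx : z ∈ Submodule.span F₀ {x}
      · obtain ⟨s, rfl⟩ := Submodule.mem_span_singleton.1 hzx
        have := eich_add_self Q hxx (QuadraticMap.polar_zero_right Q (R.emb x)) (t * (s : F))
        rw [zero_add, eich_zero Q hxx] at this
        rw [R.emb_smul, smul_smul, this]
        exact one_mem M
      · exact hs t x z hx0 hx hz.1 hz.2 hzx
    | zero => intro t; rw [map_zero, smul_zero, eich_zero Q hxx]; exact ⟨QuadraticMap.polar_zero_right Q _, one_mem M⟩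
    | add a b _ _ ha hb =>
      intro t
      have h : ∀ c : F, ∀ v, QuadraticMap.polar Q (R.emb x) v = 0 → QuadraticMap.polar Q (R.emb x) (c • v) = 0 :=
        fun c v hv => by rw [QuadraticMap.polar_smul_right, hv, smul_zero]
      rw [map_add, smul_add, QuadraticMap.polar_add_right, (ha t).1, (hb t).1, add_zero]
      exact ⟨rfl, eich_add_mem hxx (h t _ (ha t).1) (h t _ (hb t).1) (ha t).2 (hb t).2⟩
    | smul c a _ ha =>
      intro t
      rw [R.emb_smul, smul_smul, QuadraticMap.polar_smul_right, (ha t).1, smul_zero]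
      exact ⟨rfl, (ha _).2⟩
  | zero => intro t; rw [smul_zero, eich_zero Q hxx]; exact ⟨QuadraticMap.polar_zero_right Q _, one_mem M⟩
  | add a b _ _ ha hb =>
    intro t
    have h : ∀ c : F, ∀ v, QuadraticMap.polar Q (R.emb x) v = 0 → QuadraticMap.polar Q (R.emb x) (c • v) = 0 :=
      fun c v hv => by rw [QuadraticMap.polar_smul_right, hv, smul_zero]
    rw [smul_add, QuadraticMap.polar_add_right, (ha t).1, (hb t).1, add_zero]
    exact ⟨rfl, eich_add_mem hxx (h t _ (ha t).1) (h t _ (hb t).1) (ha t).2 (hb t).2⟩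
  | smul c a _ ha =>
    intro t
    rw [smul_smul, QuadraticMap.polar_smul_right, (ha t).1, smul_zero]
    exact ⟨rfl, (ha _).2⟩

omit hM in
/-- A singular vector with a large scalar on it is on the rational lines of two opposite points. -/
theorem exists_singular_opposite (hn : 3 ≤ Module.finrank F₀ U) :
    ∃ x z, x ≠ 0 ∧ R.form x = 0 ∧ z ≠ 0 ∧ R.form z = 0 ∧ R.pol x z = 1 := by
  obtain ⟨x, hx0, hx⟩ := exists_singular R.form R.nd hn
  obtain ⟨z, -, hz, hxz⟩ := exists_partner R.form (P := ⊤) (fun a _ h => R.nd a fun b => h b trivial)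
    (Submodule.mem_top (x := x)) hx0 hx
  refine ⟨x, z, hx0, hx, fun h => ?_, hz, hxz⟩
  rw [h, QuadraticMap.polar_zero_right] at hxz
  exact zero_ne_one hxz

theorem eichGroup_le_of_not_tight [FiniteDimensional F V] [Fintype F] (hQ : PolarNondeg Q)
    (hnV : 4 ≤ Module.finrank F V) (hn : 7 ≤ Module.finrank F₀ U) (hgen : ∀ K : Subfield F, F₀ < K → K = ⊤)
    (hnt : ¬ R.Tight M) : eichGroup Q ≤ M := by
  simp only [Tight, not_forall] at hnt
  obtain ⟨x, hx0, hx, y, hxy, hy, hno⟩ := hnt
  obtain ⟨z, hz, hxz, ha⟩ : ∃ z, R.form z = 0 ∧ R.pol x z = 0 ∧ QuadraticMap.polar Q y (R.emb z) ∉ F₀ := by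
    by_contra hcon
    simp only [not_exists, not_and, not_not] at hcon
    exact hno (R.exists_rep hQ (by omega) hx0 hx hxy hcon)
  have hzx : z ∉ Submodule.span F₀ {x} := fun h => ha (by
    obtain ⟨t, rfl⟩ := Submodule.mem_span_singleton.1 h
    rw [R.emb_smul, QuadraticMap.polar_smul_right, QuadraticMap.polar_comm, hxy, smul_zero]
    exact zero_mem F₀)
  obtain ⟨b, x3, hb, hx3, hxb, hzb, hxx3, hzx3, hbx3, hb0⟩ :=
    exists_pair_dual R.form R.nd (by omega) hx hz hx0 hxz hzx 1
  -- the second conjugation uses z itself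
  have hx3z : R.pol x3 z = 0 := (QuadraticMap.polar_comm _ x3 z).trans hzx3
  have hbz : R.pol b z = 0 := (QuadraticMap.polar_comm _ b z).trans hzb
  have hzz : R.pol z z = 0 := by simp [pol, quad_polar_self, hz]
  have hxx := R.quad_eq_zero hx
  -- first conjugation
  have hfix : (eich Q (R.emb z) (R.emb b)).1 (R.emb x) = R.emb x := by
    rw [eich_apply Q (R.quad_eq_zero hz) (R.polar_eq_zero hzb), R.polar_eq_zero hxz, R.polar_eq_zero hxb]
    simp
  obtain ⟨e1, m1⟩ := eich_diff_mem (hM z b hz hzb) hxx hfix hxy hy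
  rw [eich_apply Q (R.quad_eq_zero hz) (R.polar_eq_zero hzb), R.quad_eq_zero hb] at e1 m1
  obtain ⟨w, hw⟩ : ∃ w, w = QuadraticMap.polar Q y (R.emb z) • R.emb b -
      QuadraticMap.polar Q y (R.emb b) • R.emb z := ⟨_, rfl⟩
  have hwe : y + QuadraticMap.polar Q y (R.emb z) • R.emb b -
      (QuadraticMap.polar Q y (R.emb b) + 0 * QuadraticMap.polar Q y (R.emb z)) • R.emb z - y = w := by
    rw [hw]; module
  rw [hwe] at e1 m1
  -- second conjugation
  have hfix2 : (eich Q (R.emb x3) (R.emb z)).1 (R.emb x) = R.emb x := by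
    rw [eich_apply Q (R.quad_eq_zero hx3) (R.polar_eq_zero hx3z), R.polar_eq_zero hxx3, R.polar_eq_zero hxz]
    simp
  obtain ⟨-, m2⟩ := eich_diff_mem (hM x3 z hx3 hx3z) hxx hfix2 e1 m1
  have hw1 : QuadraticMap.polar Q w (R.emb x3) = QuadraticMap.polar Q y (R.emb z) := by
    have h' : QuadraticMap.polar Q (R.emb b) (R.emb x3) = 1 := by
      rw [R.polar_emb]
      show ((QuadraticMap.polar R.form b x3 : F₀) : F) = 1
      rw [hbx3]
      rfl
    rw [hw, QuadraticMap.polar_sub_left, QuadraticMap.polar_smul_left, QuadraticMap.polar_smul_left, h',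
      R.polar_eq_zero hzx3]
    simp
  have hw2 : QuadraticMap.polar Q w (R.emb z) = 0 := by
    rw [hw, QuadraticMap.polar_sub_left, QuadraticMap.polar_smul_left, QuadraticMap.polar_smul_left,
      R.polar_eq_zero hbz, R.polar_eq_zero hzz]
    simp
  rw [eich_apply Q (R.quad_eq_zero hx3) (R.polar_eq_zero hx3z), hw1, hw2, R.quad_eq_zero hz, zero_mul,
    add_zero, zero_smul, sub_zero, add_sub_cancel_left] at m2
  have hs := fun d => R.scal_eq_univ hM (by omega) hgen
    (R.pair_move_mem hM (by omega) hx hz hx0 hxz hzx m2) ha d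
  obtain ⟨p, q, hp0, hp, hq0, hq, hpq⟩ := R.exists_singular_opposite (by omega)
  refine eichGroup_le_of_full Q hQ hnV (R.quad_eq_zero hp) (R.quad_eq_zero hq) ?_
    (R.efull_of_scal hM (by omega) hs hp0 hp) (R.efull_of_scal hM (by omega) hs hq0 hq)
  rw [R.polar_emb, hpq]
  exact one_ne_zero

end RatForm

end CfsgLib.Classical22.OrthSubfield
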