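/-
When all root elements with rational centres are rational, a non-rational point of a rational singular line
carries root elements of that line only.
-/
import Cfsg.Agent.Lib.Classical22.OrthSubfieldFull

set_option autoImplicit false

namespace CfsgLib.Classical22.OrthSubfield.RatForm

open CfsgLib.Classical

variable {F V : Type*} [Field F] [AddCommGroup V] [Module F V] {Q : QuadraticForm F V} {F₀ : Subfield F}
  {U : Type*} [AddCommGroup U] [Module F₀ U] (R : RatForm Q F₀ U) {M : Subgroup (qAut Q)}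

/-- A vector on a rational point. -/
def IsPoint (v : V) : Prop := ∃ (u : U) (t : F), v = t • R.emb u

/-- Two rational vectors spanning a totally singular line. -/
structure IsLine (s₁ s₂ : U) : Prop where
  ne : s₁ ≠ 0
  sing₁ : R.form s₁ = 0
  sing₂ : R.form s₂ = 0
  orth : R.pol s₁ s₂ = 0
  indep : s₂ ∉ Submodule.span F₀ {s₁}

variable {R} {s₁ s₂ : U}

theorem IsLine.symm (h : R.IsLine s₁ s₂) : R.IsLine s₂ s₁ where
  ne := fun h0 => h.indep (h0 ▸ Submodule.zero_mem _)
  sing₁ := h.sing₂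
  sing₂ := h.sing₁
  orth := (QuadraticMap.polar_comm _ _ _).trans h.orth
  indep := fun hm => by
    obtain ⟨t, ht⟩ := Submodule.mem_span_singleton.1 hm
    rcases eq_or_ne t 0 with rfl | ht0
    · exact h.ne (by rw [← ht, zero_smul])
    · exact h.indep (Submodule.mem_span_singleton.2 ⟨t⁻¹, by rw [← ht, smul_smul, inv_mul_cancel₀ ht0, one_smul]⟩)

theorem IsLine.singular (h : R.IsLine s₁ s₂) :
    ∀ w ∈ Submodule.span F ({R.emb s₁, R.emb s₂} : Set V), Q w = 0 :=
  singular_span_pair Q (R.quad_eq_zero h.sing₁) (R.quad_eq_zero h.sing₂) (R.polar_eq_zero h.orth)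

theorem IsLine.exists_dual (h : R.IsLine s₁ s₂) : ∃ w, R.pol s₁ w = 1 ∧ R.pol s₂ w = 0 := by
  obtain ⟨y, hy2, hy1⟩ := exists_polar_sep R.form R.nd (a := s₁) (b := s₂)
    fun s hs => h.symm.indep (Submodule.mem_span_singleton.2 ⟨s, hs⟩)
  refine ⟨(R.pol s₁ y)⁻¹ • y, ?_, ?_⟩
  · simp only [pol, QuadraticMap.polar_smul_right, smul_eq_mul]
    exact inv_mul_cancel₀ hy1
  · simp only [pol, QuadraticMap.polar_smul_right, hy2, smul_zero]

/-- Coefficients of a rational vector in a rational line. -/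
theorem IsLine.coeff_mem (h : R.IsLine s₁ s₂) {u : U} {a b : F} (hu : R.emb u = a • R.emb s₁ + b • R.emb s₂) :
    a ∈ F₀ := by
  obtain ⟨w, hw1, hw2⟩ := h.exists_dual
  have : a = (R.pol u w : F) := by
    rw [← R.polar_emb, hu, QuadraticMap.polar_add_left, QuadraticMap.polar_smul_left, QuadraticMap.polar_smul_left,
      R.polar_emb, R.polar_emb, hw1, hw2]
    simp
  exact this ▸ (R.pol u w).2

theorem IsLine.mem_of_emb (h : R.IsLine s₁ s₂) {u : U}
    (hu : R.emb u ∈ Submodule.span F ({R.emb s₁, R.emb s₂} : Set V)) : u ∈ Submodule.span F₀ ({s₁, s₂} : Set U) := by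
  obtain ⟨a, b, hab⟩ := Submodule.mem_span_pair.1 hu
  have ha := h.coeff_mem hab.symm
  have hb := h.symm.coeff_mem (u := u) (a := b) (b := a) (by rw [← hab, add_comm])
  refine Submodule.mem_span_pair.2 ⟨⟨a, ha⟩, ⟨b, hb⟩, R.emb_injective ?_⟩
  rw [map_add, R.emb_smul, R.emb_smul]
  exact hab

variable (hM : R.InM M) (hT : R.Tight M)
include hM hT

theorem mem_scalar (h : R.IsLine s₁ s₂) {c₁ c₂ t : F}
    (hm : eich Q (c₁ • R.emb s₁ + c₂ • R.emb s₂) (-t • R.emb s₁) ∈ M) : t * c₂ ∈ F₀ := by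
  rw [eich_line_left Q (R.quad_eq_zero h.sing₁) (R.quad_eq_zero h.sing₂) (R.polar_eq_zero h.orth)] at hm
  obtain ⟨u, s, hus⟩ := hT s₁ h.ne h.sing₁ _
    (by rw [QuadraticMap.polar_smul_right, R.polar_eq_zero h.orth, smul_zero]) hm
  have := h.symm.coeff_mem (u := u) (a := t * c₂) (b := -s) (by
    rw [neg_mul, neg_neg] at hus
    rw [hus]
    module)
  exact this

variable [FiniteDimensional F₀ U] [Fintype F₀]

theorem mem_line_of_perp (hQ : PolarNondeg Q) (h : R.IsLine s₁ s₂) {c₁ c₂ : F}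
    (hp : ¬ R.IsPoint (c₁ • R.emb s₁ + c₂ • R.emb s₂)) {l : V} (hl1 : QuadraticMap.polar Q (R.emb s₁) l = 0)
    (hl2 : QuadraticMap.polar Q (R.emb s₂) l = 0) (hm : eich Q (c₁ • R.emb s₁ + c₂ • R.emb s₂) l ∈ M) :
    l ∈ Submodule.span F ({R.emb s₁, R.emb s₂} : Set V) := by
  obtain ⟨p, hpdef⟩ : ∃ p, p = c₁ • R.emb s₁ + c₂ • R.emb s₂ := ⟨_, rfl⟩
  rw [← hpdef] at hm hp
  have hQp : Q p = 0 := h.singular p (hpdef ▸ Submodule.mem_span_pair.2 ⟨_, _, rfl⟩)
  have hpl : QuadraticMap.polar Q p l = 0 := by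
    rw [hpdef, QuadraticMap.polar_add_left, QuadraticMap.polar_smul_left, QuadraticMap.polar_smul_left, hl1, hl2,
      smul_zero, smul_zero, add_zero]
  have key : ∀ b, R.pol s₁ b = 0 → R.pol s₂ b = 0 → QuadraticMap.polar Q l (R.emb b) = 0 := by
    intro b hb1 hb2
    have step : ∀ x, R.form x = 0 → R.pol x b = 0 → QuadraticMap.polar Q (R.emb x) p = 0 →
        QuadraticMap.polar Q (R.emb x) l = 0 →
        eich Q p (-QuadraticMap.polar Q l (R.emb b) • R.emb x) ∈ M := by
      intro x hx hxb hxp hxl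
      have e1 := R.polar_eq_zero hxb
      have hpb : QuadraticMap.polar Q p (R.emb b) = 0 := by
        rw [hpdef, QuadraticMap.polar_add_left, QuadraticMap.polar_smul_left, QuadraticMap.polar_smul_left,
          R.polar_eq_zero hb1, R.polar_eq_zero hb2, smul_zero, smul_zero, add_zero]
      have hfix : (eich Q (R.emb x) (R.emb b)).1 p = p := by
        rw [eich_apply Q (R.quad_eq_zero hx) e1, QuadraticMap.polar_comm Q p (R.emb x), hxp, hpb]
        simp
      have := (eich_diff_mem (hM x b hx hxb) hQp hfix hpl hm).2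
      rw [eich_apply Q (R.quad_eq_zero hx) e1, QuadraticMap.polar_comm Q l (R.emb x), hxl] at this
      convert this using 2
      module
    have hmem1 : R.emb s₁ ∈ Submodule.span F ({R.emb s₁, R.emb s₂} : Set V) := Submodule.subset_span (by simp)
    have hmem2 : R.emb s₂ ∈ Submodule.span F ({R.emb s₁, R.emb s₂} : Set V) := Submodule.subset_span (by simp)
    have hpm : p ∈ Submodule.span F ({R.emb s₁, R.emb s₂} : Set V) := hpdef ▸ Submodule.mem_span_pair.2 ⟨_, _, rfl⟩
    have m1 := step s₁ h.sing₁ hb1 (polar_zero_of_singular Q h.singular hmem1 hpm) hl1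
    have m2 := step s₂ h.sing₂ hb2 (polar_zero_of_singular Q h.singular hmem2 hpm) hl2
    obtain ⟨t, ht⟩ : ∃ t, t = QuadraticMap.polar Q l (R.emb b) := ⟨_, rfl⟩
    rw [← ht] at m1 m2 ⊢
    have f2 : t * c₂ ∈ F₀ := mem_scalar hM hT h (hpdef ▸ m1)
    have f1 : t * c₁ ∈ F₀ := mem_scalar hM hT h.symm (c₁ := c₂) (by rwa [add_comm, ← hpdef])
    by_contra ht0
    refine hp ⟨(⟨_, f1⟩ : F₀) • s₁ + (⟨_, f2⟩ : F₀) • s₂, t⁻¹, ?_⟩
    rw [map_add, R.emb_smul, R.emb_smul, hpdef, smul_add, smul_smul, smul_smul, ← mul_assoc, ← mul_assoc,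
      inv_mul_cancel₀ ht0, one_mul, one_mul]
  obtain ⟨w₁, hw11, hw12⟩ := h.exists_dual
  obtain ⟨w₂, hw22, hw21⟩ := h.symm.exists_dual
  have hz : l - QuadraticMap.polar Q l (R.emb w₁) • R.emb s₁ - QuadraticMap.polar Q l (R.emb w₂) • R.emb s₂ = 0 := by
    refine R.eq_zero_of_polar hQ fun u => ?_
    obtain ⟨b, hb⟩ : ∃ b, b = u - R.pol s₁ u • w₁ - R.pol s₂ u • w₂ := ⟨_, rfl⟩
    have hb1 : R.pol s₁ b = 0 := by
      rw [hb]
      simp only [pol, QuadraticMap.polar_sub_right, QuadraticMap.polar_smul_right, smul_eq_mul] at *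
      rw [hw11, hw21]
      ring
    have hb2 : R.pol s₂ b = 0 := by
      rw [hb]
      simp only [pol, QuadraticMap.polar_sub_right, QuadraticMap.polar_smul_right, smul_eq_mul] at *
      rw [hw12, hw22]
      ring
    have h0 := key b hb1 hb2
    rw [hb, map_sub, map_sub, R.emb_smul, R.emb_smul, QuadraticMap.polar_sub_right, QuadraticMap.polar_sub_right,
      QuadraticMap.polar_smul_right, QuadraticMap.polar_smul_right, smul_eq_mul, smul_eq_mul] at h0
    rw [QuadraticMap.polar_sub_left, QuadraticMap.polar_sub_left, QuadraticMap.polar_smul_left,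
      QuadraticMap.polar_smul_left, R.polar_emb, R.polar_emb, smul_eq_mul, smul_eq_mul]
    linear_combination h0
  refine Submodule.mem_span_pair.2 ⟨QuadraticMap.polar Q l (R.emb w₁), QuadraticMap.polar Q l (R.emb w₂), ?_⟩
  rw [sub_sub, sub_eq_zero] at hz
  exact hz.symm

/-- A non-rational point of a rational line is only the centre of root elements of that line. -/
theorem mem_line_of_root (hQ : PolarNondeg Q) (hn : 5 ≤ Module.finrank F₀ U) (h : R.IsLine s₁ s₂) {p l : V}
    (hpm : p ∈ Submodule.span F ({R.emb s₁, R.emb s₂} : Set V)) (hp : ¬ R.IsPoint p)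
    (hpl : QuadraticMap.polar Q p l = 0) (hm : eich Q p l ∈ M) :
    l ∈ Submodule.span F ({R.emb s₁, R.emb s₂} : Set V) := by
  obtain ⟨c₁, c₂, hc⟩ := Submodule.mem_span_pair.1 hpm
  obtain ⟨a, ha1, ha2, ha⟩ := exists_perp_notMem_pair R.form R.nd hn s₁ s₂
  have hQp := h.singular p hpm
  have step : ∀ s, R.form s = 0 → R.pol s a = 0 → R.emb s ∈ Submodule.span F ({R.emb s₁, R.emb s₂} : Set V) →
      QuadraticMap.polar Q (R.emb s) l = 0 := by
    intro s hs hsa hsm
    have e1 := R.polar_eq_zero hsa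
    have hps : QuadraticMap.polar Q p (R.emb s) = 0 := polar_zero_of_singular Q h.singular hpm hsm
    have hpa : QuadraticMap.polar Q p (R.emb a) = 0 := by
      rw [← hc, QuadraticMap.polar_add_left, QuadraticMap.polar_smul_left, QuadraticMap.polar_smul_left,
        R.polar_eq_zero ha1, R.polar_eq_zero ha2, smul_zero, smul_zero, add_zero]
    have hfix : (eich Q (R.emb s) (R.emb a)).1 p = p := by
      rw [eich_apply Q (R.quad_eq_zero hs) e1, hps, hpa]
      simp
    obtain ⟨-, hd⟩ := eich_diff_mem (hM s a hs hsa) hQp hfix hpl hm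
    obtain ⟨d, hdd⟩ : ∃ d, d = QuadraticMap.polar Q l (R.emb s) • R.emb a -
        (QuadraticMap.polar Q l (R.emb a) + Q (R.emb a) * QuadraticMap.polar Q l (R.emb s)) • R.emb s := ⟨_, rfl⟩
    rw [eich_apply Q (R.quad_eq_zero hs) e1, show l + QuadraticMap.polar Q l (R.emb s) • R.emb a -
      (QuadraticMap.polar Q l (R.emb a) + Q (R.emb a) * QuadraticMap.polar Q l (R.emb s)) • R.emb s - l = d by
        rw [hdd]; module] at hd
    have hperp : ∀ x, R.pol x a = 0 → R.emb x ∈ Submodule.span F ({R.emb s₁, R.emb s₂} : Set V) →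
        QuadraticMap.polar Q (R.emb x) d = 0 := fun x hxa hxm => by
      rw [hdd, QuadraticMap.polar_sub_right, QuadraticMap.polar_smul_right, QuadraticMap.polar_smul_right,
        R.polar_eq_zero hxa, polar_zero_of_singular Q h.singular hxm hsm, smul_zero, smul_zero, sub_zero]
    have hdS := mem_line_of_perp hM hT hQ h (c₁ := c₁) (c₂ := c₂) (hc.symm ▸ hp)
      (hperp s₁ ha1 (Submodule.subset_span (by simp))) (hperp s₂ ha2 (Submodule.subset_span (by simp)))
      (hc.symm ▸ hd)
    by_contra hne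
    rw [QuadraticMap.polar_comm] at hne
    refine ha (h.mem_of_emb ((Submodule.smul_mem_iff _ hne).1 ?_))
    have : QuadraticMap.polar Q l (R.emb s) • R.emb a = d +
        (QuadraticMap.polar Q l (R.emb a) + Q (R.emb a) * QuadraticMap.polar Q l (R.emb s)) • R.emb s := by
      rw [hdd, sub_add_cancel]
    rw [this]
    exact Submodule.add_mem _ hdS (Submodule.smul_mem _ _ hsm)
  exact mem_line_of_perp hM hT hQ h (c₁ := c₁) (c₂ := c₂) (hc.symm ▸ hp)
    (step s₁ h.sing₁ ha1 (Submodule.subset_span (by simp))) (step s₂ h.sing₂ ha2 (Submodule.subset_span (by simp)))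
    (hc.symm ▸ hm)

/-- The image of a rational singular point is never a non-rational point of a rational line. -/
theorem isPoint_of_image (hQ : PolarNondeg Q) (hn : 5 ≤ Module.finrank F₀ U) (h : R.IsLine s₁ s₂) {k : qAut Q}
    (hk : k ∈ M) {x : U} (hx : R.form x = 0)
    (hkx : k.1 (R.emb x) ∈ Submodule.span F ({R.emb s₁, R.emb s₂} : Set V)) : R.IsPoint (k.1 (R.emb x)) := by
  by_contra hnp
  have key : ∀ b, R.pol x b = 0 → k.1 (R.emb b) ∈ Submodule.span F ({R.emb s₁, R.emb s₂} : Set V) := by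
    intro b hb
    refine mem_line_of_root hM hT hQ hn h hkx hnp (by rw [qAut_polar]; exact R.polar_eq_zero hb) ?_
    rw [← eich_conj Q k (R.quad_eq_zero hx) (R.polar_eq_zero hb)]
    exact mul_mem (mul_mem hk (hM x b hx hb)) (inv_mem hk)
  obtain ⟨b, b', hxb, -, hxb', -, hbb'⟩ := exists_polar_ne_perp R.form R.nd hn x x
  have h0 := polar_zero_of_singular Q h.singular (key b hxb) (key b' hxb')
  rw [qAut_polar] at h0
  exact hbb' (R.pol_eq_zero h0)

end CfsgLib.Classical22.OrthSubfield.RatForm
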