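/-
Dickson's bound applied to a plane spanned by a rational point and a point of a line carrying rational root
elements.
-/
import Cfsg.Agent.Lib.Classical22.OrthSubfieldLines
import Cfsg.Agent.Lib.Classical22.DicksonPlane

set_option autoImplicit false

namespace CfsgLib.Classical22.OrthSubfield

open CfsgLib.Classical CfsgLib.Classical22.DicksonPlane
open scoped Matrix MatrixGroups

variable {F V : Type*} [Field F] [AddCommGroup V] [Module F V] {Q : QuadraticForm F V}

/-- The matrices induced on a plane by the elements of a subgroup. -/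
def planeGroup (M : Subgroup (qAut Q)) (e₀ e₁ : V) : Subgroup (GL (Fin 2) F) where
  carrier := {m | ∃ k ∈ M, k.1 e₀ = m.val 0 0 • e₀ + m.val 1 0 • e₁ ∧ k.1 e₁ = m.val 0 1 • e₀ + m.val 1 1 • e₁}
  one_mem' := ⟨1, one_mem M, by simp, by simp⟩
  mul_mem' := by
    rintro m m' ⟨k, hk, h0, h1⟩ ⟨k', hk', h0', h1'⟩
    refine ⟨k * k', mul_mem hk hk', ?_, ?_⟩
    · rw [qAut_mul_apply, h0', map_add, map_smul, map_smul, h0, h1, mul_apply_two, mul_apply_two]
      module
    · rw [qAut_mul_apply, h1', map_add, map_smul, map_smul, h0, h1, mul_apply_two, mul_apply_two]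
      module
  inv_mem' := by
    rintro m ⟨k, hk, h0, h1⟩
    have hv : ∀ i j, (m * m⁻¹).val i j = (1 : Matrix (Fin 2) (Fin 2) F) i j := fun i j => by
      rw [mul_inv_cancel]; rfl
    refine ⟨k⁻¹, inv_mem hk, k.1.injective ?_, k.1.injective ?_⟩
    · have ha := hv 0 0
      have hb := hv 1 0
      rw [mul_apply_two] at ha hb
      rw [qApply_inv_self, map_add, map_smul, map_smul, h0, h1,
        show e₀ = (1 : Matrix (Fin 2) (Fin 2) F) 0 0 • e₀ + (1 : Matrix (Fin 2) (Fin 2) F) 1 0 • e₁ by simp,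
        ← ha, ← hb]
      simp only [Matrix.one_apply_eq, Matrix.one_apply_ne (show (1 : Fin 2) ≠ 0 by decide), ha, hb, one_smul,
        zero_smul, add_zero]
      conv_lhs => rw [show e₀ = (1 : F) • e₀ + (0 : F) • e₁ by simp]
      rw [← show m.val 0 0 * m⁻¹.val 0 0 + m.val 0 1 * m⁻¹.val 1 0 = (1 : F) by rw [ha]; simp,
        ← show m.val 1 0 * m⁻¹.val 0 0 + m.val 1 1 * m⁻¹.val 1 0 = (0 : F) by rw [hb]; simp]
      module
    · have ha := hv 0 1
      have hb := hv 1 1
      rw [mul_apply_two] at ha hb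
      rw [qApply_inv_self, map_add, map_smul, map_smul, h0, h1]
      conv_lhs => rw [show e₁ = (0 : F) • e₀ + (1 : F) • e₁ by simp]
      rw [← show m.val 0 0 * m⁻¹.val 0 1 + m.val 0 1 * m⁻¹.val 1 1 = (0 : F) by rw [ha]; simp,
        ← show m.val 1 0 * m⁻¹.val 0 1 + m.val 1 1 * m⁻¹.val 1 1 = (1 : F) by rw [hb]; simp]
      module

theorem transl_add (G : Subgroup (GL (Fin 2) F)) {a b : F} (ha : a ∈ transl G) (hb : b ∈ transl G) :
    a + b ∈ transl G := by
  obtain ⟨g, hg, g10, g00, g01⟩ := ha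
  obtain ⟨h, hh, h10, h00, h01⟩ := hb
  refine ⟨g * h, mul_mem hg hh, ?_, ?_, ?_⟩
  · rw [mul_apply_two, g10, h10]; ring
  · rw [mul_apply_two, mul_apply_two, g10, h10, g00, h00]; ring
  · rw [mul_apply_two, mul_apply_two, h10, g01, h01, ← h00]; ring

theorem transl_zero (G : Subgroup (GL (Fin 2) F)) : (0 : F) ∈ transl G :=
  ⟨1, one_mem G, by simp, by simp, by simp⟩

variable [Fintype F]

theorem neg_mem_of_add {S : Set F} (h0 : (0 : F) ∈ S) (hadd : ∀ a ∈ S, ∀ b ∈ S, a + b ∈ S) {a : F} (ha : a ∈ S) :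
    -a ∈ S := by
  have hn : ∀ n : ℕ, n • a ∈ S := fun n => by
    induction n with
    | zero => rw [zero_smul]; exact h0
    | succ k ih => rw [succ_nsmul]; exact hadd _ ih _ ha
  have h := card_nsmul_eq_zero (x := a) (G := F)
  have h1 : 1 ≤ Fintype.card F := Fintype.card_pos
  rw [← Nat.succ_pred_eq_of_pos h1, succ_nsmul] at h
  rw [← eq_neg_of_add_eq_zero_left h]
  exact hn _

/-- An additive set with few elements compared with its multipliers is a line over the multiplier field. -/
theorem exists_multiplier_field {A : Set F} (h0 : (0 : F) ∈ A) (hadd : ∀ a ∈ A, ∀ b ∈ A, a + b ∈ A)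
    (hlt : A.ncard < 2 * (multipliers A).ncard) :
    ∃ K : Subfield F, (K : Set F) = multipliers A ∧ ∀ a ∈ A, a ≠ 0 → ∀ b ∈ A, b / a ∈ K := by
  have hmul : ∀ {l l' : F}, l ∈ multipliers A → l' ∈ multipliers A → l * l' ∈ multipliers A :=
    fun hl hl' a ha => by rw [mul_assoc]; exact hl _ (hl' _ ha)
  have h1 : (1 : F) ∈ multipliers A := fun a ha => by rwa [one_mul]
  have hz : (0 : F) ∈ multipliers A := fun a _ => by rwa [zero_mul]
  let K : Subfield F :=
    { carrier := multipliers A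
      mul_mem' := hmul
      one_mem' := h1
      add_mem' := fun hl hl' a ha => by rw [add_mul]; exact hadd _ (hl _ ha) _ (hl' _ ha)
      zero_mem' := hz
      neg_mem' := fun hl a ha => by rw [neg_mul]; exact neg_mem_of_add h0 hadd (hl _ ha)
      inv_mem' := fun l hl => by
        rcases eq_or_ne l 0 with rfl | hl0
        · rw [inv_zero]; exact hz
        have e : l⁻¹ = l ^ (Fintype.card F - 2) := by
          have hq : 1 < Fintype.card F := Fintype.one_lt_card
          refine inv_eq_of_mul_eq_one_right ?_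
          rw [← pow_succ', show Fintype.card F - 2 + 1 = Fintype.card F - 1 by omega,
            FiniteField.pow_card_sub_one_eq_one l hl0]
        rw [e]
        induction Fintype.card F - 2 with
        | zero => rw [pow_zero]; exact h1
        | succ k ih => rw [pow_succ]; exact hmul ih hl }
  refine ⟨K, rfl, fun a ha ha0 b hb => ?_⟩
  by_contra hba
  have hinj : Function.Injective fun p : K × K => (p.1 : F) * a + (p.2 : F) * b := by
    intro p q h
    dsimp only at h
    have h2 : (p.2 : F) = q.2 := by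
      by_contra hne
      refine hba ?_
      have e : b / a = ((p.1 : F) - q.1) / ((q.2 : F) - p.2) := by
        rw [div_eq_div_iff ha0 (sub_ne_zero.2 (Ne.symm hne))]
        linear_combination -h
      rw [e]
      exact div_mem (sub_mem p.1.2 q.1.2) (sub_mem q.2.2 p.2.2)
    rw [h2, add_left_inj, mul_left_inj' ha0] at h
    exact Prod.ext (Subtype.ext h) (Subtype.ext h2)
  have hsub : Set.range (fun p : K × K => (p.1 : F) * a + (p.2 : F) * b) ⊆ A := by
    rintro _ ⟨p, rfl⟩
    exact hadd _ (p.1.2 a ha) _ (p.2.2 b hb)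
  have hle := Set.ncard_le_ncard hsub (Set.toFinite A)
  rw [← Nat.card_coe_set_eq, Nat.card_range_of_injective hinj, Nat.card_prod] at hle
  have hK : 2 ≤ Nat.card K := Finite.one_lt_card
  have he : (multipliers A).ncard = Nat.card K := (Nat.card_coe_set_eq _).symm
  rw [he] at hlt
  have := Nat.mul_le_mul_right (Nat.card K) hK
  omega

namespace RatForm

variable {F₀ : Subfield F} {U : Type*} [AddCommGroup U] [Module F₀ U] (R : RatForm Q F₀ U) {M : Subgroup (qAut Q)}
  [FiniteDimensional F₀ U] [Fintype F₀]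

theorem exists_move_of_no_kernel (hM : R.InM M) (hn : 7 ≤ Module.finrank F₀ U)
    (hgen : ∀ K : Subfield F, F₀ < K → K = ⊤) {v y w : V} (hv : Q v = 0) (hy : Q y = 0)
    (hvy : QuadraticMap.polar Q v y = 0) (hroot : eich Q v y ∈ M) {x : U} (hx0 : x ≠ 0)
    (hx : R.form x = 0) (hw : w = QuadraticMap.polar Q (R.emb x) v • y - QuadraticMap.polar Q (R.emb x) y • v)
    (hker : ∀ z, R.form z = 0 → R.pol x z = 0 → QuadraticMap.polar Q w (R.emb z) = 0 →
      z ∈ Submodule.span F₀ {x}) :
    ∃ k ∈ M, ∃ c : F, c ≠ 0 ∧ k.1 (R.emb x) = c • w := by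
  obtain ⟨G, hG⟩ : ∃ G, G = planeGroup M (R.emb x) w := ⟨_, rfl⟩
  have hyv : QuadraticMap.polar Q y v = 0 := (QuadraticMap.polar_comm Q y v).trans hvy
  have hxw : QuadraticMap.polar Q (R.emb x) w = 0 := by
    rw [hw, QuadraticMap.polar_sub_right, QuadraticMap.polar_smul_right, QuadraticMap.polar_smul_right, smul_eq_mul,
      smul_eq_mul, mul_comm, sub_self]
  have hwv : QuadraticMap.polar Q w v = 0 := by
    rw [hw, QuadraticMap.polar_sub_left, QuadraticMap.polar_smul_left, QuadraticMap.polar_smul_left, hyv,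
      quad_polar_self, hv]
    simp
  have hwy : QuadraticMap.polar Q w y = 0 := by
    rw [hw, QuadraticMap.polar_sub_left, QuadraticMap.polar_smul_left, QuadraticMap.polar_smul_left, hvy,
      quad_polar_self, hy]
    simp
  -- the upper unipotents
  have hupper : ∀ z, R.pol x z = 0 → ∃ m ∈ G,
      (m : Matrix (Fin 2) (Fin 2) F) = !![1, -QuadraticMap.polar Q w (R.emb z); 0, 1] := by
    intro z hz
    refine ⟨Matrix.GeneralLinearGroup.mkOfDetNeZero !![1, -QuadraticMap.polar Q w (R.emb z); 0, 1]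
      (by simp [Matrix.det_fin_two]), ?_, rfl⟩
    rw [hG]
    refine ⟨_, hM x z hx hz, ?_, ?_⟩
    · rw [eich_fix Q (R.quad_eq_zero hx) (R.polar_eq_zero hz)]
      show R.emb x = (1 : F) • R.emb x + (0 : F) • w
      simp
    · rw [eich_apply Q (R.quad_eq_zero hx) (R.polar_eq_zero hz), QuadraticMap.polar_comm Q w (R.emb x), hxw]
      show _ = (-QuadraticMap.polar Q w (R.emb z)) • R.emb x + (1 : F) • w
      module
  -- the lower one
  obtain ⟨g₀, hg₀, hg₀v⟩ : ∃ m ∈ G, (m : Matrix (Fin 2) (Fin 2) F) = !![1, 0; 1, 1] := by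
    refine ⟨Matrix.GeneralLinearGroup.mkOfDetNeZero !![1, 0; 1, 1]
      (by simp [Matrix.det_fin_two]), ?_, rfl⟩
    rw [hG]
    refine ⟨_, hroot, ?_, ?_⟩
    · rw [eich_apply Q hv hvy, hy]
      show _ = (1 : F) • R.emb x + (1 : F) • w
      rw [hw]
      module
    · rw [eich_apply Q hv hvy, hwv, hwy]
      show _ = (0 : F) • R.emb x + (1 : F) • w
      module
  -- the translation set is large
  let Φ : qPerp R.form (Submodule.span F₀ {x}) →ₗ[F₀] F :=
    { toFun := fun z => -QuadraticMap.polar Q w (R.emb z)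
      map_add' := fun a b => by
        rw [Submodule.coe_add, map_add, QuadraticMap.polar_add_right, neg_add]
      map_smul' := fun c a => by
        rw [Submodule.coe_smul, R.emb_smul, QuadraticMap.polar_smul_right, RingHom.id_apply, Subfield.smul_def,
          smul_eq_mul, smul_eq_mul, mul_neg] }
  have hrange : (LinearMap.range Φ : Set F) ⊆ transl G := by
    rintro _ ⟨⟨z, hz⟩, rfl⟩
    obtain ⟨m, hm, hmv⟩ := hupper z ((mem_qPerp_singleton R.form).1 hz)
    exact ⟨m, hm, by simp [hmv], by simp [hmv], by simp [hmv, Φ]⟩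
  have hkdim : Module.finrank F₀ (LinearMap.ker Φ) ≤ 3 := by
    by_contra hk
    obtain ⟨K, hK⟩ : ∃ K, K = (LinearMap.ker Φ).map (qPerp R.form (Submodule.span F₀ {x})).subtype := ⟨_, rfl⟩
    have hKd : Module.finrank F₀ K = Module.finrank F₀ (LinearMap.ker Φ) := by
      rw [hK, Submodule.finrank_map_subtype_eq]
    obtain ⟨x', -, hx', hxx'⟩ := exists_partner R.form (P := ⊤) (fun a _ h => R.nd a fun b => h b trivial)
      (Submodule.mem_top (x := x)) hx0 hx
    obtain ⟨u, hu, hu0, hQu⟩ := exists_singular_mem R.form (C := K ⊓ qPerp R.form (Submodule.span F₀ {x'})) (by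
      have h2 := Submodule.finrank_sup_add_finrank_inf_eq K (qPerp R.form (Submodule.span F₀ {x'}))
      have h3 := Submodule.finrank_le (K ⊔ qPerp R.form (Submodule.span F₀ {x'}))
      have h4 := finrank_le_qPerp_singleton R.form R.nd x'
      omega)
    have hu1 := hu.1
    rw [hK] at hu1
    obtain ⟨⟨u', hu'⟩, hu'k, rfl⟩ := Submodule.mem_map.1 hu1
    have hz : -QuadraticMap.polar Q w (R.emb u') = 0 := LinearMap.mem_ker.1 hu'k
    obtain ⟨t, ht⟩ := Submodule.mem_span_singleton.1
      (hker u' hQu ((mem_qPerp_singleton R.form).1 hu') (neg_eq_zero.1 hz))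
    refine hu0 ?_
    have h5 := (mem_qPerp_singleton R.form).1 hu.2
    change QuadraticMap.polar R.form x' u' = 0 at h5
    rw [← ht, QuadraticMap.polar_smul_right, QuadraticMap.polar_comm, hxx', smul_eq_mul, mul_one] at h5
    show u' = 0
    rw [← ht, h5, zero_smul]
  have hcard : Nat.card F₀ ^ (Module.finrank F₀ U - 4) ≤ (transl G).ncard := by
    refine le_trans ?_ (Set.ncard_le_ncard hrange (Set.toFinite _))
    rw [← Nat.card_coe_set_eq]
    show _ ≤ Nat.card (LinearMap.range Φ)
    rw [Module.natCard_eq_pow_finrank (K := F₀) (V := LinearMap.range Φ)]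
    refine Nat.pow_le_pow_right Nat.card_pos ?_
    have h1 := LinearMap.finrank_range_add_finrank_ker Φ
    have h2 := finrank_le_qPerp_singleton R.form R.nd x
    omega
  obtain ⟨_, ⟨a₀, ha₀, rfl⟩, ha₀0⟩ : ∃ a ∈ (fun z => -QuadraticMap.polar Q w (R.emb z)) '' {z | R.pol x z = 0},
      a ≠ 0 := by
    by_contra hcon
    simp only [Set.mem_image, Set.mem_ofPred_eq, not_exists, not_and, not_not, forall_exists_index, and_imp,
      forall_apply_eq_imp_iff₂] at hcon
    have : LinearMap.ker Φ = ⊤ := LinearMap.ker_eq_top.2 (LinearMap.ext fun z =>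
      hcon z ((mem_qPerp_singleton R.form).1 z.2))
    rw [this, finrank_top] at hkdim
    have := finrank_le_qPerp_singleton R.form R.nd x
    omega
  obtain ⟨u₀, hu₀, hu₀v⟩ := hupper a₀ ha₀
  have hlt := card_transl_lt G ha₀0 hu₀ hu₀v hg₀ (by simp [hg₀v])
  obtain ⟨K, hK, hdiv⟩ := exists_multiplier_field (transl_zero G) (fun a ha b hb => transl_add G ha hb) hlt
  have ha₀t : -QuadraticMap.polar Q w (R.emb a₀) ∈ transl G :=
    ⟨u₀, hu₀, by simp [hu₀v], by simp [hu₀v], by simp [hu₀v]⟩
  have hFK : F₀ ≤ K := fun l hl => by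
    have hm : (⟨l, hl⟩ : F₀) • Φ ⟨a₀, (mem_qPerp_singleton R.form).2 ha₀⟩ ∈ transl G :=
      hrange ⟨(⟨l, hl⟩ : F₀) • ⟨a₀, (mem_qPerp_singleton R.form).2 ha₀⟩, map_smul Φ _ _⟩
    rw [Subfield.smul_def, smul_eq_mul] at hm
    have := hdiv _ ha₀t ha₀0 _ hm
    show l ∈ K
    have e : l * -QuadraticMap.polar Q w (R.emb a₀) / -QuadraticMap.polar Q w (R.emb a₀) = l :=
      mul_div_cancel_right₀ l ha₀0
    exact e ▸ this
  have hKtop : K = ⊤ := by
    refine hgen K (lt_of_le_of_ne hFK fun h => ?_)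
    rw [← hK, ← h, ← Nat.card_coe_set_eq] at hlt
    change _ < 2 * Nat.card F₀ at hlt
    rw [← Nat.card_coe_set_eq] at hcard
    have h2 : 2 ≤ Nat.card F₀ := Finite.one_lt_card
    have h3 : Nat.card F₀ ^ 2 ≤ Nat.card F₀ ^ (Module.finrank F₀ U - 4) :=
      Nat.pow_le_pow_right (by omega) (by omega)
    rw [sq] at h3
    have := Nat.mul_le_mul_right (Nat.card F₀) h2
    omega
  have hall : (-1 : F) ∈ transl G := by
    have hm : (-1 / -QuadraticMap.polar Q w (R.emb a₀)) ∈ multipliers (transl G) := by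
      rw [← hK, hKtop]
      trivial
    have := hm _ ha₀t
    rwa [div_mul_cancel₀ _ ha₀0] at this
  obtain ⟨m, hm, m10, m00, m01⟩ := hall
  have hmg := mul_mem hm hg₀
  rw [hG] at hmg
  obtain ⟨k, hk, hk0, -⟩ := hmg
  refine ⟨k, hk, m.val 0 0, (diag_ne_zero m10).1, ?_⟩
  rw [hk0, mul_apply_two, mul_apply_two, m10, m01, ← m00]
  simp [hg₀v]

end RatForm

end CfsgLib.Classical22.OrthSubfield
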