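/-
An overgroup of a rational orthogonal group either preserves the rational structure or is everything.
-/
import Cfsg.Agent.Lib.Classical22.OrthSubfieldPlane
import Cfsg.Agent.Lib.Classical22.OrthMaxNondeg

set_option autoImplicit false

namespace CfsgLib.Classical22.OrthSubfield.RatForm

open CfsgLib.Classical

variable {F V : Type*} [Field F] [AddCommGroup V] [Module F V] {Q : QuadraticForm F V} {F₀ : Subfield F}
  {U : Type*} [AddCommGroup U] [Module F₀ U] {R : RatForm Q F₀ U} {M : Subgroup (qAut Q)}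

/-- Sliding a root element of the subgroup along a rational line. -/
theorem slide_mem (hM : R.InM M) {v y : V} (hv : Q v = 0) (hy : Q y = 0) (hvy : QuadraticMap.polar Q v y = 0)
    (hroot : eich Q v y ∈ M) {x z : U} (hx : R.form x = 0) (hz : R.form z = 0) (hxz : R.pol x z = 0) {ρ : F}
    (hc : QuadraticMap.polar Q (R.emb z) v = ρ * QuadraticMap.polar Q (R.emb x) v)
    (hd : QuadraticMap.polar Q (R.emb z) y = ρ * QuadraticMap.polar Q (R.emb x) y) :
    eich Q (R.emb z - ρ • R.emb x)
      (QuadraticMap.polar Q (R.emb x) v • y - QuadraticMap.polar Q (R.emb x) y • v) ∈ M := by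
  obtain ⟨r, hr⟩ : ∃ r, r = R.emb z - ρ • R.emb x := ⟨_, rfl⟩
  rw [← hr]
  have hQr : Q r = 0 := by
    rw [hr, quad_sub, quad_smul, QuadraticMap.polar_smul_right, QuadraticMap.polar_comm, R.polar_eq_zero hxz,
      R.quad_eq_zero hx, R.quad_eq_zero hz]
    simp
  have hvr : QuadraticMap.polar Q v r = 0 := by
    rw [hr, QuadraticMap.polar_sub_right, QuadraticMap.polar_smul_right, QuadraticMap.polar_comm Q v (R.emb z),
      QuadraticMap.polar_comm Q v (R.emb x), hc, smul_eq_mul, sub_self]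
  have hyr : QuadraticMap.polar Q y r = 0 := by
    rw [hr, QuadraticMap.polar_sub_right, QuadraticMap.polar_smul_right, QuadraticMap.polar_comm Q y (R.emb z),
      QuadraticMap.polar_comm Q y (R.emb x), hd, smul_eq_mul, sub_self]
  obtain ⟨h, hh⟩ : ∃ h, h = eich Q (R.emb x) (R.emb z) := ⟨_, rfl⟩
  have hhM : h ∈ M := hh ▸ hM x z hx hxz
  have happ : ∀ l, h.1 l = l + QuadraticMap.polar Q (R.emb x) l • R.emb z -
      QuadraticMap.polar Q (R.emb z) l • R.emb x := fun l => by
    rw [hh, eich_apply Q (R.quad_eq_zero hx) (R.polar_eq_zero hxz), R.quad_eq_zero hz,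
      QuadraticMap.polar_comm Q l (R.emb x), QuadraticMap.polar_comm Q l (R.emb z), zero_mul, add_zero]
  have hhv : h.1 v = v + QuadraticMap.polar Q (R.emb x) v • r := by rw [happ, hc, hr]; module
  have hhy : h.1 y = y + QuadraticMap.polar Q (R.emb x) y • r := by rw [happ, hd, hr]; module
  have := mul_mem (mul_mem hhM hroot) (inv_mem hhM)
  rw [eich_conj Q h hv hvy, hhv, hhy, eich_slide Q hv hy hQr hvy hvr hyr] at this
  exact (Subgroup.mul_mem_cancel_left M hroot).1 this

variable [FiniteDimensional F₀ U] [Fintype F₀] [Fintype F]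

/-- A root element of the subgroup gives every rational point a rational ratio of its two products. -/
theorem ratio_mem (hM : R.InM M) (hT : R.Tight M) (hQ : PolarNondeg Q) (hn : 7 ≤ Module.finrank F₀ U)
    (hgen : ∀ K : Subfield F, F₀ < K → K = ⊤) {g : qAut Q} (hg : g ∈ M) {u₀ u₁ : U} (hL : R.IsLine u₀ u₁)
    (hnp : ¬ R.IsPoint (g.1 (R.emb u₀))) {x : U} (hx : R.form x = 0)
    (ha : QuadraticMap.polar Q (R.emb x) (g.1 (R.emb u₀)) ≠ 0) :
    QuadraticMap.polar Q (R.emb x) (g.1 (R.emb u₁)) / QuadraticMap.polar Q (R.emb x) (g.1 (R.emb u₀)) ∈ F₀ := by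
  obtain ⟨v, hv⟩ : ∃ v, v = g.1 (R.emb u₀) := ⟨_, rfl⟩
  obtain ⟨y, hy⟩ : ∃ y, y = g.1 (R.emb u₁) := ⟨_, rfl⟩
  rw [← hv] at ha hnp ⊢
  rw [← hy]
  have hQv : Q v = 0 := by rw [hv, qAut_map]; exact R.quad_eq_zero hL.sing₁
  have hQy : Q y = 0 := by rw [hy, qAut_map]; exact R.quad_eq_zero hL.sing₂
  have hvy : QuadraticMap.polar Q v y = 0 := by rw [hv, hy, qAut_polar]; exact R.polar_eq_zero hL.orth
  have hroot : eich Q v y ∈ M := by
    rw [hv, hy, ← eich_conj Q g (R.quad_eq_zero hL.sing₁) (R.polar_eq_zero hL.orth)]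
    exact mul_mem (mul_mem hg (hM _ _ hL.sing₁ hL.orth)) (inv_mem hg)
  obtain ⟨a, ha'⟩ : ∃ a, a = QuadraticMap.polar Q (R.emb x) v := ⟨_, rfl⟩
  obtain ⟨b, hb'⟩ : ∃ b, b = QuadraticMap.polar Q (R.emb x) y := ⟨_, rfl⟩
  obtain ⟨w, hw⟩ : ∃ w, w = a • y - b • v := ⟨_, rfl⟩
  rw [← ha'] at ha ⊢
  rw [← hb']
  have hx0 : x ≠ 0 := fun h => ha (by rw [ha', h, map_zero, QuadraticMap.polar_zero_left])
  -- reaching `w` from a rational point finishes
  have fin : ∀ k ∈ M, ∀ x' : U, R.form x' = 0 → ∀ c : F, c ≠ 0 → k.1 (R.emb x') = c • w → b / a ∈ F₀ := by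
    intro k hk x' hx' c hc hkx
    have e : (g⁻¹ * k).1 (R.emb x') = (c * a) • R.emb u₁ + -(c * b) • R.emb u₀ := by
      rw [qAut_mul_apply, hkx, hw, hv, hy, map_smul, map_sub, map_smul, map_smul, qInv_apply_self,
        qInv_apply_self]
      module
    have hm : (g⁻¹ * k).1 (R.emb x') ∈ Submodule.span F ({R.emb u₀, R.emb u₁} : Set V) :=
      Submodule.mem_span_pair.2 ⟨-(c * b), c * a, by rw [e, add_comm]⟩
    obtain ⟨r, t, hrt⟩ := isPoint_of_image hM hT hQ (by omega) hL (mul_mem (inv_mem hg) hk) hx' hm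
    rw [e] at hrt
    have ht : t ≠ 0 := by
      rintro rfl
      rw [zero_smul, add_comm] at hrt
      exact mul_ne_zero hc ha (R.indep hL.ne hL.indep hrt).2
    have h1 : R.emb r = (t⁻¹ * (c * a)) • R.emb u₁ + (t⁻¹ * -(c * b)) • R.emb u₀ := by
      have := congrArg (fun z => t⁻¹ • z) hrt
      simp only [smul_add, smul_smul, inv_mul_cancel₀ ht, one_smul] at this
      exact this.symm
    have f1 := hL.symm.coeff_mem h1
    have f0 := hL.coeff_mem (by rw [h1, add_comm] : R.emb r = (t⁻¹ * -(c * b)) • R.emb u₀ + (t⁻¹ * (c * a)) • R.emb u₁)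
    have := div_mem (neg_mem f0) f1
    convert this using 1
    field_simp
  by_contra hcon
  have hwp : ¬ R.IsPoint w := by
    rintro ⟨x', t, hwt⟩
    have ht : t ≠ 0 := by
      rintro rfl
      rw [zero_smul, hw, hv, hy, ← map_smul g.1, ← map_smul g.1, ← map_sub, map_eq_zero_iff _ g.1.injective] at hwt
      exact ha (R.indep hL.ne hL.indep (a := -b) (b := a) (by rw [← hwt]; module)).2
    have hQw : Q w = 0 := by simp [hw, quad_sub, quad_smul, hQy, hQv, QuadraticMap.polar_comm Q y v, hvy]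
    refine hcon (fin 1 (one_mem M) x' (R.form_eq_zero ?_) t⁻¹ (inv_ne_zero ht) ?_)
    · rw [hwt, quad_smul, mul_eq_zero] at hQw
      exact hQw.resolve_left (mul_ne_zero ht ht)
    · rw [hwt, smul_smul, inv_mul_cancel₀ ht, one_smul]
      rfl
  by_cases hker : ∀ z, R.form z = 0 → R.pol x z = 0 → QuadraticMap.polar Q w (R.emb z) = 0 →
      z ∈ Submodule.span F₀ {x}
  · obtain ⟨k, hk, c, hc, hkx⟩ := exists_move_of_no_kernel R hM hn hgen hQv hQy hvy hroot hx0 hx
      (w := w) (by rw [hw, ha', hb']) hker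
    exact hcon (fin k hk x hx c hc hkx)
  simp only [not_forall] at hker
  obtain ⟨z, hz, hxz, hwz, hzx⟩ := hker
  have hS : R.IsLine x z := ⟨hx0, hx, hz, hxz, hzx⟩
  obtain ⟨ρ, hρ⟩ : ∃ ρ, ρ = QuadraticMap.polar Q (R.emb z) v / a := ⟨_, rfl⟩
  have hd : QuadraticMap.polar Q (R.emb z) y = ρ * b := by
    rw [hw, QuadraticMap.polar_sub_left, QuadraticMap.polar_smul_left, QuadraticMap.polar_smul_left,
      QuadraticMap.polar_comm Q y (R.emb z), QuadraticMap.polar_comm Q v (R.emb z), smul_eq_mul, smul_eq_mul,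
      sub_eq_zero] at hwz
    rw [hρ, div_mul_eq_mul_div, eq_div_iff ha]
    linear_combination hwz
  have hm := slide_mem hM hQv hQy hvy hroot hx hz hxz (ρ := ρ)
    (by rw [← ha', hρ, div_mul_cancel₀ _ ha]) (by rw [← hb']; exact hd)
  rw [← ha', ← hb', ← hw] at hm
  have hwx : QuadraticMap.polar Q (R.emb x) w = 0 := by
    rw [hw, QuadraticMap.polar_sub_right, QuadraticMap.polar_smul_right, QuadraticMap.polar_smul_right, ← ha',
      ← hb', smul_eq_mul, smul_eq_mul, mul_comm, sub_self]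
  obtain ⟨r, hr⟩ : ∃ r, r = R.emb z - ρ • R.emb x := ⟨_, rfl⟩
  rw [← hr] at hm
  have hrm : r ∈ Submodule.span F ({R.emb x, R.emb z} : Set V) :=
    Submodule.mem_span_pair.2 ⟨-ρ, 1, by rw [hr]; module⟩
  have hrw : QuadraticMap.polar Q r w = 0 := by
    rw [hr, QuadraticMap.polar_sub_left, QuadraticMap.polar_smul_left, QuadraticMap.polar_comm Q (R.emb z) w,
      hwz, hwx, smul_zero, sub_zero]
  have hQw : Q w = 0 := by simp [hw, quad_sub, quad_smul, hQy, hQv, QuadraticMap.polar_comm Q y v, hvy]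
  -- `w` is on a rational line
  obtain ⟨s₁, s₂, hs, hwm⟩ : ∃ s₁ s₂, R.IsLine s₁ s₂ ∧ w ∈ Submodule.span F ({R.emb s₁, R.emb s₂} : Set V) := by
    by_cases hrp : R.IsPoint r
    · obtain ⟨r₀, t, hrt⟩ := hrp
      have ht : t ≠ 0 := by
        rintro rfl
        rw [zero_smul, hr] at hrt
        exact one_ne_zero (R.indep hx0 hzx (a := -ρ) (b := 1) (by rw [← hrt]; module)).2
      have hr0 : R.form r₀ = 0 := by
        refine R.form_eq_zero ?_
        have := hS.singular r hrm
        rw [hrt, quad_smul, mul_eq_zero] at this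
        exact this.resolve_left (mul_ne_zero ht ht)
      have hr00 : r₀ ≠ 0 := by
        rintro rfl
        rw [map_zero, smul_zero, hr] at hrt
        exact one_ne_zero (R.indep hx0 hzx (a := -ρ) (b := 1) (by rw [← hrt]; module)).2
      have hrw' : QuadraticMap.polar Q (R.emb r₀) w = 0 := by
        rw [hrt, QuadraticMap.polar_smul_left, smul_eq_mul, mul_eq_zero] at hrw
        exact hrw.resolve_left ht
      rw [hrt, eich_smul_left Q (R.quad_eq_zero hr0) hrw'] at hm
      obtain ⟨l₀, s, hls⟩ := hT r₀ hr00 hr0 _ (by rw [QuadraticMap.polar_smul_right, hrw', smul_zero]) hm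
      have hwe : w = t⁻¹ • R.emb l₀ + (t⁻¹ * s) • R.emb r₀ := by
        rw [mul_smul, ← smul_add, ← hls, smul_smul, inv_mul_cancel₀ ht, one_smul]
      refine ⟨r₀, l₀, ⟨hr00, hr0, R.form_eq_zero ?_, R.pol_eq_zero ?_, fun hmem => ?_⟩,
        Submodule.mem_span_pair.2 ⟨t⁻¹ * s, t⁻¹, by rw [hwe, add_comm]⟩⟩
      · rw [eq_sub_of_add_eq hls.symm, quad_sub, quad_smul, quad_smul, hQw, R.quad_eq_zero hr0,
          QuadraticMap.polar_smul_left, QuadraticMap.polar_smul_right, QuadraticMap.polar_comm Q w, hrw']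
        simp
      · rw [eq_sub_of_add_eq hls.symm, QuadraticMap.polar_sub_right, QuadraticMap.polar_smul_right,
          QuadraticMap.polar_smul_right, quad_polar_self, hrw', R.quad_eq_zero hr0]
        simp
      · obtain ⟨l, rfl⟩ := Submodule.mem_span_singleton.1 hmem
        refine hwp ⟨r₀, t⁻¹ * l + t⁻¹ * s, ?_⟩
        rw [hwe, R.emb_smul, smul_smul, ← add_smul]
    · exact ⟨x, z, hS, mem_line_of_root hM hT hQ (by omega) hS hrm hrp hrw hm⟩
  have hwv : QuadraticMap.polar Q w (-a⁻¹ • v) = 0 := by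
    simp [hw, QuadraticMap.polar_comm Q y v, hvy, quad_polar_self, hQv]
  have hwm' : eich Q w (-a⁻¹ • v) ∈ M := by
    have e : w = -b • v + a • y := by rw [hw]; module
    rw [e, eich_line_left Q hQv hQy hvy, neg_mul, neg_neg, inv_mul_cancel₀ ha, one_smul]
    exact hroot
  have hvS : v ∈ Submodule.span F ({R.emb s₁, R.emb s₂} : Set V) :=
    (Submodule.smul_mem_iff _ (neg_ne_zero.2 (inv_ne_zero ha))).1
      (mem_line_of_root hM hT hQ (by omega) hs hwm hwp hwv hwm')
  exact hnp (hv ▸ isPoint_of_image hM hT hQ (by omega) hs hg hL.sing₁ (hv ▸ hvS))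

/-- The element maps every rational singular point to a rational point. -/
theorem isPoint_of_tight (hM : R.InM M) (hT : R.Tight M) (hQ : PolarNondeg Q) (hn : 7 ≤ Module.finrank F₀ U)
    (hgen : ∀ K : Subfield F, F₀ < K → K = ⊤) {g : qAut Q} (hg : g ∈ M) {u₀ : U} (hu₀ : R.form u₀ = 0) :
    R.IsPoint (g.1 (R.emb u₀)) := by
  by_contra hnp
  have hu00 : u₀ ≠ 0 := fun h => hnp ⟨0, 1, by rw [h, map_zero, map_zero, one_smul]⟩
  obtain ⟨z, -, hz, huz⟩ := exists_partner R.form (P := ⊤) (fun a _ h => R.nd a fun b => h b trivial)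
    (Submodule.mem_top (x := u₀)) hu00 hu₀
  obtain ⟨u₁, hu₁, hu10, hQu1⟩ := exists_singular_mem R.form (C := qPerp R.form (Submodule.span F₀ {u₀, z}))
    (by have := finrank_le_qPerp_pair R.form R.nd u₀ z; omega)
  have hu₁' := (mem_qPerp_pair R.form).1 hu₁
  have hL : R.IsLine u₀ u₁ := ⟨hu00, hu₀, hQu1, hu₁'.1, fun h => by
    obtain ⟨t, rfl⟩ := Submodule.mem_span_singleton.1 h
    have := hu₁'.2
    rw [QuadraticMap.polar_smul_right, QuadraticMap.polar_comm, huz, smul_eq_mul, mul_one] at this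
    exact hu10 (by rw [this, zero_smul])⟩
  obtain ⟨v, hv⟩ : ∃ v, v = g.1 (R.emb u₀) := ⟨_, rfl⟩
  obtain ⟨y, hy⟩ : ∃ y, y = g.1 (R.emb u₁) := ⟨_, rfl⟩
  rw [← hv] at hnp
  have hQv : Q v = 0 := by rw [hv, qAut_map]; exact R.quad_eq_zero hu₀
  have hQy : Q y = 0 := by rw [hy, qAut_map]; exact R.quad_eq_zero hQu1
  have hvy : QuadraticMap.polar Q v y = 0 := by rw [hv, hy, qAut_polar]; exact R.polar_eq_zero hL.orth
  have hroot : eich Q v y ∈ M := by
    rw [hv, hy, ← eich_conj Q g (R.quad_eq_zero hu₀) (R.polar_eq_zero hL.orth)]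
    exact mul_mem (mul_mem hg (hM _ _ hu₀ hL.orth)) (inv_mem hg)
  obtain ⟨a, ha⟩ : ∃ a : U → F, ∀ u, a u = QuadraticMap.polar Q (R.emb u) v := ⟨_, fun _ => rfl⟩
  obtain ⟨b, hb⟩ : ∃ b : U → F, ∀ u, b u = QuadraticMap.polar Q (R.emb u) y := ⟨_, fun _ => rfl⟩
  have hadd : ∀ u u', a (u + u') = a u + a u' ∧ b (u + u') = b u + b u' := fun u u' => by
    simp [ha, hb]
  have hsm : ∀ (c : F₀) u, a (c • u) = c * a u ∧ b (c • u) = c * b u := fun c u => by
    simp [ha, hb, R.emb_smul]
  have hrep : ∀ u, R.form u = 0 → ∃ (m : F) (α β : F₀), a u = m * α ∧ b u = m * β ∧ (α ≠ 0 ∨ β ≠ 0) := by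
    intro u hu
    by_cases hau : a u = 0
    · exact ⟨b u, 0, 1, by simpa using hau, by simp, Or.inr one_ne_zero⟩
    · have := ratio_mem hM hT hQ (by omega) hgen hg hL (hv ▸ hnp) hu (by rw [← hv, ← ha]; exact hau)
      rw [← hv, ← hy, ← ha, ← hb] at this
      exact ⟨a u, 1, ⟨_, this⟩, by simp, by simp [mul_div_cancel₀ _ hau], Or.inl one_ne_zero⟩
  -- orthogonal points of different type have the same scalar
  have hlink : ∀ x x', R.form x = 0 → R.form x' = 0 → R.pol x x' = 0 → a x * b x' - a x' * b x ≠ 0 →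
      ∀ m : F, ∀ α β : F₀, a x = m * α → b x = m * β → a x' / m ∈ F₀ ∧ b x' / m ∈ F₀ := by
    intro x x' hx hx' hxx hD m α β hm1 hm2
    obtain ⟨m', α', β', hm1', hm2', -⟩ := hrep x' hx'
    obtain ⟨m'', α'', β'', hs1, hs2, hne⟩ := hrep (x + x') (by
      rw [quad_add, hx, hx', show QuadraticMap.polar R.form x x' = 0 from hxx, add_zero, add_zero])
    rw [(hadd x x').1, hm1, hm1'] at hs1
    rw [(hadd x x').2, hm2, hm2'] at hs2
    rw [hm1, hm2, hm1', hm2'] at hD
    have hD' : m * m' * ((α : F) * β' - α' * β) ≠ 0 := fun h => hD (by linear_combination h)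
    obtain ⟨⟨hm0, hm'0⟩, hdet⟩ : (m ≠ 0 ∧ m' ≠ 0) ∧ (α : F) * β' - α' * β ≠ 0 := by
      simpa [mul_eq_zero, not_or] using hD'
    have key : m * ((β'' : F) * α - α'' * β) = -(m' * ((β'' : F) * α' - α'' * β')) := by
      linear_combination (β'' : F) * hs1 - (α'' : F) * hs2
    have hk : (β'' : F) * α' - α'' * β' ≠ 0 := by
      intro h0
      rw [h0, mul_zero, neg_zero, mul_eq_zero] at key
      have h1 := key.resolve_left hm0
      rcases hne with hα | hβ
      · refine hα (Subtype.ext ?_)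
        refine (mul_eq_zero.1 (show (α'' : F) * ((α : F) * β' - α' * β) = 0 from ?_)).resolve_right hdet
        linear_combination (α' : F) * h1 - (α : F) * h0
      · refine hβ (Subtype.ext ?_)
        refine (mul_eq_zero.1 (show (β'' : F) * ((α : F) * β' - α' * β) = 0 from ?_)).resolve_right hdet
        linear_combination (β' : F) * h1 - (β : F) * h0
    have e : m' / m = -(((β'' : F) * α - α'' * β) / ((β'' : F) * α' - α'' * β')) := by
      rw [← neg_div, div_eq_div_iff hm0 hk]
      linear_combination key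
    have hμ : m' / m ∈ F₀ := by
      rw [e]
      exact neg_mem (div_mem (sub_mem (mul_mem β''.2 α.2) (mul_mem α''.2 β.2))
        (sub_mem (mul_mem β''.2 α'.2) (mul_mem α''.2 β'.2)))
    refine ⟨?_, ?_⟩
    · rw [hm1', mul_comm, mul_div_assoc]; exact mul_mem α'.2 hμ
    · rw [hm2', mul_comm, mul_div_assoc]; exact mul_mem β'.2 hμ
  -- two points of different type
  obtain ⟨x1, hx1, hax1⟩ : ∃ x1, R.form x1 = 0 ∧ a x1 ≠ 0 := by
    by_contra hcon
    simp only [not_exists, not_and, not_not] at hcon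
    refine hnp ⟨0, 1, ?_⟩
    rw [map_zero, smul_zero]
    refine R.eq_zero_of_polar hQ fun u => ?_
    rw [QuadraticMap.polar_comm, ← ha]
    induction mem_span_singular R.form R.nd (by omega) u using Submodule.span_induction with
    | mem z hz => exact hcon z hz
    | zero => rw [ha, map_zero, QuadraticMap.polar_zero_left]
    | add p q _ _ hp hq => rw [(hadd p q).1, hp, hq, add_zero]
    | smul c p _ hp => rw [(hsm c p).1, hp, mul_zero]
  obtain ⟨x2, hx2, hD12⟩ : ∃ x2, R.form x2 = 0 ∧ a x1 * b x2 - a x2 * b x1 ≠ 0 := by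
    by_contra hcon
    simp only [not_exists, not_and, not_not] at hcon
    have h0 : a x1 • y - b x1 • v = 0 := by
      refine R.eq_zero_of_polar hQ fun u => ?_
      rw [QuadraticMap.polar_sub_left, QuadraticMap.polar_smul_left, QuadraticMap.polar_smul_left,
        QuadraticMap.polar_comm Q y, QuadraticMap.polar_comm Q v, ← ha, ← hb, smul_eq_mul, smul_eq_mul]
      induction mem_span_singular R.form R.nd (by omega) u using Submodule.span_induction with
      | mem z hz => rw [mul_comm (b x1)]; exact hcon z hz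
      | zero => simp [ha, hb]
      | add p q _ _ hp hq => rw [(hadd p q).1, (hadd p q).2]; linear_combination hp + hq
      | smul c p _ hp => rw [(hsm c p).1, (hsm c p).2]; linear_combination (c : F) * hp
    rw [hv, hy, ← map_smul g.1, ← map_smul g.1, ← map_sub, map_eq_zero_iff _ g.1.injective] at h0
    exact hax1 (R.indep hu00 hL.indep (a := -b x1) (b := a x1) (by rw [← h0]; module)).2
  obtain ⟨x, x', hx, hx', hxx, hD⟩ : ∃ x x', R.form x = 0 ∧ R.form x' = 0 ∧ R.pol x x' = 0 ∧
      a x * b x' - a x' * b x ≠ 0 := by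
    by_cases h12 : R.pol x1 x2 = 0
    · exact ⟨x1, x2, hx1, hx2, h12, hD12⟩
    obtain ⟨x3, hx3, h13, h23, hax3⟩ : ∃ x3, R.form x3 = 0 ∧ R.pol x1 x3 = 0 ∧ R.pol x2 x3 = 0 ∧ a x3 ≠ 0 := by
      by_contra hcon
      simp only [not_exists, not_and, not_not] at hcon
      have hx10 : x1 ≠ 0 := fun h => h12 (by rw [h]; exact QuadraticMap.polar_zero_left _ _)
      have hperp : ∀ u, R.pol x1 u = 0 → a (u - (R.pol x2 u / R.pol x1 x2) • x1) = 0 := by
        intro u hu
        have := mem_span_singular_perp R.form R.nd (by omega) hx1 hx10 hu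
        clear hu
        induction this using Submodule.span_induction with
        | mem z hz =>
          refine hcon _ ?_ ?_ ?_
          · rw [quad_sub, quad_smul, hz.1, hx1, QuadraticMap.polar_smul_right, QuadraticMap.polar_comm, hz.2]
            simp
          · simp only [pol, QuadraticMap.polar_sub_right, QuadraticMap.polar_smul_right, hz.2, quad_polar_self, hx1,
              mul_zero, smul_zero, sub_zero]
          · simp only [pol, QuadraticMap.polar_sub_right, QuadraticMap.polar_smul_right, smul_eq_mul] at h12 ⊢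
            rw [QuadraticMap.polar_comm R.form x2 x1, div_mul_cancel₀ _ h12, sub_self]
        | zero => simp [ha, R.emb_smul]
        | add p q _ _ hp hq =>
          have e : p + q - (R.pol x2 (p + q) / R.pol x1 x2) • x1 =
              (p - (R.pol x2 p / R.pol x1 x2) • x1) + (q - (R.pol x2 q / R.pol x1 x2) • x1) := by
            simp only [pol, QuadraticMap.polar_add_right, add_div, add_smul]; module
          rw [e, (hadd _ _).1, hp, hq, add_zero]
        | smul c p _ hp =>
          have e : c • p - (R.pol x2 (c • p) / R.pol x1 x2) • x1 = c • (p - (R.pol x2 p / R.pol x1 x2) • x1) := by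
            simp only [pol, QuadraticMap.polar_smul_right, smul_eq_mul, mul_div_assoc, mul_smul]; module
          rw [e, (hsm _ _).1, hp, mul_zero]
      obtain ⟨d, hd⟩ : ∃ d : F₀, d = R.pol x1 x2 := ⟨_, rfl⟩
      have hd0 : (d : F) ≠ 0 := fun h => h12 (hd ▸ Subtype.ext h)
      have hv' : v = (a x2 / d) • R.emb x1 + (a x1 / d) • R.emb x2 := by
        refine sub_eq_zero.1 (R.eq_zero_of_polar hQ fun u => ?_)
        obtain ⟨u', hu'⟩ : ∃ u', u' = u - (R.pol x1 u / d) • x2 := ⟨_, rfl⟩
        have h1 : R.pol x1 u' = 0 := by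
          simp only [hu', pol, QuadraticMap.polar_sub_right, QuadraticMap.polar_smul_right, smul_eq_mul] at hd h12 ⊢
          rw [← hd, div_mul_cancel₀ _ (hd ▸ h12), sub_self]
        have h2 := hperp u' h1
        have h3 : R.pol x2 u' = R.pol x2 u := by
          simp only [hu', pol, QuadraticMap.polar_sub_right, QuadraticMap.polar_smul_right, quad_polar_self, hx2,
            mul_zero, smul_zero, sub_zero]
        rw [h3, ← hd, hu'] at h2
        rw [QuadraticMap.polar_sub_left, QuadraticMap.polar_add_left, QuadraticMap.polar_smul_left,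
          QuadraticMap.polar_smul_left, R.polar_emb, R.polar_emb, QuadraticMap.polar_comm, ← ha, smul_eq_mul,
          smul_eq_mul]
        simp only [ha, map_sub, R.emb_smul, QuadraticMap.polar_sub_left, QuadraticMap.polar_smul_left,
          smul_eq_mul, Subfield.coe_div] at h2 ⊢
        field_simp at h2 ⊢
        linear_combination h2
      have hQv' := hQv
      rw [hv', quad_add, quad_smul, quad_smul, R.quad_eq_zero hx1, R.quad_eq_zero hx2, QuadraticMap.polar_smul_left,
        QuadraticMap.polar_smul_right, R.polar_emb, ← hd] at hQv'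
      simp [hax1, hd0] at hQv'
      refine hnp ⟨x2, a x1 / d, ?_⟩
      rw [hv', hQv', zero_div, zero_smul, zero_add]
    by_cases h : a x1 * b x3 - a x3 * b x1 = 0
    · refine ⟨x2, x3, hx2, hx3, h23, fun h' => hD12 ?_⟩
      refine (mul_eq_zero.1 (show a x3 * (a x1 * b x2 - a x2 * b x1) = 0 from ?_)).resolve_left hax3
      linear_combination (a x2) * h - (a x1) * h'
    · exact ⟨x1, x3, hx1, hx3, h13, h⟩
  have hx0 : x ≠ 0 := fun h => hD (by simp [h, ha, hb])
  have hx'x : x' ∉ Submodule.span F₀ {x} := fun h => by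
    obtain ⟨t, rfl⟩ := Submodule.mem_span_singleton.1 h
    exact hD (by rw [(hsm t x).1, (hsm t x).2]; ring)
  obtain ⟨m, α, β, hm1, hm2, -⟩ := hrep x hx
  have hm0 : m ≠ 0 := fun h => hD (by rw [hm1, hm2, h]; ring)
  obtain ⟨f1, f2⟩ := hlink x x' hx hx' hxx hD m α β hm1 hm2
  -- a large space orthogonal to both
  obtain ⟨A, hA, hdim, hxA, hxA'⟩ := exists_pair_complement R.form R.nd hx hx' hx0 hxx hx'x
  have hperpA : ∀ {w : U}, w ∈ qPerp R.form A → ∀ z ∈ A, R.pol w z = 0 := fun hw z hz =>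
    (QuadraticMap.polar_comm _ _ z).trans ((mem_qPerp R.form).1 hw z hz)
  -- a translate of a singular vector by a rational one of another type has the same scalar
  have hpush : ∀ u w, R.form u = 0 → R.form (u + w) = 0 → a w / m ∈ F₀ → b w / m ∈ F₀ →
      a u * b w - a w * b u ≠ 0 → a u / m ∈ F₀ ∧ b u / m ∈ F₀ := by
    intro u w hu huw hwa hwb hD'
    obtain ⟨m', γ, δ, e1, e2, -⟩ := hrep u hu
    obtain ⟨m'', γ', δ', e3, e4, hne⟩ := hrep (u + w) huw
    rw [(hadd u w).1, e1] at e3
    rw [(hadd u w).2, e2] at e4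
    rw [e1, e2] at hD'
    obtain ⟨p, hp⟩ : ∃ p : F₀, a w = m * p := ⟨⟨_, hwa⟩, (mul_div_cancel₀ _ hm0).symm⟩
    obtain ⟨q, hq⟩ : ∃ q : F₀, b w = m * q := ⟨⟨_, hwb⟩, (mul_div_cancel₀ _ hm0).symm⟩
    rw [hp] at e3 hD'
    rw [hq] at e4 hD'
    have key : m' * ((γ : F) * δ' - δ * γ') = -(m * ((p : F) * δ' - q * γ')) := by
      linear_combination (δ' : F) * e3 - (γ' : F) * e4
    have hk : (γ : F) * δ' - δ * γ' ≠ 0 := by
      intro h0
      rw [h0, mul_zero, eq_comm, neg_eq_zero, mul_eq_zero] at key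
      have h1 := key.resolve_left hm0
      rcases hne with hγ | hδ
      · refine hγ (Subtype.ext ?_)
        refine (mul_eq_zero.1 (show (γ' : F) * (m' * γ * (m * q) - m * p * (m' * δ)) = 0 from ?_)).resolve_right hD'
        linear_combination m' * m * (p : F) * h0 - m' * m * (γ : F) * h1
      · refine hδ (Subtype.ext ?_)
        refine (mul_eq_zero.1 (show (δ' : F) * (m' * γ * (m * q) - m * p * (m' * δ)) = 0 from ?_)).resolve_right hD'
        linear_combination m' * m * (q : F) * h0 - m' * m * (δ : F) * h1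
    have hμ : m' / m ∈ F₀ := by
      have e : m' / m = -(((p : F) * δ' - q * γ') / ((γ : F) * δ' - δ * γ')) := by
        rw [← neg_div, div_eq_div_iff hm0 hk]
        linear_combination key
      rw [e]
      exact neg_mem (div_mem (sub_mem (mul_mem p.2 δ'.2) (mul_mem q.2 γ'.2))
        (sub_mem (mul_mem γ.2 δ'.2) (mul_mem δ.2 γ'.2)))
    exact ⟨by rw [e1, mul_comm, mul_div_assoc]; exact mul_mem γ.2 hμ,
      by rw [e2, mul_comm, mul_div_assoc]; exact mul_mem δ.2 hμ⟩
  have fx : a x / m ∈ F₀ ∧ b x / m ∈ F₀ :=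
    ⟨by rw [hm1, mul_div_cancel_left₀ _ hm0]; exact α.2, by rw [hm2, mul_div_cancel_left₀ _ hm0]; exact β.2⟩
  have hzero : ∀ u, a u * b x - a x * b u = 0 → a u * b x' - a x' * b u = 0 → a u / m ∈ F₀ ∧ b u / m ∈ F₀ := by
    intro u h1 h2
    have ea : a u = 0 := (mul_eq_zero.1 (show (a x * b x' - a x' * b x) * a u = 0 by
      linear_combination (a x) * h2 - (a x') * h1)).resolve_left hD
    have eb : b u = 0 := (mul_eq_zero.1 (show (a x * b x' - a x' * b x) * b u = 0 by
      linear_combination (b x) * h2 - (b x') * h1)).resolve_left hD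
    rw [ea, eb, zero_div]
    exact ⟨zero_mem F₀, zero_mem F₀⟩
  have hperp2 : ∀ u, R.form u = 0 → R.pol u x = 0 → R.pol u x' = 0 → a u / m ∈ F₀ ∧ b u / m ∈ F₀ := by
    intro u hu h1 h2
    by_cases d1 : a u * b x - a x * b u = 0
    · by_cases d2 : a u * b x' - a x' * b u = 0
      · exact hzero u d1 d2
      · exact hpush u x' hu (by rw [quad_add, hu, hx', show QuadraticMap.polar R.form u x' = 0 from h2, add_zero,
          add_zero]) f1 f2 d2
    · exact hpush u x hu (by rw [quad_add, hu, hx, show QuadraticMap.polar R.form u x = 0 from h1, add_zero,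
        add_zero]) fx.1 fx.2 d1
  have hA3 : 3 ≤ Module.finrank F₀ A := by omega
  have hRA := polarNondeg_comp R.form hA
  obtain ⟨T, hT'⟩ : ∃ T : Submodule F₀ A, T = Submodule.span F₀ {p : A | (R.form.comp A.subtype) p = 0} := ⟨_, rfl⟩
  have hTtop : T = ⊤ := by
    refine eq_top_of_invariant_three (R.form.comp A.subtype) hRA hA3 (fun h => ?_) fun h _ =>
      mem_qStab_of_maps _ fun p hp => ?_
    · obtain ⟨p, hp0, hp⟩ := exists_singular (R.form.comp A.subtype) hRA hA3
      refine hp0 ((Submodule.mem_bot F₀).1 (h ▸ ?_))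
      rw [hT']
      exact Submodule.subset_span hp
    · rw [hT'] at hp ⊢
      induction hp using Submodule.span_induction with
      | mem q hq => exact Submodule.subset_span ((qAut_map h q).trans hq)
      | zero => rw [map_zero]; exact zero_mem _
      | add q q' _ _ hq hq' => rw [map_add]; exact add_mem hq hq'
      | smul c q _ hq => rw [map_smul]; exact Submodule.smul_mem _ c hq
  have hvalA : ∀ p : A, a (p : U) / m ∈ F₀ ∧ b (p : U) / m ∈ F₀ := by
    intro p
    have hmem : p ∈ Submodule.span F₀ {p : A | (R.form.comp A.subtype) p = 0} := hT' ▸ hTtop ▸ Submodule.mem_top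
    induction hmem using Submodule.span_induction with
    | mem q hq =>
      exact hperp2 q hq ((QuadraticMap.polar_comm _ _ _).trans (hperpA hxA q q.2))
        ((QuadraticMap.polar_comm _ _ _).trans (hperpA hxA' q q.2))
    | zero => simp [ha, hb, zero_mem]
    | add p q _ _ hp hq =>
      rw [Submodule.coe_add, (hadd _ _).1, (hadd _ _).2, add_div, add_div]
      exact ⟨add_mem hp.1 hq.1, add_mem hp.2 hq.2⟩
    | smul c p _ hp =>
      rw [Submodule.coe_smul, (hsm _ _).1, (hsm _ _).2, mul_div_assoc, mul_div_assoc]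
      exact ⟨mul_mem c.2 hp.1, mul_mem c.2 hp.2⟩
  have hsing : ∀ u, R.form u = 0 → a u / m ∈ F₀ ∧ b u / m ∈ F₀ := by
    intro u hu
    by_contra hcon
    obtain ⟨s, hs, hsA, hls, hsa, hsb⟩ : ∃ s, R.form s = 0 ∧ s ∈ qPerp R.form A ∧
        a u * b s - a s * b u ≠ 0 ∧ a s / m ∈ F₀ ∧ b s / m ∈ F₀ := by
      by_cases d1 : a u * b x - a x * b u = 0
      · exact ⟨x', hx', hxA', fun d2 => hcon (hzero u d1 d2), f1, f2⟩
      · exact ⟨x, hx, hxA, d1, fx⟩
    by_cases hus : R.pol u s = 0
    · exact hcon (hpush u s hu (by rw [quad_add, hu, hs, show QuadraticMap.polar R.form u s = 0 from hus, add_zero,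
        add_zero]) hsa hsb hls)
    -- otherwise the form on A is additive
    obtain ⟨t, ht⟩ : ∃ t : U → F₀, ∀ c, t c = -(R.form c + R.pol u c) / R.pol u s := ⟨_, fun _ => rfl⟩
    have hlin : ∀ c ∈ A, a u * (b c + t c * b s) - (a c + t c * a s) * b u = 0 := by
      intro c hc
      by_contra hne
      refine hcon (hpush u (c + t c • s) hu ?_ ?_ ?_ ?_)
      · rw [quad_add, hu, quad_add, quad_smul, hs, QuadraticMap.polar_smul_right, QuadraticMap.polar_add_right,
          QuadraticMap.polar_smul_right, show QuadraticMap.polar R.form c s = 0 from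
            (QuadraticMap.polar_comm _ _ _).trans (hperpA hsA c hc), smul_zero, mul_zero, smul_eq_mul, ht,
          div_mul_cancel₀ _ hus]
        simp only [pol]
        ring
      · rw [(hadd _ _).1, (hsm _ _).1, add_div, mul_div_assoc]
        exact add_mem (hvalA ⟨c, hc⟩).1 (mul_mem (t c).2 hsa)
      · rw [(hadd _ _).2, (hsm _ _).2, add_div, mul_div_assoc]
        exact add_mem (hvalA ⟨c, hc⟩).2 (mul_mem (t c).2 hsb)
      · rwa [(hadd _ _).1, (hadd _ _).2, (hsm _ _).1, (hsm _ _).2]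
    obtain ⟨c, hc, hc0⟩ := Submodule.exists_mem_ne_zero_of_ne_bot (p := A) fun h => by
      rw [h, finrank_bot] at hA3
      omega
    refine hc0 (hA c hc fun c' hc' => ?_)
    have e1 := hlin c hc
    have e2 := hlin c' hc'
    have e3 := hlin (c + c') (A.add_mem hc hc')
    rw [(hadd c c').1, (hadd c c').2] at e3
    have e4 : ((t (c + c') : F) - t c - t c') * (a u * b s - a s * b u) = 0 := by
      linear_combination e3 - e1 - e2
    have e5 : t (c + c') = t c + t c' := Subtype.ext (by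
      have := (mul_eq_zero.1 e4).resolve_right hls
      push_cast
      linear_combination this)
    rw [ht, ht, ht, ← add_div, div_left_inj' hus] at e5
    simp only [pol, QuadraticMap.polar_add_right] at e5
    rw [quad_add] at e5
    linear_combination -e5
  have hall : ∀ u, a u / m ∈ F₀ := fun u => by
    induction mem_span_singular R.form R.nd (by omega) u using Submodule.span_induction with
    | mem z hz => exact (hsing z hz).1
    | zero => simp [ha, zero_mem]
    | add p q _ _ hp hq => rw [(hadd _ _).1, add_div]; exact add_mem hp hq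
    | smul c p _ hp => rw [(hsm _ _).1, mul_div_assoc]; exact mul_mem c.2 hp
  let f : U →ₗ[F₀] F₀ :=
    { toFun := fun u => ⟨_, hall u⟩
      map_add' := fun p q => Subtype.ext (by simp [(hadd _ _).1, add_div])
      map_smul' := fun c p => Subtype.ext (by simp [(hsm _ _).1, mul_div_assoc]) }
  obtain ⟨r, hr⟩ : ∃ r, ∀ w, R.pol r w = f w := ⟨(LinearMap.BilinForm.toDual (QuadraticMap.polarBilin R.form)
    (PolarNondeg.nondegenerate R.nd)).symm f, fun w => LinearMap.BilinForm.apply_toDual_symm_apply (B := QuadraticMap.polarBilin R.form)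
      (hB := PolarNondeg.nondegenerate R.nd) f w⟩
  refine hnp ⟨r, m, sub_eq_zero.1 (R.eq_zero_of_polar hQ fun u => ?_)⟩
  rw [QuadraticMap.polar_sub_left, QuadraticMap.polar_smul_left, R.polar_emb, hr, QuadraticMap.polar_comm, ← ha]
  show a u - m * (a u / m) = 0
  rw [mul_div_cancel₀ _ hm0, sub_self]

/-- The element maps the rational vectors into one multiple of the rational structure. -/
theorem lines_of_tight (hM : R.InM M) (hT : R.Tight M) (hQ : PolarNondeg Q) (hn : 7 ≤ Module.finrank F₀ U)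
    (hgen : ∀ K : Subfield F, F₀ < K → K = ⊤) {g : qAut Q} (hg : g ∈ M) :
    ∃ l : F, ∀ u, ∃ r, g.1 (R.emb u) = l • R.emb r := by
  obtain ⟨x₀, hx00, hx₀⟩ := exists_singular R.form R.nd (by omega)
  obtain ⟨r₀, l, hl⟩ := isPoint_of_tight hM hT hQ hn hgen hg hx₀
  refine ⟨l, fun u => ?_⟩
  induction mem_span_singular R.form R.nd (by omega) u using Submodule.span_induction with
  | mem x hx =>
    by_cases hxx : x ∈ Submodule.span F₀ {x₀}
    · obtain ⟨t, rfl⟩ := Submodule.mem_span_singleton.1 hxx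
      exact ⟨t • r₀, by rw [R.emb_smul, R.emb_smul, map_smul, hl, smul_comm]⟩
    have hx0 : x ≠ 0 := fun h => hxx (h ▸ Submodule.zero_mem _)
    obtain ⟨r, t, ht⟩ := isPoint_of_tight hM hT hQ hn hgen hg hx
    obtain ⟨w, hw, hx₀w, hxw⟩ := exists_common R.form R.nd (by omega) hx₀ hx
      (fun s hs => hxx (Submodule.mem_span_singleton.2 ⟨s, hs⟩)) (fun s hs => by
        rcases eq_or_ne s 0 with rfl | hs0
        · exact hx00 (by rw [← hs, zero_smul])
        · exact hxx (Submodule.mem_span_singleton.2 ⟨s⁻¹, by rw [← hs, smul_smul, inv_mul_cancel₀ hs0, one_smul]⟩))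
    obtain ⟨rw', k, hk⟩ := isPoint_of_tight hM hT hQ hn hgen hg hw
    have e0 := qAut_polar g (R.emb x₀) (R.emb w)
    have e1 := qAut_polar g (R.emb x) (R.emb w)
    rw [hl, hk, QuadraticMap.polar_smul_left, QuadraticMap.polar_smul_right, R.polar_emb, R.polar_emb,
      smul_eq_mul, smul_eq_mul] at e0
    rw [ht, hk, QuadraticMap.polar_smul_left, QuadraticMap.polar_smul_right, R.polar_emb, R.polar_emb,
      smul_eq_mul, smul_eq_mul] at e1
    have hne0 : (R.pol x₀ w : F) ≠ 0 := fun h => hx₀w (Subtype.ext h)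
    have hne : l * (k * (R.pol r₀ rw' : F)) ≠ 0 := e0 ▸ hne0
    have hne1 : (R.pol r rw' : F) ≠ 0 := by
      intro h
      rw [h, mul_zero, mul_zero] at e1
      exact (hxw ▸ hx₀w) (Subtype.ext e1.symm)
    have hne2 : (R.pol r₀ rw' : F) ≠ 0 := fun h => hne (by rw [h, mul_zero, mul_zero])
    obtain ⟨μ, hμ⟩ : ∃ μ : F₀, (μ : F) =
        (R.pol x w : F) * R.pol r₀ rw' / (R.pol r rw' * R.pol x₀ w) :=
      ⟨⟨_, div_mem (mul_mem (R.pol x w).2 (R.pol r₀ rw').2) (mul_mem (R.pol r rw').2 (R.pol x₀ w).2)⟩, rfl⟩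
    refine ⟨μ • r, ?_⟩
    rw [ht, R.emb_smul, smul_smul, hμ]
    congr 1
    have hl0 : l ≠ 0 := left_ne_zero_of_mul hne
    have hk0 : k ≠ 0 := left_ne_zero_of_mul (right_ne_zero_of_mul hne)
    rw [← e1, ← e0]
    field_simp
  | zero => exact ⟨0, by rw [map_zero, map_zero, smul_zero]⟩
  | add p q _ _ hp hq =>
    obtain ⟨r, hr⟩ := hp
    obtain ⟨r', hr'⟩ := hq
    exact ⟨r + r', by rw [map_add, map_add, map_add, hr, hr', smul_add]⟩
  | smul c p _ hp =>
    obtain ⟨r, hr⟩ := hp
    exact ⟨c • r, by rw [R.emb_smul, R.emb_smul, map_smul, hr, smul_comm]⟩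

end CfsgLib.Classical22.OrthSubfield.RatForm
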