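/-
The subfield subgroups of orthogonal groups are maximal.
-/
import Cfsg.Agent.Lib.Classical22.OrthSubfieldMain
import Cfsg.Agent.Lib.Classical22.OrthMaxMatrix
import Cfsg.Agent.Lib.Transvec.Subfield

set_option autoImplicit false

namespace CfsgLib.Classical22.OrthSubfield

open Matrix Cfsg CfsgLib.Classical CfsgLib.Transvec
open scoped MatrixGroups

variable {F : Type*} [Field F] {ι : Type} [Fintype ι] [DecidableEq ι]

theorem omegaGL_eq_commutator (Q : (ι → F) → F) :
    Cfsg.Geo.omegaGL Q = ⁅isometryGroup F Q, isometryGroup F Q⁆ := by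
  rw [Cfsg.Geo.omegaGL, show Omega F Q = commutator (isometryGroup F Q) from rfl, commutator_def,
    Subgroup.map_commutator, ← MonoidHom.range_eq_map, Subgroup.range_subtype]

theorem omegaGL_smul (Q : (ι → F) → F) {ζ : F} (hζ : ζ ≠ 0) :
    Cfsg.Geo.omegaGL (fun v => ζ * Q v) = Cfsg.Geo.omegaGL Q := by
  have h : isometryGroup F (fun v => ζ * Q v) = isometryGroup F Q := by
    ext g
    exact ⟨fun h u v => mul_left_cancel₀ hζ (h u v), fun h u v => congrArg (ζ * ·) (h u v)⟩
  rw [omegaGL_eq_commutator, omegaGL_eq_commutator, h]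

/-- A subfield of prime index has no proper over-field other than the whole field. -/
theorem eq_top_of_prime_degree [Fintype F] (F₀ : Subfield F) {r : ℕ} (hr : r.Prime)
    (hcard : Fintype.card F = Nat.card F₀ ^ r) : F₀ ≠ ⊤ ∧ ∀ R : Subfield F, F₀ < R → R = ⊤ := by
  refine ⟨fun h => ?_, fun R hR' => ?_⟩
  · have h1 : Nat.card F₀ = Fintype.card F := by
      rw [← Nat.card_eq_fintype_card]
      exact Nat.card_congr (Equiv.subtypeUnivEquiv fun x => by rw [h]; trivial)
    rw [h1] at hcard
    exact absurd ((Nat.pow_eq_self_iff Fintype.one_lt_card).mp hcard.symm) hr.one_lt.ne'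
  letI : Algebra F₀ R := (Subfield.inclusion hR'.le).toAlgebra
  haveI : IsScalarTower F₀ R F := IsScalarTower.of_algebraMap_eq (fun _ => rfl)
  have hfin : Module.finrank F₀ R * Module.finrank R F = r := by
    rw [Module.finrank_mul_finrank]
    have h1 := Module.natCard_eq_pow_finrank (K := F₀) (V := F)
    rw [Nat.card_eq_fintype_card, hcard] at h1
    exact (Nat.pow_right_injective (Nat.succ_le_of_lt Finite.one_lt_card) h1).symm
  rcases Nat.prime_mul_iff.mp (hfin ▸ hr) with ⟨-, h1⟩ | ⟨-, h1⟩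
  · refine top_unique fun x _ => ?_
    obtain ⟨c, hc⟩ := (finrank_eq_one_iff_of_nonzero' (1 : F) one_ne_zero).mp h1 x
    rw [← hc, Subfield.smul_def, smul_eq_mul, mul_one]
    exact c.2
  · refine absurd (fun x hx => ?_) hR'.not_ge
    obtain ⟨c, hc⟩ := (finrank_eq_one_iff_of_nonzero' (1 : R) one_ne_zero).mp h1 ⟨x, hx⟩
    have hc' : (c : F) * 1 = x := congrArg Subtype.val hc
    rw [← hc', mul_one]
    exact c.2

variable [Fintype F]

/-- The rational structure of a quadratic form attached to a change of basis. -/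
theorem exists_ratForm (q : QuadraticForm F (ι → F)) (hQ : PolarNondeg q) (F₀ : Subfield F) (P : GL ι F)
    (hP : Cfsg.Geo.IsQuadFormRationalStructure ⇑q F₀ P) :
    ∃ R : RatForm q F₀ (ι → F₀), ∀ u, R.emb u = (P : Matrix ι ι F) *ᵥ coeVec F₀ u := by
  let e : (ι → F₀) →+ (ι → F) :=
    { toFun := fun u => (P : Matrix ι ι F) *ᵥ coeVec F₀ u
      map_zero' := by rw [coeVec_zero, mulVec_zero]
      map_add' := fun a b => by rw [coeVec_add, mulVec_add] }
  have hsm : ∀ (c : F₀) u, e (c • u) = (c : F) • e u := fun c u => by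
    show (P : Matrix ι ι F) *ᵥ coeVec F₀ (c • u) = (c : F) • _
    rw [coeVec_smul, mulVec_smul]
    rfl
  have hval : ∀ u, q (e u) ∈ F₀ := fun u => hP _ fun i => (u i).2
  have hpol : ∀ u v, QuadraticMap.polar (fun u => (⟨q (e u), hval u⟩ : F₀)) u v =
      ⟨QuadraticMap.polar q (e u) (e v), by
        simp only [QuadraticMap.polar, ← map_add]
        exact sub_mem (sub_mem (hval _) (hval _)) (hval _)⟩ := fun u v => Subtype.ext (by
    simp [QuadraticMap.polar, map_add])
  let q₀ : QuadraticForm F₀ (ι → F₀) := QuadraticMap.ofPolar (fun u => ⟨q (e u), hval u⟩)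
    (fun c u => Subtype.ext (by
      show q (e (c • u)) = _
      rw [hsm, quad_smul]
      rfl))
    (fun a b c => by
      rw [hpol, hpol, hpol]
      exact Subtype.ext (by simp [map_add]))
    (fun c a b => by
      rw [hpol, hpol]
      exact Subtype.ext (by simp [hsm]))
  have hspan : ∀ v, v ∈ Submodule.span F (Set.range e) := fun v => mem_span_rational (F₀ := F₀) (P := P) v
  have hnd : PolarNondeg q₀ := by
    intro u hu
    have h0 : e u = 0 := by
      refine hQ _ fun y => ?_
      induction hspan y using Submodule.span_induction with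
      | mem a ha =>
        obtain ⟨w, rfl⟩ := ha
        exact congrArg Subtype.val ((hpol u w).symm.trans (hu w))
      | zero => exact QuadraticMap.polar_zero_right q _
      | add a b _ _ ha hb => rw [QuadraticMap.polar_add_right, ha, hb, add_zero]
      | smul t a _ ha => rw [QuadraticMap.polar_smul_right, ha, smul_zero]
    refine coeVec_injective (mulVec_injective P ?_)
    show (P : Matrix ι ι F) *ᵥ coeVec F₀ u = (P : Matrix ι ι F) *ᵥ coeVec F₀ 0
    rw [coeVec_zero, mulVec_zero]
    exact h0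
  exact ⟨⟨e, hsm, q₀, fun u => rfl, hnd, hspan⟩, fun u => rfl⟩

theorem isMaximalIn_subfield (q : QuadraticForm F (ι → F)) (hQ : PolarNondeg q) (hn : 7 ≤ Fintype.card ι)
    (F₀ : Subfield F) {r : ℕ} (hr : r.Prime) (hcard : Fintype.card F = Nat.card F₀ ^ r) (P : GL ι F) {ζ : F}
    (hζ : ζ ≠ 0) (hP : Cfsg.Geo.IsQuadFormRationalStructure (fun v => ζ * q v) F₀ P) :
    Cfsg.Geo.IsMaximalIn (Cfsg.Geo.omegaGL ⇑q) (Cfsg.Geo.subfieldSubgroup F₀ P ⊓ Cfsg.Geo.omegaGL ⇑q) := by
  obtain ⟨q', hq'⟩ : ∃ q' : QuadraticForm F (ι → F), q' = ζ • q := ⟨_, rfl⟩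
  have hq'c : ⇑q' = fun v => ζ * q v := by rw [hq']; rfl
  have hQ' : PolarNondeg q' := fun v hv => hQ v fun w => (mul_eq_zero.1 (show ζ * QuadraticMap.polar q v w = 0 by
    rw [← hv w, hq'c]
    simp only [QuadraticMap.polar]
    ring)).resolve_left hζ
  rw [← omegaGL_smul _ hζ, ← hq'c]
  rw [← hq'c] at hP
  obtain ⟨R, hR⟩ := exists_ratForm q' hQ' F₀ P hP
  obtain ⟨hne, hgen⟩ := eq_top_of_prime_degree F₀ hr hcard
  letI : Fintype F₀ := Fintype.ofFinite _
  have hdim : Module.finrank F₀ (ι → F₀) = Fintype.card ι := Module.finrank_fintype_fun_eq_card _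
  refine isMaximalIn_omegaGL q' hQ' (by omega) rfl ?_ fun M hHM _ hMS => ?_
  · intro hle
    obtain ⟨θ, -, hθ⟩ := SetLike.exists_of_lt (lt_top_iff_ne_top.2 hne)
    obtain ⟨x, z', hx0, hx, -, hz', hxz'⟩ := R.exists_singular_opposite (by omega)
    obtain ⟨z, hz, hz0, hQz⟩ := exists_singular_mem R.form (C := qPerp R.form (Submodule.span F₀ {x, z'}))
      (by have := finrank_le_qPerp_pair R.form R.nd x z'; omega)
    have hzp := (mem_qPerp_pair R.form).1 hz
    have hline : R.IsLine x z := ⟨hx0, hx, hQz, hzp.1, fun h => by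
      obtain ⟨t, rfl⟩ := Submodule.mem_span_singleton.1 h
      have := hzp.2
      simp only [RatForm.pol] at hxz'
      rw [QuadraticMap.polar_smul_right, QuadraticMap.polar_comm R.form z' x, hxz', smul_eq_mul, mul_one] at this
      exact hz0 (by rw [this, zero_smul])⟩
    obtain ⟨p, hp1, hp2⟩ := hline.symm.exists_dual
    have e0 : QuadraticMap.polar q' (R.emb x) (θ • R.emb z) = 0 := by
      rw [QuadraticMap.polar_smul_right, R.polar_eq_zero hzp.1, smul_zero]
    have hmem := hle (eich_mem q' (R.quad_eq_zero hx) e0)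
    obtain ⟨l, r', hlr⟩ := lines_of_mem_subfieldSubgroup hmem p
    rw [← hR, ← hR, qHom_mulVec, eich_apply q' (R.quad_eq_zero hx) e0, QuadraticMap.polar_smul_right,
      QuadraticMap.polar_comm q' (R.emb p) (R.emb x), QuadraticMap.polar_comm q' (R.emb p) (R.emb z), R.polar_emb,
      R.polar_emb, hp1, hp2, ZeroMemClass.coe_zero, OneMemClass.coe_one, zero_smul, mul_zero, add_zero,
      add_zero, smul_eq_mul, mul_one] at hlr
    have hl : l * (R.pol z r' : F) = 1 := by
      have := congrArg (QuadraticMap.polar q' (R.emb z)) hlr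
      rw [QuadraticMap.polar_sub_right, QuadraticMap.polar_smul_right, QuadraticMap.polar_smul_right, R.polar_emb,
        R.polar_emb, R.polar_emb, hp1, show R.pol z x = 0 from hline.symm.orth] at this
      simpa using this.symm
    have hlm : l ∈ F₀ := by
      rw [eq_inv_of_mul_eq_one_left hl]
      exact inv_mem (R.pol z r').2
    refine hθ (R.mem_line hx0 (z := p - (⟨l, hlm⟩ : F₀) • r') ?_).2
    rw [map_sub, R.emb_smul, ← hlr]
    abel
  have hM : R.InM M := by
    intro x w hx hxw
    refine hHM ⟨?_, eich_mem q' (R.quad_eq_zero hx) (R.polar_eq_zero hxw)⟩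
    refine mem_subfieldSubgroup_of_lines _ fun u => ⟨1, (eich R.form x w).1 u, ?_⟩
    rw [← hR, ← hR, qHom_mulVec, one_smul, eich_apply q' (R.quad_eq_zero hx) (R.polar_eq_zero hxw),
      eich_apply R.form hx hxw, map_sub, map_add, R.emb_smul, R.emb_smul, R.polar_emb, R.polar_emb, R.quad]
    rfl
  have hdimV : Module.finrank F (ι → F) = Fintype.card ι := Module.finrank_fintype_fun_eq_card _
  by_contra hnot
  have hT : R.Tight M := by
    by_contra h
    exact hnot (R.eichGroup_le_of_not_tight hM hQ' (by omega) (by omega) hgen h)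
  refine hMS fun g hg => ?_
  obtain ⟨l, hl⟩ := RatForm.lines_of_tight hM hT hQ' (by omega) hgen hg
  refine mem_subfieldSubgroup_of_lines _ fun u => ?_
  obtain ⟨r', hr'⟩ := hl u
  exact ⟨l, r', by rw [← hR, ← hR, qHom_mulVec, hr']⟩

end CfsgLib.Classical22.OrthSubfield
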