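/-
Overgroups in SL(ι, F) of the stabiliser of a decomposition into blocks of size at least two.
-/
import Cfsg.Agent.Lib.Classical22.Monomial
import Cfsg.Agent.Lib.Classical.SLBasic

set_option autoImplicit false

namespace CfsgLib.Classical22.DecompBlocks

open Matrix CfsgLib.Transvec CfsgLib.Classical22.Monomial
open scoped MatrixGroups

variable {ι : Type} [Fintype ι] [DecidableEq ι] {F : Type*} [Field F] {κ : Type} [DecidableEq κ] {blk : ι → κ}

/-- `x` is supported in the block `j`. -/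
def InBlk (blk : ι → κ) (j : κ) (x : ι → F) : Prop := ∀ l, blk l ≠ j → x l = 0

/-- The component of `x` in the block `j`. -/
def comp (blk : ι → κ) (j : κ) (x : ι → F) : ι → F := fun l => if blk l = j then x l else 0

lemma inBlk_comp (j : κ) (x : ι → F) : InBlk blk j (comp blk j x) := fun _ hl => if_neg hl

lemma inBlk_single {a : ι} {j : κ} (h : blk a = j) (c : F) : InBlk blk j (Pi.single a c) := fun l hl =>
  Pi.single_eq_of_ne (M := fun _ => F) (fun e : l = a => hl (e ▸ h)) c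

lemma InBlk.smul {j : κ} {x : ι → F} (h : InBlk blk j x) (c : F) : InBlk blk j (c • x) := fun l hl => by
  simp [h l hl]

lemma InBlk.dot {i j : κ} {φ x : ι → F} (hφ : InBlk blk i φ) (hx : InBlk blk j x) (h : i ≠ j) : φ ⬝ᵥ x = 0 :=
  Finset.sum_eq_zero fun l _ => by
    by_cases e : blk l = i
    · rw [hx l (e ▸ h), mul_zero]
    · rw [hφ l e, zero_mul]

lemma InBlk.dot_comp {j : κ} {φ : ι → F} (hφ : InBlk blk j φ) (x : ι → F) : φ ⬝ᵥ comp blk j x = φ ⬝ᵥ x :=
  Finset.sum_congr rfl fun l _ => by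
    by_cases e : blk l = j
    · simp [comp, e]
    · simp [comp, e, hφ l e]

lemma comp_dot {j : κ} {x : ι → F} (hx : InBlk blk j x) (φ : ι → F) : comp blk j φ ⬝ᵥ x = φ ⬝ᵥ x := by
  rw [dotProduct_comm, hx.dot_comp, dotProduct_comm]

/-- A non-zero vector in a block orthogonal to a given one. -/
lemma exists_perp {j : κ} (hj : ∃ a b, a ≠ b ∧ blk a = j ∧ blk b = j) (w : ι → F) :
    ∃ φ : ι → F, InBlk blk j φ ∧ φ ≠ 0 ∧ φ ⬝ᵥ w = 0 := by
  obtain ⟨a, b, hab, ha, hb⟩ := hj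
  by_cases hw : w a = 0
  · exact ⟨Pi.single a 1, inBlk_single ha _, by simp, by simp [hw]⟩
  refine ⟨w b • Pi.single a 1 - w a • Pi.single b 1, fun l hl => ?_, fun e => hw ?_, ?_⟩
  · simp [inBlk_single ha (1 : F) l hl, inBlk_single hb (1 : F) l hl]
  · simpa [hab.symm] using congrFun e b
  · simp [sub_dotProduct, smul_dotProduct]; ring

lemma exists_block_perm [Fintype κ] (g : GL ι F) (hsurj : Function.Surjective blk)
    (h : ∀ (i : κ) (v : ι → F), InBlk blk i v → ∀ a b, ((g : Matrix ι ι F) *ᵥ v) a ≠ 0 →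
      ((g : Matrix ι ι F) *ᵥ v) b ≠ 0 → blk a = blk b) :
    ∃ σ : Equiv.Perm κ, ∀ i v, InBlk blk i v → InBlk blk (σ i) ((g : Matrix ι ι F) *ᵥ v) := by
  classical
  choose rep hrep using hsurj
  choose top htop using fun i : κ => col_ne_zero g (rep i)
  have hmap : ∀ i v, InBlk blk i v → InBlk blk (blk (top i)) ((g : Matrix ι ι F) *ᵥ v) := by
    intro i v hv l hl
    by_contra hne
    obtain ⟨v', hv', hgv⟩ : ∃ v', v' = (Pi.single (rep i) 1 : ι → F) ∧
        ∀ l, ((g : Matrix ι ι F) *ᵥ v') l = (g : Matrix ι ι F) l (rep i) :=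
      ⟨_, rfl, fun l => by simp [mulVec_single_one]⟩
    have h0 : InBlk blk i v' := hv' ▸ inBlk_single (hrep i) _
    by_cases ht : ((g : Matrix ι ι F) *ᵥ v) (top i) = 0
    · by_cases hl' : ((g : Matrix ι ι F) *ᵥ v') l = 0
      · refine hl (h i (v + v') (fun m hm => by simp [hv m hm, h0 m hm]) l (top i) ?_ ?_)
        · rw [mulVec_add, Pi.add_apply, hl', add_zero]; exact hne
        · rw [mulVec_add, Pi.add_apply, ht, zero_add, hgv]; exact htop i
      · exact hl (h i v' h0 l (top i) hl' (by rw [hgv]; exact htop i))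
    · exact hl (h i v hv l (top i) hne ht)
  have hf : Function.Surjective fun i => blk (top i) := by
    intro j
    obtain ⟨l, hl⟩ := row_ne_zero g (rep j)
    refine ⟨blk l, by_contra fun e => hl ?_⟩
    have := hmap (blk l) (Pi.single l 1) (inBlk_single rfl _) (rep j) (by rw [hrep]; exact Ne.symm e)
    simpa [mulVec_single_one] using this
  exact ⟨Equiv.ofBijective _ ⟨Finite.injective_iff_surjective.mpr hf, hf⟩, hmap⟩

variable {M : Subgroup (GL ι F)}
  (hH : ∀ g : GL ι F, (g : Matrix ι ι F).det = 1 → (∃ σ : Equiv.Perm κ, ∀ i v, InBlk blk i v →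
    InBlk blk (σ i) ((g : Matrix ι ι F) *ᵥ v)) → g ∈ M)
  (hblk : ∀ j, ∃ a b, a ≠ b ∧ blk a = j ∧ blk b = j)
include hH

lemma fullPair_block {j : κ} {v φ : ι → F} (hv : InBlk blk j v) (hφ : InBlk blk j φ) (hd : φ ⬝ᵥ v = 0) :
    FullPair M v φ := by
  intro a
  have hda : (a • φ) ⬝ᵥ v = 0 := by rw [smul_dotProduct, hd, smul_zero]
  refine hH _ ((mem_specialLinear_iff _).mp (transv_mem_specialLinear _ _)) ⟨1, fun i x hx l hl => ?_⟩
  rw [transv_mulVec hda, Equiv.Perm.one_apply] at *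
  rw [Pi.add_apply, hx l hl, zero_add, Pi.smul_apply, smul_eq_mul]
  by_cases e : j = i
  · subst e; rw [hv l hl, mul_zero]
  · rw [(hφ.smul a).dot hx e, zero_mul]

include hblk

/-- From a suitable full pair to a full elementary pair across two blocks. -/
lemma cross {u ψ w χ : ι → F} {j : κ} {c : ι} (hu : ψ ⬝ᵥ u = 0) (hfull : FullPair M u ψ) (hw : InBlk blk j w)
    (hw0 : w ≠ 0) (hχ : InBlk blk j χ) (hχw : χ ⬝ᵥ w = 0) (hψw : ψ ⬝ᵥ w = 0) (hχu : χ ⬝ᵥ u ≠ 0)
    (hc : blk c ≠ j) (hψc : ψ c ≠ 0) :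
    ∃ a b : ι, blk a ≠ blk b ∧ FullPair M (Pi.single a 1) (Pi.single b 1) := by
  have h1 : FullPair M w ψ := fullPair_comm hχw hu hψw hχu (fullPair_block hH hw hχ hχw) hfull
  obtain ⟨b, hbc, hb⟩ : ∃ b, b ≠ c ∧ blk b = blk c := by
    obtain ⟨x, y, hxy, hx, hy⟩ := hblk (blk c)
    by_cases e : x = c
    · exact ⟨y, fun e' => hxy (e.trans e'.symm), hy⟩
    · exact ⟨x, e, hx⟩
  have hwb : w b = 0 := hw b (by rw [hb]; exact hc)
  have hbc' : (Pi.single b 1 : ι → F) ⬝ᵥ Pi.single c 1 = 0 := by simp [hbc]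
  have h2 : FullPair M w (Pi.single b 1) :=
    fullPair_comm hψw hbc' (by simp [hwb]) (by simpa using hψc) h1
      (fullPair_block hH (inBlk_single rfl _) (inBlk_single hb _) hbc')
  obtain ⟨a0, ha0⟩ := Function.ne_iff.mp hw0
  have hj : blk a0 = j := by_contra fun e => ha0 (hw a0 e)
  obtain ⟨a, ha, haj⟩ : ∃ a, a ≠ a0 ∧ blk a = j := by
    obtain ⟨x, y, hxy, hx, hy⟩ := hblk j
    by_cases e : x = a0
    · exact ⟨y, fun e' => hxy (e.trans e'.symm), hy⟩
    · exact ⟨x, e, hx⟩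
  have hab : blk a ≠ blk b := by rw [haj, hb]; exact fun e => hc e.symm
  have hne : a ≠ b := fun e => hab (congrArg blk e)
  refine ⟨a, b, hab, fullPair_comm (φ := Pi.single a0 1) (by simp [ha.symm]) (by simp [hwb]) (by simp [hne.symm])
    (by simpa using ha0) (fullPair_block hH (inBlk_single haj _) (inBlk_single hj _) (by simp [ha.symm])) h2⟩

omit hblk in
lemma fullPair_sub {u φ ψ : ι → F} (h : φ ⬝ᵥ u = 0) (h' : ψ ⬝ᵥ u = 0) (h1 : FullPair M u φ) (h2 : FullPair M u ψ) :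
    FullPair M u (φ - ψ) := fun a => by
  have := M.mul_mem (h1 a) (h2 (-a))
  rwa [transv_mul (by rw [smul_dotProduct, h, smul_zero]) (by rw [smul_dotProduct, h', smul_zero]),
    show a • φ + (-a) • ψ = a • (φ - ψ) by rw [smul_sub, neg_smul, sub_eq_add_neg]] at this

/-- Changing the axis in two blocks by a dilation fixing the centre. -/
lemma purify_step {u η : ι → F} (hη : η ⬝ᵥ u = 0) (hfull : FullPair M u η) {j l : κ} (hlj : l ≠ j)
    (hju : comp blk j η ⬝ᵥ u = 0) {c : ι} (hcj : blk c = j) (hc : η c ≠ 0) {t : F} (ht : t ≠ 0) :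
    ∃ a' : ι → F, InBlk blk l a' ∧ ((∀ x, blk x = l → η x = 0) → a' = 0) ∧
      ((t - 1) • comp blk j η + a') ⬝ᵥ u = 0 ∧ FullPair M u ((t - 1) • comp blk j η + a') := by
  obtain ⟨a, hadef⟩ : ∃ a, a = (η c)⁻¹ • comp blk j η := ⟨_, rfl⟩
  have hac : a ⬝ᵥ Pi.single c 1 = 1 := by simp [hadef, comp, hcj, hc]
  have hau : a ⬝ᵥ u = 0 := by rw [hadef, smul_dotProduct, hju, smul_zero]
  have haj : InBlk blk j a := hadef ▸ (inBlk_comp j η).smul _
  obtain ⟨b0, hb0, hb0ne, hb0u⟩ := exists_perp (hblk l) u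
  obtain ⟨c', hc'⟩ := Function.ne_iff.mp hb0ne
  have hc'l : blk c' = l := by_contra fun e => hc' (hb0 c' e)
  obtain ⟨b, hbdef⟩ : ∃ b, b = (b0 c')⁻¹ • b0 := ⟨_, rfl⟩
  have hbc : b ⬝ᵥ Pi.single c' 1 = 1 := by
    simp only [hbdef, dotProduct_single, Pi.smul_apply, smul_eq_mul, mul_one]
    exact inv_mul_cancel₀ hc'
  have hbu : b ⬝ᵥ u = 0 := by rw [hbdef, smul_dotProduct, hb0u, smul_zero]
  have hbl : InBlk blk l b := hbdef ▸ hb0.smul _
  obtain ⟨R, hR⟩ : ∃ R, R = refl (Pi.single c 1) a t * refl (Pi.single c' 1) b t⁻¹ := ⟨_, rfl⟩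
  have hRM : R ∈ M := by
    refine hH _ ?_ ⟨1, fun i x hx m hm => ?_⟩
    · rw [hR, Units.val_mul, det_mul, det_refl hac ht, det_refl hbc (inv_ne_zero ht), mul_inv_cancel₀ ht]
    rw [hR, mul_mulVec, refl_mulVec hac ht, refl_mulVec hbc (inv_ne_zero ht)]
    rw [Equiv.Perm.one_apply] at hm
    simp only [Pi.add_apply, Pi.smul_apply, smul_eq_mul, hx m hm, zero_add, dotProduct_add, dotProduct_smul]
    rw [haj.dot (inBlk_single hc'l _) (Ne.symm hlj), mul_zero, add_zero]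
    by_cases e1 : j = i
    · subst e1
      rw [hbl.dot hx hlj, mul_zero, zero_mul, zero_add, Pi.single_eq_of_ne (fun e : m = c => hm (e ▸ hcj)), mul_zero]
    · rw [haj.dot hx e1, mul_zero, zero_mul, add_zero]
      by_cases e2 : l = i
      · subst e2
        rw [Pi.single_eq_of_ne (fun e : m = c' => hm (e ▸ hc'l)), mul_zero]
      · rw [hbl.dot hx e2, mul_zero, zero_mul]
  have hRu : (R : Matrix ι ι F) *ᵥ u = u := by
    rw [hR, mul_mulVec, refl_mulVec hbc (inv_ne_zero ht), hbu, mul_zero, zero_smul, add_zero, refl_mulVec hac ht, hau,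
      mul_zero, zero_smul, add_zero]
  have hR'u : ((R⁻¹ : GL ι F) : Matrix ι ι F) *ᵥ u = u := by conv_lhs => rw [← hRu, inv_mulVec_cancel]
  have h1 := fullPair_conj (M.inv_mem hRM) hη hfull
  rw [hR'u, inv_inv] at h1
  have hd1 : (η ᵥ* (R : Matrix ι ι F)) ⬝ᵥ u = 0 := by rw [← dotProduct_mulVec, hRu, hη]
  have h2 := fullPair_sub hH hd1 hη h1 hfull
  obtain ⟨s, hs⟩ : ∃ s, s = (η c' * (t⁻¹ - 1)) • b := ⟨_, rfl⟩
  have e : η ᵥ* (R : Matrix ι ι F) - η = (t - 1) • comp blk j η + s := by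
    rw [hR, Units.val_mul, ← vecMul_vecMul, refl_vecMul hac ht, refl_vecMul hbc (inv_ne_zero ht), hs, hadef,
      smul_smul, add_dotProduct, smul_dotProduct, dotProduct_single, dotProduct_single, dotProduct_single]
    have e1 : η c * 1 * (t - 1) * (η c)⁻¹ = t - 1 := by field_simp
    have e2 : comp blk j η c' = 0 := if_neg (by rw [hc'l]; exact hlj)
    rw [e1, e2, zero_mul, smul_eq_mul, mul_zero, add_zero, mul_one]
    abel
  refine ⟨s, hs ▸ hbl.smul _, fun h0 => by rw [hs, h0 c' hc'l, zero_mul, zero_smul], ?_, e ▸ h2⟩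
  rw [add_dotProduct, smul_dotProduct, hju, smul_zero, zero_add, hs, smul_dotProduct, hbu, smul_zero]

variable [Fintype κ]

/-- A member outside the stabiliser gives an elementary pair across two blocks. -/
lemma exists_cross
    (hm : (∀ j, ∃ a b c, a ≠ b ∧ a ≠ c ∧ b ≠ c ∧ blk a = j ∧ blk b = j ∧ blk c = j) ∨
      ((∃ t : F, t ≠ 0 ∧ t ≠ 1) ∧ 3 ≤ Fintype.card κ))
    {g : GL ι F} (hg : g ∈ M)
    (hgH : ¬ ∃ σ : Equiv.Perm κ, ∀ i v, InBlk blk i v → InBlk blk (σ i) ((g : Matrix ι ι F) *ᵥ v)) :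
    ∃ a b : ι, blk a ≠ blk b ∧ FullPair M (Pi.single a 1) (Pi.single b 1) := by
  classical
  obtain ⟨i, v, hv, p, q, hp, hq, hpq⟩ : ∃ i v, InBlk blk i v ∧ ∃ p q, ((g : Matrix ι ι F) *ᵥ v) p ≠ 0 ∧
      ((g : Matrix ι ι F) *ᵥ v) q ≠ 0 ∧ blk p ≠ blk q := by
    by_contra hcon
    refine hgH (exists_block_perm g (fun j => (hblk j).elim fun a h => h.elim fun _ h' => ⟨a, h'.2.1⟩) ?_)
    intro i v hv a b ha hb
    by_contra hne
    exact hcon ⟨i, v, hv, a, b, ha, hb, hne⟩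
  obtain ⟨φ, hφ, hφ0, hφv⟩ := exists_perp (hblk i) v
  obtain ⟨u, hu⟩ : ∃ u : ι → F, u = (g : Matrix ι ι F) *ᵥ v := ⟨_, rfl⟩
  obtain ⟨ψ, hψ⟩ : ∃ ψ : ι → F, ψ = φ ᵥ* ((g⁻¹ : GL ι F) : Matrix ι ι F) := ⟨_, rfl⟩
  have hfull : FullPair M u ψ := hu ▸ hψ ▸ fullPair_conj hg hφv (fullPair_block hH hv hφ hφv)
  have hd : ψ ⬝ᵥ u = 0 := by rw [hu, hψ, vecMul_inv_dotProduct, hφv]
  have hψ0 : ψ ≠ 0 := fun e => hφ0 (by
    have h1 := congrArg (fun x => x ᵥ* (g : Matrix ι ι F)) (hψ.symm.trans e)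
    simpa [vecMul_vecMul] using h1)
  rw [← hu] at hp hq
  -- a coordinate of the centre outside a given block
  have hout : ∀ k : κ, ∃ a, blk a ≠ k ∧ u a ≠ 0 := fun k => by
    by_cases e : blk p = k
    · exact ⟨q, fun e' => hpq (e.trans e'.symm), hq⟩
    · exact ⟨p, e, hp⟩
  by_cases hbad : ∃ j, comp blk j ψ ⬝ᵥ u ≠ 0
  · obtain ⟨j, hj⟩ := hbad
    obtain ⟨w, hw, hw0, hψw⟩ := exists_perp (hblk j) ψ
    rw [dotProduct_comm] at hψw
    obtain ⟨c, hcj, hc⟩ : ∃ c, blk c ≠ j ∧ ψ c ≠ 0 := by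
      by_contra hcon
      refine hj ?_
      rw [← hd]
      refine congrArg (· ⬝ᵥ u) (funext fun l => ?_)
      by_cases e : blk l = j
      · simp [comp, e]
      · simp only [comp, if_neg e]
        by_contra hl
        exact hcon ⟨l, e, fun h => hl h.symm⟩
    exact cross hH hblk hd hfull hw hw0 (inBlk_comp j ψ) (by rw [comp_dot hw]; exact hψw) hψw hj hcj hc
  simp only [not_exists, not_not] at hbad
  obtain ⟨c, hc⟩ := Function.ne_iff.mp hψ0
  rw [Pi.zero_apply] at hc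
  rcases hm with h3 | ⟨⟨t, ht0, ht1⟩, hκ⟩
  · obtain ⟨a, hac, hua⟩ := hout (blk c)
    obtain ⟨x, y, hxa, hya, hxy, hx, hy⟩ : ∃ x y, x ≠ a ∧ y ≠ a ∧ x ≠ y ∧ blk x = blk a ∧ blk y = blk a := by
      obtain ⟨x, y, z, hxy, hxz, hyz, hx, hy, hz⟩ := h3 (blk a)
      by_cases e1 : x = a
      · exact ⟨y, z, fun e => hxy (e1.trans e.symm), fun e => hxz (e1.trans e.symm), hyz, hy, hz⟩
      by_cases e2 : y = a
      · exact ⟨x, z, e1, fun e => hyz (e2.trans e.symm), hxz, hx, hz⟩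
      exact ⟨x, y, e1, e2, hxy, hx, hy⟩
    obtain ⟨w, hw, hw0, hwa, hψw⟩ : ∃ w : ι → F, InBlk blk (blk a) w ∧ w ≠ 0 ∧ w a = 0 ∧ ψ ⬝ᵥ w = 0 := by
      by_cases e : ψ x = 0
      · exact ⟨Pi.single x 1, inBlk_single hx _, by simp, by simp [hxa.symm], by simp [e]⟩
      · refine ⟨ψ y • Pi.single x 1 - ψ x • Pi.single y 1, fun l hl => by
          simp [inBlk_single hx (1 : F) l hl, inBlk_single hy (1 : F) l hl], fun h => e ?_,
          by simp [hxa.symm, hya.symm], by simp [dotProduct_sub, dotProduct_smul]; ring⟩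
        simpa [hxy.symm] using congrFun h y
    exact cross hH hblk hd hfull hw hw0 (inBlk_single rfl (1 : F)) (by simp [hwa]) hψw (by simpa using hua)
      (Ne.symm hac) hc
  -- purify the axis
  obtain ⟨l, hl⟩ : ∃ l, l ≠ blk c := Fintype.exists_ne_of_one_lt_card (by omega) _
  obtain ⟨r, hr⟩ : ∃ r, r ∉ ({blk c, l} : Finset κ) := by
    by_contra hcon
    simp only [not_exists, not_not] at hcon
    have := Finset.card_le_card (fun i (_ : i ∈ Finset.univ) => hcon i)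
    rw [Finset.card_univ] at this
    have := Finset.card_le_two (a := blk c) (b := l)
    omega
  simp only [Finset.mem_insert, Finset.mem_singleton, not_or] at hr
  obtain ⟨s, hs, -, hs1, hs2⟩ := purify_step hH hblk hd hfull hl (hbad _) rfl hc ht0
  obtain ⟨η, hη⟩ : ∃ η, η = (t - 1) • comp blk (blk c) ψ + s := ⟨_, rfl⟩
  rw [← hη] at hs1 hs2
  have hcomp : comp blk (blk c) η = (t - 1) • comp blk (blk c) ψ := by
    funext m
    by_cases e : blk m = blk c
    · simp [comp, hη, e, hs m (fun h => hl (h ▸ e))]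
    · simp [comp, e]
  have hηc : η c ≠ 0 := by
    have := congrFun hcomp c
    simp only [comp, if_true, Pi.smul_apply, smul_eq_mul] at this
    rw [this]
    exact mul_ne_zero (sub_ne_zero.mpr ht1) hc
  obtain ⟨s', -, hs0, hs1', hs2'⟩ := purify_step hH hblk hs1 hs2 hr.1
    (by rw [hcomp, smul_dotProduct, hbad, smul_zero]) rfl hηc ht0
  rw [hs0 (fun m hm => by simp [hη, comp, hm, hr.1, hs m (fun h => hr.2 (hm.symm.trans h))]), add_zero, hcomp,
    smul_smul] at hs1' hs2'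
  obtain ⟨a, hac, hua⟩ := hout (blk c)
  obtain ⟨b, hba, hb⟩ : ∃ b, b ≠ a ∧ blk b = blk a := by
    obtain ⟨x, y, hxy, hx, hy⟩ := hblk (blk a)
    by_cases e : x = a
    · exact ⟨y, fun e' => hxy (e.trans e'.symm), hy⟩
    · exact ⟨x, e, hx⟩
  exact cross hH hblk (w := Pi.single b 1) (χ := Pi.single a 1) (c := c) hs1' hs2' (inBlk_single hb _) (by simp)
    (inBlk_single rfl _) (by simp [hba.symm]) (by simp [comp, hb, hac]) (by simpa using hua) (Ne.symm hac)
    (by simp [comp, sub_ne_zero.mpr ht1, hc])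

/-- A subgroup of SL properly containing the stabiliser of the blocks is SL. -/
theorem le_of_not_block_perm
    (hperm : ∀ a b a' b', blk a ≠ blk b → blk a' ≠ blk b' →
      ∃ (π : Equiv.Perm ι) (σ : Equiv.Perm κ), π a = a' ∧ π b = b' ∧ ∀ l, blk (π l) = σ (blk l))
    (hm : (∀ j, ∃ a b c, a ≠ b ∧ a ≠ c ∧ b ≠ c ∧ blk a = j ∧ blk b = j ∧ blk c = j) ∨
      ((∃ t : F, t ≠ 0 ∧ t ≠ 1) ∧ 3 ≤ Fintype.card κ))
    {g : GL ι F} (hg : g ∈ M)
    (hgH : ¬ ∃ σ : Equiv.Perm κ, ∀ i v, InBlk blk i v → InBlk blk (σ i) ((g : Matrix ι ι F) *ᵥ v)) :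
    Cfsg.Geo.specialLinear ι F ≤ M := by
  classical
  obtain ⟨a0, b0, hab, hfull⟩ := exists_cross hH hblk hm hg hgH
  have hall : ∀ a b : ι, a ≠ b → ∀ x : F, transv (Pi.single a 1) (Pi.single b x) ∈ M := by
    intro a b hne x
    by_cases hblkab : blk a = blk b
    · have := fullPair_block hH (inBlk_single rfl (1 : F)) (inBlk_single hblkab.symm (1 : F))
        (by simp [hne.symm] : (Pi.single b 1 : ι → F) ⬝ᵥ Pi.single a 1 = 0) x
      rwa [← Pi.single_smul, smul_eq_mul, mul_one] at this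
    · obtain ⟨π, σ, hπa, hπb, hπ⟩ := hperm a0 b0 a b hab hblkab
      obtain ⟨e, -, hdet⟩ := exists_det_one π (1 : ι → Fˣ) a0
      have hmem : mono π e ∈ M := hH _ hdet ⟨σ, fun i v hv l hl => by
        obtain ⟨m, rfl⟩ := π.surjective l
        rw [mono_mulVec, hv m (fun h => hl (by rw [hπ, h])), mul_zero]⟩
      have hne0 : a0 ≠ b0 := fun h => hab (congrArg blk h)
      have h1 := M.mul_mem (M.mul_mem hmem (hfull ((e a0 : F)⁻¹ * x * e b0))) (M.inv_mem hmem)
      rw [← Pi.single_smul, smul_eq_mul, mul_one, mono_conj_transv _ _ hne0, hπa, hπb] at h1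
      simpa [mul_assoc] using h1
  intro x hx
  rw [mem_specialLinear_iff] at hx
  have key := CfsgLib.Classical.SL_le_of_transvections (M.comap Matrix.SpecialLinearGroup.toGL) fun i j hij a => by
    rw [Subgroup.mem_comap, toGL_transvection hij a]
    exact hall i j hij a
  have h1 : (⟨(x : Matrix ι ι F), hx⟩ : Matrix.SpecialLinearGroup ι F) ∈ M.comap Matrix.SpecialLinearGroup.toGL := by
    rw [key]; trivial
  have e : Matrix.SpecialLinearGroup.toGL ⟨(x : Matrix ι ι F), hx⟩ = x := Units.ext rfl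
  exact e ▸ Subgroup.mem_comap.mp h1

end CfsgLib.Classical22.DecompBlocks
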