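/-
Coordinates adapted to a decomposition of F^n into subspaces of equal dimension.
-/
import Cfsg.Agent.Lib.Classical22.DecompBlocks

set_option autoImplicit false

namespace CfsgLib.Classical22.DecompCoords

open Matrix CfsgLib.Transvec CfsgLib.Classical22.Monomial CfsgLib.Classical22.DecompBlocks
open scoped MatrixGroups

variable {ι : Type} [Fintype ι] [DecidableEq ι] {F : Type*} [Field F] {t m : ℕ} {D : Fin t → Submodule F (ι → F)}

/-- Adapted coordinates: an indexing of `ι` by blocks and a change of basis. -/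
lemma exists_coords (hD : Cfsg.Geo.IsMDecomposition m D) :
    ∃ (e : Fin t × Fin m ≃ ι) (P : GL ι F), ∀ (j : Fin t) (x : ι → F),
      (P : Matrix ι ι F) *ᵥ x ∈ D j ↔ InBlk (fun l => (e.symm l).1) j x := by
  classical
  have hi := DirectSum.isInternal_submodule_of_iSupIndep_of_iSup_eq_top hD.indep hD.iSup_eq_top
  let v := fun i => Module.finBasisOfFinrankEq F (D i) (hD.finrank_eq i)
  let B := hi.collectedBasis v
  let e0 : (Σ _i : Fin t, Fin m) ≃ ι := B.indexEquiv (Pi.basisFun F ι)
  let e : Fin t × Fin m ≃ ι := (Equiv.sigmaEquivProd (Fin t) (Fin m)).symm.trans e0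
  let B' := B.reindex e0
  have hdet : IsUnit (Matrix.of fun i l => B' l i).det := by
    rw [← Matrix.isUnit_iff_isUnit_det, ← Matrix.mulVec_injective_iff_isUnit]
    intro x y h
    have key : ∀ x : ι → F, (Matrix.of fun i l => B' l i) *ᵥ x = B'.equivFun.symm x := fun x => by
      rw [Module.Basis.equivFun_symm_apply]
      funext i
      simp [mulVec, dotProduct, mul_comm]
    rw [key, key] at h
    exact B'.equivFun.symm.injective h
  refine ⟨e, Matrix.GeneralLinearGroup.mk'' _ hdet, fun j x => ?_⟩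
  have hP : ((Matrix.GeneralLinearGroup.mk'' _ hdet : GL ι F) : Matrix ι ι F) *ᵥ x = ∑ l, x l • B' l := by
    show (Matrix.of fun i l => B' l i) *ᵥ x = _
    funext i
    simp [mulVec, dotProduct, mul_comm]
  rw [hP]
  constructor
  · intro h l hl
    have h1 : B'.repr (∑ l, x l • B' l) l = x l := by rw [Module.Basis.repr_sum_self]
    rw [← h1, Module.Basis.repr_reindex_apply]
    obtain ⟨⟨i, a⟩, hia⟩ : ∃ s, s = e0.symm l := ⟨_, rfl⟩
    rw [← hia]
    refine hi.collectedBasis_repr_of_mem_ne v (fun e' => hl ?_) h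
    show (e0.symm l).1 = j
    rw [← hia]
    exact e'.symm
  · intro h
    refine Submodule.sum_mem _ fun l _ => ?_
    by_cases hl : (e0.symm l).1 = j
    · refine Submodule.smul_mem _ _ ?_
      rw [Module.Basis.reindex_apply]
      exact hl ▸ hi.collectedBasis_mem v _
    · rw [h l hl, zero_smul]; exact zero_mem _

/-- Membership of the stabiliser in adapted coordinates. -/
lemma mem_stabilizer_iff (hD : Cfsg.Geo.IsMDecomposition m D) {blk : ι → Fin t} {P : GL ι F}
    (hP : ∀ (j : Fin t) (x : ι → F), (P : Matrix ι ι F) *ᵥ x ∈ D j ↔ InBlk blk j x) (g : GL ι F) :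
    g ∈ Cfsg.Geo.decompositionStabilizer D ↔ ∃ σ : Equiv.Perm (Fin t), ∀ i v, InBlk blk i v →
      InBlk blk (σ i) (((P⁻¹ * g * P : GL ι F) : Matrix ι ι F) *ᵥ v) := by
  constructor
  · rintro ⟨σ, hσ⟩
    refine ⟨σ, fun i v hv => ?_⟩
    rw [← hP, mul_mulVec, mul_mulVec, mulVec_inv_cancel]
    have h1 : Matrix.toLin' (g : Matrix ι ι F) ((P : Matrix ι ι F) *ᵥ v) ∈ (D i).map (Matrix.toLin' (g : Matrix ι ι F)) :=
      ⟨_, (hP i v).mpr hv, rfl⟩
    rwa [hσ, Matrix.toLin'_apply] at h1
  · rintro ⟨σ, hσ⟩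
    refine ⟨σ, fun i => Submodule.eq_of_le_of_finrank_eq ?_ ?_⟩
    · rintro _ ⟨y, hy, rfl⟩
      obtain ⟨v, rfl⟩ : ∃ v, y = (P : Matrix ι ι F) *ᵥ v := ⟨_, (mulVec_inv_cancel P y).symm⟩
      have h1 := hσ i v ((hP i v).mp hy)
      rw [← hP, mul_mulVec, mul_mulVec, mulVec_inv_cancel] at h1
      rwa [Matrix.toLin'_apply]
    · rw [hD.finrank_eq, (Submodule.equivMapOfInjective (Matrix.toLin' (g : Matrix ι ι F))
        (by intro a b h; exact mulVec_injective g (by simpa [Matrix.toLin'_apply] using h)) (D i)).symm.finrank_eq,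
        hD.finrank_eq]

end CfsgLib.Classical22.DecompCoords
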