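/-
Irreducibility of the Eichler transformations of a non-degenerate space, in any characteristic.
-/
import Cfsg.Agent.Lib.Classical22.OrthDecompBasic

set_option autoImplicit false

namespace CfsgLib.Classical22.OrthDecomp

open CfsgLib.Classical

variable {F V : Type*} [Field F] [AddCommGroup V] [Module F V] {Q : QuadraticForm F V}

/-- The displacement of an Eichler transformation. -/
noncomputable def eichDisp (Q : QuadraticForm F V) (x y a : V) : V :=
  QuadraticMap.polar Q a x • y - (QuadraticMap.polar Q a y + Q y * QuadraticMap.polar Q a x) • x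

theorem eich_apply_disp {x y : V} (hx : Q x = 0) (hxy : QuadraticMap.polar Q x y = 0) (a : V) :
    (eich Q x y).1 a = a + eichDisp Q x y a := by
  rw [eich_apply Q hx hxy, eichDisp]
  abel

/-- A vector not orthogonal to a singular `x` puts `x` into every invariant subspace. -/
theorem singular_mem_of_disp [FiniteDimensional F V] {A S : Submodule F V} (hA : NdOn Q A)
    (hd : 3 ≤ Module.finrank F A) {a : V}
    (hinv : ∀ x ∈ A, ∀ y ∈ A, Q x = 0 → QuadraticMap.polar Q x y = 0 → eichDisp Q x y a ∈ S) {x : V} (hx : x ∈ A)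
    (hQx : Q x = 0) (hax : QuadraticMap.polar Q a x ≠ 0) : x ∈ S := by
  have hx0 : x ≠ 0 := by rintro rfl; simp at hax
  obtain ⟨z, hz, hQz, hxz⟩ := exists_partner Q hA hx hx0 hQx
  obtain ⟨y, hy, hy0⟩ : ∃ y ∈ orthIn Q (orthIn Q A x) z, y ≠ 0 := (Submodule.ne_bot_iff _).1 fun h0 => by
    have h1 := finrank_orthIn_ge Q A x
    have h3 := finrank_orthIn_ge Q (orthIn Q A x) z
    rw [h0, finrank_bot] at h3
    omega
  obtain ⟨y', hy', hyy⟩ : ∃ y' ∈ orthIn Q (orthIn Q A x) z, QuadraticMap.polar Q y y' ≠ 0 := by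
    by_contra hc
    push Not at hc
    exact hy0 (ndOn_pairPerp Q hA hx hz hQx hQz hxz y hy hc)
  rw [mem_orthIn, mem_orthIn] at hy hy'
  have h1 := hinv x hx y hy.1.1 hQx hy.1.2
  have h1' := hinv x hx y' hy'.1.1 hQx hy'.1.2
  have h3 := hinv x hx (y + y') (A.add_mem hy.1.1 hy'.1.1) hQx
    (by rw [QuadraticMap.polar_add_right, hy.1.2, hy'.1.2, add_zero])
  have h := S.sub_mem (S.sub_mem h3 h1) h1'
  simp only [eichDisp, QuadraticMap.polar_add_right, quad_add] at h
  rw [show ∀ α β β' γ γ' δ : F, α • (y + y') - (β + β' + (γ + γ' + δ) * α) • x - (α • y - (β + γ * α) • x) -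
      (α • y' - (β' + γ' * α) • x) = (-(δ * α)) • x by intros; module] at h
  exact (S.smul_mem_iff (neg_ne_zero.2 (mul_ne_zero hyy hax))).1 h

/-- An invariant subspace meeting a non-degenerate space contains it. -/
theorem le_of_disp_invariant [FiniteDimensional F V] [Fintype F] {A S : Submodule F V} (hA : NdOn Q A)
    (hd : 3 ≤ Module.finrank F A)
    (hinv : ∀ a ∈ A, a ∈ S → ∀ x ∈ A, ∀ y ∈ A, Q x = 0 → QuadraticMap.polar Q x y = 0 → eichDisp Q x y a ∈ S)
    {a : V} (ha : a ∈ A) (ha0 : a ≠ 0)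
    (hinva : ∀ x ∈ A, ∀ y ∈ A, Q x = 0 → QuadraticMap.polar Q x y = 0 → eichDisp Q x y a ∈ S) : A ≤ S := by
  obtain ⟨u₀, hu₀, hu₀0, hQu₀⟩ := exists_singular_mem Q hd
  obtain ⟨x, hx, hQx, hax⟩ : ∃ x ∈ A, Q x = 0 ∧ QuadraticMap.polar Q a x ≠ 0 := by
    by_contra hno
    push Not at hno
    refine ha0 (hA a ha fun y hy => ?_)
    exact LinearMap.mem_ker.1 (le_of_singular_span hA hu₀ hu₀0 hQu₀
      (L := LinearMap.ker (QuadraticMap.polarBilin Q a)) (fun v hv hQv => LinearMap.mem_ker.2 (hno v hv hQv)) hy)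
  have hxS := singular_mem_of_disp hA hd hinva hx hQx hax
  have hx0 : x ≠ 0 := by rintro rfl; simp at hax
  obtain ⟨z, hz, hQz, hxz⟩ := exists_partner Q hA hx hx0 hQx
  have hzS := singular_mem_of_disp hA hd (hinv x hx hxS) hz hQz (hxz ▸ one_ne_zero)
  refine le_of_singular_span hA hu₀ hu₀0 hQu₀ fun w hw hQw => ?_
  by_cases hxw : QuadraticMap.polar Q x w = 0
  · by_cases hzw : QuadraticMap.polar Q z w = 0
    · have hne : QuadraticMap.polar Q x (z + w) ≠ 0 := by
        rw [QuadraticMap.polar_add_right, hxz, hxw, add_zero]; exact one_ne_zero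
      have hQzw : Q (z + w) = 0 := by rw [quad_add, hQz, hQw, hzw]; simp
      have := S.sub_mem (singular_mem_of_disp hA hd (hinv x hx hxS) (A.add_mem hz hw) hQzw hne) hzS
      rwa [add_sub_cancel_left] at this
    · exact singular_mem_of_disp hA hd (hinv z hz hzS) hw hQw hzw
  · exact singular_mem_of_disp hA hd (hinv x hx hxS) hw hQw hxw

end CfsgLib.Classical22.OrthDecomp
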