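/-
Lemmas on one non-degenerate space in odd characteristic, for orthogonal decompositions.
-/
import Cfsg.Agent.Lib.Classical22.OrthDecompBasic

set_option autoImplicit false

namespace CfsgLib.Classical22.OrthDecomp

open CfsgLib.Classical

variable {F V : Type*} [Field F] [AddCommGroup V] [Module F V] {Q : QuadraticForm F V}

theorem exists_aniso_notMem (h2 : (2 : F) ≠ 0) {A S : Submodule F V} (hA : NdOn Q A) (h : ¬ A ≤ S) :
    ∃ e ∈ A, Q e ≠ 0 ∧ e ∉ S := by
  obtain ⟨x, hx, hxS⟩ := SetLike.not_le_iff_exists.1 h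
  by_cases hQx : Q x = 0
  swap
  · exact ⟨x, hx, hQx, hxS⟩
  obtain ⟨z, hz, hQz, hxz⟩ := exists_partner Q hA hx (fun h0 => hxS (h0 ▸ S.zero_mem)) hQx
  by_cases hp : x + z ∈ S
  · refine ⟨x - z, A.sub_mem hx hz, ?_, fun hm => hxS ?_⟩
    · rw [quad_sub, hQx, hQz, hxz]
      simp
    · have hh := S.add_mem hp hm
      rw [show x + z + (x - z) = (2 : F) • x by rw [two_smul]; abel] at hh
      have := S.smul_mem (2 : F)⁻¹ hh
      rwa [smul_smul, inv_mul_cancel₀ h2, one_smul] at this
  · exact ⟨x + z, A.add_mem hx hz, by rw [quad_add, hQx, hQz, hxz]; simp, hp⟩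

theorem exists_aniso_polar (h2 : (2 : F) ≠ 0) {N : Submodule F V} (hN : NdOn Q N) {d : V} (hd : d ∈ N)
    (hd0 : d ≠ 0) : ∃ n ∈ N, Q n ≠ 0 ∧ QuadraticMap.polar Q d n ≠ 0 := by
  by_cases hQd : Q d = 0
  swap
  · exact ⟨d, hd, hQd, by rw [quad_polar_self]; exact mul_ne_zero h2 hQd⟩
  obtain ⟨z, hz, hQz, hdz⟩ := exists_partner Q hN hd hd0 hQd
  exact ⟨d + z, N.add_mem hd hz, by rw [quad_add, hQd, hQz, hdz]; simp,
    by rw [QuadraticMap.polar_add_right, quad_polar_self, hQd, hdz]; simp⟩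

/-- An additive subgroup containing all `c / (1 + ν s²)` is everything. -/
theorem addSubgroup_eq_top [Fintype F] (h2 : (2 : F) ≠ 0) (L : AddSubgroup F) {c ν : F} (hc : c ≠ 0) (hν : ν ≠ 0)
    (h : ∀ s : F, 1 + ν * (s * s) ≠ 0 → c / (1 + ν * (s * s)) ∈ L) : L = ⊤ := by
  classical
  obtain ⟨f, hf⟩ : ∃ f : F → L, ∀ s, (f s : F) = c / (1 + ν * (s * s)) := by
    refine ⟨fun s => ⟨c / (1 + ν * (s * s)), ?_⟩, fun s => rfl⟩
    by_cases hs : 1 + ν * (s * s) = 0
    · rw [hs, div_zero]
      exact L.zero_mem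
    · exact h s hs
  have hcount : Fintype.card F ≤ 2 * Nat.card L := by
    rw [Nat.card_eq_fintype_card, ← Finset.card_univ, ← Finset.card_univ]
    refine Finset.card_le_mul_card_image_of_maps_to (f := f) (fun a _ => Finset.mem_univ _) 2 fun a _ => ?_
    rcases (Finset.univ.filter fun s => f s = a).eq_empty_or_nonempty with he | ⟨s, hs⟩
    · simp [he]
    refine (Finset.card_le_card fun x hx => ?_).trans (Finset.card_le_two (a := s) (b := -s))
    rw [Finset.mem_filter] at hs hx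
    have heq := congrArg Subtype.val (hx.2.trans hs.2.symm)
    rw [hf, hf] at heq
    have h' : (1 + ν * (x * x))⁻¹ = (1 + ν * (s * s))⁻¹ := by
      rw [div_eq_mul_inv, div_eq_mul_inv] at heq
      exact mul_left_cancel₀ hc heq
    have h'' : x * x = s * s := mul_left_cancel₀ hν (add_left_cancel (inv_injective h'))
    simpa using mul_self_eq_mul_self_iff.1 h''
  have hidx := L.card_mul_index
  rw [Nat.card_eq_fintype_card (α := F)] at hidx
  obtain ⟨j, hj⟩ : Odd (Fintype.card F) := by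
    have := FiniteField.odd_card_of_char_ne_two (F := F) fun h' => h2 (by
      have := ringChar.Nat.cast_ringChar (R := F)
      rwa [h'] at this)
    exact Nat.odd_iff.2 this
  refine AddSubgroup.index_eq_one.1 ?_
  have h0 : L.index ≠ 0 := fun h0 => by rw [h0, mul_zero] at hidx; omega
  have hle : L.index ≤ 2 := by
    by_contra hgt
    have : 3 * Nat.card L ≤ Nat.card L * L.index := by
      rw [mul_comm 3]
      exact Nat.mul_le_mul_left _ (by omega)
    omega
  interval_cases hi : L.index <;> omega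

variable [FiniteDimensional F V] [Fintype F]

/-- An additive group invariant under all reflections of `N` that meets `N` contains `N`. -/
theorem le_of_refl_invariant (h2 : (2 : F) ≠ 0) {N : Submodule F V} (hN : NdOn Q N)
    (hd : 2 ≤ Module.finrank F N) (hex : 5 ≤ Fintype.card F ∨ 3 ≤ Module.finrank F N)
    (T : AddSubgroup V) (hTN : ∀ x ∈ T, x ∈ N)
    (hinv : ∀ n ∈ N, ∀ hn : Q n ≠ 0, ∀ x ∈ T, (qRefl Q hn).1 x ∈ T) {d : V} (hdT : d ∈ T) (hd0 : d ≠ 0) :
    ∀ x ∈ N, x ∈ T := by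
  -- the multiples of `n` obtained from a vector
  have step : ∀ x ∈ T, ∀ n ∈ N, Q n ≠ 0 → ((Q n)⁻¹ * QuadraticMap.polar Q x n) • n ∈ T := by
    intro x hx n hn hQn
    have h := T.sub_mem hx (hinv n hn hQn x hx)
    rwa [qRefl_apply, sub_sub_cancel] at h
  have line : ∀ x ∈ T, Q x ≠ 0 → ∀ s : F, s • x ∈ T := by
    intro x hx hQx s
    have hxN := hTN x hx
    obtain ⟨e, he, hQe⟩ := exists_aniso_in Q (ndOn_orthIn Q h2 hN hxN hQx) (by
      intro h0
      have := finrank_orthIn_ge Q N x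
      rw [h0, finrank_bot] at this
      omega)
    rw [mem_orthIn] at he
    suffices htop : T.comap (smulAddHom F V |>.flip x) = ⊤ by
      have : s ∈ T.comap (smulAddHom F V |>.flip x) := htop ▸ AddSubgroup.mem_top s
      exact this
    refine addSubgroup_eq_top h2 _ (c := 4) (ν := Q e / Q x)
      (by rw [show (4 : F) = 2 * 2 by norm_num]; exact mul_ne_zero h2 h2) (div_ne_zero hQe hQx) fun r hr => ?_
    change (4 / (1 + Q e / Q x * (r * r))) • x ∈ T
    have hq : ∀ σ : F, σ * σ = r * r → Q (x + σ • e) = Q x * (1 + Q e / Q x * (r * r)) := fun σ hσ => by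
      rw [quad_add, quad_smul, hσ, QuadraticMap.polar_smul_right, he.2]
      field_simp
      simp
    have hpol : ∀ σ : F, QuadraticMap.polar Q x (x + σ • e) = 2 * Q x := fun σ => by
      rw [QuadraticMap.polar_add_right, quad_polar_self, QuadraticMap.polar_smul_right, he.2]
      simp
    have hne : ∀ σ : F, σ * σ = r * r → Q (x + σ • e) ≠ 0 := fun σ hσ => by
      rw [hq σ hσ]; exact mul_ne_zero hQx hr
    have h1 := step x hx _ (N.add_mem hxN (N.smul_mem r he.1)) (hne r rfl)
    have h1' := step x hx _ (N.add_mem hxN (N.smul_mem (-r) he.1)) (hne (-r) (by ring))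
    have h3 := T.add_mem h1 h1'
    rw [hpol, hpol, hq r rfl, hq (-r) (by ring), ← smul_add,
      show x + r • e + (x + -r • e) = (2 : F) • x by rw [two_smul, neg_smul]; abel, smul_smul] at h3
    convert h3 using 2
    field_simp
    ring
  obtain ⟨n, hn, hQn, hdn⟩ := exists_aniso_polar h2 hN (hTN d hdT) hd0
  have hn' := step d hdT n hn hQn
  obtain ⟨d', hd'T, hQd'⟩ : ∃ d' ∈ T, Q d' ≠ 0 := ⟨_, hn', by
    rw [quad_smul]
    exact mul_ne_zero (mul_ne_zero (mul_ne_zero (inv_ne_zero hQn) hdn) (mul_ne_zero (inv_ne_zero hQn) hdn)) hQn⟩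
  -- the largest subspace inside
  let S : Submodule F V :=
    { carrier := {x | ∀ s : F, s • x ∈ T}
      add_mem' := fun {a b} ha hb s => by rw [smul_add]; exact T.add_mem (ha s) (hb s)
      zero_mem' := fun s => by rw [smul_zero]; exact T.zero_mem
      smul_mem' := fun r a ha s => by rw [smul_smul]; exact ha _ }
  have hline : ∀ x ∈ T, Q x ≠ 0 → x ∈ S := fun x hx hQx => line x hx hQx
  have hST : ∀ x ∈ S, x ∈ T := fun x hx => by simpa using hx 1
  have hclosed : ∀ x ∈ S, ∀ n ∈ N, Q n ≠ 0 → QuadraticMap.polar Q x n ≠ 0 → n ∈ S := by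
    intro x hx n hn hQn hxn
    have h := hline _ (step x (hST x hx) n hn hQn) (by
      rw [quad_smul]
      exact mul_ne_zero (mul_ne_zero (mul_ne_zero (inv_ne_zero hQn) hxn) (mul_ne_zero (inv_ne_zero hQn) hxn)) hQn)
    have := S.smul_mem ((Q n)⁻¹ * QuadraticMap.polar Q x n)⁻¹ h
    rwa [smul_smul, inv_mul_cancel₀ (mul_ne_zero (inv_ne_zero hQn) hxn), one_smul] at this
  suffices h : N ≤ S from fun x hx => hST x (h hx)
  by_contra hNS
  obtain ⟨e, he, hQe, heS⟩ := exists_aniso_notMem h2 hN hNS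
  have hperp : ∀ x ∈ S, QuadraticMap.polar Q x e = 0 := fun x hx => by
    by_contra h
    exact heS (hclosed x hx e he hQe h)
  -- a vector of `S` whose value is not opposite
  obtain ⟨x, hxS, hQx, hsum⟩ : ∃ x ∈ S, Q x ≠ 0 ∧ Q x + Q e ≠ 0 := by
    have hd'S := hline d' hd'T hQd'
    by_cases hopp : Q d' + Q e = 0
    swap
    · exact ⟨d', hd'S, hQd', hopp⟩
    rcases hex with hq | hdim
    · classical
      obtain ⟨s, hs⟩ := Finset.exists_mem_notMem_of_card_lt_card
        (s := ({0, 1, -1} : Finset F)) (t := Finset.univ) (by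
          rw [Finset.card_univ]
          exact lt_of_le_of_lt Finset.card_le_three (by omega))
      simp only [Finset.mem_univ, Finset.mem_insert, Finset.mem_singleton, true_and, not_or] at hs
      refine ⟨s • d', S.smul_mem s hd'S, by rw [quad_smul]; exact mul_ne_zero (mul_ne_zero hs.1 hs.1) hQd',
        fun h0 => ?_⟩
      rw [quad_smul] at h0
      have h1 : (s * s - 1) * Q d' = 0 := by linear_combination h0 - hopp
      rw [mul_eq_zero, sub_eq_zero] at h1
      rcases mul_self_eq_one_iff.1 (h1.resolve_right hQd') with h | h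
      · exact hs.2.1 h
      · exact hs.2.2 h
    · obtain ⟨e₁, he₁, hQe₁⟩ := exists_value_in (ndOn_orthIn Q h2 hN (hTN d' hd'T) hQd')
        (by have := finrank_orthIn_ge Q N d'; omega) hQd'
      rw [mem_orthIn] at he₁
      have hQs : Q (d' + e₁) = 2 * Q d' := by rw [quad_add, hQe₁, he₁.2]; ring
      refine ⟨d' + e₁, hclosed d' hd'S _ (N.add_mem (hTN d' hd'T) he₁.1) (hQs ▸ mul_ne_zero h2 hQd') ?_,
        hQs ▸ mul_ne_zero h2 hQd', fun h0 => hQd' ?_⟩
      · rw [QuadraticMap.polar_add_right, quad_polar_self, he₁.2, add_zero]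
        exact mul_ne_zero h2 hQd'
      · rw [hQs] at h0
        linear_combination h0 - hopp
  have hxe := hperp x hxS
  have hmem := hclosed x hxS (x + e) (N.add_mem (hTN x (hST x hxS)) he) (by
    rw [quad_add, hxe, add_zero]
    exact hsum) (by
    rw [QuadraticMap.polar_add_right, quad_polar_self, hxe, add_zero]
    exact mul_ne_zero h2 hQx)
  have := S.sub_mem hmem hxS
  rw [add_sub_cancel_left] at this
  exact heS this

/-- In a non-degenerate space a second vector of the same value. -/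
theorem exists_same_value (h2 : (2 : F) ≠ 0) {N : Submodule F V} (hN : NdOn Q N)
    (hd : 2 ≤ Module.finrank F N) (hex : 5 ≤ Fintype.card F ∨ 3 ≤ Module.finrank F N) {n : V} (hn : n ∈ N)
    (hQn : Q n ≠ 0) : ∃ n' ∈ N, Q n' = Q n ∧ ∀ s : F, s • n ≠ n' := by
  have hnn : ∀ s : F, QuadraticMap.polar Q n (s • n) = s * (2 * Q n) := fun s => by
    rw [QuadraticMap.polar_smul_right, quad_polar_self, smul_eq_mul]
  rcases hex with hq | hdim
  · obtain ⟨e, he, hQe⟩ := exists_aniso_in Q (ndOn_orthIn Q h2 hN hn hQn) (by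
      intro h0
      have := finrank_orthIn_ge Q N n
      rw [h0, finrank_bot] at this
      omega)
    rw [mem_orthIn] at he
    classical
    obtain ⟨s, hs⟩ := Finset.exists_mem_notMem_of_card_lt_card
      (s := insert (0 : F) (Finset.univ.filter fun s : F => Q n + s * s * Q e = 0)) (t := Finset.univ) (by
        rw [Finset.card_univ]
        refine lt_of_le_of_lt (Finset.card_insert_le _ _) ?_
        have h2' : (Finset.univ.filter fun s : F => Q n + s * s * Q e = 0).card ≤ 2 := by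
          rcases (Finset.univ.filter fun s : F => Q n + s * s * Q e = 0).eq_empty_or_nonempty with h | ⟨r, hr⟩
          · simp [h]
          refine (Finset.card_le_card fun x hx => ?_).trans (Finset.card_le_two (a := r) (b := -r))
          rw [Finset.mem_filter] at hr hx
          have h'' : x * x = r * r := mul_right_cancel₀ hQe (by linear_combination hx.2 - hr.2)
          simpa using mul_self_eq_mul_self_iff.1 h''
        omega)
    simp only [Finset.mem_univ, Finset.mem_insert, Finset.mem_filter, true_and, not_or] at hs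
    have hQm : Q (n + s • e) = Q n + s * s * Q e := by
      rw [quad_add, quad_smul, QuadraticMap.polar_smul_right, he.2, smul_zero, add_zero]
    have hm : Q (n + s • e) ≠ 0 := hQm ▸ hs.2
    refine ⟨(qRefl Q hm).1 n, ?_, qAut_map _ n, fun r hr => ?_⟩
    · rw [qRefl_apply]
      exact N.sub_mem hn (N.smul_mem _ (N.add_mem hn (N.smul_mem s he.1)))
    · have h := congrArg (fun x => QuadraticMap.polar Q e x) hr
      simp only [qRefl_apply, QuadraticMap.polar_sub_right, QuadraticMap.polar_smul_right,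
        QuadraticMap.polar_add_right, (QuadraticMap.polar_comm Q e n).trans he.2, quad_polar_self, smul_eq_mul,
        mul_zero, zero_sub, zero_add, add_zero, he.2] at h
      rw [eq_comm, neg_eq_zero] at h
      simp [hm, h2, hQn, hs.1, hQe] at h
  · obtain ⟨e₁, he₁, hQe₁⟩ := exists_value_in (ndOn_orthIn Q h2 hN hn hQn)
      (by have := finrank_orthIn_ge Q N n; omega) hQn
    rw [mem_orthIn] at he₁
    refine ⟨e₁, he₁.1, hQe₁, fun s hs => ?_⟩
    have h := he₁.2
    rw [← hs, hnn, mul_eq_zero] at h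
    rcases h with rfl | h
    · rw [← hs, zero_smul, map_zero] at hQe₁
      exact hQn hQe₁.symm
    · exact mul_ne_zero h2 hQn h

/-- A product of two reflections of a non-degenerate space moving a given vector. -/
theorem exists_rotation (hQ : PolarNondeg Q) (hn5 : 5 ≤ Module.finrank F V) (h2 : (2 : F) ≠ 0)
    {N : Submodule F V} (hN : NdOn Q N) (hd : 2 ≤ Module.finrank F N)
    (hex : 5 ≤ Fintype.card F ∨ 3 ≤ Module.finrank F N) {y : V} (hy : y ∈ N) (hy0 : y ≠ 0) :
    ∃ n ∈ N, ∃ n' ∈ N, ∃ (hn : Q n ≠ 0) (hn' : Q n' ≠ 0),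
      qRefl Q hn * qRefl Q hn' ∈ eichGroup Q ∧ (qRefl Q hn * qRefl Q hn').1 y ≠ y := by
  obtain ⟨n, hn, hQn, hyn⟩ := exists_aniso_polar h2 hN hy hy0
  obtain ⟨n', hn', hQn', hind⟩ := exists_same_value h2 hN hd hex hn hQn
  have hn'0 : Q n' ≠ 0 := hQn' ▸ hQn
  refine ⟨n, hn, n', hn', hQn, hn'0, qRefl_mul_mem hQ hn5 hn'0 hQn hQn', fun h => ?_⟩
  have h' := congrArg (qRefl Q hQn).1 h
  rw [qAut_mul_apply, ← qAut_mul_apply Q (qRefl Q hQn) (qRefl Q hQn), qRefl_mul_self] at h'
  change (qRefl Q hn'0).1 y = _ at h'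
  rw [qRefl_apply, qRefl_apply] at h'
  change y - _ • n' = y - _ • n at h'
  rw [sub_right_inj] at h'
  by_cases hc : (Q n')⁻¹ * QuadraticMap.polar Q y n' = 0
  · rw [hc, zero_smul, eq_comm, smul_eq_zero] at h'
    rcases h' with h' | h'
    · exact mul_ne_zero (inv_ne_zero hQn) hyn h'
    · rw [h', map_zero] at hQn
      exact hQn rfl
  · refine hind (((Q n')⁻¹ * QuadraticMap.polar Q y n')⁻¹ * ((Q n)⁻¹ * QuadraticMap.polar Q y n)) ?_
    rw [← smul_smul, ← h', smul_smul, inv_mul_cancel₀ hc, one_smul]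

/-- A non-singular vector with isotropic orthogonal, orthogonal to a given vector. -/
theorem exists_good (h2 : (2 : F) ≠ 0) {A : Submodule F V} (hA : NdOn Q A) (hd : 3 ≤ Module.finrank F A)
    {a : V} (ha : a ∈ A) :
    ∃ m ∈ A, Q m ≠ 0 ∧ QuadraticMap.polar Q a m = 0 ∧
      ∃ u ∈ A, u ≠ 0 ∧ Q u = 0 ∧ QuadraticMap.polar Q m u = 0 := by
  have base : ∀ u ∈ A, u ≠ 0 → Q u = 0 → ∃ m ∈ A, Q m ≠ 0 ∧ QuadraticMap.polar Q u m = 0 := by
    intro u hu hu0 hQu
    obtain ⟨z, hz, hQz, huz⟩ := exists_partner Q hA hu hu0 hQu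
    obtain ⟨n, hn, hQn⟩ := exists_aniso_in Q (ndOn_pairPerp Q hA hu hz hQu hQz huz) (by
      intro h0
      have h1 := finrank_orthIn_ge Q A u
      have h3 := finrank_orthIn_ge Q (orthIn Q A u) z
      rw [show orthIn Q (orthIn Q A u) z = (⊥ : Submodule F V) from h0, finrank_bot] at h3
      omega)
    exact ⟨n, hn.1.1, hQn, LinearMap.mem_ker.1 hn.1.2⟩
  obtain ⟨u, hu, hu0, hQu⟩ := exists_singular_mem Q hd
  obtain ⟨n, hn, hQn, hun⟩ := base u hu hu0 hQu
  rcases eq_or_ne a 0 with rfl | ha0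
  · exact ⟨n, hn, hQn, by simp, u, hu, hu0, hQu, (QuadraticMap.polar_comm Q n u).trans hun⟩
  by_cases hQa : Q a = 0
  · obtain ⟨m, hm, hQm, ham⟩ := base a ha ha0 hQa
    exact ⟨m, hm, hQm, ham, a, ha, ha0, hQa, (QuadraticMap.polar_comm Q m a).trans ham⟩
  obtain ⟨m, hm, hQm⟩ := exists_value_in (ndOn_orthIn Q h2 hA ha hQa)
    (by have := finrank_orthIn_ge Q A a; omega) hQn
  rw [mem_orthIn] at hm
  refine ⟨m, hm.1, hQm ▸ hQn, hm.2, ?_⟩
  obtain ⟨m', hm', hQm', hcase⟩ : ∃ m' : V, m' ∈ A ∧ Q m' = Q n ∧ (m' = m ∨ m' = -m) ∧ Q (n - m') ≠ 0 := by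
    by_cases hnm : Q (n - m) = 0
    · refine ⟨-m, A.neg_mem hm.1, by rw [QuadraticMap.map_neg, hQm], Or.inr rfl, fun h => hQn ?_⟩
      rw [sub_neg_eq_add, quad_add] at h
      rw [quad_sub] at hnm
      rw [hQm] at h hnm
      have h4 : (2 * 2 : F) * Q n = 0 := by linear_combination h + hnm
      exact (mul_eq_zero.1 h4).resolve_left (mul_ne_zero h2 h2)
    · exact ⟨m, hm.1, hQm, Or.inl rfl, hnm⟩
  refine ⟨(qRefl Q hcase.2).1 u, ?_, fun h => hu0 ?_, by rw [qAut_map, hQu], ?_⟩
  · rw [qRefl_apply]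
    exact A.sub_mem hu (A.smul_mem _ (A.sub_mem hn hm'))
  · exact (qRefl Q hcase.2).1.injective (h.trans (map_zero _).symm)
  · have h := qAut_polar (qRefl Q hcase.2) n u
    rw [qRefl_exchange Q hQm'.symm hcase.2, QuadraticMap.polar_comm Q n u, hun] at h
    rcases hcase.1 with rfl | rfl
    · exact h
    · rwa [QuadraticMap.polar_neg_left, neg_eq_zero] at h

end CfsgLib.Classical22.OrthDecomp
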