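/-
Mixed Eichler transformations from one short one, for orthogonal decompositions in odd characteristic.
-/
import Cfsg.Agent.Lib.Classical22.OrthDecompLemmas

set_option autoImplicit false

namespace CfsgLib.Classical22.OrthDecomp

open CfsgLib.Classical

variable {F V : Type*} [Field F] [AddCommGroup V] [Module F V] {Q : QuadraticForm F V}

theorem eich_antisymm {x y : V} (hx : Q x = 0) (hy : Q y = 0) (h : QuadraticMap.polar Q x y = 0) :
    eich Q x y = eich Q y (-x) := by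
  have h' : QuadraticMap.polar Q y (-x) = 0 := by
    rw [QuadraticMap.polar_neg_right, QuadraticMap.polar_comm, h, neg_zero]
  refine qAut_ext fun z => ?_
  rw [eich_apply Q hx h, eich_apply Q hy h', QuadraticMap.map_neg, hx, hy, QuadraticMap.polar_neg_right]
  simp only [zero_mul, add_zero, smul_neg, neg_smul]
  abel

/-- An Eichler transformation joining a singular point of a member to its orthogonal. -/
def Mixed (Q : QuadraticForm F V) {t : ℕ} (D : Fin t → Submodule F V) (M : Subgroup (qAut Q)) : Prop :=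
  ∃ l : Fin t, ∃ u b : V, u ∈ D l ∧ u ≠ 0 ∧ Q u = 0 ∧ b ∈ qPerp Q (D l) ∧ b ≠ 0 ∧ eich Q u b ∈ M

variable {t : ℕ} {D : Fin t → Submodule F V} {k : ℕ} [FiniteDimensional F V]

theorem mixed_of_eich (hD : Data Q D k) (hQ : PolarNondeg Q) {M : Subgroup (qAut Q)}
    (hHM : dStab Q D ⊓ eichGroup Q ≤ M) {l : Fin t} {u y : V} (hu : u ∈ D l) (hu0 : u ≠ 0) (hQu : Q u = 0)
    (huy : QuadraticMap.polar Q u y = 0) (hmem : eich Q u y ∈ M) (hy : y ∉ D l) : Mixed Q D M := by
  obtain ⟨a, ha, b, hb, rfl⟩ := exists_add_qPerp Q hQ (hD.nd l) y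
  have hub : QuadraticMap.polar Q u b = 0 := hD.polar_eq_zero hu hb
  have hua : QuadraticMap.polar Q u a = 0 := by rwa [QuadraticMap.polar_add_right, hub, add_zero] at huy
  refine ⟨l, u, b, hu, hu0, hQu, hb, fun h => hy (by rwa [h, add_zero]), ?_⟩
  rw [← eich_mul Q hQu hua hub] at hmem
  exact (Subgroup.mul_mem_cancel_left M (hHM (hD.eich_mem_dStab hQ hu ha hQu hua))).1 hmem

theorem mixed_of_long (hD : Data Q D k) (hQ : PolarNondeg Q) {M : Subgroup (qAut Q)}
    (hHM : dStab Q D ⊓ eichGroup Q ≤ M) {l : Fin t} {d X : V} (hd : d ∈ D l) (hd0 : d ≠ 0) (hQd : Q d = 0)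
    (hQX : Q X = 0) (hXd : QuadraticMap.polar Q X d = 0) (hmem : eich Q X d ∈ M) (hX : X ∉ D l) :
    Mixed Q D M := by
  rw [eich_antisymm hQX hQd hXd] at hmem
  refine mixed_of_eich hD hQ hHM hd hd0 hQd ?_ hmem fun h => hX (by simpa using (D l).neg_mem h)
  rw [QuadraticMap.polar_neg_right, QuadraticMap.polar_comm, hXd, neg_zero]

/-- The other component of a vector outside a member. -/
theorem exists_singular_of_singular_part {a b : V} (hb : QuadraticMap.polar Q a b = 0) (h : Q (a + b) = 0)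
    (ha : Q a = 0) : Q b = 0 := by
  rwa [quad_add, hb, ha, zero_add, add_zero] at h

variable [Fintype F]

theorem exists_scale (hD : Data Q D k) (hQ : PolarNondeg Q) (hn : 5 ≤ Module.finrank F V) (h2 : (2 : F) ≠ 0)
    (hqk : 5 ≤ Fintype.card F ∨ 4 ≤ k) {j : Fin t} {u : V} (hu : u ∈ D j) (hu0 : u ≠ 0) (hQu : Q u = 0) :
    ∃ (c : F) (h : qAut Q), c ≠ 1 ∧ h ∈ dStab Q D ⊓ eichGroup Q ∧ h.1 u = c • u ∧
      ∀ b ∈ qPerp Q (D j), h.1 b = b := by
  rcases hqk with hq | hk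
  swap
  · obtain ⟨h, ⟨-, hh⟩, hhu, hhb⟩ := exists_move_in Q (hD.nd j) (by rw [hD.dim]; exact hk) hu
      ((D j).smul_mem (-1 : F) hu) hQu (by rw [quad_smul, hQu, mul_zero]) hu0
      (smul_ne_zero (neg_ne_zero.2 one_ne_zero) hu0)
    exact ⟨-1, h, fun h1 => h2 (by linear_combination -h1), ⟨hD.mem_dStab_of_supp hQ (hD.nd j) le_rfl hhb, hh⟩,
      hhu, hhb⟩
  classical
  obtain ⟨s, hs⟩ := Finset.exists_mem_notMem_of_card_lt_card
    (s := ({0, 1, -1} : Finset F)) (t := Finset.univ) (by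
      rw [Finset.card_univ]
      exact lt_of_le_of_lt Finset.card_le_three (by omega))
  simp only [Finset.mem_univ, Finset.mem_insert, Finset.mem_singleton, true_and, not_or] at hs
  obtain ⟨z, hz, hQz, huz⟩ := exists_partner Q (hD.nd j) hu hu0 hQu
  have hzu : QuadraticMap.polar Q z u = 1 := by rw [QuadraticMap.polar_comm, huz]
  obtain ⟨a, ha⟩ : ∃ a, a = s • u + s⁻¹ • z := ⟨_, rfl⟩
  have hQa : Q a = 1 := by
    rw [ha, quad_add, quad_smul, quad_smul, hQu, hQz, QuadraticMap.polar_smul_left,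
      QuadraticMap.polar_smul_right, huz, smul_eq_mul, smul_eq_mul, mul_one, mul_inv_cancel₀ hs.1]
    ring
  have hQb : Q (u + z) = 1 := by rw [quad_add, hQu, hQz, huz]; ring
  have hQa0 : Q a ≠ 0 := hQa ▸ one_ne_zero
  have hQb0 : Q (u + z) ≠ 0 := hQb ▸ one_ne_zero
  have haj : a ∈ D j := ha ▸ (D j).add_mem ((D j).smul_mem _ hu) ((D j).smul_mem _ hz)
  have hbj : u + z ∈ D j := (D j).add_mem hu hz
  refine ⟨s * s, qRefl Q hQa0 * qRefl Q hQb0, ?_, ⟨mul_mem (hD.qRefl_mem_dStab hQ haj hQa0)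
    (hD.qRefl_mem_dStab hQ hbj hQb0), qRefl_mul_mem hQ hn hQb0 hQa0 (hQb.trans hQa.symm)⟩, ?_, fun b hb => ?_⟩
  · intro h1
    rcases mul_self_eq_one_iff.1 h1 with h | h
    · exact hs.2.1 h
    · exact hs.2.2 h
  · rw [qAut_mul_apply, qRefl_apply Q hQb0, hQb, QuadraticMap.polar_add_right, quad_polar_self, hQu, huz,
      inv_one, one_mul, mul_zero, zero_add, one_smul, show u - (u + z) = -z by abel, map_neg, qRefl_apply, hQa,
      ha, QuadraticMap.polar_add_right, QuadraticMap.polar_smul_right, QuadraticMap.polar_smul_right,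
      quad_polar_self, hQz, hzu, inv_one, one_mul, mul_zero, smul_zero, add_zero, smul_eq_mul, mul_one,
      smul_add, smul_smul, smul_smul, mul_inv_cancel₀ hs.1, one_smul]
    abel
  · rw [qAut_mul_apply, qRefl_fix Q hQb0 ((QuadraticMap.polar_comm Q b _).trans (hD.polar_eq_zero hbj hb)),
      qRefl_fix Q hQa0 ((QuadraticMap.polar_comm Q b a).trans (hD.polar_eq_zero haj hb))]

/-- A member part orthogonal to a vector whose part there is zero or non-singular. -/
theorem exists_perp_part (hD : Data Q D k) (hQ : PolarNondeg Q) (h2 : (2 : F) ≠ 0) (hk : 3 ≤ k) (c : Fin t)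
    (X : V) (hX : ∀ a ∈ D c, ∀ b ∈ qPerp Q (D c), a + b = X → a = 0 ∨ Q a ≠ 0) :
    ∃ A : Submodule F V, A ≤ D c ∧ NdOn Q A ∧ 2 ≤ Module.finrank F A ∧ X ∈ qPerp Q A := by
  obtain ⟨a, ha, b, hb, rfl⟩ := exists_add_qPerp Q hQ (hD.nd c) X
  rcases hX a ha b hb rfl with rfl | hQa
  · exact ⟨D c, le_rfl, hD.nd c, by rw [hD.dim]; omega, by rwa [zero_add]⟩
  · refine ⟨orthIn Q (D c) a, fun x hx => ((mem_orthIn Q).1 hx).1, ndOn_orthIn Q h2 (hD.nd c) ha hQa, ?_, ?_⟩
    · have := finrank_orthIn_ge Q (D c) a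
      rw [hD.dim] at this
      omega
    · refine (mem_qPerp Q).2 fun x hx => ?_
      rw [mem_orthIn] at hx
      rw [QuadraticMap.polar_add_right, hD.polar_eq_zero hx.1 hb, QuadraticMap.polar_comm, hx.2, add_zero]

/-- One short transformation with its vector in a member gives a mixed one. -/
theorem mixed_of_short (hD : Data Q D k) (hQ : PolarNondeg Q) (hn : 5 ≤ Module.finrank F V) (h2 : (2 : F) ≠ 0)
    (hk : 3 ≤ k) (hqk : 5 ≤ Fintype.card F ∨ 4 ≤ k) (ht : 2 ≤ t) {M : Subgroup (qAut Q)}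
    (hHM : dStab Q D ⊓ eichGroup Q ≤ M) {l : Fin t} {X d : V} (hQX : Q X = 0) (hX : X ∉ D l) (hd : d ∈ D l)
    (hd0 : d ≠ 0) (hXd : QuadraticMap.polar Q X d = 0) (hmem : eich Q X d ∈ M) : Mixed Q D M := by
  by_cases hQd : Q d = 0
  · exact mixed_of_long hD hQ hHM hd hd0 hQd hQX hXd hmem hX
  have hdX : QuadraticMap.polar Q d X = 0 := (QuadraticMap.polar_comm Q d X).trans hXd
  have h2Qd : (2 : F) * Q d ≠ 0 := mul_ne_zero h2 hQd
  have himg : (eich Q X d).1 d = d + (-(2 * Q d)) • X := by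
    rw [eich_apply Q hQX hXd, hdX, quad_polar_self]
    simp [sub_eq_add_neg, neg_smul]
  have hnotl : d + (-(2 * Q d)) • X ∉ D l := fun h => by
    have := (D l).sub_mem h hd
    rw [add_sub_cancel_left] at this
    exact hX (((D l).smul_mem_iff (neg_ne_zero.2 h2Qd)).1 this)
  -- no member part is singular
  by_cases hsing : ∃ j : Fin t, ∃ u ∈ D j, ∃ b ∈ qPerp Q (D j), u + b = X ∧ u ≠ 0 ∧ Q u = 0
  · obtain ⟨j, u, hu, b, hb, rfl, hu0, hQu⟩ := hsing
    rcases eq_or_ne j l with rfl | hjl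
    · have hdu : QuadraticMap.polar Q d u = 0 := by
        rwa [QuadraticMap.polar_add_right, hD.polar_eq_zero hd hb, add_zero] at hdX
      have hud : QuadraticMap.polar Q u d = 0 := (QuadraticMap.polar_comm Q u d).trans hdu
      have hfix : (eich Q (u + b) d).1 u = u := by
        rw [eich_apply Q hQX hXd, QuadraticMap.polar_add_right, quad_polar_self, hQu,
          hD.polar_eq_zero hu hb, hud]
        simp
      have hconj := eich_conj Q (eich Q (u + b) d) hQu hud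
      rw [hfix, himg] at hconj
      refine mixed_of_eich hD hQ hHM hu hu0 hQu ?_ (hconj ▸ mul_mem (mul_mem hmem
        (hHM (hD.eich_mem_dStab hQ hu hd hQu hud))) (inv_mem hmem)) hnotl
      have e : QuadraticMap.polar Q ((eich Q (u + b) d).1 u) ((eich Q (u + b) d).1 d) = 0 := by
        rw [qAut_polar, hud]
      rwa [hfix, himg] at e
    · rcases eq_or_ne b 0 with rfl | hb0'
      · rw [add_zero] at hXd hmem
        refine mixed_of_eich hD hQ hHM hu hu0 hQu hXd hmem fun hdj => hd0 ?_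
        exact hD.nd j d hdj fun y hy => (QuadraticMap.polar_comm Q d y).trans (hD.orth j l hjl y hy d hd)
      obtain ⟨c, h, hc, hh, hhu, hhb⟩ := exists_scale hD hQ hn h2 hqk hu hu0 hQu
      have hhd : h.1 d = d := hhb d (hD.perp_le hjl hd)
      obtain ⟨X', hX'⟩ : ∃ X', X' = h.1 (u + b) := ⟨_, rfl⟩
      have hX'e : X' = (u + b) + (c - 1) • u := by
        rw [hX', map_add, hhu, hhb b hb, sub_smul, one_smul]
        abel
      have hQX' : Q X' = 0 := by rw [hX', qAut_map, hQX]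
      have hX'd : QuadraticMap.polar Q X' d = 0 := by rw [hX', ← hhd, qAut_polar, hXd]
      have hXu : QuadraticMap.polar Q (u + b) u = 0 := by
        rw [QuadraticMap.polar_add_left, quad_polar_self, hQu, QuadraticMap.polar_comm Q b u,
          hD.polar_eq_zero hu hb]
        simp
      have hXX' : QuadraticMap.polar Q (u + b) X' = 0 := by
        rw [hX'e, QuadraticMap.polar_add_right, quad_polar_self, hQX, QuadraticMap.polar_smul_right, hXu]
        simp
      have hfix : (eich Q (u + b) d).1 X' = X' := by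
        rw [eich_apply Q hQX hXd, QuadraticMap.polar_comm Q X' (u + b), hXX', hX'd]
        simp
      have hM' : eich Q X' d ∈ M := by
        have h1 := mul_mem (mul_mem (hHM hh) hmem) (inv_mem (hHM hh))
        rwa [eich_conj Q h hQX hXd, hhd, ← hX'] at h1
      have h1 := mul_mem (mul_mem hmem hM') (inv_mem hmem)
      rw [eich_conj Q _ hQX' hX'd, hfix, himg] at h1
      have hX'X : QuadraticMap.polar Q X' ((-(2 * Q d)) • (u + b)) = 0 := by
        rw [QuadraticMap.polar_smul_right, QuadraticMap.polar_comm, hXX', smul_zero]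
      rw [← eich_mul Q hQX' hX'd hX'X, Subgroup.mul_mem_cancel_left M hM'] at h1
      obtain ⟨W, hW⟩ : ∃ W, W = (-(2 * Q d)) • (u + b) := ⟨_, rfl⟩
      have hQW : Q W = 0 := by rw [hW, quad_smul, hQX, mul_zero]
      have hWu : QuadraticMap.polar Q W ((c - 1) • u) = 0 := by
        rw [hW, QuadraticMap.polar_smul_left, QuadraticMap.polar_smul_right, hXu, smul_zero, smul_zero]
      have hWu' : QuadraticMap.polar Q W (-((c - 1) • u)) = 0 := by
        rw [QuadraticMap.polar_neg_right, hWu, neg_zero]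
      rw [← hW, eich_antisymm hQX' hQW (hW ▸ hX'X)] at h1
      have hX'' : -X' = -((c - 1) • u) + (2 * Q d)⁻¹ • W := by
        rw [hW, hX'e, smul_smul, mul_neg, inv_mul_cancel₀ h2Qd, neg_one_smul]
        abel
      rw [hX'', eich_add_self Q hQW hWu'] at h1
      refine mixed_of_long hD hQ hHM ((D j).neg_mem ((D j).smul_mem _ hu)) ?_ ?_ hQW hWu' h1 fun h => ?_
      · exact neg_ne_zero.2 (smul_ne_zero (sub_ne_zero.2 hc) hu0)
      · rw [QuadraticMap.map_neg, quad_smul, hQu, mul_zero]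
      · rw [hW, (D j).smul_mem_iff (neg_ne_zero.2 h2Qd)] at h
        have hb' := (D j).sub_mem h hu
        rw [add_sub_cancel_left] at hb'
        have hb0 : b = 0 := hD.nd j b hb' fun y hy => (QuadraticMap.polar_comm Q b y).trans (hD.polar_eq_zero hy hb)
        exact hb0' hb0
  push Not at hsing
  have hpart : ∀ c : Fin t, ∀ a ∈ D c, ∀ b ∈ qPerp Q (D c), a + b = X → a = 0 ∨ Q a ≠ 0 := fun c a ha b hb hab =>
    (em (a = 0)).imp id fun h => hsing c a ha b hb hab h
  obtain ⟨c, hcl⟩ : ∃ c : Fin t, c ≠ l := by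
    obtain ⟨a, b, hab⟩ : ∃ a b : Fin t, a ≠ b := ⟨⟨0, by omega⟩, ⟨1, by omega⟩, by simp⟩
    rcases eq_or_ne a l with rfl | h
    · exact ⟨b, hab.symm⟩
    · exact ⟨a, h⟩
  obtain ⟨A, hAc, hA, hAd, hXA⟩ := exists_perp_part hD hQ h2 hk c X (hpart c)
  have hlA : ∀ x ∈ D l, x ∈ qPerp Q A := fun x hx =>
    (mem_qPerp Q).2 fun a ha => hD.orth c l hcl a (hAc ha) x hx
  obtain ⟨z, hz, y, hy, rfl⟩ := exists_add_qPerp Q hQ (hD.nd l) X
  have hpol : ∀ x ∈ D l, QuadraticMap.polar Q (z + y) x = QuadraticMap.polar Q z x := fun x hx => by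
    rw [QuadraticMap.polar_add_left, QuadraticMap.polar_comm Q y x, hD.polar_eq_zero hx hy, add_zero]
  obtain ⟨N, hN⟩ : ∃ N : Submodule F V, N = orthIn Q (D l) z := ⟨_, rfl⟩
  have hNmem : ∀ x, x ∈ N ↔ x ∈ D l ∧ QuadraticMap.polar Q (z + y) x = 0 := fun x => by
    rw [hN, mem_orthIn]
    exact and_congr_right fun hx => by rw [hpol x hx]
  obtain ⟨T, hT⟩ : ∃ T : AddSubgroup V, ∀ x, x ∈ T ↔ x ∈ N ∧ eich Q (z + y) x ∈ M := by
    refine ⟨{ carrier := {x | x ∈ N ∧ eich Q (z + y) x ∈ M}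
              add_mem' := fun {p q} hp hq => ⟨N.add_mem hp.1 hq.1, by
                rw [← eich_mul Q hQX ((hNmem p).1 hp.1).2 ((hNmem q).1 hq.1).2]
                exact mul_mem hp.2 hq.2⟩
              zero_mem' := ⟨N.zero_mem, by rw [eich_zero Q hQX]; exact one_mem M⟩
              neg_mem' := fun {p} hp => ⟨N.neg_mem hp.1, by
                rw [← eich_inv Q hQX ((hNmem p).1 hp.1).2]
                exact inv_mem hp.2⟩ }, fun x => Iff.rfl⟩
  have hrefl : ∀ n ∈ D l, ∀ hn' : Q n ≠ 0,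
      ∃ g ∈ dStab Q D ⊓ eichGroup Q, g.1 (z + y) = (qRefl Q hn').1 (z + y) ∧
        ∀ x ∈ D l, g.1 x = (qRefl Q hn').1 x := fun n hn' hQn => by
    obtain ⟨g, hg, hgb⟩ := hD.exists_comp hQ hn hA hAd hAc (hD.qRefl_mem_dStab hQ hn' hQn)
    exact ⟨g, hg, hgb _ hXA, fun x hx => hgb x (hlA x hx)⟩
  have hinv : ∀ n ∈ N, ∀ hQn : Q n ≠ 0, ∀ x ∈ T, (qRefl Q hQn).1 x ∈ T := by
    intro n hn' hQn x hx
    rw [hT] at hx ⊢
    obtain ⟨g, hg, hgX, hgx⟩ := hrefl n ((hNmem n).1 hn').1 hQn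
    refine ⟨by rw [qRefl_apply]; exact N.sub_mem hx.1 (N.smul_mem _ hn'), ?_⟩
    have h1 := mul_mem (mul_mem (hHM hg) hx.2) (inv_mem (hHM hg))
    rwa [eich_conj Q g hQX ((hNmem x).1 hx.1).2, hgX, qRefl_fix Q hQn ((hNmem n).1 hn').2,
      hgx x ((hNmem x).1 hx.1).1] at h1
  have hdT : d ∈ T := (hT d).2 ⟨(hNmem d).2 ⟨hd, hXd⟩, hmem⟩
  rcases hpart l z hz y hy rfl with rfl | hQz
  · have hall := le_of_refl_invariant h2 (N := N) (by
        rw [hN]
        intro x hx hxy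
        exact hD.nd l x ((mem_orthIn Q).1 hx).1 fun w hw => hxy w ((mem_orthIn Q).2 ⟨hw, by simp⟩))
      (by rw [hN]; have := finrank_orthIn_ge Q (D l) 0; rw [hD.dim] at this; omega)
      (hqk.imp id fun h => by rw [hN]; have := finrank_orthIn_ge Q (D l) 0; rw [hD.dim] at this; omega)
      T (fun x hx => ((hT x).1 hx).1) hinv hdT hd0
    obtain ⟨u, hu, hu0, hQu⟩ := exists_singular_mem Q (C := D l) (by rw [hD.dim]; omega)
    have huN : u ∈ N := by rw [hN, mem_orthIn]; exact ⟨hu, by simp⟩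
    exact mixed_of_long hD hQ hHM hu hu0 hQu hQX ((hNmem u).1 huN).2 ((hT u).1 (hall u huN)).2 hX
  have hNd : 2 ≤ Module.finrank F N := by
    rw [hN]; have := finrank_orthIn_ge Q (D l) z; rw [hD.dim] at this; omega
  have hall := le_of_refl_invariant h2 (hN ▸ ndOn_orthIn Q h2 (hD.nd l) hz hQz) hNd
    (hqk.imp id fun h => by rw [hN]; have := finrank_orthIn_ge Q (D l) z; rw [hD.dim] at this; omega)
    T (fun x hx => ((hT x).1 hx).1) hinv hdT hd0
  obtain ⟨β, hβ⟩ : ∃ β : F, β = -((2 * 2) * Q z) := ⟨_, rfl⟩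
  have hβ0 : β ≠ 0 := hβ ▸ neg_ne_zero.2 (mul_ne_zero (mul_ne_zero h2 h2) hQz)
  obtain ⟨w, hw, hQw⟩ := exists_value_in (hN ▸ ndOn_orthIn Q h2 (hD.nd l) hz hQz) hNd (inv_ne_zero hβ0)
  obtain ⟨hwl, hXw⟩ := (hNmem w).1 hw
  have hzw : QuadraticMap.polar Q z w = 0 := by rwa [hpol w hwl] at hXw
  have hwM := ((hT w).1 (hall w hw)).2
  obtain ⟨g, hg, hgX, hgx⟩ := hrefl z hz hQz
  have hgw : g.1 w = w := by
    rw [hgx w hwl, qRefl_fix Q hQz ((QuadraticMap.polar_comm Q w z).trans hzw)]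
  obtain ⟨X', hX'⟩ : ∃ X', X' = g.1 (z + y) := ⟨_, rfl⟩
  have hX'e : X' = (z + y) + (-2 : F) • z := by
    rw [hX', hgX, qRefl_apply, QuadraticMap.polar_add_left, quad_polar_self, QuadraticMap.polar_comm Q y z,
      hD.polar_eq_zero hz hy, add_zero, mul_comm (2 : F), ← mul_assoc, inv_mul_cancel₀ hQz, one_mul, neg_smul]
    abel
  have hM' : eich Q X' w ∈ M := by
    have h1 := mul_mem (mul_mem (hHM hg) hwM) (inv_mem (hHM hg))
    rwa [eich_conj Q g hQX hXw, hgw, ← hX'] at h1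
  have hX'w : QuadraticMap.polar Q X' w = 0 := by rw [hX', ← hgw, qAut_polar, hXw]
  have hQX' : Q X' = 0 := by rw [hX', qAut_map, hQX]
  obtain ⟨u, hu⟩ : ∃ u, u = (-2 : F) • z + β • w := ⟨_, rfl⟩
  have hX'X : QuadraticMap.polar Q X' (z + y) = β := by
    rw [hX'e, QuadraticMap.polar_add_left, quad_polar_self, hQX, QuadraticMap.polar_smul_left,
      QuadraticMap.polar_add_right, quad_polar_self, hD.polar_eq_zero hz hy, hβ]
    simp only [smul_eq_mul]
    ring
  have heu : (eich Q (z + y) w).1 X' = u := by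
    rw [eich_apply Q hQX hXw, hX'X, hX'w, hQw, zero_add, inv_mul_cancel₀ hβ0, one_smul, hX'e, hu]
    abel
  have hew : (eich Q (z + y) w).1 w = w + (-(2 * β⁻¹)) • (z + y) := by
    rw [eich_apply Q hQX hXw, QuadraticMap.polar_comm Q w (z + y), hXw, quad_polar_self, hQw]
    simp [sub_eq_add_neg, neg_smul]
    abel
  have hfin := mul_mem (mul_mem hwM hM') (inv_mem hwM)
  rw [eich_conj Q _ hQX' hX'w, heu, hew] at hfin
  have hul : u ∈ D l := hu ▸ (D l).add_mem ((D l).smul_mem _ hz) ((D l).smul_mem _ hwl)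
  refine mixed_of_eich hD hQ hHM hul (fun h0 => ?_) (heu ▸ (qAut_map _ X').trans hQX') ?_ hfin fun h => ?_
  · rw [h0, LinearEquiv.map_eq_zero_iff] at heu
    rw [heu, QuadraticMap.polar_zero_left] at hX'X
    exact hβ0 hX'X.symm
  · rw [← heu, ← hew, qAut_polar, hX'w]
  · have := (D l).sub_mem h hwl
    rw [add_sub_cancel_left, (D l).smul_mem_iff (neg_ne_zero.2 (mul_ne_zero h2 (inv_ne_zero hβ0)))] at this
    exact hX this

end CfsgLib.Classical22.OrthDecomp
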