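/-
Stabilisers of orthogonal decompositions are maximal in the Eichler group in odd characteristic.
-/
import Cfsg.Agent.Lib.Classical22.OrthDecompStage
import Cfsg.Agent.Lib.Classical22.OrthDecompIrred

set_option autoImplicit false

namespace CfsgLib.Classical22.OrthDecomp

open CfsgLib.Classical

variable {F V : Type*} [Field F] [AddCommGroup V] [Module F V] {Q : QuadraticForm F V}
variable {t : ℕ} {D : Fin t → Submodule F V} {k : ℕ} [FiniteDimensional F V]

theorem mem_of_dStab_eich (hD : Data Q D k) (hk : 3 ≤ k) {X Y : V} (hQX : Q X = 0)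
    (hXY : QuadraticMap.polar Q X Y = 0) (h : eich Q X Y ∈ dStab Q D) (j : Fin t) {w : V} (hw : w ∈ D j) :
    (eich Q X Y).1 w ∈ D j := by
  obtain ⟨σ, hσ⟩ := h
  have h1 := finrank_orthIn_ge Q (D j) X
  have h3 := finrank_orthIn_ge Q (orthIn Q (D j) X) Y
  obtain ⟨v, hv, hv0⟩ : ∃ v ∈ orthIn Q (orthIn Q (D j) X) Y, v ≠ 0 :=
    (Submodule.ne_bot_iff _).1 fun h0 => by
      rw [h0, finrank_bot] at h3
      rw [hD.dim] at h1
      omega
  rw [mem_orthIn, mem_orthIn] at hv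
  obtain ⟨⟨hvj, hvX⟩, hvY⟩ := hv
  have hfix : (eich Q X Y).1 v = v := by
    rw [eich_apply Q hQX hXY, QuadraticMap.polar_comm Q v X, hvX, QuadraticMap.polar_comm Q v Y, hvY]
    simp
  have hσj : σ j = j := by
    by_contra hne
    refine hv0 (hD.nd j v hvj fun y hy => hD.orth (σ j) j hne v ?_ y hy)
    rw [← hσ j]
    exact ⟨v, hvj, hfix⟩
  have := Submodule.mem_map_of_mem (f := (eich Q X Y).1.toLinearMap) hw
  rwa [hσ j, hσj] at this

theorem dStab_of_eich_maps (hD : Data Q D k) {X Y : V}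
    (h : ∀ j, ∀ w ∈ D j, (eich Q X Y).1 w ∈ D j) : eich Q X Y ∈ dStab Q D :=
  mem_dStab_of_maps (Equiv.refl _) (fun i j => by rw [hD.dim, hD.dim]) h

theorem exists_moving (hD : Data Q D k) (hQ : PolarNondeg Q) (hk : 3 ≤ k) [Fintype F]
    {M : Subgroup (qAut Q)} (hHM : dStab Q D ⊓ eichGroup Q ≤ M) {g : qAut Q} (hgM : g ∈ M)
    (hg : g ∉ dStab Q D) :
    ∃ X Y, Q X = 0 ∧ QuadraticMap.polar Q X Y = 0 ∧ eich Q X Y ∈ M ∧ eich Q X Y ∉ dStab Q D := by
  by_contra hc
  push Not at hc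
  have hpull : ∀ i, ∀ x ∈ D i, ∀ y ∈ D i, Q x = 0 → QuadraticMap.polar Q x y = 0 → ∀ j p, g.1 p ∈ D j →
      g.1 ((eich Q x y).1 p) ∈ D j := by
    intro i x hx y hy hQx hxy j p hp
    have hM : eich Q (g.1 x) (g.1 y) ∈ M := by
      rw [← eich_conj Q g hQx hxy]
      exact mul_mem (mul_mem hgM (hHM (hD.eich_mem_dStab hQ hx hy hQx hxy))) (inv_mem hgM)
    have hst := hc _ _ (by rw [qAut_map, hQx]) (by rw [qAut_polar, hxy]) hM
    have h := mem_of_dStab_eich hD hk (by rw [qAut_map, hQx]) (by rw [qAut_polar, hxy]) hst j hp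
    rwa [← eich_conj Q g hQx hxy, qAut_mul_apply, qAut_mul_apply, qInv_apply_self] at h
  have hall : ∀ i, ∃ j, ∀ a ∈ D i, g.1 a ∈ D j := by
    intro i
    obtain ⟨S, hS⟩ : ∃ S : Fin t → Submodule F V, ∀ j, S j = D i ⊓ (D j).comap g.1.toLinearMap :=
      ⟨_, fun j => rfl⟩
    -- a vector moved gives a point of some `S j`
    have hphi : ∀ j p, g.1 p ∈ D j → ∀ a ∈ D i, ∀ b ∈ qPerp Q (D i), a + b = p →
        ∀ x ∈ D i, ∀ y ∈ D i, Q x = 0 → QuadraticMap.polar Q x y = 0 → eichDisp Q x y a ∈ S j := by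
      intro j p hp a ha b hb hab x hx y hy hQx hxy
      rw [hS]
      refine ⟨(D i).sub_mem ((D i).smul_mem _ hy) ((D i).smul_mem _ hx), ?_⟩
      rw [SetLike.mem_coe, Submodule.mem_comap]
      have h := (D j).sub_mem (hpull i x hx y hy hQx hxy j p hp) hp
      rw [← map_sub, eich_apply Q hQx hxy, ← hab, QuadraticMap.polar_add_left, QuadraticMap.polar_add_left,
        (QuadraticMap.polar_comm Q b x).trans (hD.polar_eq_zero hx hb),
        (QuadraticMap.polar_comm Q b y).trans (hD.polar_eq_zero hy hb), add_zero, add_zero] at h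
      rw [LinearEquiv.coe_coe, eichDisp]
      convert h using 2
      abel
    obtain ⟨u₀, hu₀, hu₀0, hQu₀⟩ := exists_singular_mem Q (C := D i) (by rw [hD.dim]; exact hk)
    have hsome : ∃ j, ∃ a ∈ D i, a ≠ 0 ∧ ∃ b ∈ qPerp Q (D i), g.1 (a + b) ∈ D j := by
      by_contra hno
      push Not at hno
      have hperp : ∀ j p, g.1 p ∈ D j → p ∈ qPerp Q (D i) := by
        intro j p hp
        obtain ⟨a, ha, b, hb, rfl⟩ := exists_add_qPerp Q hQ (hD.nd i) p
        rcases eq_or_ne a 0 with rfl | ha0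
        · rwa [zero_add]
        · exact absurd hp (hno j a ha ha0 b hb)
      have htop : ∀ p, p ∈ qPerp Q (D i) := fun p => by
        have hp : g.1 p ∈ ⨆ j, D j := hD.sup ▸ Submodule.mem_top
        have : (⨆ j, D j) ≤ (qPerp Q (D i)).comap (g⁻¹).1.toLinearMap := iSup_le fun j q hq =>
          hperp j _ (by
            change g.1 ((g⁻¹).1 q) ∈ D j
            rwa [qApply_inv_self])
        have h := this hp
        rw [Submodule.mem_comap] at h
        change (g⁻¹).1 (g.1 p) ∈ _ at h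
        rwa [qInv_apply_self] at h
      exact hu₀0 (hD.nd i u₀ hu₀ fun y hy => hD.polar_eq_zero hu₀ (htop y))
    obtain ⟨j, a, ha, ha0, b, hb, hp⟩ := hsome
    have hsx : ∀ v ∈ S j, g.1 v ∈ D j := fun v hv => by rw [hS] at hv; exact hv.2
    refine ⟨j, fun v hv => hsx v (le_of_disp_invariant (hD.nd i) (by rw [hD.dim]; exact hk)
      (fun a' ha' haS => hphi j a' (hsx a' haS) a' ha' 0 (Submodule.zero_mem _) (add_zero a'))
      ha ha0 (hphi j _ hp a ha b hb rfl) hv)⟩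
  choose σ hσ using hall
  have hmap : ∀ i, (D i).map g.1.toLinearMap = D (σ i) := fun i =>
    Submodule.eq_of_le_of_finrank_le (by rintro _ ⟨x, hx, rfl⟩; exact hσ i x hx)
      (by rw [LinearEquiv.finrank_map_eq, hD.dim, hD.dim])
  have hinj : Function.Injective σ := fun a b hab => by
    by_contra hne
    obtain ⟨v, hv, hv0⟩ : ∃ v ∈ D a, v ≠ 0 := (Submodule.ne_bot_iff _).1 fun h0 => by
      have := hD.dim a
      rw [h0, finrank_bot] at this
      omega
    obtain ⟨v', hv', hvv⟩ : g.1 v ∈ (D b).map g.1.toLinearMap := by rw [hmap b, ← hab]; exact hσ a v hv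
    have he : v' = v := g.1.injective hvv
    subst he
    exact hv0 (hD.nd a v' hv fun y hy => hD.orth b a (Ne.symm hne) v' hv' y hy)
  exact hg (mem_dStab_of_maps (Equiv.ofBijective σ (Finite.injective_iff_bijective.1 hinj))
    (fun i j => by rw [hD.dim, hD.dim]) hσ)

variable [Fintype F]

/-- An Eichler transformation outside the stabiliser gives a mixed one. -/
theorem mixed_of_moving (hD : Data Q D k) (hQ : PolarNondeg Q) (hn : 5 ≤ Module.finrank F V) (h2 : (2 : F) ≠ 0)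
    (hk : 3 ≤ k) (hqk : 5 ≤ Fintype.card F ∨ 4 ≤ k) (ht : 2 ≤ t) {M : Subgroup (qAut Q)}
    (hHM : dStab Q D ⊓ eichGroup Q ≤ M) {X Y : V} (hQX : Q X = 0) (hXY : QuadraticMap.polar Q X Y = 0)
    (hmem : eich Q X Y ∈ M) (hns : eich Q X Y ∉ dStab Q D) : Mixed Q D M := by
  obtain ⟨l, w, hw, hwl⟩ : ∃ l, ∃ w ∈ D l, (eich Q X Y).1 w ∉ D l := by
    by_contra hc
    push Not at hc
    exact hns (dStab_of_eich_maps hD hc)
  by_cases hXl : X ∈ D l
  · refine mixed_of_eich hD hQ hHM hXl (fun h0 => hwl ?_) hQX hXY hmem fun hY => hns ?_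
    · rw [eich_apply Q hQX hXY, h0]
      simpa using hw
    · exact (hD.eich_mem_dStab hQ hXl hY hQX hXY).1
  -- a fixed vector with a moved singular vector orthogonal to it
  have lemA : ∀ m ∈ D l, Q m ≠ 0 → (eich Q X Y).1 m = m →
      (∃ u ∈ D l, u ≠ 0 ∧ Q u = 0 ∧ QuadraticMap.polar Q m u = 0) → Mixed Q D M := by
    rintro m hm hQm hfix ⟨u, hu, hu0, hQu, hmu⟩
    obtain ⟨u', hu', hQu', hgu⟩ : ∃ u' ∈ orthIn Q (D l) m, Q u' = 0 ∧ (eich Q X Y).1 u' ∉ D l := by
      by_contra hc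
      push Not at hc
      have hle := le_of_singular_span (ndOn_orthIn Q h2 (hD.nd l) hm hQm) ((mem_orthIn Q).2 ⟨hu, hmu⟩) hu0 hQu
        (L := (D l).comap (eich Q X Y).1.toLinearMap) hc
      obtain ⟨s, hs⟩ : ∃ s : F, s = QuadraticMap.polar Q m w / (2 * Q m) := ⟨_, rfl⟩
      have h1 : (eich Q X Y).1 (w - s • m) ∈ D l := hle ((mem_orthIn Q).2 ⟨(D l).sub_mem hw ((D l).smul_mem _ hm), by
        rw [QuadraticMap.polar_sub_right, QuadraticMap.polar_smul_right, quad_polar_self, smul_eq_mul, hs,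
          div_mul_cancel₀ _ (mul_ne_zero h2 hQm), sub_self]⟩)
      rw [map_sub, map_smul, hfix] at h1
      have := (D l).add_mem h1 ((D l).smul_mem s hm)
      rw [sub_add_cancel] at this
      exact hwl this
    rw [mem_orthIn] at hu'
    have hum : QuadraticMap.polar Q u' m = 0 := (QuadraticMap.polar_comm Q u' m).trans hu'.2
    have hconj := eich_conj Q (eich Q X Y) hQu' hum
    rw [hfix] at hconj
    refine mixed_of_short hD hQ hn h2 hk hqk ht hHM (by rw [qAut_map, hQu']) hgu hm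
      (fun h0 => hQm (by rw [h0, map_zero])) ?_ (hconj ▸ mul_mem (mul_mem hmem
        (hHM (hD.eich_mem_dStab hQ hu'.1 hm hQu' hum))) (inv_mem hmem))
    have e : QuadraticMap.polar Q ((eich Q X Y).1 u') ((eich Q X Y).1 m) = 0 := by rw [qAut_polar, hum]
    rwa [hfix] at e
  obtain ⟨z, hz, X', hX', rfl⟩ := exists_add_qPerp Q hQ (hD.nd l) X
  obtain ⟨y, hy, Y', hY', rfl⟩ := exists_add_qPerp Q hQ (hD.nd l) Y
  have hpX : ∀ m ∈ D l, QuadraticMap.polar Q m (z + X') = QuadraticMap.polar Q m z := fun m hm => by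
    rw [QuadraticMap.polar_add_right, hD.polar_eq_zero hm hX', add_zero]
  have hpY : ∀ m ∈ D l, QuadraticMap.polar Q m (y + Y') = QuadraticMap.polar Q m y := fun m hm => by
    rw [QuadraticMap.polar_add_right, hD.polar_eq_zero hm hY', add_zero]
  have hfixm : ∀ m ∈ D l, QuadraticMap.polar Q m z = 0 → QuadraticMap.polar Q m y = 0 →
      (eich Q (z + X') (y + Y')).1 m = m := fun m hm h1 h3 => by
    rw [eich_apply Q hQX hXY, hpX m hm, hpY m hm, h1, h3]
    simp
  by_cases hdep : ∃ a ∈ D l, ∃ α β : F, z = α • a ∧ y = β • a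
  · obtain ⟨a, ha, α, β, hza, hya⟩ := hdep
    obtain ⟨m, hm, hQm, ham, hu⟩ := exists_good h2 (hD.nd l) (by rw [hD.dim]; exact hk) ha
    rw [QuadraticMap.polar_comm] at ham
    refine lemA m hm hQm (hfixm m hm ?_ ?_) hu <;>
      simp only [hza, hya, QuadraticMap.polar_smul_right, ham, smul_zero]
  push Not at hdep
  have hz0 : z ≠ 0 := fun h0 => hdep y hy 0 1 (by rw [h0, zero_smul]) (one_smul F y).symm
  have hzy : ∀ s : F, s • z ≠ y := fun s hs => hdep z hz 1 s (one_smul F z).symm hs.symm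
  by_cases hQz : Q z = 0
  swap
  · -- move the vector by a rotation
    obtain ⟨N, hN⟩ : ∃ N, N = orthIn Q (D l) z := ⟨_, rfl⟩
    obtain ⟨c, hc⟩ : ∃ c : F, c = QuadraticMap.polar Q z y / (2 * Q z) := ⟨_, rfl⟩
    have hyN : y - c • z ∈ N := hN ▸ (mem_orthIn Q).2 ⟨(D l).sub_mem hy ((D l).smul_mem _ hz), by
      rw [QuadraticMap.polar_sub_right, QuadraticMap.polar_smul_right, quad_polar_self, smul_eq_mul, hc,
        div_mul_cancel₀ _ (mul_ne_zero h2 hQz), sub_self]⟩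
    have hd : 2 ≤ Module.finrank F N := by
      rw [hN]; have := finrank_orthIn_ge Q (D l) z; rw [hD.dim] at this; omega
    obtain ⟨n, hn', n', hn'', hQn, hQn', hE, hmove⟩ := exists_rotation hQ hn h2
      (hN ▸ ndOn_orthIn Q h2 (hD.nd l) hz hQz) hd
      (hqk.imp id fun h => by rw [hN]; have := finrank_orthIn_ge Q (D l) z; rw [hD.dim] at this; omega)
      hyN (sub_ne_zero.2 fun h => hzy c h.symm)
    rw [hN, mem_orthIn] at hn' hn''
    obtain ⟨r, hr⟩ : ∃ r, r = qRefl Q hQn * qRefl Q hQn' := ⟨_, rfl⟩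
    rw [← hr] at hE hmove
    have hfix : ∀ x, QuadraticMap.polar Q x n = 0 → QuadraticMap.polar Q x n' = 0 → r.1 x = x :=
      fun x h1 h3 => by rw [hr, qAut_mul_apply, qRefl_fix Q hQn' h3, qRefl_fix Q hQn h1]
    have hrz : r.1 z = z := hfix z hn'.2 hn''.2
    have hperp : ∀ v ∈ qPerp Q (D l), r.1 v = v := fun v hv =>
      hfix v ((QuadraticMap.polar_comm Q v n).trans (hD.polar_eq_zero hn'.1 hv))
        ((QuadraticMap.polar_comm Q v n').trans (hD.polar_eq_zero hn''.1 hv))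
    have hrl : ∀ x ∈ D l, r.1 x ∈ D l := fun x hx => by
      rw [hr, qAut_mul_apply, qRefl_apply, qRefl_apply]
      exact (D l).sub_mem ((D l).sub_mem hx ((D l).smul_mem _ hn''.1)) ((D l).smul_mem _ hn'.1)
    have hrH : r ∈ dStab Q D ⊓ eichGroup Q := ⟨hr ▸ mul_mem (hD.qRefl_mem_dStab hQ hn'.1 hQn)
      (hD.qRefl_mem_dStab hQ hn''.1 hQn'), hE⟩
    have hrX : r.1 (z + X') = z + X' := by rw [map_add, hrz, hperp X' hX']
    obtain ⟨d, hd'⟩ : ∃ d, d = r.1 y - y := ⟨_, rfl⟩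
    have hrY : r.1 (y + Y') = (y + Y') + d := by rw [map_add, hperp Y' hY', hd']; abel
    have hd0 : d ≠ 0 := fun h0 => hmove (by
      rw [map_sub, map_smul, hrz]
      rw [h0] at hd'
      rw [sub_eq_zero.1 hd'.symm])
    have hXrY : QuadraticMap.polar Q (z + X') (r.1 (y + Y')) = 0 := by
      have e := qAut_polar r (z + X') (y + Y')
      rwa [hrX, hXY] at e
    have hXd : QuadraticMap.polar Q (z + X') d = 0 := by
      rwa [hrY, QuadraticMap.polar_add_right, hXY, zero_add] at hXrY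
    have h1 := mul_mem (mul_mem (hHM hrH) hmem) (inv_mem (hHM hrH))
    rw [eich_conj Q r hQX hXY, hrX, hrY, ← eich_mul Q hQX hXY hXd, Subgroup.mul_mem_cancel_left M hmem] at h1
    exact mixed_of_short hD hQ hn h2 hk hqk ht hHM hQX hXl (hd' ▸ (D l).sub_mem (hrl y hy) hy) hd0 hXd h1
  by_cases hby : QuadraticMap.polar Q z y = 0
  · -- a long transformation moves the vector
    obtain ⟨v, hv, hyv⟩ : ∃ v ∈ orthIn Q (D l) z, QuadraticMap.polar Q y v ≠ 0 := by
      by_contra hc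
      push Not at hc
      obtain ⟨x, hx, hQx, hzx⟩ := exists_partner Q (hD.nd l) hz hz0 hQz
      refine hzy (QuadraticMap.polar Q y x) (sub_eq_zero.1 (hD.nd l _ ((D l).sub_mem ((D l).smul_mem _ hz) hy)
        fun v hv => ?_))
      have hmem' : v - QuadraticMap.polar Q z v • x ∈ orthIn Q (D l) z := (mem_orthIn Q).2
        ⟨(D l).sub_mem hv ((D l).smul_mem _ hx), by
          rw [QuadraticMap.polar_sub_right, QuadraticMap.polar_smul_right, hzx, smul_eq_mul, mul_one, sub_self]⟩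
      have h := hc _ hmem'
      rw [QuadraticMap.polar_sub_right, QuadraticMap.polar_smul_right, smul_eq_mul] at h
      rw [QuadraticMap.polar_sub_left, QuadraticMap.polar_smul_left, smul_eq_mul]
      linear_combination -h
    rw [mem_orthIn] at hv
    obtain ⟨hH, hperp⟩ : eich Q z v ∈ dStab Q D ⊓ eichGroup Q ∧
        ∀ x ∈ qPerp Q (D l), (eich Q z v).1 x = x :=
      ⟨hD.eich_mem_dStab hQ hz hv.1 hQz hv.2, fun x hx => by
        rw [eich_apply Q hQz hv.2, (QuadraticMap.polar_comm Q x z).trans (hD.polar_eq_zero hz hx),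
          (QuadraticMap.polar_comm Q x v).trans (hD.polar_eq_zero hv.1 hx)]
        simp⟩
    obtain ⟨d, hd⟩ : ∃ d, d = (-QuadraticMap.polar Q y v) • z := ⟨_, rfl⟩
    have hhX : (eich Q z v).1 (z + X') = z + X' := by rw [map_add, eich_fix Q hQz hv.2, hperp X' hX']
    have hhY : (eich Q z v).1 (y + Y') = (y + Y') + d := by
      rw [map_add, hperp Y' hY', eich_apply Q hQz hv.2, QuadraticMap.polar_comm Q y z, hby, hd]
      simp only [zero_smul, add_zero, mul_zero, neg_smul]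
      abel
    have hXd : QuadraticMap.polar Q (z + X') d = 0 := by
      rw [hd, QuadraticMap.polar_smul_right, QuadraticMap.polar_comm Q (z + X') z, hpX z hz, quad_polar_self,
        hQz, mul_zero, smul_zero]
    have h1 := mul_mem (mul_mem (hHM hH) hmem) (inv_mem (hHM hH))
    rw [eich_conj Q _ hQX hXY, hhX, hhY, ← eich_mul Q hQX hXY hXd, Subgroup.mul_mem_cancel_left M hmem] at h1
    exact mixed_of_long hD hQ hHM (hd ▸ (D l).smul_mem _ hz) (hd ▸ smul_ne_zero (neg_ne_zero.2 hyv) hz0)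
      (by rw [hd, quad_smul, hQz, mul_zero]) hQX hXd h1 hXl
  · -- the two parts span a hyperbolic plane
    obtain ⟨z', hz'⟩ : ∃ z', z' = (QuadraticMap.polar Q z y)⁻¹ • y +
        (-Q ((QuadraticMap.polar Q z y)⁻¹ • y)) • z := ⟨_, rfl⟩
    have hzy1 : QuadraticMap.polar Q z ((QuadraticMap.polar Q z y)⁻¹ • y) = 1 := by
      rw [QuadraticMap.polar_smul_right, smul_eq_mul, inv_mul_cancel₀ hby]
    have hzz' : QuadraticMap.polar Q z z' = 1 := by
      rw [hz', QuadraticMap.polar_add_right, hzy1, QuadraticMap.polar_smul_right, quad_polar_self, hQz]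
      simp
    have hQz' : Q z' = 0 := by
      rw [hz', quad_add, quad_smul Q (-Q _) z, hQz, QuadraticMap.polar_smul_right,
        QuadraticMap.polar_comm Q _ z, hzy1]
      simp
    have hz'l : z' ∈ D l := hz' ▸ (D l).add_mem ((D l).smul_mem _ hy) ((D l).smul_mem _ hz)
    obtain ⟨m, hm, hQm⟩ := exists_aniso_in Q (ndOn_pairPerp Q (hD.nd l) hz hz'l hQz hQz' hzz') (fun h0 => by
      have h1 := finrank_orthIn_ge Q (D l) z
      have h3 := finrank_orthIn_ge Q (orthIn Q (D l) z) z'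
      rw [show orthIn Q (orthIn Q (D l) z) z' = (⊥ : Submodule F V) from h0, finrank_bot] at h3
      rw [hD.dim] at h1
      omega)
    obtain ⟨⟨hml, hmz⟩, hmz'⟩ := hm
    rw [SetLike.mem_coe, LinearMap.mem_ker, QuadraticMap.polarBilin_apply_apply] at hmz hmz'
    rw [hz', QuadraticMap.polar_add_left, QuadraticMap.polar_smul_left, QuadraticMap.polar_smul_left, hmz,
      smul_zero, add_zero, smul_eq_zero] at hmz'
    exact lemA m hml hQm (hfixm m hml ((QuadraticMap.polar_comm Q m z).trans hmz)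
      ((QuadraticMap.polar_comm Q m y).trans (hmz'.resolve_left (inv_ne_zero hby))))
      ⟨z, hz, hz0, hQz, (QuadraticMap.polar_comm Q m z).trans hmz⟩

/-- A mixed transformation gives everything. -/
theorem eichGroup_le_of_mixed (hD : Data Q D k) (hQ : PolarNondeg Q) (hn : 5 ≤ Module.finrank F V) (h2 : (2 : F) ≠ 0)
    (hk : 3 ≤ k) (ht : 3 ≤ t ∨ 5 ≤ k) {M : Subgroup (qAut Q)} (hHM : dStab Q D ⊓ eichGroup Q ≤ M)
    (hmix : Mixed Q D M) : eichGroup Q ≤ M := by
  obtain ⟨l, u, b, hu, hu0, hQu, hb, hb0, hmem⟩ := hmix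
  have hpol : ∀ x ∈ qPerp Q (D l), QuadraticMap.polar Q u x = 0 := fun x hx => hD.polar_eq_zero hu hx
  obtain ⟨S, hS⟩ : ∃ S : AddSubgroup V, ∀ x, x ∈ S ↔ x ∈ qPerp Q (D l) ∧ eich Q u x ∈ M := by
    refine ⟨{ carrier := {x | x ∈ qPerp Q (D l) ∧ eich Q u x ∈ M}
              add_mem' := fun {p q} hp hq => ⟨(qPerp Q (D l)).add_mem hp.1 hq.1, by
                rw [← eich_mul Q hQu (hpol p hp.1) (hpol q hq.1)]
                exact mul_mem hp.2 hq.2⟩
              zero_mem' := ⟨(qPerp Q (D l)).zero_mem, by rw [eich_zero Q hQu]; exact one_mem M⟩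
              neg_mem' := fun {p} hp => ⟨(qPerp Q (D l)).neg_mem hp.1, by
                rw [← eich_inv Q hQu (hpol p hp.1)]
                exact inv_mem hp.2⟩ }, fun x => Iff.rfl⟩
  have hbS : b ∈ S := (hS b).2 ⟨hb, hmem⟩
  have htrans : ∀ g ∈ dStab Q D ⊓ eichGroup Q, g.1 u = u → ∀ x ∈ S, g.1 x ∈ qPerp Q (D l) → g.1 x ∈ S := by
    intro g hg hgu x hx hgx
    rw [hS] at hx ⊢
    have h1 := mul_mem (mul_mem (hHM hg) hx.2) (inv_mem (hHM hg))
    rw [eich_conj Q g hQu (hpol x hx.1), hgu] at h1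
    exact ⟨hgx, h1⟩
  -- a non-zero vector of some member
  obtain ⟨j, hjl, bj, hbj, bb, hbb, hbsum, hbj0⟩ : ∃ j, j ≠ l ∧ ∃ a ∈ D j, ∃ r ∈ qPerp Q (D j),
      a + r = b ∧ a ≠ 0 := by
    by_contra hc
    push Not at hc
    refine hb0 (hD.eq_zero_of_perp_all hQ fun j => ?_)
    rcases eq_or_ne j l with rfl | hjl
    · exact hb
    obtain ⟨a, ha, r, hr, rfl⟩ := exists_add_qPerp Q hQ (hD.nd j) b
    rw [hc j hjl a ha r hr rfl, zero_add]
    exact hr
  obtain ⟨n, hn', n', hn'', hQn, hQn', hE, hmove⟩ := exists_rotation hQ hn h2 (hD.nd j)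
    (by rw [hD.dim]; omega) (Or.inr (by rw [hD.dim]; exact hk)) hbj hbj0
  obtain ⟨r, hr⟩ : ∃ r, r = qRefl Q hQn * qRefl Q hQn' := ⟨_, rfl⟩
  rw [← hr] at hE hmove
  have hrfix : ∀ x ∈ qPerp Q (D j), r.1 x = x := fun x hx => by
    rw [hr, qAut_mul_apply, qRefl_fix Q hQn' ((QuadraticMap.polar_comm Q x n').trans (hD.polar_eq_zero hn'' hx)),
      qRefl_fix Q hQn ((QuadraticMap.polar_comm Q x n).trans (hD.polar_eq_zero hn' hx))]
  obtain ⟨δ, hδ⟩ : ∃ δ, δ = r.1 b - b := ⟨_, rfl⟩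
  have hδe : δ = r.1 bj - bj := by rw [hδ, ← hbsum, map_add, hrfix bb hbb]; abel
  have hδj : δ ∈ D j := by
    rw [hδe, hr, qAut_mul_apply, qRefl_apply, qRefl_apply]
    exact (D j).sub_mem ((D j).sub_mem ((D j).sub_mem hbj ((D j).smul_mem _ hn'')) ((D j).smul_mem _ hn')) hbj
  have hδl : δ ∈ qPerp Q (D l) := hD.perp_le hjl.symm hδj
  have hrb : r.1 b ∈ qPerp Q (D l) := by
    have := (qPerp Q (D l)).add_mem hδl hb
    rwa [hδ, sub_add_cancel] at this
  have hδS : δ ∈ S := hδ ▸ S.sub_mem (htrans r ⟨hr ▸ mul_mem (hD.qRefl_mem_dStab hQ hn' hQn)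
    (hD.qRefl_mem_dStab hQ hn'' hQn'), hE⟩ (hrfix u (hD.perp_le hjl hu)) b hbS hrb) hbS
  have hδ0 : δ ≠ 0 := fun h0 => hmove (by rw [hδe, sub_eq_zero] at h0; exact h0)
  -- a correction fixing the point and the member
  obtain ⟨c, A, hAc, hA, hAd, huA, hjA⟩ : ∃ (c : Fin t) (A : Submodule F V), A ≤ D c ∧ NdOn Q A ∧
      2 ≤ Module.finrank F A ∧ u ∈ qPerp Q A ∧ ∀ x ∈ D j, x ∈ qPerp Q A := by
    rcases ht with ht | hk5
    · obtain ⟨c, hc⟩ := Finset.exists_mem_notMem_of_card_lt_card (s := ({l, j} : Finset (Fin t)))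
        (t := Finset.univ) (lt_of_le_of_lt Finset.card_le_two (by simp; omega))
      simp only [Finset.mem_univ, Finset.mem_insert, Finset.mem_singleton, true_and, not_or] at hc
      exact ⟨c, D c, le_rfl, hD.nd c, by rw [hD.dim]; omega, hD.perp_le hc.1 hu, fun x hx => hD.perp_le hc.2 hx⟩
    · obtain ⟨z, hz, hQz, huz⟩ := exists_partner Q (hD.nd l) hu hu0 hQu
      refine ⟨l, orthIn Q (orthIn Q (D l) u) z, fun x hx => hx.1.1, ndOn_pairPerp Q (hD.nd l) hu hz hQu hQz huz, ?_, ?_, fun x hx => ?_⟩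
      · have h1 := finrank_orthIn_ge Q (D l) u
        have h3 := finrank_orthIn_ge Q (orthIn Q (D l) u) z
        rw [hD.dim] at h1
        change 2 ≤ Module.finrank F (orthIn Q (orthIn Q (D l) u) z)
        omega
      · exact (mem_qPerp Q).2 fun a ha => (QuadraticMap.polar_comm Q a u).trans (LinearMap.mem_ker.1 ha.1.2)
      · exact (mem_qPerp Q).2 fun a ha => hD.orth l j hjl.symm a ha.1.1 x hx
  obtain ⟨Tj, hTj⟩ : ∃ Tj : AddSubgroup V, ∀ x, x ∈ Tj ↔ x ∈ D j ∧ x ∈ S :=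
    ⟨(D j).toAddSubgroup ⊓ S, fun x => Iff.rfl⟩
  have hfull : ∀ x ∈ D j, x ∈ S := by
    refine fun x hx => ((hTj x).1 (le_of_refl_invariant h2 (hD.nd j) (by rw [hD.dim]; omega)
      (Or.inr (by rw [hD.dim]; exact hk)) Tj (fun y hy => ((hTj y).1 hy).1) ?_ ((hTj δ).2 ⟨hδj, hδS⟩) hδ0 x hx)).2
    intro n hn' hQn y hy
    rw [hTj] at hy ⊢
    obtain ⟨g, hg, hgb⟩ := hD.exists_comp hQ hn hA hAd hAc (hD.qRefl_mem_dStab hQ hn' hQn)
    have hgy : (qRefl Q hQn).1 y ∈ D j := by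
      rw [qRefl_apply]; exact (D j).sub_mem hy.1 ((D j).smul_mem _ hn')
    refine ⟨hgy, ?_⟩
    have h1 := htrans g hg (by
      rw [hgb u huA, qRefl_fix Q hQn (hD.orth l j hjl.symm u hu n hn')]) y hy.2
      (by rw [hgb y (hjA y hy.1)]; exact hD.perp_le hjl.symm hgy)
    rwa [hgb y (hjA y hy.1)] at h1
  -- all the other members
  have hothers : ∀ i, i ≠ l → ∀ x ∈ D i, x ∈ S := by
    intro i hil x hx
    rcases eq_or_ne i j with rfl | hij
    · exact hfull x hx
    obtain ⟨g, hg, hgij, hgfix⟩ := hD.exists_swap hQ (Ne.symm hij)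
    obtain ⟨h, hh, hhb⟩ := exists_correction hQ hn (hD.nd j) (by rw [hD.dim]; omega) g
    have hgh : g * h ∈ dStab Q D ⊓ eichGroup Q := ⟨mul_mem hg (hD.mem_dStab_of_supp hQ (hD.nd j) le_rfl hhb), hh⟩
    have hghu : (g * h).1 u = u := by
      rw [qAut_mul_apply, hhb u (hD.perp_le hjl hu), hgfix l hjl.symm (Ne.symm hil) u hu]
    have hmap : ∀ y ∈ D j, (g * h).1 y ∈ D i := fun y hy => by
      rw [qAut_mul_apply]
      refine hgij _ ?_
      rw [← qPerp_qPerp Q hQ (D j), mem_qPerp]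
      intro v hv
      rw [← hhb v hv, qAut_polar, QuadraticMap.polar_comm]
      exact hD.polar_eq_zero hy hv
    have heq : (D j).map (g * h).1.toLinearMap = D i :=
      Submodule.eq_of_le_of_finrank_le (by rintro _ ⟨y, hy, rfl⟩; exact hmap y hy)
        (by rw [LinearEquiv.finrank_map_eq, hD.dim, hD.dim])
    rw [← heq] at hx
    obtain ⟨y, hy, rfl⟩ := hx
    exact htrans _ hgh hghu y (hfull y hy) (hD.perp_le hil.symm (hmap y hy))
  have hperp : ∀ x ∈ qPerp Q (D l), x ∈ S := by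
    intro x hx
    obtain ⟨a, ha, haS⟩ : ∃ a ∈ D l, x - a ∈ S := by
      have hx' : x ∈ ⨆ i, D i := hD.sup ▸ Submodule.mem_top
      clear hx
      induction hx' using Submodule.iSup_induction' with
      | mem i y hy =>
        rcases eq_or_ne i l with rfl | hil
        · exact ⟨y, hy, by rw [sub_self]; exact S.zero_mem⟩
        · exact ⟨0, (D l).zero_mem, by rw [sub_zero]; exact hothers i hil y hy⟩
      | zero => exact ⟨0, (D l).zero_mem, by rw [sub_zero]; exact S.zero_mem⟩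
      | add y z _ _ hy hz =>
        obtain ⟨a, ha, ha'⟩ := hy
        obtain ⟨c, hc, hc'⟩ := hz
        exact ⟨a + c, (D l).add_mem ha hc, by
          rw [show y + z - (a + c) = (y - a) + (z - c) by abel]; exact S.add_mem ha' hc'⟩
    have hsub := (qPerp Q (D l)).sub_mem hx ((hS _).1 haS).1
    rw [sub_sub_cancel] at hsub
    have ha0 : a = 0 := hD.nd l a ha fun y hy => (QuadraticMap.polar_comm Q a y).trans (hD.polar_eq_zero hy hsub)
    rwa [ha0, sub_zero] at haS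
  have hfu : EFull Q M u := fun w hw => by
    obtain ⟨a, ha, r, hr', rfl⟩ := exists_add_qPerp Q hQ (hD.nd l) w
    have hua : QuadraticMap.polar Q u a = 0 := by rwa [QuadraticMap.polar_add_right, hpol r hr', add_zero] at hw
    rw [← eich_mul Q hQu hua (hpol r hr')]
    exact mul_mem (hHM (hD.eich_mem_dStab hQ hu ha hQu hua)) ((hS r).1 (hperp r hr')).2
  obtain ⟨z, hz, hQz, huz⟩ := exists_partner Q (hD.nd l) hu hu0 hQu
  have hQr : Q (u - z) ≠ 0 := by rw [quad_sub, hQu, hQz, huz]; simp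
  obtain ⟨h, hh, hhb⟩ := hD.exists_comp hQ hn (hD.nd j) (by rw [hD.dim]; omega) le_rfl
    (hD.qRefl_mem_dStab hQ ((D l).sub_mem hu hz) hQr)
  have hhu : h.1 u = z := by
    rw [hhb u (hD.perp_le hjl hu), qRefl_exchange Q (hQu.trans hQz.symm) hQr]
  exact eichGroup_le_of_full Q hQ (by omega) hQu hQz (huz ▸ one_ne_zero) hfu
    (hhu ▸ efull_conj Q (hHM hh) hQu hfu)

theorem not_eichGroup_le_dStab (hD : Data Q D k) (hQ : PolarNondeg Q) (hk : 3 ≤ k) (ht : 2 ≤ t) :
    ¬ eichGroup Q ≤ dStab Q D := by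
  intro hle
  obtain ⟨l, i, hli⟩ : ∃ l i : Fin t, l ≠ i := ⟨⟨0, by omega⟩, ⟨1, by omega⟩, by simp⟩
  obtain ⟨u, hu, hu0, hQu⟩ := exists_singular_mem Q (C := D l) (by rw [hD.dim]; exact hk)
  obtain ⟨z, hz, hQz, huz⟩ := exists_partner Q (hD.nd l) hu hu0 hQu
  obtain ⟨y, hy, hy0⟩ : ∃ y ∈ D i, y ≠ 0 := (Submodule.ne_bot_iff _).1 fun h0 => by
    have := hD.dim i
    rw [h0, finrank_bot] at this
    omega
  have huy : QuadraticMap.polar Q u y = 0 := hD.orth l i hli u hu y hy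
  have h := mem_of_dStab_eich hD hk hQu huy (hle (eich_mem Q hQu huy)) l hz
  rw [eich_apply Q hQu huy, QuadraticMap.polar_comm Q z u, huz, one_smul] at h
  have := (D l).add_mem ((D l).sub_mem h hz) ((D l).smul_mem (QuadraticMap.polar Q z y + Q y * 1) hu)
  rw [show z + y - (QuadraticMap.polar Q z y + Q y * 1) • u - z + (QuadraticMap.polar Q z y + Q y * 1) • u = y
    by abel] at this
  exact hy0 (hD.nd l y this fun v hv => (QuadraticMap.polar_comm Q y v).trans (hD.orth l i hli v hv y hy))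

/-- The stabiliser of an orthogonal decomposition is maximal in odd characteristic. -/
theorem eichGroup_le_of_decomp (hD : Data Q D k) (hQ : PolarNondeg Q) (hn : 5 ≤ Module.finrank F V)
    (h2 : (2 : F) ≠ 0) (hk : 3 ≤ k) (hqk : 5 ≤ Fintype.card F ∨ 4 ≤ k) (ht : 2 ≤ t) (htk : 3 ≤ t ∨ 5 ≤ k)
    {M : Subgroup (qAut Q)} (hHM : dStab Q D ⊓ eichGroup Q ≤ M) (hne : ¬ M ≤ dStab Q D) :
    eichGroup Q ≤ M := by
  obtain ⟨g, hgM, hg⟩ := SetLike.not_le_iff_exists.1 hne
  obtain ⟨X, Y, hQX, hXY, hmem, hns⟩ := exists_moving hD hQ hk hHM hgM hg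
  exact eichGroup_le_of_mixed hD hQ hn h2 hk htk hHM
    (mixed_of_moving hD hQ hn h2 hk hqk ht hHM hQX hXY hmem hns)

end CfsgLib.Classical22.OrthDecomp
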