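/-
A mixed Eichler transformation gives the whole Eichler group when the members have dimension at least four.
-/
import Cfsg.Agent.Lib.Classical22.OrthDecompFull

set_option autoImplicit false

namespace CfsgLib.Classical22.OrthDecomp

open CfsgLib.Classical

variable {F V : Type*} [Field F] [AddCommGroup V] [Module F V] {Q : QuadraticForm F V}
variable {t : ℕ} {D : Fin t → Submodule F V} {k : ℕ} [FiniteDimensional F V] [Fintype F]

theorem eichGroup_le_of_mixed_four (hD : Data Q D k) (hQ : PolarNondeg Q) (hn : 5 ≤ Module.finrank F V)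
    (hk : 4 ≤ k) {M : Subgroup (qAut Q)} (hHM : dStab Q D ⊓ eichGroup Q ≤ M) (hmix : Mixed Q D M) :
    eichGroup Q ≤ M := by
  obtain ⟨l, u, b, hu, hu0, hQu, hb, hb0, hmem⟩ := hmix
  have hpol : ∀ x ∈ qPerp Q (D l), QuadraticMap.polar Q u x = 0 := fun x hx => hD.polar_eq_zero hu hx
  obtain ⟨S, hS⟩ : ∃ S : Submodule F V, ∀ x, x ∈ S ↔ x ∈ qPerp Q (D l) ∧ eich Q u x ∈ M := by
    refine ⟨{ carrier := {x | x ∈ qPerp Q (D l) ∧ eich Q u x ∈ M}
              add_mem' := fun {p q} hp hq => ⟨(qPerp Q (D l)).add_mem hp.1 hq.1, by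
                rw [← eich_mul Q hQu (hpol p hp.1) (hpol q hq.1)]
                exact mul_mem hp.2 hq.2⟩
              zero_mem' := ⟨(qPerp Q (D l)).zero_mem, by rw [eich_zero Q hQu]; exact one_mem M⟩
              smul_mem' := fun c p hp => ⟨(qPerp Q (D l)).smul_mem c hp.1, ?_⟩ }, fun x => Iff.rfl⟩
    rcases eq_or_ne c 0 with rfl | hc
    · rw [zero_smul, eich_zero Q hQu]
      exact one_mem M
    obtain ⟨h, hh, hhu, hhb⟩ := exists_move_in Q (hD.nd l) (by rw [hD.dim]; omega) hu ((D l).smul_mem c hu) hQu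
      (by rw [quad_smul, hQu, mul_zero]) hu0 (smul_ne_zero hc hu0)
    have hhH : h ∈ dStab Q D ⊓ eichGroup Q := ⟨hD.mem_dStab_of_supp hQ (hD.nd l) le_rfl hhb, hh.2⟩
    have h1 := mul_mem (mul_mem (hHM hhH) hp.2) (inv_mem (hHM hhH))
    rwa [eich_conj Q h hQu (hpol p hp.1), hhu, hhb p hp.1, eich_smul_left Q hQu (hpol p hp.1)] at h1
  have hbS : b ∈ S := (hS b).2 ⟨hb, hmem⟩
  have htrans : ∀ g ∈ dStab Q D ⊓ eichGroup Q, g.1 u = u → ∀ x ∈ S, g.1 x ∈ qPerp Q (D l) → g.1 x ∈ S := by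
    intro g hg hgu x hx hgx
    rw [hS] at hx ⊢
    have h1 := mul_mem (mul_mem (hHM hg) hx.2) (inv_mem (hHM hg))
    rw [eich_conj Q g hQu (hpol x hx.1), hgu] at h1
    exact ⟨hgx, h1⟩
  obtain ⟨j, hjl, bj, hbj, bb, hbb, hbsum, hbj0⟩ : ∃ j, j ≠ l ∧ ∃ a ∈ D j, ∃ r ∈ qPerp Q (D j),
      a + r = b ∧ a ≠ 0 := by
    by_contra hc
    push Not at hc
    refine hb0 (hD.eq_zero_of_perp_all hQ fun j => ?_)
    rcases eq_or_ne j l with rfl | hjl
    · exact hb
    obtain ⟨a, ha, r, hr, rfl⟩ := exists_add_qPerp Q hQ (hD.nd j) b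
    rw [hc j hjl a ha r hr rfl, zero_add]
    exact hr
  have hdisp : ∀ a ∈ D j, ∀ r ∈ qPerp Q (D j), a + r ∈ S → ∀ x ∈ D j, ∀ y ∈ D j, Q x = 0 →
      QuadraticMap.polar Q x y = 0 → eichDisp Q x y a ∈ S := by
    intro a ha r hr har x hx y hy hQx hxy
    have hzero : eichDisp Q x y r = 0 := by
      rw [eichDisp, (QuadraticMap.polar_comm Q r x).trans (hD.polar_eq_zero hx hr),
        (QuadraticMap.polar_comm Q r y).trans (hD.polar_eq_zero hy hr)]
      simp
    have happ : (eich Q x y).1 (a + r) = (a + r) + eichDisp Q x y a := by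
      rw [map_add, eich_apply_disp hQx hxy, eich_apply_disp hQx hxy, hzero, add_zero]
      abel
    have hmem' : eichDisp Q x y a ∈ D j := (D j).sub_mem ((D j).smul_mem _ hy) ((D j).smul_mem _ hx)
    have hfix : (eich Q x y).1 u = u := by
      rw [eich_apply Q hQx hxy, hD.orth l j hjl.symm u hu x hx, hD.orth l j hjl.symm u hu y hy]
      simp
    have h1 := htrans _ (hD.eich_mem_dStab hQ hx hy hQx hxy) hfix _ har
      (happ ▸ (qPerp Q (D l)).add_mem ((hS _).1 har).1 (hD.perp_le hjl.symm hmem'))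
    rw [happ] at h1
    have := S.sub_mem h1 har
    rwa [add_sub_cancel_left] at this
  have hfull : ∀ x ∈ D j, x ∈ S := by
    have hk3 : 3 ≤ Module.finrank F (D j) := by rw [hD.dim]; omega
    obtain ⟨x, hx, y, hy, hQx, hxy, hne⟩ : ∃ x ∈ D j, ∃ y ∈ D j, Q x = 0 ∧ QuadraticMap.polar Q x y = 0 ∧
        eichDisp Q x y bj ≠ 0 := by
      by_contra hc
      push Not at hc
      refine hbj0 ((Submodule.mem_bot F).1 (le_of_disp_invariant (hD.nd j) hk3 (S := ⊥) ?_ hbj hbj0
        (fun x hx y hy hQx hxy => (Submodule.mem_bot F).2 (hc x hx y hy hQx hxy)) hbj))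
      intro a _ ha x _ y _ _ _
      rw [(Submodule.mem_bot F).1 ha, eichDisp]
      simp
    have hself : ∀ a ∈ D j, a ∈ S → ∀ x ∈ D j, ∀ y ∈ D j, Q x = 0 → QuadraticMap.polar Q x y = 0 →
        eichDisp Q x y a ∈ S := fun a ha haS => hdisp a ha 0 (Submodule.zero_mem _) (by rwa [add_zero])
    have hδS := hdisp bj hbj bb hbb (hbsum ▸ hbS) x hx y hy hQx hxy
    have hδj : eichDisp Q x y bj ∈ D j := (D j).sub_mem ((D j).smul_mem _ hy) ((D j).smul_mem _ hx)
    exact fun v hv => le_of_disp_invariant (hD.nd j) hk3 hself hδj hne (hself _ hδj hδS) hv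
  -- all the other members
  have hothers : ∀ i, i ≠ l → ∀ x ∈ D i, x ∈ S := by
    intro i hil x hx
    rcases eq_or_ne i j with rfl | hij
    · exact hfull x hx
    obtain ⟨g, hg, hgij, hgfix⟩ := hD.exists_swap hQ (Ne.symm hij)
    obtain ⟨h, hh, hhb⟩ := exists_correction hQ hn (hD.nd j) (by rw [hD.dim]; omega) g
    have hgh : g * h ∈ dStab Q D ⊓ eichGroup Q := ⟨mul_mem hg (hD.mem_dStab_of_supp hQ (hD.nd j) le_rfl hhb), hh⟩
    have hghu : (g * h).1 u = u := by
      rw [qAut_mul_apply, hhb u (hD.perp_le hjl hu), hgfix l hjl.symm (Ne.symm hil) u hu]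
    have hmap : ∀ y ∈ D j, (g * h).1 y ∈ D i := fun y hy => by
      rw [qAut_mul_apply]
      refine hgij _ ?_
      rw [← qPerp_qPerp Q hQ (D j), mem_qPerp]
      intro v hv
      rw [← hhb v hv, qAut_polar, QuadraticMap.polar_comm]
      exact hD.polar_eq_zero hy hv
    have heq : (D j).map (g * h).1.toLinearMap = D i :=
      Submodule.eq_of_le_of_finrank_le (by rintro _ ⟨y, hy, rfl⟩; exact hmap y hy)
        (by rw [LinearEquiv.finrank_map_eq, hD.dim, hD.dim])
    rw [← heq] at hx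
    obtain ⟨y, hy, rfl⟩ := hx
    exact htrans _ hgh hghu y (hfull y hy) (hD.perp_le hil.symm (hmap y hy))
  have hperp : ∀ x ∈ qPerp Q (D l), x ∈ S := by
    intro x hx
    obtain ⟨a, ha, haS⟩ : ∃ a ∈ D l, x - a ∈ S := by
      have hx' : x ∈ ⨆ i, D i := hD.sup ▸ Submodule.mem_top
      clear hx
      induction hx' using Submodule.iSup_induction' with
      | mem i y hy =>
        rcases eq_or_ne i l with rfl | hil
        · exact ⟨y, hy, by rw [sub_self]; exact S.zero_mem⟩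
        · exact ⟨0, (D l).zero_mem, by rw [sub_zero]; exact hothers i hil y hy⟩
      | zero => exact ⟨0, (D l).zero_mem, by rw [sub_zero]; exact S.zero_mem⟩
      | add y z _ _ hy hz =>
        obtain ⟨a, ha, ha'⟩ := hy
        obtain ⟨c, hc, hc'⟩ := hz
        exact ⟨a + c, (D l).add_mem ha hc, by
          rw [show y + z - (a + c) = (y - a) + (z - c) by abel]; exact S.add_mem ha' hc'⟩
    have hsub := (qPerp Q (D l)).sub_mem hx ((hS _).1 haS).1
    rw [sub_sub_cancel] at hsub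
    have ha0 : a = 0 := hD.nd l a ha fun y hy => (QuadraticMap.polar_comm Q a y).trans (hD.polar_eq_zero hy hsub)
    rwa [ha0, sub_zero] at haS
  have hfu : EFull Q M u := fun w hw => by
    obtain ⟨a, ha, r, hr', rfl⟩ := exists_add_qPerp Q hQ (hD.nd l) w
    have hua : QuadraticMap.polar Q u a = 0 := by rwa [QuadraticMap.polar_add_right, hpol r hr', add_zero] at hw
    rw [← eich_mul Q hQu hua (hpol r hr')]
    exact mul_mem (hHM (hD.eich_mem_dStab hQ hu ha hQu hua)) ((hS r).1 (hperp r hr')).2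
  obtain ⟨z, hz, hQz, huz⟩ := exists_partner Q (hD.nd l) hu hu0 hQu
  have hz0 : z ≠ 0 := by rintro rfl; simp at huz
  obtain ⟨h, hh, hhu, hhb⟩ := exists_move_in Q (hD.nd l) (by rw [hD.dim]; omega) hu hz hQu hQz hu0 hz0
  exact eichGroup_le_of_full Q hQ (by omega) hQu hQz (huz ▸ one_ne_zero) hfu
    (hhu ▸ efull_conj Q (hHM ⟨hD.mem_dStab_of_supp hQ (hD.nd l) le_rfl hhb, hh.2⟩) hQu hfu)

end CfsgLib.Classical22.OrthDecomp
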