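/-
Stabilisers of orthogonal decompositions are maximal in the Eichler group in characteristic two.
-/
import Cfsg.Agent.Lib.Classical22.OrthDecompFour

set_option autoImplicit false

namespace CfsgLib.Classical22.OrthDecomp

open CfsgLib.Classical

variable {F V : Type*} [Field F] [AddCommGroup V] [Module F V] {Q : QuadraticForm F V}

theorem polar_self_two (h2 : (2 : F) = 0) (a : V) : QuadraticMap.polar Q a a = 0 := by
  rw [quad_polar_self, h2, zero_mul]

theorem ndOn_altPerp {A : Submodule F V} (hA : NdOn Q A) (h2 : (2 : F) = 0) {a b : V} (ha : a ∈ A) (hb : b ∈ A)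
    (hab : QuadraticMap.polar Q a b = 1) : NdOn Q (orthIn Q (orthIn Q A a) b) := by
  intro x hx hall
  simp only [mem_orthIn] at hx
  obtain ⟨⟨hxA, hxa⟩, hxb⟩ := hx
  refine hA x hxA fun y hy => ?_
  obtain ⟨y', hy'⟩ : ∃ y', y' = y - QuadraticMap.polar Q y b • a - QuadraticMap.polar Q y a • b := ⟨_, rfl⟩
  have hmem : y' ∈ orthIn Q (orthIn Q A a) b := by
    simp only [mem_orthIn, hy']
    refine ⟨⟨A.sub_mem (A.sub_mem hy (A.smul_mem _ ha)) (A.smul_mem _ hb), ?_⟩, ?_⟩
    · simp [QuadraticMap.polar_sub_right, QuadraticMap.polar_smul_right, polar_self_two h2, hab,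
        QuadraticMap.polar_comm Q a y]
    · simp [QuadraticMap.polar_sub_right, QuadraticMap.polar_smul_right, polar_self_two h2,
        QuadraticMap.polar_comm Q b a, hab, QuadraticMap.polar_comm Q b y]
  have h := hall y' hmem
  rw [hy', QuadraticMap.polar_sub_right, QuadraticMap.polar_sub_right, QuadraticMap.polar_smul_right,
    QuadraticMap.polar_smul_right, QuadraticMap.polar_comm Q x a, hxa, QuadraticMap.polar_comm Q x b, hxb] at h
  simpa using h

/-- A vector orthogonal to `u` that is not orthogonal to `d`. -/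
theorem exists_perp_moving {A : Submodule F V} (hA : NdOn Q A) {u d : V} (hu : u ∈ A) (hu0 : u ≠ 0) (hd : d ∈ A)
    (hne : ∀ s : F, s • u ≠ d) :
    ∃ w ∈ A, QuadraticMap.polar Q u w = 0 ∧ QuadraticMap.polar Q d w ≠ 0 := by
  obtain ⟨x, hx, hux⟩ : ∃ x ∈ A, QuadraticMap.polar Q u x ≠ 0 := by
    by_contra hc
    push Not at hc
    exact hu0 (hA u hu hc)
  obtain ⟨c, hc⟩ : ∃ c : F, c = QuadraticMap.polar Q d x / QuadraticMap.polar Q u x := ⟨_, rfl⟩
  obtain ⟨y, hy, hdy⟩ : ∃ y ∈ A, QuadraticMap.polar Q (d - c • u) y ≠ 0 := by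
    by_contra hc'
    push Not at hc'
    exact hne c (sub_eq_zero.1 (hA _ (A.sub_mem hd (A.smul_mem c hu)) hc')).symm
  refine ⟨y - (QuadraticMap.polar Q u y / QuadraticMap.polar Q u x) • x, A.sub_mem hy (A.smul_mem _ hx), ?_, ?_⟩
  · rw [QuadraticMap.polar_sub_right, QuadraticMap.polar_smul_right, smul_eq_mul, div_mul_cancel₀ _ hux, sub_self]
  · rw [QuadraticMap.polar_sub_left, QuadraticMap.polar_smul_left] at hdy
    rw [QuadraticMap.polar_sub_right, QuadraticMap.polar_smul_right]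
    intro h
    refine hdy ?_
    rw [hc]
    simp only [smul_eq_mul] at h ⊢
    rw [← h]
    ring

variable {t : ℕ} {D : Fin t → Submodule F V} {k : ℕ} [FiniteDimensional F V]

/-- A vector all whose parts are singular is singular. -/
theorem Data.quad_eq_zero_of_parts (hD : Data Q D k) (hQ : PolarNondeg Q) {X : V}
    (h : ∀ j, ∀ a ∈ D j, ∀ r ∈ qPerp Q (D j), a + r = X → Q a = 0) : Q X = 0 := by
  classical
  choose f hf r hr hsum using fun j => exists_add_qPerp Q hQ (hD.nd j) X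
  have hXf : X = ∑ j, f j := by
    rw [← sub_eq_zero]
    refine hD.eq_zero_of_perp_all hQ fun i => (mem_qPerp Q).2 fun v hv => ?_
    rw [QuadraticMap.polar_sub_right, show ∀ s : Finset (Fin t), QuadraticMap.polar Q v (∑ j ∈ s, f j) =
      ∑ j ∈ s, QuadraticMap.polar Q v (f j) from fun s => map_sum (QuadraticMap.polarBilin Q v) _ _,
      Finset.sum_eq_single i (fun j _ hji => hD.orth i j (Ne.symm hji) v hv _ (hf j))
        (fun hni => absurd (Finset.mem_univ i) hni)]
    conv_lhs => rw [← hsum i]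
    rw [QuadraticMap.polar_add_right, hD.polar_eq_zero hv (hr i), add_zero, sub_self]
  rw [hXf]
  suffices hs : ∀ s : Finset (Fin t), Q (∑ j ∈ s, f j) = 0 from hs Finset.univ
  intro s
  induction s using Finset.induction with
  | empty => simp
  | insert i s hi ih =>
    rw [Finset.sum_insert hi, quad_add, ih, h i (f i) (hf i) (r i) (hr i) (hsum i),
      show QuadraticMap.polar Q (f i) (∑ j ∈ s, f j) = ∑ j ∈ s, QuadraticMap.polar Q (f i) (f j) from
        map_sum (QuadraticMap.polarBilin Q (f i)) _ _,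
      Finset.sum_eq_zero fun j hj => hD.orth i j (fun he => hi (he ▸ hj)) _ (hf i) _ (hf j)]
    simp

/-- A fixed singular point with a moved orthogonal vector. -/
theorem mixed_of_fixed (hD : Data Q D k) (hQ : PolarNondeg Q) {M : Subgroup (qAut Q)}
    (hHM : dStab Q D ⊓ eichGroup Q ≤ M) {g : qAut Q} (hg : g ∈ M) {l : Fin t} {u w : V} (hu : u ∈ D l)
    (hu0 : u ≠ 0) (hQu : Q u = 0) (hw : w ∈ D l) (huw : QuadraticMap.polar Q u w = 0) (hfix : g.1 u = u)
    (hmove : g.1 w ∉ D l) : Mixed Q D M := by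
  have hconj := eich_conj Q g hQu huw
  rw [hfix] at hconj
  refine mixed_of_eich hD hQ hHM hu hu0 hQu ?_
    (hconj ▸ mul_mem (mul_mem hg (hHM (hD.eich_mem_dStab hQ hu hw hQu huw))) (inv_mem hg)) hmove
  have e : QuadraticMap.polar Q (g.1 u) (g.1 w) = 0 := by rw [qAut_polar, huw]
  rwa [hfix] at e

variable [Fintype F]

theorem exists_pair_mem (hD : Data Q D k) (hQ : PolarNondeg Q) (hn : 5 ≤ Module.finrank F V) (h2 : (2 : F) = 0)
    {l : Fin t} {v r : V} (hv : v ∈ D l) (hr : r ∈ D l) (hQv : Q v ≠ 0) (hQr : Q r ≠ 0) :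
    ∃ h ∈ dStab Q D ⊓ eichGroup Q, ∀ x, h.1 x = (qRefl Q hQv).1 ((qRefl Q hQr).1 x) := by
  haveI : CharP F 2 := CharTwo.of_one_ne_zero_of_two_eq_zero one_ne_zero h2
  obtain ⟨s, hs⟩ := FiniteField.isSquare_of_char_two (ringChar.eq F 2) (Q v / Q r)
  have hQsr : Q (s • r) = Q v := by rw [quad_smul, ← hs, div_mul_cancel₀ _ hQr]
  have hQsr0 : Q (s • r) ≠ 0 := hQsr ▸ hQv
  refine ⟨qRefl Q hQv * qRefl Q hQsr0, ⟨mul_mem (hD.qRefl_mem_dStab hQ hv hQv)
    (hD.qRefl_mem_dStab hQ ((D l).smul_mem s hr) hQsr0), qRefl_mul_mem hQ hn hQsr0 hQv hQsr⟩, fun x => ?_⟩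
  rw [qAut_mul_apply, qRefl_smul Q hQr hQsr0]

/-- One short transformation gives a mixed one. -/
theorem mixed_of_short_two (hD : Data Q D k) (hQ : PolarNondeg Q) (h2 : (2 : F) = 0) (hk : 4 ≤ k)
    {M : Subgroup (qAut Q)} (hHM : dStab Q D ⊓ eichGroup Q ≤ M) {l : Fin t} {z X' d : V} (hz : z ∈ D l)
    (hX' : X' ∈ qPerp Q (D l)) (hQX : Q (z + X') = 0) (hX : z + X' ∉ D l) (hd : d ∈ D l) (hd0 : d ≠ 0)
    (hXd : QuadraticMap.polar Q (z + X') d = 0)
    (hind : Q z ≠ 0 → (∀ s : F, s • z ≠ d) ∨ eich Q (z + X') d ∉ dStab Q D)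
    (hmem : eich Q (z + X') d ∈ M) : Mixed Q D M := by
  by_cases hQd : Q d = 0
  · exact mixed_of_long hD hQ hHM hd hd0 hQd hQX hXd hmem hX
  have hzd : QuadraticMap.polar Q z d = 0 := by
    rwa [QuadraticMap.polar_add_left, QuadraticMap.polar_comm Q X' d, hD.polar_eq_zero hd hX', add_zero] at hXd
  by_cases hQz : Q z = 0
  · obtain ⟨u, hu, hu0, hQu, hud, hzu⟩ : ∃ u ∈ D l, u ≠ 0 ∧ Q u = 0 ∧ QuadraticMap.polar Q u d = 0 ∧
        ∃ c : F, z = c • u := by
      rcases eq_or_ne z 0 with rfl | hz0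
      · obtain ⟨u, hu, hu0, hQu⟩ := exists_singular_mem Q (C := orthIn Q (D l) d) (by
          have := finrank_orthIn_ge Q (D l) d
          rw [hD.dim] at this
          omega)
        rw [mem_orthIn] at hu
        exact ⟨u, hu.1, hu0, hQu, (QuadraticMap.polar_comm Q u d).trans hu.2, 0, (zero_smul F u).symm⟩
      · exact ⟨z, hz, hz0, hQz, hzd, 1, (one_smul F z).symm⟩
    obtain ⟨c, rfl⟩ := hzu
    obtain ⟨w, hw, huw, hdw⟩ := exists_perp_moving (hD.nd l) hu hu0 hd fun s hs => hQd (by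
      rw [← hs, quad_smul, hQu, mul_zero])
    have hXu : QuadraticMap.polar Q u (c • u + X') = 0 := by
      rw [QuadraticMap.polar_add_right, QuadraticMap.polar_smul_right, polar_self_two h2, smul_zero, zero_add,
        hD.polar_eq_zero hu hX']
    refine mixed_of_fixed hD hQ hHM hmem hu hu0 hQu hw huw ?_ ?_
    · rw [eich_apply Q hQX hXd, hXu, hud]
      simp
    · rw [eich_apply Q hQX hXd, QuadraticMap.polar_add_right, QuadraticMap.polar_smul_right,
        QuadraticMap.polar_comm Q w u, huw, hD.polar_eq_zero hw hX', QuadraticMap.polar_comm Q w d]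
      intro h
      refine hX (((D l).smul_mem_iff hdw).1 ?_)
      have h' := (D l).sub_mem hw h
      simp only [smul_eq_mul, mul_zero, add_zero, zero_smul] at h'
      rwa [sub_sub_cancel] at h'
  obtain ⟨j, a, ha, r, hr, hsum, hQa, hjl⟩ : ∃ j, ∃ a ∈ D j, ∃ r ∈ qPerp Q (D j),
      a + r = z + X' ∧ Q a ≠ 0 ∧ j ≠ l := by
    by_contra hc
    push Not at hc
    have hzero : Q X' = 0 := by
      refine hD.quad_eq_zero_of_parts hQ fun j a ha r hr hsum => ?_
      rcases eq_or_ne j l with rfl | hjl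
      · have := (qPerp Q (D j)).sub_mem hX' hr
        rw [← hsum, add_sub_cancel_right] at this
        rw [hD.nd j a ha fun y hy => (QuadraticMap.polar_comm Q a y).trans (hD.polar_eq_zero hy this), map_zero]
      · by_contra hQa
        exact hjl (hc j a ha (r + z) ((qPerp Q (D j)).add_mem hr (hD.perp_le hjl hz))
          (by rw [← hsum]; abel) hQa)
    rw [quad_add, hD.polar_eq_zero hz hX', hzero] at hQX
    simp at hQX
    exact hQz hQX
  have hpw : ∀ v ∈ D j, QuadraticMap.polar Q v (z + X') = QuadraticMap.polar Q v a := fun v hv => by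
    rw [← hsum, QuadraticMap.polar_add_right, hD.polar_eq_zero hv hr, add_zero]
  have hpd : ∀ v ∈ D j, QuadraticMap.polar Q v d = 0 := fun v hv => hD.orth j l hjl v hv d hd
  obtain ⟨u, hu, hu0, hQu⟩ := exists_singular_mem Q (C := orthIn Q (D j) a) (by
    have := finrank_orthIn_ge Q (D j) a
    rw [hD.dim] at this
    omega)
  rw [mem_orthIn] at hu
  obtain ⟨w, hw, huw, haw⟩ := exists_perp_moving (hD.nd j) hu.1 hu0 ha fun s hs => hQa (by
    rw [← hs, quad_smul, hQu, mul_zero])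
  refine mixed_of_fixed hD hQ hHM hmem hu.1 hu0 hQu hw huw ?_ ?_
  · rw [eich_apply Q hQX hXd, hpw u hu.1, hpd u hu.1, QuadraticMap.polar_comm Q u a, hu.2]
    simp
  · rw [eich_apply Q hQX hXd, hpw w hw, hpd w hw, zero_add]
    intro h
    have h' := (D j).sub_mem h hw
    rw [show w + QuadraticMap.polar Q w a • d - (Q d * QuadraticMap.polar Q w a) • (z + X') - w =
      QuadraticMap.polar Q w a • (d - Q d • (z + X')) by module, QuadraticMap.polar_comm Q w a,
      (D j).smul_mem_iff haw] at h'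
    have hdz : Q d • z = d := by
      refine sub_eq_zero.1 (hD.nd l _ ((D l).sub_mem ((D l).smul_mem _ hz) hd) fun y hy => ?_)
      rw [show Q d • z - d = -(d - Q d • (z + X')) + (-Q d) • X' by module, QuadraticMap.polar_add_left,
        QuadraticMap.polar_neg_left, QuadraticMap.polar_comm Q _ y, hD.orth l j hjl.symm y hy _ h',
        QuadraticMap.polar_smul_left, QuadraticMap.polar_comm Q X' y, hD.polar_eq_zero hy hX', smul_zero,
        neg_zero, add_zero]
    rcases hind hQz with hne | hnd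
    · exact hne (Q d) hdz
    -- the transformation stabilises every member
    have hXj : X' ∈ D j := by
      refine ((D j).smul_mem_iff (neg_ne_zero.2 hQd)).1 ?_
      have e : (-Q d) • X' = d - Q d • (z + X') := by
        linear_combination (norm := module) hdz
      rwa [e]
    refine hnd (dStab_of_eich_maps hD fun i v hv => ?_)
    rw [eich_apply Q hQX hXd]
    rcases eq_or_ne i l with rfl | hil
    · have h1 : QuadraticMap.polar Q v (z + X') = QuadraticMap.polar Q v z := by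
        rw [QuadraticMap.polar_add_right, hD.orth i j hjl.symm v hv X' hXj, add_zero]
      have h3 : QuadraticMap.polar Q v d = Q d * QuadraticMap.polar Q v z := by
        conv_lhs => rw [← hdz]
        rw [QuadraticMap.polar_smul_right, smul_eq_mul]
      rw [h1, h3, show Q d * QuadraticMap.polar Q v z + Q d * QuadraticMap.polar Q v z = 0 by
        linear_combination (Q d * QuadraticMap.polar Q v z) * h2, zero_smul, sub_zero]
      exact (D i).add_mem hv ((D i).smul_mem _ hd)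
    rcases eq_or_ne i j with rfl | hij
    · rw [hpd v hv, zero_add, show v + QuadraticMap.polar Q v (z + X') • d -
        (Q d * QuadraticMap.polar Q v (z + X')) • (z + X') =
        v + QuadraticMap.polar Q v (z + X') • (d - Q d • (z + X')) by module]
      exact (D i).add_mem hv ((D i).smul_mem _ h')
    · rw [QuadraticMap.polar_add_right, hD.orth i l hil v hv z hz, hD.orth i j hij v hv X' hXj,
        hD.orth i l hil v hv d hd]
      simpa using hv

/-- The effect of a pair of transvections. -/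
theorem mixed_of_move (hD : Data Q D k) (hQ : PolarNondeg Q) (hn : 5 ≤ Module.finrank F V) (h2 : (2 : F) = 0)
    (hk : 4 ≤ k) {M : Subgroup (qAut Q)} (hHM : dStab Q D ⊓ eichGroup Q ≤ M) {l : Fin t} {z X' y Y' : V}
    (hz : z ∈ D l) (hX' : X' ∈ qPerp Q (D l)) (hY' : Y' ∈ qPerp Q (D l)) (hQX : Q (z + X') = 0)
    (hXY : QuadraticMap.polar Q (z + X') (y + Y') = 0) (hX : z + X' ∉ D l)
    (hmem : eich Q (z + X') (y + Y') ∈ M) {v r : V} (hv : v ∈ D l) (hr : r ∈ D l) (hQv : Q v ≠ 0) (hQr : Q r ≠ 0)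
    (hzv : QuadraticMap.polar Q z v = 0) (hzr : QuadraticMap.polar Q z r = 0)
    (hyr : QuadraticMap.polar Q y r = 0) (hyv : QuadraticMap.polar Q y v ≠ 0)
    (hind : Q z ≠ 0 → ∀ s : F, s • z ≠ v) : Mixed Q D M := by
  obtain ⟨h, hh, happ⟩ := exists_pair_mem hD hQ hn h2 hv hr hQv hQr
  have hfix : ∀ x ∈ qPerp Q (D l), h.1 x = x := fun x hx => by
    rw [happ, qRefl_fix Q hQr ((QuadraticMap.polar_comm Q x r).trans (hD.polar_eq_zero hr hx)),
      qRefl_fix Q hQv ((QuadraticMap.polar_comm Q x v).trans (hD.polar_eq_zero hv hx))]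
  have hhX : h.1 (z + X') = z + X' := by
    rw [map_add, hfix X' hX', happ, qRefl_fix Q hQr hzr, qRefl_fix Q hQv hzv]
  obtain ⟨c, hc⟩ : ∃ c : F, c = -((Q v)⁻¹ * QuadraticMap.polar Q y v) := ⟨_, rfl⟩
  have hc0 : c ≠ 0 := hc ▸ neg_ne_zero.2 (mul_ne_zero (inv_ne_zero hQv) hyv)
  have hhY : h.1 (y + Y') = (y + Y') + c • v := by
    rw [map_add, hfix Y' hY', happ, qRefl_fix Q hQr hyr, qRefl_apply, hc, neg_smul]
    abel
  have hXv : QuadraticMap.polar Q (z + X') (c • v) = 0 := by
    rw [QuadraticMap.polar_smul_right, QuadraticMap.polar_add_left, hzv, QuadraticMap.polar_comm Q X' v,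
      hD.polar_eq_zero hv hX', add_zero, smul_zero]
  have h1 := mul_mem (mul_mem (hHM hh) hmem) (inv_mem (hHM hh))
  rw [eich_conj Q h hQX hXY, hhX, hhY, ← eich_mul Q hQX hXY hXv, Subgroup.mul_mem_cancel_left M hmem] at h1
  refine mixed_of_short_two hD hQ h2 hk hHM hz hX' hQX hX ((D l).smul_mem c hv)
    (smul_ne_zero hc0 fun h0 => hyv (by rw [h0, QuadraticMap.polar_zero_right])) hXv
    (fun hQz => Or.inl fun s hs => ?_) h1
  refine hind hQz (c⁻¹ * s) ?_
  rw [← smul_smul, hs, smul_smul, inv_mul_cancel₀ hc0, one_smul]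

/-- Each part either gives a mixed transformation or is of a restricted kind. -/
theorem mixed_or_part (hD : Data Q D k) (hQ : PolarNondeg Q) (hn : 5 ≤ Module.finrank F V) (h2 : (2 : F) = 0)
    (hk : 4 ≤ k) (hsmall : Fintype.card F = 2 → k = 4 → ∀ i, ∀ a ∈ D i, ∀ b ∈ D i, Q a = 0 → Q b = 0 →
      QuadraticMap.polar Q a b = 0 → a ≠ 0 → (∀ s : F, s • a ≠ b) → False)
    {M : Subgroup (qAut Q)} (hHM : dStab Q D ⊓ eichGroup Q ≤ M) {l : Fin t} {z X' y Y' : V} (hz : z ∈ D l)
    (hX' : X' ∈ qPerp Q (D l)) (hy : y ∈ D l) (hY' : Y' ∈ qPerp Q (D l)) (hQX : Q (z + X') = 0)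
    (hXY : QuadraticMap.polar Q (z + X') (y + Y') = 0) (hmem : eich Q (z + X') (y + Y') ∈ M)
    (hns : eich Q (z + X') (y + Y') ∉ dStab Q D) (hX : z + X' ∉ D l) :
    Mixed Q D M ∨ (Q y = 0 ∧ (z = 0 → y = 0) ∧ (z ≠ 0 → Q z = 0 → ∃ c : F, y = c • z) ∧
      (Q z ≠ 0 → QuadraticMap.polar Q z y ≠ 0)) := by
  have move : ∀ v ∈ D l, ∀ r ∈ D l, Q v ≠ 0 → Q r ≠ 0 → QuadraticMap.polar Q z v = 0 →
      QuadraticMap.polar Q z r = 0 → QuadraticMap.polar Q y r = 0 → QuadraticMap.polar Q y v ≠ 0 →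
      (Q z ≠ 0 → ∀ s : F, s • z ≠ v) → Mixed Q D M := fun v hv r hr hQv hQr h1 h3 h4 h5 h6 =>
    mixed_of_move hD hQ hn h2 hk hHM hz hX' hY' hQX hXY hX hmem hv hr hQv hQr h1 h3 h4 h5 h6
  have hR : ∀ a ∈ D l, ∀ b ∈ D l, QuadraticMap.polar Q a b = 1 →
      2 ≤ Module.finrank F (orthIn Q (orthIn Q (D l) a) b) := fun a _ b _ _ => by
    have h1 := finrank_orthIn_ge Q (D l) a
    have h3 := finrank_orthIn_ge Q (orthIn Q (D l) a) b
    rw [hD.dim] at h1
    omega
  rcases eq_or_ne z 0 with rfl | hz0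
  · rcases eq_or_ne y 0 with rfl | hy0
    · exact Or.inr ⟨map_zero Q, fun _ => rfl, fun h => absurd rfl h, fun h => absurd (map_zero Q) h⟩
    left
    obtain ⟨w₀, hw₀, hyw₀⟩ : ∃ w ∈ D l, QuadraticMap.polar Q y w ≠ 0 := by
      by_contra hc
      push Not at hc
      exact hy0 (hD.nd l y hy hc)
    obtain ⟨w, hw⟩ : ∃ w, w = (QuadraticMap.polar Q y w₀)⁻¹ • w₀ := ⟨_, rfl⟩
    have hyw : QuadraticMap.polar Q y w = 1 := by
      rw [hw, QuadraticMap.polar_smul_right, smul_eq_mul, inv_mul_cancel₀ hyw₀]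
    have hwl : w ∈ D l := hw ▸ (D l).smul_mem _ hw₀
    obtain ⟨r, hr, hQr⟩ := exists_aniso_in Q (ndOn_altPerp (hD.nd l) h2 hy hwl hyw) (fun h0 => by
      have := hR y hy w hwl hyw
      rw [h0, finrank_bot] at this
      omega)
    simp only [mem_orthIn] at hr
    by_cases hQw : Q w = 0
    · refine move (w + r) ((D l).add_mem hwl hr.1.1) r hr.1.1 ?_ hQr (by simp) (by simp) hr.1.2 ?_
        fun h => absurd (map_zero Q) h
      · rw [quad_add, hQw, hr.2, zero_add, add_zero]
        exact hQr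
      · rw [QuadraticMap.polar_add_right, hyw, hr.1.2, add_zero]
        exact one_ne_zero
    · exact move w hwl r hr.1.1 hQw hQr (by simp) (by simp) hr.1.2 (hyw ▸ one_ne_zero)
        fun h => absurd (map_zero Q) h
  by_cases hQz : Q z = 0
  · by_cases hdep : ∃ c : F, y = c • z
    · obtain ⟨c, rfl⟩ := hdep
      exact Or.inr ⟨by rw [quad_smul, hQz, mul_zero], fun h => absurd h hz0, fun _ _ => ⟨c, rfl⟩,
        fun h => absurd hQz h⟩
    push Not at hdep
    left
    by_cases hby : QuadraticMap.polar Q z y = 0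
    · -- a long transformation moves the vector
      obtain ⟨v, hv, hzv, hyv⟩ := exists_perp_moving (hD.nd l) hz hz0 hy fun s hs => hdep s hs.symm
      obtain ⟨hH, hperp⟩ : eich Q z v ∈ dStab Q D ⊓ eichGroup Q ∧
          ∀ x ∈ qPerp Q (D l), (eich Q z v).1 x = x :=
        ⟨hD.eich_mem_dStab hQ hz hv hQz hzv, fun x hx => by
          rw [eich_apply Q hQz hzv, (QuadraticMap.polar_comm Q x z).trans (hD.polar_eq_zero hz hx),
            (QuadraticMap.polar_comm Q x v).trans (hD.polar_eq_zero hv hx)]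
          simp⟩
      obtain ⟨d, hd⟩ : ∃ d, d = (-QuadraticMap.polar Q y v) • z := ⟨_, rfl⟩
      have hhX : (eich Q z v).1 (z + X') = z + X' := by rw [map_add, eich_fix Q hQz hzv, hperp X' hX']
      have hhY : (eich Q z v).1 (y + Y') = (y + Y') + d := by
        rw [map_add, hperp Y' hY', eich_apply Q hQz hzv, QuadraticMap.polar_comm Q y z, hby, hd]
        simp only [zero_smul, add_zero, mul_zero, neg_smul]
        abel
      have hXd : QuadraticMap.polar Q (z + X') d = 0 := by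
        rw [hd, QuadraticMap.polar_smul_right, QuadraticMap.polar_add_left, quad_polar_self, hQz,
          QuadraticMap.polar_comm Q X' z, hD.polar_eq_zero hz hX']
        simp
      have h1 := mul_mem (mul_mem (hHM hH) hmem) (inv_mem (hHM hH))
      rw [eich_conj Q _ hQX hXY, hhX, hhY, ← eich_mul Q hQX hXY hXd, Subgroup.mul_mem_cancel_left M hmem] at h1
      exact mixed_of_long hD hQ hHM (hd ▸ (D l).smul_mem _ hz) (hd ▸ smul_ne_zero (neg_ne_zero.2 hyv) hz0)
        (by rw [hd, quad_smul, hQz, mul_zero]) hQX hXd h1 hX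
    · obtain ⟨y₁, hy₁⟩ : ∃ y₁, y₁ = (QuadraticMap.polar Q z y)⁻¹ • y := ⟨_, rfl⟩
      have hzy₁ : QuadraticMap.polar Q z y₁ = 1 := by
        rw [hy₁, QuadraticMap.polar_smul_right, smul_eq_mul, inv_mul_cancel₀ hby]
      have hy₁l : y₁ ∈ D l := hy₁ ▸ (D l).smul_mem _ hy
      obtain ⟨r, hr, hQr⟩ := exists_aniso_in Q (ndOn_altPerp (hD.nd l) h2 hz hy₁l hzy₁) (fun h0 => by
        have := hR z hz y₁ hy₁l hzy₁
        rw [h0, finrank_bot] at this
        omega)
      simp only [mem_orthIn] at hr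
      have hyr : QuadraticMap.polar Q y r = 0 := by
        have h := hr.2
        rw [hy₁, QuadraticMap.polar_smul_left, smul_eq_mul, mul_eq_zero] at h
        exact h.resolve_left (inv_ne_zero hby)
      refine move (z + r) ((D l).add_mem hz hr.1.1) r hr.1.1 ?_ hQr ?_ hr.1.2 hyr ?_ fun h => absurd hQz h
      · rw [quad_add, hQz, hr.1.2, zero_add, add_zero]
        exact hQr
      · rw [QuadraticMap.polar_add_right, polar_self_two h2, hr.1.2, add_zero]
      · rw [QuadraticMap.polar_add_right, hyr, add_zero, QuadraticMap.polar_comm]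
        exact hby
  by_cases hby : QuadraticMap.polar Q z y = 0
  · by_cases hdep : ∃ c : F, y = c • z
    · -- the moved part lies along one line
      left
      obtain ⟨c, rfl⟩ := hdep
      obtain ⟨u, hu, hu0, hQu⟩ := exists_singular_mem Q (C := orthIn Q (D l) z) (by
        have := finrank_orthIn_ge Q (D l) z
        rw [hD.dim] at this
        omega)
      rw [mem_orthIn] at hu
      obtain ⟨hul, hzu⟩ := hu
      have huz : QuadraticMap.polar Q u z = 0 := (QuadraticMap.polar_comm Q u z).trans hzu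
      obtain ⟨s, hs⟩ : ∃ s : F, s = c + Q (c • z + Y') := ⟨_, rfl⟩
      obtain ⟨W, hW⟩ : ∃ W, W = c • z + Y' - s • (z + X') := ⟨_, rfl⟩
      have hXW : QuadraticMap.polar Q (z + X') W = 0 := by
        rw [hW, QuadraticMap.polar_sub_right, QuadraticMap.polar_smul_right, hXY, polar_self_two h2, smul_zero,
          sub_zero]
      have heW : eich Q (z + X') W = eich Q (z + X') (c • z + Y') := by
        rw [hW, sub_eq_add_neg, ← neg_smul, eich_add_self Q hQX hXY]
      by_cases hWl : W ∈ D l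
      · by_cases hW0 : W = 0
        · refine absurd ?_ hns
          rw [← heW, hW0, eich_zero Q hQX]
          exact one_mem _
        exact mixed_of_short_two hD hQ h2 hk hHM hz hX' hQX hX hWl hW0 hXW (fun _ => Or.inr (heW ▸ hns))
          (heW ▸ hmem)
      obtain ⟨w, hw, huw, hzw⟩ := exists_perp_moving (hD.nd l) hul hu0 hz fun σ hσ => hQz (by
        rw [← hσ, quad_smul, hQu, mul_zero])
      refine mixed_of_fixed hD hQ hHM hmem hul hu0 hQu hw huw ?_ ?_
      · rw [eich_apply Q hQX hXY]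
        simp [QuadraticMap.polar_add_right, QuadraticMap.polar_smul_right, huz, hD.polar_eq_zero hul hX',
          hD.polar_eq_zero hul hY']
      · intro h
        refine hWl (((D l).smul_mem_iff hzw).1 ?_)
        have h' := (D l).sub_mem h hw
        rw [eich_apply Q hQX hXY, QuadraticMap.polar_add_right, hD.polar_eq_zero hw hX',
          QuadraticMap.polar_add_right, QuadraticMap.polar_smul_right, hD.polar_eq_zero hw hY',
          QuadraticMap.polar_comm Q w z, smul_eq_mul, add_zero, add_zero] at h'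
        convert h' using 1
        rw [hW, hs]
        module
    push Not at hdep
    left
    obtain ⟨w, hw, hzw, hyw⟩ := exists_perp_moving (hD.nd l) hz hz0 hy fun s hs => hdep s hs.symm
    have hyz : QuadraticMap.polar Q y z = 0 := (QuadraticMap.polar_comm Q y z).trans hby
    have hnot : ∀ v, QuadraticMap.polar Q y v ≠ 0 → ∀ s : F, s • z ≠ v := fun v hv s hs => hv (by
      rw [← hs, QuadraticMap.polar_smul_right, hyz, smul_zero])
    by_cases hQw : Q w = 0
    · refine move (w + z) ((D l).add_mem hw hz) z hz ?_ hQz ?_ (polar_self_two h2 z) hyz ?_ fun _ => ?_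
      · rw [quad_add, hQw, QuadraticMap.polar_comm, hzw, zero_add, add_zero]
        exact hQz
      · rw [QuadraticMap.polar_add_right, hzw, polar_self_two h2, add_zero]
      · rw [QuadraticMap.polar_add_right, hyz, add_zero]
        exact hyw
      · exact hnot _ (by rw [QuadraticMap.polar_add_right, hyz, add_zero]; exact hyw)
    · exact move w hw z hz hQw hQz hzw (polar_self_two h2 z) hyz hyw fun _ => hnot w hyw
  -- the two parts span a non-degenerate plane
  obtain ⟨y₁, hy₁⟩ : ∃ y₁, y₁ = (QuadraticMap.polar Q z y)⁻¹ • y := ⟨_, rfl⟩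
  have hzy₁ : QuadraticMap.polar Q z y₁ = 1 := by
    rw [hy₁, QuadraticMap.polar_smul_right, smul_eq_mul, inv_mul_cancel₀ hby]
  have hy₁l : y₁ ∈ D l := hy₁ ▸ (D l).smul_mem _ hy
  obtain ⟨R, hRdef⟩ : ∃ R, R = orthIn Q (orthIn Q (D l) z) y₁ := ⟨_, rfl⟩
  have hRnd : NdOn Q R := hRdef ▸ ndOn_altPerp (hD.nd l) h2 hz hy₁l hzy₁
  have hRd : 2 ≤ Module.finrank F R := hRdef ▸ hR z hz y₁ hy₁l hzy₁
  have hRmem : ∀ x ∈ R, x ∈ D l ∧ QuadraticMap.polar Q z x = 0 ∧ QuadraticMap.polar Q y x = 0 := by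
    intro x hx
    rw [hRdef] at hx
    simp only [mem_orthIn] at hx
    refine ⟨hx.1.1, hx.1.2, ?_⟩
    have h := hx.2
    rw [hy₁, QuadraticMap.polar_smul_left, smul_eq_mul, mul_eq_zero] at h
    exact h.resolve_left (inv_ne_zero hby)
  have hRbot : R ≠ ⊥ := fun h0 => by rw [h0, finrank_bot] at hRd; omega
  obtain ⟨r, hr, hQr⟩ := exists_aniso_in Q hRnd hRbot
  by_cases hr0 : ∃ r₀ ∈ R, r₀ ≠ 0 ∧ Q r₀ ≠ Q z
  · left
    obtain ⟨r₀, hr₀, hr₀0, hne⟩ := hr0
    obtain ⟨hr₀l, hzr₀, hyr₀⟩ := hRmem r₀ hr₀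
    obtain ⟨hrl, hzr, hyr⟩ := hRmem r hr
    refine move (z + r₀) ((D l).add_mem hz hr₀l) r hrl ?_ hQr ?_ hzr hyr ?_ fun _ s hs => ?_
    · rw [quad_add, hzr₀, add_zero]
      intro h0
      refine hne ?_
      linear_combination h0 - Q z * h2
    · rw [QuadraticMap.polar_add_right, polar_self_two h2, hzr₀, add_zero]
    · rw [QuadraticMap.polar_add_right, hyr₀, add_zero, QuadraticMap.polar_comm]
      exact hby
    · have h := congrArg (QuadraticMap.polar Q y) hs
      rw [QuadraticMap.polar_smul_right, QuadraticMap.polar_add_right, hyr₀, add_zero,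
        QuadraticMap.polar_comm Q y z, smul_eq_mul] at h
      have hs1 : s = 1 := mul_right_cancel₀ hby (h.trans (one_mul _).symm)
      rw [hs1, one_smul] at hs
      exact hr₀0 (left_eq_add.1 hs)
  push Not at hr0
  right
  have hq2 : Fintype.card F = 2 := by
    by_contra hq
    classical
    obtain ⟨c, hc⟩ := Finset.exists_mem_notMem_of_card_lt_card
      (s := ({0, Q z} : Finset F)) (t := Finset.univ) (by
        rw [Finset.card_univ]
        have := Fintype.one_lt_card (α := F)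
        exact lt_of_le_of_lt Finset.card_le_two (by omega))
    simp only [Finset.mem_univ, Finset.mem_insert, Finset.mem_singleton, true_and, not_or] at hc
    obtain ⟨a, ha, hQa⟩ := exists_value_in hRnd hRd hc.1
    exact hc.2 (hQa ▸ hr0 a ha fun h0 => hc.1 (by rw [← hQa, h0, map_zero]))
  have hval : ∀ x : F, x ≠ 0 → x = 1 := fun x hx => by
    simpa [hq2] using FiniteField.pow_card_sub_one_eq_one x hx
  have hk4 : k = 4 := by
    by_contra hk'
    obtain ⟨a, ha, ha0, hQa⟩ := exists_singular_mem Q (C := R) (by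
      rw [hRdef]
      have h1 := finrank_orthIn_ge Q (D l) z
      have h3 := finrank_orthIn_ge Q (orthIn Q (D l) z) y₁
      rw [hD.dim] at h1
      omega)
    exact hQz ((hr0 a ha ha0).symm.trans hQa)
  refine ⟨?_, fun h => absurd h hz0, fun _ h => absurd h hQz, fun _ => hby⟩
  by_contra hQy
  have hr0' : r ≠ 0 := fun h0 => hQr (by rw [h0, map_zero])
  obtain ⟨r', hr', hrr'⟩ : ∃ r' ∈ R, QuadraticMap.polar Q r r' ≠ 0 := by
    by_contra hc
    push Not at hc
    exact hr0' (hRnd r hr hc)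
  obtain ⟨hrl, hzr, hyr⟩ := hRmem r hr
  obtain ⟨hr'l, hzr', hyr'⟩ := hRmem r' hr'
  have hr'0 : r' ≠ 0 := by rintro rfl; simp at hrr'
  have hQr' := hr0 r' hr' hr'0
  refine hsmall hq2 hk4 l (z + r) ((D l).add_mem hz hrl) (y + r') ((D l).add_mem hy hr'l) ?_ ?_ ?_ ?_ ?_
  · rw [quad_add, hzr, hval _ hQz, hval _ hQr]
    linear_combination h2
  · rw [quad_add, hyr', hval _ hQy, hQr', hval _ hQz]
    linear_combination h2
  · rw [QuadraticMap.polar_add_left, QuadraticMap.polar_add_right, QuadraticMap.polar_add_right, hval _ hby, hzr',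
      QuadraticMap.polar_comm Q r y, hyr, hval _ hrr']
    linear_combination h2
  · intro h0
    have h := congrArg (QuadraticMap.polar Q y) h0
    rw [QuadraticMap.polar_add_right, hyr, add_zero, QuadraticMap.polar_zero_right, QuadraticMap.polar_comm] at h
    exact hby h
  · intro s hs
    have h := congrArg (QuadraticMap.polar Q z) hs
    rw [QuadraticMap.polar_smul_right, QuadraticMap.polar_add_right, polar_self_two h2, hzr,
      QuadraticMap.polar_add_right, hzr'] at h
    simp only [add_zero, smul_zero] at h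
    exact hby h.symm

/-- An Eichler transformation outside the stabiliser gives a mixed one. -/
theorem mixed_of_moving_two (hD : Data Q D k) (hQ : PolarNondeg Q) (hn : 5 ≤ Module.finrank F V)
    (h2 : (2 : F) = 0) (hk : 4 ≤ k)
    (hsmall : Fintype.card F = 2 → k = 4 → ∀ i, ∀ a ∈ D i, ∀ b ∈ D i, Q a = 0 → Q b = 0 →
      QuadraticMap.polar Q a b = 0 → a ≠ 0 → (∀ s : F, s • a ≠ b) → False)
    {M : Subgroup (qAut Q)} (hHM : dStab Q D ⊓ eichGroup Q ≤ M) {X Y : V} (hQX : Q X = 0)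
    (hXY : QuadraticMap.polar Q X Y = 0) (hmem : eich Q X Y ∈ M) (hns : eich Q X Y ∉ dStab Q D) :
    Mixed Q D M := by
  have key : ∀ X Y, Q X = 0 → QuadraticMap.polar Q X Y = 0 → eich Q X Y ∈ M → eich Q X Y ∉ dStab Q D →
      Mixed Q D M ∨ ∀ j, ∀ z ∈ D j, ∀ X' ∈ qPerp Q (D j), z + X' = X → ∀ y ∈ D j, ∀ Y' ∈ qPerp Q (D j),
        y + Y' = Y → Q y = 0 ∧ (z = 0 → y = 0) ∧ (z ≠ 0 → Q z = 0 → ∃ c : F, y = c • z) ∧
          (Q z ≠ 0 → QuadraticMap.polar Q z y ≠ 0) := by
    intro X Y hQX hXY hmem hns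
    by_cases hX : ∃ l, X ∈ D l
    · obtain ⟨l, hXl⟩ := hX
      refine Or.inl (mixed_of_eich hD hQ hHM hXl (fun h0 => hns ?_) hQX hXY hmem fun hY => hns ?_)
      · rw [h0]
        refine dStab_of_eich_maps hD fun j w hw => ?_
        rw [eich_apply Q (map_zero Q) (QuadraticMap.polar_zero_left Q Y)]
        simpa using hw
      · exact (hD.eich_mem_dStab hQ hXl hY hQX hXY).1
    push Not at hX
    by_contra hc
    rw [not_or] at hc
    obtain ⟨hnm, hc⟩ := hc
    refine hc fun j z hz X' hX' hXe y hy Y' hY' hYe => ?_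
    subst hXe hYe
    exact (mixed_or_part hD hQ hn h2 hk hsmall hHM hz hX' hy hY' hQX hXY hmem hns (hX j)).resolve_left hnm
  rcases key X Y hQX hXY hmem hns with h | hparts
  · exact h
  obtain ⟨c, hc⟩ : ∃ c : F, ∃ j, ∃ z ∈ D j, ∃ X' ∈ qPerp Q (D j), z + X' = X ∧ z ≠ 0 ∧
      ∃ y ∈ D j, ∃ Y' ∈ qPerp Q (D j), y + Y' = Y ∧
        ((Q z ≠ 0 ∧ c = 0) ∨ ((∀ i, ∀ a ∈ D i, ∀ r ∈ qPerp Q (D i), a + r = X → Q a = 0) ∧ y = c • z)) := by
    by_cases hbad : ∃ i, ∃ a ∈ D i, ∃ r ∈ qPerp Q (D i), a + r = X ∧ Q a ≠ 0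
    · obtain ⟨i, a, ha, r, hr, hsum, hQa⟩ := hbad
      obtain ⟨y, hy, Y', hY', hYe⟩ := exists_add_qPerp Q hQ (hD.nd i) Y
      exact ⟨0, i, a, ha, r, hr, hsum, fun h0 => hQa (by rw [h0, map_zero]), y, hy, Y', hY', hYe,
        Or.inl ⟨hQa, rfl⟩⟩
    push Not at hbad
    obtain ⟨j, z, hz, X', hX', hXe, hz0⟩ : ∃ j, ∃ z ∈ D j, ∃ X' ∈ qPerp Q (D j), z + X' = X ∧ z ≠ 0 := by
      by_contra hall
      push Not at hall
      have hX0 : X = 0 := hD.eq_zero_of_perp_all hQ fun j => by
        obtain ⟨a, ha, r, hr, hsum⟩ := exists_add_qPerp Q hQ (hD.nd j) X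
        rw [← hsum, hall j a ha r hr hsum, zero_add]
        exact hr
      refine hns ?_
      rw [hX0]
      refine dStab_of_eich_maps hD fun j w hw => ?_
      rw [eich_apply Q (map_zero Q) (QuadraticMap.polar_zero_left Q Y)]
      simpa using hw
    obtain ⟨y, hy, Y', hY', hYe⟩ := exists_add_qPerp Q hQ (hD.nd j) Y
    obtain ⟨c, hc⟩ := (hparts j z hz X' hX' hXe y hy Y' hY' hYe).2.2.1 hz0 (hbad j z hz X' hX' hXe)
    exact ⟨c, j, z, hz, X', hX', hXe, hz0, y, hy, Y', hY', hYe, Or.inr ⟨hbad, hc⟩⟩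
  obtain ⟨j, z, hz, X', hX', hXe, hz0, y, hy, Y', hY', hYe, hcase⟩ := hc
  obtain ⟨W, hW⟩ : ∃ W, W = Y + (-c) • X := ⟨_, rfl⟩
  have hXW : QuadraticMap.polar Q X W = 0 := by
    rw [hW, QuadraticMap.polar_add_right, hXY, QuadraticMap.polar_smul_right, polar_self_two h2, smul_zero,
      add_zero]
  have heW : eich Q X W = eich Q X Y := by rw [hW, eich_add_self Q hQX hXY]
  have hQW : Q W = 0 := by
    rw [hW]
    rcases hcase with ⟨-, rfl⟩ | ⟨hall, -⟩
    · rw [neg_zero, zero_smul, add_zero]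
      refine hD.quad_eq_zero_of_parts hQ fun i a ha r hr hsum => ?_
      obtain ⟨z', hz', X'', hX'', hXe'⟩ := exists_add_qPerp Q hQ (hD.nd i) X
      exact (hparts i z' hz' X'' hX'' hXe' a ha r hr hsum).1
    · refine hD.quad_eq_zero_of_parts hQ fun i a ha r hr hsum => ?_
      obtain ⟨z', hz', X'', hX'', hXe'⟩ := exists_add_qPerp Q hQ (hD.nd i) X
      obtain ⟨y', hy', Y'', hY'', hYe'⟩ := exists_add_qPerp Q hQ (hD.nd i) Y
      obtain ⟨-, h1, h3, -⟩ := hparts i z' hz' X'' hX'' hXe' y' hy' Y'' hY'' hYe'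
      have hmem' : a - (y' + (-c) • z') ∈ qPerp Q (D i) := by
        have e : a - (y' + (-c) • z') = Y'' + (-c) • X'' - r := by
          rw [← hXe', ← hYe'] at hsum
          linear_combination (norm := module) hsum
        rw [e]
        exact (qPerp Q (D i)).sub_mem ((qPerp Q (D i)).add_mem hY'' ((qPerp Q (D i)).smul_mem _ hX'')) hr
      have ha' : a = y' + (-c) • z' := sub_eq_zero.1 (hD.nd i _
        ((D i).sub_mem ha ((D i).add_mem hy' ((D i).smul_mem _ hz')))
        fun v hv => (QuadraticMap.polar_comm Q _ v).trans (hD.polar_eq_zero hv hmem'))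
      rw [ha']
      rcases eq_or_ne z' 0 with rfl | hz'0
      · rw [h1 rfl]
        simp
      · have hQz' := hall i z' hz' X'' hX'' hXe'
        obtain ⟨c', hc'⟩ := h3 hz'0 hQz'
        rw [hc', ← add_smul, quad_smul, hQz', mul_zero]
  have hswap : eich Q W (-X) = eich Q X W := (eich_antisymm hQX hQW hXW).symm
  have hWX : QuadraticMap.polar Q W (-X) = 0 := by
    rw [QuadraticMap.polar_neg_right, QuadraticMap.polar_comm, hXW, neg_zero]
  rcases key W (-X) hQW hWX (by rwa [hswap, heW]) (by rwa [hswap, heW]) with h | hparts'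
  · exact h
  obtain ⟨-, h1, h3, -⟩ := hparts' j (y + (-c) • z) ((D j).add_mem hy ((D j).smul_mem _ hz)) (Y' + (-c) • X')
    ((qPerp Q (D j)).add_mem hY' ((qPerp Q (D j)).smul_mem _ hX')) (by rw [hW, ← hXe, ← hYe]; module)
    (-z) ((D j).neg_mem hz) (-X') ((qPerp Q (D j)).neg_mem hX') (by rw [← hXe]; abel)
  exfalso
  rcases hcase with ⟨hQz, rfl⟩ | ⟨-, hyz⟩
  · rw [neg_zero, zero_smul, add_zero] at h1 h3
    obtain ⟨-, -, -, h4⟩ := hparts j z hz X' hX' hXe y hy Y' hY' hYe
    have hy0 : y ≠ 0 := by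
      rintro rfl
      exact h4 hQz (QuadraticMap.polar_zero_right Q z)
    obtain ⟨c', hc'⟩ := h3 hy0 (hparts j z hz X' hX' hXe y hy Y' hY' hYe).1
    have hz' : z = (-c') • y := by rw [neg_smul, ← hc', neg_neg]
    exact hQz (by rw [hz', quad_smul, (hparts j z hz X' hX' hXe y hy Y' hY' hYe).1, mul_zero])
  · refine hz0 (neg_eq_zero.1 (h1 ?_))
    rw [hyz, neg_smul, add_neg_cancel]

/-- The stabiliser of an orthogonal decomposition is maximal in characteristic two. -/
theorem eichGroup_le_of_decomp_two (hD : Data Q D k) (hQ : PolarNondeg Q) (hn : 5 ≤ Module.finrank F V)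
    (h2 : (2 : F) = 0) (hk : 4 ≤ k)
    (hsmall : Fintype.card F = 2 → k = 4 → ∀ i, ∀ a ∈ D i, ∀ b ∈ D i, Q a = 0 → Q b = 0 →
      QuadraticMap.polar Q a b = 0 → a ≠ 0 → (∀ s : F, s • a ≠ b) → False)
    {M : Subgroup (qAut Q)} (hHM : dStab Q D ⊓ eichGroup Q ≤ M) (hne : ¬ M ≤ dStab Q D) :
    eichGroup Q ≤ M := by
  obtain ⟨g, hgM, hg⟩ := SetLike.not_le_iff_exists.1 hne
  obtain ⟨X, Y, hQX, hXY, hmem, hns⟩ := exists_moving hD hQ (by omega) hHM hgM hg
  exact eichGroup_le_of_mixed_four hD hQ hn hk hHM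
    (mixed_of_moving_two hD hQ hn h2 hk hsmall hHM hQX hXY hmem hns)

end CfsgLib.Classical22.OrthDecomp
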