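/-
Maximality of stabilisers of non-degenerate subspaces in `omegaGL`.
-/
import Cfsg.Agent.Lib.Classical22.OrthMaxNondeg
import Cfsg.Agent.Lib.Classical22.OrthMaxMatrix

set_option autoImplicit false

namespace CfsgLib.Classical22

open CfsgLib.Classical Cfsg

section

variable {F V : Type*} [Field F] [AddCommGroup V] [Module F V] (Q : QuadraticForm F V)
variable [FiniteDimensional F V] [Fintype F]

/-- A non-degenerate space of even dimension is isometric to itself with the form negated. -/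
theorem exists_anti_isometry (hQ : PolarNondeg Q) : ∀ (j : ℕ) (W : Submodule F V), NdOn Q W →
    Module.finrank F W = 2 * j → ∃ ψ : V →ₗ[F] V, ∀ z ∈ W, ψ z ∈ W ∧ Q (ψ z) = -Q z := by
  by_cases h2 : (2 : F) = 0
  · refine fun _ W _ _ => ⟨LinearMap.id, fun z hz => ⟨hz, ?_⟩⟩
    rw [LinearMap.id_apply, eq_neg_iff_add_eq_zero, ← two_mul, h2, zero_mul]
  intro j
  induction j with
  | zero =>
    intro W _ hd
    have hW : W = ⊥ := Submodule.finrank_eq_zero.1 (by omega)
    refine ⟨0, fun z hz => ?_⟩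
    rw [hW, Submodule.mem_bot] at hz
    subst hz
    simp
  | succ j ih =>
    intro W hW hd
    obtain ⟨v, hv, hQv⟩ := exists_aniso_in Q hW fun h => by
      rw [h, finrank_bot] at hd
      omega
    have hvW : Submodule.span F {v} ≤ W := (Submodule.span_singleton_le_iff_mem _ _).2 hv
    have hv0 : v ≠ 0 := fun h => hQv (by rw [h, map_zero])
    have hd1 := finrank_inf_qPerp Q hQ hW hvW
    rw [finrank_span_singleton hv0] at hd1
    have hvv : QuadraticMap.polar Q v v ≠ 0 := by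
      rw [quad_polar_self]
      exact mul_ne_zero h2 hQv
    have hW1 : NdOn Q (W ⊓ qPerp Q (Submodule.span F {v})) := by
      intro z hz hzz
      refine hW z hz.1 fun y hy => ?_
      obtain ⟨c, hc⟩ : ∃ c, c = QuadraticMap.polar Q v y / QuadraticMap.polar Q v v := ⟨_, rfl⟩
      have hmem : y - c • v ∈ W ⊓ qPerp Q (Submodule.span F {v}) := ⟨W.sub_mem hy (W.smul_mem c hv),
        (mem_qPerp_singleton Q).2 (by
          rw [QuadraticMap.polar_sub_right, QuadraticMap.polar_smul_right, smul_eq_mul, hc, div_mul_cancel₀ _ hvv,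
            sub_self])⟩
      have h := hzz _ hmem
      rwa [QuadraticMap.polar_sub_right, QuadraticMap.polar_smul_right, QuadraticMap.polar_comm Q z v,
        (mem_qPerp_singleton Q).1 hz.2, smul_zero, sub_zero] at h
    obtain ⟨w, ⟨hw, hwv'⟩, hQw⟩ := exists_aniso_in Q hW1 fun h => by
      rw [h, finrank_bot] at hd1
      omega
    have hvw : QuadraticMap.polar Q v w = 0 := (mem_qPerp_singleton Q).1 hwv'
    have hww : QuadraticMap.polar Q w w ≠ 0 := by
      rw [quad_polar_self]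
      exact mul_ne_zero h2 hQw
    obtain ⟨P, hP⟩ : ∃ P, P = Submodule.span F {v} ⊔ Submodule.span F {w} := ⟨_, rfl⟩
    have hvP : v ∈ P := hP ▸ Submodule.mem_sup_left (Submodule.mem_span_singleton_self v)
    have hwP : w ∈ P := hP ▸ Submodule.mem_sup_right (Submodule.mem_span_singleton_self w)
    have hPW : P ≤ W := hP ▸ sup_le hvW ((Submodule.span_singleton_le_iff_mem _ _).2 hw)
    have hPel : ∀ z ∈ P, ∃ s t : F, s • v + t • w = z := by
      intro z hz
      rw [hP, Submodule.mem_sup] at hz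
      obtain ⟨a, ha, b, hb, rfl⟩ := hz
      obtain ⟨s, rfl⟩ := Submodule.mem_span_singleton.1 ha
      obtain ⟨t, rfl⟩ := Submodule.mem_span_singleton.1 hb
      exact ⟨s, t, rfl⟩
    have hPnd : NdOn Q P := by
      intro z hz hzz
      obtain ⟨s, t, rfl⟩ := hPel z hz
      have e1 := hzz v hvP
      have e2 := hzz w hwP
      rw [QuadraticMap.polar_add_left, QuadraticMap.polar_smul_left, QuadraticMap.polar_smul_left, smul_eq_mul,
        smul_eq_mul] at e1 e2
      rw [QuadraticMap.polar_comm Q w v, hvw, mul_zero, add_zero, mul_eq_zero] at e1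
      rw [hvw, mul_zero, zero_add, mul_eq_zero] at e2
      rw [e1.resolve_right hvv, e2.resolve_right hww, zero_smul, zero_smul, add_zero]
    have hPd : Module.finrank F P = 2 := by
      have h := Submodule.finrank_sup_add_finrank_inf_eq (Submodule.span F {v}) (Submodule.span F {w})
      have h0 : Submodule.span F {v} ⊓ Submodule.span F {w} = ⊥ := (Submodule.eq_bot_iff _).2 fun z hz => by
        obtain ⟨s, rfl⟩ := Submodule.mem_span_singleton.1 hz.1
        obtain ⟨t, ht⟩ := Submodule.mem_span_singleton.1 hz.2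
        have e := congrArg (QuadraticMap.polar Q v) ht
        rw [QuadraticMap.polar_smul_right, QuadraticMap.polar_smul_right, hvw, smul_zero, smul_eq_mul] at e
        rw [(mul_eq_zero.1 e.symm).resolve_right hvv, zero_smul]
      rw [← hP, h0, finrank_bot, finrank_span_singleton hv0,
        finrank_span_singleton (fun h : w = 0 => hQw (by rw [h, map_zero]))] at h
      omega
    obtain ⟨W', hW'⟩ : ∃ W', W' = W ⊓ qPerp Q P := ⟨_, rfl⟩
    have hsplit : ∀ z ∈ W, z - (QuadraticMap.polar Q v z / QuadraticMap.polar Q v v) • v -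
        (QuadraticMap.polar Q w z / QuadraticMap.polar Q w w) • w ∈ W' := by
      intro z hz
      refine hW' ▸ ⟨W.sub_mem (W.sub_mem hz (W.smul_mem _ hv)) (W.smul_mem _ hw), (mem_qPerp Q).2 fun p hp => ?_⟩
      obtain ⟨s, t, rfl⟩ := hPel p hp
      simp only [QuadraticMap.polar_add_left, QuadraticMap.polar_smul_left, QuadraticMap.polar_sub_right,
        QuadraticMap.polar_smul_right, smul_eq_mul, hvw, QuadraticMap.polar_comm Q w v,
        mul_zero, zero_add, sub_zero, add_zero]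
      field_simp
      ring
    have hW'nd : NdOn Q W' := by
      intro z hz hzz
      rw [hW'] at hz
      refine hW z hz.1 fun y hy => ?_
      have h := hzz _ (hsplit y hy)
      have e1 : QuadraticMap.polar Q z v = 0 :=
        (QuadraticMap.polar_comm Q z v).trans ((mem_qPerp Q).1 hz.2 v hvP)
      have e2 : QuadraticMap.polar Q z w = 0 :=
        (QuadraticMap.polar_comm Q z w).trans ((mem_qPerp Q).1 hz.2 w hwP)
      rwa [QuadraticMap.polar_sub_right, QuadraticMap.polar_sub_right, QuadraticMap.polar_smul_right,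
        QuadraticMap.polar_smul_right, e1, e2, smul_zero, smul_zero, sub_zero, sub_zero] at h
    have hW'd : Module.finrank F W' = 2 * j := by
      have := finrank_inf_qPerp Q hQ hW hPW
      rw [hW']
      omega
    obtain ⟨ψ', hψ'⟩ := ih W' hW'nd hW'd
    obtain ⟨⟨v', hv'P⟩, hv'Q⟩ := exists_value (Q.comp P.subtype) (polarNondeg_comp Q hPnd) (by omega)
      (neg_ne_zero.2 hQv)
    change Q v' = -Q v at hv'Q
    obtain ⟨x, y, hxy⟩ := hPel v' hv'P
    obtain ⟨w', hw'⟩ : ∃ w', w' = (-(y * Q w / Q v)) • v + x • w := ⟨_, rfl⟩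
    have hv'Q' : x * x * Q v + y * y * Q w = -Q v := by
      rw [← hv'Q, ← hxy, quad_add, quad_smul, quad_smul, QuadraticMap.polar_smul_left,
        QuadraticMap.polar_smul_right, hvw, smul_zero, smul_zero, add_zero]
    have hw'Q : Q w' = -Q w := by
      rw [hw', quad_add, quad_smul, quad_smul, QuadraticMap.polar_smul_left, QuadraticMap.polar_smul_right, hvw,
        smul_zero, smul_zero, add_zero]
      obtain ⟨c, hc⟩ : ∃ c, c = y * Q w / Q v := ⟨_, rfl⟩
      rw [← hc]
      rw [eq_div_iff hQv] at hc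
      refine mul_right_cancel₀ hQv ?_
      linear_combination Q w * hv'Q' + (c * Q v + y * Q w) * hc
    have hw'P : w' ∈ P := hw' ▸ P.add_mem (P.smul_mem _ hvP) (P.smul_mem _ hwP)
    have hpol' : QuadraticMap.polar Q v' w' = 0 := by
      rw [← hxy, hw']
      simp only [QuadraticMap.polar_add_left, QuadraticMap.polar_add_right, QuadraticMap.polar_smul_left,
        QuadraticMap.polar_smul_right, smul_eq_mul, hvw, QuadraticMap.polar_comm Q w v, quad_polar_self]
      field_simp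
      ring
    obtain ⟨c1, hc1⟩ : ∃ c : V →ₗ[F] F,
        c = (QuadraticMap.polar Q v v)⁻¹ • QuadraticMap.polarBilin Q v := ⟨_, rfl⟩
    obtain ⟨c2, hc2⟩ : ∃ c : V →ₗ[F] F,
        c = (QuadraticMap.polar Q w w)⁻¹ • QuadraticMap.polarBilin Q w := ⟨_, rfl⟩
    refine ⟨c1.smulRight v' + c2.smulRight w' + ψ' ∘ₗ (LinearMap.id - c1.smulRight v - c2.smulRight w),
      fun z hz => ?_⟩
    have e1 : c1 z = QuadraticMap.polar Q v z / QuadraticMap.polar Q v v := by
      rw [hc1, div_eq_inv_mul]; rfl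
    have e2 : c2 z = QuadraticMap.polar Q w z / QuadraticMap.polar Q w w := by
      rw [hc2, div_eq_inv_mul]; rfl
    obtain ⟨r, hr⟩ : ∃ r, r = z - c1 z • v - c2 z • w := ⟨_, rfl⟩
    have hrW : r ∈ W' := by rw [hr, e1, e2]; exact hsplit z hz
    obtain ⟨hr1, hr2⟩ := hψ' r hrW
    simp only [LinearMap.add_apply, LinearMap.smulRight_apply, LinearMap.comp_apply, LinearMap.sub_apply,
      LinearMap.id_apply, ← hr]
    have hr1' := hW' ▸ hr1
    have hrW' := hW' ▸ hrW
    refine ⟨W.add_mem (W.add_mem (W.smul_mem _ (hPW hv'P)) (W.smul_mem _ (hPW hw'P))) hr1'.1, ?_⟩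
    have hz' : z = c1 z • v + c2 z • w + r := by rw [hr]; abel
    conv_rhs => rw [hz']
    simp only [quad_add, quad_smul, QuadraticMap.polar_add_left, QuadraticMap.polar_smul_left,
      QuadraticMap.polar_smul_right, hpol', hvw, (mem_qPerp Q).1 hr1'.2 v' hv'P, (mem_qPerp Q).1 hr1'.2 w' hw'P,
      (mem_qPerp Q).1 hrW'.2 v hvP, (mem_qPerp Q).1 hrW'.2 w hwP, hv'Q, hw'Q, hr2, smul_zero, add_zero]
    ring

/-- Isometric orthogonal halves of even dimension give a totally singular half. -/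
theorem exists_singular_half (hQ : PolarNondeg Q) {j : ℕ} {W : Submodule F V} (hW : NdOn Q W)
    (hd : Module.finrank F W = 2 * j) (φ : V →ₗ[F] V) (hφ : ∀ z ∈ W, φ z ∈ qPerp Q W ∧ Q (φ z) = Q z) :
    ∃ U : Submodule F V, (∀ u ∈ U, Q u = 0) ∧ Module.finrank F U = 2 * j := by
  obtain ⟨ψ, hψ⟩ := exists_anti_isometry Q hQ j W hW hd
  refine ⟨LinearMap.range ((LinearMap.id + φ ∘ₗ ψ) ∘ₗ W.subtype), ?_, ?_⟩
  · rintro _ ⟨⟨z, hz⟩, rfl⟩
    change Q (z + φ (ψ z)) = 0
    obtain ⟨h1, h2⟩ := hψ z hz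
    obtain ⟨h3, h4⟩ := hφ _ h1
    rw [quad_add, h4, h2, (mem_qPerp Q).1 h3 z hz]
    ring
  · rw [LinearMap.finrank_range_of_inj, hd]
    refine (injective_iff_map_eq_zero _).2 ?_
    rintro ⟨z, hz⟩ h
    change z + φ (ψ z) = 0 at h
    refine Subtype.ext ((Submodule.eq_bot_iff _).1 (inf_qPerp_eq_bot Q hW) z ⟨hz, ?_⟩)
    rw [eq_neg_of_add_eq_zero_left h]
    exact (qPerp Q W).neg_mem (hφ _ (hψ z hz).1).1

end

variable {F : Type*} [Field F] [Fintype F] {ι : Type} [Fintype ι] [DecidableEq ι]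

theorem ndOn_of_isNondegenerateOn (q : QuadraticForm F (ι → F)) {W : Submodule F (ι → F)}
    (hW : Cfsg.Geo.IsNondegenerateOn (QuadraticMap.polar q) W) : NdOn q W := by
  intro z hz hzz
  by_contra hz0
  obtain ⟨y, hy, hzy⟩ := (hW z hz hz0).2
  exact hzy (hzz y hy)

/-- The stabiliser of a non-degenerate subspace is maximal, apart from small hyperbolic planes and isometric
halves. -/
theorem isMaximalIn_nondeg_of_le (q : QuadraticForm F (ι → F)) (hQ : PolarNondeg q) {W : Submodule F (ι → F)}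
    (hn : 9 ≤ Fintype.card ι ∨ (8 ≤ Fintype.card ι ∧ 2 * Module.finrank F W ≠ Fintype.card ι)) (hW : Cfsg.Geo.IsNondegenerateOn (QuadraticMap.polar q) W) (hW0 : W ≠ ⊥)
    (hW1 : W ≠ ⊤)
    (hiso : 2 * Module.finrank F W = Fintype.card ι → ∀ φ : (ι → F) →ₗ[F] (ι → F),
      ¬ ∀ z ∈ W, φ z ∈ qPerp q W ∧ q (φ z) = q z)
    (hex1 : ¬ (Fintype.card F ≤ 3 ∧ Module.finrank F W = 2 ∧ Cfsg.Geo.IsPlusTypeOn ⇑q W))
    (hex2 : ¬ (Fintype.card F ≤ 3 ∧ Module.finrank F (qPerp q W) = 2 ∧ Cfsg.Geo.IsPlusTypeOn ⇑q (qPerp q W))) :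
    Cfsg.Geo.IsMaximalIn (Cfsg.Geo.omegaGL ⇑q) (Cfsg.Geo.subspaceStabilizer W ⊓ Cfsg.Geo.omegaGL ⇑q) := by
  have hV : Module.finrank F (ι → F) = Fintype.card ι := Module.finrank_pi F
  have hWnd := ndOn_of_isNondegenerateOn q hW
  refine isMaximalIn_omegaGL q hQ (by omega) (comap_subspaceStabilizer q W)
    (fun h => hW1 (eq_top_of_invariant q hQ (by omega) hW0 h)) fun M hHM hME hne => ?_
  have hplus : ∀ B : Submodule F (ι → F), Module.finrank F B = 2 → (∃ x ∈ B, x ≠ 0 ∧ q x = 0) →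
      Cfsg.Geo.IsPlusTypeOn ⇑q B := by
    rintro B hB ⟨x, hx, hx0, hQx⟩
    refine ⟨Submodule.span F {x}, (Submodule.span_singleton_le_iff_mem _ _).2 hx, fun z hz => ?_, ?_⟩
    · obtain ⟨t, rfl⟩ := Submodule.mem_span_singleton.1 hz
      rw [quad_smul, hQx, mul_zero]
    · rw [finrank_span_singleton hx0, hB]
  have hstab : ∀ A : Submodule F (ι → F), qStab q (qPerp q A) = qStab q A := fun A => le_antisymm
    (fun g hg => qPerp_qPerp q hQ A ▸ qPerp_invariant q hg) fun g hg => qPerp_invariant q hg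
  have hdim := finrank_qPerp q hQ W
  by_cases hbig : Module.finrank F (qPerp q W) ≤ Module.finrank F W
  · refine eichGroup_le_of_nondeg q hQ hWnd (by omega) (by omega) (fun g _ hg => ?_)
      (fun h => hex2 ⟨h.1, h.2.1, hplus _ h.2.1 h.2.2⟩) hHM hME hne
    have hd := Submodule.finrank_mono (show W.map g.1.toLinearMap ≤ qPerp q W by
      rintro _ ⟨z, hz, rfl⟩
      exact hg z hz)
    rw [LinearEquiv.finrank_map_eq] at hd
    exact hiso (by omega) g.1.toLinearMap fun z hz => ⟨hg z hz, qAut_map g z⟩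
  · refine eichGroup_le_of_nondeg q hQ (ndOn_qPerp q hQ hWnd) (by omega) (by omega) (fun g _ hg => ?_)
      (fun h => hex1 ⟨h.1, (qPerp_qPerp q hQ W) ▸ h.2.1, (qPerp_qPerp q hQ W) ▸ hplus _ h.2.1 h.2.2⟩)
      (by rwa [hstab]) hME (by rwa [hstab])
    have hd := Submodule.finrank_mono (show (qPerp q W).map g.1.toLinearMap ≤ W by
      rintro _ ⟨z, hz, rfl⟩
      exact qPerp_qPerp q hQ W ▸ hg z hz)
    rw [LinearEquiv.finrank_map_eq] at hd
    omega

/-- The same with the dimension bound of the generic statements. -/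
theorem isMaximalIn_nondeg (q : QuadraticForm F (ι → F)) (hQ : PolarNondeg q) (hn : 13 ≤ Fintype.card ι)
    {W : Submodule F (ι → F)} (hW : Cfsg.Geo.IsNondegenerateOn (QuadraticMap.polar q) W) (hW0 : W ≠ ⊥)
    (hW1 : W ≠ ⊤)
    (hiso : 2 * Module.finrank F W = Fintype.card ι → ∀ φ : (ι → F) →ₗ[F] (ι → F),
      ¬ ∀ z ∈ W, φ z ∈ qPerp q W ∧ q (φ z) = q z)
    (hex1 : ¬ (Fintype.card F ≤ 3 ∧ Module.finrank F W = 2 ∧ Cfsg.Geo.IsPlusTypeOn ⇑q W))
    (hex2 : ¬ (Fintype.card F ≤ 3 ∧ Module.finrank F (qPerp q W) = 2 ∧ Cfsg.Geo.IsPlusTypeOn ⇑q (qPerp q W))) :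
    Cfsg.Geo.IsMaximalIn (Cfsg.Geo.omegaGL ⇑q) (Cfsg.Geo.subspaceStabilizer W ⊓ Cfsg.Geo.omegaGL ⇑q) :=
  isMaximalIn_nondeg_of_le q hQ (Or.inl (by omega)) hW hW0 hW1 hiso hex1 hex2

end CfsgLib.Classical22
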