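/-
Orthogonal decomposition stabilisers: the matrix statement in odd characteristic.
-/
import Cfsg.Agent.Lib.Classical22.OrthDecompEven
import Cfsg.Agent.Lib.Classical22.OrthMaxSubspace
import Cfsg.Agent.Lib.Classical22.DecompCoords

set_option autoImplicit false

namespace CfsgLib.Classical22.OrthDecomp

open CfsgLib.Classical Cfsg
open scoped MatrixGroups Matrix

variable {F : Type*} [Field F] [Fintype F] {ι : Type} [Fintype ι] [DecidableEq ι]

theorem data_of_decomp (q : QuadraticForm F (ι → F)) {t k : ℕ} {D : Fin t → Submodule F (ι → F)}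
    (hD : Cfsg.Geo.IsOrthogonalMDecomposition ⇑q k D) : Data q D k where
  sup := hD.decomp.decomp.iSup_eq_top
  orth := fun i j h => hD.decomp.orthogonal i j h
  nd := fun i => ndOn_of_isNondegenerateOn q (hD.decomp.nondegenerate i)
  dim := hD.decomp.decomp.finrank_eq
  isom := hD.isometric

theorem comap_decompositionStabilizer (q : QuadraticForm F (ι → F)) {t : ℕ} (D : Fin t → Submodule F (ι → F)) :
    (Cfsg.Geo.decompositionStabilizer D).comap (qHom q) = dStab q D := by
  ext g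
  change (∃ σ : Equiv.Perm (Fin t), ∀ i, (D i).map (Matrix.toLin' (qHom q g : Matrix ι ι F)) = D (σ i)) ↔ _
  rw [toLin'_qHom]
  rfl

theorem card_eq_mul {t k : ℕ} {D : Fin t → Submodule F (ι → F)} (hD : Cfsg.Geo.IsMDecomposition k D) :
    Fintype.card ι = t * k := by
  obtain ⟨e, -, -⟩ := DecompCoords.exists_coords hD
  simpa using (Fintype.card_congr e).symm

/-- Maximality of a decomposition stabiliser in odd characteristic. -/
theorem isMaximalIn_decomp (h2 : (2 : F) ≠ 0) (q : QuadraticForm F (ι → F)) (hQ : PolarNondeg q)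
    (hn : 9 ≤ Fintype.card ι) {t k : ℕ} (hk : 3 ≤ k) (hqk : 5 ≤ Fintype.card F ∨ 4 ≤ k)
    {D : Fin t → Submodule F (ι → F)} (hD : Cfsg.Geo.IsOrthogonalMDecomposition ⇑q k D) :
    Cfsg.Geo.IsMaximalIn (Cfsg.Geo.omegaGL ⇑q)
      (Cfsg.Geo.decompositionStabilizer D ⊓ Cfsg.Geo.omegaGL ⇑q) := by
  have hV : Module.finrank F (ι → F) = Fintype.card ι := Module.finrank_pi F
  have ht := hD.decomp.decomp.two_le
  have htk : 3 ≤ t ∨ 5 ≤ k := by
    by_contra h
    have hc := card_eq_mul hD.decomp.decomp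
    have : t * k ≤ 2 * 4 := Nat.mul_le_mul (by omega) (by omega)
    omega
  refine isMaximalIn_omegaGL q hQ (by omega) (comap_decompositionStabilizer q D)
    (not_eichGroup_le_dStab (data_of_decomp q hD) hQ hk ht) fun M hHM _ hne => ?_
  exact eichGroup_le_of_decomp (data_of_decomp q hD) hQ (by omega) h2 hk hqk ht htk hHM hne

/-- Maximality of a decomposition stabiliser in characteristic two. -/
theorem isMaximalIn_decomp_two (h2 : (2 : F) = 0) (q : QuadraticForm F (ι → F)) (hQ : PolarNondeg q)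
    (hn : 9 ≤ Fintype.card ι) {t k : ℕ} (hk : 4 ≤ k) {D : Fin t → Submodule F (ι → F)}
    (hD : Cfsg.Geo.IsOrthogonalMDecomposition ⇑q k D)
    (hsmall : Fintype.card F = 2 → k = 4 → ¬ ∀ i, Cfsg.Geo.IsPlusTypeOn ⇑q (D i)) :
    Cfsg.Geo.IsMaximalIn (Cfsg.Geo.omegaGL ⇑q)
      (Cfsg.Geo.decompositionStabilizer D ⊓ Cfsg.Geo.omegaGL ⇑q) := by
  have hV : Module.finrank F (ι → F) = Fintype.card ι := Module.finrank_pi F
  have ht := hD.decomp.decomp.two_le
  have hd := data_of_decomp q hD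
  refine isMaximalIn_omegaGL q hQ (by omega) (comap_decompositionStabilizer q D)
    (not_eichGroup_le_dStab hd hQ (by omega) ht) fun M hHM _ hne => ?_
  refine eichGroup_le_of_decomp_two hd hQ (by omega) h2 hk ?_ hHM hne
  intro hq hk4 i a ha b hb hQa hQb hab ha0 hind
  refine hsmall hq hk4 fun j => ?_
  obtain ⟨φ, hφ⟩ := hd.isom i j
  obtain ⟨U, hU⟩ : ∃ U : Submodule F (ι → F),
      U = Submodule.span F {(φ ⟨a, ha⟩ : ι → F), (φ ⟨b, hb⟩ : ι → F)} := ⟨_, rfl⟩
  refine ⟨U, ?_, fun x hx => ?_, ?_⟩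
  · rw [hU, Submodule.span_le]
    rintro x (rfl | rfl) <;> exact (φ _).2
  · rw [hU, Submodule.mem_span_pair] at hx
    obtain ⟨α, β, rfl⟩ := hx
    have e : α • (φ ⟨a, ha⟩ : ι → F) + β • (φ ⟨b, hb⟩ : ι → F) = (φ (α • ⟨a, ha⟩ + β • ⟨b, hb⟩) : ι → F) := by
      rw [map_add, map_smul, map_smul, Submodule.coe_add, Submodule.coe_smul, Submodule.coe_smul]
    rw [e, hφ]
    change q (α • a + β • b) = 0
    rw [quad_add, quad_smul, quad_smul, hQa, hQb, QuadraticMap.polar_smul_left, QuadraticMap.polar_smul_right, hab]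
    simp
  · have hli : LinearIndependent F ![(φ ⟨a, ha⟩ : ι → F), (φ ⟨b, hb⟩ : ι → F)] := by
      rw [LinearIndependent.pair_iff' (fun h0 => ha0 ?_)]
      · intro s hs
        exact hind s (congrArg Subtype.val (φ.injective (Subtype.ext (by rw [map_smul, Submodule.coe_smul]; exact hs)) :
          (s • ⟨a, ha⟩ : D i) = ⟨b, hb⟩))
      · exact congrArg Subtype.val (φ.injective (Subtype.ext (h0.trans (by simp))) : (⟨a, ha⟩ : D i) = 0)
    have h := finrank_span_eq_card hli
    rw [Matrix.range_cons_cons_empty, Fintype.card_fin] at h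
    rw [hU, h, hd.dim, hk4]

end CfsgLib.Classical22.OrthDecomp
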