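/-
The two families of maximal totally singular subspaces are preserved by the commutator subgroup.
-/
import Cfsg.Agent.Lib.Classical22.OrthMaxBasic
import Cfsg.Agent.Lib.Classical.QuadMaximal

set_option autoImplicit false

namespace CfsgLib.Classical22

open CfsgLib.Classical

variable {F V : Type*} [Field F] [AddCommGroup V] [Module F V] (Q : QuadraticForm F V) [FiniteDimensional F V]

omit [FiniteDimensional F V] in
theorem map_singular {U : Submodule F V} (hU : ∀ u ∈ U, Q u = 0) (g : qAut Q) :
    ∀ u ∈ U.map g.1.toLinearMap, Q u = 0 := by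
  rintro _ ⟨u, hu, rfl⟩
  exact (qAut_map g u).trans (hU u hu)

theorem even_codim_map (hQ : PolarNondeg Q) {m : ℕ} (hV : Module.finrank F V = 2 * m) {U : Submodule F V}
    (hdim : Module.finrank F U = m) (hU : ∀ u ∈ U, Q u = 0) {g : qAut Q} (hg : g ∈ commutator (qAut Q)) :
    Even (m - Module.finrank F ↥(U ⊓ U.map g.1.toLinearMap)) := by
  obtain ⟨d, hd⟩ : ∃ d : qAut Q → ℕ, d = fun g => m - Module.finrank F ↥(U ⊓ U.map g.1.toLinearMap) := ⟨_, rfl⟩
  have hmax : ∀ g : qAut Q, Module.finrank F ↥(U.map g.1.toLinearMap) = m ∧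
      ∀ u ∈ U.map g.1.toLinearMap, Q u = 0 := fun g =>
    ⟨(LinearEquiv.finrank_map_eq g.1 U).trans hdim, map_singular Q hU g⟩
  have hmul : ∀ g h : qAut Q, (d (g * h) : ZMod 2) = d g + d h := by
    intro g h
    have he : U.map (g * h).1.toLinearMap = (U.map h.1.toLinearMap).map g.1.toLinearMap := by
      rw [← Submodule.map_comp]; rfl
    have h1 := even_codim_sum Q hQ hV ⟨hdim, hU⟩ (hmax g) (hmax (g * h))
    rw [show U.map g.1.toLinearMap ⊓ U.map (g * h).1.toLinearMap = (U ⊓ U.map h.1.toLinearMap).map g.1.toLinearMap by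
      rw [he, Submodule.map_inf _ g.1.injective], LinearEquiv.finrank_map_eq] at h1
    rw [hd]
    have h2 := (ZMod.natCast_eq_zero_iff_even).2 h1
    push_cast at h2
    rw [add_eq_zero_iff_eq_neg, ZMod.neg_eq_self_mod_two] at h2
    exact h2.symm
  let f : qAut Q →* Multiplicative (ZMod 2) := MonoidHom.mk' (fun g => Multiplicative.ofAdd (d g : ZMod 2))
    fun g h => by rw [hmul, ofAdd_add]
  have hker : commutator (qAut Q) ≤ f.ker := Abelianization.commutator_subset_ker f
  have h0 : (d g : ZMod 2) = 0 := Multiplicative.ofAdd.injective ((hker hg : f g = 1).trans ofAdd_zero.symm)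
  have h3 := (ZMod.natCast_eq_zero_iff_even).1 h0
  rw [hd] at h3
  exact h3

variable [Fintype F]

/-- An element of the Eichler group moving a maximal totally singular subspace by at most one dimension fixes it. -/
theorem map_eq_of_codim_le_one (hQ : PolarNondeg Q) {m : ℕ} (hm : 3 ≤ m) (hV : Module.finrank F V = 2 * m)
    {U : Submodule F V} (hdim : Module.finrank F U = m) (hU : ∀ u ∈ U, Q u = 0) {g : qAut Q}
    (hg : g ∈ eichGroup Q) (h : m ≤ Module.finrank F ↥(U ⊓ U.map g.1.toLinearMap) + 1) :
    U.map g.1.toLinearMap = U := by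
  rw [eichGroup_eq_commutator Q hQ (by omega)] at hg
  have he := even_codim_map Q hQ hV hdim hU hg
  have hle := Submodule.finrank_mono (inf_le_left : U ⊓ U.map g.1.toLinearMap ≤ U)
  have hfull : U ⊓ U.map g.1.toLinearMap = U := Submodule.eq_of_le_of_finrank_le inf_le_left (by
    rw [Nat.even_iff] at he
    omega)
  exact (Submodule.eq_of_le_of_finrank_le (inf_eq_left.1 hfull)
    (by rw [LinearEquiv.finrank_map_eq])).symm

end CfsgLib.Classical22
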