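/-
Stabilisers of pairs of complementary maximal totally singular subspaces.
-/
import Cfsg.Agent.Lib.Classical22.OrthParity
import Cfsg.Agent.Lib.Classical22.OrthMaxLemmas

set_option autoImplicit false

namespace CfsgLib.Classical22

open CfsgLib.Classical

variable {F V : Type*} [Field F] [AddCommGroup V] [Module F V] (Q : QuadraticForm F V)
variable [FiniteDimensional F V] [Fintype F]

/-- Two complementary totally singular subspaces. -/
structure SingPair (A B : Submodule F V) : Prop where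
  compl : IsCompl A B
  singA : ∀ a ∈ A, Q a = 0
  singB : ∀ b ∈ B, Q b = 0

variable {A B : Submodule F V}

omit [FiniteDimensional F V] [Fintype F] in
theorem SingPair.symm (h : SingPair Q A B) : SingPair Q B A := ⟨h.compl.symm, h.singB, h.singA⟩

omit [FiniteDimensional F V] [Fintype F] in
theorem SingPair.exists_add (h : SingPair Q A B) (x : V) : ∃ a ∈ A, ∃ b ∈ B, a + b = x :=
  Submodule.mem_sup.1 (h.compl.sup_eq_top ▸ Submodule.mem_top)

omit [Fintype F] in
theorem SingPair.exists_sep (h : SingPair Q A B) (hQ : PolarNondeg Q) {S : Submodule F V} (hS : S ≤ A) {y : V}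
    (hy : y ∈ A) (hyS : y ∉ S) :
    ∃ d ∈ B, (∀ s ∈ S, QuadraticMap.polar Q s d = 0) ∧ QuadraticMap.polar Q y d = 1 := by
  obtain ⟨z, hz, hzy⟩ : ∃ z ∈ qPerp Q S, QuadraticMap.polar Q y z ≠ 0 := by
    by_contra hc
    push Not at hc
    refine hyS ?_
    rw [← qPerp_qPerp Q hQ S, mem_qPerp]
    exact fun z hz => (QuadraticMap.polar_comm Q z y).trans (hc z hz)
  obtain ⟨a, ha, b, hb, rfl⟩ := h.exists_add Q z
  have e : ∀ x ∈ A, QuadraticMap.polar Q x (a + b) = QuadraticMap.polar Q x b := fun x hx => by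
    rw [QuadraticMap.polar_add_right, polar_zero_of_singular Q h.singA hx ha, zero_add]
  rw [e y hy] at hzy
  refine ⟨(QuadraticMap.polar Q y b)⁻¹ • b, B.smul_mem _ hb, fun s hs => ?_, ?_⟩
  · rw [QuadraticMap.polar_smul_right, ← e s (hS hs), (mem_qPerp Q).1 hz s hs, smul_zero]
  · rw [QuadraticMap.polar_smul_right, smul_eq_mul, inv_mul_cancel₀ hzy]

omit [FiniteDimensional F V] [Fintype F] in
theorem eich_apply_pair {c d : V} (hA : ∀ a ∈ A, Q a = 0) (hd : Q d = 0) (hc : c ∈ A)
    (hcd : QuadraticMap.polar Q c d = 0) {p : V} (hp : p ∈ A) :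
    (eich Q c d).1 p = p - QuadraticMap.polar Q p d • c := by
  rw [eich_apply Q (hA c hc) hcd, polar_zero_of_singular Q hA hp hc, hd]
  simp

omit [Fintype F] in
/-- One pure element makes its point full. -/
theorem efull_of_pure (h : SingPair Q A B) (hQ : PolarNondeg Q) (hk : 3 ≤ Module.finrank F A)
    {M : Subgroup (qAut Q)} (hM : ∀ a ∈ A, ∀ b ∈ B, QuadraticMap.polar Q a b = 0 → eich Q a b ∈ M) {a y : V}
    (ha : a ∈ A) (hy : y ∈ A) (ha0 : a ≠ 0) (hya : y ∉ Submodule.span F {a}) (hpure : eich Q a y ∈ M) :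
    EFull Q M a := by
  have haa : ∀ p ∈ A, QuadraticMap.polar Q a p = 0 := fun p hp => polar_zero_of_singular Q h.singA ha hp
  have hQa := h.singA a ha
  obtain ⟨S, hS⟩ : ∃ S, S = Submodule.span F {a} ⊔ Submodule.span F {y} := ⟨_, rfl⟩
  have hgen : ∀ e ∈ A, e ∉ S → eich Q a e ∈ M := by
    intro e he heS
    obtain ⟨d, hd, hdS, hdy⟩ := h.exists_sep Q hQ
      (S := Submodule.span F {a} ⊔ Submodule.span F {e - y})
      (sup_le ((Submodule.span_singleton_le_iff_mem _ _).2 ha)
        ((Submodule.span_singleton_le_iff_mem _ _).2 (A.sub_mem he hy))) hy (fun hmem => by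
      obtain ⟨p, hp, q, hq, hpq⟩ := Submodule.mem_sup.1 hmem
      obtain ⟨s, rfl⟩ := Submodule.mem_span_singleton.1 hp
      obtain ⟨t, rfl⟩ := Submodule.mem_span_singleton.1 hq
      rcases eq_or_ne t 0 with rfl | ht
      · exact hya (Submodule.mem_span_singleton.2 ⟨s, by simpa using hpq⟩)
      refine heS (hS ▸ Submodule.mem_sup.2 ⟨(-t⁻¹ * s) • a, Submodule.mem_span_singleton.2 ⟨_, rfl⟩,
        (t⁻¹ + 1) • y, Submodule.mem_span_singleton.2 ⟨_, rfl⟩, ?_⟩)
      rw [smul_sub] at hpq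
      have h' : t • e = y + t • y - s • a := by linear_combination (norm := module) hpq
      rw [← inv_smul_smul₀ ht e, h', smul_sub, smul_add, smul_smul, smul_smul, inv_mul_cancel₀ ht]
      module)
    have hcd : QuadraticMap.polar Q (y - e) d = 0 := by
      have h1 := hdS _ (Submodule.mem_sup_right (Submodule.mem_span_singleton_self (e - y)))
      rw [← neg_sub, QuadraticMap.polar_neg_left, h1, neg_zero]
    have h1 := mul_mem (mul_mem (hM _ (A.sub_mem hy he) d hd hcd) hpure) (inv_mem (hM _ (A.sub_mem hy he) d hd hcd))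
    rw [eich_conj Q _ hQa (haa y hy), eich_apply_pair Q h.singA (h.singB d hd) (A.sub_mem hy he) hcd ha,
      eich_apply_pair Q h.singA (h.singB d hd) (A.sub_mem hy he) hcd hy,
      hdS a (Submodule.mem_sup_left (Submodule.mem_span_singleton_self a)), hdy] at h1
    simpa using h1
  have hall : ∀ e ∈ A, eich Q a e ∈ M := by
    intro e he
    by_cases heS : e ∈ S
    swap
    · exact hgen e he heS
    obtain ⟨z, hz, hzS⟩ : ∃ z ∈ A, z ∉ S := SetLike.not_le_iff_exists.1 fun hle => by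
      have h1 := Submodule.finrank_mono hle
      have h2 := Submodule.finrank_add_le_finrank_add_finrank (Submodule.span F {a}) (Submodule.span F {y})
      rw [finrank_span_singleton ha0,
        finrank_span_singleton (fun h0 : y = 0 => hya (h0 ▸ Submodule.zero_mem _)), ← hS] at h2
      omega
    have h1 := hgen _ (A.add_mem he hz) (fun h' => hzS ((S.add_mem_iff_right heS).1 h'))
    rw [← eich_mul Q hQa (haa e he) (haa z hz)] at h1
    exact (Subgroup.mul_mem_cancel_right M (hgen z hz hzS)).1 h1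
  intro w hw
  obtain ⟨p, hp, b, hb, rfl⟩ := h.exists_add Q w
  rw [QuadraticMap.polar_add_right, haa p hp, zero_add] at hw
  rw [← eich_mul Q hQa (haa p hp) hw]
  exact mul_mem (hall p hp) (hM a ha b hb hw)

omit [Fintype F] in
/-- An element `eich X Y` with independent projections on `A` yields a full point of `A`. -/
theorem exists_full_of_indep (h : SingPair Q A B) (hQ : PolarNondeg Q) (hk : 5 ≤ Module.finrank F A)
    {M : Subgroup (qAut Q)} (hM : ∀ a ∈ A, ∀ b ∈ B, QuadraticMap.polar Q a b = 0 → eich Q a b ∈ M)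
    {XA XB YA YB : V} (hXA : XA ∈ A) (hXB : XB ∈ B) (hYA : YA ∈ A) (hYB : YB ∈ B) (hQX : Q (XA + XB) = 0)
    (hQY : Q (YA + YB) = 0) (hXY : QuadraticMap.polar Q (XA + XB) (YA + YB) = 0)
    (hg : eich Q (XA + XB) (YA + YB) ∈ M) (hYA0 : YA ≠ 0) (hind : XA ∉ Submodule.span F {YA}) :
    ∃ a ∈ A, a ≠ 0 ∧ EFull Q M a := by
  obtain ⟨b, hb, hbS, hbX⟩ := h.exists_sep Q hQ ((Submodule.span_singleton_le_iff_mem YA A).2 hYA) hXA hind
  have hbY : QuadraticMap.polar Q YA b = 0 := hbS YA (Submodule.mem_span_singleton_self YA)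
  obtain ⟨S, hS⟩ : ∃ S, S = Submodule.span F {XB} ⊔ Submodule.span F {YB} ⊔ Submodule.span F {b} := ⟨_, rfl⟩
  obtain ⟨a, ⟨haA, haS⟩, haY⟩ : ∃ a ∈ A ⊓ qPerp Q S, a ∉ Submodule.span F {YA} :=
    SetLike.not_le_iff_exists.1 fun hle => by
      have h1 := Submodule.finrank_mono hle
      have h4 : ∀ v : V, Module.finrank F (Submodule.span F {v}) ≤ 1 := fun v => by
        simpa using finrank_span_le_card (R := F) ({v} : Set V)
      have h2 := Submodule.finrank_add_le_finrank_add_finrank (Submodule.span F {XB} ⊔ Submodule.span F {YB})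
        (Submodule.span F {b})
      have h3 := Submodule.finrank_add_le_finrank_add_finrank (Submodule.span F {XB}) (Submodule.span F {YB})
      have h5 := Submodule.finrank_sup_add_finrank_inf_eq A (qPerp Q S)
      have h6 := Submodule.finrank_le (A ⊔ qPerp Q S)
      have h7 := Submodule.finrank_le S
      have := h4 XB
      have := h4 YB
      have := h4 b
      have := h4 YA
      rw [← hS] at h2
      rw [finrank_qPerp Q hQ] at h5
      omega
  have hperp := (mem_qPerp Q).1 haS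
  have hab : QuadraticMap.polar Q a b = 0 := (QuadraticMap.polar_comm Q a b).trans
    (hperp b (hS ▸ Submodule.mem_sup_right (Submodule.mem_span_singleton_self b)))
  have haX : QuadraticMap.polar Q a (XA + XB) = 0 := by
    rw [QuadraticMap.polar_add_right, polar_zero_of_singular Q h.singA haA hXA, zero_add, QuadraticMap.polar_comm]
    exact hperp XB (hS ▸ Submodule.mem_sup_left (Submodule.mem_sup_left (Submodule.mem_span_singleton_self XB)))
  have haYB : QuadraticMap.polar Q a YB = 0 := (QuadraticMap.polar_comm Q a YB).trans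
    (hperp YB (hS ▸ Submodule.mem_sup_left (Submodule.mem_sup_right (Submodule.mem_span_singleton_self YB))))
  have haYA : QuadraticMap.polar Q a YA = 0 := polar_zero_of_singular Q h.singA haA hYA
  have haY' : QuadraticMap.polar Q a (YA + YB) = 0 := by rw [QuadraticMap.polar_add_right, haYA, haYB, add_zero]
  have hga : (eich Q (XA + XB) (YA + YB)).1 a = a := by
    rw [eich_apply Q hQX hXY, haX, haY', hQY]
    simp
  have hgb : (eich Q (XA + XB) (YA + YB)).1 b = b + (YA + YB) := by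
    rw [eich_apply Q hQX hXY, QuadraticMap.polar_comm Q b (XA + XB), QuadraticMap.polar_comm Q b (YA + YB),
      QuadraticMap.polar_add_left, QuadraticMap.polar_add_left, hbX, hbY, hQY,
      polar_zero_of_singular Q h.singB hXB hb, polar_zero_of_singular Q h.singB hYB hb]
    simp
  have hQa := h.singA a haA
  have h1 := mul_mem (mul_mem hg (hM a haA b hb hab)) (inv_mem hg)
  rw [eich_conj Q _ hQa hab, hga, hgb, ← eich_mul Q hQa hab haY', Subgroup.mul_mem_cancel_left M (hM a haA b hb hab),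
    ← eich_mul Q hQa haYA haYB, Subgroup.mul_mem_cancel_right M (hM a haA YB hYB haYB)] at h1
  have ha0 : a ≠ 0 := fun h0 => haY (h0 ▸ Submodule.zero_mem _)
  refine ⟨a, haA, ha0, efull_of_pure Q h hQ (by omega) hM haA hYA ha0 (fun hmem => haY ?_) h1⟩
  obtain ⟨t, ht⟩ := Submodule.mem_span_singleton.1 hmem
  have ht0 : t ≠ 0 := fun h0 => hYA0 (by rw [← ht, h0, zero_smul])
  exact Submodule.mem_span_singleton.2 ⟨t⁻¹, by rw [← ht, inv_smul_smul₀ ht0]⟩

omit [Fintype F] in
/-- If all images of orthogonal cross pairs have dependent projections on `A`, one of the halves goes into `B`. -/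
theorem map_le_of_dependent (h : SingPair Q A B) (hQ : PolarNondeg Q) (hk : 5 ≤ Module.finrank F A) {g : qAut Q}
    {p : V →ₗ[F] V} (hpA : ∀ x, p x ∈ A) (hpB : ∀ x, x - p x ∈ B)
    (hdep : ∀ a ∈ A, ∀ b ∈ B, QuadraticMap.polar Q a b = 0 → p (g.1 b) ≠ 0 →
      p (g.1 a) ∈ Submodule.span F {p (g.1 b)}) :
    (∀ a ∈ A, p (g.1 a) = 0) ∨ ∀ b ∈ B, p (g.1 b) = 0 := by
  by_contra hc
  push Not at hc
  obtain ⟨⟨a₀, ha₀, hpa⟩, b₀, hb₀, hpb⟩ := hc
  have h4 : ∀ v : V, Module.finrank F (Submodule.span F {v}) ≤ 1 := fun v => by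
    simpa using finrank_span_le_card (R := F) ({v} : Set V)
  have hrank : ∀ (C D : Submodule F V) (c₁ : V), (∀ c ∈ C, ∀ d ∈ D, QuadraticMap.polar Q c d = 0 →
        p (g.1 d) ≠ 0 → p (g.1 c) ∈ Submodule.span F {p (g.1 d)}) →
      ∀ d₁ ∈ D, p (g.1 d₁) ≠ 0 → c₁ ∈ C → QuadraticMap.polar Q c₁ d₁ ≠ 0 →
      C.map (p ∘ₗ g.1.toLinearMap) ≤ Submodule.span F {p (g.1 d₁)} ⊔ Submodule.span F {p (g.1 c₁)} := by
    intro C D c₁ hCD d₁ hd₁ hpd hc₁ hne
    rintro _ ⟨c, hc, rfl⟩
    obtain ⟨t, ht⟩ : ∃ t, t = QuadraticMap.polar Q c d₁ / QuadraticMap.polar Q c₁ d₁ := ⟨_, rfl⟩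
    have h1 := hCD (c - t • c₁) (C.sub_mem hc (C.smul_mem t hc₁)) d₁ hd₁
      (by rw [QuadraticMap.polar_sub_left, QuadraticMap.polar_smul_left, smul_eq_mul, ht, div_mul_cancel₀ _ hne,
        sub_self]) hpd
    rw [map_sub, map_sub, map_smul, map_smul] at h1
    exact Submodule.mem_sup.2 ⟨_, h1, t • p (g.1 c₁),
      Submodule.smul_mem _ t (Submodule.mem_span_singleton_self _), sub_add_cancel _ _⟩
  have hb0 : b₀ ≠ 0 := fun h0 => hpb (by rw [h0, map_zero, map_zero])
  have ha0 : a₀ ≠ 0 := fun h0 => hpa (by rw [h0, map_zero, map_zero])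
  obtain ⟨a₁, ha₁, -, ha₁b⟩ := h.symm.exists_sep Q hQ (bot_le (a := B)) hb₀ (by simpa using hb0)
  obtain ⟨b₁, hb₁, -, hb₁a⟩ := h.exists_sep Q hQ (bot_le (a := A)) ha₀ (by simpa using ha0)
  have r1 := Submodule.finrank_mono (hrank A B a₁ hdep b₀ hb₀ hpb ha₁
    (by rw [QuadraticMap.polar_comm, ha₁b]; exact one_ne_zero))
  have r2 := Submodule.finrank_mono (hrank B A b₁ (fun b hb a ha hab hpga => by
      by_cases hz : p (g.1 b) = 0
      · rw [hz]; exact Submodule.zero_mem _
      obtain ⟨t, ht⟩ := Submodule.mem_span_singleton.1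
        (hdep a ha b hb ((QuadraticMap.polar_comm Q a b).trans hab) hz)
      have ht0 : t ≠ 0 := fun h0 => hpga (by rw [← ht, h0, zero_smul])
      exact Submodule.mem_span_singleton.2 ⟨t⁻¹, by rw [← ht, inv_smul_smul₀ ht0]⟩)
    a₀ ha₀ hpa hb₁ (by rw [QuadraticMap.polar_comm, hb₁a]; exact one_ne_zero))
  have htop : A ≤ A.map (p ∘ₗ g.1.toLinearMap) ⊔ B.map (p ∘ₗ g.1.toLinearMap) := by
    intro z hz
    obtain ⟨a, ha, b, hb, hab⟩ := h.exists_add Q ((g⁻¹).1 z)
    refine Submodule.mem_sup.2 ⟨_, ⟨a, ha, rfl⟩, _, ⟨b, hb, rfl⟩, ?_⟩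
    rw [LinearMap.comp_apply, LinearMap.comp_apply, LinearEquiv.coe_coe, ← map_add, ← map_add, hab,
      qApply_inv_self]
    exact (sub_eq_zero.1 (Submodule.disjoint_def.1 h.compl.disjoint _ (A.sub_mem hz (hpA z)) (hpB z))).symm
  have r3 := Submodule.finrank_mono htop
  have r4 := Submodule.finrank_add_le_finrank_add_finrank (A.map (p ∘ₗ g.1.toLinearMap))
    (B.map (p ∘ₗ g.1.toLinearMap))
  have r5 := Submodule.finrank_add_le_finrank_add_finrank (Submodule.span F {p (g.1 b₀)})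
    (Submodule.span F {p (g.1 a₁)})
  have r6 := Submodule.finrank_add_le_finrank_add_finrank (Submodule.span F {p (g.1 a₀)})
    (Submodule.span F {p (g.1 b₁)})
  have := h4 (p (g.1 b₀))
  have := h4 (p (g.1 a₁))
  have := h4 (p (g.1 a₀))
  have := h4 (p (g.1 b₁))
  omega

/-- A group containing the cross elements, an interchange, and an element outside the pair stabiliser is
everything. -/
theorem eichGroup_le_of_singPair (h : SingPair Q A B) (hQ : PolarNondeg Q) (hk : 5 ≤ Module.finrank F A)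
    (hkB : 5 ≤ Module.finrank F B) {M : Subgroup (qAut Q)}
    (hM : ∀ a ∈ A, ∀ b ∈ B, QuadraticMap.polar Q a b = 0 → eich Q a b ∈ M) {J : qAut Q} (hJ : J ∈ M)
    (hJA : ∀ a ∈ A, J.1 a ∈ B) (hJB : ∀ b ∈ B, J.1 b ∈ A) {g : qAut Q} (hg : g ∈ M)
    (hgout : ¬ ((∀ a ∈ A, g.1 a ∈ A) ∧ (∀ b ∈ B, g.1 b ∈ B)) ∧ ¬ ((∀ a ∈ A, g.1 a ∈ B) ∧ ∀ b ∈ B, g.1 b ∈ A)) :
    eichGroup Q ≤ M := by
  have hM' : ∀ b ∈ B, ∀ a ∈ A, QuadraticMap.polar Q b a = 0 → eich Q b a ∈ M := by
    intro b hb a ha hba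
    have h1 := hM _ (hJB b hb) _ (hJA a ha) (by rw [qAut_polar, hba])
    rw [← eich_conj Q J (h.singB b hb) hba] at h1
    exact (Subgroup.mul_mem_cancel_left M hJ).1 ((Subgroup.mul_mem_cancel_right M (inv_mem hJ)).1 h1)
  obtain ⟨a, ha, ha0, hfull⟩ : ∃ a ∈ A, a ≠ 0 ∧ EFull Q M a := by
    let pA : V →ₗ[F] V := A.subtype ∘ₗ A.projectionOnto B h.compl
    have hpA : ∀ x, pA x ∈ A := fun x => (A.projectionOnto B h.compl x).2
    have hpB : ∀ x, x - pA x ∈ B := fun x => by
      obtain ⟨a, ha, b, hb, rfl⟩ := h.exists_add Q x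
      have hp : pA (a + b) = a := by
        simp only [pA, map_add, LinearMap.comp_apply, Submodule.subtype_apply]
        rw [Submodule.projectionOnto_apply_left h.compl ⟨a, ha⟩, Submodule.projectionOnto_apply_right h.compl ⟨b, hb⟩]
        simp
      rw [hp, add_sub_cancel_left]
      exact hb
    let pB : V →ₗ[F] V := LinearMap.id - pA
    by_contra hc
    push Not at hc
    have hmem : ∀ a ∈ A, ∀ b ∈ B, QuadraticMap.polar Q a b = 0 → eich Q (g.1 a) (g.1 b) ∈ M := fun a ha b hb hab => by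
      rw [← eich_conj Q g (h.singA a ha) hab]
      exact mul_mem (mul_mem hg (hM a ha b hb hab)) (inv_mem hg)
    have hdA := map_le_of_dependent Q h hQ hk hpA hpB (g := g) fun a ha b hb hab hpb => by
      by_contra hind
      obtain ⟨a', ha', ha'0, hfull⟩ := exists_full_of_indep Q h hQ hk hM (hpA (g.1 a)) (hpB (g.1 a)) (hpA (g.1 b))
        (hpB (g.1 b)) (by rw [add_sub_cancel, qAut_map, h.singA a ha])
        (by rw [add_sub_cancel, qAut_map, h.singB b hb])
        (by rw [add_sub_cancel, add_sub_cancel, qAut_polar, hab])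
        (by rw [add_sub_cancel, add_sub_cancel]; exact hmem a ha b hb hab) hpb hind
      exact hc a' ha' ha'0 hfull
    have hdB := map_le_of_dependent Q h.symm hQ hkB (g := g) (p := pB) hpB (fun x => by simpa [pB] using hpA x)
      fun b hb a ha hba hpa => by
      by_contra hind
      obtain ⟨b', hb', hb'0, hfull⟩ := exists_full_of_indep Q h.symm hQ hkB hM' (hpB (g.1 b)) (hpA (g.1 b))
        (hpB (g.1 a)) (hpA (g.1 a)) (by rw [sub_add_cancel, qAut_map, h.singB b hb])
        (by rw [sub_add_cancel, qAut_map, h.singA a ha])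
        (by rw [sub_add_cancel, sub_add_cancel, qAut_polar, hba])
        (by
          rw [sub_add_cancel, sub_add_cancel, ← eich_conj Q g (h.singB b hb) hba]
          exact mul_mem (mul_mem hg (hM' b hb a ha hba)) (inv_mem hg)) hpa hind
      exact hc _ (hJB b' hb') (fun h0 => hb'0 (J.1.injective (h0.trans (map_zero J.1).symm)))
        (efull_conj Q hJ (h.singB b' hb') hfull)
    have eA : ∀ x, pA x = 0 → x ∈ B := fun x hx => by simpa [hx] using hpB x
    have eB : ∀ x, pB x = 0 → x ∈ A := fun x hx => by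
      have h0 : x = pA x := sub_eq_zero.1 hx
      exact h0 ▸ hpA x
    obtain ⟨a₀, ha₀, ha₀0⟩ := Submodule.exists_mem_ne_zero_of_ne_bot (p := A) fun h0 => by
      rw [h0, finrank_bot] at hk
      omega
    obtain ⟨b₀, hb₀, hb₀0⟩ := Submodule.exists_mem_ne_zero_of_ne_bot (p := B) fun h0 => by
      rw [h0, finrank_bot] at hkB
      omega
    have hdis : ∀ x, pA (g.1 x) = 0 → pB (g.1 x) = 0 → x = 0 := fun x h1 h2 =>
      g.1.injective ((Submodule.disjoint_def.1 h.compl.disjoint _ (eB _ h2) (eA _ h1)).trans (map_zero g.1).symm)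
    rcases hdA with h1 | h1 <;> rcases hdB with h2 | h2
    · exact hgout.2 ⟨fun a ha => eA _ (h1 a ha), fun b hb => eB _ (h2 b hb)⟩
    · exact ha₀0 (hdis a₀ (h1 a₀ ha₀) (h2 a₀ ha₀))
    · exact hb₀0 (hdis b₀ (h1 b₀ hb₀) (h2 b₀ hb₀))
    · exact hgout.1 ⟨fun a ha => eB _ (h2 a ha), fun b hb => eA _ (h1 b hb)⟩
  have hQa := h.singA a ha
  have hd : J.1 a ∈ B := hJA a ha
  have hfd := efull_conj Q hJ hQa hfull
  by_cases had : QuadraticMap.polar Q a (J.1 a) = 0
  swap
  · exact eichGroup_le_of_full Q hQ (by have := Submodule.finrank_le A; omega) hQa (h.singB _ hd) had hfull hfd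
  obtain ⟨c, hc, -, hcd⟩ := h.symm.exists_sep Q hQ (bot_le (a := B)) hd
    (fun h0 => ha0 (J.1.injective ((Submodule.mem_bot F).1 h0 |>.trans (map_zero J.1).symm)))
  rw [QuadraticMap.polar_comm] at hcd
  obtain ⟨d, hdB, hdc, hda⟩ := h.exists_sep Q hQ ((Submodule.span_singleton_le_iff_mem c A).2 hc) ha fun hmem => by
    obtain ⟨t, ht⟩ := Submodule.mem_span_singleton.1 hmem
    have h1 := had
    rw [show QuadraticMap.polar Q a (J.1 a) = QuadraticMap.polar Q (t • c) (J.1 a) by rw [ht],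
      QuadraticMap.polar_smul_left, hcd, smul_eq_mul, mul_one] at h1
    exact ha0 (by rw [← ht, h1, zero_smul])
  have hcd' := hdc c (Submodule.mem_span_singleton_self c)
  have h2 := efull_conj Q (hM c hc d hdB hcd') hQa hfull
  rw [eich_apply_pair Q h.singA (h.singB d hdB) hc hcd' ha, hda, one_smul] at h2
  refine eichGroup_le_of_full Q hQ (by have := Submodule.finrank_le A; omega) (h.singA _ (A.sub_mem ha hc))
    (h.singB _ hd) ?_ h2 hfd
  rw [QuadraticMap.polar_sub_left, had, hcd, zero_sub]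
  exact neg_ne_zero.2 one_ne_zero

end CfsgLib.Classical22
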