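/-
Hermitian spaces over a finite field: isotropic vectors orthogonal to given ones, root elements, maps preserving
isotropic lines.
-/
import Cfsg.Agent.Lib.Transvec.Unitary

set_option autoImplicit false

namespace CfsgLib.Classical22.UnitOver

variable {K V : Type*} [Field K] [AddCommGroup V] [Module K V]

/-- A non-degenerate hermitian form. -/
structure Herm (σ : K ≃+* K) (h : V → V → K) : Prop where
  ne_refl : σ ≠ RingEquiv.refl K
  invol : ∀ a, σ (σ a) = a
  add_left : ∀ x y v, h (x + y) v = h x v + h y v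
  smul_left : ∀ (c : K) (x v : V), h (c • x) v = c * h x v
  herm : ∀ v w, h v w = σ (h w v)
  nd : ∀ v, (∀ x, h x v = 0) → v = 0

variable {σ : K ≃+* K} {h : V → V → K}

namespace Herm

variable (H : Herm σ h)
include H

theorem smul_right (c : K) (v x : V) : h v (c • x) = σ c * h v x := by
  rw [H.herm, H.smul_left, map_mul, ← H.herm]

theorem add_right (v x y : V) : h v (x + y) = h v x + h v y := by
  rw [H.herm, H.add_left, map_add, ← H.herm, ← H.herm]

theorem zero_left (v : V) : h 0 v = 0 := by rw [← zero_smul K (0 : V), H.smul_left, zero_mul]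

theorem zero_right (v : V) : h v 0 = 0 := by rw [H.herm, H.zero_left, map_zero]

theorem neg_left (x v : V) : h (-x) v = -h x v := by rw [← neg_one_smul K x, H.smul_left, neg_one_mul]

theorem neg_right (v x : V) : h v (-x) = -h v x := by rw [H.herm, H.neg_left, map_neg, ← H.herm]

theorem sub_left (x y v : V) : h (x - y) v = h x v - h y v := by
  rw [sub_eq_add_neg, H.add_left, H.neg_left, sub_eq_add_neg]

theorem sub_right (v x y : V) : h v (x - y) = h v x - h v y := by
  rw [sub_eq_add_neg, H.add_right, H.neg_right, sub_eq_add_neg]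

theorem zero_comm {v w : V} : h v w = 0 ↔ h w v = 0 := by
  rw [H.herm, map_eq_zero_iff _ σ.injective]

theorem self_fixed (v : V) : σ (h v v) = h v v := (H.herm v v).symm

/-- The form as a linear map in the first variable. -/
def lin (v : V) : V →ₗ[K] K where
  toFun x := h x v
  map_add' x y := H.add_left x y v
  map_smul' c x := H.smul_left c x v

theorem eq_zero_left {v : V} (hv : ∀ x, h v x = 0) : v = 0 := H.nd v fun x => H.zero_comm.1 (hv x)

/-- The vectors orthogonal to a subspace. -/
def perp (P : Submodule K V) : Submodule K V where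
  carrier := {v | ∀ p ∈ P, h v p = 0}
  zero_mem' := fun p _ => H.zero_left p
  add_mem' := fun ha hb p hp => by rw [H.add_left, ha p hp, hb p hp, add_zero]
  smul_mem' := fun c a ha p hp => by rw [H.smul_left, ha p hp, mul_zero]

variable [Finite K] [FiniteDimensional K V]

theorem exists_rep (g : V →ₗ[K] K) : ∃ r, ∀ x, h x r = g x := by
  haveI : Finite V := Module.finite_of_finite K
  haveI : Finite (V →ₗ[K] K) := Module.finite_of_finite K
  have hinj : Function.Injective fun v => H.lin v := fun v w e => by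
    refine sub_eq_zero.1 (H.nd _ fun x => ?_)
    have := LinearMap.congr_fun e x
    change h x v = h x w at this
    rw [H.sub_right, this, sub_self]
  obtain ⟨r, hr⟩ := (hinj.bijective_of_nat_card_le
    (Nat.card_congr (Module.finBasis K V).toDualEquiv.toEquiv).ge).2 g
  exact ⟨r, fun x => LinearMap.congr_fun hr x⟩

theorem exists_sep {P : Submodule K V} {u : V} (hu : u ∉ P) :
    ∃ r, (∀ p ∈ P, h r p = 0) ∧ h r u = 1 := by
  obtain ⟨g, hg, hgP⟩ := Submodule.exists_dual_map_eq_bot_of_notMem hu inferInstance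
  obtain ⟨r, hr⟩ := H.exists_rep g
  refine ⟨(σ (g u))⁻¹ • r, fun p hp => ?_, ?_⟩
  · rw [H.smul_left]
    have : g p = 0 := (Submodule.mem_bot K).1 (hgP ▸ Submodule.mem_map_of_mem (f := g) hp)
    rw [H.herm r p, hr, this, map_zero, mul_zero]
  · rw [H.smul_left, H.herm r u, hr, inv_mul_cancel₀]
    exact (map_ne_zero_iff _ σ.injective).2 hg

theorem finrank_le_perp (P : Submodule K V) :
    Module.finrank K V ≤ Module.finrank K (H.perp P) + Module.finrank K P := by
  let b := Module.finBasis K P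
  obtain ⟨φ, hφ⟩ : ∃ φ : V →ₗ[K] (Fin (Module.finrank K P) → K),
      φ = LinearMap.pi fun i => H.lin (b i : V) := ⟨_, rfl⟩
  have h1 := LinearMap.finrank_range_add_finrank_ker φ
  have h2 := Submodule.finrank_le (LinearMap.range φ)
  rw [Module.finrank_fin_fun] at h2
  have hle : LinearMap.ker φ ≤ H.perp P := by
    intro v hvk p hp
    rw [hφ] at hvk
    have hi : ∀ i, h v (b i : V) = 0 := fun i => congrFun (LinearMap.mem_ker.1 hvk) i
    clear hvk
    suffices key : ∀ q : P, h v (q : V) = 0 from key ⟨p, hp⟩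
    intro q
    have := b.mem_span q
    induction this using Submodule.span_induction with
    | mem q hq => obtain ⟨i, rfl⟩ := hq; exact hi i
    | zero => exact H.zero_right v
    | add q q' _ _ hq hq' => rw [Submodule.coe_add, H.add_right, hq, hq', add_zero]
    | smul c q _ hq => rw [Submodule.coe_smul, H.smul_right, hq, mul_zero]
  have h3 := Submodule.finrank_mono hle
  omega

theorem exists_iso_two {S : Submodule K V} (hd : 2 ≤ Module.finrank K S) : ∃ u ∈ S, u ≠ 0 ∧ h u u = 0 := by
  obtain ⟨a, ha, ha0⟩ := Submodule.exists_mem_ne_zero_of_ne_bot (p := S) fun e => by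
    rw [e, finrank_bot] at hd; omega
  by_cases haa : h a a = 0
  · exact ⟨a, ha, ha0, haa⟩
  obtain ⟨φ, hφ⟩ : ∃ φ, φ = (H.lin a).comp S.subtype := ⟨_, rfl⟩
  obtain ⟨b, hb, hb0⟩ := Submodule.exists_mem_ne_zero_of_ne_bot (p := LinearMap.ker φ) fun e => by
    have h1 := LinearMap.finrank_range_add_finrank_ker φ
    have h2 := Submodule.finrank_le (LinearMap.range φ)
    rw [e, finrank_bot] at h1
    rw [Module.finrank_self] at h2
    omega
  have hba : h (b : V) a = 0 := by rw [hφ] at hb; exact LinearMap.mem_ker.1 hb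
  have hab : h a (b : V) = 0 := H.zero_comm.1 hba
  by_cases hbb : h (b : V) b = 0
  · exact ⟨b, b.2, fun e => hb0 (Subtype.ext e), hbb⟩
  obtain ⟨t, ht⟩ := Transvec.Unitary.exists_norm_eq H.ne_refl H.invol
    (b := -h a a / h (b : V) b) (by rw [map_div₀, map_neg, H.self_fixed, H.self_fixed])
  refine ⟨a + t • (b : V), S.add_mem ha (S.smul_mem t b.2), fun e => haa ?_, ?_⟩
  · have := congrArg (fun v => h v a) e
    simpa [H.add_left, H.smul_left, hba, H.zero_left] using this
  · rw [eq_div_iff hbb] at ht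
    simp only [H.add_left, H.add_right, H.smul_left, H.smul_right, hab, hba]
    linear_combination ht

/-- An isotropic vector orthogonal to one subspace and outside another. -/
theorem exists_iso_notMem {P P' : Submodule K V}
    (hd : Module.finrank K P + Module.finrank K P' + 2 ≤ Module.finrank K V) :
    ∃ u, u ≠ 0 ∧ h u u = 0 ∧ (∀ p ∈ P, h u p = 0) ∧ u ∉ P' := by
  obtain ⟨C, hC⟩ := Submodule.exists_isCompl (P'.comap (H.perp P).subtype)
  have h1 := Submodule.finrank_add_eq_of_isCompl hC
  have h2 : Module.finrank K (P'.comap (H.perp P).subtype) ≤ Module.finrank K P' := by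
    rw [← Submodule.finrank_map_subtype_eq (H.perp P) (P'.comap (H.perp P).subtype)]
    exact Submodule.finrank_mono (Submodule.map_comap_le _ _)
  have h3 := H.finrank_le_perp P
  obtain ⟨u, hu, hu0, huu⟩ := H.exists_iso_two (S := C.map (H.perp P).subtype)
    (by rw [Submodule.finrank_map_subtype_eq]; omega)
  obtain ⟨⟨u, huS⟩, huC, rfl⟩ := Submodule.mem_map.1 hu
  refine ⟨u, hu0, huu, huS, fun hP => hu0 ?_⟩
  have : (⟨u, huS⟩ : H.perp P) ∈ P'.comap (H.perp P).subtype ⊓ C := ⟨hP, huC⟩
  rw [hC.inf_eq_bot, Submodule.mem_bot] at this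
  exact congrArg Subtype.val this

theorem exists_partner {S : Submodule K V} {u r : V} (hu : u ∈ S) (hr : r ∈ S) (huu : h u u = 0)
    (hur : h r u ≠ 0) : ∃ z ∈ S, h z z = 0 ∧ h z u = 1 ∧ h u z = 1 := by
  obtain ⟨z₀, hz₀⟩ : ∃ z₀, z₀ = (h r u)⁻¹ • r := ⟨_, rfl⟩
  have hz₀u : h z₀ u = 1 := by rw [hz₀, H.smul_left, inv_mul_cancel₀ hur]
  have huz₀ : h u z₀ = 1 := by rw [H.herm, hz₀u, map_one]
  obtain ⟨t, htr⟩ := Transvec.Unitary.exists_trace_eq H.ne_refl H.invol (b := -h z₀ z₀)
    (by rw [map_neg, H.self_fixed])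
  refine ⟨z₀ + t • u, S.add_mem (hz₀ ▸ S.smul_mem _ hr) (S.smul_mem t hu), ?_, ?_, ?_⟩
  · simp only [H.add_left, H.add_right, H.smul_left, H.smul_right, hz₀u, huz₀, huu]
    linear_combination htr
  · rw [H.add_left, H.smul_left, hz₀u, huu, mul_zero, add_zero]
  · rw [H.add_right, H.smul_right, huz₀, huu, mul_zero, add_zero]

/-- A space containing a hyperbolic pair is spanned by its isotropic vectors. -/
theorem mem_span_paired {S : Submodule K V} {u z : V} (hu : u ∈ S) (hz : z ∈ S) (huu : h u u = 0)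
    (hzz : h z z = 0) (hzu : h z u = 1) {a : V} (ha : a ∈ S) :
    a ∈ Submodule.span K {s | s ∈ S ∧ h s s = 0} := by
  obtain ⟨T, hT⟩ : ∃ T, T = Submodule.span K {s | s ∈ S ∧ h s s = 0} := ⟨_, rfl⟩
  rw [← hT]
  have huz : h u z = 1 := by rw [H.herm, hzu, map_one]
  have huT : u ∈ T := hT ▸ Submodule.subset_span ⟨hu, huu⟩
  have hzT : z ∈ T := hT ▸ Submodule.subset_span ⟨hz, hzz⟩
  obtain ⟨a', ha'⟩ : ∃ a', a' = a - h a z • u - h a u • z := ⟨_, rfl⟩
  have e1 : h a' u = 0 := by rw [ha', H.sub_left, H.sub_left, H.smul_left, H.smul_left, huu, hzu]; ring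
  have e2 : h a' z = 0 := by rw [ha', H.sub_left, H.sub_left, H.smul_left, H.smul_left, hzz, huz]; ring
  have e1' : h u a' = 0 := H.zero_comm.1 e1
  have e2' : h z a' = 0 := H.zero_comm.1 e2
  obtain ⟨t, htr⟩ := Transvec.Unitary.exists_trace_eq H.ne_refl H.invol (b := -h a' a')
    (by rw [map_neg, H.self_fixed])
  obtain ⟨s, hs⟩ : ∃ s, s = a' + z + t • u := ⟨_, rfl⟩
  have hsT : s ∈ T := by
    refine hT ▸ Submodule.subset_span ⟨hs ▸ S.add_mem (S.add_mem ?_ hz) (S.smul_mem t hu), ?_⟩
    · rw [ha']; exact S.sub_mem (S.sub_mem ha (S.smul_mem _ hu)) (S.smul_mem _ hz)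
    · simp only [hs, H.add_left, H.add_right, H.smul_left, H.smul_right, e1, e2, e1', e2', huu, hzz, huz, hzu]
      linear_combination htr
  have e : a = s - z - t • u + h a z • u + h a u • z := by rw [hs, ha']; abel
  rw [e]
  exact T.add_mem (T.add_mem (T.sub_mem (T.sub_mem hsT hzT) (T.smul_mem _ huT)) (T.smul_mem _ huT))
    (T.smul_mem _ hzT)

/-- The orthogonal of a small subspace is spanned by its isotropic vectors. -/
theorem mem_span_perp {P : Submodule K V} (hd : 2 * Module.finrank K P + 2 ≤ Module.finrank K V) {v : V}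
    (hv : ∀ p ∈ P, h v p = 0) : v ∈ Submodule.span K {s | (∀ p ∈ P, h s p = 0) ∧ h s s = 0} := by
  obtain ⟨u, -, huu, huP, huP'⟩ := H.exists_iso_notMem (P := P) (P' := P) (by omega)
  obtain ⟨r, hrP, hru⟩ := H.exists_sep huP'
  obtain ⟨z, hz, hzz, hzu, -⟩ := H.exists_partner (S := H.perp P) huP hrP huu (by rw [hru]; exact one_ne_zero)
  exact H.mem_span_paired (S := H.perp P) huP hz huu hzz hzu hv

omit [Finite K] [FiniteDimensional K V] H in
theorem finrank_pair_le (a b : V) : Module.finrank K (Submodule.span K ({a, b} : Set V)) ≤ 2 := by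
  classical
  have h1 := finrank_span_le_card (R := K) ({a, b} : Set V)
  rw [Set.toFinset_insert, Set.toFinset_singleton] at h1
  have h2 : ({a, b} : Finset V).card ≤ 2 := Finset.card_le_two
  omega

omit [Finite K] [FiniteDimensional K V] H in
theorem finrank_triple_le (a b c : V) : Module.finrank K (Submodule.span K ({a, b, c} : Set V)) ≤ 3 := by
  classical
  have h1 := finrank_span_le_card (R := K) ({a, b, c} : Set V)
  rw [Set.toFinset_insert, Set.toFinset_insert, Set.toFinset_singleton] at h1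
  have h2 : ({a, b, c} : Finset V).card ≤ 3 := Finset.card_le_three
  omega

variable (hdim : 5 ≤ Module.finrank K V)
include hdim

/-- An isotropic vector orthogonal to a given one and off its line. -/
theorem exists_iso_off (a : V) : ∃ u, u ≠ 0 ∧ h u u = 0 ∧ h u a = 0 ∧ u ∉ Submodule.span K {a} := by
  have h1 : Module.finrank K (Submodule.span K ({a} : Set V)) ≤ 1 := (finrank_span_le_card _).trans (by simp)
  obtain ⟨u, hu0, huu, hu, hua⟩ := H.exists_iso_notMem (P := Submodule.span K ({a} : Set V))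
    (P' := Submodule.span K ({a} : Set V)) (by omega)
  exact ⟨u, hu0, huu, hu a (Submodule.mem_span_singleton_self a), hua⟩

/-- An isotropic vector orthogonal to two isotropic ones and off both their lines. -/
theorem exists_iso_between {a b : V} (ha0 : a ≠ 0) (ha : h a a = 0) (hb0 : b ≠ 0) (hb : h b b = 0) :
    ∃ u, u ≠ 0 ∧ h u u = 0 ∧ h u a = 0 ∧ h u b = 0 ∧ u ∉ Submodule.span K {a} ∧ u ∉ Submodule.span K {b} := by
  by_cases hm : b ∈ Submodule.span K {a}
  · obtain ⟨u, hu0, huu, hua, hum⟩ := H.exists_iso_off hdim a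
    obtain ⟨c, rfl⟩ := Submodule.mem_span_singleton.1 hm
    refine ⟨u, hu0, huu, hua, by rw [H.smul_right, hua, mul_zero], hum, fun e => hum ?_⟩
    exact Submodule.span_le.2 (Set.singleton_subset_iff.2 hm) e
  by_cases hab : h a b = 0
  · have hba := H.zero_comm.1 hab
    refine ⟨a + b, fun e => hm ?_, by rw [H.add_left, H.add_right, H.add_right, ha, hb, hab, hba]; ring,
      by rw [H.add_left, ha, hba, add_zero], by rw [H.add_left, hab, hb, add_zero], fun e => hm ?_, fun e => ?_⟩
    · rw [eq_neg_of_add_eq_zero_right e]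
      exact Submodule.neg_mem _ (Submodule.mem_span_singleton_self a)
    · simpa using Submodule.sub_mem _ e (Submodule.mem_span_singleton_self a)
    · have h' : a ∈ Submodule.span K {b} := by
        simpa using Submodule.sub_mem _ e (Submodule.mem_span_singleton_self b)
      obtain ⟨c, hc⟩ := Submodule.mem_span_singleton.1 h'
      have hc0 : c ≠ 0 := fun e0 => ha0 (by rw [← hc, e0, zero_smul])
      exact hm (Submodule.mem_span_singleton.2 ⟨c⁻¹, by rw [← hc, smul_smul, inv_mul_cancel₀ hc0, one_smul]⟩)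
  obtain ⟨u, hu0, huu, hu, -⟩ := H.exists_iso_notMem (P := Submodule.span K ({a, b} : Set V)) (P' := ⊥)
    (by have := finrank_pair_le (K := K) a b; rw [finrank_bot]; omega)
  have hua := hu a (Submodule.subset_span (by simp))
  have hub := hu b (Submodule.subset_span (by simp))
  refine ⟨u, hu0, huu, hua, hub, fun e => ?_, fun e => ?_⟩
  · obtain ⟨c, rfl⟩ := Submodule.mem_span_singleton.1 e
    rw [H.smul_left] at hub
    rcases mul_eq_zero.1 hub with rfl | h'
    · exact hu0 (zero_smul K a)
    · exact hab h'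
  · obtain ⟨c, rfl⟩ := Submodule.mem_span_singleton.1 e
    rw [H.smul_left] at hua
    rcases mul_eq_zero.1 hua with rfl | h'
    · exact hu0 (zero_smul K b)
    · exact hab (H.zero_comm.1 h')

/-- The orthogonal of a vector is spanned by its isotropic vectors. -/
theorem mem_span_perp_one {p v : V} (hv : h v p = 0) :
    v ∈ Submodule.span K {s | h s p = 0 ∧ h s s = 0} := by
  refine Submodule.span_mono ?_ (H.mem_span_perp (P := Submodule.span K ({p} : Set V)) (by
    have : Module.finrank K (Submodule.span K ({p} : Set V)) ≤ 1 := (finrank_span_le_card _).trans (by simp)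
    omega) (v := v) ?_)
  · exact fun s hs => ⟨hs.1 p (Submodule.mem_span_singleton_self p), hs.2⟩
  · intro q hq
    obtain ⟨t, rfl⟩ := Submodule.mem_span_singleton.1 hq
    rw [H.smul_right, hv, mul_zero]

theorem mem_span_iso (v : V) : v ∈ Submodule.span K {s | h s s = 0} :=
  Submodule.span_mono (fun _ hs => hs.2) (H.mem_span_perp_one hdim (p := 0) (H.zero_right v))

/-- An isotropic vector orthogonal to one vector but not to a second outside its line. -/
theorem exists_iso_ne {a b : V} (hb : b ∉ Submodule.span K {a}) :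
    ∃ z, h z z = 0 ∧ h z a = 0 ∧ h b z ≠ 0 := by
  by_contra hcon
  obtain ⟨r, hr, hrb⟩ := H.exists_sep hb
  have hm := H.mem_span_perp_one hdim (hr a (Submodule.mem_span_singleton_self a))
  refine one_ne_zero (hrb.symm.trans ?_)
  clear hr hrb
  induction hm using Submodule.span_induction with
  | mem s hs =>
    by_contra hne
    exact hcon ⟨s, hs.2, hs.1, fun e => hne (H.zero_comm.1 e)⟩
  | zero => exact H.zero_left b
  | add x y _ _ hx hy => rw [H.add_left, hx, hy, add_zero]
  | smul t x _ hx => rw [H.smul_left, hx, mul_zero]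

/-- A non-isotropic vector orthogonal to two orthogonal vectors, the first isotropic. -/
theorem exists_aniso_perp {p b m : V} (hbm : h b m = 1) (hpm : h p m = 0) :
    ∃ x, h x p = 0 ∧ h x b = 0 ∧ h x x ≠ 0 := by
  obtain ⟨y, hy, hym⟩ : ∃ y ∈ H.perp (Submodule.span K ({p} : Set V)),
      y ∉ Submodule.span K ({p, b, m} : Set V) := by
    refine SetLike.not_le_iff_exists.1 fun hle => ?_
    have h1 := Submodule.finrank_mono hle
    have h2 := H.finrank_le_perp (Submodule.span K ({p} : Set V))
    have h3 := finrank_triple_le (K := K) p b m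
    have h4 : Module.finrank K (Submodule.span K ({p} : Set V)) ≤ 1 := (finrank_span_le_card _).trans (by simp)
    omega
  have hyp : h y p = 0 := hy p (Submodule.mem_span_singleton_self p)
  obtain ⟨r, hr, hry⟩ := H.exists_sep hym
  have hrp := hr p (Submodule.subset_span (by simp))
  have hrb := hr b (Submodule.subset_span (by simp))
  have hrm := hr m (Submodule.subset_span (by simp))
  have hrP : r ∉ Submodule.span K ({p, b} : Set V) := fun e => by
    obtain ⟨α, β, rfl⟩ := Submodule.mem_span_pair.1 e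
    rw [H.add_left, H.smul_left, H.smul_left, hpm, hbm, mul_zero, zero_add, mul_one] at hrm
    rw [hrm, zero_smul, add_zero, H.smul_left, H.zero_comm.1 hyp, mul_zero] at hry
    exact zero_ne_one hry
  by_cases hrr : h r r = 0
  swap
  · exact ⟨r, hrp, hrb, hrr⟩
  obtain ⟨r', hr', hr'r⟩ := H.exists_sep hrP
  have hr'p := hr' p (Submodule.subset_span (by simp))
  have hr'b := hr' b (Submodule.subset_span (by simp))
  by_cases hr'r' : h r' r' = 0
  swap
  · exact ⟨r', hr'p, hr'b, hr'r'⟩
  obtain ⟨t, ht⟩ := Transvec.Unitary.exists_trace_ne_zero H.ne_refl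
  refine ⟨r + t • r', by rw [H.add_left, H.smul_left, hrp, hr'p, mul_zero, add_zero],
    by rw [H.add_left, H.smul_left, hrb, hr'b, mul_zero, add_zero], fun e => ht ?_⟩
  have e' : h r r' = 1 := by rw [H.herm, hr'r, map_one]
  simp only [H.add_left, H.add_right, H.smul_left, H.smul_right, hrr, hr'r', e', hr'r] at e
  linear_combination e

/-- A set of vectors orthogonal to `p`, additive and invariant under the root elements fixing `p`, is everything
orthogonal to `p` once it has one vector outside the line. -/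
theorem spread {p : V} (hpp : h p p = 0) {B : Set V} (hBp : ∀ b ∈ B, h b p = 0) (h0 : (0 : V) ∈ B)
    (hadd : ∀ {a b}, a ∈ B → b ∈ B → a + b ∈ B)
    (hinv : ∀ b ∈ B, ∀ z q, h z z = 0 → h q q = 0 → h z q = 0 → h z p = 0 → h q p = 0 →
      h b z • q - h b q • z ∈ B)
    {b : V} (hb : b ∈ B) (hbp : b ∉ Submodule.span K {p}) {w : V} (hw : h w p = 0) : w ∈ B := by
  -- skew multiples of isotropic vectors
  have hskew : ∀ {x z : V}, x ∈ B → h z z = 0 → h z p = 0 → ∀ {s : K}, σ s = -s → (s * h x z) • z ∈ B := by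
    intro x z hx hzz hzp s hs
    obtain ⟨e, he⟩ := Transvec.Unitary.exists_trace_eq H.ne_refl H.invol (b := (1 : K)) (map_one σ)
    have h1 := hinv x hx z ((e * s) • z) hzz (by rw [H.smul_left, H.smul_right, hzz, mul_zero, mul_zero])
      (by rw [H.smul_right, hzz, mul_zero]) hzp (by rw [H.smul_left, hzp, mul_zero])
    rw [H.smul_right, map_mul, hs, smul_smul, ← sub_smul] at h1
    rwa [show h x z * (e * s) - σ e * -s * h x z = s * h x z by linear_combination (h x z * s) * he] at h1
  obtain ⟨θ₀, hθ₀⟩ : ∃ θ, σ θ ≠ θ := by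
    by_contra hcon
    simp only [not_exists, not_not] at hcon
    exact H.ne_refl (RingEquiv.ext hcon)
  obtain ⟨θ, hθd⟩ : ∃ θ, θ = θ₀ - σ θ₀ := ⟨_, rfl⟩
  have hθ : θ ≠ 0 := hθd ▸ sub_ne_zero.2 (Ne.symm hθ₀)
  have hθs : σ θ = -θ := by rw [hθd, map_sub, H.invol, neg_sub]
  -- a whole isotropic line
  obtain ⟨y, hyy, hyp, hyn, hKy⟩ : ∃ y, h y y = 0 ∧ h y p = 0 ∧ y ∉ Submodule.span K {p} ∧
      ∀ k : K, k • y ∈ B := by
    have hbp' := hBp b hb
    by_cases hbb : h b b = 0
    · obtain ⟨m₀, hm₀, hm₀p, hbm₀⟩ := H.exists_iso_ne hdim hbp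
      obtain ⟨m, hmd⟩ : ∃ m, m = σ (h b m₀)⁻¹ • m₀ := ⟨_, rfl⟩
      have hbm : h b m = 1 := by rw [hmd, H.smul_right, H.invol, inv_mul_cancel₀ hbm₀]
      have hmb : h m b = 1 := by rw [H.herm, hbm, map_one]
      have hmm : h m m = 0 := by rw [hmd, H.smul_left, H.smul_right, hm₀, mul_zero, mul_zero]
      have hmp : h m p = 0 := by rw [hmd, H.smul_left, hm₀p, mul_zero]
      obtain ⟨x, hxp, hxb, hxx⟩ := H.exists_aniso_perp hdim hbm (H.zero_comm.1 hmp)
      obtain ⟨t, ht⟩ := Transvec.Unitary.exists_trace_eq H.ne_refl H.invol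
        (b := -(h x x + h m x + σ (h m x))) (by
          rw [map_neg, map_add, map_add, H.self_fixed, H.invol]; ring)
      obtain ⟨m', hm'⟩ : ∃ m', m' = m + x + t • b := ⟨_, rfl⟩
      have hxm : h x m = σ (h m x) := H.herm x m
      have hbx : h b x = 0 := H.zero_comm.1 hxb
      have hm'm' : h m' m' = 0 := by
        simp only [hm', H.add_left, H.add_right, H.smul_left, H.smul_right, hmm, hmb, hbm, hxb, hbx, hbb, hxm]
        linear_combination ht
      have hm'p : h m' p = 0 := by
        rw [hm', H.add_left, H.add_left, H.smul_left, hmp, hxp, hbp', mul_zero, add_zero, add_zero]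
      have hm'b : h m' b = 1 := by rw [hm', H.add_left, H.add_left, H.smul_left, hmb, hxb, hbb]; ring
      obtain ⟨ρ, hρ⟩ : ∃ ρ, ρ = h m m' := ⟨_, rfl⟩
      have hρ' : ρ + σ ρ = -h x x := by
        rw [hρ, hm', H.add_right, H.add_right, H.smul_right, hmm, hmb, mul_one, zero_add, map_add, H.invol]
        linear_combination ht
      have hρ0 : ρ + σ ρ ≠ 0 := hρ' ▸ neg_ne_zero.2 hxx
      have hm1 : ∀ {s : K}, σ s = -s → s • m ∈ B := fun hs => by
        have := hskew hb hmm hmp hs
        rwa [hbm, mul_one] at this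
      refine ⟨b, hbb, hbp', hbp, fun k => ?_⟩
      obtain ⟨δ, hδ⟩ : ∃ δ, δ = (k - σ k) / (θ * θ * θ * (ρ + σ ρ)) := ⟨_, rfl⟩
      have hδf : σ δ = δ := by
        rw [hδ, map_div₀, map_sub, map_mul, map_mul, map_mul, map_add, H.invol, H.invol, hθs,
          show σ k - k = -(k - σ k) by ring, show -θ * -θ * -θ * (σ ρ + ρ) = -(θ * θ * θ * (ρ + σ ρ)) by ring,
          neg_div_neg_eq]
      have hδ' : δ * (θ * θ * θ * (ρ + σ ρ)) = k - σ k :=
        hδ ▸ div_mul_cancel₀ _ (mul_ne_zero (mul_ne_zero (mul_ne_zero hθ hθ) hθ) hρ0)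
      have hf : σ (k - δ * θ * θ * θ * ρ) = k - δ * θ * θ * θ * ρ := by
        rw [map_sub, map_mul, map_mul, map_mul, map_mul, hδf, hθs]
        linear_combination hδ'
      have h1 := hskew (hm1 hθs) hbb hbp' (s := (k - δ * θ * θ * θ * ρ) / θ) (by
        rw [map_div₀, hf, hθs, div_neg])
      rw [H.smul_left, hmb, mul_one, div_mul_cancel₀ _ hθ] at h1
      have h2 := hskew (hskew (hm1 hθs) hm'm' hm'p hθs) hbb hbp' (s := δ * θ) (by rw [map_mul, hδf, hθs, mul_neg])
      rw [H.smul_left, H.smul_left, hm'b, mul_one, ← hρ] at h2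
      have h3 := hadd h1 h2
      rwa [← add_smul, show k - δ * θ * θ * θ * ρ + δ * θ * (θ * (θ * ρ)) = k by ring] at h3
    · obtain ⟨u, -, huu, huP, hun⟩ := H.exists_iso_notMem (P := Submodule.span K ({p, b} : Set V))
        (P' := Submodule.span K ({p} : Set V)) (by
          have := finrank_pair_le (K := K) p b
          have : Module.finrank K (Submodule.span K ({p} : Set V)) ≤ 1 := (finrank_span_le_card _).trans (by simp)
          omega)
      have hup := huP p (Submodule.subset_span (by simp))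
      have hub := huP b (Submodule.subset_span (by simp))
      obtain ⟨r, hr, hru⟩ := H.exists_sep (P := Submodule.span K ({p, b} : Set V)) (u := u) fun e => by
        obtain ⟨α, β, rfl⟩ := Submodule.mem_span_pair.1 e
        rw [H.add_left, H.smul_left, H.smul_left, H.zero_comm.1 hbp', mul_zero, zero_add] at hub
        rcases mul_eq_zero.1 hub with rfl | h'
        · exact hun (by rw [zero_smul, add_zero]; exact Submodule.smul_mem _ _ (Submodule.mem_span_singleton_self p))
        · exact hbb h'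
      obtain ⟨z₀, hz₀P, hz₀, hz₀u, huz₀⟩ := H.exists_partner (S := H.perp (Submodule.span K ({p, b} : Set V)))
        huP hr huu (by rw [hru]; exact one_ne_zero)
      have hz₀p : h z₀ p = 0 := hz₀P p (Submodule.subset_span (by simp))
      have hz₀b : h z₀ b = 0 := hz₀P b (Submodule.subset_span (by simp))
      obtain ⟨c, hc⟩ : ∃ c, c = h b b := ⟨_, rfl⟩
      have hc0 : c ≠ 0 := hc ▸ hbb
      have hcf : σ c = c := hc ▸ H.self_fixed b
      obtain ⟨α, hα⟩ := Transvec.Unitary.exists_trace_eq H.ne_refl H.invol (b := -c) (by rw [map_neg, hcf])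
      obtain ⟨n, hn⟩ : ∃ n, n = α • u + z₀ := ⟨_, rfl⟩
      have hnb : h n b = 0 := by rw [hn, H.add_left, H.smul_left, hub, hz₀b, mul_zero, add_zero]
      have hnp : h n p = 0 := by rw [hn, H.add_left, H.smul_left, hup, hz₀p, mul_zero, add_zero]
      have hnn : h n n = -c := by
        simp only [hn, H.add_left, H.add_right, H.smul_left, H.smul_right, huu, hz₀, hz₀u, huz₀]
        linear_combination hα
      obtain ⟨κ, hκ, hκ1⟩ : ∃ κ : K, κ * σ κ = 1 ∧ κ ≠ 1 := by
        refine ⟨θ₀ / σ θ₀, ?_, fun e => hθ₀ ?_⟩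
        · have h1 : θ₀ ≠ 0 := fun e => hθ₀ (by rw [e, map_zero])
          have h2 : σ θ₀ ≠ 0 := fun e => hθ₀ (by rw [e]; exact ((map_eq_zero_iff σ σ.injective).1 e).symm)
          rw [map_div₀, H.invol]
          field_simp
        · rw [div_eq_one_iff_eq (fun e' => by rw [e', div_zero] at e; exact zero_ne_one e)] at e
          exact e.symm
      have hbn : h b n = 0 := H.zero_comm.1 hnb
      obtain ⟨z₁, hz₁⟩ : ∃ z₁, z₁ = b + n := ⟨_, rfl⟩
      obtain ⟨z₂, hz₂⟩ : ∃ z₂, z₂ = b + κ • n := ⟨_, rfl⟩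
      have hz₁z₁ : h z₁ z₁ = 0 := by
        rw [hz₁, H.add_left, H.add_right, H.add_right, hbn, hnb, hnn, ← hc]; ring
      have hz₂z₂ : h z₂ z₂ = 0 := by
        simp only [hz₂, H.add_left, H.add_right, H.smul_left, H.smul_right, hbn, hnb, hnn, ← hc]
        linear_combination (-c) * hκ
      have hz₁p : h z₁ p = 0 := by rw [hz₁, H.add_left, hbp', hnp, add_zero]
      have hz₂p : h z₂ p = 0 := by rw [hz₂, H.add_left, H.smul_left, hbp', hnp, mul_zero, add_zero]
      have hbz₁ : h b z₁ = c := by rw [hz₁, H.add_right, hbn, add_zero, hc]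
      have hbz₂ : h b z₂ = c := by rw [hz₂, H.add_right, H.smul_right, hbn, mul_zero, add_zero, hc]
      have hz₁z₂ : h z₁ z₂ = c * (1 - σ κ) := by
        simp only [hz₁, hz₂, H.add_left, H.add_right, H.smul_right, hbn, hnb, hnn, ← hc]; ring
      have hz₂b : h z₂ b = c := by rw [H.herm, hbz₂, hcf]
      refine ⟨z₂, hz₂z₂, hz₂p, fun e => hc0 ?_, fun k => ?_⟩
      · obtain ⟨l, hl⟩ := Submodule.mem_span_singleton.1 e
        rw [← hz₂b, ← hl, H.smul_left, H.zero_comm.1 hbp', mul_zero]
      obtain ⟨v, hv⟩ : ∃ v, v = (1 - σ κ) + σ (1 - σ κ) := ⟨_, rfl⟩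
      have hv0 : v ≠ 0 := by
        have e : v = (1 - κ) * (1 - σ κ) := by
          rw [hv, map_sub, map_one, H.invol]; linear_combination -hκ
        rw [e]
        refine mul_ne_zero (sub_ne_zero.2 (Ne.symm hκ1)) (sub_ne_zero.2 fun e' => hκ1 ?_)
        rw [← H.invol κ, ← e', map_one]
      obtain ⟨δ, hδ⟩ : ∃ δ, δ = (k + σ k) / (θ * θ * c * c * v) := ⟨_, rfl⟩
      have hδf : σ δ = δ := by
        rw [hδ, map_div₀, map_add, map_mul, map_mul, map_mul, map_mul, H.invol, hθs, hcf, hv, map_add, H.invol,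
          add_comm (σ k) k, add_comm (σ (1 - σ κ)) (1 - σ κ)]
        ring
      have hδ' : δ * (θ * θ * c * c * v) = k + σ k := hδ ▸ div_mul_cancel₀ _
        (mul_ne_zero (mul_ne_zero (mul_ne_zero (mul_ne_zero hθ hθ) hc0) hc0) hv0)
      obtain ⟨s₁, hs₁⟩ : ∃ s₁, s₁ = k - δ * θ * θ * c * c * (1 - σ κ) := ⟨_, rfl⟩
      have hs : σ s₁ = -s₁ := by
        rw [hs₁, map_sub, map_mul, map_mul, map_mul, map_mul, map_mul, hδf, hθs, hcf]
        rw [hv] at hδ'
        linear_combination -hδ'
      have h1 := hskew hb hz₂z₂ hz₂p (s := s₁ / c) (by rw [map_div₀, hs, hcf, neg_div])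
      rw [hbz₂, div_mul_cancel₀ _ hc0] at h1
      have h2 := hskew (hskew hb hz₁z₁ hz₁p hθs) hz₂z₂ hz₂p (s := δ * θ) (by rw [map_mul, hδf, hθs, mul_neg])
      rw [H.smul_left, hbz₁, hz₁z₂] at h2
      have h3 := hadd h1 h2
      rwa [← add_smul, show s₁ + δ * θ * (θ * c * (c * (1 - σ κ))) = k by rw [hs₁]; ring] at h3
  -- all isotropic lines
  have hnear : ∀ {z : V}, h z z = 0 → h z p = 0 → h y z ≠ 0 → ∀ k : K, k • z ∈ B := by
    intro z hzz hzp hyz k
    have h1 := hskew (hKy (k / (θ * h y z))) hzz hzp hθs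
    rwa [H.smul_left, show θ * (k / (θ * h y z) * h y z) = k by field_simp] at h1
  obtain ⟨m, hmm, hmp, hym⟩ := H.exists_iso_ne hdim hyn
  have hiso : ∀ {s : V}, h s s = 0 → h s p = 0 → ∀ k : K, k • s ∈ B := by
    intro s hss hsp k
    by_cases hys : h y s = 0
    swap
    · exact hnear hss hsp hys k
    have hmy : h m y ≠ 0 := fun e => hym (H.zero_comm.1 e)
    obtain ⟨e, he⟩ := Transvec.Unitary.exists_trace_eq H.ne_refl H.invol
      (b := -(h m s + σ (h m s))) (by rw [map_neg, map_add, H.invol]; ring)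
    obtain ⟨t, ht⟩ : ∃ t, t = e / h y m := ⟨_, rfl⟩
    have ht' : t * h y m = e := by rw [ht, div_mul_cancel₀ _ hym]
    obtain ⟨m', hm'⟩ : ∃ m', m' = m + s + t • y := ⟨_, rfl⟩
    have hm'm' : h m' m' = 0 := by
      simp only [hm', H.add_left, H.add_right, H.smul_left, H.smul_right, hmm, hss, hyy, hys,
        H.zero_comm.1 hys, H.herm s m, H.herm m y]
      have : σ t * σ (h y m) = σ e := by rw [← map_mul, ht']
      linear_combination he + ht' + this
    have hm'p : h m' p = 0 := by
      rw [hm', H.add_left, H.add_left, H.smul_left, hmp, hsp, hyp, mul_zero, add_zero, add_zero]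
    have hym' : h y m' ≠ 0 := by
      rw [hm', H.add_right, H.add_right, H.smul_right, hys, hyy, mul_zero, add_zero, add_zero]
      exact hym
    have h1 := hadd (hadd (hnear hm'm' hm'p hym' k) (hnear hmm hmp hym (-k))) (hKy (-(k * t)))
    rwa [show k • m' + (-k) • m + (-(k * t)) • y = k • s by rw [hm']; module] at h1
  suffices key : ∀ k : K, k • w ∈ B by have := key 1; rwa [one_smul] at this
  have hspan := H.mem_span_perp_one hdim hw
  clear hw
  induction hspan using Submodule.span_induction with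
  | mem s hs => exact hiso hs.2 hs.1
  | zero => intro k; rw [smul_zero]; exact h0
  | add x y _ _ hx hy => intro k; rw [smul_add]; exact hadd (hx k) (hy k)
  | smul t x _ hx => intro k; rw [smul_smul]; exact hx _

/-- An injective additive map carrying isotropic lines into lines is semilinear. -/
theorem semilinear_of_lines {g : V →+ V} (hg : Function.Injective g)
    (hline : ∀ v, h v v = 0 → ∀ k : K, ∃ k' : K, g (k • v) = k' • g v) (k : K) :
    ∃ k' : K, ∀ x, g (k • x) = k' • g x := by
  choose f hf using hline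
  have hind : ∀ {u w : V} (hu : h u u = 0), u ≠ 0 → w ∉ Submodule.span K {u} → ∀ s t : K,
      s • g u + t • g w = 0 → t = 0 := by
    intro u w hu hu0 hw s t he
    by_contra ht
    have h1 : g w = (-t⁻¹ * s) • g u := by
      rw [← inv_smul_smul₀ ht (g w), eq_neg_of_add_eq_zero_right he, smul_neg, smul_smul, neg_mul, neg_smul]
    have hinj : Function.Injective (f u hu) := fun a b e => smul_left_injective K hu0 (hg (by simp only [hf u hu, e]))
    obtain ⟨l, hl⟩ := (Finite.injective_iff_surjective.1 hinj) (-t⁻¹ * s)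
    exact hw (Submodule.mem_span_singleton.2 ⟨l, hg (by rw [hf u hu, hl, h1])⟩)
  have horth : ∀ {u w : V} (hu : h u u = 0) (hw : h w w = 0), u ≠ 0 → w ∉ Submodule.span K {u} → h u w = 0 →
      ∀ l : K, f u hu l = f w hw l := by
    intro u w hu hw hu0 hwu huw l
    have hs : h (u + w) (u + w) = 0 := by
      rw [H.add_left, H.add_right, H.add_right, hu, hw, huw, H.zero_comm.1 huw]; ring
    have hw0 : g w ≠ 0 := fun e => hwu (by rw [hg (e.trans g.map_zero.symm)]; exact Submodule.zero_mem _)
    have hu0' : g u ≠ 0 := fun e => hu0 (hg (e.trans g.map_zero.symm))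
    have h1 := hf (u + w) hs l
    rw [smul_add, map_add, map_add, hf u hu, hf w hw, smul_add] at h1
    have h2 := hind hu hu0 hwu (f u hu l - f (u + w) hs l) (f w hw l - f (u + w) hs l)
      (by rw [sub_smul, sub_smul]; linear_combination (norm := module) h1)
    rw [← sub_eq_zero.1 h2, add_left_inj] at h1
    exact smul_left_injective K hu0' h1
  have hall : ∀ {u w : V} (hu : h u u = 0) (hw : h w w = 0), u ≠ 0 → w ≠ 0 → ∀ l : K, f u hu l = f w hw l := by
    intro u w hu hw hu0 hw0 l
    obtain ⟨m, hm0, hmm, hmu, hmw, hm, hm'⟩ := H.exists_iso_between hdim hu0 hu hw0 hw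
    rw [horth hu hmm hu0 hm (H.zero_comm.1 hmu), horth hw hmm hw0 hm' (H.zero_comm.1 hmw)]
  obtain ⟨u₀, hu₀0, hu₀, -⟩ := H.exists_iso_notMem (P := (⊥ : Submodule K V)) (P' := ⊥)
    (by rw [finrank_bot]; omega)
  refine ⟨f u₀ hu₀ k, fun x => ?_⟩
  suffices key : ∀ c : K, g (k • c • x) = f u₀ hu₀ k • g (c • x) by
    have := key 1
    rwa [one_smul] at this
  induction H.mem_span_iso hdim x using Submodule.span_induction with
  | mem s hs =>
    intro c
    rcases eq_or_ne (c • s) 0 with e | e
    · rw [e, smul_zero, map_zero, smul_zero]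
    have hcs : h (c • s) (c • s) = 0 := by
      rw [H.smul_left, H.smul_right, show h s s = 0 from hs, mul_zero, mul_zero]
    rw [hf _ hcs k, hall hcs hu₀ e hu₀0]
  | zero => intro c; simp
  | add a b _ _ ha hb => intro c; rw [smul_add, smul_add, map_add, map_add, ha, hb, smul_add]
  | smul t a _ ha => intro c; rw [smul_smul c t]; exact ha _

end Herm

/-- The root element `x ↦ x + h(x, z) q - h(x, q) z` as a linear map. -/
def uLin (H : Herm σ h) (z q : V) : V →ₗ[K] V :=
  LinearMap.id + (H.lin z).smulRight q - (H.lin q).smulRight z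

theorem uLin_apply (H : Herm σ h) (z q x : V) : uLin H z q x = x + h x z • q - h x q • z := rfl

theorem uLin_comp (H : Herm σ h) {z q : V} (hz : h z z = 0) (hq : h q q = 0) (hzq : h z q = 0) (x : V) :
    uLin H z (-q) (uLin H z q x) = x := by
  have hqz : h q z = 0 := H.zero_comm.1 hzq
  simp only [uLin_apply, H.neg_right, H.sub_left, H.add_left, H.smul_left, hz, hq, hzq, hqz, mul_zero, add_zero,
    sub_zero]
  module

theorem uLin_injective (H : Herm σ h) {z q : V} (hz : h z z = 0) (hq : h q q = 0) (hzq : h z q = 0) :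
    Function.Injective (uLin H z q) := fun x y e => by
  rw [← uLin_comp H hz hq hzq x, e, uLin_comp H hz hq hzq]

theorem uLin_iso (H : Herm σ h) {z q : V} (hz : h z z = 0) (hq : h q q = 0) (hzq : h z q = 0) (x y : V) :
    h (uLin H z q x) (uLin H z q y) = h x y := by
  have hqz : h q z = 0 := H.zero_comm.1 hzq
  simp only [uLin_apply, H.sub_left, H.sub_right, H.add_left, H.add_right, H.smul_left, H.smul_right, hz, hq, hzq,
    hqz, ← H.herm]
  ring

end CfsgLib.Classical22.UnitOver
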