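/-
A quadratic extension acting adjoint-closed on a bilinear space: the conjugation and the hermitian form.
-/
import Cfsg.Agent.Lib.Classical22.UnitOverSpace
import Cfsg.Prelude.Def_GeometricClasses
import Mathlib.LinearAlgebra.Dimension.Free

set_option autoImplicit false

namespace CfsgLib.Classical22.UnitOver

open CfsgLib.Transvec

variable {ι : Type} [Fintype ι] [DecidableEq ι] {F : Type*} [Field F]
variable {K : Type*} [Field K] [Algebra F K] [Module K (ι → F)] [IsScalarTower F K (ι → F)]

omit [Fintype ι] [DecidableEq ι] [Module K (ι → F)] [IsScalarTower F K (ι → F)] in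
theorem exists_coord (h2 : Module.finrank F K = 2) {θ : K} (hθ : ∀ c : F, θ ≠ algebraMap F K c) (k : K) :
    ∃ a b : F, k = algebraMap F K a + algebraMap F K b * θ := by
  haveI : FiniteDimensional F K := Module.finite_of_finrank_pos (by rw [h2]; norm_num)
  have hind : LinearIndependent F ![(1 : K), θ] := by
    rw [LinearIndependent.pair_iff]
    intro s t hst
    by_cases ht : t = 0
    · subst ht
      rw [zero_smul, add_zero, smul_eq_zero] at hst
      exact ⟨hst.resolve_right one_ne_zero, rfl⟩
    · refine absurd ?_ (hθ (-s / t))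
      rw [Algebra.algebraMap_eq_smul_one, div_eq_inv_mul, mul_smul, neg_smul, eq_neg_of_add_eq_zero_left hst,
        neg_neg, smul_smul, inv_mul_cancel₀ ht, one_smul]
  have hspan := hind.span_eq_top_of_card_eq_finrank' (by simp [h2])
  have hm : k ∈ Submodule.span F (Set.range ![(1 : K), θ]) := hspan ▸ Submodule.mem_top
  rw [Matrix.range_cons, Matrix.range_cons, Matrix.range_empty, Set.union_empty, Set.singleton_union] at hm
  obtain ⟨a, b, hab⟩ := Submodule.mem_span_pair.1 hm
  exact ⟨a, b, by rw [← hab, Algebra.smul_def, Algebra.smul_def, mul_one]⟩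

/-- The conjugation of a quadratic extension given by the adjoint map of a form. -/
structure IsConj (σ : K ≃+* K) (f : (ι → F) → (ι → F) → F) : Prop where
  ne_refl : σ ≠ RingEquiv.refl K
  invol : ∀ a, σ (σ a) = a
  base : ∀ c : F, σ (algebraMap F K c) = algebraMap F K c
  fixed : ∀ k, σ k = k → ∃ c : F, k = algebraMap F K c
  adj : ∀ (k : K) (x y : ι → F), f (k • x) y = f x (σ k • y)

variable {f : (ι → F) → (ι → F) → F} (hb : Cfsg.Geo.IsBilinearForm f)
  (hnd : Cfsg.Geo.IsNondegenerateForm f)

omit [Fintype ι] [DecidableEq ι] in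
include hb hnd in
theorem exists_conj [Nonempty ι] (h2 : Module.finrank F K = 2) {ε : F} (hsymm : ∀ u v, f u v = ε * f v u)
    (hε : ε * ε = 1) (hac : ∀ k : K, ∃ k' : K, ∀ x y, f (k • x) y = f x (k' • y))
    (hnsa : ∃ (k : K) (x y : ι → F), f (k • x) y ≠ f x (k • y)) : ∃ σ : K ≃+* K, IsConj σ f := by
  obtain ⟨v₀, hv₀⟩ := exists_ne (0 : ι → F)
  have huniq : ∀ {a b : K}, (∀ x y, f x (a • y) = f x (b • y)) → a = b := by
    intro a b e
    by_contra hne
    obtain ⟨x, hx⟩ := (hnd ((a - b) • v₀) (smul_ne_zero (sub_ne_zero.2 hne) hv₀)).1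
    refine hx ?_
    have h1 := e x v₀
    rw [show a • v₀ = (a - b) • v₀ + b • v₀ by rw [← add_smul, sub_add_cancel], hb.add_right] at h1
    exact add_eq_right.1 h1
  choose s hs using hac
  have hinv : ∀ a, s (s a) = a := fun a => huniq fun x y => by
    rw [← hs, hsymm, ← hs, hsymm, ← mul_assoc, hε, one_mul]
  have hbase : ∀ c : F, s (algebraMap F K c) = algebraMap F K c := fun c => huniq fun x y => by
    rw [← hs, algebraMap_smul, algebraMap_smul, hb.smul_left, hb.smul_right]
  have hadd : ∀ a b, s (a + b) = s a + s b := fun a b => huniq fun x y => by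
    rw [← hs, add_smul, add_smul, hb.add_left, hb.add_right, hs, hs]
  have hmul : ∀ a b, s (a * b) = s a * s b := fun a b => huniq fun x y => by
    rw [← hs, mul_comm (s a), mul_smul, mul_smul, hs, hs]
  obtain ⟨k₀, x₀, y₀, hk₀⟩ := hnsa
  let σ : K ≃+* K :=
    { toFun := s
      invFun := s
      left_inv := hinv
      right_inv := hinv
      map_mul' := hmul
      map_add' := hadd }
  have hσ : ∀ a, σ a = s a := fun _ => rfl
  have hmoves : σ k₀ ≠ k₀ := fun e => hk₀ (by rw [hs, ← hσ, e])
  refine ⟨σ, fun e => hmoves (by rw [e]; rfl), hinv, hbase, fun k hk => ?_, hs⟩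
  by_contra hc
  simp only [not_exists] at hc
  obtain ⟨a, b, hab⟩ := exists_coord h2 hc k₀
  refine hmoves ?_
  rw [hab, map_add, map_mul, hk, show σ (algebraMap F K a) = algebraMap F K a from hbase a,
    show σ (algebraMap F K b) = algebraMap F K b from hbase b]

variable {σ : K ≃+* K} (C : IsConj σ f)
include C

omit [Fintype ι] [DecidableEq ι] [IsScalarTower F K (ι → F)] in
theorem IsConj.exists_trace_base (k : K) : ∃ c : F, k + σ k = algebraMap F K c :=
  C.fixed _ (by rw [map_add, C.invol, add_comm])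

omit [Fintype ι] [DecidableEq ι] in
include hb hnd in
theorem exists_form (h2 : Module.finrank F K = 2) {ε : F} (hsymm : ∀ u v, f u v = ε * f v u) :
    ∃ h : (ι → F) → (ι → F) → K, (∀ x y v, h (x + y) v = h x v + h y v) ∧
      (∀ (c : K) x v, h (c • x) v = c * h x v) ∧ (∀ x y, h y x = algebraMap F K ε * σ (h x y)) ∧
      (∀ x y, algebraMap F K (f x y) = h x y + σ (h x y)) ∧ (∀ v, (∀ x, h x v = 0) → v = 0) := by
  obtain ⟨θ, hθ⟩ : ∃ θ, σ θ ≠ θ := by
    by_contra hcon
    simp only [not_exists, not_not] at hcon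
    exact C.ne_refl (RingEquiv.ext hcon)
  have hd : θ - σ θ ≠ 0 := sub_ne_zero.2 (Ne.symm hθ)
  have hθF : ∀ c : F, θ ≠ algebraMap F K c := fun c e => hθ (by rw [e, C.base])
  let h : (ι → F) → (ι → F) → K := fun x y =>
    (algebraMap F K (f (θ • x) y) - σ θ * algebraMap F K (f x y)) / (θ - σ θ)
  have hd' : σ θ - θ ≠ 0 := sub_ne_zero.2 hθ
  have htr : ∀ (k : K) x y, algebraMap F K (f (k • x) y) = k * h x y + σ (k * h x y) := by
    intro k x y
    obtain ⟨a, b, hab⟩ := exists_coord h2 hθF k
    have e : f (k • x) y = a * f x y + b * f (θ • x) y := by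
      rw [hab, add_smul, mul_smul, algebraMap_smul, algebraMap_smul, hb.add_left, hb.smul_left, hb.smul_left]
    rw [e, hab]
    simp only [h, map_add, map_mul, map_div₀, map_sub, C.base, C.invol]
    field_simp
    ring
  have hext : ∀ {j j' : K}, (∀ k : K, k * j + σ (k * j) = k * j' + σ (k * j')) → j = j' := by
    intro j j' e
    have e1 := e 1
    have e2 := e θ
    simp only [one_mul, map_mul] at e1 e2
    have : (θ - σ θ) * (j - j') = 0 := by linear_combination e2 - σ θ * e1
    exact sub_eq_zero.1 ((mul_eq_zero.1 this).resolve_left hd)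
  refine ⟨h, fun x y v => hext fun k => ?_, fun c x v => hext fun k => ?_, fun x y => hext fun k => ?_,
    fun x y => ?_, fun v hv => ?_⟩
  · rw [← htr, smul_add, hb.add_left, map_add, htr, htr, mul_add, map_add]; ring
  · rw [← htr, smul_smul, htr, mul_assoc]
  · have : f (k • y) x = ε * f (σ k • x) y := by
      rw [C.adj, hsymm y]
    rw [← htr, this, map_mul, htr]
    simp only [map_mul, C.invol, C.base]
    ring
  · have := htr 1 x y
    rwa [one_smul, one_mul] at this
  · by_contra hv0
    obtain ⟨x, hx⟩ := (hnd v hv0).1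
    refine hx ((algebraMap F K).injective ?_)
    have := htr 1 x v
    rw [one_smul, hv, mul_zero, map_zero, add_zero] at this
    rw [this, map_zero]

omit [Fintype ι] [DecidableEq ι] in
include hb hnd in
/-- Symmetric case. -/
theorem exists_herm_symm (h2 : Module.finrank F K = 2) (hsymm : ∀ u v, f u v = f v u) :
    ∃ h : (ι → F) → (ι → F) → K, Herm σ h ∧ ∀ x y, algebraMap F K (f x y) = h x y + σ (h x y) := by
  obtain ⟨h, h1, h2', h3, h4, h5⟩ := exists_form hb hnd C h2 (ε := 1) (fun u v => by rw [one_mul]; exact hsymm u v)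
  exact ⟨h, ⟨C.ne_refl, C.invol, h1, h2', fun v w => by rw [h3 w v, map_one, one_mul], h5⟩, h4⟩

omit [Fintype ι] [DecidableEq ι] in
include hb hnd in
/-- Alternating case. -/
theorem exists_herm_skew (h2 : Module.finrank F K = 2) (hskew : ∀ u v, f u v = -f v u) :
    ∃ (δ : K) (h : (ι → F) → (ι → F) → K), δ ≠ 0 ∧ σ δ = -δ ∧ Herm σ h ∧
      ∀ x y, algebraMap F K (f x y) = δ * h x y + σ (δ * h x y) := by
  obtain ⟨h, h1, h2', h3, h4, h5⟩ :=
    exists_form hb hnd C h2 (ε := -1) (fun u v => by rw [neg_one_mul]; exact hskew u v)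
  obtain ⟨δ, hδ0, hδ⟩ := Transvec.Unitary.exists_skew C.ne_refl C.invol
  have hδσ : σ δ = -δ := by linear_combination hδ
  refine ⟨δ, fun x y => h x y / δ, hδ0, hδσ, ⟨C.ne_refl, C.invol, fun x y v => ?_, fun c x v => ?_, fun v w => ?_,
    fun v hv => h5 v fun x => ?_⟩, fun x y => ?_⟩
  · simp only [h1, add_div]
  · simp only [h2', mul_div_assoc]
  · simp only [h3 w v, map_div₀, hδσ, map_neg, map_one]
    rw [div_neg, neg_one_mul, neg_div]
  · exact (div_eq_zero_iff.1 (hv x)).resolve_right hδ0
  · rw [mul_div_cancel₀ _ hδ0]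
    exact h4 x y

omit [Fintype ι] [DecidableEq ι] C in
theorem finrank_eq_half [Finite ι] (h2 : Module.finrank F K = 2) :
    FiniteDimensional K (ι → F) ∧ 2 * Module.finrank K (ι → F) = Module.finrank F (ι → F) := by
  haveI : FiniteDimensional F K := Module.finite_of_finrank_pos (by rw [h2]; norm_num)
  haveI := Module.Finite.of_restrictScalars_finite F K (ι → F)
  exact ⟨inferInstance, by rw [← h2, Module.finrank_mul_finrank]⟩

end CfsgLib.Classical22.UnitOver
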