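import Mathlib

/-!
# The arithmetic at the end of the abelian kernel argument
-/

set_option autoImplicit false

namespace CfsgLib.Classical22.CTK

/-- The two column relations and the class multiplication relation are incompatible. -/
theorem arith_false {e k r w a E P M : ℝ} (he : e = 1 ∨ e = -1) (hk : 3 ≤ k) (hr : 3 ≤ r)
    (hw : w = 0 ∨ 1 ≤ w) (ha : a = r * k + 1) (hP : 0 ≤ P) (hM : 0 ≤ M)
    (hE : E = k * (e + r * w)) (hEpos : 0 < E)
    (h1 : P + M = k - 1 - 2 * e * w - r * w ^ 2)
    (h2 : E * (1 + (P / (a + 1) - M / (a - 1))) +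
      (-e * k ^ 2 - w * (a - 3 * k) - 3 * e * w ^ 2 - r * w ^ 3) = 0) : False := by
  have hw0 : 0 ≤ w := by rcases hw with h | h <;> linarith
  have hrk : 0 < r * k := by positivity
  have ha1 : 0 < a - 1 := by linarith
  have ha2 : 0 < a + 1 := by linarith
  rcases he with rfl | rfl
  · -- `ε = 1`
    have hb1 : E * (P / (a + 1)) ≤ (w + 1) * P := by
      rw [← mul_div_assoc, div_le_iff₀ ha2]
      have : E ≤ (w + 1) * (a + 1) := by nlinarith
      nlinarith [mul_le_mul_of_nonneg_right this hP]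
    have hb2 : 0 ≤ E * (M / (a - 1)) := by positivity
    have hb3 : 0 ≤ (w + 1) * M := by positivity
    have hle : 0 ≤ E + (w + 1) * (P + M) +
        (-1 * k ^ 2 - w * (a - 3 * k) - 3 * 1 * w ^ 2 - r * w ^ 3) := by linarith
    rw [h1, hE, ha] at hle
    rcases hw with rfl | hw
    · nlinarith
    · have hkb : 2 * w + 1 + 3 * w ^ 2 ≤ k := by nlinarith
      nlinarith [mul_nonneg (sub_nonneg.2 hkb) hw0, sq_nonneg (k - (4 * w + 2)),
        mul_nonneg hw0 hw0, mul_nonneg (mul_nonneg hw0 hw0) (sub_nonneg.2 hr)]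
  · -- `ε = -1`
    have hw1 : 1 ≤ w := by
      rcases hw with rfl | h
      · nlinarith
      · exact h
    have hb1 : E * (M / (a - 1)) ≤ w * M := by
      rw [← mul_div_assoc, div_le_iff₀ ha1]
      have : E ≤ w * (a - 1) := by nlinarith
      nlinarith [mul_le_mul_of_nonneg_right this hM]
    have hb2 : 0 ≤ E * (P / (a + 1)) := by positivity
    have hb3 : 0 ≤ w * P := by positivity
    have hle : E - w * (P + M) +
        (-(-1) * k ^ 2 - w * (a - 3 * k) - 3 * (-1) * w ^ 2 - r * w ^ 3) ≤ 0 := by linarith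
    rw [h1, hE, ha] at hle
    nlinarith [mul_nonneg (mul_nonneg (le_trans zero_le_one hw1) (le_trans (by norm_num) hk)) zero_le_one]

end CfsgLib.Classical22.CTK
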