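import Cfsg.Agent.Lib.Classical22.CTKernelLocal
import Cfsg.Agent.Lib.Classical22.CTKernelArith
import Cfsg.Agent.Lib.Char.PermChar
import Cfsg.Agent.S0881

/-!
# No simple Zassenhaus group has `KData`

In an abelian kernel of even order (two-point stabilisers of odd order) every nonidentity element
is an involution.
-/

set_option autoImplicit false
set_option maxHeartbeats 800000

namespace CfsgLib.Classical22.CTK

open MulAction CfsgLib.Char CfsgLib.Char.Zassenhaus
open scoped ComplexConjugate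

variable {G Ω : Type*} [Group G] [Fintype G] [MulAction G Ω] [Fintype Ω]
variable {a b : Ω} {H : Subgroup G} {u t : G}

theorem KData.th_ne_one (j : Rel G a H) : th j ≠ fun _ => 1 := by
  intro e
  obtain ⟨z, -, hz⟩ := j.2
  exact hz (by show th j z = th j 1; rw [e])

theorem KData.fix_card_kernel (D : KData a b H u t) {v : G} (hv : v ∈ H) (hv1 : v ≠ 1) :
    Nat.card (fixedBy Ω v) = 1 := by
  rw [Nat.card_eq_one_iff_unique]
  exact ⟨⟨fun c d => Subtype.ext ((D.hHfix v hv hv1 _ c.2).trans (D.hHfix v hv hv1 _ d.2).symm)⟩,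
    ⟨⟨a, mem_stabilizer_iff.mp (D.hHa hv)⟩⟩⟩

theorem KData.index_point (D : KData a b H u t) :
    ((stabilizer G a).index : ℂ) = (Nat.card H : ℂ) + 1 := by
  have := CfsgLib.Char.Zassenhaus.isPretransitive D.hZ
  rw [index_stabilizer_of_transitive, Nat.card_eq_fintype_card, ← D.hHcard]
  push_cast
  rfl

/-- The irreducible characters with a linear constituent on the point stabiliser. -/
theorem KData.classify (D : KData a b H u t) [Fintype (stabilizer G a)] {χ : G → ℂ}
    (hχ : Cfsg.IsIrrCharacter G χ) {ψ : Cfsg.IrrCharacter (stabilizer G a)}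
    (hψ : ¬ IsRelevant (kin H a) (ψ : stabilizer G a → ℂ))
    (hc : Cfsg.classInner (fun z : stabilizer G a => χ z) ψ ≠ 0) :
    χ = (fun _ => 1) ∨ (∀ v ∈ H, v ≠ 1 → χ v = 0) ∨
      ((∀ v ∈ H, v ≠ 1 → χ v = 1) ∧ χ 1 = (Nat.card H : ℂ) + 1) := by
  classical
  have := D.simple
  have hχc := isClassFunction_of_isIrr hχ
  by_cases h1 : (ψ : stabilizer G a → ℂ) = fun _ => 1
  · have := CfsgLib.Char.Zassenhaus.isPretransitive D.hZ
    have hX : 2 ≤ Nat.card Ω := by
      rw [Nat.card_eq_fintype_card, ← D.hHcard]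
      have := (Nat.card_pos : 0 < Nat.card H)
      omega
    have hSt := (permChar_sub_one_irr_iff (G := G) (X := Ω) hX).2 D.hZ.2.1
    rw [h1, ← frobenius_reciprocity' (stabilizer G a) _ hχc, ← permChar_eq_indFun (G := G) a] at hc
    by_cases hχ1 : χ = fun _ => 1
    · exact Or.inl hχ1
    · refine Or.inr (Or.inl fun v hv hv1 => ?_)
      have he : χ = fun g => (Nat.card (fixedBy Ω g) : ℂ) - 1 := by
        by_contra hne
        apply hc
        rw [show (fun g : G => (Nat.card (fixedBy Ω g) : ℂ)) =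
          (fun g : G => (Nat.card (fixedBy Ω g) : ℂ) - 1) + (fun _ => (1 : ℂ)) from
            funext fun g => by simp, classInner_add_right, classInner_irr_ne hχ hSt hne,
          classInner_irr_ne hχ isIrrCharacter_one hχ1, add_zero]
      rw [he]
      simp only [D.fix_card_kernel hv hv1, Nat.cast_one, sub_self]
  · have hlt : kk G a b < Fintype.card Ω - 2 := by
      have := Fintype.ofFinite (Rel G a H)
      have := D.two_mul_lt
      rw [← D.hHcard]
      omega
    obtain ⟨hirr, hval⟩ := Cfsg.Agent.S0881.result D.hZ D.hab D.hodd hlt H D.hHa D.hHcard D.hHfix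
      (ψ : stabilizer G a → ℂ) ⟨isCharacter_of_isIrr ψ.2, D.nonrel_one ψ.2 hψ⟩
      (fun z hz => D.nonrel_val hψ hz) h1
    rw [← frobenius_reciprocity' (stabilizer G a) _ hχc] at hc
    have he : χ = Cfsg.indFun (stabilizer G a) (ψ : stabilizer G a → ℂ) := by
      by_contra hne
      exact hc (classInner_irr_ne hχ hirr hne)
    refine Or.inr (Or.inr ⟨fun v hv hv1 => he ▸ hval v hv hv1, ?_⟩)
    rw [he, indFun_one, D.nonrel_one ψ.2 hψ, mul_one, D.index_point]

variable [Fintype (stabilizer G a)] [Fintype (Rel G a H)]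

/-- The restriction to the point stabiliser of a character, on the kernel. -/
theorem KData.res_val (D : KData a b H u t) {χ : G → ℂ} (hχ : Cfsg.IsCharacter G χ) :
    ∃ (n : ℕ) (m : Rel G a H → ℕ),
      (n ≠ 0 → ∃ ψ : Cfsg.IrrCharacter (stabilizer G a),
        ¬ IsRelevant (kin H a) (ψ : stabilizer G a → ℂ) ∧
          Cfsg.classInner (fun z : stabilizer G a => χ z) ψ ≠ 0) ∧
      (∀ j, Cfsg.classInner (fun z : stabilizer G a => χ z) (th j) = m j) ∧
      χ 1 = (n : ℂ) + (kk G a b : ℂ) * ∑ j, (m j : ℂ) ∧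
      ∀ (v : G) (hv : v ∈ H), χ v = (n : ℂ) + ∑ j, (m j : ℂ) * th j ⟨v, D.hHa hv⟩ := by
  classical
  obtain ⟨m, hm, hmi⟩ := char_decomp (isCharacter_res (stabilizer G a) hχ)
  set Nr := Finset.univ.filter (fun ψ : Cfsg.IrrCharacter (stabilizer G a) =>
    ¬ IsRelevant (kin H a) (ψ : stabilizer G a → ℂ)) with hNr
  refine ⟨∑ ψ ∈ Nr, m ψ, fun j => m j.1, fun hn => ?_, fun j => hmi j.1, ?_, fun v hv => ?_⟩
  · obtain ⟨ψ, hψ, hne⟩ := Finset.exists_ne_zero_of_sum_ne_zero hn
    refine ⟨ψ, (Finset.mem_filter.mp hψ).2, ?_⟩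
    rw [show Cfsg.classInner (fun z : stabilizer G a => χ z) ψ = (m ψ : ℂ) from hmi ψ]
    exact_mod_cast hne
  · have h := congrFun hm 1
    simp only [Finset.sum_apply, Pi.smul_apply, smul_eq_mul] at h
    rw [sum_split (H := H)] at h
    rw [show χ 1 = χ ((1 : stabilizer G a) : G) from rfl]
    refine h.trans (congrArg₂ (· + ·) ?_ ?_)
    · push_cast
      exact Finset.sum_congr rfl fun ψ hψ => by
        rw [D.nonrel_one ψ.2 (Finset.mem_filter.mp hψ).2, mul_one]
    · rw [Finset.mul_sum]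
      exact Finset.sum_congr rfl fun j _ => by
        rw [show (j.1 : stabilizer G a → ℂ) 1 = th j 1 from rfl, D.th_one j, mul_comm]
  · have h := congrFun hm ⟨v, D.hHa hv⟩
    simp only [Finset.sum_apply, Pi.smul_apply, smul_eq_mul] at h
    rw [sum_split (H := H)] at h
    refine h.trans (congrArg₂ (· + ·) ?_ rfl)
    push_cast
    exact Finset.sum_congr rfl fun ψ hψ => by
      rw [D.nonrel_val (Finset.mem_filter.mp hψ).2 (z := ⟨v, D.hHa hv⟩) hv, mul_one]

/-- The induced difference of two characters nontrivial on the kernel. -/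
noncomputable def tau (i j : Rel G a H) : G → ℂ := Cfsg.indFun (stabilizer G a) (th i - th j)

theorem KData.diff_out (D : KData a b H u t) (i j : Rel G a H) (x : stabilizer G a)
    (hx : (x : G) ∉ (H : Set G)) : (th i - th j) x = 0 := by
  rw [Pi.sub_apply, D.th_out i hx, D.th_out j hx, sub_zero]

theorem KData.diff_one (D : KData a b H u t) (i j : Rel G a H) : (th i - th j) 1 = 0 := by
  rw [Pi.sub_apply, D.th_one i, D.th_one j, sub_self]

theorem diff_cl (i j : Rel G a H) : Cfsg.IsClassFunction (stabilizer G a) (th i - th j) :=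
  isClassFunction_sub (isClassFunction_of_isIrr (th_irr i)) (isClassFunction_of_isIrr (th_irr j))

theorem KData.tau_val (D : KData a b H u t) (i j : Rel G a H) {v : G} (hv : v ∈ H) (hv1 : v ≠ 1) :
    tau i j v = th i ⟨v, D.hHa hv⟩ - th j ⟨v, D.hHa hv⟩ :=
  indFun_eq_of_TI (stabilizer G a) (H : Set G) (fun _ hg _ hw h => D.ti hg hw h) (diff_cl i j)
    (D.diff_out i j) (t := ⟨v, D.hHa hv⟩) hv fun e => hv1 (congrArg Subtype.val e)

/-- Class functions constant on the nonidentity elements of the kernel are orthogonal to `tau`. -/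
theorem KData.tau_const (D : KData a b H u t) (i j : Rel G a H) {Φ : G → ℂ}
    (hΦ : Cfsg.IsClassFunction G Φ) {c : ℂ} (hc : ∀ v ∈ H, v ≠ 1 → Φ v = c) :
    Cfsg.classInner (tau i j) Φ = 0 := by
  rw [tau, frobenius_reciprocity (stabilizer G a) _ hΦ]
  have he : Cfsg.classInner (th i - th j) (fun z : stabilizer G a => Φ z) =
      Cfsg.classInner (th i - th j) (c • fun _ : stabilizer G a => (1 : ℂ)) := by
    simp only [classInner_def]
    congr 1
    refine Finset.sum_congr rfl fun x _ => ?_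
    by_cases hxH : (x : G) ∈ H
    · by_cases hx1 : x = 1
      · rw [hx1, D.diff_one, zero_mul, zero_mul]
      · rw [hc x hxH fun e => hx1 (Subtype.ext e)]
        simp
    · rw [D.diff_out i j x hxH, zero_mul, zero_mul]
  rw [he, classInner_smul_right, classInner_sub_left,
    classInner_irr_ne (th_irr i) isIrrCharacter_one (KData.th_ne_one i),
    classInner_irr_ne (th_irr j) isIrrCharacter_one (KData.th_ne_one j), sub_zero, mul_zero]

theorem KData.tau_gram (D : KData a b H u t) [DecidableEq (Rel G a H)] (i₀ i j : Rel G a H)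
    (hi : i ≠ i₀) (hj : j ≠ i₀) :
    Cfsg.classInner (tau i i₀) (tau j i₀) = if i = j then 2 else 1 := by
  rw [tau, tau, classInner_indFun_of_TI (stabilizer G a) (H : Set G)
    (fun _ hg _ hw h => D.ti hg hw h) (diff_cl j i₀) (D.diff_out i i₀) (D.diff_out j i₀)
    (D.diff_one i i₀)]
  simp only [classInner_sub_left, classInner_sub_right]
  rw [classInner_irr_ne (th_irr i) (th_irr i₀) (fun e => hi (th_injective e)),
    classInner_irr_ne (th_irr i₀) (th_irr j) (fun e => hj (th_injective e).symm),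
    classInner_irr_self (th_irr i₀)]
  split_ifs with hij
  · rw [hij, classInner_irr_self (th_irr j)]
    norm_num
  · rw [classInner_irr_ne (th_irr i) (th_irr j) (fun e => hij (th_injective e))]
    norm_num

theorem KData.cent_card (D : KData a b H u t) {v : G} (hv : v ∈ H) (hv1 : v ≠ 1) :
    Nat.card (Subgroup.centralizer ({v} : Set G)) = Nat.card H := by
  congr 2
  refine le_antisymm (fun c hc => D.cent_mem hv hv1 (Subgroup.mem_centralizer_singleton_iff.mp hc))
    fun c hc => Subgroup.mem_centralizer_singleton_iff.mpr (D.hcomm c hc v hv)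

theorem KData.class_zero (D : KData a b H u t) :
    ∑ χ : Cfsg.IrrCharacter G, (χ : G → ℂ) t * (χ : G → ℂ) t * conj ((χ : G → ℂ) u) /
      (χ : G → ℂ) 1 = 0 := by
  classical
  have hzero : Nat.card {p : G × G // IsConj t p.1 ∧ IsConj t p.2 ∧ p.1 * p.2 = u} = 0 := by
    rw [Nat.card_eq_zero]
    refine Or.inl ⟨fun p => ?_⟩
    obtain ⟨⟨x, y⟩, hx, hy, hxy⟩ := p
    have ho : ∀ z : G, IsConj t z → orderOf z = 2 := fun z hz => by
      obtain ⟨g, rfl⟩ := isConj_iff.mp hz
      rw [← MulAut.conj_apply, MulEquiv.orderOf_eq, D.ht2]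
    exact D.no_pair (ho x hx) (ho y hy) hxy
  have hne : (Nat.card {x : G // IsConj t x} : ℂ) ≠ 0 := by
    have : Nonempty {x : G // IsConj t x} := ⟨⟨t, IsConj.refl t⟩⟩
    exact_mod_cast Nat.card_pos.ne'
  have h0 := card_classProduct_eq t t u
  rw [hzero, Nat.cast_zero, eq_comm, mul_eq_zero] at h0
  exact h0.resolve_left (div_ne_zero (mul_ne_zero hne hne) card_ne_zero')

theorem KData.false_aux (D : KData a b H u t) : False := by
  classical
  have hk3 := D.three_le_kk
  have hr3 := D.three_le_card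
  have hcard := D.card_eq
  obtain ⟨k, hkdef⟩ : ∃ k : ℕ, k = kk G a b := ⟨_, rfl⟩
  obtain ⟨r, hrdef⟩ : ∃ r : ℕ, r = Fintype.card (Rel G a H) := ⟨_, rfl⟩
  obtain ⟨A, hAdef⟩ : ∃ A : ℕ, A = Nat.card H := ⟨_, rfl⟩
  rw [← hkdef, ← hrdef, ← hAdef] at hcard
  rw [← hkdef] at hk3
  rw [← hrdef] at hr3
  obtain ⟨i₀, l₀, hl₀⟩ := Fintype.one_lt_card_iff.mp (show 1 < Fintype.card (Rel G a H) by omega)
  obtain ⟨ε, hε, μ, hμ, hμinj, hτ⟩ := coherent_of_gram i₀ (fun i => tau i i₀)
    (by simp [tau, indFun_zero]) (fun i => isGen_indFun _ (isGen_sub (isGen_of_irr (th_irr i))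
      (isGen_of_irr (th_irr i₀))))
    (fun i => by simp only [tau, indFun_one, D.diff_one, mul_zero]) (D.tau_gram i₀)
  obtain ⟨e, he, rfl⟩ : ∃ e : ℝ, (e = 1 ∨ e = -1) ∧ ε = (e : ℂ) := by
    rcases hε with h | h
    · exact ⟨1, Or.inl rfl, by simp [h]⟩
    · exact ⟨-1, Or.inr rfl, by simp [h]⟩
  have hee : (e : ℂ) * e = 1 := by rcases he with rfl | rfl <;> simp
  have hinner : ∀ i (χ : G → ℂ), Cfsg.IsIrrCharacter G χ →
      Cfsg.classInner (tau i i₀) χ = (e : ℂ) *
        ((if μ i = χ then 1 else 0) - if μ i₀ = χ then 1 else 0) := by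
    intro i χ hχ
    rw [hτ i, classInner_smul_left, classInner_sub_left]
    congr 2 <;> split_ifs with h
    · rw [h, classInner_irr_self hχ]
    · exact classInner_irr_ne (hμ _) hχ h
    · rw [h, classInner_irr_self hχ]
    · exact classInner_irr_ne (hμ _) hχ h
  have he0 : (e : ℂ) ≠ 0 := left_ne_zero_of_mul_eq_one hee
  -- the exceptional characters are not constant on the kernel
  have hnc : ∀ (j : Rel G a H) (c : ℂ), ¬ ∀ v ∈ H, v ≠ 1 → μ j v = c := by
    intro j c hc
    by_cases hj : j = i₀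
    · have h := D.tau_const l₀ i₀ (isClassFunction_of_isIrr (hμ j)) hc
      rw [hinner l₀ _ (hμ j), hj, if_neg (fun h => hl₀ (hμinj h).symm), if_pos rfl] at h
      simp [he0] at h
    · have h := D.tau_const j i₀ (isClassFunction_of_isIrr (hμ j)) hc
      rw [hinner j _ (hμ j), if_pos rfl, if_neg (fun h => hj (hμinj h).symm)] at h
      simp [he0] at h
  choose n m hn hm h1 hv using fun χ : Cfsg.IrrCharacter G => D.res_val (isCharacter_of_isIrr χ.2)
  let M : Rel G a H → Cfsg.IrrCharacter G := fun j => ⟨μ j, hμ j⟩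
  have hdiff : ∀ (χ : Cfsg.IrrCharacter G) (l : Rel G a H),
      (m χ l : ℂ) - (m χ i₀ : ℂ) = (e : ℂ) *
        ((if μ l = χ then 1 else 0) - if μ i₀ = χ then 1 else 0) := by
    intro χ l
    have h : Cfsg.classInner (χ : G → ℂ) (tau l i₀) = (m χ l : ℂ) - (m χ i₀ : ℂ) := by
      rw [tau, frobenius_reciprocity' (stabilizer G a) _ (isClassFunction_of_isIrr χ.2),
        classInner_sub_right, hm, hm]
    rw [← h, ← classInner_conj_symm, hinner l _ χ.2]
    simp only [map_mul, map_sub, apply_ite (starRingEnd ℂ), map_one, map_zero, Complex.conj_ofReal]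
  have hnM : ∀ j, n (M j) = 0 := by
    intro j
    by_contra h0
    obtain ⟨ψ, hψ, hc⟩ := hn (M j) h0
    rcases D.classify (hμ j) hψ hc with h | h | ⟨h, -⟩
    · exact hnc j 1 fun v _ _ => congrFun h v
    · exact hnc j 0 h
    · exact hnc j 1 h
  have hsum : ∀ (v : G) (hvH : v ∈ H) (hv1 : v ≠ 1), ∑ l, th l ⟨v, D.hHa hvH⟩ = -1 :=
    fun v hvH hv1 => D.sum_th (z := ⟨v, D.hHa hvH⟩) hvH hv1
  let c : Rel G a H → ℂ := fun j => (m (M j) i₀ : ℂ) - (e : ℂ) * (if j = i₀ then 1 else 0)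
  have hmM : ∀ j l, (m (M j) l : ℂ) = c j + (e : ℂ) * (if j = l then 1 else 0) := by
    intro j l
    have h := hdiff (M j) l
    have e1 : ∀ i, (μ i = ((M j) : G → ℂ)) ↔ j = i := fun i =>
      ⟨fun h => (hμinj h).symm, fun h => by rw [h]⟩
    simp only [e1] at h
    simp only [c]
    linear_combination h
  have hval : ∀ (j : Rel G a H) (v : G) (hvH : v ∈ H), v ≠ 1 →
      μ j v = (e : ℂ) * th j ⟨v, D.hHa hvH⟩ - c j := by
    intro j v hvH hv1
    rw [show μ j v = (M j : G → ℂ) v from rfl, hv (M j) v hvH, hnM, Nat.cast_zero, zero_add,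
      Finset.sum_congr rfl fun l _ => show (m (M j) l : ℂ) * th l ⟨v, D.hHa hvH⟩ =
        c j * th l ⟨v, D.hHa hvH⟩ + (e : ℂ) * (if j = l then th l ⟨v, D.hHa hvH⟩ else 0) by
        rw [hmM]; split_ifs <;> ring,
      Finset.sum_add_distrib, ← Finset.mul_sum, ← Finset.mul_sum, hsum v hvH hv1,
      Finset.sum_ite_eq, if_pos (Finset.mem_univ _)]
    ring
  have hcc : ∀ j, c j = c i₀ := by
    intro j
    have h := congrFun (hτ j) u
    rw [D.tau_val j i₀ D.hu D.hu1, Pi.smul_apply, Pi.sub_apply, hval j u D.hu D.hu1,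
      hval i₀ u D.hu D.hu1, smul_eq_mul] at h
    refine mul_left_cancel₀ he0 ?_
    linear_combination h + (th j ⟨u, D.hHa D.hu⟩ - th i₀ ⟨u, D.hHa D.hu⟩) * hee
  obtain ⟨w, hw⟩ : ∃ w : ℕ, c i₀ = (w : ℂ) := ⟨m (M i₀) l₀, by
    have h := hmM i₀ l₀
    rw [if_neg hl₀, mul_zero, add_zero] at h
    exact h.symm⟩
  have hcw : ∀ j, c j = (w : ℂ) := fun j => (hcc j).trans hw
  set E : ℝ := (k : ℝ) * (e + (r : ℝ) * w) with hE
  have hdeg : ∀ j, μ j 1 = (E : ℂ) := by
    intro j
    rw [show μ j 1 = (M j : G → ℂ) 1 from rfl, h1, hnM, Nat.cast_zero, zero_add,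
      Finset.sum_congr rfl fun l _ => hmM j l, Finset.sum_add_distrib, Finset.sum_const,
      Finset.card_univ, ← Finset.mul_sum, Finset.sum_ite_eq, if_pos (Finset.mem_univ _),
      nsmul_eq_mul, ← hrdef, ← hkdef, hcw]
    simp only [hE]
    push_cast
    ring
  have hEpos : 0 < E := by
    obtain ⟨d, hd0, hd⟩ := exists_degree_pos (hμ i₀)
    rw [hdeg] at hd
    have : E = (d : ℝ) := by exact_mod_cast hd
    rw [this]
    exact_mod_cast hd0
  -- the remaining characters
  set one : Cfsg.IrrCharacter G := irrOne with hone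
  set O := (Finset.univ.filter fun χ : Cfsg.IrrCharacter G => χ ∉ Finset.univ.image M).erase one
    with hO
  have hone' : one ∈ Finset.univ.filter fun χ : Cfsg.IrrCharacter G => χ ∉ Finset.univ.image M := by
    refine Finset.mem_filter.mpr ⟨Finset.mem_univ _, fun h => ?_⟩
    obtain ⟨j, -, hj⟩ := Finset.mem_image.mp h
    exact hnc j 1 fun v _ _ => by
      rw [show μ j v = (M j : G → ℂ) v from rfl, hj]
      exact irrOne_apply v
  have hsplit : ∀ F : Cfsg.IrrCharacter G → ℂ,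
      ∑ χ, F χ = F one + ∑ χ ∈ O, F χ + ∑ j, F (M j) := by
    intro F
    rw [← Finset.sum_filter_add_sum_filter_not Finset.univ
      (fun χ : Cfsg.IrrCharacter G => χ ∉ Finset.univ.image M) F, hO,
      Finset.add_sum_erase _ F hone']
    congr 1
    simp only [not_not, Finset.filter_mem_eq_inter, Finset.univ_inter]
    exact Finset.sum_image fun x _ y _ h => hμinj (congrArg Subtype.val h)
  have hOv : ∀ χ ∈ O, ∃ p q : ℕ,
      (χ : G → ℂ) u * conj ((χ : G → ℂ) u) = (p : ℂ) + q ∧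
      (χ : G → ℂ) t * (χ : G → ℂ) t * conj ((χ : G → ℂ) u) / (χ : G → ℂ) 1 =
        (p : ℂ) / ((A : ℂ) + 1) - (q : ℂ) / ((A : ℂ) - 1) := by
    intro χ hχ
    obtain ⟨hne1, hχ'⟩ := Finset.mem_erase.mp hχ
    have hnot : ∀ l, μ l ≠ (χ : G → ℂ) := fun l h =>
      (Finset.mem_filter.mp hχ').2 (Finset.mem_image.mpr ⟨l, Finset.mem_univ _, Subtype.ext h⟩)
    by_cases h0 : n χ = 0
    · have hconst : ∀ l, (m χ l : ℂ) = (m χ i₀ : ℂ) := fun l => by
        have h := hdiff χ l
        rw [if_neg (hnot l), if_neg (hnot i₀), sub_self, mul_zero, sub_eq_zero] at h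
        exact h
      have hvq : ∀ (v : G) (hvH : v ∈ H), v ≠ 1 → (χ : G → ℂ) v = -(m χ i₀ : ℂ) := by
        intro v hvH hv1
        rw [hv χ v hvH, h0, Finset.sum_congr rfl fun l _ => show
          (m χ l : ℂ) * th l ⟨v, D.hHa hvH⟩ = (m χ i₀ : ℂ) * th l ⟨v, D.hHa hvH⟩ by
          rw [hconst], ← Finset.mul_sum, hsum v hvH hv1]
        simp
      have hf : (χ : G → ℂ) 1 = (m χ i₀ : ℂ) * ((A : ℂ) - 1) := by
        rw [h1, h0, Finset.sum_congr rfl fun l _ => hconst l, Finset.sum_const, Finset.card_univ,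
          nsmul_eq_mul, hcard, ← hrdef, ← hkdef]
        push_cast
        ring
      refine ⟨0, m χ i₀ * m χ i₀, ?_, ?_⟩
      · rw [hvq u D.hu D.hu1]
        simp
      · have hne := irr_one_ne_zero χ.2
        rw [hf] at hne
        obtain ⟨hm0, hA1⟩ := mul_ne_zero_iff.mp hne
        rw [hvq u D.hu D.hu1, hvq t D.ht D.ht1, hf, map_neg, Complex.conj_natCast]
        push_cast
        field_simp
        ring
    · obtain ⟨ψ, hψ, hc⟩ := hn χ h0
      rcases D.classify χ.2 hψ hc with h | h | ⟨h, hf⟩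
      · exact absurd (Subtype.ext (h.trans (funext fun g => (irrOne_apply g).symm))) hne1
      · exact ⟨0, 0, by simp [h u D.hu D.hu1], by simp [h u D.hu D.hu1]⟩
      · refine ⟨1, 0, by simp [h u D.hu D.hu1], ?_⟩
        rw [h u D.hu D.hu1, h t D.ht D.ht1, hf, ← hAdef]
        simp
  have : ∀ χ : Cfsg.IrrCharacter G, ∃ p q : ℕ, χ ∈ O →
      (χ : G → ℂ) u * conj ((χ : G → ℂ) u) = (p : ℂ) + q ∧
      (χ : G → ℂ) t * (χ : G → ℂ) t * conj ((χ : G → ℂ) u) / (χ : G → ℂ) 1 =
        (p : ℂ) / ((A : ℂ) + 1) - (q : ℂ) / ((A : ℂ) - 1) := by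
    intro χ
    by_cases hχ : χ ∈ O
    · obtain ⟨p, q, h⟩ := hOv χ hχ
      exact ⟨p, q, fun _ => h⟩
    · exact ⟨0, 0, fun h => absurd h hχ⟩
  choose p q hpq using this
  obtain ⟨P, hP⟩ : ∃ P : ℕ, P = ∑ χ ∈ O, p χ := ⟨_, rfl⟩
  obtain ⟨Q, hQ⟩ : ∃ Q : ℕ, Q = ∑ χ ∈ O, q χ := ⟨_, rfl⟩
  set xv : Rel G a H → ℂ := fun j => th j ⟨u, D.hHa D.hu⟩ with hxv
  set tv : Rel G a H → ℂ := fun j => th j ⟨t, D.hHa D.ht⟩ with htv
  have sx : ∑ j, xv j = -1 := hsum u D.hu D.hu1
  have st : ∑ j, tv j = -1 := hsum t D.ht D.ht1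
  have sxc : ∑ j, conj (xv j) = -1 := by rw [← map_sum, sx]; simp
  have sxx : ∑ j, xv j * conj (xv j) = (A : ℂ) - k := by
    rw [hAdef, hkdef]
    exact D.sum_norm (z := ⟨u, D.hHa D.hu⟩) D.hu D.hu1
  have stt : ∑ j, tv j * tv j = (A : ℂ) - k := by
    rw [hAdef, hkdef, ← D.sum_norm (z := ⟨t, D.hHa D.ht⟩) D.ht D.ht1]
    exact Finset.sum_congr rfl fun j _ => by rw [D.th_t_real j]
  have stx : ∑ j, tv j * conj (xv j) = -(k : ℂ) := by rw [hkdef]; exact D.sum_mixed
  have sttx : ∑ j, tv j * tv j * conj (xv j) = -(k : ℂ) ^ 2 := by rw [hkdef]; exact D.sum_triple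
  -- the column of `u`
  have hcol : (P : ℝ) + Q = (k : ℝ) - 1 - 2 * e * w - r * (w : ℝ) ^ 2 := by
    have h := second_orthogonality u u
    rw [if_pos (IsConj.refl u), D.cent_card D.hu D.hu1, ← hAdef, hsplit,
      Finset.sum_congr rfl fun χ hχ => (hpq χ hχ).1, Finset.sum_add_distrib,
      show (one : G → ℂ) u = 1 from irrOne_apply u, map_one, one_mul] at h
    rw [Finset.sum_congr rfl fun j _ => show (M j : G → ℂ) u * conj ((M j : G → ℂ) u) =
      xv j * conj (xv j) - ((e : ℂ) * w) * xv j - ((e : ℂ) * w) * conj (xv j) + (w : ℂ) ^ 2 by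
        rw [show (M j : G → ℂ) u = μ j u from rfl, hval j u D.hu D.hu1, hcw, map_sub, map_mul,
          Complex.conj_ofReal, Complex.conj_natCast]
        linear_combination (xv j * conj (xv j)) * hee] at h
    simp only [Finset.sum_add_distrib, Finset.sum_sub_distrib, ← Finset.mul_sum, sx, sxc, sxx,
      Finset.sum_const, Finset.card_univ, ← hrdef, nsmul_eq_mul] at h
    have h' : (((P : ℝ) + Q : ℝ) : ℂ) = (((k : ℝ) - 1 - 2 * e * w - r * (w : ℝ) ^ 2 : ℝ) : ℂ) := by
      rw [hP, hQ]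
      push_cast
      linear_combination h
    exact_mod_cast h'
  -- the class multiplication
  have hcls : E * (1 + ((P : ℝ) / ((A : ℝ) + 1) - (Q : ℝ) / ((A : ℝ) - 1))) +
      (-e * (k : ℝ) ^ 2 - w * ((A : ℝ) - 3 * k) - 3 * e * (w : ℝ) ^ 2 - r * (w : ℝ) ^ 3) = 0 := by
    have h := D.class_zero
    rw [hsplit, Finset.sum_congr rfl fun χ hχ => (hpq χ hχ).2, Finset.sum_sub_distrib,
      ← Finset.sum_div, ← Finset.sum_div, show (one : G → ℂ) u = 1 from irrOne_apply u,
      show (one : G → ℂ) t = 1 from irrOne_apply t, show (one : G → ℂ) 1 = 1 from irrOne_apply 1,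
      map_one] at h
    rw [Finset.sum_congr rfl fun j _ => show (M j : G → ℂ) t * (M j : G → ℂ) t *
        conj ((M j : G → ℂ) u) / (M j : G → ℂ) 1 =
      ((e : ℂ) * (tv j * tv j * conj (xv j)) - (w : ℂ) * (tv j * tv j) -
        (2 * (w : ℂ)) * (tv j * conj (xv j)) + (2 * (e : ℂ) * (w : ℂ) ^ 2) * tv j +
        ((e : ℂ) * (w : ℂ) ^ 2) * conj (xv j) - (w : ℂ) ^ 3) / (E : ℂ) by
        rw [show (M j : G → ℂ) u = μ j u from rfl, show (M j : G → ℂ) t = μ j t from rfl,
          show (M j : G → ℂ) 1 = μ j 1 from rfl, hval j u D.hu D.hu1, hval j t D.ht D.ht1, hdeg,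
          hcw, map_sub, map_mul, Complex.conj_ofReal, Complex.conj_natCast]
        congr 1
        linear_combination ((e : ℂ) * (tv j * tv j * conj (xv j)) - (w : ℂ) * (tv j * tv j) -
          2 * (w : ℂ) * (tv j * conj (xv j))) * hee, ← Finset.sum_div] at h
    simp only [Finset.sum_add_distrib, Finset.sum_sub_distrib, ← Finset.mul_sum, stx, st, sttx,
      stt, sxc, Finset.sum_const, Finset.card_univ, ← hrdef, nsmul_eq_mul] at h
    have hE0 : (E : ℂ) ≠ 0 := by exact_mod_cast hEpos.ne'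
    have h' : ((E * (1 + ((P : ℝ) / ((A : ℝ) + 1) - (Q : ℝ) / ((A : ℝ) - 1))) +
        (-e * (k : ℝ) ^ 2 - w * ((A : ℝ) - 3 * k) - 3 * e * (w : ℝ) ^ 2 - r * (w : ℝ) ^ 3) : ℝ) : ℂ)
        = ((0 : ℝ) : ℂ) := by
      rw [hP, hQ]
      push_cast
      have hmul := congrArg (fun z : ℂ => (E : ℂ) * z) h
      simp only [mul_add, mul_zero, mul_div_cancel₀ _ hE0] at hmul
      linear_combination hmul
    exact_mod_cast h'
  refine arith_false (a := (A : ℝ)) (w := (w : ℝ)) he (by exact_mod_cast hk3) (by exact_mod_cast hr3)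
    ?_ ?_ P.cast_nonneg Q.cast_nonneg hE hEpos hcol hcls
  · rcases Nat.eq_zero_or_pos w with h | h
    · exact Or.inl (by simp [h])
    · exact Or.inr (by exact_mod_cast h)
  · rw [hcard]
    push_cast
    ring

omit [Fintype (stabilizer G a)] [Fintype (Rel G a H)] in
/-- An abelian kernel of even order consists of involutions. -/
theorem KData.false (D : KData a b H u t) : False := by
  have := Fintype.ofFinite (stabilizer G a)
  have := Fintype.ofFinite (Rel G a H)
  exact D.false_aux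

end CfsgLib.Classical22.CTK
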