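import Cfsg.Agent.Lib.Char.Zassenhaus
import Cfsg.Agent.Lib.Char.FrobeniusKernel
import Cfsg.Agent.Lib.Char.Linear
import Cfsg.Agent.Lib.Char.ClassAlgebra
import Cfsg.Agent.Lib.Char.TI
import Cfsg.Agent.S0883

/-!
# A Zassenhaus group with abelian kernel: the characters of a point stabiliser

`KData`: a simple Zassenhaus group with abelian kernel `H` of even order and two-point stabilisers
of odd order `k`, with an element of `H` that is not an involution. Then `|H| = r k + 1` with `r`
the number of irreducible characters of the stabiliser nontrivial on `H`, and the column sums of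
these characters at two nonconjugate nonidentity elements of `H`.
-/

set_option autoImplicit false

namespace CfsgLib.Classical22.CTK

open MulAction CfsgLib.Char CfsgLib.Char.Zassenhaus
open scoped ComplexConjugate

variable {G Ω : Type*} [Group G] [Fintype G] [MulAction G Ω] [Fintype Ω]

/-- The standing hypotheses. -/
structure KData (a b : Ω) (H : Subgroup G) (u t : G) : Prop where
  hZ : Cfsg.IsZassenhausGroup G Ω
  simple : IsSimpleGroup G
  hab : a ≠ b
  hodd : Odd (Nat.card ↥(stabilizer G a ⊓ stabilizer G b : Subgroup G))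
  hHa : H ≤ stabilizer G a
  hHcard : Nat.card H + 1 = Fintype.card Ω
  hHfix : ∀ v ∈ H, v ≠ 1 → ∀ c : Ω, v • c = c → c = a
  hcomm : ∀ x ∈ H, ∀ y ∈ H, x * y = y * x
  hev : Even (Nat.card H)
  hu : u ∈ H
  hu2 : u * u ≠ 1
  ht : t ∈ H
  ht2 : orderOf t = 2

variable {a b : Ω} {H : Subgroup G} {u t : G}

/-- The order of a two-point stabiliser. -/
noncomputable abbrev kk (G : Type*) [Group G] [MulAction G Ω] (a b : Ω) : ℕ :=
  Nat.card ↥(stabilizer G a ⊓ stabilizer G b : Subgroup G)

theorem KData.hu1 (D : KData a b H u t) : u ≠ 1 := fun e => D.hu2 (by rw [e, one_mul])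

theorem KData.ht1 (D : KData a b H u t) : t ≠ 1 := fun e => by
  have := D.ht2
  rw [e, orderOf_one] at this
  omega

theorem KData.ti (D : KData a b H u t) {g : G} (hg : g ∉ stabilizer G a) {v : G} (hv : v ∈ H)
    (h : g * v * g⁻¹ ∈ H) : v = 1 :=
  (Cfsg.Agent.S0878.result D.hZ a H D.hHa D.hHcard D.hHfix).1 g hg v hv h

/-- The centralizer of a nonidentity element of the kernel. -/
theorem KData.cent_mem (D : KData a b H u t) {v : G} (hv : v ∈ H) (hv1 : v ≠ 1) {c : G}
    (hc : c * v = v * c) : c ∈ H := by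
  have hca : c • a = a := by
    refine D.hHfix v hv hv1 _ ?_
    rw [← mul_smul, ← hc, mul_smul, mem_stabilizer_iff.mp (D.hHa hv)]
  by_contra hcH
  obtain ⟨w, hw, y, hy, hy1, rfl⟩ :=
    exists_conj_mem D.hZ D.hab D.hHa D.hHcard D.hHfix (mem_stabilizer_iff.mpr hca) hcH
  have hwv : w⁻¹ * v = v * w⁻¹ := D.hcomm _ (H.inv_mem hw) _ hv
  have h2 : y * v = v * y := by
    calc y * v = w⁻¹ * (w * y * w⁻¹) * (w * v) := by group
      _ = w⁻¹ * ((w * y * w⁻¹) * v) * w := by rw [D.hcomm w hw v hv]; group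
      _ = w⁻¹ * (v * (w * y * w⁻¹)) * w := by rw [hc]
      _ = (w⁻¹ * v) * w * y := by group
      _ = v * y := by rw [hwv]; group
  have h3 : v ∈ H ⊓ Subgroup.centralizer ({y} : Set G) :=
    ⟨hv, Subgroup.mem_centralizer_singleton_iff.mpr h2.symm⟩
  rw [fpf D.hZ D.hab D.hHa D.hHfix y hy hy1, Subgroup.mem_bot] at h3
  exact hv1 h3

variable (H) in
/-- The kernel inside the point stabiliser. -/
abbrev kin (a : Ω) : Subgroup (stabilizer G a) := H.subgroupOf (stabilizer G a)

theorem KData.kin_normal (D : KData a b H u t) : (kin H a).Normal :=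
  ⟨fun v hv g => Subgroup.mem_subgroupOf.mpr (by
    simpa using conj_mem_kernel D.hZ D.hab D.hHa D.hHcard D.hHfix g.2
      (Subgroup.mem_subgroupOf.mp hv))⟩

theorem KData.card_kin (D : KData a b H u t) : Nat.card (kin H a) = Nat.card H :=
  Nat.card_congr (Subgroup.subgroupOfEquivOfLe D.hHa).toEquiv

theorem KData.card_point (D : KData a b H u t) :
    Nat.card (stabilizer G a) = Nat.card H * kk G a b := by
  have h1 := card_stabilizer_mul D.hZ a
  rw [← card_group D.hZ D.hab, ← D.hHcard, Nat.add_sub_cancel, mul_assoc] at h1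
  exact Nat.eq_of_mul_eq_mul_left (by omega) h1

theorem KData.index_kin (D : KData a b H u t) : (kin H a).index = kk G a b := by
  have h := (kin H a).card_mul_index
  rw [D.card_kin, D.card_point] at h
  exact Nat.eq_of_mul_eq_mul_left Nat.card_pos h

theorem KData.cent_kin (D : KData a b H u t) :
    ∀ v ∈ kin H a, v ≠ 1 → Subgroup.centralizer ({v} : Set (stabilizer G a)) ≤ kin H a := by
  intro v hv hv1 c hc
  rw [Subgroup.mem_centralizer_singleton_iff] at hc
  exact Subgroup.mem_subgroupOf.mpr (D.cent_mem (Subgroup.mem_subgroupOf.mp hv)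
    (fun e => hv1 (Subtype.ext e)) (congrArg Subtype.val hc))

theorem KData.card_cent_kin (D : KData a b H u t) {v : stabilizer G a} (hv : (v : G) ∈ H)
    (hv1 : (v : G) ≠ 1) :
    Nat.card (Subgroup.centralizer ({v} : Set (stabilizer G a))) = Nat.card H := by
  rw [← D.card_kin]
  congr 2
  refine le_antisymm (D.cent_kin v (Subgroup.mem_subgroupOf.mpr hv)
    fun e => hv1 (congrArg Subtype.val e)) fun c hc => ?_
  exact Subgroup.mem_centralizer_singleton_iff.mpr
    (Subtype.ext (D.hcomm _ (Subgroup.mem_subgroupOf.mp hc) _ hv))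

/-- The commutators of the point stabiliser lie in the kernel. -/
theorem KData.commutator_mem (D : KData a b H u t) (x y : stabilizer G a) :
    x⁻¹ * y⁻¹ * x * y ∈ kin H a := by
  have := D.simple
  obtain ⟨π, hπ, hπH⟩ := exists_retraction D.hZ D.hab D.hHa D.hHcard D.hHfix
  obtain ⟨s, -, hsa, hsb⟩ := exists_swap D.hZ D.hab D.hodd
  obtain ⟨-, hE⟩ := swap_inverts D.hZ D.hab D.hodd hsa hsb
  have hker : ∀ z : stabilizer G a, π z = 1 → (z : G) ∈ H := by
    intro z hz
    obtain ⟨v, hv, e, he, hze⟩ := decompose D.hZ D.hab D.hHa D.hHcard D.hHfix z.2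
    have hz' : z = (⟨v, D.hHa hv⟩ : stabilizer G a) * ⟨e, he.1⟩ := Subtype.ext hze
    rw [hz', map_mul, hπH ⟨v, D.hHa hv⟩ hv, one_mul, hπ ⟨e, he.1⟩ he] at hz
    rw [hze, show e = 1 from congrArg Subtype.val hz, mul_one]
    exact hv
  refine Subgroup.mem_subgroupOf.mpr (hker _ ?_)
  simp only [map_mul, map_inv]
  have h : π x * π y = π y * π x := Subtype.ext (hE _ (π x).2 _ (π y).2)
  calc (π x)⁻¹ * (π y)⁻¹ * π x * π y = (π x)⁻¹ * (π y)⁻¹ * (π x * π y) := by group
    _ = 1 := by rw [h]; group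

theorem KData.nonrel_one (D : KData a b H u t) [Fintype (stabilizer G a)]
    {χ : stabilizer G a → ℂ} (hχ : Cfsg.IsIrrCharacter (stabilizer G a) χ)
    (hn : ¬ IsRelevant (kin H a) χ) : χ 1 = 1 := by
  have := D.kin_normal
  classical
  obtain ⟨ψ, hψ⟩ := (CfsgLib.CharNormal.inflEquiv (kin H a)).surjective
    ⟨⟨χ, hχ⟩, (not_relevant_iff _ _).mp hn⟩
  have he : χ = ((CfsgLib.CharNormal.inflEquiv (kin H a) ψ).1 : stabilizer G a → ℂ) := by
    rw [hψ]
  rw [he, CfsgLib.CharNormal.inflEquiv_apply, QuotientGroup.mk_one]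
  have := Fintype.ofFinite (stabilizer G a ⧸ kin H a)
  refine irr_one_eq_one_of_comm (fun q r => ?_) ψ.2
  induction q using QuotientGroup.induction_on with | H x =>
  induction r using QuotientGroup.induction_on with | H y =>
  rw [← QuotientGroup.mk_mul, ← QuotientGroup.mk_mul, QuotientGroup.eq]
  have h := D.commutator_mem y x
  simpa [mul_assoc] using h

/-- The characters of the point stabiliser that are nontrivial on the kernel. -/
abbrev Rel (G : Type*) [Group G] [MulAction G Ω] (a : Ω) (H : Subgroup G) :=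
  {χ : Cfsg.IrrCharacter (stabilizer G a) // IsRelevant (kin H a) (χ : stabilizer G a → ℂ)}

/-- The character of an element of `Rel`. -/
def th (j : Rel G a H) : stabilizer G a → ℂ := (j.1 : stabilizer G a → ℂ)

theorem th_irr (j : Rel G a H) : Cfsg.IsIrrCharacter (stabilizer G a) (th j) := j.1.2

theorem th_injective : Function.Injective (th (G := G) (a := a) (H := H)) := fun _ _ e =>
  Subtype.ext (Subtype.ext e)

variable [Fintype (stabilizer G a)]

theorem KData.th_one (D : KData a b H u t) (j : Rel G a H) : th j 1 = (kk G a b : ℂ) := by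
  have := D.kin_normal
  have := Fintype.ofFinite (kin H a)
  obtain ⟨d, hd0, -, hd⟩ := exists_relevant_degree (kin H a) D.cent_kin (th_irr j) j.2
  have hle := degree_le_index_of_comm (th_irr j) (kin H a) fun x hx y hy =>
    Subtype.ext (D.hcomm _ (Subgroup.mem_subgroupOf.mp hx) _ (Subgroup.mem_subgroupOf.mp hy))
  rw [hd, Complex.natCast_re, Nat.cast_le, D.index_kin] at hle
  have hk : 0 < kk G a b := Nat.card_pos
  have : d = 1 := by
    have := le_of_mul_le_mul_left (hle.trans (le_of_eq (mul_one _).symm)) hk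
    omega
  rw [hd, D.index_kin, this, mul_one]

theorem KData.th_out (D : KData a b H u t) (j : Rel G a H) {x : stabilizer G a}
    (hx : (x : G) ∉ H) : th j x = 0 := by
  have := D.kin_normal
  have := Fintype.ofFinite (kin H a)
  exact relevant_apply_eq_zero (kin H a) D.cent_kin (th_irr j) j.2
    fun h => hx (Subgroup.mem_subgroupOf.mp h)

/-- Splitting a sum over the irreducible characters of the point stabiliser. -/
theorem sum_split [Fintype (Rel G a H)] [DecidablePred fun χ : Cfsg.IrrCharacter (stabilizer G a) =>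
      IsRelevant (kin H a) (χ : stabilizer G a → ℂ)]
    (f : Cfsg.IrrCharacter (stabilizer G a) → ℂ) :
    ∑ χ, f χ = (∑ χ ∈ Finset.univ.filter (fun χ : Cfsg.IrrCharacter (stabilizer G a) =>
        ¬ IsRelevant (kin H a) (χ : stabilizer G a → ℂ)), f χ) + ∑ j : Rel G a H, f j.1 := by
  rw [← Finset.sum_filter_add_sum_filter_not Finset.univ
    (fun χ : Cfsg.IrrCharacter (stabilizer G a) => IsRelevant (kin H a) (χ : stabilizer G a → ℂ)) f,
    add_comm]
  congr 1
  exact Finset.sum_subtype _ (fun χ => by simp) f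

theorem KData.card_nonrel (D : KData a b H u t)
    [DecidablePred fun χ : Cfsg.IrrCharacter (stabilizer G a) =>
      IsRelevant (kin H a) (χ : stabilizer G a → ℂ)] :
    (Finset.univ.filter (fun χ : Cfsg.IrrCharacter (stabilizer G a) =>
      ¬ IsRelevant (kin H a) (χ : stabilizer G a → ℂ))).card = kk G a b := by
  have := D.kin_normal
  have h := sum_degree_sq_not_relevant (kin H a)
  rw [Finset.sum_congr rfl (g := fun _ => (1 : ℂ)) (fun χ hχ => by
    rw [D.nonrel_one χ.2 (Finset.mem_filter.mp hχ).2, one_pow]), Finset.sum_const, nsmul_one,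
    D.index_kin] at h
  exact_mod_cast h

variable [Fintype (Rel G a H)]

/-- `|H| = r k + 1`. -/
theorem KData.card_eq (D : KData a b H u t) :
    Nat.card H = Fintype.card (Rel G a H) * kk G a b + 1 := by
  classical
  have h := sum_degree_sq (G := stabilizer G a)
  rw [sum_split (H := H), Finset.sum_congr rfl (g := fun _ => (1 : ℂ)) (fun χ hχ => by
    rw [D.nonrel_one χ.2 (Finset.mem_filter.mp hχ).2, one_pow]), Finset.sum_const, nsmul_one,
    D.card_nonrel, Finset.sum_congr rfl (g := fun _ => (kk G a b : ℂ) ^ 2) (fun j _ => by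
    rw [← D.th_one j]; rfl), Finset.sum_const, Finset.card_univ, nsmul_eq_mul, D.card_point] at h
  have h' : kk G a b + Fintype.card (Rel G a H) * kk G a b ^ 2 = Nat.card H * kk G a b := by
    exact_mod_cast h
  refine Nat.eq_of_mul_eq_mul_right (Nat.card_pos :
    0 < Nat.card ↥(stabilizer G a ⊓ stabilizer G b : Subgroup G)) ?_
  linarith [h']

theorem KData.three_le_kk (D : KData a b H u t) : 3 ≤ kk G a b := three_le_of_odd D.hZ D.hab D.hodd

theorem KData.three_le_card (D : KData a b H u t) : 3 ≤ Fintype.card (Rel G a H) := by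
  have hc := D.card_eq
  obtain ⟨q, hq⟩ := D.hev
  obtain ⟨l, hl⟩ : Odd (kk G a b) := D.hodd
  have hr : Odd (Fintype.card (Rel G a H)) := by
    by_contra h
    obtain ⟨m, hm⟩ := Nat.not_odd_iff_even.mp h
    rw [hm, add_mul] at hc
    omega
  obtain ⟨m, hm⟩ := hr
  by_contra hlt
  have hm0 : m = 0 := by omega
  rw [hm, hm0] at hc
  -- a single orbit on the nonidentity elements of the kernel
  set E : Subgroup G := stabilizer G a ⊓ stabilizer G b with hE
  let f : E → {v : H // v ≠ 1} := fun y => ⟨⟨(y : G) * t * (y : G)⁻¹,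
    conj_mem_kernel D.hZ D.hab D.hHa D.hHcard D.hHfix y.2.1 D.ht⟩,
    fun e => D.ht1 (conj_eq_one_iff.mp (congrArg Subtype.val e))⟩
  have hinj : Function.Injective f := by
    intro y z e
    have e' : (y : G) * t * (y : G)⁻¹ = (z : G) * t * (z : G)⁻¹ :=
      congrArg (fun v : {v : H // v ≠ 1} => ((v : H) : G)) e
    by_contra hne
    have hyz : (z : G)⁻¹ * y ≠ 1 := fun h => hne (Subtype.ext (inv_mul_eq_one.mp h).symm)
    have hmem : t ∈ H ⊓ Subgroup.centralizer ({(z : G)⁻¹ * y} : Set G) :=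
      ⟨D.ht, Subgroup.mem_centralizer_singleton_iff.mpr (by
        calc t * ((z : G)⁻¹ * y) = (z : G)⁻¹ * (z * t * (z : G)⁻¹) * y := by group
          _ = (z : G)⁻¹ * y * t := by rw [← e']; group)⟩
    rw [fpf D.hZ D.hab D.hHa D.hHfix _ (E.mul_mem (E.inv_mem z.2) y.2) hyz,
      Subgroup.mem_bot] at hmem
    exact D.ht1 hmem
  have hcard : Nat.card E = Nat.card {v : H // v ≠ 1} := by
    classical
    have := Fintype.ofFinite H
    rw [Nat.card_eq_fintype_card (α := {v : H // v ≠ 1}), Fintype.card_subtype_compl,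
      Fintype.card_subtype_eq, ← Nat.card_eq_fintype_card]
    show kk G a b = _
    omega
  obtain ⟨y, hy⟩ := ((Nat.bijective_iff_injective_and_card f).mpr ⟨hinj, hcard⟩).2
    ⟨⟨u, D.hu⟩, fun e => D.hu1 (congrArg Subtype.val e)⟩
  have hy' : (y : G) * t * (y : G)⁻¹ = u := congrArg (fun v : {v : H // v ≠ 1} => ((v : H) : G)) hy
  refine D.hu2 ?_
  rw [← hy', show (y : G) * t * (y : G)⁻¹ * ((y : G) * t * (y : G)⁻¹) = (y : G) * (t * t) * (y : G)⁻¹
    by group, ← pow_two, ← D.ht2, pow_orderOf_eq_one]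
  group

theorem KData.two_mul_lt (D : KData a b H u t) : 2 * kk G a b < Nat.card H - 1 := by
  have hc := D.card_eq
  have h1 := D.three_le_card
  have h2 := D.three_le_kk
  have : 3 * kk G a b ≤ Fintype.card (Rel G a H) * kk G a b := Nat.mul_le_mul_right _ h1
  omega

/-- `u` is not a product of two involutions. -/
theorem KData.no_pair (D : KData a b H u t) {x y : G} (hx : orderOf x = 2) (hy : orderOf y = 2) :
    x * y ≠ u := by
  intro h
  have := D.simple
  have h2 := Cfsg.Agent.S0883.result D.hZ D.hab (Nat.card H) (kk G a b) D.hHcard.symm rfl D.hodd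
    (have := Fintype.ofFinite (Rel G a H); D.two_mul_lt) H D.hHa D.hHcard D.hHfix u D.hu D.hu1 x y
    hx hy h
  exact D.hu2 (by rw [← pow_two, ← h2, pow_orderOf_eq_one])

theorem KData.not_isConj (D : KData a b H u t) : ¬ IsConj t u := by
  intro h
  obtain ⟨g, hg⟩ := isConj_iff.mp h
  refine D.hu2 ?_
  rw [← hg, show g * t * g⁻¹ * (g * t * g⁻¹) = g * (t * t) * g⁻¹ by group, ← pow_two, ← D.ht2,
    pow_orderOf_eq_one]
  group

/-- A sum over all characters at elements of the kernel. -/
theorem KData.sum_rel (D : KData a b H u t)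
    (F : Cfsg.IrrCharacter (stabilizer G a) → ℂ) (c : ℂ)
    (hc : ∀ χ : Cfsg.IrrCharacter (stabilizer G a),
      ¬ IsRelevant (kin H a) (χ : stabilizer G a → ℂ) → F χ = c) :
    ∑ j : Rel G a H, F j.1 = (∑ χ, F χ) - (kk G a b : ℂ) * c := by
  classical
  rw [sum_split (H := H) F, Finset.sum_congr rfl (g := fun _ => c)
    (fun χ hχ => hc χ (Finset.mem_filter.mp hχ).2), Finset.sum_const, nsmul_eq_mul, D.card_nonrel]
  ring

theorem KData.nonrel_val (D : KData a b H u t) {χ : Cfsg.IrrCharacter (stabilizer G a)}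
    (hn : ¬ IsRelevant (kin H a) (χ : stabilizer G a → ℂ)) {z : stabilizer G a}
    (hz : (z : G) ∈ H) : (χ : stabilizer G a → ℂ) z = 1 := by
  rw [(not_relevant_iff _ _).mp hn z (Subgroup.mem_subgroupOf.mpr hz), D.nonrel_one χ.2 hn]

theorem KData.sum_th (D : KData a b H u t) {z : stabilizer G a} (hz : (z : G) ∈ H)
    (hz1 : (z : G) ≠ 1) : ∑ j : Rel G a H, th j z = -1 := by
  classical
  have h := D.sum_rel (fun χ => (χ : stabilizer G a → ℂ) 1 * (χ : stabilizer G a → ℂ) z) 1
    fun χ hn => by rw [D.nonrel_one χ.2 hn, D.nonrel_val hn hz, one_mul]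
  rw [sum_degree_mul_apply, if_neg fun e : z = 1 => hz1 (congrArg Subtype.val e),
    Finset.sum_congr rfl (g := fun j => (kk G a b : ℂ) * th j z)
      (fun j _ => by rw [← D.th_one j]; rfl), ← Finset.mul_sum] at h
  have hk : (kk G a b : ℂ) ≠ 0 := by
    have := D.three_le_kk
    exact_mod_cast (by omega : kk G a b ≠ 0)
  refine mul_left_cancel₀ hk ?_
  rw [h]
  ring

theorem KData.sum_norm (D : KData a b H u t) {z : stabilizer G a} (hz : (z : G) ∈ H)
    (hz1 : (z : G) ≠ 1) :
    ∑ j : Rel G a H, th j z * conj (th j z) = (Nat.card H : ℂ) - kk G a b := by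
  classical
  have h := D.sum_rel (fun χ => (χ : stabilizer G a → ℂ) z * conj ((χ : stabilizer G a → ℂ) z)) 1
    fun χ hn => by rw [D.nonrel_val hn hz, map_one, one_mul]
  rw [second_orthogonality, if_pos (IsConj.refl z), D.card_cent_kin hz hz1, mul_one] at h
  exact h

/-- `t` and `u` in the point stabiliser. -/
theorem KData.sum_mixed (D : KData a b H u t) :
    ∑ j : Rel G a H, th j ⟨t, D.hHa D.ht⟩ * conj (th j ⟨u, D.hHa D.hu⟩) = -(kk G a b : ℂ) := by
  classical
  have h := D.sum_rel (fun χ => (χ : stabilizer G a → ℂ) ⟨t, D.hHa D.ht⟩ *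
      conj ((χ : stabilizer G a → ℂ) ⟨u, D.hHa D.hu⟩)) 1
    fun χ hn => by rw [D.nonrel_val hn D.ht, D.nonrel_val hn D.hu, map_one, one_mul]
  rw [second_orthogonality, if_neg (fun e => D.not_isConj (isConj_iff.mpr (by
    obtain ⟨g, hg⟩ := isConj_iff.mp e
    exact ⟨g, congrArg Subtype.val hg⟩))), mul_one, zero_sub] at h
  exact h

theorem KData.th_t_real (D : KData a b H u t) (j : Rel G a H) :
    conj (th j ⟨t, D.hHa D.ht⟩) = th j ⟨t, D.hHa D.ht⟩ := by
  rw [← char_inv (isCharacter_of_isIrr (th_irr j))]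
  congr 1
  refine Subtype.ext (inv_eq_of_mul_eq_one_right ?_)
  show t * t = 1
  rw [← pow_two, ← D.ht2, pow_orderOf_eq_one]

theorem KData.sum_triple (D : KData a b H u t) :
    ∑ j : Rel G a H, th j ⟨t, D.hHa D.ht⟩ * th j ⟨t, D.hHa D.ht⟩ *
      conj (th j ⟨u, D.hHa D.hu⟩) = -(kk G a b : ℂ) ^ 2 := by
  classical
  set tB : stabilizer G a := ⟨t, D.hHa D.ht⟩
  set uB : stabilizer G a := ⟨u, D.hHa D.hu⟩
  have hzero : Nat.card {p : stabilizer G a × stabilizer G a //
      IsConj tB p.1 ∧ IsConj tB p.2 ∧ p.1 * p.2 = uB} = 0 := by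
    rw [Nat.card_eq_zero]
    refine Or.inl ⟨fun p => ?_⟩
    obtain ⟨⟨x, y⟩, hx, hy, hxy⟩ := p
    have ho : ∀ z : stabilizer G a, IsConj tB z → orderOf (z : G) = 2 := by
      intro z hz
      obtain ⟨g, rfl⟩ := isConj_iff.mp hz
      show orderOf ((g : G) * t * (g : G)⁻¹) = 2
      rw [← MulAut.conj_apply, MulEquiv.orderOf_eq, D.ht2]
    exact D.no_pair (ho x hx) (ho y hy) (congrArg Subtype.val hxy)
  have hne : ∀ z : stabilizer G a, (Nat.card {x : stabilizer G a // IsConj z x} : ℂ) ≠ 0 := fun z => by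
    have : Nonempty {x : stabilizer G a // IsConj z x} := ⟨⟨z, IsConj.refl z⟩⟩
    exact_mod_cast Nat.card_pos.ne'
  have h0 := card_classProduct_eq tB tB uB
  rw [hzero, Nat.cast_zero, eq_comm, mul_eq_zero] at h0
  have h1 := h0.resolve_left (div_ne_zero (mul_ne_zero (hne _) (hne _)) card_ne_zero')
  have h := D.sum_rel (fun χ => (χ : stabilizer G a → ℂ) tB * (χ : stabilizer G a → ℂ) tB *
      conj ((χ : stabilizer G a → ℂ) uB) / (χ : stabilizer G a → ℂ) 1) 1
    fun χ hn => by
      rw [D.nonrel_val hn (z := tB) D.ht, D.nonrel_val hn (z := uB) D.hu, D.nonrel_one χ.2 hn,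
        map_one]
      norm_num
  rw [h1, zero_sub, mul_one, Finset.sum_congr rfl (g := fun j : Rel G a H =>
      th j tB * th j tB * conj (th j uB) / (kk G a b : ℂ))
    (fun j _ => by rw [← D.th_one j]; rfl), ← Finset.sum_div] at h
  have hk : (kk G a b : ℂ) ≠ 0 := by
    have := D.three_le_kk
    exact_mod_cast (by omega : kk G a b ≠ 0)
  rw [div_eq_iff hk] at h
  rw [h]
  ring

end CfsgLib.Classical22.CTK
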