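import Cfsg.Agent.Lib.InvolChar.BSW.Count
import Cfsg.Agent.S0205
import Mathlib.GroupTheory.Transfer
import Mathlib.GroupTheory.GroupAction.MultipleTransitivity
import Cfsg.Prelude.Def_LieExceptional

/-!
# Simple groups with transitive commutation: the Zassenhaus action

In a nonabelian simple group with transitive commutation the action on the cosets of the normalizer
of the centralizer of an involution is a Zassenhaus action with abelian kernel of even order and
two-point stabilisers of odd order.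
-/

set_option autoImplicit false

namespace CfsgLib.Classical22.CT

open MulAction

variable {G : Type*} [Group G]

/-- Commuting is transitive on the nonidentity elements. -/
def IsCT (G : Type*) [Group G] : Prop :=
  ∀ a b c : G, a ≠ 1 → b ≠ 1 → c ≠ 1 → Commute a b → Commute b c → Commute a c

theorem cent_comm (h : IsCT G) {x : G} (hx : x ≠ 1) {a b : G} (ha : a * x = x * a)
    (hb : b * x = x * b) : a * b = b * a := by
  rcases eq_or_ne a 1 with rfl | ha1
  · simp
  rcases eq_or_ne b 1 with rfl | hb1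
  · simp
  exact h a x b ha1 hx hb1 ha hb.symm

theorem cent_eq (h : IsCT G) {x y : G} (hx : x ≠ 1) (hy : y ≠ 1) (hxy : y * x = x * y) :
    Subgroup.centralizer ({y} : Set G) = Subgroup.centralizer ({x} : Set G) := by
  ext z
  rw [Subgroup.mem_centralizer_singleton_iff, Subgroup.mem_centralizer_singleton_iff]
  exact ⟨fun hz => cent_comm h hy hz hxy.symm, fun hz => cent_comm h hx hz hxy⟩

/-- The hypotheses, with a 2-central involution `t`. -/
structure CTData (t : G) : Prop where
  ct : IsCT G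
  simple : IsSimpleGroup G
  nonab : ¬ IsMulCommutative G
  ht : orderOf t = 2
  sylow : ∃ T : Sylow 2 G, (T : Subgroup G) ≤ Subgroup.centralizer ({t} : Set G)

/-- The centralizer of the involution. -/
abbrev AA (t : G) : Subgroup G := Subgroup.centralizer ({t} : Set G)

/-- Its normalizer. -/
abbrev NN (t : G) : Subgroup G := Subgroup.normalizer ((AA t : Subgroup G) : Set G)

variable {t : G}

theorem CTData.ht1 (C : CTData t) : t ≠ 1 := fun e => by
  have := C.ht
  rw [e, orderOf_one] at this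
  omega

theorem mem_AA_self : t ∈ AA t := Subgroup.mem_centralizer_singleton_iff.mpr rfl

theorem CTData.comm (C : CTData t) {a b : G} (ha : a ∈ AA t) (hb : b ∈ AA t) : a * b = b * a :=
  cent_comm C.ct C.ht1 (Subgroup.mem_centralizer_singleton_iff.mp ha)
    (Subgroup.mem_centralizer_singleton_iff.mp hb)

theorem CTData.cent_mem (C : CTData t) {a c : G} (ha : a ∈ AA t) (ha1 : a ≠ 1)
    (hc : c * a = a * c) : c ∈ AA t := by
  have h := cent_eq C.ct C.ht1 ha1 (Subgroup.mem_centralizer_singleton_iff.mp ha)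
  exact (SetLike.ext_iff.mp h c).mp (Subgroup.mem_centralizer_singleton_iff.mpr hc)

theorem CTData.ti (C : CTData t) {g a : G} (ha : a ∈ AA t) (ha1 : a ≠ 1)
    (h : g * a * g⁻¹ ∈ AA t) : g ∈ NN t := by
  have h1 : g * a * g⁻¹ ≠ 1 := fun e => ha1 (conj_eq_one_iff.mp e)
  rw [Subgroup.mem_normalizer_iff]
  intro z
  constructor
  · intro hz
    refine C.cent_mem h h1 ?_
    calc g * z * g⁻¹ * (g * a * g⁻¹) = g * (z * a) * g⁻¹ := by group
      _ = g * (a * z) * g⁻¹ := by rw [C.comm hz ha]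
      _ = g * a * g⁻¹ * (g * z * g⁻¹) := by group
  · intro hz
    refine C.cent_mem ha ha1 ?_
    calc z * a = g⁻¹ * (g * z * g⁻¹ * (g * a * g⁻¹)) * g := by group
      _ = g⁻¹ * (g * a * g⁻¹ * (g * z * g⁻¹)) * g := by rw [C.comm hz h]
      _ = a * z := by group

variable [Finite G]

theorem exists_data (h : IsCT G) [IsSimpleGroup G] (hG : ¬ IsMulCommutative G) :
    ∃ t : G, CTData t := by
  have h2 : 2 ∣ Nat.card G := by
    by_contra hodd
    have := Cfsg.Agent.S0205.result (G := G) (Nat.odd_iff.mpr (by omega))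
    exact hG ⟨⟨fun a b => (IsSimpleGroup.comm_iff_isSolvable.mpr this) a b⟩⟩
  have : Fact (Nat.Prime 2) := ⟨Nat.prime_two⟩
  obtain ⟨T⟩ := (inferInstance : Nonempty (Sylow 2 G))
  have hT : (T : Subgroup G) ≠ ⊥ := T.ne_bot_of_dvd_card h2
  have : Nontrivial (T : Subgroup G) := (Subgroup.nontrivial_iff_ne_bot _).mpr hT
  have := T.isPGroup'.center_nontrivial
  obtain ⟨k, hk⟩ := IsPGroup.iff_card.mp (T.isPGroup'.to_subgroup (Subgroup.center (T : Subgroup G)))
  obtain ⟨z, hz⟩ := exists_prime_orderOf_dvd_card' (G := Subgroup.center (T : Subgroup G)) 2 (by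
    rcases k with _ | k
    · rw [pow_zero] at hk
      have := Finite.one_lt_card (α := Subgroup.center (T : Subgroup G))
      omega
    · exact ⟨2 ^ k, by rw [hk, pow_succ']⟩)
  refine ⟨((z : (T : Subgroup G)) : G), h, inferInstance, hG, ?_, T, fun a ha => ?_⟩
  · rw [Subgroup.orderOf_coe, Subgroup.orderOf_coe, hz]
  · exact Subgroup.mem_centralizer_singleton_iff.mpr
      (congrArg Subtype.val (Subgroup.mem_center_iff.mp z.2 ⟨a, ha⟩))

theorem CTData.center_eq_bot (C : CTData t) {x : G} (hx : ∀ g : G, g * x = x * g) : x = 1 := by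
  by_contra h1
  exact C.nonab ⟨⟨fun a b => cent_comm C.ct h1 (hx a) (hx b)⟩⟩

/-- No Sylow 2-subgroup is central in its normalizer. -/
theorem CTData.no_burnside (C : CTData t) (T : Sylow 2 G)
    (h : Subgroup.normalizer ((T : Subgroup G) : Set G) ≤
      Subgroup.centralizer ((T : Subgroup G) : Set G)) : False := by
  have : Fact (Nat.Prime 2) := ⟨Nat.prime_two⟩
  have := C.simple
  have hd : 2 ∣ Nat.card G := C.ht ▸ orderOf_dvd_natCard t
  rcases (MonoidHom.transferSylow T h).normal_ker.eq_bot_or_eq_top with h' | h'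
  · refine C.nonab ⟨⟨fun a b => (MonoidHom.ker_eq_bot_iff _).mp h' ?_⟩⟩
    rw [map_mul, map_mul]
    exact Subtype.ext (Subgroup.mem_centralizer_iff.mp
      (h (Subgroup.le_normalizer (MonoidHom.transferSylow T h b).2)) _
        (MonoidHom.transferSylow T h a).2)
  · apply MonoidHom.not_dvd_card_ker_transferSylow T h
    rw [h', Subgroup.card_top]
    exact hd

theorem CTData.T_not_cyclic (C : CTData t) (T : Sylow 2 G) : ¬ IsCyclic (T : Subgroup G) := by
  intro hc
  have : Fact (Nat.Prime 2) := ⟨Nat.prime_two⟩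
  refine C.no_burnside T (IsCyclic.normalizer_le_centralizer (p := 2) ?_ hc)
  exact (Nat.minFac_eq_two_iff _).mpr (C.ht ▸ orderOf_dvd_natCard t)

theorem CTData.exists_outer (C : CTData t) : ∃ y ∈ NN t, y ∉ AA t := by
  by_contra hall
  push Not at hall
  obtain ⟨T, hT⟩ := C.sylow
  refine C.no_burnside T fun g hg => ?_
  have hne : (T : Subgroup G) ≠ ⊥ := fun e => C.T_not_cyclic T (by rw [e]; infer_instance)
  obtain ⟨z, hz, hz1⟩ := ((T : Subgroup G).bot_or_exists_ne_one).resolve_left hne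
  have hgA : g ∈ AA t := hall g (C.ti (hT hz) hz1 (hT ((Subgroup.mem_normalizer_iff.mp hg z).mp hz)))
  exact Subgroup.mem_centralizer_iff.mpr fun a ha => C.comm (hT ha) hgA

omit [Finite G] in
theorem conj_mem_AA {g a : G} (hg : g ∈ NN t) (ha : a ∈ AA t) : g * a * g⁻¹ ∈ AA t :=
  (Subgroup.mem_normalizer_iff.mp hg a).mp ha

theorem CTData.inAA_normal (_C : CTData t) : ((AA t).subgroupOf (NN t)).Normal :=
  Subgroup.normal_subgroupOf_iff Subgroup.le_normalizer |>.mpr fun a g ha hg => conj_mem_AA hg ha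

theorem CTData.odd_index (C : CTData t) : Odd ((AA t).subgroupOf (NN t)).index := by
  obtain ⟨T, hT⟩ := C.sylow
  have : Fact (Nat.Prime 2) := ⟨Nat.prime_two⟩
  rw [← Nat.not_even_iff_odd, even_iff_two_dvd]
  intro h
  apply T.not_dvd_index
  refine h.trans ?_
  show (AA t).relIndex (NN t) ∣ _
  exact (Dvd.intro _ (Subgroup.relIndex_mul_index Subgroup.le_normalizer)).trans
    (Subgroup.index_dvd_of_le hT)

/-- Involutions of the normalizer lie in the centralizer. -/
theorem CTData.invol_mem (C : CTData t) {s : G} (hs : s * s = 1) (hsN : s ∈ NN t) : s ∈ AA t := by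
  have := C.inAA_normal
  have h := ((AA t).subgroupOf (NN t)).pow_index_mem (⟨s, hsN⟩ : NN t)
  obtain ⟨l, hl⟩ := C.odd_index
  rw [hl, pow_succ, pow_mul, pow_two, show (⟨s, hsN⟩ : NN t) * ⟨s, hsN⟩ = 1 from Subtype.ext hs,
    one_pow, one_mul] at h
  exact Subgroup.mem_subgroupOf.mp h

theorem sq_of_orderOf {s : G} (hs : orderOf s = 2) : s * s = 1 := by
  rw [← pow_two, ← hs, pow_orderOf_eq_one]

theorem isConj_of_odd {s u : G} (hs : s * s = 1) (hu : u * u = 1) {m : ℕ}
    (hm : orderOf (s * u) = 2 * m + 1) : IsConj s u := by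
  have hsi : s⁻¹ = s := inv_eq_of_mul_eq_one_right hs
  have hui : u⁻¹ = u := inv_eq_of_mul_eq_one_right hu
  set w := s * u with hw
  have hsw : s * w * s⁻¹ = w⁻¹ := by
    rw [hw, mul_inv_rev, hsi, hui, ← mul_assoc, hs, one_mul]
  set c := w ^ (m + 1) with hc
  have h1 : s * c * s⁻¹ = c⁻¹ := by rw [hc, ← conj_pow, hsw, inv_pow]
  have h2 : c * c = w := by
    rw [hc, ← pow_add, show m + 1 + (m + 1) = orderOf w + 1 by omega, pow_succ, pow_orderOf_eq_one,
      one_mul]
  refine isConj_iff.mpr ⟨c⁻¹, ?_⟩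
  calc c⁻¹ * s * c⁻¹⁻¹ = s * (s⁻¹ * c⁻¹ * s) * c := by group
    _ = s * c * c := by
        rw [← h1]; group
    _ = u := by rw [mul_assoc, h2, hw, ← mul_assoc, hs, one_mul]

theorem CTData.all_conj (C : CTData t) {s : G} (hs : orderOf s = 2) : IsConj t s := by
  by_contra hne
  have := C.simple
  have hs1 : s ≠ 1 := fun e => by rw [e, orderOf_one] at hs; omega
  have key : ∀ g : G, Commute (g * t * g⁻¹) s := by
    intro g
    obtain ⟨v, hv⟩ : ∃ v : G, v = g * t * g⁻¹ := ⟨_, rfl⟩
    rw [← hv]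
    have hv2 : v * v = 1 := by
      rw [hv, show g * t * g⁻¹ * (g * t * g⁻¹) = g * (t * t) * g⁻¹ by group, sq_of_orderOf C.ht]
      group
    have hv1 : v ≠ 1 := fun e => C.ht1 (conj_eq_one_iff.mp (hv ▸ e))
    have hss := sq_of_orderOf hs
    rcases Nat.even_or_odd' (orderOf (v * s)) with ⟨m, hm | hm⟩
    · set w := v * s with hw
      have hw0 : 0 < orderOf w := orderOf_pos w
      set z := w ^ m with hz
      have hz1 : z ≠ 1 := pow_ne_one_of_lt_orderOf (by omega) (by omega)
      have hz2 : z * z = 1 := by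
        rw [hz, ← pow_add, ← two_mul, ← hm, pow_orderOf_eq_one]
      have hzi : z⁻¹ = z := inv_eq_of_mul_eq_one_right hz2
      have hvi : v⁻¹ = v := inv_eq_of_mul_eq_one_right hv2
      have hvw : v * w * v⁻¹ = w⁻¹ := by
        rw [hw, mul_inv_rev v s, hvi, inv_eq_of_mul_eq_one_right hss, ← mul_assoc, hv2, one_mul]
      have hvz : Commute v z := by
        have h := congrArg (fun x => x * v)
          (show v * z * v⁻¹ = z by rw [hz, ← conj_pow, hvw, inv_pow, ← hz, hzi])
        simpa [Commute, SemiconjBy, mul_assoc] using h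
      have hwz : Commute w z := Commute.self_pow w m
      have hsz : Commute z s := by
        have : s = v * w := by rw [hw, ← mul_assoc, hv2, one_mul]
        rw [this]
        exact (hvz.symm.mul_right hwz.symm)
      exact C.ct v z s hv1 hz1 hs1 hvz hsz
    · exact absurd ((isConj_iff.mpr ⟨g, hv.symm⟩).trans (isConj_of_odd hv2 hss hm)) hne
  have hle : Subgroup.normalClosure ({t} : Set G) ≤ Subgroup.centralizer ({s} : Set G) := by
    rw [Subgroup.normalClosure, Subgroup.closure_le]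
    intro x hx
    obtain ⟨y, hy, hyx⟩ := Group.mem_conjugatesOfSet_iff.mp hx
    obtain rfl : y = t := hy
    obtain ⟨g, rfl⟩ := isConj_iff.mp hyx
    exact Subgroup.mem_centralizer_singleton_iff.mpr (key g).eq
  rcases (Subgroup.normalClosure_normal (s := ({t} : Set G))).eq_bot_or_eq_top with h | h
  · exact C.ht1 (Subgroup.mem_bot.mp (h ▸ Subgroup.subset_normalClosure rfl))
  · exact hs1 (C.center_eq_bot fun g =>
      Subgroup.mem_centralizer_singleton_iff.mp (hle (h ▸ Subgroup.mem_top g)))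

/-- The involutions of the centralizer number `[N : A]`. -/
theorem CTData.card_invol_AA (C : CTData t) :
    Nat.card {x : G // x ∈ AA t ∧ orderOf x = 2} = ((AA t).subgroupOf (NN t)).index := by
  rw [Subgroup.index]
  symm
  refine Nat.card_eq_of_bijective (fun q => ⟨(q.out : G) * t * (q.out : G)⁻¹,
    conj_mem_AA q.out.2 mem_AA_self, by rw [← MulAut.conj_apply, MulEquiv.orderOf_eq, C.ht]⟩) ⟨?_, ?_⟩
  · intro q r e
    have e' : (q.out : G) * t * (q.out : G)⁻¹ = (r.out : G) * t * (r.out : G)⁻¹ :=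
      congrArg Subtype.val e
    rw [← Quotient.out_eq q, ← Quotient.out_eq r]
    refine QuotientGroup.eq.mpr (Subgroup.mem_subgroupOf.mpr
      (Subgroup.mem_centralizer_singleton_iff.mpr ?_))
    calc (q.out : G)⁻¹ * (r.out : G) * t = (q.out : G)⁻¹ * (r.out * t * (r.out : G)⁻¹) * r.out := by group
      _ = t * ((q.out : G)⁻¹ * (r.out : G)) := by rw [← e']; group
  · rintro ⟨x, hx, hx2⟩
    obtain ⟨g, hg⟩ := isConj_iff.mp (C.all_conj hx2)
    have hgN : g ∈ NN t := C.ti mem_AA_self C.ht1 (hg ▸ hx)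
    refine ⟨QuotientGroup.mk ⟨g, hgN⟩, Subtype.ext ?_⟩
    obtain ⟨c, hc⟩ := QuotientGroup.mk_out_eq_mul ((AA t).subgroupOf (NN t)) ⟨g, hgN⟩
    show ((QuotientGroup.mk (⟨g, hgN⟩ : NN t) : NN t ⧸ _).out : G) * t * _⁻¹ = x
    rw [hc, ← hg]
    have hct : ((c : NN t) : G) * t = t * ((c : NN t) : G) :=
      Subgroup.mem_centralizer_singleton_iff.mp (Subgroup.mem_subgroupOf.mp c.2)
    calc g * ((c : NN t) : G) * t * (g * ((c : NN t) : G))⁻¹
        = g * (((c : NN t) : G) * t) * ((c : NN t) : G)⁻¹ * g⁻¹ := by group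
      _ = g * t * g⁻¹ := by rw [hct]; group

/-- The points of the action. -/
abbrev Pt (t : G) := G ⧸ NN t

/-- The base point. -/
abbrev base (t : G) : Pt t := QuotientGroup.mk (1 : G)

omit [Finite G] in
theorem stab_base (t : G) : stabilizer G (base t) = NN t := by
  ext g
  rw [mem_stabilizer_iff, base, MulAction.Quotient.smul_mk, QuotientGroup.eq, smul_eq_mul, mul_one,
    mul_one, Subgroup.inv_mem_iff]

omit [Finite G] in
theorem fix_base {g : G} : g • base t = base t ↔ g ∈ NN t := by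
  exact mem_stabilizer_iff.symm.trans (SetLike.ext_iff.mp (stab_base t) g)

omit [Finite G] in
theorem smul_base (g : G) : g • base t = QuotientGroup.mk g := by
  rw [base, MulAction.Quotient.smul_mk, smul_eq_mul, mul_one]

/-- Every coset outside the normalizer contains `[N : A]` involutions, so every coset of the
centralizer in the normalizer is met by their quotients. -/
theorem CTData.coset_invol (C : CTData t) {g : G} (hg : g ∉ NN t) :
    (∃ s : G, orderOf s = 2 ∧ s • base t = g • base t) ∧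
      ∀ s : G, orderOf s = 2 → s • base t = g • base t → ∀ y ∈ NN t,
        ∃ d ∈ NN t, d⁻¹ * y ∈ AA t ∧ s * d * s = d⁻¹ := by
  classical
  have := Fintype.ofFinite (Pt t)
  set k := ((AA t).subgroupOf (NN t)).index with hk
  let I : Pt t → Type _ := fun q => {s : G // orderOf s = 2 ∧ (QuotientGroup.mk s : Pt t) = q}
  have hinj : ∀ (q : Pt t), q ≠ base t → ∀ s₀ : I q, ∃ f : I q → NN t ⧸ (AA t).subgroupOf (NN t),
      Function.Injective f ∧ ∀ s, ∃ h : s₀.1⁻¹ * s.1 ∈ NN t, f s = QuotientGroup.mk ⟨_, h⟩ := by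
    intro q hq s₀
    refine ⟨fun s => QuotientGroup.mk ⟨s₀.1⁻¹ * s.1,
      QuotientGroup.eq.mp (s₀.2.2.trans s.2.2.symm)⟩, ?_, fun s => ⟨_, rfl⟩⟩
    intro s₁ s₂ e
    have h := Subgroup.mem_subgroupOf.mp (QuotientGroup.eq.mp e)
    simp only [Subgroup.coe_mul, Subgroup.coe_inv, mul_inv_rev, inv_inv, mul_assoc,
      mul_inv_cancel_left] at h
    by_contra hne
    have hne' : s₁.1⁻¹ * s₂.1 ≠ 1 := fun e => hne (Subtype.ext (inv_mul_eq_one.mp e))
    have i1 : s₁.1⁻¹ = s₁.1 := inv_eq_of_mul_eq_one_right (sq_of_orderOf s₁.2.1)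
    have i2 : s₂.1⁻¹ = s₂.1 := inv_eq_of_mul_eq_one_right (sq_of_orderOf s₂.2.1)
    refine hq ?_
    rw [← s₁.2.2, ← smul_base, fix_base]
    refine C.ti h hne' ?_
    have e1 : s₁.1 * (s₁.1⁻¹ * s₂.1) * s₁.1⁻¹ = (s₁.1⁻¹ * s₂.1)⁻¹ := by
      rw [mul_inv_rev, inv_inv, i2, mul_inv_cancel_left, i1]
    rw [e1]
    exact (AA t).inv_mem h
  have hle : ∀ q, Nat.card (I q) ≤ k := by
    intro q
    by_cases hq : q = base t
    · subst hq
      rw [hk, ← C.card_invol_AA]
      refine Nat.card_le_card_of_injective (fun s => ⟨s.1, C.invol_mem (sq_of_orderOf s.2.1)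
        (fix_base.mp ((smul_base s.1).trans s.2.2)), s.2.1⟩) ?_
      intro a b e
      exact Subtype.ext (congrArg (fun x : {x : G // x ∈ AA t ∧ orderOf x = 2} => x.1) e)
    · rcases isEmpty_or_nonempty (I q) with h | ⟨⟨s₀⟩⟩
      · simp
      · obtain ⟨f, hf, -⟩ := hinj q hq s₀
        exact Nat.card_le_card_of_injective f hf
  have hsum : ∑ q, Nat.card (I q) = ∑ _q : Pt t, k := by
    rw [← Nat.card_sigma, Finset.sum_const, Finset.card_univ, smul_eq_mul]
    have h := CfsgLib.InvolChar.BSW.card_conjugates {x : G | x ∈ AA t ∧ orderOf x = 2} (NN t)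
      (fun g hg a ha => ⟨conj_mem_AA hg ha.1, by
        rw [← MulAut.conj_apply, MulEquiv.orderOf_eq, ha.2]⟩)
      (fun g a ha ha' => C.ti ha.1 (fun e => by
        have := ha.2
        rw [e, orderOf_one] at this
        omega) ha'.1)
    rw [show Nat.card ↥{x : G | x ∈ AA t ∧ orderOf x = 2} = k from C.card_invol_AA, Subgroup.index,
      Nat.card_eq_fintype_card (α := G ⧸ NN t)] at h
    rw [← h]
    refine Nat.card_congr ((Equiv.ofBijective (fun p : (q : Pt t) × I q =>
      (⟨p.2.1, p.2.2.1⟩ : {s : G // orderOf s = 2})) ⟨?_, ?_⟩).trans (Equiv.subtypeEquivRight ?_))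
    · rintro ⟨q, s, hs⟩ ⟨r, s', hs'⟩ e
      obtain rfl : s = s' := congrArg Subtype.val e
      obtain rfl : q = r := hs.2.symm.trans hs'.2
      rfl
    · rintro ⟨s, hs⟩
      exact ⟨⟨_, s, hs, rfl⟩, rfl⟩
    · intro s
      constructor
      · intro hs
        obtain ⟨c, rfl⟩ := isConj_iff.mp (C.all_conj hs)
        refine ⟨c⁻¹, ?_, ?_⟩
        · simpa [mul_assoc] using mem_AA_self (t := t)
        · rw [← MulAut.conj_apply, MulEquiv.orderOf_eq]
          exact hs
      · rintro ⟨c, -, hs⟩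
        rwa [← MulAut.conj_apply, MulEquiv.orderOf_eq] at hs
  have heq : ∀ q, Nat.card (I q) = k := fun q =>
    (Finset.sum_eq_sum_iff_of_le fun q _ => hle q).mp hsum q (Finset.mem_univ q)
  have hk0 : 0 < k := Nat.pos_of_ne_zero fun e => by
    have := C.odd_index
    rw [← hk, e] at this
    exact absurd this (by decide)
  constructor
  · obtain ⟨s⟩ : Nonempty (I (QuotientGroup.mk g)) := (Nat.card_pos_iff.mp (by rw [heq]; exact hk0)).1
    exact ⟨s.1, s.2.1, by rw [smul_base, smul_base]; exact s.2.2⟩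
  · intro s hs hsg y hy
    have hq : (QuotientGroup.mk g : Pt t) ≠ base t := fun e => hg (fix_base.mp ((smul_base g).trans e))
    let s₀ : I (QuotientGroup.mk g) := ⟨s, hs, by rw [← smul_base, hsg, smul_base]⟩
    obtain ⟨f, hf, hfe⟩ := hinj _ hq s₀
    obtain ⟨s', hs'⟩ := ((Nat.bijective_iff_injective_and_card f).mpr ⟨hf, heq _⟩).2
      (QuotientGroup.mk ⟨y, hy⟩)
    obtain ⟨hd, he⟩ := hfe s'
    rw [he] at hs'
    refine ⟨_, hd, Subgroup.mem_subgroupOf.mp (QuotientGroup.eq.mp hs'), ?_⟩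
    have i1 : s⁻¹ = s := inv_eq_of_mul_eq_one_right (sq_of_orderOf hs)
    have i2 : s'.1⁻¹ = s'.1 := inv_eq_of_mul_eq_one_right (sq_of_orderOf s'.2.1)
    show s * (s⁻¹ * s'.1) * s = (s⁻¹ * s'.1)⁻¹
    rw [mul_inv_rev, inv_inv, i2, mul_inv_cancel_left]

end CfsgLib.Classical22.CT
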