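import Mathlib

/-!
# Commuting is transitive in `PSL(2, F)` in characteristic 2
-/

set_option autoImplicit false

namespace CfsgLib.Classical22.CT

open Matrix

variable {F : Type*} [Field F]

/-- Two matrices commuting with a nonscalar 2 × 2 matrix commute. -/
theorem comm_two {M X Y : Matrix (Fin 2) (Fin 2) F}
    (hM : M 0 1 ≠ 0 ∨ M 1 0 ≠ 0 ∨ M 0 0 ≠ M 1 1) (hX : X * M = M * X) (hY : Y * M = M * Y) :
    X * Y = Y * X := by
  have ent : ∀ Z : Matrix (Fin 2) (Fin 2) F, Z * M = M * Z →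
      Z 0 1 * M 1 0 = M 0 1 * Z 1 0 ∧
      M 0 1 * (Z 0 0 - Z 1 1) = Z 0 1 * (M 0 0 - M 1 1) ∧
      M 1 0 * (Z 0 0 - Z 1 1) = Z 1 0 * (M 0 0 - M 1 1) := by
    intro Z hZ
    have h00 := congrFun (congrFun hZ 0) 0
    have h01 := congrFun (congrFun hZ 0) 1
    have h10 := congrFun (congrFun hZ 1) 0
    simp only [Matrix.mul_apply, Fin.sum_univ_two] at h00 h01 h10
    exact ⟨by linear_combination h00, by linear_combination h01, by linear_combination -h10⟩
  obtain ⟨x1, x2, x3⟩ := ent X hX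
  obtain ⟨y1, y2, y3⟩ := ent Y hY
  set p := X 0 0 - X 1 1 with hp
  set q := Y 0 0 - Y 1 1 with hq
  set δ := M 0 0 - M 1 1 with hδ
  have key : X 0 1 * Y 1 0 = Y 0 1 * X 1 0 ∧ Y 0 1 * p = X 0 1 * q ∧ Y 1 0 * p = X 1 0 * q := by
    rcases hM with h | h | h
    · refine ⟨mul_left_cancel₀ h ?_, mul_left_cancel₀ h ?_, mul_left_cancel₀ h ?_⟩
      · linear_combination (Y 0 1) * x1 - (X 0 1) * y1
      · linear_combination (Y 0 1) * x2 - (X 0 1) * y2
      · linear_combination (Y 1 0) * x2 - (X 1 0) * y2 + δ * (mul_left_cancel₀ h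
          (show M 0 1 * (X 0 1 * Y 1 0) = M 0 1 * (Y 0 1 * X 1 0) by
            linear_combination (Y 0 1) * x1 - (X 0 1) * y1))
    · refine ⟨mul_left_cancel₀ h ?_, mul_left_cancel₀ h ?_, mul_left_cancel₀ h ?_⟩
      · linear_combination (Y 1 0) * x1 - (X 1 0) * y1
      · linear_combination (Y 0 1) * x3 - (X 0 1) * y3 + δ * (mul_left_cancel₀ h
          (show M 1 0 * (Y 0 1 * X 1 0) = M 1 0 * (X 0 1 * Y 1 0) by
            linear_combination (X 1 0) * y1 - (Y 1 0) * x1))
      · linear_combination (Y 1 0) * x3 - (X 1 0) * y3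
    · have h' : δ ≠ 0 := sub_ne_zero.mpr h
      refine ⟨mul_left_cancel₀ h' ?_, mul_left_cancel₀ h' ?_, mul_left_cancel₀ h' ?_⟩
      · refine mul_left_cancel₀ h' ?_
        linear_combination -(δ * Y 1 0) * x2 - (M 0 1 * p) * y3 + (δ * X 1 0) * y2 + (M 0 1 * q) * x3
      · linear_combination q * x2 - p * y2
      · linear_combination q * x3 - p * y3
  obtain ⟨k1, k2, k3⟩ := key
  ext i j
  fin_cases i <;> fin_cases j <;>
    simp only [Fin.zero_eta, Fin.mk_one, Matrix.mul_apply, Fin.sum_univ_two]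
  · linear_combination k1
  · linear_combination k2
  · linear_combination -k3
  · linear_combination -k1

theorem nonscalar (h2 : (2 : F) = 0) {M : SpecialLinearGroup (Fin 2) F} (hM : M ≠ 1) :
    M.1 0 1 ≠ 0 ∨ M.1 1 0 ≠ 0 ∨ M.1 0 0 ≠ M.1 1 1 := by
  by_contra h
  push Not at h
  obtain ⟨h01, h10, hd⟩ := h
  apply hM
  have hdet : M.1 0 0 * M.1 1 1 - M.1 0 1 * M.1 1 0 = 1 := (Matrix.det_fin_two M.1).symm.trans M.2
  have hc : M.1 0 0 = 1 := by
    have h1 : (M.1 0 0 - 1) * (M.1 0 0 - 1) = 0 := by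
      linear_combination hdet + M.1 0 0 * hd + M.1 1 0 * h01 - (M.1 0 0 - 1) * h2
    exact sub_eq_zero.mp (mul_self_eq_zero.mp h1)
  ext i j
  fin_cases i <;> fin_cases j
  · simpa using hc
  · simpa using h01
  · simpa using h10
  · simpa using hd.symm.trans hc

theorem sl_two_ct (h2 : (2 : F) = 0) {A B C : SpecialLinearGroup (Fin 2) F} (hB : B ≠ 1)
    (hab : Commute A B) (hbc : Commute B C) : Commute A C :=
  Subtype.ext (comm_two (nonscalar h2 hB) (congrArg Subtype.val hab.eq)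
    (congrArg Subtype.val hbc.symm.eq))

theorem center_sl_two (h2 : (2 : F) = 0) :
    Subgroup.center (SpecialLinearGroup (Fin 2) F) = ⊥ := by
  rw [Subgroup.eq_bot_iff_forall]
  intro M hM
  by_contra h
  let U : SpecialLinearGroup (Fin 2) F := ⟨!![1, 1; 0, 1], by simp [Matrix.det_fin_two]⟩
  let V : SpecialLinearGroup (Fin 2) F := ⟨!![1, 0; 1, 1], by simp [Matrix.det_fin_two]⟩
  have hU := Subgroup.mem_center_iff.mp hM U
  have hV := Subgroup.mem_center_iff.mp hM V
  have hUV := comm_two (nonscalar h2 h) (congrArg Subtype.val hU) (congrArg Subtype.val hV)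
  simpa [U, V, h2] using congrFun (congrFun hUV 0) 0

/-- Commuting is transitive in `PSL(2, F)` in characteristic 2. -/
theorem psl_two_ct (h2 : (2 : F) = 0) {a b c : ProjectiveSpecialLinearGroup (Fin 2) F} (hb : b ≠ 1)
    (hab : Commute a b) (hbc : Commute b c) : Commute a c := by
  obtain ⟨A, rfl⟩ := QuotientGroup.mk_surjective a
  obtain ⟨B, rfl⟩ := QuotientGroup.mk_surjective b
  obtain ⟨C, rfl⟩ := QuotientGroup.mk_surjective c
  have hz := center_sl_two (F := F) h2
  have lift : ∀ X Y : SpecialLinearGroup (Fin 2) F,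
      Commute (X : ProjectiveSpecialLinearGroup (Fin 2) F) (Y : ProjectiveSpecialLinearGroup (Fin 2) F) →
        Commute X Y := fun X Y h => by
    have h' : (X * Y)⁻¹ * (Y * X) ∈ Subgroup.center (SpecialLinearGroup (Fin 2) F) :=
      QuotientGroup.eq.mp h.eq
    rw [hz, Subgroup.mem_bot, inv_mul_eq_one] at h'
    exact h'
  have hB : B ≠ 1 := fun e => hb (by rw [e]; rfl)
  exact (sl_two_ct h2 hB (lift A B hab) (lift B C hbc)).map
    (QuotientGroup.mk' (Subgroup.center (SpecialLinearGroup (Fin 2) F)))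

end CfsgLib.Classical22.CT
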