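import Cfsg.Agent.Lib.Classical22.CTLocal
import Cfsg.Agent.Lib.Classical22.CTKernelGlobal

/-!
# Simple groups with transitive commutation: involution centralizers are elementary abelian
-/

set_option autoImplicit false

namespace CfsgLib.Classical22.CT

open MulAction

variable {G : Type*} [Group G] [Finite G] {t : G}

/-- A point other than the base point, reached by an involution `s`. -/
structure Swap (t s : G) : Prop where
  invol : orderOf s = 2
  out : s ∉ NN t

theorem Swap.sq {s : G} (S : Swap t s) : s * s = 1 := sq_of_orderOf S.invol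

theorem Swap.swap_back {s : G} (S : Swap t s) : s • s • base t = base t := by
  rw [← mul_smul, S.sq, one_smul]

theorem CTData.exists_swap_to (C : CTData t) {g : G} (hg : g ∉ NN t) :
    ∃ s, Swap t s ∧ s • base t = g • base t := by
  obtain ⟨s, hs, he⟩ := (C.coset_invol hg).1
  exact ⟨s, ⟨hs, fun h => hg (fix_base.mp (he.symm.trans (fix_base.mpr h)))⟩, he⟩

theorem CTData.fix_AA (C : CTData t) {g x : G} (hx : x ∈ AA t) (hx1 : x ≠ 1)
    (h : x • g • base t = g • base t) : g ∈ NN t := by
  have hm : g⁻¹ * x * g ∈ NN t := fix_base.mp (by rw [mul_smul, mul_smul, h, inv_smul_smul])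
  by_contra hg
  -- `g⁻¹ * x * g` lies in the normalizer; show it lies in the centralizer
  by_cases hA : g⁻¹ * x * g ∈ AA t
  · refine hg ?_
    have h2 : g⁻¹ * x * g⁻¹⁻¹ ∈ AA t := by rwa [inv_inv]
    simpa using (NN t).inv_mem (C.ti hx hx1 h2)
  · -- an element conjugate into the centralizer commutes with a conjugate of `t`
    set y := g⁻¹ * x * g with hy
    obtain ⟨l, hl⟩ := C.odd_index
    have := C.inAA_normal
    have hyk := ((AA t).subgroupOf (NN t)).pow_index_mem (⟨y, hm⟩ : NN t)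
    set n := ((AA t).subgroupOf (NN t)).index with hn
    have hyk' : y ^ n ∈ AA t := Subgroup.mem_subgroupOf.mp hyk
    have hcy : y ^ n = g⁻¹ * x ^ n * g := by
      rw [hy, show g⁻¹ * x * g = g⁻¹ * x * g⁻¹⁻¹ by rw [inv_inv], conj_pow, inv_inv]
    have hxn : x ^ n = 1 := by
      by_contra hne
      have h2 : g⁻¹ * x ^ n * g⁻¹⁻¹ ∈ AA t := by rw [inv_inv, ← hcy]; exact hyk'
      exact hg (by simpa using (NN t).inv_mem (C.ti ((AA t).pow_mem hx n) hne h2))
    -- the normalizer acts without fixed points, so `n` is prime to the order of `x`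
    have hcop : Nat.Coprime n (Nat.card (AA t)) := by
      rw [Nat.coprime_comm]
      refine Nat.coprime_of_dvd fun p hp hpA hpn => ?_
      have : Fact p.Prime := ⟨hp⟩
      obtain ⟨z, hz⟩ := exists_prime_orderOf_dvd_card' (G := NN t ⧸ (AA t).subgroupOf (NN t)) p hpn
      obtain ⟨w, rfl⟩ := QuotientGroup.mk_surjective z
      have hwA : (w : G) ∉ AA t := fun hw => by
        rw [(QuotientGroup.eq_one_iff w).mpr (Subgroup.mem_subgroupOf.mpr hw), orderOf_one] at hz
        exact hp.one_lt.ne hz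
      obtain ⟨a', ha'⟩ := exists_prime_orderOf_dvd_card' (G := AA t) p hpA
      obtain ⟨e, we, he, hwe⟩ : ∃ e : ℕ, ∃ we : G, IsPGroup p (Subgroup.zpowers we) ∧
          (we = (w : G) ^ e ∧ we ∉ AA t) := by
        obtain ⟨f, e, hpe, hfe⟩ :=
          Nat.exists_eq_pow_mul_and_not_dvd (n := orderOf (w : G)) (orderOf_pos _).ne' p hp.ne_one
        have hep : 0 < e := Nat.pos_of_ne_zero fun e0 => hpe (e0 ▸ dvd_zero p)
        refine ⟨e, _, ?_, rfl, fun hmem => ?_⟩
        · refine IsPGroup.of_card (n := f) ?_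
          rw [Nat.card_zpowers, orderOf_pow_of_dvd hep.ne' (hfe ▸ dvd_mul_left e _),
            hfe, Nat.mul_div_cancel _ hep]
        · have h1 : (QuotientGroup.mk w : NN t ⧸ (AA t).subgroupOf (NN t)) ^ e = 1 := by
            rw [← QuotientGroup.mk_pow, QuotientGroup.eq_one_iff]
            exact Subgroup.mem_subgroupOf.mpr hmem
          exact hpe (hz ▸ orderOf_dvd_of_pow_eq_one h1)
      have hweN : we ∈ NN t := hwe.1 ▸ (NN t).pow_mem w.2 e
      -- the `p`-group generated by `we` fixes a nonidentity element of the `p`-part of `AA t`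
      obtain ⟨P, hP⟩ := (IsPGroup.of_card (n := 1) (G := Subgroup.zpowers a') (p := p)
        (by rw [Nat.card_zpowers, ha', pow_one])).exists_le_sylow
      have : IsMulCommutative (AA t) := ⟨⟨fun a b => Subtype.ext (C.comm a.2 b.2)⟩⟩
      have hchar : (P : Subgroup (AA t)).Characteristic :=
        Sylow.characteristic_of_normal P inferInstance
      let W := Subgroup.zpowers we
      have hWN : W ≤ NN t := Subgroup.zpowers_le.mpr hweN
      set Q : Subgroup G := (P : Subgroup (AA t)).map (AA t).subtype with hQ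
      have hconj : ∀ g ∈ NN t, ∀ q ∈ Q, g * q * g⁻¹ ∈ Q := by
        intro g hg q hq
        obtain ⟨q', hq', rfl⟩ := Subgroup.mem_map.mp hq
        refine Subgroup.mem_map.mpr ⟨⟨g * q' * g⁻¹, conj_mem_AA hg q'.2⟩, ?_, rfl⟩
        let φ : AA t ≃* AA t :=
          { toFun := fun a => ⟨g * a * g⁻¹, conj_mem_AA hg a.2⟩
            invFun := fun a => ⟨g⁻¹ * a * g⁻¹⁻¹, conj_mem_AA ((NN t).inv_mem hg) a.2⟩
            left_inv := fun a => Subtype.ext (by simp [mul_assoc])
            right_inv := fun a => Subtype.ext (by simp [mul_assoc])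
            map_mul' := fun a b => Subtype.ext (by simp [mul_assoc]) }
        exact (hchar.fixed φ).ge hq'
      letI act : MulAction W Q :=
        { smul := fun v q => ⟨(v : G) * q * (v : G)⁻¹, hconj _ (hWN v.2) _ q.2⟩
          one_smul := fun q => Subtype.ext (by show (1 : G) * _ * (1 : G)⁻¹ = _; simp)
          mul_smul := fun v v' q => Subtype.ext (by
            show (v : G) * v' * _ * ((v : G) * v')⁻¹ = (v : G) * ((v' : G) * q * (v' : G)⁻¹) * (v : G)⁻¹
            group) }
      have hone : (1 : Q) ∈ fixedPoints W Q := fun v => Subtype.ext (by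
        show (v : G) * 1 * (v : G)⁻¹ = 1
        simp)
      have hpQ : p ∣ Nat.card Q := by
        rw [hQ, Subgroup.card_map_of_injective (AA t).subtype_injective]
        calc p = Nat.card (Subgroup.zpowers a') := by rw [Nat.card_zpowers, ha']
          _ ∣ _ := Subgroup.card_dvd_of_le hP
      obtain ⟨q, hq, hq1⟩ := he.exists_fixed_point_of_prime_dvd_card_of_fixed_point Q hpQ hone
      have hqe : we * (q : G) * we⁻¹ = q :=
        congrArg Subtype.val (hq ⟨we, Subgroup.mem_zpowers we⟩)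
      exact hwe.2 (C.cent_mem (Subgroup.map_subtype_le _ q.2)
        (fun e' => hq1 (Subtype.ext e').symm) (mul_inv_eq_iff_eq_mul.mp hqe))
    refine hx1 (orderOf_eq_one_iff.mp (Nat.eq_one_of_dvd_coprimes hcop
      (orderOf_dvd_of_pow_eq_one hxn) ?_))
    exact Subgroup.orderOf_dvd_natCard _ hx

theorem CTData.fix_two (C : CTData t) {s x : G} (S : Swap t s) (hx : x ∈ NN t)
    (hxs : x • s • base t = s • base t) : s * x * s = x⁻¹ := by
  obtain ⟨d, hd, hdA, hsd⟩ := (C.coset_invol S.out).2 s S.invol rfl x hx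
  have hds : d • s • base t = s • base t := by
    have : d * s = s * d⁻¹ := by
      rw [← hsd, ← mul_assoc, ← mul_assoc, S.sq, one_mul]
    rw [← mul_smul, this, mul_smul, fix_base.mpr ((NN t).inv_mem hd)]
  have h1 : d⁻¹ * x = 1 := by
    by_contra hne
    refine S.out (C.fix_AA hdA hne ?_)
    rw [mul_smul, hxs, inv_smul_eq_iff, hds]
  rw [← inv_mul_eq_one.mp h1, hsd]

theorem CTData.fix_two_AA (C : CTData t) {s x : G} (S : Swap t s) (hx : x ∈ AA t)
    (hxs : x • s • base t = s • base t) : x = 1 := by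
  by_contra hne
  exact S.out (C.fix_AA hx hne hxs)

/-- The quotient of the normalizer by the centralizer is abelian. -/
theorem CTData.comm_mod (C : CTData t) {s x y : G} (S : Swap t s) (hx : x ∈ NN t) (hy : y ∈ NN t) :
    x * y * x⁻¹ * y⁻¹ ∈ AA t := by
  obtain ⟨d, hd, hdA, hsd⟩ := (C.coset_invol S.out).2 s S.invol rfl x hx
  obtain ⟨e, he, heA, hse⟩ := (C.coset_invol S.out).2 s S.invol rfl y hy
  have hmul : ∀ p q : G, p * s * (s * q) = p * q := fun p q => by
    rw [mul_assoc, ← mul_assoc s s q, S.sq, one_mul]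
  have hfix : ∀ p : G, p ∈ NN t → s * p * s = p⁻¹ → p • s • base t = s • base t := fun p hp h => by
    have : p * s = s * p⁻¹ := by rw [← h, ← mul_assoc, ← mul_assoc, S.sq, one_mul]
    rw [← mul_smul, this, mul_smul, fix_base.mpr ((NN t).inv_mem hp)]
  have hde : d * e = e * d := by
    have h := C.fix_two S ((NN t).mul_mem hd he)
      (by rw [mul_smul, hfix e he hse, hfix d hd hsd])
    have h2 : s * (d * e) * s = s * d * s * (s * e * s) := by
      rw [show s * d * s * (s * e * s) = s * d * s * (s * (e * s)) by group, hmul]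
      group
    rw [h2, hsd, hse] at h
    have h3 := congrArg (·⁻¹) h
    simpa using h3.symm
  have := C.inAA_normal
  have hq : ∀ (p q : G) (hp : p ∈ NN t) (hq : q ∈ NN t), p⁻¹ * q ∈ AA t →
      (QuotientGroup.mk ⟨p, hp⟩ : NN t ⧸ (AA t).subgroupOf (NN t)) = QuotientGroup.mk ⟨q, hq⟩ :=
    fun p q hp hq h => QuotientGroup.eq.mpr (Subgroup.mem_subgroupOf.mpr h)
  refine Subgroup.mem_subgroupOf.mp (((QuotientGroup.eq_one_iff (N := (AA t).subgroupOf (NN t))
    (⟨x, hx⟩ * ⟨y, hy⟩ * (⟨x, hx⟩ : NN t)⁻¹ * (⟨y, hy⟩ : NN t)⁻¹)).mp ?_))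
  simp only [QuotientGroup.mk_mul, QuotientGroup.mk_inv, ← hq d x hd hx hdA, ← hq e y he hy heA]
  simp only [← QuotientGroup.mk_mul, ← QuotientGroup.mk_inv]
  rw [show (⟨d, hd⟩ : NN t) * ⟨e, he⟩ * (⟨d, hd⟩ : NN t)⁻¹ * (⟨e, he⟩ : NN t)⁻¹ = 1 from
    Subtype.ext (by
      show d * e * d⁻¹ * e⁻¹ = 1
      rw [hde, mul_inv_cancel_right, mul_inv_cancel])]
  rfl

/-- A nontrivial element fixing the base point and `s • base` fixes no third point. -/
theorem CTData.no_three (C : CTData t) {s d g : G} (S : Swap t s) (hd : d ∈ NN t)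
    (hds : d • s • base t = s • base t) (hd1 : d ≠ 1) (hg : g ∉ NN t)
    (hdg : d • g • base t = g • base t) : g • base t = s • base t := by
  by_contra hne
  obtain ⟨s₂, S₂, hs₂⟩ := C.exists_swap_to hg
  have hsg : s * g ∉ NN t := fun h => hne (by
    have h' := fix_base.mpr h
    rw [mul_smul] at h'
    calc g • base t = s • s • g • base t := by rw [← mul_smul, S.sq, one_smul]
      _ = s • base t := by rw [h'])
  obtain ⟨s', S', hs'⟩ := C.exists_swap_to hsg
  have hsd := C.fix_two S hd hds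
  have hs2d := C.fix_two S₂ hd (by rw [hs₂, hdg])
  have hcomm : s * d⁻¹ = d * s := by rw [← hsd, ← mul_assoc, ← mul_assoc, S.sq, one_mul]
  have hs'd : s' * d⁻¹ * s' = d⁻¹⁻¹ := C.fix_two S' ((NN t).inv_mem hd) (by
    rw [hs', mul_smul, ← mul_smul d⁻¹ s, show d⁻¹ * s = s * d by
      have h := congrArg (fun z => d⁻¹ * z * d) hcomm
      simpa [mul_assoc] using h, mul_smul, hdg])
  set u := s * s' * s with hu
  set w := s₂ * u * s with hw
  have hwN : w ∈ NN t := fix_base.mp (by
    rw [hw, hu, show s₂ * (s * s' * s) * s = s₂ * s * s' * (s * s) by group, S.sq, mul_one,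
      mul_smul, mul_smul, hs', ← mul_smul s, ← mul_assoc, S.sq, one_mul, ← hs₂, S₂.swap_back])
  have hd' : d⁻¹⁻¹ = d := inv_inv d
  have hsdi : s * d⁻¹ * s = d := by rw [hcomm, mul_assoc, S.sq, mul_one]
  have hs2di : s₂ * d⁻¹ * s₂ = d := by
    have h := congrArg (·⁻¹) hs2d
    simpa [mul_inv_rev, inv_eq_of_mul_eq_one_right S₂.sq, mul_assoc] using h
  have hinvw : w * d * w⁻¹ = d⁻¹ := by
    rw [hw, hu, mul_inv_rev, mul_inv_rev, mul_inv_rev, mul_inv_rev,
      inv_eq_of_mul_eq_one_right S.sq, inv_eq_of_mul_eq_one_right S₂.sq,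
      inv_eq_of_mul_eq_one_right S'.sq]
    calc s₂ * (s * s' * s) * s * d * (s * (s * (s' * s) * s₂))
        = s₂ * (s * (s' * (s * (s * d * s) * s) * s') * s) * s₂ := by group
      _ = d⁻¹ := by rw [hsd, hsdi]; rw [show s' * d * s' = d⁻¹ by
            have h := congrArg (·⁻¹) hs'd
            simpa [mul_inv_rev, inv_eq_of_mul_eq_one_right S'.sq, mul_assoc] using h, hsdi, hs2d]
  have hdd : d * d ∈ AA t := by
    have h := C.comm_mod S hwN hd
    rw [hinvw] at h
    have h' := (AA t).inv_mem h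
    rwa [mul_inv_rev, inv_inv] at h'
  have hdd1 : d * d = 1 := C.fix_two_AA S hdd (by rw [mul_smul, hds, hds])
  exact hd1 (C.fix_two_AA S (C.invol_mem hdd1 hd) hds)

/-- Every element of the normalizer outside the centralizer is conjugate by the centralizer to an
element fixing `s • base`. -/
theorem CTData.exists_conj (C : CTData t) {s y : G} (S : Swap t s) (hy : y ∈ NN t)
    (hyA : y ∉ AA t) :
    ∃ α ∈ AA t, ∃ d ∈ NN t, d • s • base t = s • base t ∧ d ≠ 1 ∧ y = α * d * α⁻¹ := by
  obtain ⟨d, hd, hdA, hsd⟩ := (C.coset_invol S.out).2 s S.invol rfl y hy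
  have hds : d • s • base t = s • base t := by
    have : d * s = s * d⁻¹ := by
      rw [← hsd, ← mul_assoc, ← mul_assoc, S.sq, one_mul]
    rw [← mul_smul, this, mul_smul, fix_base.mpr ((NN t).inv_mem hd)]
  have hd1 : d ≠ 1 := fun e => hyA (by simpa [e] using hdA)
  have hdA' : d ∉ AA t := fun h => hd1 (C.fix_two_AA S h hds)
  let f : AA t → AA t := fun α => ⟨d⁻¹ * α * d * (α : G)⁻¹, (AA t).mul_mem (by
    simpa using conj_mem_AA ((NN t).inv_mem hd) α.2) ((AA t).inv_mem α.2)⟩
  have hf : Function.Injective f := by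
    intro α β e
    have e' : d⁻¹ * α * d * (α : G)⁻¹ = d⁻¹ * β * d * (β : G)⁻¹ := congrArg Subtype.val e
    by_contra hne
    have hne' : (β : G)⁻¹ * α ≠ 1 := fun h => hne (Subtype.ext (inv_mul_eq_one.mp h).symm)
    refine hdA' (C.cent_mem ((AA t).mul_mem ((AA t).inv_mem β.2) α.2) hne' ?_)
    have h1 : d⁻¹ * ((β : G)⁻¹ * α) * d = (β : G)⁻¹ * α :=
      calc d⁻¹ * ((β : G)⁻¹ * α) * d = (d⁻¹ * β * d)⁻¹ * (d⁻¹ * α * d * (α : G)⁻¹ * α) := by group
        _ = (β : G)⁻¹ * α := by rw [e']; group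
    calc d * ((β : G)⁻¹ * α) = d * (d⁻¹ * ((β : G)⁻¹ * α) * d) := by rw [h1]
      _ = (β : G)⁻¹ * α * d := by group
  obtain ⟨α, hα⟩ := Finite.surjective_of_injective hf ⟨d⁻¹ * y, hdA⟩
  have hα' : d⁻¹ * α * d * (α : G)⁻¹ = d⁻¹ * y := congrArg Subtype.val hα
  refine ⟨α, α.2, d, hd, hds, hd1, ?_⟩
  calc y = d * (d⁻¹ * y) := by group
    _ = (α : G) * d * (α : G)⁻¹ := by rw [← hα']; group

/-- The centralizer is transitive on the points other than the base point. -/
theorem CTData.trans_AA (C : CTData t) {s g : G} (S : Swap t s) (hg : g ∉ NN t) :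
    ∃ α ∈ AA t, α • s • base t = g • base t := by
  obtain ⟨s', S', hs'⟩ := C.exists_swap_to hg
  obtain ⟨y, hy, hyA⟩ := C.exists_outer
  obtain ⟨-, -, d', hd', hds', hd1', -⟩ := C.exists_conj S' hy hyA
  obtain ⟨α, hα, d, hd, hds, -, he⟩ := C.exists_conj S hd' fun h => hd1' (C.fix_two_AA S' h hds')
  refine ⟨α, hα, ?_⟩
  rw [← hs', ← mul_smul]
  refine C.no_three S' hd' hds' hd1' ?_ ?_
  · intro h
    exact S.out (by simpa using (NN t).mul_mem ((NN t).inv_mem (Subgroup.le_normalizer hα)) h)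
  · rw [he, mul_smul, ← mul_smul (α : G)⁻¹ (α * s), inv_mul_cancel_left, mul_smul, hds,
      mul_smul]

theorem CTData.exists_one_swap (C : CTData t) : ∃ s, Swap t s := by
  obtain ⟨g, hg⟩ : ∃ g : G, g ∉ NN t := by
    by_contra h
    push Not at h
    have := C.simple
    have hn : (AA t).Normal := ⟨fun a ha g => conj_mem_AA (h g) ha⟩
    rcases hn.eq_bot_or_eq_top with h' | h'
    · exact C.ht1 (Subgroup.mem_bot.mp (h' ▸ mem_AA_self))
    · exact C.nonab ⟨⟨fun a b => C.comm (h' ▸ Subgroup.mem_top a) (h' ▸ Subgroup.mem_top b)⟩⟩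
  obtain ⟨s, S, -⟩ := C.exists_swap_to hg
  exact ⟨s, S⟩

omit [Finite G] in
theorem exists_smul_eq_point (c : Pt t) : ∃ g : G, g • base t = c := by
  obtain ⟨g, rfl⟩ := QuotientGroup.mk_surjective c
  exact ⟨g, smul_base g⟩

theorem CTData.zassenhaus (C : CTData t) : Cfsg.IsZassenhausGroup G (Pt t) := by
  have := C.simple
  obtain ⟨s, S⟩ := C.exists_one_swap
  have hb : base t ≠ s • base t := fun e => S.out (fix_base.mp e.symm)
  have hpair : ∀ c d : Pt t, c ≠ d → ∃ g : G, g • base t = c ∧ g • s • base t = d := by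
    intro c d hcd
    obtain ⟨g, rfl⟩ := exists_smul_eq_point c
    obtain ⟨h, rfl⟩ := exists_smul_eq_point d
    have hgh : g⁻¹ * h ∉ NN t := fun hm => hcd (by
      have h' := fix_base.mpr hm
      rw [mul_smul, inv_smul_eq_iff] at h'
      exact h'.symm)
    obtain ⟨α, hα, hαs⟩ := C.trans_AA S hgh
    exact ⟨g * α, by rw [mul_smul, fix_base.mpr (Subgroup.le_normalizer hα)],
      by rw [mul_smul, hαs, ← mul_smul, mul_inv_cancel_left]⟩
  obtain ⟨y, hy, hyA⟩ := C.exists_outer
  obtain ⟨-, -, d₀, hd₀, hds₀, hd₀1, -⟩ := C.exists_conj S hy hyA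
  refine ⟨?_, ?_, ?_, ⟨d₀, hd₀1, base t, s • base t, hb, fix_base.mpr hd₀, hds₀⟩, ?_⟩
  · refine ⟨fun {g k} h => ?_⟩
    by_contra hne
    rcases (MulAction.toPermHom G (Pt t)).normal_ker.eq_bot_or_eq_top with h' | h'
    · exact hne ((MonoidHom.ker_eq_bot_iff (MulAction.toPermHom G (Pt t))).mp h' (Equiv.ext fun c => h c))
    · have hs : s ∈ (MulAction.toPermHom G (Pt t)).ker := by rw [h']; exact Subgroup.mem_top s
      have hs' : MulAction.toPermHom G (Pt t) s = 1 := hs
      exact S.out (fix_base.mp (Equiv.ext_iff.mp hs' (base t)))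
  · rw [MulAction.is_two_pretransitive_iff]
    intro c d c' d' hcd hcd'
    obtain ⟨g, hg1, hg2⟩ := hpair c d hcd
    obtain ⟨g', hg1', hg2'⟩ := hpair c' d' hcd'
    exact ⟨g' * g⁻¹, by rw [mul_smul, ← hg1, inv_smul_smul, hg1'],
      by rw [mul_smul, ← hg2, inv_smul_smul, hg2']⟩
  · intro x c d e hcd hde hce hc hd he
    obtain ⟨g, hg1, hg2⟩ := hpair c d hcd
    set z := g⁻¹ * x * g with hz
    have hzN : z ∈ NN t := fix_base.mp (by rw [hz, mul_smul, mul_smul, hg1, hc, ← hg1, inv_smul_smul])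
    have hzs : z • s • base t = s • base t := by
      rw [hz, mul_smul, mul_smul, hg2, hd, ← hg2, inv_smul_smul]
    obtain ⟨h, hh⟩ := exists_smul_eq_point (g⁻¹ • e)
    have hzh : z • h • base t = h • base t := by
      rw [hh, hz, mul_smul, mul_smul, smul_inv_smul, he]
    by_contra hx1
    have hz1 : z ≠ 1 := fun h1 => hx1 (by
      rw [hz] at h1
      calc x = g * (g⁻¹ * x * g) * g⁻¹ := by group
        _ = 1 := by rw [h1]; group)
    have hhN : h ∉ NN t := fun hm => hce (by
      rw [← hg1, ← fix_base.mpr hm, hh, smul_inv_smul])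
    have := C.no_three S hzN hzs hz1 hhN hzh
    exact hde (by rw [← hg2, ← this, hh, smul_inv_smul])
  · intro M hM hMt
    rcases hM.eq_bot_or_eq_top with h' | h'
    · subst h'
      obtain ⟨⟨m, hm⟩, he⟩ := hMt.exists_smul_eq (base t) (s • base t)
      obtain rfl := Subgroup.mem_bot.mp hm
      exact absurd (by rw [← he]; exact (one_smul G _).symm) hb
    · refine ⟨base t, fun hbot => C.ht1 ?_⟩
      have hmem : (⟨t, h' ▸ Subgroup.mem_top t⟩ : M) ∈ stabilizer M (base t) :=
        fix_base.mpr (Subgroup.le_normalizer mem_AA_self)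
      exact congrArg Subtype.val (Subgroup.mem_bot.mp ((SetLike.ext_iff.mp hbot _).mp hmem))

/-- The centralizer of the involution is elementary abelian. -/
theorem CTData.elementary (C : CTData t) {u : G} (hu : u ∈ AA t) : u * u = 1 := by
  classical
  by_contra hu2
  have := Fintype.ofFinite G
  have := Fintype.ofFinite (Pt t)
  have hZ := C.zassenhaus
  obtain ⟨s, S⟩ := C.exists_one_swap
  have hb : base t ≠ s • base t := fun e => S.out (fix_base.mp e.symm)
  have hodd : Odd (Nat.card ↥(stabilizer G (base t) ⊓ stabilizer G (s • base t) : Subgroup G)) := by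
    rw [← Nat.not_even_iff_odd, even_iff_two_dvd]
    intro h2
    obtain ⟨z, hz⟩ := exists_prime_orderOf_dvd_card'
      (G := ↥(stabilizer G (base t) ⊓ stabilizer G (s • base t) : Subgroup G)) 2 h2
    obtain ⟨hz1, hz2⟩ := Subgroup.mem_inf.mp z.2
    have hzz := sq_of_orderOf hz
    have h1 : (z : G) * z = 1 := congrArg Subtype.val hzz
    have h0 := C.fix_two_AA S (C.invol_mem h1 (fix_base.mp hz1)) hz2
    rw [show z = 1 from Subtype.ext h0, orderOf_one] at hz
    omega
  have hcard : Nat.card (AA t) + 1 = Fintype.card (Pt t) := by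
    have h : Nat.card {c : Pt t // c ≠ base t} = Nat.card (AA t) := by
      refine (Nat.card_eq_of_bijective (fun α : AA t => (⟨(α : G) • s • base t, fun e => ?_⟩ :
        {c : Pt t // c ≠ base t})) ⟨?_, ?_⟩).symm
      · exact hb (smul_left_cancel (α : G)
          ((fix_base.mpr (Subgroup.le_normalizer α.2)).trans e.symm))
      · intro α β e
        have e' : (α : G) • s • base t = (β : G) • s • base t := congrArg Subtype.val e
        have h := C.fix_two_AA S ((AA t).mul_mem ((AA t).inv_mem β.2) α.2)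
          (by rw [mul_smul, e', inv_smul_smul])
        exact Subtype.ext (inv_mul_eq_one.mp h).symm
      · rintro ⟨c, hc⟩
        obtain ⟨g, rfl⟩ := exists_smul_eq_point c
        obtain ⟨α, hα, he⟩ := C.trans_AA S fun h => hc (fix_base.mpr h)
        exact ⟨⟨α, hα⟩, Subtype.ext he⟩
    rw [← h, Nat.card_eq_fintype_card, Fintype.card_subtype_compl, Fintype.card_subtype_eq]
    have := Fintype.card_pos_iff.mpr ⟨base t⟩
    omega
  have D : CTK.KData (base t) (s • base t) (AA t) u t :=
    { hZ := hZ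
      simple := C.simple
      hab := hb
      hodd := hodd
      hHa := fun a ha => fix_base.mpr (Subgroup.le_normalizer ha)
      hHcard := hcard
      hHfix := fun v hv hv1 c hc => by
        obtain ⟨g, rfl⟩ := exists_smul_eq_point c
        exact fix_base.mpr (C.fix_AA hv hv1 hc)
      hcomm := fun x hx y hy => C.comm hx hy
      hev := even_iff_two_dvd.mpr (C.ht ▸ Subgroup.orderOf_dvd_natCard _ mem_AA_self)
      hu := hu
      hu2 := hu2
      ht := mem_AA_self
      ht2 := C.ht }
  exact D.false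

end CfsgLib.Classical22.CT
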