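import Mathlib.GroupTheory.Index
import Mathlib.Algebra.Group.Subgroup.Finite
import Mathlib.GroupTheory.QuotientGroup.Basic
import Mathlib.GroupTheory.Subgroup.Simple
import Mathlib.NumberTheory.ArithmeticFunction.Misc

/-!
Composition length via subnormal chains of subgroups.
-/

set_option autoImplicit false

namespace CfsgLib.Classical22.CompLength

variable {G : Type*} [Group G] {Q : Type*} [Group Q]

/-- `Chain K l`: a chain `⊥ < ... < K` of length `l`, each term normal in the next. -/
inductive Chain : Subgroup G → ℕ → Prop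
  | bot : Chain ⊥ 0
  | step {A B : Subgroup G} {l : ℕ} : Chain A l → A < B →
      (∀ b ∈ B, ∀ a ∈ A, b * a * b⁻¹ ∈ A) → Chain B (l + 1)

theorem exists_chain (K : Subgroup G) : ∃ l, Chain K l := by
  by_cases h : K = ⊥
  · exact ⟨0, h ▸ Chain.bot⟩
  · exact ⟨1, Chain.step Chain.bot (bot_lt_iff_ne_bot.mpr h) fun b _ a ha => by
      rw [Subgroup.mem_bot] at ha ⊢; simp [ha]⟩

theorem Chain.le_cardFactors [Finite G] {K : Subgroup G} {l : ℕ} (h : Chain K l) :
    l ≤ ArithmeticFunction.cardFactors (Nat.card K) := by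
  induction h with
  | bot => exact Nat.zero_le _
  | @step A B l hA hlt _ ih =>
    obtain ⟨c, hc⟩ := Subgroup.card_dvd_of_le hlt.le
    have hA0 : Nat.card A ≠ 0 := Nat.card_pos.ne'
    have hc0 : c ≠ 0 := fun h0 => (Nat.card_pos (α := B)).ne' (by rw [hc, h0, mul_zero])
    have hc1 : c ≠ 1 := fun h1 => hlt.ne (Subgroup.eq_of_le_of_card_ge hlt.le (by rw [hc, h1, mul_one]))
    have : 1 ≤ ArithmeticFunction.cardFactors c := by
      obtain ⟨p, hp, d, rfl⟩ := Nat.exists_prime_and_dvd hc1
      have hd : d ≠ 0 := fun h0 => hc0 (by rw [h0, mul_zero])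
      rw [ArithmeticFunction.cardFactors_mul hp.ne_zero hd,
        ArithmeticFunction.cardFactors_apply_prime hp]
      omega
    rw [hc, ArithmeticFunction.cardFactors_mul hA0 hc0]
    omega

theorem Chain.map {K : Subgroup G} {l : ℕ} (h : Chain K l) (f : G →* Q)
    (hf : Function.Injective f) : Chain (K.map f) l := by
  induction h with
  | bot => rw [Subgroup.map_bot]; exact Chain.bot
  | @step A B l _ hlt hn ih =>
    refine Chain.step ih ((Subgroup.map_lt_map_iff_of_injective hf).mpr hlt) ?_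
    rintro _ ⟨b, hb, rfl⟩ _ ⟨a, ha, rfl⟩
    exact ⟨_, hn b hb a ha, by simp⟩

theorem Chain.comap_injective {K : Subgroup Q} {l : ℕ} (h : Chain K l) (f : G →* Q)
    (hf : Function.Injective f) (hK : K ≤ f.range) : Chain (K.comap f) l := by
  induction h with
  | bot => rw [MonoidHom.comap_bot, (MonoidHom.ker_eq_bot_iff f).mpr hf]; exact Chain.bot
  | @step A B l _ hlt hn ih =>
    refine Chain.step (ih (hlt.le.trans hK)) (lt_of_le_of_ne (Subgroup.comap_mono hlt.le) fun he => ?_)
      fun b hb a ha => ?_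
    · apply hlt.ne
      rw [← Subgroup.map_comap_eq_self (hlt.le.trans hK), ← Subgroup.map_comap_eq_self hK, he]
    · simp only [Subgroup.mem_comap, map_mul, map_inv] at *
      exact hn _ hb _ ha

theorem Chain.comap_surjective {K : Subgroup Q} {l a : ℕ} (h : Chain K l) (f : G →* Q)
    (hf : Function.Surjective f) (ha : Chain f.ker a) : Chain (K.comap f) (a + l) := by
  induction h with
  | bot => rw [MonoidHom.comap_bot]; exact ha
  | @step A B l _ hlt hn ih =>
    refine Chain.step ih ((Subgroup.comap_lt_comap_of_surjective hf).mpr hlt) fun b hb x hx => ?_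
    simp only [Subgroup.mem_comap, map_mul, map_inv] at *
    exact hn _ hb _ hx

theorem Chain.split {K : Subgroup G} {l : ℕ} (h : Chain K l) (f : G →* Q) :
    ∃ a b, l ≤ a + b ∧ Chain (K ⊓ f.ker) a ∧ Chain (K.map f) b := by
  induction h with
  | bot => exact ⟨0, 0, le_rfl, by rw [bot_inf_eq]; exact Chain.bot, by
      rw [Subgroup.map_bot]; exact Chain.bot⟩
  | @step A B l _ hlt hn ih =>
    obtain ⟨a, b, hl, hca, hcb⟩ := ih
    have hn1 : ∀ x ∈ B ⊓ f.ker, ∀ y ∈ A ⊓ f.ker, x * y * x⁻¹ ∈ A ⊓ f.ker := fun x hx y hy =>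
      ⟨hn x hx.1 y hy.1, (MonoidHom.normal_ker f).conj_mem y hy.2 x⟩
    have hn2 : ∀ x ∈ B.map f, ∀ y ∈ A.map f, x * y * x⁻¹ ∈ A.map f := by
      rintro _ ⟨x, hx, rfl⟩ _ ⟨y, hy, rfl⟩
      exact ⟨_, hn x hx y hy, by simp⟩
    rcases (inf_le_inf_right f.ker hlt.le).lt_or_eq with h1 | h1
    · rcases (Subgroup.map_mono (f := f) hlt.le).lt_or_eq with h2 | h2
      · exact ⟨a + 1, b + 1, by omega, Chain.step hca h1 hn1, Chain.step hcb h2 hn2⟩
      · exact ⟨a + 1, b, by omega, Chain.step hca h1 hn1, h2 ▸ hcb⟩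
    · rcases (Subgroup.map_mono (f := f) hlt.le).lt_or_eq with h2 | h2
      · exact ⟨a, b + 1, by omega, h1 ▸ hca, Chain.step hcb h2 hn2⟩
      · exfalso
        apply hlt.not_ge
        intro x hx
        obtain ⟨y, hy, hyx⟩ : f x ∈ A.map f := by rw [h2]; exact ⟨x, hx, rfl⟩
        have hk : y⁻¹ * x ∈ A ⊓ f.ker := by
          rw [h1]
          exact ⟨B.mul_mem (B.inv_mem (hlt.le hy)) hx, MonoidHom.mem_ker.mpr (by
            rw [map_mul, map_inv, hyx, inv_mul_cancel])⟩
        have := A.mul_mem hy hk.1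
        rwa [mul_inv_cancel_left] at this

/-- The composition length of a finite group. -/
noncomputable def cl (G : Type*) [Group G] : ℕ := sSup {l | Chain (⊤ : Subgroup G) l}

variable [Finite G]

theorem bddAbove : BddAbove {l | Chain (⊤ : Subgroup G) l} :=
  ⟨_, fun _ h => h.le_cardFactors⟩

theorem le_cl {l : ℕ} (h : Chain (⊤ : Subgroup G) l) : l ≤ cl G := le_csSup bddAbove h

theorem chain_cl (G : Type*) [Group G] [Finite G] : Chain (⊤ : Subgroup G) (cl G) :=
  Nat.sSup_mem (exists_chain _) bddAbove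

theorem cl_le {b : ℕ} (h : ∀ l, Chain (⊤ : Subgroup G) l → l ≤ b) : cl G ≤ b :=
  h _ (chain_cl G)

theorem cl_le_cardFactors : cl G ≤ ArithmeticFunction.cardFactors (Nat.card G) := by
  have := (chain_cl G).le_cardFactors
  rwa [Nat.card_congr (Subgroup.topEquiv (G := G)).toEquiv] at this

theorem cl_of_subsingleton [Subsingleton G] : cl G = 0 := by
  have h := cl_le_cardFactors (G := G)
  rw [Nat.card_of_subsingleton (1 : G)] at h
  simpa using h

theorem chain_le_of_sub {K : Subgroup G} {l : ℕ} (h : Chain K l) : l ≤ cl K := by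
  have h2 := h.comap_injective K.subtype K.subtype_injective (by rw [Subgroup.range_subtype])
  refine le_cl ?_
  convert h2
  exact (Subgroup.subgroupOf_self K).symm

theorem chain_cl_sub (K : Subgroup G) : Chain K (cl K) := by
  have := (chain_cl K).map K.subtype K.subtype_injective
  rwa [← MonoidHom.range_eq_map, Subgroup.range_subtype] at this

theorem cl_le_add (f : G →* Q) [Finite Q] : cl G ≤ cl f.ker + cl f.range := by
  obtain ⟨a, b, hl, ha, hb⟩ := (chain_cl G).split f
  rw [top_inf_eq] at ha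
  rw [← MonoidHom.range_eq_map] at hb
  have := chain_le_of_sub ha
  have := chain_le_of_sub hb
  omega

theorem cl_add_le [Finite Q] (f : G →* Q) (hf : Function.Surjective f) :
    cl f.ker + cl Q ≤ cl G := by
  refine le_cl ?_
  have := (chain_cl Q).comap_surjective f hf (chain_cl_sub f.ker)
  rwa [Subgroup.comap_top] at this

theorem cl_le_of_equiv [Finite Q] (e : G ≃* Q) : cl G ≤ cl Q := by
  refine le_cl ?_
  have := (chain_cl G).map e.toMonoidHom e.injective
  rwa [← MonoidHom.range_eq_map, MonoidHom.range_eq_top.mpr e.surjective] at this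

theorem cl_congr [Finite Q] (e : G ≃* Q) : cl G = cl Q :=
  le_antisymm (cl_le_of_equiv e) (cl_le_of_equiv e.symm)

theorem cl_le_of_injective [Finite Q] (f : G →* Q) (hf : Function.Injective f)
    (hr : f.range = ⊤) : cl G ≤ cl Q :=
  cl_le_of_equiv (MulEquiv.ofBijective f ⟨hf, MonoidHom.range_eq_top.mp hr⟩)

theorem Chain.eq_bot_of_zero {K : Subgroup G} (h : Chain K 0) : K = ⊥ := by
  cases h
  rfl

theorem cl_le_one [IsSimpleGroup G] : cl G ≤ 1 := by
  refine cl_le fun l h => ?_
  generalize hK : (⊤ : Subgroup G) = K at h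
  cases h with
  | bot => omega
  | @step A _ k hA hlt hn =>
    subst hK
    have hAn : A.Normal := ⟨fun a ha g => hn g (Subgroup.mem_top g) a ha⟩
    rcases hAn.eq_bot_or_eq_top with hAb | hAt
    · cases hA with
      | bot => omega
      | step _ h2 _ => exact absurd (hAb ▸ h2) not_lt_bot
    · exact absurd (hAt ▸ hlt) (lt_irrefl _)

theorem fin_chain_le {l : ℕ} (H : Fin (l + 1) → Subgroup G) (h0 : H 0 = ⊥)
    (hl : H (Fin.last l) = ⊤)
    (hchain : ∀ i : Fin l, H i.castSucc < H i.succ ∧ ((H i.castSucc).subgroupOf (H i.succ)).Normal) :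
    l ≤ cl G := by
  have h : ∀ i : Fin (l + 1), Chain (H i) i.1 := by
    intro i
    induction i using Fin.induction with
    | zero => rw [h0]; exact Chain.bot
    | succ i ih =>
      refine Chain.step ih (hchain i).1 fun b hb a ha => ?_
      exact (hchain i).2.conj_mem ⟨a, (hchain i).1.le ha⟩ ha ⟨b, hb⟩
  refine le_cl ?_
  have := h (Fin.last l)
  rwa [hl] at this

end CfsgLib.Classical22.CompLength
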