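import Mathlib.GroupTheory.Subgroup.Center
import Mathlib.Algebra.Group.Pi.Lemmas
import Mathlib.Data.Fintype.EquivFin
import Mathlib.Data.Finset.Sort
import Mathlib.SetTheory.Cardinal.Finite
import Cfsg.Agent.Lib.Classical22.CompLength

/-!
Powers of a simple group: supports, automorphisms, composition length, and cosets of a subgroup
in which every element has large support.
-/

set_option autoImplicit false

namespace CfsgLib.Classical22.PowerSimple

open CfsgLib.Classical22.CompLength

variable {S : Type*} [Group S] {k : ℕ}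

/-- The support. -/
noncomputable def supp (x : Fin k → S) : ℕ := Nat.card {i // x i ≠ 1}

/-- Number of trivial coordinates. -/
noncomputable def nsupp (x : Fin k → S) : ℕ := Nat.card {i // x i = 1}

theorem supp_add_nsupp (x : Fin k → S) : supp x + nsupp x = k := by
  classical
  rw [supp, nsupp, Nat.card_eq_fintype_card, Nat.card_eq_fintype_card, Fintype.card_subtype,
    Fintype.card_subtype]
  have := Finset.card_filter_add_card_filter_not (s := (Finset.univ : Finset (Fin k))) (fun i => x i = 1)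
  simp only [Finset.card_univ, Fintype.card_fin] at this
  simp only [ne_eq]
  omega

theorem supp_one : supp (1 : Fin k → S) = 0 := by
  haveI : IsEmpty {i : Fin k // (1 : Fin k → S) i ≠ 1} := ⟨fun i => i.2 rfl⟩
  exact Nat.card_of_isEmpty

theorem supp_mulSingle_mul_le (i : Fin k) (s : S) (y : Fin k → S) :
    supp (Pi.mulSingle i s * y) ≤ supp y + 1 := by
  classical
  rw [supp, supp, Nat.card_eq_fintype_card, Nat.card_eq_fintype_card, Fintype.card_subtype,
    Fintype.card_subtype]
  refine (Finset.card_le_card (t := insert i (Finset.univ.filter fun j => y j ≠ 1)) ?_).trans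
    (Finset.card_insert_le _ _)
  intro j hj
  simp only [Finset.mem_filter, Finset.mem_univ, true_and, Finset.mem_insert] at hj ⊢
  by_cases h : j = i
  · exact Or.inl h
  · refine Or.inr ?_
    simpa [Pi.mulSingle_eq_of_ne h] using hj

section Simple

variable [IsSimpleGroup S]

theorem exists_not_commute (hS : ¬ ∀ a b : S, a * b = b * a) {a : S} (ha : a ≠ 1) :
    ∃ b, a * b ≠ b * a := by
  by_contra h
  push_neg at h
  rcases (inferInstance : (Subgroup.center S).Normal).eq_bot_or_eq_top with hc | hc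
  · exact ha (by
      have : a ∈ Subgroup.center S := Subgroup.mem_center_iff.mpr fun b => (h b).symm
      rwa [hc, Subgroup.mem_bot] at this)
  · exact hS fun x y => (Subgroup.mem_center_iff.mp (hc ▸ Subgroup.mem_top y : y ∈ Subgroup.center S) x)

theorem single_le_of_normal (hS : ¬ ∀ a b : S, a * b = b * a) (M : Subgroup (Fin k → S))
    (hM : M.Normal) {x : Fin k → S} (hx : x ∈ M) {i : Fin k} (hi : x i ≠ 1) :
    ∀ s, Pi.mulSingle i s ∈ M := by
  obtain ⟨b, hb⟩ := exists_not_commute hS hi
  have hmem : Pi.mulSingle i (x i * b * (x i)⁻¹ * b⁻¹) ∈ M := by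
    have h := M.mul_mem hx (hM.conj_mem x⁻¹ (M.inv_mem hx) (Pi.mulSingle i b))
    convert h using 1
    funext j
    by_cases hj : j = i
    · subst hj; simp [mul_assoc]
    · simp [Pi.mulSingle_eq_of_ne hj]
  let K : Subgroup S := M.comap (MonoidHom.mulSingle (fun _ : Fin k => S) i)
  have hK : K.Normal := hM.comap _
  have hKtop : K = ⊤ := hK.eq_bot_or_eq_top.resolve_left fun h => by
    have : x i * b * (x i)⁻¹ * b⁻¹ ∈ K := hmem
    rw [h, Subgroup.mem_bot, mul_inv_eq_one, mul_inv_eq_iff_eq_mul] at this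
    exact hb this
  intro s
  exact (hKtop ▸ Subgroup.mem_top s : s ∈ K)

theorem exists_perm (hS : ¬ ∀ a b : S, a * b = b * a) (θ : MulAut (Fin k → S)) :
    ∃ σ : Equiv.Perm (Fin k), ∀ x i, θ x (σ i) = 1 ↔ x i = 1 := by
  classical
  let T : Fin k → Subgroup (Fin k → S) := fun i => (MonoidHom.mulSingle (fun _ : Fin k => S) i).range
  have hmemT : ∀ i x, x ∈ T i ↔ ∀ j, j ≠ i → x j = 1 := by
    intro i x
    constructor
    · rintro ⟨s, rfl⟩ j hj
      simp [Pi.mulSingle_eq_of_ne hj]
    · intro h
      refine ⟨x i, funext fun j => ?_⟩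
      by_cases hj : j = i
      · subst hj; simp
      · simp [Pi.mulSingle_eq_of_ne hj, h j hj]
  have hTn : ∀ i, (T i).Normal := fun i => ⟨fun x hx g => (hmemT i _).mpr fun j hj => by
    simp [(hmemT i x).mp hx j hj]⟩
  obtain ⟨s0, hs0⟩ : ∃ s : S, s ≠ 1 := exists_ne 1
  have hTne : ∀ i j, T i ≤ T j → i = j := fun i j h => by
    by_contra hij
    have := (hmemT j _).mp (h ⟨s0, rfl⟩) i hij
    simp [hs0] at this
  have himg : ∀ (φ : MulAut (Fin k → S)) i, ∃ j, T j ≤ (T i).map φ.toMonoidHom := by
    intro φ i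
    have hn : ((T i).map φ.toMonoidHom).Normal := (hTn i).map _ φ.surjective
    obtain ⟨j, hj⟩ : ∃ j, φ (Pi.mulSingle i s0) j ≠ 1 := by
      by_contra h
      push_neg at h
      have h1 : φ (Pi.mulSingle i s0) = φ 1 := by rw [map_one]; exact funext h
      exact hs0 (by simpa using congrFun (φ.injective h1) i)
    refine ⟨j, ?_⟩
    rintro _ ⟨s, rfl⟩
    exact single_le_of_normal hS _ hn ⟨_, ⟨s0, rfl⟩, rfl⟩ hj s
  choose τ hτ using himg θ
  have hτeq : ∀ i, (T i).map θ.toMonoidHom ≤ T (τ i) := by
    intro i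
    obtain ⟨i', hi'⟩ := himg θ.symm (τ i)
    have h1 : (T (τ i)).map θ.symm.toMonoidHom ≤ T i := by
      refine (Subgroup.map_mono (hτ i)).trans ?_
      rintro _ ⟨_, ⟨x, hx, rfl⟩, rfl⟩
      simpa using hx
    obtain rfl := hTne _ _ (hi'.trans h1)
    rintro _ ⟨x, hx, rfl⟩
    obtain ⟨y, hy, hyx⟩ := hi' hx
    rw [← hyx]
    simpa using hy
  have hinj : Function.Injective τ := by
    intro i j hij
    apply hTne
    intro x hx
    obtain ⟨y, hy, hyx⟩ := hτ j (hij ▸ hτeq i ⟨x, hx, rfl⟩)
    exact θ.injective hyx ▸ hy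
  refine ⟨Equiv.ofBijective τ (Finite.injective_iff_bijective.mp hinj), fun x i => ?_⟩
  rw [Equiv.ofBijective_apply]
  constructor
  · intro h
    by_contra hx
    obtain ⟨b, hb⟩ := exists_not_commute hS hx
    apply hb
    have hcom : θ x * θ (Pi.mulSingle i b) = θ (Pi.mulSingle i b) * θ x := by
      funext j
      by_cases hj : j = τ i
      · subst hj; simp [h]
      · have h1 : θ (Pi.mulSingle i b) j = 1 :=
          (hmemT (τ i) _).mp (hτeq i ⟨Pi.mulSingle i b, ⟨b, rfl⟩, rfl⟩) j hj
        simp [h1]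
    rw [← map_mul, ← map_mul] at hcom
    simpa using congrFun (θ.injective hcom) i
  · intro h
    by_contra hx
    obtain ⟨b, hb⟩ := exists_not_commute hS hx
    apply hb
    obtain ⟨y, hy, hyb⟩ := hτ i ⟨b, rfl⟩
    have hcom : x * y = y * x := by
      funext j
      by_cases hj : j = i
      · subst hj; simp [h]
      · simp [(hmemT i y).mp hy j hj]
    have hb' : θ x * Pi.mulSingle (τ i) b = Pi.mulSingle (τ i) b * θ x := by
      have h2 := congrArg θ hcom
      rw [map_mul, map_mul] at h2
      change θ x * θ y = θ y * θ x at h2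
      rw [show θ y = Pi.mulSingle (τ i) b from hyb] at h2
      exact h2
    simpa using congrFun hb' (τ i)

theorem supp_mulAut (hS : ¬ ∀ a b : S, a * b = b * a) (θ : MulAut (Fin k → S))
    (x : Fin k → S) : supp (θ x) = supp x := by
  obtain ⟨σ, hσ⟩ := exists_perm hS θ
  refine (Nat.card_congr (σ.subtypeEquiv fun i => ?_)).symm
  rw [ne_eq, ne_eq, hσ]

end Simple

theorem cl_pi_le [Finite S] [IsSimpleGroup S] : ∀ k : ℕ, cl (Fin k → S) ≤ k
  | 0 => (cl_of_subsingleton).le
  | k + 1 => by
    let f : (Fin (k + 1) → S) →* (Fin k → S) :=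
      { toFun := fun x => Fin.tail x, map_one' := rfl, map_mul' := fun _ _ => rfl }
    have hsurj : Function.Surjective f := fun y => ⟨Fin.cons 1 y, Fin.tail_cons (α := fun _ => S) 1 y⟩
    have hr : cl f.range ≤ k := by
      rw [MonoidHom.range_eq_top.mpr hsurj, cl_congr Subgroup.topEquiv]
      exact cl_pi_le k
    let e : f.ker ≃* S :=
      { toFun := fun x => x.1 0
        invFun := fun s => ⟨Fin.cons s 1, MonoidHom.mem_ker.mpr (Fin.tail_cons (α := fun _ => S) s 1)⟩
        left_inv := fun x => Subtype.ext (by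
          have hx : Fin.tail x.1 = 1 := x.2
          show Fin.cons (x.1 0) 1 = x.1
          rw [← hx, Fin.cons_self_tail])
        right_inv := fun s => rfl
        map_mul' := fun _ _ => rfl }
    have hk : cl f.ker ≤ 1 := (cl_congr e).le.trans cl_le_one
    have := cl_le_add f
    omega

theorem ker_prime {A S : Type*} [Group A] [Group S] [IsSimpleGroup S]
    (hS : ¬ ∀ a b : S, a * b = b * a) {f : A →* S} (hf : Function.Surjective f)
    {P R : Subgroup A} (hP : P.Normal) (hR : R.Normal) (h : P ⊓ R ≤ f.ker) :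
    P ≤ f.ker ∨ R ≤ f.ker := by
  by_contra hcon
  rw [not_or] at hcon
  have key : ∀ {X : Subgroup A}, X.Normal → ¬ X ≤ f.ker → X.map f = ⊤ := fun {X} hX hne =>
    (hX.map f hf).eq_bot_or_eq_top.resolve_left fun h =>
      hne ((Subgroup.map_eq_bot_iff _).mp h)
  apply hS
  intro a b
  obtain ⟨x, hx, rfl⟩ : a ∈ P.map f := key hP hcon.1 ▸ Subgroup.mem_top a
  obtain ⟨y, hy, rfl⟩ : b ∈ R.map f := key hR hcon.2 ▸ Subgroup.mem_top b
  have hm : x * y * x⁻¹ * y⁻¹ ∈ f.ker := by
    refine h ⟨?_, R.mul_mem (hR.conj_mem y hy x) (R.inv_mem hy)⟩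
    have := P.mul_mem hx (hP.conj_mem x⁻¹ (P.inv_mem hx) y)
    simpa [mul_assoc] using this
  rw [MonoidHom.mem_ker, map_mul, map_mul, map_mul, map_inv, map_inv, mul_inv_eq_one,
    mul_inv_eq_iff_eq_mul] at hm
  exact hm

theorem mem_finInf {A : Type*} [Group A] (𝒮 : Finset (Subgroup A)) (x : A) :
    x ∈ 𝒮.inf id ↔ ∀ L ∈ 𝒮, x ∈ L := by
  classical
  induction 𝒮 using Finset.induction_on with
  | empty => simp
  | insert L 𝒮 _ ih => simp [Subgroup.mem_inf, ih]

theorem card_kernels_le_cl {A S : Type*} [Group A] [Finite A] [Group S] [IsSimpleGroup S]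
    (hS : ¬ ∀ a b : S, a * b = b * a) (𝒦 : Finset (Subgroup A))
    (h𝒦 : ∀ K ∈ 𝒦, ∃ f : A →* S, Function.Surjective f ∧ f.ker = K) : 𝒦.card ≤ cl A := by
  classical
  suffices key : ∀ 𝒯 : Finset (Subgroup A), 𝒯 ⊆ 𝒦 → ∀ l, Chain (𝒯.inf id) l →
      Chain (⊤ : Subgroup A) (l + 𝒯.card) by
    obtain ⟨l, hl⟩ := exists_chain (𝒦.inf id)
    exact le_trans (Nat.le_add_left _ _) (le_cl (key 𝒦 subset_rfl l hl))
  intro 𝒯
  induction 𝒯 using Finset.induction_on with
  | empty => intro _ l hl; simpa using hl
  | insert K 𝒯 hK ih =>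
    intro hsub l hl
    rw [Finset.insert_subset_iff] at hsub
    obtain ⟨f, hf, rfl⟩ := h𝒦 K hsub.1
    have hnormal : ∀ 𝒮 : Finset (Subgroup A), 𝒮 ⊆ 𝒦 → (𝒮.inf id).Normal := fun 𝒮 hS =>
      ⟨fun x hx g => by
        rw [mem_finInf] at hx ⊢
        intro L hL
        obtain ⟨f', -, rfl⟩ := h𝒦 L (hS hL)
        exact (MonoidHom.normal_ker f').conj_mem x (hx _ hL) g⟩
    -- the other kernels do not meet inside this one
    have hnle : ∀ 𝒮 : Finset (Subgroup A), 𝒮 ⊆ 𝒯 → ¬ 𝒮.inf id ≤ f.ker := by
      intro 𝒮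
      induction 𝒮 using Finset.induction_on with
      | empty =>
        intro _ h
        obtain ⟨s, hs⟩ := exists_ne (1 : S)
        obtain ⟨x, rfl⟩ := hf s
        exact hs (h (by simp))
      | insert L 𝒮 _ ihS =>
        intro hsub' h
        rw [Finset.insert_subset_iff] at hsub'
        obtain ⟨f', hf', rfl⟩ := h𝒦 L (hsub.2 hsub'.1)
        rw [Finset.inf_insert] at h
        rcases ker_prime hS hf (MonoidHom.normal_ker f') (hnormal 𝒮 (hsub'.2.trans hsub.2)) h
          with h1 | h1
        · refine hK ?_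
          have heq : f'.ker = f.ker := by
            refine le_antisymm h1 fun x hx => ?_
            by_contra hx'
            have hmap : f.ker.map f' = ⊤ :=
              ((MonoidHom.normal_ker f).map f' hf').eq_bot_or_eq_top.resolve_left fun hb =>
                hx' ((Subgroup.map_eq_bot_iff _).mp hb hx)
            obtain ⟨s, hs⟩ := exists_ne (1 : S)
            obtain ⟨y, rfl⟩ := hf s
            obtain ⟨z, hz, hzy⟩ : f' y ∈ f.ker.map f' := hmap ▸ Subgroup.mem_top _
            have hm : y * z⁻¹ ∈ f.ker := h1 (by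
              rw [MonoidHom.mem_ker, map_mul, map_inv, hzy, mul_inv_cancel])
            apply hs
            have := f.ker.mul_mem hm hz
            rwa [inv_mul_cancel_right] at this
          exact heq ▸ hsub'.1
        · exact ihS hsub'.2 h1
    have hlt : (insert f.ker 𝒯).inf id < 𝒯.inf id := by
      rw [Finset.inf_insert]
      refine lt_of_le_of_ne inf_le_right fun he => hnle 𝒯 subset_rfl ?_
      rw [← he]
      exact inf_le_left
    have hn := hnormal (insert f.ker 𝒯) (Finset.insert_subset hsub.1 hsub.2)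
    have := ih hsub.2 (l + 1) (Chain.step hl hlt fun b _ a ha => hn.conj_mem a ha b)
    rw [Finset.card_insert_of_notMem hK]
    convert this using 1
    omega

theorem exists_coset_large_supp [Finite S] [IsSimpleGroup S]
    (hS : ¬ ∀ a b : S, a * b = b * a) (h4 : 4 ≤ Nat.card S) (A : Subgroup (Fin k → S)) :
    ∃ ν : Fin k → S, ∀ a ∈ A, 4 * nsupp (ν * a) ≤ k + 3 * cl A := by
  classical
  let f : Fin k → (A →* S) := fun j => (Pi.evalMonoidHom (fun _ : Fin k => S) j).comp A.subtype
  let 𝒦 : Finset (Subgroup A) :=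
    (Finset.univ.filter fun j => Function.Surjective (f j)).image fun j => (f j).ker
  have hcard : 𝒦.card ≤ cl A := by
    refine card_kernels_le_cl hS 𝒦 fun K hK => ?_
    obtain ⟨j, hj, rfl⟩ := Finset.mem_image.mp hK
    exact ⟨f j, (Finset.mem_filter.mp hj).2, rfl⟩
  -- classes
  let C : Subgroup A → Finset (Fin k) := fun K =>
    Finset.univ.filter fun j => Function.Surjective (f j) ∧ (f j).ker = K
  haveI : Fintype S := Fintype.ofFinite S
  have hs4 : 4 ≤ Fintype.card S := by rwa [← Nat.card_eq_fintype_card]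
  let pos : (j : Fin k) → ℕ := fun j => (((C (f j).ker).filter fun i => i < j)).card
  let u : Fin k → S := fun j =>
    (Fintype.equivFin S).symm ⟨pos j % Fintype.card S, Nat.mod_lt _ (by omega)⟩
  have hν : ∀ j, ∃ t : S, if Function.Surjective (f j) then
      ∃ r, (f r).ker = (f j).ker ∧ (∀ i, (f i).ker = (f j).ker → Function.Surjective (f i) →
        ∀ h : ∃ i, Function.Surjective (f i) ∧ (f i).ker = (f j).ker, r = Classical.choose h) ∧
        ∃ a : A, f r a = u j ∧ t = (f j a)⁻¹
      else ∀ a : A, t * f j a ≠ 1 := by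
    intro j
    split_ifs with hj
    · have hex : ∃ i, Function.Surjective (f i) ∧ (f i).ker = (f j).ker := ⟨j, hj, rfl⟩
      obtain ⟨a, ha⟩ := (Classical.choose_spec hex).1 (u j)
      exact ⟨_, _, (Classical.choose_spec hex).2, fun _ _ _ h => rfl, a, ha, rfl⟩
    · obtain ⟨s, hs⟩ := not_forall.mp hj
      refine ⟨s, fun a ha => hs ⟨a⁻¹, ?_⟩⟩
      rw [map_inv, ← eq_inv_of_mul_eq_one_left ha]
  choose ν hν using hν
  refine ⟨ν, fun a ha => ?_⟩
  have hz : ∀ j, (ν * a) j = 1 → Function.Surjective (f j) := by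
    intro j hj
    by_contra hns
    have := hν j
    rw [if_neg hns] at this
    exact this ⟨a, ha⟩ hj
  -- in each class few coordinates are trivial
  have hclass : ∀ K ∈ 𝒦, 4 * ((C K).filter fun j => (ν * a) j = 1).card ≤ (C K).card + 3 := by
    intro K hK
    set Z := (C K).filter fun j => (ν * a) j = 1 with hZ
    rcases Z.eq_empty_or_nonempty with hZ0 | ⟨j0, hj0⟩
    · rw [hZ0, Finset.card_empty]; omega
    have hval : ∀ j ∈ Z, ∀ j' ∈ Z, u j = u j' := by
      intro j hj j' hj'
      simp only [hZ, C, Finset.mem_filter, Finset.mem_univ, true_and] at hj hj'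
      obtain ⟨⟨hjs, hjK⟩, hj1⟩ := hj
      obtain ⟨⟨hjs', hjK'⟩, hj1'⟩ := hj'
      have h1 := hν j
      have h2 := hν j'
      rw [if_pos hjs] at h1
      rw [if_pos hjs'] at h2
      obtain ⟨r, hr, hrc, b, hb, hbν⟩ := h1
      obtain ⟨r', hr', hrc', b', hb', hbν'⟩ := h2
      have hex : ∃ i, Function.Surjective (f i) ∧ (f i).ker = K := ⟨j, hjs, hjK⟩
      have hr1 : r = Classical.choose hex := by
        subst hjK
        exact hrc j rfl hjs hex
      have hr2 : r' = Classical.choose hex := by
        subst hjK'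
        exact hrc' j' rfl hjs' hex
      have hbj : b⁻¹ * (⟨a, ha⟩ : A) ∈ (f r).ker := by
        rw [hr, MonoidHom.mem_ker, map_mul, map_inv, ← hbν]
        exact hj1
      have hbj' : b'⁻¹ * (⟨a, ha⟩ : A) ∈ (f r').ker := by
        rw [hr', MonoidHom.mem_ker, map_mul, map_inv, ← hbν']
        exact hj1'
      rw [MonoidHom.mem_ker, map_mul, map_inv, inv_mul_eq_one, hb] at hbj
      rw [MonoidHom.mem_ker, map_mul, map_inv, inv_mul_eq_one, hb', hr2, ← hr1] at hbj'
      exact hbj.trans hbj'.symm
    -- positions in the class are distinct, below its size, and congruent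
    have hposlt : ∀ j ∈ Z, pos j < (C K).card := by
      intro j hj
      simp only [hZ, C, Finset.mem_filter, Finset.mem_univ, true_and] at hj
      have hjC : j ∈ C K := by simp [C, hj.1]
      refine Finset.card_lt_card ⟨?_, fun hsub => ?_⟩
      · rw [hj.1.2]; exact Finset.filter_subset _ _
      · exact absurd (Finset.mem_filter.mp (hsub hjC)).2 (lt_irrefl j)
    have hposinj : ∀ j ∈ Z, ∀ j' ∈ Z, pos j = pos j' → j = j' := by
      intro j hj j' hj' he
      simp only [hZ, C, Finset.mem_filter, Finset.mem_univ, true_and] at hj hj'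
      have key : ∀ x y : Fin k, (f x).ker = K → (f y).ker = K → Function.Surjective (f x) → x < y →
          pos x < pos y := fun x y hx hy hxs hlt => by
        refine Finset.card_lt_card ⟨fun i hi => ?_, fun hsub => ?_⟩
        · rw [Finset.mem_filter] at hi ⊢
          exact ⟨by rw [hy]; rw [hx] at hi; exact hi.1, hi.2.trans hlt⟩
        · have : x ∈ (C (f y).ker).filter fun i => i < y := by
            simp [C, hy, hx, hxs, hlt]
          exact absurd (Finset.mem_filter.mp (hsub this)).2 (lt_irrefl x)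
      rcases lt_trichotomy j j' with h | h | h
      · exact absurd he (key j j' hj.1.2 hj'.1.2 hj.1.1 h).ne
      · exact h
      · exact absurd he.symm (key j' j hj'.1.2 hj.1.2 hj'.1.1 h).ne
    have hmod : ∀ j ∈ Z, pos j % Fintype.card S = pos j0 % Fintype.card S := fun j hj => by
      have := hval j hj j0 hj0
      simpa [u] using this
    have hCpos : 0 < (C K).card := (Nat.zero_le _).trans_lt (hposlt j0 hj0)
    have : Z.card ≤ ((C K).card - 1) / 4 + 1 := by
      rw [← Finset.card_range (((C K).card - 1) / 4 + 1)]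
      refine Finset.card_le_card_of_injOn (fun j => pos j / Fintype.card S) (fun j hj => ?_) ?_
      · have h1 := hposlt j hj
        rw [Finset.mem_coe, Finset.mem_range, Nat.lt_add_one_iff]
        calc pos j / Fintype.card S ≤ pos j / 4 := Nat.div_le_div_left hs4 (by omega)
          _ ≤ ((C K).card - 1) / 4 := Nat.div_le_div_right (by omega)
      · intro j hj j' hj' he
        have he' : pos j / Fintype.card S = pos j' / Fintype.card S := he
        apply hposinj j hj j' hj'
        rw [← Nat.div_add_mod (pos j) (Fintype.card S), ← Nat.div_add_mod (pos j') (Fintype.card S),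
          he', hmod j hj, hmod j' hj']
    omega
  have hsum : nsupp (ν * a) = ∑ K ∈ 𝒦, ((C K).filter fun j => (ν * a) j = 1).card := by
    rw [nsupp, Nat.card_eq_fintype_card, Fintype.card_subtype,
      Finset.card_eq_sum_card_fiberwise (f := fun j => (f j).ker) (t := 𝒦)]
    · refine Finset.sum_congr rfl fun K _ => ?_
      congr 1
      ext j
      simp only [C, Finset.mem_filter, Finset.mem_univ, true_and]
      exact ⟨fun h => ⟨⟨hz j h.1, h.2⟩, h.1⟩, fun h => ⟨h.2, h.1.2⟩⟩
    · intro j hj
      simp only [Finset.mem_coe, Finset.mem_filter, Finset.mem_univ, true_and] at hj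
      exact Finset.mem_image.mpr ⟨j, by simp [hz j hj], rfl⟩
  have hCk : ∑ K ∈ 𝒦, (C K).card ≤ k := by
    rw [← Finset.card_biUnion]
    · exact (Finset.card_le_univ _).trans (Fintype.card_fin k).le
    · intro K _ K' _ hne
      simp only [Function.onFun, Finset.disjoint_left, C, Finset.mem_filter]
      rintro j ⟨-, -, rfl⟩ ⟨-, -, h⟩
      exact hne h
  calc 4 * nsupp (ν * a) = ∑ K ∈ 𝒦, 4 * ((C K).filter fun j => (ν * a) j = 1).card := by
        rw [hsum, Finset.mul_sum]
    _ ≤ ∑ K ∈ 𝒦, ((C K).card + 3) := Finset.sum_le_sum hclass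
    _ = (∑ K ∈ 𝒦, (C K).card) + 3 * 𝒦.card := by
        rw [Finset.sum_add_distrib, Finset.sum_const, smul_eq_mul, mul_comm]
    _ ≤ k + 3 * cl A := by omega

end CfsgLib.Classical22.PowerSimple
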