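import Mathlib.GroupTheory.GroupAction.Primitive
import Mathlib.GroupTheory.GroupAction.Quotient
import Mathlib.GroupTheory.PGroup
import Mathlib.GroupTheory.QuotientGroup.Finite
import Mathlib.GroupTheory.Perm.Basic
import Mathlib.Data.Nat.Log
import Cfsg.Agent.Lib.Classical22.PowerSimple
import Cfsg.Agent.Lib.Classical22.CharSimple

/-!
Composition length of a permutation group of degree `n` with `r` orbits: at most `4(n-r)/3`.
No classification is used.
-/

set_option autoImplicit false

namespace CfsgLib.Classical22.CompLengthBound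

open CfsgLib.Classical22.CompLength CfsgLib.Classical22.PowerSimple

universe u v

/-- The points of `R` lie in different orbits. -/
def Sep (G : Type*) {Ω : Type*} [Group G] [MulAction G Ω] (R : Finset Ω) : Prop :=
  ∀ x ∈ R, ∀ y ∈ R, ∀ g : G, g • x = y → x = y

/-- The bound in all degrees below `n`. -/
def Below (n : ℕ) : Prop :=
  ∀ (G : Type u) [Group G] [Finite G] (Ω : Type v) [Finite Ω] [MulAction G Ω] [FaithfulSMul G Ω],
    Nat.card Ω < n → ∀ R : Finset Ω, Sep G R → 3 * cl G + 4 * R.card ≤ 4 * Nat.card Ω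

variable {G : Type u} [Group G] {Ω : Type v} [MulAction G Ω]

/-- Restriction of an action to an invariant set. -/
@[reducible] def subAct (H : Subgroup G) (p : Set Ω) (hp : ∀ h ∈ H, ∀ x ∈ p, h • x ∈ p) :
    MulAction H p where
  smul h x := ⟨(h : G) • (x : Ω), hp _ h.2 _ x.2⟩
  one_smul x := Subtype.ext (one_smul G (x : Ω))
  mul_smul g h x := Subtype.ext (mul_smul (g : G) (h : G) (x : Ω))

theorem cl_range_le {P : Type*} [Group P] [Finite G] [Finite P] (f : G →* P) :
    cl f.range ≤ cl (G ⧸ f.ker) :=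
  cl_le_of_equiv (QuotientGroup.quotientKerEquivRange f).symm

variable [Finite G] [Finite Ω] [FaithfulSMul G Ω]

theorem bound_intransitive {n : ℕ} (IH : Below.{u, v} n) (hn : Nat.card Ω ≤ n)
    (htr : ¬ MulAction.IsPretransitive G Ω) (R : Finset Ω) (hR : Sep G R) :
    3 * cl G + 4 * R.card ≤ 4 * Nat.card Ω := by
  classical
  obtain ⟨a, b, hab⟩ : ∃ a b : Ω, ∀ g : G, g • a ≠ b := by
    by_contra h
    push_neg at h
    exact htr ⟨h⟩
  let O : Set Ω := MulAction.orbit G a
  have hbO : b ∈ Oᶜ := fun ⟨g, hg⟩ => hab g hg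
  let f : G →* Equiv.Perm O := MulAction.toPermHom G O
  have hf : ∀ g ∈ f.ker, ∀ x ∈ O, g • x = x := fun g hg x hx =>
    congrArg Subtype.val (Equiv.congr_fun (MonoidHom.mem_ker.mp hg) ⟨x, hx⟩)
  letI : MulAction f.ker (Oᶜ : Set Ω) := subAct f.ker Oᶜ fun h _ x hx hmem => hx (by
    obtain ⟨g, hg⟩ := hmem
    refine ⟨h⁻¹ * g, ?_⟩
    have hg' : g • a = h • x := hg
    show (h⁻¹ * g) • a = x
    rw [mul_smul, hg', inv_smul_smul])
  haveI : FaithfulSMul f.ker (Oᶜ : Set Ω) := ⟨fun {g h} hgh => by
    refine Subtype.ext (eq_of_smul_eq_smul (α := Ω) fun x => ?_)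
    by_cases hx : x ∈ O
    · rw [hf _ g.2 x hx, hf _ h.2 x hx]
    · exact congrArg Subtype.val (hgh ⟨x, hx⟩)⟩
  letI : MulAction (G ⧸ f.ker) O := MulAction.compHom O (QuotientGroup.kerLift f)
  haveI : FaithfulSMul (G ⧸ f.ker) O := ⟨fun {g h} hgh =>
    QuotientGroup.kerLift_injective f (Equiv.ext hgh)⟩
  have hcard : Nat.card O + Nat.card (Oᶜ : Set Ω) = Nat.card Ω := by
    rw [Nat.card_coe_set_eq, Nat.card_coe_set_eq, Set.ncard_add_ncard_compl]
  have hO : 0 < Nat.card O := Nat.card_pos_iff.mpr ⟨⟨⟨a, MulAction.mem_orbit_self a⟩⟩, inferInstance⟩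
  have hOc : 0 < Nat.card (Oᶜ : Set Ω) := Nat.card_pos_iff.mpr ⟨⟨⟨b, hbO⟩⟩, inferInstance⟩
  have h1 := IH (G ⧸ f.ker) O (by omega) {⟨a, MulAction.mem_orbit_self a⟩}
    (fun x hx y hy _ _ => (Finset.mem_singleton.mp hx).trans (Finset.mem_singleton.mp hy).symm)
  have h2 := IH f.ker (Oᶜ : Set Ω) (by omega) (R.subtype (· ∈ Oᶜ))
    (fun x hx y hy g hg => Subtype.ext (hR x.1 (Finset.mem_subtype.mp hx) y.1
      (Finset.mem_subtype.mp hy) g.1 (congrArg Subtype.val hg)))
  have hRcard : R.card ≤ (R.subtype (· ∈ Oᶜ)).card + 1 := by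
    rw [Finset.card_subtype]
    have hsplit := Finset.card_filter_add_card_filter_not (s := R) (fun x => x ∈ Oᶜ)
    have : (R.filter fun x => ¬ x ∈ Oᶜ).card ≤ 1 := Finset.card_le_one.mpr fun x hx y hy => by
      rw [Finset.mem_filter, Set.notMem_compl_iff] at hx hy
      obtain ⟨g, hg⟩ := hx.2
      obtain ⟨h, hh⟩ := hy.2
      refine hR x hx.1 y hy.1 (h * g⁻¹) ?_
      rw [mul_smul, ← hg, inv_smul_smul]
      exact hh
    omega
  have h3 := cl_le_add f
  have h4 := cl_range_le f
  simp only [Finset.card_singleton] at h1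
  omega

theorem exists_proper_over_stabilizer [MulAction.IsPretransitive G Ω] [Nontrivial Ω] (a : Ω)
    (hnp : ¬ MulAction.IsPreprimitive G Ω) :
    ∃ M : Subgroup G, MulAction.stabilizer G a < M ∧ M ≠ ⊤ := by
  have h : ¬ IsCoatom (MulAction.stabilizer G a) := fun h =>
    hnp ((MulAction.isCoatom_stabilizer_iff_preprimitive G a).mp h)
  have hne : MulAction.stabilizer G a ≠ ⊤ := by
    intro htop
    obtain ⟨b, hb⟩ := exists_ne a
    obtain ⟨g, hg⟩ := MulAction.exists_smul_eq G a b
    have : g ∈ MulAction.stabilizer G a := htop ▸ Subgroup.mem_top g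
    exact hb (hg.symm.trans this)
  by_contra hcon
  push_neg at hcon
  exact h ⟨hne, hcon⟩

theorem bound_imprimitive {n : ℕ} (IH : Below.{u, v} n) (hIHu : Below.{u, u} n)
    (hn : Nat.card Ω ≤ n) [MulAction.IsPretransitive G Ω] [Nontrivial Ω]
    (hnp : ¬ MulAction.IsPreprimitive G Ω) : 3 * cl G + 4 ≤ 4 * Nat.card Ω := by
  classical
  haveI : Nonempty Ω := inferInstance
  obtain ⟨a⟩ := ‹Nonempty Ω›
  obtain ⟨M, hM, hMtop⟩ := exists_proper_over_stabilizer a hnp
  have hindex : Nat.card (G ⧸ M) < Nat.card Ω := by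
    rw [← Subgroup.index_eq_card, ← MulAction.index_stabilizer_of_transitive G a]
    exact Subgroup.index_strictAnti hM
  let f : G →* Equiv.Perm (G ⧸ M) := MulAction.toPermHom G (G ⧸ M)
  letI : MulAction (G ⧸ f.ker) (G ⧸ M) := MulAction.compHom (G ⧸ M) (QuotientGroup.kerLift f)
  haveI : FaithfulSMul (G ⧸ f.ker) (G ⧸ M) := ⟨fun {g h} hgh =>
    QuotientGroup.kerLift_injective f (Equiv.ext hgh)⟩
  have hKnt : ¬ MulAction.IsPretransitive f.ker Ω := by
    intro hK
    apply hMtop
    rw [eq_top_iff]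
    intro g _
    obtain ⟨k, hk⟩ := MulAction.exists_smul_eq f.ker a (g • a)
    have hkM : (k : G) ∈ M := by
      have h1 : (k : G) • ((1 : G) : G ⧸ M) = ((1 : G) : G ⧸ M) :=
        Equiv.congr_fun (MonoidHom.mem_ker.mp k.2) ((1 : G) : G ⧸ M)
      have h2 : (k : G) ∈ MulAction.stabilizer G ((1 : G) : G ⧸ M) := h1
      rwa [MulAction.stabilizer_quotient] at h2
    have hgk : (k : G)⁻¹ * g ∈ MulAction.stabilizer G a := by
      rw [MulAction.mem_stabilizer_iff, mul_smul, ← hk]
      exact inv_smul_smul _ _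
    have := M.mul_mem hkM (hM.le hgk)
    rwa [mul_inv_cancel_left] at this
  haveI : Fintype (G ⧸ M) := Fintype.ofFinite _
  let R : Finset Ω := Finset.univ.image fun q : G ⧸ M => q.out • a
  have hout : ∀ q q' : G ⧸ M, ∀ k ∈ f.ker, k • q.out • a = q'.out • a → q = q' := by
    intro q q' k hk h
    have hmem : q'.out⁻¹ * (k * q.out) ∈ M := hM.le (by
      rw [MulAction.mem_stabilizer_iff, mul_smul, mul_smul, h, inv_smul_smul])
    rw [← QuotientGroup.eq] at hmem
    rw [QuotientGroup.out_eq'] at hmem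
    have h1 : k • q = q := Equiv.congr_fun (MonoidHom.mem_ker.mp hk) q
    conv_lhs => rw [← h1, ← QuotientGroup.out_eq' q, MulAction.Quotient.smul_coe, smul_eq_mul]
    exact hmem.symm
  have hRsep : Sep f.ker R := by
    intro x hx y hy k hk
    simp only [R, Finset.mem_image, Finset.mem_univ, true_and] at hx hy
    obtain ⟨q, rfl⟩ := hx
    obtain ⟨q', rfl⟩ := hy
    rw [hout q q' k.1 k.2 hk]
  have hRcard : R.card = Nat.card (G ⧸ M) := by
    rw [Nat.card_eq_fintype_card, ← Finset.card_univ]
    refine Finset.card_image_of_injective _ fun q q' h => hout q q' 1 f.ker.one_mem ?_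
    rw [one_smul]
    exact h
  have h1 := bound_intransitive IH hn hKnt R hRsep
  have h2 := hIHu (G ⧸ f.ker) (G ⧸ M) (hindex.trans_le hn) {((1 : G) : G ⧸ M)}
    (fun x hx y hy _ _ => (Finset.mem_singleton.mp hx).trans (Finset.mem_singleton.mp hy).symm)
  have h3 := cl_le_add f
  have h4 := cl_range_le f
  simp only [Finset.card_singleton] at h2
  omega

theorem arith_abelian {p d : ℕ} (hp : p.Prime) (hd : 1 ≤ d) :
    3 * (d + d * Nat.log 2 (p ^ d - 1)) + 4 ≤ 4 * p ^ d := by
  set q := p ^ d
  set e := Nat.log 2 (q - 1) with he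
  have h2 : 2 ^ d ≤ q := Nat.pow_le_pow_left hp.two_le d
  have hq : 2 ≤ q := le_trans (by simpa using Nat.pow_le_pow_right (show 1 ≤ 2 by norm_num) hd) h2
  have he1 : 2 ^ e ≤ q - 1 := Nat.pow_log_le_self 2 (by omega)
  have he2 : q - 1 < 2 ^ (e + 1) := Nat.lt_pow_succ_log_self (by norm_num) _
  have hde : d ≤ e + 1 := by
    have : 2 ^ d ≤ 2 ^ (e + 1) := h2.trans (by omega)
    exact (Nat.pow_le_pow_iff_right (by norm_num)).mp this
  by_cases h5 : 5 ≤ e
  · have hbig : ∀ m, 5 ≤ m → 3 * ((m + 1) * (m + 1)) ≤ 4 * 2 ^ m := by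
      intro m hm
      induction m, hm using Nat.le_induction with
      | base => norm_num
      | succ k hk ih =>
        rw [pow_succ]
        nlinarith [Nat.mul_le_mul hk hk]
    have := hbig e h5
    have h6 : d * (e + 1) ≤ (e + 1) * (e + 1) := Nat.mul_le_mul_right _ hde
    have h7 : d + d * e = d * (e + 1) := by ring
    omega
  · have hqs : q ≤ 32 := by
      have : (2 : ℕ) ^ (e + 1) ≤ 2 ^ 5 := Nat.pow_le_pow_right (by norm_num) (by omega)
      omega
    have hd5 : d ≤ 5 := by omega
    have hp32 : p ≤ 32 := le_trans (Nat.le_self_pow (by omega) p) hqs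
    have hp2 := hp.two_le
    have key : ∀ d' ∈ Finset.Icc 1 5, ∀ p' ∈ Finset.Icc 2 32, Nat.Prime p' → p' ^ d' ≤ 32 →
        ∀ e' ∈ Finset.range 5, 2 ^ e' ≤ p' ^ d' - 1 →
          3 * (d' + d' * e') + 4 ≤ 4 * p' ^ d' := by decide
    exact key d (Finset.mem_Icc.mpr ⟨hd, hd5⟩) p (Finset.mem_Icc.mpr ⟨hp2, hp32⟩) hp hqs e
      (Finset.mem_range.mpr (by omega)) he1

theorem bound_abelian (N : Subgroup G) [N.Normal]
    (hNmin : ∀ K : Subgroup G, K.Normal → K ≤ N → K = ⊥ ∨ K = N) (hN : N ≠ ⊥)
    (htr : ∀ x y : Ω, ∃ g ∈ N, g • x = y)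
    (hcomm : ∀ x ∈ N, ∀ y ∈ N, x * y = y * x) (a : Ω) :
    3 * cl G + 4 ≤ 4 * Nat.card Ω := by
  classical
  have hreg : ∀ ν ∈ N, ∀ μ ∈ N, ν • a = μ • a → ν = μ := by
    intro ν hν μ hμ h
    refine eq_of_smul_eq_smul (α := Ω) fun x => ?_
    obtain ⟨g, hg, rfl⟩ := htr a x
    rw [← mul_smul, ← mul_smul, hcomm ν hν g hg, hcomm μ hμ g hg, mul_smul, mul_smul, h]
  -- an elementary abelian group
  obtain ⟨x0, hx0, hx0ne⟩ := (Subgroup.bot_or_exists_ne_one N).resolve_left hN
  obtain ⟨p, hp, hpdvd⟩ := Nat.exists_prime_and_dvd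
    (show Nat.card N ≠ 1 from fun h => hN (Subgroup.card_eq_one.mp h))
  haveI : Fact p.Prime := ⟨hp⟩
  let E : Subgroup G :=
    { carrier := {x | x ∈ N ∧ x ^ p = 1}
      one_mem' := ⟨N.one_mem, one_pow p⟩
      mul_mem' := fun {x y} hx hy => ⟨N.mul_mem hx.1 hy.1, by
        rw [(show Commute x y from hcomm x hx.1 y hy.1).mul_pow, hx.2, hy.2, one_mul]⟩
      inv_mem' := fun {x} hx => ⟨N.inv_mem hx.1, by rw [inv_pow, hx.2, inv_one]⟩ }
  have hEn : E.Normal := ⟨fun x hx g => ⟨(inferInstance : N.Normal).conj_mem x hx.1 g, by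
    rw [conj_pow, hx.2, mul_one, mul_inv_cancel]⟩⟩
  have hEN : E = N := (hNmin E hEn fun x hx => hx.1).resolve_left fun hE => by
    obtain ⟨z, hz⟩ := exists_prime_orderOf_dvd_card' (G := N) p hpdvd
    have hzE : (z : G) ∈ E := ⟨z.2, by rw [← SubgroupClass.coe_pow, ← hz, pow_orderOf_eq_one]; rfl⟩
    rw [hE, Subgroup.mem_bot, OneMemClass.coe_eq_one] at hzE
    rw [hzE, orderOf_one] at hz
    exact hp.ne_one hz.symm
  have hpgroup : IsPGroup p N := fun x => ⟨1, Subtype.ext (by
    have : (x : G) ∈ E := hEN.symm ▸ x.2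
    simpa using this.2)⟩
  obtain ⟨d, hd⟩ := IsPGroup.iff_card.mp hpgroup
  have hnN : Nat.card Ω = p ^ d := by
    rw [← hd]
    refine (Nat.card_congr (Equiv.ofBijective (fun ν : N => (ν : G) • a) ⟨fun ν μ h =>
      Subtype.ext (hreg _ ν.2 _ μ.2 h), fun x => ?_⟩)).symm
    obtain ⟨g, hg, hgx⟩ := htr a x
    exact ⟨⟨g, hg⟩, hgx⟩
  have hd1 : 1 ≤ d := by
    rcases d with - | d
    · exact absurd (Subgroup.card_eq_one.mp (by rw [hd, pow_zero])) hN
    · omega
  set e := Nat.log 2 (p ^ d - 1)
  -- the stabilizer chain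
  have hchain : ∀ j : ℕ, ∀ (H : Subgroup G) (s : ℕ), H ≤ MulAction.stabilizer G a →
      d ≤ s + j → p ^ s ≤ Nat.card {ν : N // ∀ h ∈ H, h • (ν : G) • a = (ν : G) • a} →
      ArithmeticFunction.cardFactors (Nat.card H) ≤ j * e := by
    intro j
    induction j with
    | zero =>
      intro H s hH hs hF
      have hall : ∀ ν : N, ∀ h ∈ H, h • (ν : G) • a = (ν : G) • a := by
        intro ν
        by_contra hν
        have hlt : Nat.card {ν : N // ∀ h ∈ H, h • (ν : G) • a = (ν : G) • a} < Nat.card N := by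
          haveI : Fintype N := Fintype.ofFinite _
          rw [Nat.card_eq_fintype_card, Nat.card_eq_fintype_card]
          exact Fintype.card_subtype_lt (x := ν) hν
        have := Nat.pow_le_pow_right hp.pos (show d ≤ s by omega)
        omega
      have hbot : H = ⊥ := by
        rw [Subgroup.eq_bot_iff_forall]
        intro h hh
        refine eq_of_smul_eq_smul (α := Ω) fun x => ?_
        obtain ⟨g, hg, rfl⟩ := htr a x
        rw [one_smul]
        exact hall ⟨g, hg⟩ h hh
      rw [hbot, Subgroup.card_bot]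
      simp
    | succ j ih =>
      intro H s hH hs hF
      -- fixed elements form a subgroup
      let F : Subgroup N :=
        { carrier := {ν | ∀ h ∈ H, h • (ν : G) • a = (ν : G) • a}
          one_mem' := fun h hh => by simpa using hH hh
          mul_mem' := fun {ν μ} hν hμ h hh => by
            have hc : h * (ν : G) * h⁻¹ = ν :=
              hreg _ ((inferInstance : N.Normal).conj_mem _ ν.2 h) _ ν.2 (by
                rw [mul_smul, mul_smul, (show h⁻¹ • a = a from hH (H.inv_mem hh)), hν h hh])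
            have hh2 : h * (ν : G) = (ν : G) * h := mul_inv_eq_iff_eq_mul.mp hc
            rw [Subgroup.coe_mul, mul_smul, ← mul_smul h, hh2, mul_smul, hμ h hh]
          inv_mem' := fun {ν} hν h hh => by
            have hc : h * (ν : G) * h⁻¹ = ν :=
              hreg _ ((inferInstance : N.Normal).conj_mem _ ν.2 h) _ ν.2 (by
                rw [mul_smul, mul_smul, (show h⁻¹ • a = a from hH (H.inv_mem hh)), hν h hh])
            have hh2 : h * (ν : G) = (ν : G) * h := mul_inv_eq_iff_eq_mul.mp hc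
            have hh3 : h * (ν : G)⁻¹ = (ν : G)⁻¹ * h := (Commute.inv_right hh2).eq
            rw [Subgroup.coe_inv, ← mul_smul, hh3, mul_smul, (show h • a = a from hH hh)] }
      obtain ⟨t, ht⟩ := IsPGroup.iff_card.mp (hpgroup.to_subgroup F)
      have hFc : p ^ s ≤ p ^ t := ht ▸ hF
      have hst : s ≤ t := (Nat.pow_le_pow_iff_right hp.one_lt).mp hFc
      by_cases hFtop : d ≤ t
      · exact (ih H t hH (by omega) (ht.symm.le)).trans (Nat.mul_le_mul_right _ (Nat.le_succ j))
      · obtain ⟨v, hv⟩ : ∃ v : N, v ∉ F := by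
          by_contra h
          push_neg at h
          apply hFtop
          have : F = ⊤ := eq_top_iff.mpr fun x _ => h x
          rw [this, Nat.card_congr Subgroup.topEquiv.toEquiv, hd] at ht
          exact (Nat.pow_right_injective hp.two_le ht).le
        let H' : Subgroup G := H ⊓ MulAction.stabilizer G ((v : G) • a)
        let F' : Set N := {ν | ∀ h ∈ H', h • (ν : G) • a = (ν : G) • a}
        have hsub : (F : Set N) ⊂ F' := by
          refine ⟨fun ν hν h hh => hν h hh.1, fun hsub => hv (hsub ?_)⟩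
          exact fun h hh => hh.2
        -- `F'` is a subgroup as well, so its cardinality is a larger power of `p`
        let F'' : Subgroup N :=
          { carrier := F'
            one_mem' := fun h hh => by simpa using hH hh.1
            mul_mem' := fun {ν μ} hν hμ h hh => by
              have hc : h * (ν : G) * h⁻¹ = ν :=
                hreg _ ((inferInstance : N.Normal).conj_mem _ ν.2 h) _ ν.2 (by
                  rw [mul_smul, mul_smul, (show h⁻¹ • a = a from hH (H.inv_mem hh.1)), hν h hh])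
              have hh2 : h * (ν : G) = (ν : G) * h := mul_inv_eq_iff_eq_mul.mp hc
              rw [Subgroup.coe_mul, mul_smul, ← mul_smul h, hh2, mul_smul, hμ h hh]
            inv_mem' := fun {ν} hν h hh => by
              have hc : h * (ν : G) * h⁻¹ = ν :=
                hreg _ ((inferInstance : N.Normal).conj_mem _ ν.2 h) _ ν.2 (by
                  rw [mul_smul, mul_smul, (show h⁻¹ • a = a from hH (H.inv_mem hh.1)), hν h hh])
              have hh2 : h * (ν : G) = (ν : G) * h := mul_inv_eq_iff_eq_mul.mp hc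
              have hh3 : h * (ν : G)⁻¹ = (ν : G)⁻¹ * h := (Commute.inv_right hh2).eq
              rw [Subgroup.coe_inv, ← mul_smul, hh3, mul_smul, (show h • a = a from hH hh.1)] }
        obtain ⟨t', ht'⟩ := IsPGroup.iff_card.mp (hpgroup.to_subgroup F'')
        have htt : t < t' := by
          have : Nat.card F < Nat.card F'' := by
            show Nat.card (F : Set N) < Nat.card F'
            rw [Nat.card_coe_set_eq, Nat.card_coe_set_eq]
            exact Set.ncard_lt_ncard hsub
          rw [ht, ht'] at this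
          exact (Nat.pow_lt_pow_iff_right hp.one_lt).mp this
        have hih := ih H' t' (inf_le_left.trans hH) (by omega) ht'.symm.le
        -- the index is the length of an orbit of non-base points
        have hidx : H'.relIndex H ≤ p ^ d - 1 := by
          have h1 : H'.relIndex H = Nat.card (MulAction.orbit H ((v : G) • a)) := by
            rw [Nat.card_coe_set_eq, ← MulAction.index_stabilizer, Subgroup.relIndex]
            congr 1
            ext h
            simp [H', Subgroup.mem_subgroupOf]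
            rfl
          have h2 : MulAction.orbit H ((v : G) • a) ⊆ {a}ᶜ := by
            rintro _ ⟨h, rfl⟩ hcon
            have hva : (v : G) • a = a := by
              have hcon' : (h : G) • (v : G) • a = a := hcon
              calc (v : G) • a = (h : G)⁻¹ • (h : G) • (v : G) • a := (inv_smul_smul _ _).symm
                _ = (h : G)⁻¹ • a := by rw [hcon']
                _ = a := hH (H.inv_mem h.2)
            apply hv
            have hv1 : (v : G) = 1 := hreg _ v.2 _ N.one_mem (by rw [hva, one_smul])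
            have : v = 1 := Subtype.ext hv1
            rw [this]
            exact F.one_mem
          rw [h1, Nat.card_coe_set_eq]
          refine (Set.ncard_le_ncard h2).trans ?_
          rw [Set.ncard_compl, Set.ncard_singleton, hnN]
        have hmul := Subgroup.relIndex_mul_relIndex ⊥ H' H bot_le inf_le_left
        rw [Subgroup.relIndex_bot_left, Subgroup.relIndex_bot_left] at hmul
        have hi0 : H'.relIndex H ≠ 0 := by
          intro h0
          rw [h0, mul_zero] at hmul
          exact (Nat.card_pos (α := H)).ne hmul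
        rw [← hmul, ArithmeticFunction.cardFactors_mul Nat.card_pos.ne' hi0, Nat.succ_mul]
        refine Nat.add_le_add hih ?_
        refine Nat.le_log_of_pow_le (by norm_num) ?_
        refine le_trans ?_ hidx
        generalize H'.relIndex H = x at hi0
        induction x using Nat.recOnMul with
        | zero => exact absurd rfl hi0
        | one => simp
        | prime q hq => rw [ArithmeticFunction.cardFactors_apply_prime hq, pow_one]; exact hq.two_le
        | mul x y hx hy =>
          rw [mul_ne_zero_iff] at hi0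
          rw [ArithmeticFunction.cardFactors_mul hi0.1 hi0.2, pow_add]
          exact Nat.mul_le_mul (hx hi0.1) (hy hi0.2)
  have hstab := hchain d (MulAction.stabilizer G a) 0 le_rfl (by omega) (by
    rw [pow_zero]
    exact Nat.card_pos_iff.mpr ⟨⟨⟨1, fun h hh => by simpa using hh⟩⟩, inferInstance⟩)
  -- the quotient is an image of the stabilizer
  let g : MulAction.stabilizer G a →* G ⧸ N :=
    (QuotientGroup.mk' N).comp (MulAction.stabilizer G a).subtype
  have hg : Function.Surjective g := by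
    intro q
    obtain ⟨x, rfl⟩ := QuotientGroup.mk'_surjective N q
    obtain ⟨ν, hν, hνx⟩ := htr a (x • a)
    refine ⟨⟨ν⁻¹ * x, by rw [MulAction.mem_stabilizer_iff, mul_smul, ← hνx, inv_smul_smul]⟩, ?_⟩
    show QuotientGroup.mk' N (ν⁻¹ * x) = _
    rw [map_mul, show QuotientGroup.mk' N ν⁻¹ = 1 from
      (QuotientGroup.eq_one_iff _).mpr (N.inv_mem hν), one_mul]
  have h1 := cl_add_le g hg
  have h2 := cl_le_cardFactors (G := MulAction.stabilizer G a)
  have h3 := cl_le_add (QuotientGroup.mk' N)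
  have h4 : cl (QuotientGroup.mk' N).ker ≤ d := by
    rw [QuotientGroup.ker_mk']
    refine cl_le_cardFactors.trans ?_
    rw [hd, ArithmeticFunction.cardFactors_apply_prime_pow hp]
  have h5 : cl (QuotientGroup.mk' N).range ≤ cl (G ⧸ N) := by
    rw [MonoidHom.range_eq_top.mpr (QuotientGroup.mk'_surjective N), cl_congr Subgroup.topEquiv]
  have h6 : 3 * (d + d * e) + 4 ≤ 4 * p ^ d := arith_abelian hp hd1
  omega

theorem bound_nonabelian {n : ℕ} (IH : Below.{u, v} n) (hn : Nat.card Ω ≤ n)
    (N : Subgroup G) [N.Normal] (htr : ∀ x y : Ω, ∃ g ∈ N, g • x = y) (a : Ω)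
    {S : Type} [Group S] [IsSimpleGroup S] {k : ℕ} (hk : 1 ≤ k) (ψ : N ≃* (Fin k → S))
    (hS : ¬ ∀ x y : S, x * y = y * x) :
    3 * cl G + 4 ≤ 4 * Nat.card Ω := by
  classical
  haveI : Finite (Fin k → S) := Finite.of_equiv N ψ.toEquiv
  haveI : Finite S := Finite.of_injective (fun s : S => fun _ : Fin k => s)
    fun s t h => congrFun h ⟨0, hk⟩
  have h4 : 4 ≤ Nat.card S := by
    by_contra hlt
    apply hS
    intro x y
    have h1 : 1 < Nat.card S := Finite.one_lt_card
    haveI : IsCyclic S := by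
      rcases (show Nat.card S = 2 ∨ Nat.card S = 3 by omega) with h | h
      · haveI : Fact (Nat.Prime 2) := ⟨Nat.prime_two⟩
        exact isCyclic_of_prime_card h
      · haveI : Fact (Nat.Prime 3) := ⟨Nat.prime_three⟩
        exact isCyclic_of_prime_card h
    obtain ⟨g, hg⟩ := IsCyclic.exists_generator (α := S)
    obtain ⟨i, rfl⟩ := hg x
    obtain ⟨j, rfl⟩ := hg y
    rw [← zpow_add, ← zpow_add, add_comm]
  set H := MulAction.stabilizer G a with hH
  let A : Subgroup (Fin k → S) := (H.subgroupOf N).map ψ.toMonoidHom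
  obtain ⟨ν₀, hν₀⟩ := exists_coset_large_supp hS h4 A
  -- the invariant of a point
  have hex : ∀ x : Ω, ∃ m, ∃ ν : N, (ν : G) • a = x ∧ supp (ψ ν) = m := fun x => by
    obtain ⟨g, hg, hgx⟩ := htr a x
    exact ⟨_, ⟨g, hg⟩, hgx, rfl⟩
  let inv : Ω → ℕ := fun x => Nat.find (hex x)
  have hinv_le : ∀ ν : N, inv ((ν : G) • a) ≤ supp (ψ ν) := fun ν =>
    Nat.find_min' (hex _) ⟨ν, rfl, rfl⟩
  have hinv_H : ∀ h ∈ H, ∀ x, inv (h • x) ≤ inv x := by
    intro h hh x
    obtain ⟨ν, hν, hνs⟩ := Nat.find_spec (hex x)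
    let θ : MulAut (Fin k → S) :=
      (ψ.symm.trans (MulAut.conjNormal (H := N) h)).trans ψ
    let ν' : N := MulAut.conjNormal (H := N) h ν
    have hψ : ψ ν' = θ (ψ ν) := by simp [θ, ν']
    have hsm : (ν' : G) • a = h • x := by
      simp only [ν', MulAut.conjNormal_apply]
      rw [mul_smul, mul_smul, (show h⁻¹ • a = a from H.inv_mem hh), hν]
    calc inv (h • x) ≤ supp (ψ ν') := hsm ▸ hinv_le ν'
      _ = supp (ψ ν) := by rw [hψ, supp_mulAut hS]
      _ = inv x := hνs
  have hinv_single : ∀ (i : Fin k) (s : S) (ν : N),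
      inv ((ψ.symm (Pi.mulSingle i s * ψ ν) : G) • a) ≤ inv ((ν : G) • a) + 1 := by
    intro i s ν
    obtain ⟨μ, hμ, hμs⟩ := Nat.find_spec (hex ((ν : G) • a))
    have h1 : (ψ.symm (Pi.mulSingle i s * ψ ν) : G) • a =
        ((ψ.symm (Pi.mulSingle i s) * μ : N) : G) • a := by
      rw [map_mul, MulEquiv.symm_apply_apply, Subgroup.coe_mul, Subgroup.coe_mul, mul_smul,
        mul_smul, hμ]
    rw [h1]
    refine (hinv_le _).trans ?_
    rw [map_mul, MulEquiv.apply_symm_apply]
    exact (supp_mulSingle_mul_le i s _).trans (Nat.succ_le_succ hμs.le)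
  let trunc : ℕ → N := fun j => ψ.symm fun i => if j ≤ i.1 then ν₀ i else 1
  have htrunc0 : trunc 0 = ψ.symm ν₀ := by simp [trunc]
  have htrunck : inv ((trunc k : G) • a) = 0 := by
    refine Nat.le_zero.mp ((hinv_le _).trans (le_of_eq ?_))
    have : (fun i : Fin k => if k ≤ i.1 then ν₀ i else (1 : S)) = 1 :=
      funext fun i => if_neg (Nat.not_le.mpr i.2)
    rw [show trunc k = ψ.symm 1 from congrArg ψ.symm this, MulEquiv.apply_symm_apply, supp_one]
  have hstep : ∀ j < k, inv ((trunc j : G) • a) ≤ inv ((trunc (j + 1) : G) • a) + 1 := by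
    intro j hj
    have : trunc j = ψ.symm (Pi.mulSingle ⟨j, hj⟩ (ν₀ ⟨j, hj⟩) * ψ (trunc (j + 1))) := by
      refine congrArg ψ.symm (funext fun i => ?_)
      simp only [Pi.mul_apply, trunc, MulEquiv.apply_symm_apply]
      by_cases hi : i = ⟨j, hj⟩
      · subst hi; simp
      · rw [Pi.mulSingle_eq_of_ne hi, one_mul]
        have : i.1 ≠ j := fun h => hi (Fin.ext h)
        by_cases h2 : j ≤ i.1
        · rw [if_pos h2, if_pos (by omega)]
        · rw [if_neg h2, if_neg (by omega)]
    rw [this]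
    exact hinv_single _ _ _
  set M := inv ((trunc 0 : G) • a) with hM
  have hbigM : 3 * k ≤ 4 * M + 3 * cl A := by
    obtain ⟨ν, hν, hνs⟩ := Nat.find_spec (hex ((trunc 0 : G) • a))
    have hνs' : supp (ψ ν) = M := hνs
    have hmem : ν₀⁻¹ * ψ ν ∈ A := by
      refine ⟨(trunc 0)⁻¹ * ν, ?_, ?_⟩
      · show (((trunc 0)⁻¹ * ν : N) : G) ∈ H
        rw [Subgroup.coe_mul, Subgroup.coe_inv, hH, MulAction.mem_stabilizer_iff, mul_smul, hν,
          inv_smul_smul]
      · show ψ ((trunc 0)⁻¹ * ν) = _
        rw [map_mul, map_inv, htrunc0, MulEquiv.apply_symm_apply]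
    have h1 := hν₀ _ hmem
    rw [mul_inv_cancel_left] at h1
    have h2 := supp_add_nsupp (ψ ν)
    omega
  have hval : ∀ m : Fin M, ∃ x : Ω, x ≠ a ∧ inv x = m.1 + 1 := by
    intro m
    have hjex : ∃ j, inv ((trunc j : G) • a) ≤ m.1 + 1 := ⟨k, htrunck ▸ Nat.zero_le _⟩
    have hjk : Nat.find hjex ≤ k := Nat.find_min' hjex (htrunck ▸ Nat.zero_le _)
    have heq : inv ((trunc (Nat.find hjex) : G) • a) = m.1 + 1 := by
      refine le_antisymm (Nat.find_spec hjex) ?_
      rcases hfind : Nat.find hjex with - | j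
      · exact m.2.trans_le le_rfl
      · have h1 : ¬ inv ((trunc j : G) • a) ≤ m.1 + 1 := Nat.find_min hjex (by omega)
        have h2 := hstep j (by omega)
        omega
    refine ⟨_, fun h => ?_, heq⟩
    rw [h] at heq
    have h0 := hinv_le (1 : N)
    rw [OneMemClass.coe_one, one_smul, map_one, supp_one] at h0
    omega
  choose pts hpts hptsv using hval
  let p : Set Ω := {a}ᶜ
  letI : MulAction H p := subAct H p fun h hh x hx hxa => hx (by
    have hxa' : h • x = a := hxa
    calc x = h⁻¹ • h • x := (inv_smul_smul _ _).symm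
      _ = h⁻¹ • a := by rw [hxa']
      _ = a := H.inv_mem hh)
  haveI : FaithfulSMul H p := ⟨fun {g h} hgh => by
    refine Subtype.ext (eq_of_smul_eq_smul (α := Ω) fun x => ?_)
    by_cases hx : x = a
    · subst hx
      exact (show (g : G) • x = x from g.2).trans (show (h : G) • x = x from h.2).symm
    · exact congrArg Subtype.val (hgh ⟨x, hx⟩)⟩
  have hpcard : Nat.card p + 1 = Nat.card Ω := by
    rw [Nat.card_coe_set_eq, add_comm, ← Set.ncard_singleton a]
    exact Set.ncard_add_ncard_compl _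
  have hR := IH H p (by omega) (Finset.univ.image fun m => (⟨pts m, hpts m⟩ : p)) (by
    intro x hx y hy h hhxy
    simp only [Finset.mem_image, Finset.mem_univ, true_and] at hx hy
    obtain ⟨m, rfl⟩ := hx
    obtain ⟨m', rfl⟩ := hy
    have he : (h : G) • pts m = pts m' := congrArg Subtype.val hhxy
    have h1 := hinv_H _ h.2 (pts m)
    have h2 := hinv_H _ (H.inv_mem h.2) (pts m')
    rw [he] at h1
    rw [← he, inv_smul_smul, he] at h2
    rw [hptsv, hptsv] at h1 h2
    have : m = m' := Fin.ext (by omega)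
    rw [this])
  rw [Finset.card_image_of_injective _ (fun m m' h => by
    have h' := congrArg inv (congrArg Subtype.val h)
    simp only [hptsv] at h'
    exact Fin.ext (by omega)), Finset.card_univ, Fintype.card_fin] at hR
  let g : H →* G ⧸ N := (QuotientGroup.mk' N).comp H.subtype
  have hg : Function.Surjective g := by
    intro q
    obtain ⟨x, rfl⟩ := QuotientGroup.mk'_surjective N q
    obtain ⟨ν, hν, hνx⟩ := htr a (x • a)
    refine ⟨⟨ν⁻¹ * x, by rw [hH, MulAction.mem_stabilizer_iff, mul_smul, ← hνx, inv_smul_smul]⟩, ?_⟩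
    show QuotientGroup.mk' N (ν⁻¹ * x) = _
    rw [map_mul, show QuotientGroup.mk' N ν⁻¹ = 1 from
      (QuotientGroup.eq_one_iff _).mpr (N.inv_mem hν), one_mul]
  have hA : cl A ≤ cl g.ker := by
    let e : g.ker ≃* (H.subgroupOf N) :=
      { toFun := fun x => ⟨⟨x.1.1, (QuotientGroup.eq_one_iff _).mp x.2⟩, x.1.2⟩
        invFun := fun y => ⟨⟨y.1.1, y.2⟩, (QuotientGroup.eq_one_iff _).mpr y.1.2⟩
        left_inv := fun _ => rfl
        right_inv := fun _ => rfl
        map_mul' := fun _ _ => rfl }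
    exact cl_le_of_equiv ((e.trans ((H.subgroupOf N).equivMapOfInjective ψ.toMonoidHom ψ.injective)).symm)
  have h1 := cl_add_le g hg
  have h3 := cl_le_add (QuotientGroup.mk' N)
  have h4' : cl (QuotientGroup.mk' N).ker ≤ k := by
    rw [QuotientGroup.ker_mk', cl_congr ψ]
    exact cl_pi_le k
  have h5 : cl (QuotientGroup.mk' N).range ≤ cl (G ⧸ N) := by
    rw [MonoidHom.range_eq_top.mpr (QuotientGroup.mk'_surjective N), cl_congr Subgroup.topEquiv]
  omega

theorem bound_primitive {n : ℕ} (IH : Below.{u, v} n) (hn : Nat.card Ω ≤ n) [Nontrivial Ω]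
    [MulAction.IsPreprimitive G Ω] : 3 * cl G + 4 ≤ 4 * Nat.card Ω := by
  classical
  obtain ⟨a, b, hab⟩ := exists_pair_ne Ω
  haveI : Nontrivial G := by
    obtain ⟨g, hg⟩ := MulAction.exists_smul_eq G a b
    exact ⟨g, 1, fun h => hab (by rw [← hg, h, one_smul])⟩
  obtain ⟨N, ⟨hNn, hN⟩, hmin⟩ :=
    (Set.toFinite {N : Subgroup G | N.Normal ∧ N ≠ ⊥}).exists_minimal ⟨⊤, inferInstance, top_ne_bot⟩
  haveI := hNn
  have hNmin : ∀ K : Subgroup G, K.Normal → K ≤ N → K = ⊥ ∨ K = N := fun K hK hle =>
    or_iff_not_imp_left.mpr fun hK0 => le_antisymm hle (hmin ⟨hK, hK0⟩ hle)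
  have htrN : MulAction.IsPretransitive N Ω := by
    refine MulAction.IsQuasiPreprimitive.isPretransitive_of_normal fun h => hN ?_
    rw [Subgroup.eq_bot_iff_forall]
    intro x hx
    refine eq_of_smul_eq_smul (α := Ω) fun y => ?_
    rw [one_smul]
    exact (h ▸ Set.mem_univ y : y ∈ MulAction.fixedPoints N Ω) ⟨x, hx⟩
  have htr : ∀ x y : Ω, ∃ g ∈ N, g • x = y := fun x y => by
    obtain ⟨g, hg⟩ := MulAction.exists_smul_eq N x y
    exact ⟨g, g.2, hg⟩
  by_cases hcomm : ∀ x ∈ N, ∀ y ∈ N, x * y = y * x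
  · exact bound_abelian N hNmin hN htr hcomm a
  haveI : Nontrivial N := (Subgroup.nontrivial_iff_ne_bot N).mpr hN
  obtain ⟨S, _, _, k, hk, ⟨ψ⟩⟩ := (CfsgLib.Classical22.charSimple_iff (G := N)).mp fun H hH => by
    haveI := hH
    rcases hNmin (H.map N.subtype) inferInstance (Subgroup.map_subtype_le H) with h | h
    · exact Or.inl ((Subgroup.map_eq_bot_iff_of_injective _ N.subtype_injective).mp h)
    · refine Or.inr (Subgroup.map_injective N.subtype_injective ?_)
      rw [h, ← MonoidHom.range_eq_map, Subgroup.range_subtype]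
  refine bound_nonabelian IH hn N htr a hk ψ fun hS => hcomm fun x hx y hy => ?_
  have := congrArg Subtype.val (ψ.injective (show ψ (⟨x, hx⟩ * ⟨y, hy⟩) = ψ (⟨y, hy⟩ * ⟨x, hx⟩) by
    rw [map_mul, map_mul]; exact funext fun i => hS _ _))
  exact this

end CfsgLib.Classical22.CompLengthBound

namespace CfsgLib.Classical22.CompLengthBound

open CfsgLib.Classical22.CompLength

universe u v

theorem bound_step {n : ℕ} (IH : Below.{u, v} n) (IHu : Below.{u, u} n) : Below.{u, v} (n + 1) := by
  intro G _ _ Ω _ _ _ hn R hR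
  classical
  by_cases htr : MulAction.IsPretransitive G Ω
  · have hR1 : R.card ≤ 1 := Finset.card_le_one.mpr fun x hx y hy => by
      obtain ⟨g, hg⟩ := MulAction.exists_smul_eq G x y
      exact hR x hx y hy g hg
    cases subsingleton_or_nontrivial Ω with
    | inl hs =>
      haveI : Subsingleton G :=
        ⟨fun g h => eq_of_smul_eq_smul (α := Ω) fun x => Subsingleton.elim _ _⟩
      rw [cl_of_subsingleton]
      have : R.card ≤ Nat.card Ω := by
        haveI : Fintype Ω := Fintype.ofFinite Ω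
        rw [Nat.card_eq_fintype_card]
        exact Finset.card_le_univ R
      omega
    | inr hnt =>
      by_cases hp : MulAction.IsPreprimitive G Ω
      · have := bound_primitive (G := G) (Ω := Ω) IH (by omega)
        omega
      · have := bound_imprimitive (G := G) (Ω := Ω) IH IHu (by omega) hp
        omega
  · exact bound_intransitive IH (by omega) htr R hR

theorem below_zero : Below.{u, v} 0 := fun _ _ _ _ _ _ _ h => absurd h (Nat.not_lt_zero _)

theorem below_same : ∀ n, Below.{u, u} n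
  | 0 => below_zero
  | n + 1 => bound_step (below_same n) (below_same n)

theorem below : ∀ n, Below.{u, v} n
  | 0 => below_zero
  | n + 1 => bound_step (below n) (below_same n)

theorem three_cl_add_le {G : Type u} [Group G] [Finite G] {Ω : Type v} [Finite Ω] [MulAction G Ω]
    [FaithfulSMul G Ω] :
    3 * cl G + 4 * Nat.card (Quotient (MulAction.orbitRel G Ω)) ≤ 4 * Nat.card Ω := by
  classical
  haveI : Fintype (Quotient (MulAction.orbitRel G Ω)) := Fintype.ofFinite _
  have h := below (Nat.card Ω + 1) G Ω (Nat.lt_succ_self _)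
    (Finset.univ.image (Quotient.out (s := MulAction.orbitRel G Ω))) (by
    intro x hx y hy g hg
    simp only [Finset.mem_image, Finset.mem_univ, true_and] at hx hy
    obtain ⟨q, rfl⟩ := hx
    obtain ⟨q', rfl⟩ := hy
    have : q = q' := by
      rw [← Quotient.out_eq q, ← Quotient.out_eq q']
      exact (Quotient.sound (show (MulAction.orbitRel G Ω) q'.out q.out from ⟨g, hg⟩)).symm
    rw [this])
  rw [Finset.card_image_of_injective _ Quotient.out_injective, Finset.card_univ] at h
  rwa [Nat.card_eq_fintype_card (α := Quotient (MulAction.orbitRel G Ω))]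

end CfsgLib.Classical22.CompLengthBound
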