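import Mathlib

set_option autoImplicit false

/-!
# Complements in subgroup lattices
-/

namespace CfsgLib.Classical22

variable {G : Type*} [Group G]

/-- A subgroup outside the only maximal overgroup of `X`, meeting `T` trivially, has a complement. -/
theorem exists_complement_of_interval [Finite G] {T X M : Subgroup G} (hTX : T ≤ X)
    (hint : ∀ Y : Subgroup G, T ≤ Y → Y ≤ X → ∃ C : Subgroup G, T ≤ C ∧ C ≤ X ∧ Y ⊔ C = X ∧ Y ⊓ C = T)
    (huniq : ∀ M' : Subgroup G, IsCoatom M' → X ≤ M' → M' = M)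
    {H : Subgroup G} (hH : ¬ H ≤ M) (hHT : H ⊓ T = ⊥) :
    ∃ C : Subgroup G, H ⊔ C = ⊤ ∧ H ⊓ C = ⊥ := by
  have hHX : H ⊔ X = ⊤ := by
    obtain h | ⟨M', hM', hle⟩ := eq_top_or_exists_le_coatom (H ⊔ X)
    · exact h
    · exact absurd (le_sup_left.trans (hle.trans (huniq M' hM' (le_sup_right.trans hle)).le)) hH
  obtain ⟨C, hTC, hCX, hsup, hinf⟩ := hint (T ⊔ H ⊓ X) le_sup_left (sup_le hTX inf_le_right)
  refine ⟨C, eq_top_iff.mpr ?_, eq_bot_iff.mpr ?_⟩
  · rw [← hHX, ← hsup]
    exact sup_le le_sup_left (sup_le (sup_le (hTC.trans le_sup_right) (inf_le_left.trans le_sup_left)) le_sup_right)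
  · rw [← hHT, ← hinf]
    exact le_inf inf_le_left (le_inf ((inf_le_inf le_rfl hCX).trans le_sup_right) inf_le_right)

/-- Complementation is invariant under conjugation. -/
theorem exists_complement_conj {H : Subgroup G} (g : G)
    (h : ∃ C : Subgroup G, H.map (MulAut.conj g).toMonoidHom ⊔ C = ⊤ ∧ H.map (MulAut.conj g).toMonoidHom ⊓ C = ⊥) :
    ∃ C : Subgroup G, H ⊔ C = ⊤ ∧ H ⊓ C = ⊥ := by
  obtain ⟨C, h1, h2⟩ := h
  set φ : G →* G := (MulAut.conj g).toMonoidHom
  have hinj : Function.Injective φ := (MulAut.conj g).injective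
  have hsurj : Function.Surjective φ := (MulAut.conj g).surjective
  refine ⟨C.comap φ, ?_, ?_⟩
  · apply Subgroup.map_injective hinj
    rw [Subgroup.map_sup, Subgroup.map_comap_eq_self_of_surjective hsurj, h1,
      Subgroup.map_top_of_surjective φ hsurj]
  · apply Subgroup.map_injective hinj
    rw [Subgroup.map_inf _ _ _ hinj, Subgroup.map_comap_eq_self_of_surjective hsurj, h2, Subgroup.map_bot]

/-- A subgroup outside the core of `M` has a conjugate outside `M`. -/
theorem exists_conj_not_le {H M : Subgroup G} (hH : ¬ H ≤ M.normalCore) :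
    ∃ g : G, ¬ H.map (MulAut.conj g).toMonoidHom ≤ M := by
  obtain ⟨h, hhH, hh⟩ := SetLike.not_le_iff_exists.mp hH
  obtain ⟨g, hg⟩ := not_forall.mp hh
  exact ⟨g, fun hle => hg (hle ⟨h, hhH, rfl⟩)⟩

end CfsgLib.Classical22
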