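/-
Stabilisers of orthogonal decompositions into small members of plus type over small fields are not maximal.
-/
import Cfsg.Agent.Lib.Classical22.OrthDecompMax

set_option autoImplicit false

namespace CfsgLib.Classical22.DecompCells

open CfsgLib.Classical CfsgLib.Classical22 OrthDecomp Cfsg
open scoped commutatorElement

set_option linter.unusedSectionVars false

variable {F : Type*} [Field F] [Fintype F] {ι : Type} [Fintype ι] [DecidableEq ι] {q : QuadraticForm F (ι → F)}
variable {t k : ℕ} {D : Fin t → Submodule F (ι → F)}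

/-- The setwise stabiliser. -/
def setStab (q : QuadraticForm F (ι → F)) (S : Set (ι → F)) : Subgroup (qAut q) where
  carrier := {g | ∀ x, x ∈ S ↔ g.1 x ∈ S}
  one_mem' := fun _ => Iff.rfl
  mul_mem' := fun {a b} ha hb x => by rw [qAut_mul_apply]; exact (hb x).trans (ha _)
  inv_mem' := fun {a} ha x => by
    refine Iff.trans ?_ (ha _).symm
    rw [qApply_inv_self]

omit [Fintype ι] [DecidableEq ι] in
theorem mem_setStab_of_maps [Finite ι] {S : Set (ι → F)} {g : qAut q} (h : ∀ x ∈ S, g.1 x ∈ S) : g ∈ setStab q S := by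
  refine fun x => ⟨h x, fun hx => ?_⟩
  obtain ⟨⟨y, hy⟩, he⟩ := Finite.injective_iff_surjective.1
    (fun a b hab => Subtype.ext (g.1.injective (congrArg Subtype.val hab)) :
      Function.Injective fun z : S => (⟨g.1 z, h z z.2⟩ : S)) ⟨g.1 x, hx⟩
  exact g.1.injective (congrArg Subtype.val he) ▸ hy

omit [Fintype F] [DecidableEq ι] in
theorem maps_of_dStab {g : qAut q} (hg : g ∈ dStab q D) :
    ∃ σ : Equiv.Perm (Fin t), ∀ i, ∀ x ∈ D i, g.1 x ∈ D (σ i) := by
  obtain ⟨σ, hσ⟩ := hg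
  exact ⟨σ, fun i x hx => hσ i ▸ Submodule.mem_map_of_mem hx⟩

omit [Fintype F] [DecidableEq ι] in
theorem eq_of_polar (hd : Data q D k) {l i : Fin t} {x y : ι → F} (hx : x ∈ D l) (hy : y ∈ D i)
    (h : QuadraticMap.polar q x y ≠ 0) : l = i :=
  by_contra fun hne => h (hd.orth l i hne x hx y hy)

omit [Fintype F] [DecidableEq ι] in
theorem eq_of_mem (hd : Data q D k) {l i : Fin t} {x : ι → F} (hl : x ∈ D l) (hi : x ∈ D i) (hx : x ≠ 0) : l = i :=
  by_contra fun hne => hx (hd.nd l x hl fun y hy => by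
    rw [QuadraticMap.polar_comm]; exact hd.orth l i hne y hy x hi)

theorem exists_between_set (hQ : PolarNondeg q) (hn : 5 ≤ Fintype.card ι) (S : Set (ι → F))
    (h1 : ∀ g ∈ dStab q D, ∀ x ∈ S, g.1 x ∈ S) (h2 : ∃ g ∈ eichGroup q, (∀ x ∈ S, g.1 x ∈ S) ∧ g ∉ dStab q D)
    (h3 : ∃ g ∈ eichGroup q, ∃ x ∈ S, g.1 x ∉ S) :
    ∃ K : Subgroup (GL ι F), Cfsg.Geo.decompositionStabilizer D ⊓ Cfsg.Geo.omegaGL ⇑q < K ∧
      K < Cfsg.Geo.omegaGL ⇑q := by
  refine exists_between_omegaGL q hQ hn (comap_decompositionStabilizer q D) (K := setStab q S ⊓ eichGroup q)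
    (lt_of_le_not_ge (fun g hg => ⟨mem_setStab_of_maps (h1 g hg.1), hg.2⟩) fun hle => ?_)
    (lt_of_le_not_ge inf_le_right fun hle => ?_)
  · obtain ⟨g, hg, hgS, hgD⟩ := h2
    exact hgD (hle ⟨mem_setStab_of_maps hgS, hg⟩).1
  · obtain ⟨g, hg, x, hx, hgx⟩ := h3
    exact hgx (((hle hg).1 x).1 hx)

/-- The vectors of value one in members. -/
def ones (q : QuadraticForm F (ι → F)) (D : Fin t → Submodule F (ι → F)) : Set (ι → F) :=
  {x | ∃ i, x ∈ D i ∧ q x = 1}

omit [Fintype F] [DecidableEq ι] in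
theorem ones_maps {g : qAut q} (hg : g ∈ dStab q D) {x : ι → F} (hx : x ∈ ones q D) : g.1 x ∈ ones q D := by
  obtain ⟨σ, hσ⟩ := maps_of_dStab hg
  obtain ⟨i, hi, h1⟩ := hx
  exact ⟨σ i, hσ i x hi, (qAut_map g x).trans h1⟩

/-- Hyperbolic pairs in all members. -/
structure Planes (q : QuadraticForm F (ι → F)) (D : Fin t → Submodule F (ι → F)) where
  data : Data q D 2
  e : Fin t → (ι → F)
  f : Fin t → (ι → F)
  he : ∀ i, e i ∈ D i
  hf : ∀ i, f i ∈ D i
  qe : ∀ i, q (e i) = 0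
  qf : ∀ i, q (f i) = 0
  ef : ∀ i, QuadraticMap.polar q (e i) (f i) = 1

omit [Fintype F] [DecidableEq ι] in
theorem exists_planes (hd : Data q D 2) (hplus : ∀ i, Cfsg.Geo.IsPlusTypeOn ⇑q (D i)) : Nonempty (Planes q D) := by
  have h : ∀ i, ∃ e f, e ∈ D i ∧ f ∈ D i ∧ q e = 0 ∧ q f = 0 ∧ QuadraticMap.polar q e f = 1 := fun i => by
    obtain ⟨U, hUW, hUs, hUd⟩ := hplus i
    obtain ⟨e, heU, he0⟩ := Submodule.exists_mem_ne_zero_of_ne_bot (p := U) fun h => by
      rw [h, finrank_bot, hd.dim] at hUd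
      omega
    obtain ⟨f, hf, hQf, hef⟩ := exists_partner q (hd.nd i) (hUW heU) he0 (hUs e heU)
    exact ⟨e, f, hUW heU, hf, hUs e heU, hQf, hef⟩
  choose e f he hf qe qf ef using h
  exact ⟨⟨hd, e, f, he, hf, qe, qf, ef⟩⟩

namespace Planes

variable (P : Planes q D)
include P

omit [Fintype F] [DecidableEq ι] in
theorem ee (i : Fin t) : QuadraticMap.polar q (P.e i) (P.e i) = 0 := by rw [quad_polar_self, P.qe, mul_zero]

omit [Fintype F] [DecidableEq ι] in
theorem ff (i : Fin t) : QuadraticMap.polar q (P.f i) (P.f i) = 0 := by rw [quad_polar_self, P.qf, mul_zero]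

omit [Fintype F] [DecidableEq ι] in
theorem fe (i : Fin t) : QuadraticMap.polar q (P.f i) (P.e i) = 1 := by rw [QuadraticMap.polar_comm, P.ef]

omit [Fintype F] [DecidableEq ι] in
theorem coords (i : Fin t) {x : ι → F} (hx : x ∈ D i) : ∃ α β : F, x = α • P.e i + β • P.f i := by
  have hind : LinearIndependent F ![P.e i, P.f i] := by
    rw [LinearIndependent.pair_iff]
    intro a b h
    have h1 := congrArg (fun z => QuadraticMap.polar q z (P.f i)) h
    have h2 := congrArg (fun z => QuadraticMap.polar q z (P.e i)) h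
    simp only [QuadraticMap.polar_add_left, QuadraticMap.polar_smul_left, P.ef, P.ff, P.ee, P.fe,
      QuadraticMap.polar_zero_left, smul_eq_mul, mul_zero, mul_one, add_zero, zero_add] at h1 h2
    exact ⟨h1, h2⟩
  have hle : Submodule.span F (Set.range ![P.e i, P.f i]) ≤ D i := by
    rw [Submodule.span_le]
    rintro _ ⟨j, rfl⟩
    fin_cases j
    · exact P.he i
    · exact P.hf i
  have hspan := Submodule.eq_of_le_of_finrank_le hle (by rw [P.data.dim, finrank_span_eq_card hind, Fintype.card_fin])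
  rw [← hspan, Matrix.range_cons, Matrix.range_cons, Matrix.range_empty, Set.union_empty, Set.singleton_union] at hx
  obtain ⟨α, β, h⟩ := Submodule.mem_span_pair.1 hx
  exact ⟨α, β, h.symm⟩

omit [Fintype F] [DecidableEq ι] in
theorem polar_coords (i : Fin t) (α β γ δ : F) :
    QuadraticMap.polar q (α • P.e i + β • P.f i) (γ • P.e i + δ • P.f i) = α * δ + β * γ := by
  simp only [QuadraticMap.polar_add_left, QuadraticMap.polar_add_right, QuadraticMap.polar_smul_left,
    QuadraticMap.polar_smul_right, P.ef, P.ee, P.ff, P.fe, smul_eq_mul, mul_zero, mul_one, add_zero, zero_add]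
  ring

omit [Fintype F] [DecidableEq ι] in
theorem q_coords (i : Fin t) (α β : F) : q (α • P.e i + β • P.f i) = α * β := by
  rw [quad_add, quad_smul, quad_smul, P.qe, P.qf, QuadraticMap.polar_smul_left, QuadraticMap.polar_smul_right, P.ef]
  simp

/-- The element `c e + c⁻¹ f`. -/
def vec (c : F) (i : Fin t) : ι → F := c • P.e i + c⁻¹ • P.f i

omit [Fintype F] [DecidableEq ι] in
theorem vec_mem (c : F) (i : Fin t) : P.vec c i ∈ D i :=
  (D i).add_mem ((D i).smul_mem _ (P.he i)) ((D i).smul_mem _ (P.hf i))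

omit [Fintype F] [DecidableEq ι] in
theorem q_vec {c : F} (hc : c ≠ 0) (i : Fin t) : q (P.vec c i) = 1 := by
  rw [vec, P.q_coords, mul_inv_cancel₀ hc]

omit [Fintype F] [DecidableEq ι] in
theorem vec_ones {c : F} (hc : c ≠ 0) (i : Fin t) : P.vec c i ∈ ones q D := ⟨i, P.vec_mem c i, P.q_vec hc i⟩

omit [Fintype F] [DecidableEq ι] in
theorem polar_vec (c d : F) (i : Fin t) : QuadraticMap.polar q (P.vec c i) (P.vec d i) = c * d⁻¹ + c⁻¹ * d :=
  P.polar_coords i _ _ _ _

omit [Fintype F] [DecidableEq ι] in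
theorem polar_vec_ne (c d : F) {i j : Fin t} (h : i ≠ j) :
    QuadraticMap.polar q (P.vec c i) (P.vec d j) = 0 :=
  P.data.orth i j h _ (P.vec_mem c i) _ (P.vec_mem d j)

omit [Fintype F] [DecidableEq ι] in
theorem eq_vec_of_ones {x : ι → F} (hx : x ∈ ones q D) : ∃ i c, c ≠ 0 ∧ x = P.vec c i := by
  obtain ⟨i, hi, h1⟩ := hx
  obtain ⟨α, β, rfl⟩ := P.coords i hi
  rw [P.q_coords] at h1
  exact ⟨i, α, fun h0 => zero_ne_one (by rw [← h1, h0, zero_mul]), by rw [vec, eq_inv_of_mul_eq_one_right h1]⟩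

end Planes

omit [Fintype ι] [DecidableEq ι] in
theorem two_eq_zero_of_card {e : ℕ} (h : Fintype.card F = 2 ^ e) : (2 : F) = 0 := by
  have h1 := FiniteField.cast_card_eq_zero F
  rw [h, Nat.cast_pow] at h1
  exact eq_zero_of_pow_eq_zero (by simpa using h1)

theorem planes_five (hQ : PolarNondeg q) (hn : 13 ≤ Fintype.card ι) (hq : Fintype.card F = 5) (ht : 4 ≤ t)
    (P : Planes q D) :
    ∃ K : Subgroup (GL ι F), Cfsg.Geo.decompositionStabilizer D ⊓ Cfsg.Geo.omegaGL ⇑q < K ∧
      K < Cfsg.Geo.omegaGL ⇑q := by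
  have h5 : (5 : F) = 0 := by
    have h := FiniteField.cast_card_eq_zero F
    rw [hq] at h
    simpa using h
  have h2 : (2 : F) ≠ 0 := fun h => one_ne_zero (α := F) (by linear_combination h5 - 2 * h)
  have hV : Module.finrank F (ι → F) = Fintype.card ι := Module.finrank_pi F
  obtain ⟨s, hsd⟩ : ∃ s : Fin t → (ι → F), ∀ i, s i = P.vec 1 i := ⟨_, fun i => rfl⟩
  have hsm : ∀ i, s i ∈ D i := fun i => hsd i ▸ P.vec_mem 1 i
  have hsq : ∀ i, q (s i) = 1 := fun i => hsd i ▸ P.q_vec one_ne_zero i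
  have hss : ∀ i j, i ≠ j → QuadraticMap.polar q (s i) (s j) = 0 := fun i j h => by
    rw [hsd, hsd]; exact P.polar_vec_ne 1 1 h
  have hsi : ∀ i, QuadraticMap.polar q (s i) (s i) = 2 := fun i => by rw [quad_polar_self, hsq, mul_one]
  have hform : ∀ x ∈ ones q D, ∃ i, ((x = s i ∨ x = -s i) ∨ (x ∈ D i ∧ ∀ j, QuadraticMap.polar q x (s j) = 0)) := by
    intro x hx
    obtain ⟨i, c, hc, rfl⟩ := P.eq_vec_of_ones hx
    have hc4 : c ^ 4 = 1 := by
      have := FiniteField.pow_card_sub_one_eq_one c hc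
      rwa [hq] at this
    refine ⟨i, ?_⟩
    rcases mul_eq_zero.1 (show (c * c - 1) * (c * c + 1) = 0 by linear_combination hc4) with h | h
    · left
      rcases mul_self_eq_one_iff.1 (sub_eq_zero.1 h) with rfl | rfl
      · exact Or.inl (hsd i).symm
      · right; rw [hsd, Planes.vec, Planes.vec]; simp; module
    · right
      refine ⟨P.vec_mem c i, fun j => ?_⟩
      rw [hsd]
      rcases eq_or_ne i j with rfl | hij
      · rw [P.polar_vec, inv_one, mul_one, mul_one]
        field_simp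
        linear_combination h
      · exact P.polar_vec_ne c 1 hij
  obtain ⟨i₀, hi₀⟩ : ∃ i : Fin t, i.val = 0 := ⟨⟨0, by omega⟩, rfl⟩
  obtain ⟨i₁, hi₁⟩ : ∃ i : Fin t, i.val = 1 := ⟨⟨1, by omega⟩, rfl⟩
  obtain ⟨i₂, hi₂⟩ : ∃ i : Fin t, i.val = 2 := ⟨⟨2, by omega⟩, rfl⟩
  obtain ⟨i₃, hi₃⟩ : ∃ i : Fin t, i.val = 3 := ⟨⟨3, by omega⟩, rfl⟩
  have n01 : i₀ ≠ i₁ := fun h => by rw [h] at hi₀; omega
  have n02 : i₀ ≠ i₂ := fun h => by rw [h] at hi₀; omega
  have n03 : i₀ ≠ i₃ := fun h => by rw [h] at hi₀; omega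
  have n12 : i₁ ≠ i₂ := fun h => by rw [h] at hi₁; omega
  have n13 : i₁ ≠ i₃ := fun h => by rw [h] at hi₁; omega
  have n23 : i₂ ≠ i₃ := fun h => by rw [h] at hi₂; omega
  refine exists_between_set hQ (by omega) (ones q D) (fun g hg x hx => ones_maps hg hx) ?_ ?_
  · have hv : ∀ a b : Fin t, a ≠ b → q (s a - s b) = 2 := fun a b h => by
      rw [quad_sub, hsq, hsq, hss a b h]; ring
    have hv0 : q (s i₀ - s i₁) ≠ 0 := by rw [hv _ _ n01]; exact h2
    have hw0 : q (s i₂ - s i₃) ≠ 0 := by rw [hv _ _ n23]; exact h2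
    obtain ⟨g, hg⟩ : ∃ g, g = qRefl q hv0 * qRefl q hw0 := ⟨_, rfl⟩
    have hgx : ∀ x, g.1 x = (qRefl q hv0).1 ((qRefl q hw0).1 x) := fun x => by rw [hg, qAut_mul_apply]
    have hge : g ∈ eichGroup q := by
      obtain ⟨h, hh⟩ := exists_conj_refl q hQ hv0 hw0 ((hv _ _ n01).trans (hv _ _ n23).symm)
      rw [eichGroup_eq_commutator q hQ (by omega), hg, ← hh, commutator_def,
        show qRefl q hv0 * (h * qRefl q hv0 * h⁻¹) = ⁅qRefl q hv0, h⁆ by
          rw [commutatorElement_def, qRefl_inv]; group]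
      exact Subgroup.commutator_mem_commutator (Subgroup.mem_top _) (Subgroup.mem_top _)
    have hfix : ∀ x, QuadraticMap.polar q x (s i₀) = 0 → QuadraticMap.polar q x (s i₁) = 0 →
        QuadraticMap.polar q x (s i₂) = 0 → QuadraticMap.polar q x (s i₃) = 0 → g.1 x = x := fun x a b c d => by
      rw [hgx, qRefl_fix q hw0 (by rw [QuadraticMap.polar_sub_right, c, d, sub_zero]),
        qRefl_fix q hv0 (by rw [QuadraticMap.polar_sub_right, a, b, sub_zero])]
    have hrefl : ∀ a b : Fin t, a ≠ b → ∀ (h : q (s a - s b) ≠ 0),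
        (qRefl q h).1 (s a) = s b ∧ (qRefl q h).1 (s b) = s a := fun a b hab h => by
      constructor <;> rw [qRefl_apply, hv a b hab, QuadraticMap.polar_sub_right, hsi]
      · rw [hss a b hab, sub_zero, inv_mul_cancel₀ h2, one_smul]; abel
      · rw [hss b a (Ne.symm hab), zero_sub, mul_neg, inv_mul_cancel₀ h2, neg_smul, one_smul]; abel
    have hfix' : ∀ a b c : Fin t, c ≠ a → c ≠ b → ∀ (h : q (s a - s b) ≠ 0), (qRefl q h).1 (s c) = s c :=
      fun a b c ca cb h => qRefl_fix q h (by rw [QuadraticMap.polar_sub_right, hss c a ca, hss c b cb, sub_zero])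
    have hgs : ∀ i, ∃ j, g.1 (s i) = s j := fun i => by
      rcases eq_or_ne i i₀ with rfl | h0
      · exact ⟨i₁, by rw [hgx, hfix' _ _ _ n02 n03, (hrefl _ _ n01 hv0).1]⟩
      rcases eq_or_ne i i₁ with rfl | h1
      · exact ⟨i₀, by rw [hgx, hfix' _ _ _ n12 n13, (hrefl _ _ n01 hv0).2]⟩
      rcases eq_or_ne i i₂ with rfl | h2'
      · exact ⟨i₃, by rw [hgx, (hrefl _ _ n23 hw0).1, hfix' _ _ _ (Ne.symm n03) (Ne.symm n13)]⟩
      rcases eq_or_ne i i₃ with rfl | h3
      · exact ⟨i₂, by rw [hgx, (hrefl _ _ n23 hw0).2, hfix' _ _ _ (Ne.symm n02) (Ne.symm n12)]⟩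
      exact ⟨i, hfix _ (hss _ _ h0) (hss _ _ h1) (hss _ _ h2') (hss _ _ h3)⟩
    refine ⟨g, hge, fun x hx => ?_, fun hD => ?_⟩
    · have hq1 : q x = 1 := by obtain ⟨_, _, h⟩ := hx; exact h
      obtain ⟨i, (rfl | rfl) | ⟨hxi, hp⟩⟩ := hform x hx
      · obtain ⟨j, hj⟩ := hgs i
        exact ⟨j, hj ▸ hsm j, (qAut_map g _).trans hq1⟩
      · obtain ⟨j, hj⟩ := hgs i
        exact ⟨j, by rw [map_neg, hj]; exact (D j).neg_mem (hsm j), (qAut_map g _).trans hq1⟩
      · rw [hfix x (hp _) (hp _) (hp _) (hp _)]; exact hx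
    · obtain ⟨σ, hσ⟩ := maps_of_dStab hD
      have h1 := hσ i₀ _ (hsm i₀)
      rw [hgx, hfix' _ _ _ n02 n03, (hrefl _ _ n01 hv0).1] at h1
      have hs' : QuadraticMap.polar q (P.vec 2 i₀) (s i₀) = 0 := by
        rw [hsd, P.polar_vec, inv_one, mul_one, mul_one]
        field_simp
        linear_combination h5
      have h2' := hσ i₀ _ (P.vec_mem 2 i₀)
      rw [hfix _ hs' (by rw [hsd]; exact P.polar_vec_ne _ _ n01) (by rw [hsd]; exact P.polar_vec_ne _ _ n02)
        (by rw [hsd]; exact P.polar_vec_ne _ _ n03)] at h2'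
      have hne : P.vec 2 i₀ ≠ 0 := fun h0 => by
        have := P.q_vec h2 i₀
        rw [h0, QuadraticMap.map_zero] at this
        exact zero_ne_one this
      have hne' : s i₁ ≠ 0 := fun h0 => by
        have := hsq i₁
        rw [h0, QuadraticMap.map_zero] at this
        exact zero_ne_one this
      exact n01 ((eq_of_mem P.data (P.vec_mem 2 i₀) h2' hne).trans (eq_of_mem P.data h1 (hsm i₁) hne'))
  · obtain ⟨a, ha⟩ : ∃ a, a = s i₀ + (2 : F) • s i₁ := ⟨_, rfl⟩
    have hQa : q a = 0 := by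
      rw [ha, quad_add, quad_smul, hsq, hsq, QuadraticMap.polar_smul_right, hss _ _ n01, smul_zero]
      linear_combination h5
    have hab : QuadraticMap.polar q a (s i₂) = 0 := by
      rw [ha, QuadraticMap.polar_add_left, QuadraticMap.polar_smul_left, hss _ _ n02, hss _ _ n12, smul_zero, add_zero]
    refine ⟨eich q a (s i₂), eich_mem q hQa hab, s i₀, ⟨i₀, hsm i₀, hsq i₀⟩, ?_⟩
    rintro ⟨l, hl, -⟩
    have hxa : QuadraticMap.polar q (s i₀) a = 2 := by
      rw [ha, QuadraticMap.polar_add_right, QuadraticMap.polar_smul_right, hss _ _ n01, smul_zero, add_zero, hsi]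
    rw [eich_apply q hQa hab, hxa, hss _ _ n02, hsq, zero_add, one_mul] at hl
    have e0 : l = i₀ := eq_of_polar P.data hl (hsm i₀) (by
      rw [ha]
      simp only [QuadraticMap.polar_sub_left, QuadraticMap.polar_add_left, QuadraticMap.polar_smul_left, hsi,
        hss _ _ (Ne.symm n01), hss _ _ (Ne.symm n02), smul_eq_mul, mul_zero, add_zero]
      exact fun h => h2 (by linear_combination -h))
    have e2 : l = i₂ := eq_of_polar P.data hl (hsm i₂) (by
      rw [ha]
      simp only [QuadraticMap.polar_sub_left, QuadraticMap.polar_add_left, QuadraticMap.polar_smul_left, hsi,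
        hss _ _ n02, hss _ _ n12, smul_eq_mul, mul_zero, add_zero, zero_add, sub_zero]
      exact mul_ne_zero h2 h2)
    exact n02 (e0.symm.trans e2)

theorem planes_char_two (hQ : PolarNondeg q) (hn : 13 ≤ Fintype.card ι) (hq : Fintype.card F = 2 ∨ Fintype.card F = 4)
    (ht : 4 ≤ t) (P : Planes q D) :
    ∃ K : Subgroup (GL ι F), Cfsg.Geo.decompositionStabilizer D ⊓ Cfsg.Geo.omegaGL ⇑q < K ∧
      K < Cfsg.Geo.omegaGL ⇑q := by
  have h2 : (2 : F) = 0 := hq.elim (fun h => two_eq_zero_of_card (e := 1) h) (fun h => two_eq_zero_of_card (e := 2) h)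
  have hV : Module.finrank F (ι → F) = Fintype.card ι := Module.finrank_pi F
  obtain ⟨s, hsd⟩ : ∃ s : Fin t → (ι → F), ∀ i, s i = P.vec 1 i := ⟨_, fun i => rfl⟩
  have hsm : ∀ i, s i ∈ D i := fun i => hsd i ▸ P.vec_mem 1 i
  have hsq : ∀ i, q (s i) = 1 := fun i => hsd i ▸ P.q_vec one_ne_zero i
  have hss : ∀ i j, QuadraticMap.polar q (s i) (s j) = 0 := fun i j => by
    rcases eq_or_ne i j with rfl | h
    · rw [quad_polar_self, h2, zero_mul]
    · rw [hsd, hsd]; exact P.polar_vec_ne 1 1 h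
  obtain ⟨i₀, hi₀⟩ : ∃ i : Fin t, i.val = 0 := ⟨⟨0, by omega⟩, rfl⟩
  obtain ⟨i₁, hi₁⟩ : ∃ i : Fin t, i.val = 1 := ⟨⟨1, by omega⟩, rfl⟩
  obtain ⟨i₂, hi₂⟩ : ∃ i : Fin t, i.val = 2 := ⟨⟨2, by omega⟩, rfl⟩
  have n01 : i₀ ≠ i₁ := fun h => by rw [h] at hi₀; omega
  have n02 : i₀ ≠ i₂ := fun h => by rw [h] at hi₀; omega
  have n12 : i₁ ≠ i₂ := fun h => by rw [h] at hi₁; omega
  obtain ⟨a, ha⟩ : ∃ a, a = s i₀ + s i₁ := ⟨_, rfl⟩
  have hQa : q a = 0 := by rw [ha, quad_add, hsq, hsq, hss]; linear_combination h2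
  have hab : QuadraticMap.polar q a (s i₂) = 0 := by rw [ha, QuadraticMap.polar_add_left, hss, hss, add_zero]
  obtain ⟨g, hg⟩ : ∃ g, g = eich q a (s i₂) := ⟨_, rfl⟩
  have hge : g ∈ eichGroup q := hg ▸ eich_mem q hQa hab
  have hgx : ∀ x, g.1 x = x + QuadraticMap.polar q x a • s i₂ -
      (QuadraticMap.polar q x (s i₂) + QuadraticMap.polar q x a) • a := fun x => by
    rw [hg, eich_apply q hQa hab, hsq, one_mul]
  have hgD : g ∉ dStab q D := fun hD => by
    obtain ⟨σ, hσ⟩ := maps_of_dStab hD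
    have h1 := hσ i₀ _ (P.he i₀)
    have hea : QuadraticMap.polar q (P.e i₀) a = 1 := by
      rw [ha, QuadraticMap.polar_add_right, P.data.orth i₀ i₁ n01 _ (P.he i₀) _ (hsm i₁), add_zero, hsd,
        Planes.vec, inv_one, one_smul, one_smul, QuadraticMap.polar_add_right, P.ee, P.ef, zero_add]
    rw [hgx, hea, P.data.orth i₀ i₂ n02 _ (P.he i₀) _ (hsm i₂), zero_add] at h1
    have hfe : ∀ i, QuadraticMap.polar q (s i) (P.e i) = 1 := fun i => by
      rw [hsd, Planes.vec, inv_one, one_smul, one_smul, QuadraticMap.polar_add_left, P.ee, P.fe, zero_add]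
    have o : ∀ i j, i ≠ j → QuadraticMap.polar q (s i) (P.e j) = 0 := fun i j h =>
      P.data.orth i j h _ (hsm i) _ (P.he j)
    have e1 : σ i₀ = i₁ := eq_of_polar P.data h1 (P.he i₁) (by
      rw [ha]
      simp only [one_smul, QuadraticMap.polar_sub_left, QuadraticMap.polar_add_left, hfe, o _ _ n01, o _ _ (Ne.symm n12),
        P.data.orth i₀ i₁ n01 _ (P.he i₀) _ (P.he i₁), zero_add, zero_sub, neg_ne_zero]
      exact one_ne_zero)
    have e2 : σ i₀ = i₂ := eq_of_polar P.data h1 (P.he i₂) (by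
      rw [ha]
      simp only [one_smul, QuadraticMap.polar_sub_left, QuadraticMap.polar_add_left, hfe, o _ _ n02, o _ _ n12,
        P.data.orth i₀ i₂ n02 _ (P.he i₀) _ (P.he i₂), zero_add, sub_zero, add_zero]
      exact one_ne_zero)
    exact n12 (e1.symm.trans e2)
  rcases hq with hq | hq
  · -- a fixed vector
    have hc1 : ∀ c : F, c ≠ 0 → c = 1 := fun c hc => by
      have := FiniteField.pow_card_sub_one_eq_one c hc
      rwa [hq, pow_one] at this
    obtain ⟨u, hu⟩ : ∃ u, u = ∑ i, s i := ⟨_, rfl⟩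
    have hus : ∀ j, QuadraticMap.polar q u (s j) = 0 := fun j => by
      rw [hu, ← QuadraticMap.polarBilin_apply_apply, map_sum, LinearMap.sum_apply]
      exact Finset.sum_eq_zero fun i _ => hss i j
    refine exists_between_set hQ (by omega) ({u} : Set (ι → F)) (fun h hh x hx => ?_)
      ⟨g, hge, fun x hx => ?_, hgD⟩ ?_
    · rw [Set.mem_singleton_iff] at hx ⊢
      subst hx
      obtain ⟨σ, hσ⟩ := maps_of_dStab hh
      rw [hu, map_sum, ← Equiv.sum_comp σ s]
      refine Finset.sum_congr rfl fun i _ => ?_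
      have h1 : h.1 (s i) ∈ ones q D := ⟨σ i, hσ i _ (hsm i), (qAut_map h _).trans (hsq i)⟩
      obtain ⟨j, c, hc, hj⟩ := P.eq_vec_of_ones h1
      rw [hc1 c hc, ← hsd] at hj
      have hne : s j ≠ 0 := fun h0 => by
        have := hsq j
        rw [h0, QuadraticMap.map_zero] at this
        exact zero_ne_one this
      rw [hj, eq_of_mem P.data (show s j ∈ D (σ i) from hj ▸ hσ i _ (hsm i)) (hsm j) hne]
    · rw [Set.mem_singleton_iff] at hx ⊢
      subst hx
      rw [hgx, ha, QuadraticMap.polar_add_right, hus, hus, hus]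
      simp
    · by_contra hc
      push Not at hc
      have hu0 : u ≠ 0 := fun h0 => by
        have h1 : QuadraticMap.polar q u (P.e i₀) = 1 := by
          rw [hu, ← QuadraticMap.polarBilin_apply_apply, map_sum, LinearMap.sum_apply, Finset.sum_eq_single i₀]
          · rw [QuadraticMap.polarBilin_apply_apply, hsd, Planes.vec, inv_one, one_smul, one_smul,
              QuadraticMap.polar_add_left, P.ee, P.fe, zero_add]
          · exact fun i _ hi => P.data.orth i i₀ hi _ (hsm i) _ (P.he i₀)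
          · simp
        rw [h0, QuadraticMap.polar_zero_left] at h1
        exact zero_ne_one h1
      have htop := eq_top_of_invariant q hQ (by omega) (W := Submodule.span F {u})
        (fun h => hu0 (Submodule.span_singleton_eq_bot.1 h)) fun h hh => mem_qStab_of_maps q fun v hv => by
          obtain ⟨r, rfl⟩ := Submodule.mem_span_singleton.1 hv
          rw [map_smul, hc h hh u rfl]
          exact Submodule.smul_mem _ _ (Submodule.mem_span_singleton_self u)
      have := finrank_span_singleton (K := F) hu0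
      rw [htop, finrank_top] at this
      omega
  · -- a lattice over the prime field
    have hc3 : ∀ c : F, c ≠ 0 → c ^ 3 = 1 := fun c hc => by
      have := FiniteField.pow_card_sub_one_eq_one c hc
      rwa [hq] at this
    obtain ⟨W, hW⟩ : ∃ W : AddSubgroup (ι → F), W = AddSubgroup.closure (ones q D) := ⟨_, rfl⟩
    have hgen : ∀ x ∈ ones q D, x ∈ W := fun x hx => hW ▸ AddSubgroup.subset_closure hx
    have hidem : ∀ {c d : F}, c * c = c → d * d = d → (c + d) * (c + d) = c + d := fun {c d} hc hd => by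
      linear_combination hc + hd + (c * d) * h2
    have hneg : ∀ {c : F}, c * c = c → (-c) * (-c) = -c := fun {c} hc => by
      linear_combination hc + c * h2
    have hpol0 : ∀ x ∈ ones q D, ∀ y ∈ ones q D,
        QuadraticMap.polar q x y * QuadraticMap.polar q x y = QuadraticMap.polar q x y := by
      intro x hx y hy
      obtain ⟨i, c, hc, rfl⟩ := P.eq_vec_of_ones hx
      obtain ⟨j, d, hd, rfl⟩ := P.eq_vec_of_ones hy
      rcases eq_or_ne i j with rfl | hij
      · rw [P.polar_vec]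
        have hc' := hc3 c hc
        have hd' := hc3 d hd
        field_simp
        linear_combination c * hc' + d * hd' + c ^ 2 * d ^ 2 * h2 - c * hd' - d * hc'
      · rw [P.polar_vec_ne c d hij, zero_mul]
    have hpol : ∀ x ∈ W, ∀ y ∈ W, QuadraticMap.polar q x y * QuadraticMap.polar q x y = QuadraticMap.polar q x y := by
      subst hW
      intro x hx y hy
      induction hx using AddSubgroup.closure_induction with
      | mem x hx =>
        induction hy using AddSubgroup.closure_induction with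
        | mem y hy => exact hpol0 x hx y hy
        | zero => rw [QuadraticMap.polar_zero_right, zero_mul]
        | add a b _ _ h h' => rw [QuadraticMap.polar_add_right]; exact hidem h h'
        | neg a _ h => rw [QuadraticMap.polar_neg_right]; exact hneg h
      | zero => rw [QuadraticMap.polar_zero_left, zero_mul]
      | add a b _ _ h h' => rw [QuadraticMap.polar_add_left]; exact hidem h h'
      | neg a _ h => rw [QuadraticMap.polar_neg_left]; exact hneg h
    have hsW : ∀ i, s i ∈ W := fun i => hgen _ ⟨i, hsm i, hsq i⟩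
    have haW : a ∈ W := ha ▸ W.add_mem (hsW _) (hsW _)
    refine exists_between_set hQ (by omega) (W : Set (ι → F)) (fun h hh x hx => ?_)
      ⟨g, hge, fun x hx => ?_, hgD⟩ ?_
    · subst hW
      rw [SetLike.mem_coe] at hx ⊢
      induction hx using AddSubgroup.closure_induction with
      | mem x hx => exact hgen _ (ones_maps hh hx)
      | zero => rw [map_zero]; exact AddSubgroup.zero_mem _
      | add a b _ _ h h' => rw [map_add]; exact AddSubgroup.add_mem _ h h'
      | neg a _ h => rw [map_neg]; exact AddSubgroup.neg_mem _ h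
    · rw [SetLike.mem_coe] at hx ⊢
      have hsm' : ∀ c : F, c * c = c → ∀ y ∈ W, c • y ∈ W := fun c hc y hy => by
        rcases mul_eq_zero.1 (show c * (c - 1) = 0 by linear_combination hc) with h | h
        · rw [h, zero_smul]; exact W.zero_mem
        · rw [sub_eq_zero.1 h, one_smul]; exact hy
      rw [hgx]
      exact W.sub_mem (W.add_mem hx (hsm' _ (hpol x hx a haW) _ (hsW _)))
        (hsm' _ (hidem (hpol x hx _ (hsW _)) (hpol x hx a haW)) _ haW)
    · obtain ⟨c, hc0, hc1⟩ : ∃ c : F, c ≠ 0 ∧ c ≠ 1 := by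
        classical
        obtain ⟨c, -, hc⟩ := Finset.exists_mem_notMem_of_card_lt_card (s := ({0, 1} : Finset F)) (t := Finset.univ)
          (by rw [Finset.card_univ, hq]; exact (Finset.card_le_two).trans_lt (by norm_num))
        simp only [Finset.mem_insert, Finset.mem_singleton, not_or] at hc
        exact ⟨c, hc⟩
      have hc' : c ^ 2 + c + 1 = 0 := by
        have : (c - 1) * (c ^ 2 + c + 1) = 0 := by linear_combination hc3 c hc0
        exact (mul_eq_zero.1 this).resolve_left (sub_ne_zero.2 hc1)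
      have hci : c⁻¹ = c ^ 2 := inv_eq_of_mul_eq_one_right (by linear_combination hc3 c hc0)
      have hxs : ∀ i, QuadraticMap.polar q (s i) (P.vec c i) = 1 := fun i => by
        rw [hsd, P.polar_vec, inv_one, one_mul, one_mul, hci]
        linear_combination hc' - h2
      have hab' : QuadraticMap.polar q a (c • s i₂) = 0 := by
        rw [QuadraticMap.polar_smul_right, hab, smul_zero]
      refine ⟨eich q a (c • s i₂), eich_mem q hQa hab', P.vec c i₀, hgen _ (P.vec_ones hc0 i₀), fun hmem => ?_⟩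
      have o : ∀ i j, i ≠ j → QuadraticMap.polar q (s i) (P.vec c j) = 0 := fun i j h =>
        P.data.orth i j h _ (hsm i) _ (P.vec_mem c j)
      have hxa : QuadraticMap.polar q (P.vec c i₀) a = 1 := by
        rw [ha, QuadraticMap.polar_comm, QuadraticMap.polar_add_left, hxs, o _ _ (Ne.symm n01), add_zero]
      have hxb : QuadraticMap.polar q (P.vec c i₀) (c • s i₂) = 0 := by
        rw [QuadraticMap.polar_smul_right, QuadraticMap.polar_comm, o _ _ (Ne.symm n02), smul_zero]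
      have h := hpol _ hmem _ (hgen _ (P.vec_ones hc0 i₂))
      rw [eich_apply q hQa hab', hxa, hxb, one_smul, ha] at h
      simp only [QuadraticMap.polar_sub_left, QuadraticMap.polar_add_left, QuadraticMap.polar_smul_left,
        P.polar_vec_ne c c n02, hxs, o _ _ n02, o _ _ n12, smul_eq_mul, mul_one, zero_add, mul_zero, sub_zero,
        add_zero] at h
      rcases mul_eq_zero.1 (show c * (c - 1) = 0 by linear_combination h) with h' | h'
      · exact hc0 h'
      · exact hc1 (sub_eq_zero.1 h')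

/-- Two orthogonal minus planes in a member of plus type and dimension four over the field of two elements. -/
theorem exists_cells (hd : Data q D 4) (h2 : (2 : F) = 0) (hplus : ∀ i, Cfsg.Geo.IsPlusTypeOn ⇑q (D i)) (i : Fin t) :
    ∃ v : Fin 4 → (ι → F), (∀ j, v j ∈ D i) ∧ (∀ j, q (v j) = 1) ∧
      (∀ a b, QuadraticMap.polar q (v a) (v b) = if (a.val / 2 = b.val / 2 ∧ a ≠ b) then 1 else 0) := by
  obtain ⟨U, hUW, hUs, hUd⟩ := hplus i
  rw [hd.dim] at hUd
  obtain ⟨e₁, he₁, he₁0⟩ := Submodule.exists_mem_ne_zero_of_ne_bot (p := U) fun h => by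
    rw [h, finrank_bot] at hUd
    omega
  obtain ⟨f₁, hf₁, qf₁, ef₁⟩ := exists_partner q (hd.nd i) (hUW he₁) he₁0 (hUs e₁ he₁)
  have hUU : ∀ x ∈ U, ∀ y ∈ U, QuadraticMap.polar q x y = 0 := fun x hx y hy => polar_zero_of_singular q hUs hx hy
  obtain ⟨y, hy, hy'⟩ := SetLike.not_le_iff_exists.1 fun h : U ≤ Submodule.span F {e₁} => by
    have := Submodule.finrank_mono h
    rw [finrank_span_singleton he₁0] at this
    omega
  obtain ⟨e₂, he₂d⟩ : ∃ e₂, e₂ = y - QuadraticMap.polar q y f₁ • e₁ := ⟨_, rfl⟩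
  have he₂ : e₂ ∈ U := he₂d ▸ U.sub_mem hy (U.smul_mem _ he₁)
  have he₂0 : e₂ ≠ 0 := fun h => hy' (Submodule.mem_span_singleton.2 ⟨_, (sub_eq_zero.1 (he₂d ▸ h)).symm⟩)
  have e21 : QuadraticMap.polar q e₂ e₁ = 0 := hUU _ he₂ _ he₁
  have e12 : QuadraticMap.polar q e₁ e₂ = 0 := hUU _ he₁ _ he₂
  have f1e2 : QuadraticMap.polar q f₁ e₂ = 0 := by
    rw [QuadraticMap.polar_comm, he₂d, QuadraticMap.polar_sub_left, QuadraticMap.polar_smul_left, ef₁, smul_eq_mul,
      mul_one, sub_self]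
  obtain ⟨z, hz, qz, ez⟩ := exists_partner q (hd.nd i) (hUW he₂) he₂0 (hUs e₂ he₂)
  have f1e1 : QuadraticMap.polar q f₁ e₁ = 1 := by rw [QuadraticMap.polar_comm, ef₁]
  have e11 : QuadraticMap.polar q e₁ e₁ = 0 := hUU _ he₁ _ he₁
  have e22 : QuadraticMap.polar q e₂ e₂ = 0 := hUU _ he₂ _ he₂
  have f11 : QuadraticMap.polar q f₁ f₁ = 0 := by rw [quad_polar_self, qf₁, mul_zero]
  obtain ⟨w, hw⟩ : ∃ w, w = z - QuadraticMap.polar q z f₁ • e₁ - QuadraticMap.polar q z e₁ • f₁ := ⟨_, rfl⟩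
  have hwD : w ∈ D i := hw ▸ (D i).sub_mem ((D i).sub_mem hz ((D i).smul_mem _ (hUW he₁))) ((D i).smul_mem _ hf₁)
  have we1 : QuadraticMap.polar q w e₁ = 0 := by
    rw [hw]; simp [QuadraticMap.polar_sub_left, QuadraticMap.polar_smul_left, e11, f1e1]
  have wf1 : QuadraticMap.polar q w f₁ = 0 := by
    rw [hw]; simp [QuadraticMap.polar_sub_left, QuadraticMap.polar_smul_left, f11, ef₁]
  have we2 : QuadraticMap.polar q w e₂ = 1 := by
    rw [hw]
    simp [QuadraticMap.polar_sub_left, QuadraticMap.polar_smul_left, e12, f1e2, QuadraticMap.polar_comm q z e₂, ez]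
  obtain ⟨f₂, hf₂⟩ : ∃ f₂, f₂ = w - q w • e₂ := ⟨_, rfl⟩
  have hf₂D : f₂ ∈ D i := hf₂ ▸ (D i).sub_mem hwD ((D i).smul_mem _ (hUW he₂))
  have f2e1 : QuadraticMap.polar q f₂ e₁ = 0 := by
    rw [hf₂, QuadraticMap.polar_sub_left, QuadraticMap.polar_smul_left, we1, e21, smul_zero, sub_zero]
  have f2f1 : QuadraticMap.polar q f₂ f₁ = 0 := by
    rw [hf₂, QuadraticMap.polar_sub_left, QuadraticMap.polar_smul_left, wf1, QuadraticMap.polar_comm q e₂, f1e2,
      smul_zero, sub_zero]
  have f2e2 : QuadraticMap.polar q f₂ e₂ = 1 := by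
    rw [hf₂, QuadraticMap.polar_sub_left, QuadraticMap.polar_smul_left, we2, e22, smul_zero, sub_zero]
  have qf₂ : q f₂ = 0 := by
    rw [hf₂, quad_sub, quad_smul, hUs e₂ he₂, QuadraticMap.polar_smul_right, we2, smul_eq_mul]
    ring
  have e1f1 := ef₁
  have e2f1 : QuadraticMap.polar q e₂ f₁ = 0 := by rw [QuadraticMap.polar_comm, f1e2]
  have e1f2 : QuadraticMap.polar q e₁ f₂ = 0 := by rw [QuadraticMap.polar_comm, f2e1]
  have f1f2 : QuadraticMap.polar q f₁ f₂ = 0 := by rw [QuadraticMap.polar_comm, f2f1]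
  have e2f2 : QuadraticMap.polar q e₂ f₂ = 1 := by rw [QuadraticMap.polar_comm, f2e2]
  have f22 : QuadraticMap.polar q f₂ f₂ = 0 := by rw [quad_polar_self, qf₂, mul_zero]
  refine ⟨![e₁ + f₁, e₁ + (e₂ + f₂), e₂ + f₂, e₂ + (e₁ + f₁)], fun j => ?_, fun j => ?_, fun a b => ?_⟩
  · fin_cases j
    · exact (D i).add_mem (hUW he₁) hf₁
    · exact (D i).add_mem (hUW he₁) ((D i).add_mem (hUW he₂) hf₂D)
    · exact (D i).add_mem (hUW he₂) hf₂D
    · exact (D i).add_mem (hUW he₂) ((D i).add_mem (hUW he₁) hf₁)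
  · fin_cases j <;>
      simp [quad_add, QuadraticMap.polar_add_right, hUs e₁ he₁, hUs e₂ he₂, qf₁, qf₂, e12, e21, e1f1, e2f1, e1f2, e2f2]
  · fin_cases a <;> fin_cases b <;>
      simp [QuadraticMap.polar_add_left, QuadraticMap.polar_add_right, e11, e12, e21, e22, e1f1, e1f2, e2f1, e2f2,
        f1e1, f1e2, f2e1, f2e2, f11, f1f2, f2f1, f22, one_add_one_eq_two, h2]

theorem quads_two (hQ : PolarNondeg q) (hn : 13 ≤ Fintype.card ι) (hq : Fintype.card F = 2) (ht : 3 ≤ t)
    (hd : Data q D 4) (hplus : ∀ i, Cfsg.Geo.IsPlusTypeOn ⇑q (D i)) :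
    ∃ K : Subgroup (GL ι F), Cfsg.Geo.decompositionStabilizer D ⊓ Cfsg.Geo.omegaGL ⇑q < K ∧
      K < Cfsg.Geo.omegaGL ⇑q := by
  have h2 : (2 : F) = 0 := two_eq_zero_of_card (e := 1) hq
  have h01 : ∀ c : F, c = 0 ∨ c = 1 := fun c => by
    by_cases hc : c = 0
    · exact Or.inl hc
    · have := FiniteField.pow_card_sub_one_eq_one c hc
      rw [hq, pow_one] at this
      exact Or.inr this
  have hV : Module.finrank F (ι → F) = Fintype.card ι := Module.finrank_pi F
  choose v hvm hvq hvp using exists_cells hd h2 hplus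
  have hvo : ∀ i j a b, i ≠ j → QuadraticMap.polar q (v i a) (v j b) = 0 := fun i j a b h =>
    hd.orth i j h _ (hvm i a) _ (hvm j b)
  have hv0 : ∀ i a, v i a ≠ 0 := fun i a h => by
    have := hvq i a
    rw [h, QuadraticMap.map_zero] at this
    exact zero_ne_one this
  -- the shape of a vector of value one
  have hform : ∀ x ∈ ones q D, ∃ i, ∃ α β : F, (x = α • v i 0 + β • v i 1) ∨ (x = α • v i 2 + β • v i 3) := by
    rintro x ⟨i, hi, hx1⟩
    have hind : LinearIndependent F (v i) := by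
      rw [Fintype.linearIndependent_iff]
      intro c hc
      have key : ∀ j, ∑ a, c a * QuadraticMap.polar q (v i a) (v i j) = 0 := fun j => by
        have := congrArg (fun z => QuadraticMap.polarBilin q z (v i j)) hc
        simpa [map_sum, LinearMap.sum_apply] using this
      intro j
      fin_cases j
      · simpa [hvp, Fin.sum_univ_four] using key 1
      · simpa [hvp, Fin.sum_univ_four] using key 0
      · simpa [hvp, Fin.sum_univ_four] using key 3
      · simpa [hvp, Fin.sum_univ_four] using key 2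
    have hle : Submodule.span F (Set.range (v i)) ≤ D i := by
      rw [Submodule.span_le]
      rintro _ ⟨j, rfl⟩
      exact hvm i j
    have hspan := Submodule.eq_of_le_of_finrank_le hle (by rw [hd.dim, finrank_span_eq_card hind, Fintype.card_fin])
    rw [← hspan, Submodule.mem_span_range_iff_exists_fun] at hi
    obtain ⟨c, hc⟩ := hi
    rw [Fin.sum_univ_four] at hc
    by_cases h1 : c 0 = 0 ∧ c 1 = 0
    · exact ⟨i, c 2, c 3, Or.inr (by rw [← hc, h1.1, h1.2]; simp)⟩
    by_cases h3 : c 2 = 0 ∧ c 3 = 0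
    · exact ⟨i, c 0, c 1, Or.inl (by rw [← hc, h3.1, h3.2]; simp)⟩
    exfalso
    rw [← hc] at hx1
    simp only [quad_add, quad_smul, hvq, QuadraticMap.polar_add_left, QuadraticMap.polar_smul_left,
      QuadraticMap.polar_smul_right, hvp, smul_eq_mul] at hx1
    rcases h01 (c 0) with a | a <;> rcases h01 (c 1) with b | b <;> rcases h01 (c 2) with e | e <;>
      rcases h01 (c 3) with f | f <;> simp [a, b, e, f] at h1 h3 hx1 <;>
      exact one_ne_zero (α := F) (by
        first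
          | linear_combination hx1 - h2
          | linear_combination hx1 - 2 * h2)
  obtain ⟨i₀, hi₀⟩ : ∃ i : Fin t, i.val = 0 := ⟨⟨0, by omega⟩, rfl⟩
  obtain ⟨i₁, hi₁⟩ : ∃ i : Fin t, i.val = 1 := ⟨⟨1, by omega⟩, rfl⟩
  obtain ⟨i₂, hi₂⟩ : ∃ i : Fin t, i.val = 2 := ⟨⟨2, by omega⟩, rfl⟩
  have n01 : i₀ ≠ i₁ := fun h => by rw [h] at hi₀; omega
  have n02 : i₀ ≠ i₂ := fun h => by rw [h] at hi₀; omega
  have n12 : i₁ ≠ i₂ := fun h => by rw [h] at hi₁; omega
  obtain ⟨u, hu⟩ : ∃ u, u = v i₀ 0 + v i₁ 0 := ⟨_, rfl⟩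
  obtain ⟨w, hw⟩ : ∃ w, w = v i₀ 1 + v i₁ 1 := ⟨_, rfl⟩
  have hQu : q u = 0 := by rw [hu, quad_add, hvq, hvq, hvo _ _ _ _ n01]; linear_combination h2
  have hQw : q w = 0 := by rw [hw, quad_add, hvq, hvq, hvo _ _ _ _ n01]; linear_combination h2
  have huw : QuadraticMap.polar q u w = 0 := by
    rw [hu, hw]
    simp [QuadraticMap.polar_add_left, QuadraticMap.polar_add_right, hvp, hvo _ _ _ _ n01, hvo _ _ _ _ (Ne.symm n01)]
    linear_combination h2
  obtain ⟨g, hg⟩ : ∃ g, g = eich q u w := ⟨_, rfl⟩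
  have hgx : ∀ x, g.1 x = x + QuadraticMap.polar q x u • w - QuadraticMap.polar q x w • u := fun x => by
    rw [hg, eich_apply q hQu huw, hQw, zero_mul, add_zero]
  have hadd : ∀ z : ι → F, z + z = 0 := fun z => by rw [← two_smul F z, h2, zero_smul]
  have g0 : g.1 (v i₀ 0) = v i₁ 0 := by
    rw [hgx, hu, hw]
    simp [QuadraticMap.polar_add_right, hvp, hvo _ _ _ _ n01]
    linear_combination (norm := module) -(hadd (v i₀ 0)) - (hadd (v i₁ 0)) + hadd (v i₀ 0)
  have g0' : g.1 (v i₁ 0) = v i₀ 0 := by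
    rw [hgx, hu, hw]
    simp [QuadraticMap.polar_add_right, hvp, hvo _ _ _ _ (Ne.symm n01)]
    linear_combination (norm := module) -(hadd (v i₀ 0))
  have g1 : g.1 (v i₀ 1) = v i₁ 1 := by
    rw [hgx, hu, hw]
    simp [QuadraticMap.polar_add_right, hvp, hvo _ _ _ _ n01]
    linear_combination (norm := module) hadd (v i₀ 1)
  have g1' : g.1 (v i₁ 1) = v i₀ 1 := by
    rw [hgx, hu, hw]
    simp [QuadraticMap.polar_add_right, hvp, hvo _ _ _ _ (Ne.symm n01)]
    linear_combination (norm := module) hadd (v i₁ 1)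
  have gfix : ∀ i (a : Fin 4), (i ≠ i₀ ∧ i ≠ i₁) ∨ 2 ≤ a.val → g.1 (v i a) = v i a := by
    intro i a h
    have hz : ∀ j (b : Fin 4), j = i₀ ∨ j = i₁ → b.val < 2 → QuadraticMap.polar q (v i a) (v j b) = 0 := by
      intro j b hj hb
      rcases eq_or_ne i j with rfl | hij
      · rcases h with h | h
        · exact absurd hj (by tauto)
        · rw [hvp, if_neg]; omega
      · exact hvo _ _ _ _ hij
    rw [hgx, hu, hw, QuadraticMap.polar_add_right, QuadraticMap.polar_add_right, hz _ _ (Or.inl rfl) (by decide),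
      hz _ _ (Or.inr rfl) (by decide), hz _ _ (Or.inl rfl) (by decide), hz _ _ (Or.inr rfl) (by decide)]
    simp
  refine exists_between_set hQ (by omega) (ones q D) (fun g hg x hx => ones_maps hg hx)
    ⟨g, hg ▸ eich_mem q hQu huw, fun x hx => ?_, fun hD => ?_⟩ ?_
  · have hq1 : q (g.1 x) = 1 := by obtain ⟨_, _, h⟩ := hx; exact (qAut_map g x).trans h
    obtain ⟨i, α, β, rfl | rfl⟩ := hform x hx
    · rw [map_add, map_smul, map_smul] at hq1 ⊢
      rcases eq_or_ne i i₀ with rfl | h0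
      · rw [g0, g1] at hq1 ⊢
        exact ⟨i₁, (D _).add_mem ((D _).smul_mem _ (hvm _ _)) ((D _).smul_mem _ (hvm _ _)), hq1⟩
      rcases eq_or_ne i i₁ with rfl | h1
      · rw [g0', g1'] at hq1 ⊢
        exact ⟨i₀, (D _).add_mem ((D _).smul_mem _ (hvm _ _)) ((D _).smul_mem _ (hvm _ _)), hq1⟩
      rw [gfix i 0 (Or.inl ⟨h0, h1⟩), gfix i 1 (Or.inl ⟨h0, h1⟩)] at hq1 ⊢
      exact ⟨i, (D _).add_mem ((D _).smul_mem _ (hvm _ _)) ((D _).smul_mem _ (hvm _ _)), hq1⟩
    · rw [map_add, map_smul, map_smul, gfix i 2 (Or.inr le_rfl), gfix i 3 (Or.inr (by decide))] at hq1 ⊢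
      exact ⟨i, (D _).add_mem ((D _).smul_mem _ (hvm _ _)) ((D _).smul_mem _ (hvm _ _)), hq1⟩
  · obtain ⟨σ, hσ⟩ := maps_of_dStab hD
    have h1 := hσ i₀ _ (hvm i₀ 0)
    have h2' := hσ i₀ _ (hvm i₀ 2)
    rw [g0] at h1
    rw [gfix i₀ 2 (Or.inr le_rfl)] at h2'
    exact n01 ((eq_of_mem hd (hvm i₀ 2) h2' (hv0 _ _)).trans (eq_of_mem hd h1 (hvm i₁ 0) (hv0 _ _)))
  · have hab : QuadraticMap.polar q u (v i₂ 0) = 0 := by
      rw [hu, QuadraticMap.polar_add_left, hvo _ _ _ _ n02, hvo _ _ _ _ n12, add_zero]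
    refine ⟨eich q u (v i₂ 0), eich_mem q hQu hab, v i₀ 1, ⟨i₀, hvm _ _, hvq _ _⟩, ?_⟩
    rintro ⟨l, hl, -⟩
    have hxu : QuadraticMap.polar q (v i₀ 1) u = 1 := by
      rw [hu, QuadraticMap.polar_add_right, hvo _ _ _ _ n01, hvp]
      simp
    rw [eich_apply q hQu hab, hxu, hvo _ _ _ _ n02, hvq, one_smul, zero_add, one_mul, one_smul, hu] at hl
    have e0 : l = i₀ := eq_of_polar hd hl (hvm i₀ 0) (by
      simp [QuadraticMap.polar_sub_left, QuadraticMap.polar_add_left, hvp, hvo _ _ _ _ (Ne.symm n01),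
        hvo _ _ _ _ (Ne.symm n02)])
    have e2 : l = i₂ := eq_of_polar hd hl (hvm i₂ 1) (by
      simp [QuadraticMap.polar_sub_left, QuadraticMap.polar_add_left, hvp, hvo _ _ _ _ n02, hvo _ _ _ _ n12])
    exact n02 (e0.symm.trans e2)

end CfsgLib.Classical22.DecompCells
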