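/-
Overgroups of the monomial group in GL(ι, F): a non-monomial member yields an elementary transvection.
-/
import Cfsg.Agent.Lib.Classical22.Monomial

set_option autoImplicit false

namespace CfsgLib.Classical22.DecompLine

open Matrix CfsgLib.Transvec CfsgLib.Classical22.Monomial
open scoped MatrixGroups

variable {ι : Type} [Fintype ι] [DecidableEq ι] {F : Type*} [Field F] {M : Subgroup (GL ι F)}

/-- `M` contains an elementary transvection. -/
def El (M : Subgroup (GL ι F)) : Prop :=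
  ∃ (a b : ι) (c : F), a ≠ b ∧ c ≠ 0 ∧ transv (Pi.single a 1) (Pi.single b c) ∈ M

lemma exists_notMem [Fintype F] (s : Finset F) (h : s.card < Fintype.card F) : ∃ t, t ∉ s := by
  by_contra hcon
  simp only [not_exists, not_not] at hcon
  rw [show s = Finset.univ from Finset.eq_univ_of_forall hcon, Finset.card_univ] at h
  exact h.ne rfl

/-- A unit other than one, minus one and zero. -/
lemma exists_unit_ne [Fintype F] (hq : 5 ≤ Fintype.card F) :
    ∃ t : Fˣ, (t : F) ≠ 1 ∧ (t : F) ≠ -1 ∧ (t : F) * t ≠ 1 := by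
  classical
  obtain ⟨t, ht⟩ := exists_notMem ({0, 1, -1} : Finset F)
    (lt_of_le_of_lt Finset.card_le_three (by omega))
  simp only [Finset.mem_insert, Finset.mem_singleton, not_or] at ht
  exact ⟨Units.mk0 t ht.1, ht.2.1, ht.2.2, fun h => by
    rcases mul_self_eq_one_iff.mp h with e | e
    exacts [ht.2.1 e, ht.2.2 e]⟩

/-- Avoiding a palindromic quadratic and two further values. -/
lemma exists_avoid [Fintype F] (hq : 5 ≤ Fintype.card F) (a b e : F) (hab : a ≠ 0 ∨ b ≠ 0) :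
    ∃ t : F, t ≠ 0 ∧ t ≠ e ∧ a * (t * t) + b * t + a ≠ 0 := by
  classical
  by_cases hroot : ∃ r, r ≠ 0 ∧ a * (r * r) + b * r + a = 0
  · obtain ⟨r, hr0, hr⟩ := hroot
    obtain ⟨t, ht⟩ := exists_notMem ({0, e, r, r⁻¹} : Finset F)
      (lt_of_le_of_lt Finset.card_le_four (by omega))
    simp only [Finset.mem_insert, Finset.mem_singleton, not_or] at ht
    refine ⟨t, ht.1, ht.2.1, fun h => ?_⟩
    have h1 : (t - r) * (a * (t + r) + b) = 0 := by linear_combination h - hr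
    rcases mul_eq_zero.mp h1 with h2 | h2
    · exact ht.2.2.1 (sub_eq_zero.mp h2)
    · have h3 : a * (1 - t * r) = 0 := by linear_combination hr - r * h2
      rcases mul_eq_zero.mp h3 with h4 | h4
      · rw [h4, zero_mul, zero_add] at h2
        exact hab.elim (fun h => h h4) (fun h => h h2)
      · exact ht.2.2.2 (eq_inv_of_mul_eq_one_left (sub_eq_zero.mp h4).symm)
  · obtain ⟨t, ht⟩ := exists_notMem ({0, e} : Finset F) (lt_of_le_of_lt Finset.card_le_two (by omega))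
    simp only [Finset.mem_insert, Finset.mem_singleton, not_or] at ht
    exact ⟨t, ht.1, ht.2, fun h => hroot ⟨t, ht.1, h⟩⟩

lemma transv_inv_left {v φ : ι → F} (h : φ ⬝ᵥ v = 0) : (transv v φ)⁻¹ = transv (-v) φ := by
  rw [transv_inv h, ← neg_one_smul F v, transv_smul_left (-1) h, neg_one_smul]

/-- Scaling one coordinate of the centre and axis. -/
lemma scale_mem {v φ : ι → F} (hd : φ ⬝ᵥ v = 0) (hT : transv v φ ∈ M) (p : ι) (t : Fˣ)
    (hD : diagGL (Function.update 1 p t) ∈ M) :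
    transv (v + Pi.single p (((t : F) - 1) * v p)) (φ + Pi.single p ((((t⁻¹ : Fˣ) : F) - 1) * φ p)) ∈ M := by
  have h := M.mul_mem (M.mul_mem hD hT) (M.inv_mem hD)
  rw [conj_diag_transv _ hd] at h
  convert h using 2 <;> funext i <;> by_cases hi : i = p <;> simp [hi] <;> ring

variable [Fintype F] (hq : 5 ≤ Fintype.card F) (hfull : ∀ σ d, mono σ d ∈ M)
include hq hfull

/-- A transvection with a coordinate where only the axis is non-zero. -/
lemma el_of_mismatch {u φ : ι → F} (hd : φ ⬝ᵥ u = 0) (hu : u ≠ 0) (hT : transv u φ ∈ M) {b : ι}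
    (hub : u b = 0) (hφb : φ b ≠ 0) : El M := by
  obtain ⟨t, ht, -, -⟩ := exists_unit_ne hq
  have ht' : ((t⁻¹ : Fˣ) : F) - 1 ≠ 0 := sub_ne_zero.mpr fun e => ht (by
    rwa [Units.val_inv_eq_inv_val, inv_eq_one] at e)
  have h1 := scale_mem hd hT b t (hfull _ _)
  rw [hub, mul_zero, Pi.single_zero, add_zero,
    ← transv_mul hd (by simp [hub]), ] at h1
  have h2 := M.mul_mem (M.inv_mem hT) h1
  rw [inv_mul_cancel_left] at h2
  obtain ⟨a, ha⟩ := Function.ne_iff.mp hu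
  have hab : a ≠ b := fun e => ha (e ▸ hub)
  obtain ⟨η, hη⟩ : ∃ η, η = (((t⁻¹ : Fˣ) : F) - 1) * φ b := ⟨_, rfl⟩
  rw [← hη] at h2
  have hd2 : (Pi.single b η : ι → F) ⬝ᵥ u = 0 := by simp [hub]
  have hd3 := single_dotProduct_single hab η
  have h3 := scale_mem hd2 h2 a t (hfull _ _)
  rw [Pi.single_eq_of_ne hab, mul_zero, Pi.single_zero, add_zero,
    ← transv_add_left hd2 (by rw [dotProduct_single, Pi.single_eq_of_ne hab, zero_mul])] at h3
  have h4 := M.mul_mem (M.inv_mem h2) h3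
  rw [inv_mul_cancel_left, show (Pi.single a (((t : F) - 1) * u a) : ι → F) = (((t : F) - 1) * u a) • Pi.single a 1 by
      rw [← Pi.single_smul, smul_eq_mul, mul_one],
    transv_smul_left _ hd3, ← Pi.single_smul, smul_eq_mul] at h4
  exact ⟨a, b, _, hab, mul_ne_zero (mul_ne_zero (sub_ne_zero.mpr ht) ha) (hη ▸ mul_ne_zero ht' hφb), h4⟩

/-- A transvection with a suitable coordinate gives an elementary one. -/
lemma el_of_transv {u φ : ι → F} (hd : φ ⬝ᵥ u = 0) (hu : u ≠ 0) (hφ : φ ≠ 0) (hT : transv u φ ∈ M) {p : ι}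
    (hp : u p ≠ 0 ∨ φ p ≠ 0) (hw : u p * φ p ≠ -1) : El M := by
  by_cases hup : u p = 0
  · exact el_of_mismatch hq hfull hd hu hT hup (hp.resolve_left (fun h => h hup))
  by_cases hφp : φ p = 0
  · obtain ⟨t, ht, -, -⟩ := exists_unit_ne hq
    have h1 := scale_mem hd hT p t (hfull _ _)
    rw [hφp, mul_zero, Pi.single_zero, add_zero,
      ← transv_add_left hd (by simp [hφp])] at h1
    have h2 := M.mul_mem (M.inv_mem hT) h1
    rw [inv_mul_cancel_left] at h2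
    obtain ⟨b, hb⟩ := Function.ne_iff.mp hφ
    have hbp : b ≠ p := fun e => hb (e ▸ hφp)
    exact el_of_mismatch hq hfull (by simp [hφp])
      (by simp [sub_ne_zero.mpr ht, hup]) h2 (Pi.single_eq_of_ne hbp _) hb
  obtain ⟨w, hwdef⟩ : ∃ w, w = u p * φ p := ⟨_, rfl⟩
  have hw0 : w ≠ 0 := hwdef ▸ mul_ne_zero hup hφp
  have hw1 : w + 1 ≠ 0 := fun e => hw (hwdef ▸ eq_neg_of_add_eq_zero_left e)
  obtain ⟨θ, hθdef⟩ : ∃ θ : Fˣ, (θ : F) = 1 + w⁻¹ := by
    refine ⟨Units.mk0 (1 + w⁻¹) fun e => hw1 ?_, rfl⟩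
    have := congrArg (· * w) e
    simpa [add_mul, hw0] using this
  have hθ1 : ((θ : F) - 1) * w = 1 := by rw [hθdef, add_sub_cancel_left, inv_mul_cancel₀ hw0]
  have hθne : (θ : F) ≠ 1 := fun e => by simp [e] at hθ1
  have hθinv : ((θ⁻¹ : Fˣ) : F) = (θ : F)⁻¹ := Units.val_inv_eq_inv_val θ
  have h1 := scale_mem hd hT p θ (hfull _ _)
  obtain ⟨u', hu'⟩ : ∃ u', u' = u + Pi.single p (((θ : F) - 1) * u p) := ⟨_, rfl⟩
  obtain ⟨φ', hφ'⟩ : ∃ φ', φ' = φ + Pi.single p ((((θ⁻¹ : Fˣ) : F) - 1) * φ p) := ⟨_, rfl⟩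
  rw [← hu', ← hφ'] at h1
  have hd' : φ' ⬝ᵥ u' = 0 := by
    rw [hu', hφ', add_dotProduct, dotProduct_add, dotProduct_add, hd]
    simp only [single_dotProduct, dotProduct_single, Pi.single_eq_same, hθinv]
    field_simp
    ring
  have e1 : φ' ⬝ᵥ u = (((θ⁻¹ : Fˣ) : F) - 1) * w := by
    rw [hφ', add_dotProduct, hd, single_dotProduct, hwdef]; ring
  have e2 : φ ⬝ᵥ u' = 1 := by
    rw [hu', dotProduct_add, hd, dotProduct_single, zero_add]; linear_combination hθ1 - ((θ : F) - 1) * hwdef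
  have h2 := M.mul_mem (M.mul_mem h1 hT) (M.inv_mem h1)
  rw [conj_transv _ hd] at h2
  have hd2 := (vecMul_inv_dotProduct (transv u' φ') φ u).trans hd
  refine el_of_mismatch hq hfull hd2 (mulVec_ne_zero _ hu) h2 (b := p) ?_ ?_
  · rw [transv_mulVec hd', e1, Pi.add_apply, Pi.smul_apply, hu', Pi.add_apply, Pi.single_eq_same, hθinv, smul_eq_mul]
    have hθ0 := θ.ne_zero
    field_simp
    linear_combination (-(θ : F)) * u p * hθ1
  · rw [transv_inv hd', transv_val (by rw [neg_dotProduct, hd', neg_zero]), vecMul_add, vecMul_one, vecMul_vecMulVec,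
      Pi.add_apply, Pi.smul_apply, e2, one_smul, Pi.neg_apply, hφ', Pi.add_apply, Pi.single_eq_same, hθinv]
    intro e
    have h3 : φ p * (1 - (θ : F)⁻¹) = 0 := by linear_combination e
    rcases mul_eq_zero.mp h3 with h4 | h4
    · exact hφp h4
    · exact hθne (inv_eq_one.mp (sub_eq_zero.mp h4).symm)

/-- A family of pseudo-reflections with different supports of centre and axis. -/
lemma el_of_refl_mismatch {u ψ : ι → F} (h : ψ ⬝ᵥ u = 1) (hR : ∀ c : F, c ≠ 0 → refl u ψ c ∈ M) {p : ι}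
    (hp : u p ≠ 0 ∧ ψ p = 0 ∨ u p = 0 ∧ ψ p ≠ 0) : El M := by
  obtain ⟨t, ht, -, -⟩ := exists_unit_ne hq
  have ht' : ((t⁻¹ : Fˣ) : F) - 1 ≠ 0 := sub_ne_zero.mpr fun e => ht (by
    rwa [Units.val_inv_eq_inv_val, inv_eq_one] at e)
  have htF : (t : F)⁻¹ - 1 ≠ 0 := sub_ne_zero.mpr fun e => ht (inv_eq_one.mp e)
  obtain ⟨d, hd⟩ : ∃ d, d = Function.update (1 : ι → Fˣ) p t := ⟨_, rfl⟩
  have hconj : refl ((diagGL d : Matrix ι ι F) *ᵥ u) (ψ ᵥ* (((diagGL d)⁻¹ : GL ι F) : Matrix ι ι F)) (t : F) ∈ M := by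
    rw [← conj_refl _ h t.ne_zero]
    exact M.mul_mem (M.mul_mem (hfull _ _) (hR _ t.ne_zero)) (M.inv_mem (hfull _ _))
  have eu : (diagGL d : Matrix ι ι F) *ᵥ u = u + Pi.single p (((t : F) - 1) * u p) := by
    rw [diag_mulVec]; funext i; by_cases hi : i = p <;> simp [hd, hi]; ring
  have eψ : ψ ᵥ* (((diagGL d)⁻¹ : GL ι F) : Matrix ι ι F) = ψ + Pi.single p ((((t⁻¹ : Fˣ) : F) - 1) * ψ p) := by
    rw [diag_vecMul_inv]; funext i; by_cases hi : i = p <;> simp [hd, hi]; ring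
  rw [eu, eψ] at hconj
  have hsum := M.mul_mem hconj (M.inv_mem (hR _ t.ne_zero))
  rcases hp with ⟨hup, hψp⟩ | ⟨hup, hψp⟩
  · rw [hψp, mul_zero, Pi.single_zero, add_zero,
      refl_mul_inv_axis h (by rw [dotProduct_add, h, dotProduct_single, hψp, zero_mul, add_zero]) t.ne_zero,
      sub_add_cancel_left, ← Pi.single_neg, ← Pi.single_smul, smul_eq_mul] at hsum
    exact el_of_transv hq hfull (by simp [hψp]) (by simp [htF, sub_ne_zero.mpr ht, hup])
      (fun e => by simp [e] at h) hsum (p := p) (Or.inl (by simp [htF, sub_ne_zero.mpr ht, hup])) (by simp [hψp])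
  · rw [hup, mul_zero, Pi.single_zero, add_zero,
      refl_mul_inv_centre h (by rw [add_dotProduct, h, single_dotProduct, hup, mul_zero, add_zero]) t.ne_zero,
      add_sub_cancel_left, ← Pi.single_smul, smul_eq_mul] at hsum
    exact el_of_mismatch hq hfull (by simp [hup]) (fun e => by simp [e] at h) hsum hup
      (by simp [htF, sub_ne_zero.mpr ht, hψp])

/-- The two-block trick: reflections with the same support of centre and axis. -/
lemma el_of_blocks {u ψ : ι → F} (h : ψ ⬝ᵥ u = 1) (hR : ∀ c : F, c ≠ 0 → refl u ψ c ∈ M) {p : ι} (P : Finset ι)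
    (hp : p ∉ P) {z1 z2 : F} (hz1 : z1 = ψ p * u p) (hz2 : z2 = ∑ i ∈ P, ψ i * u i) (h10 : z1 ≠ 0) (h20 : z2 ≠ 0)
    (hne : z1 + z2 = 1 → z1 ≠ z2) : El M := by
  obtain ⟨A, hA⟩ : ∃ A, A = z1 + z2 - 1 := ⟨_, rfl⟩
  have hab : A * z1 ≠ 0 ∨ z2 * z2 - z1 * z1 - A * A ≠ 0 := by
    by_cases hA0 : A = 0
    · right
      have h1 : z1 + z2 = 1 := sub_eq_zero.mp (hA ▸ hA0)
      rw [hA0, mul_zero, sub_zero]
      intro e
      have : (z2 - z1) * (z1 + z2) = 0 := by linear_combination e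
      rw [h1, mul_one, sub_eq_zero] at this
      exact hne h1 this.symm
    · exact Or.inl (mul_ne_zero hA0 h10)
  obtain ⟨θ, hθ0, hθA, hθq⟩ := exists_avoid hq _ _ (A / z1) hab
  have hAθ : A - θ * z1 ≠ 0 := fun e => hθA (by rw [eq_div_iff h10, sub_eq_zero.mp e])
  obtain ⟨η, hηdef⟩ : ∃ η, η = (A - θ * z1) / z2 := ⟨_, rfl⟩
  have hη : η ≠ 0 := hηdef ▸ div_ne_zero hAθ h20
  obtain ⟨B, hB⟩ : ∃ B, B = 1 + (θ⁻¹ - 1) * z1 + (η⁻¹ - 1) * z2 := ⟨_, rfl⟩
  have hB0 : B ≠ 0 := by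
    intro e
    refine hθq ?_
    have : θ * (A - θ * z1) * B = A * z1 * (θ * θ) + (z2 * z2 - z1 * z1 - A * A) * θ + A * z1 := by
      rw [hB, hηdef, inv_div]
      field_simp
      rw [hA]
      ring
    rw [← this, e, mul_zero]
  obtain ⟨d, hd⟩ : ∃ d : ι → Fˣ, d = fun i => if i = p then Units.mk0 θ hθ0 else if i ∈ P then Units.mk0 η hη else 1 :=
    ⟨_, rfl⟩
  have hsum : ∀ (a b : F), (∑ i, (if i = p then a else if i ∈ P then b else 1) * (ψ i * u i)) =
      1 + (a - 1) * z1 + (b - 1) * z2 := by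
    intro a b
    have e : ∀ i, (if i = p then a else if i ∈ P then b else 1) * (ψ i * u i) =
        ψ i * u i + (if i = p then (a - 1) * (ψ i * u i) else 0) + (if i ∈ P then (b - 1) * (ψ i * u i) else 0) := by
      intro i
      by_cases hi : i = p
      · subst hi; simp [hp]; ring
      · by_cases hi' : i ∈ P <;> simp [hi, hi']; ring
    rw [Finset.sum_congr rfl fun i _ => e i, Finset.sum_add_distrib, Finset.sum_add_distrib, Finset.sum_ite_eq',
      if_pos (Finset.mem_univ p), Finset.sum_ite_mem, Finset.univ_inter, ← Finset.mul_sum, ← hz1, ← hz2]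
    exact congrArg (fun s => s + (a - 1) * z1 + (b - 1) * z2) h
  obtain ⟨u', hu'⟩ : ∃ u', u' = fun i => (d i : F) * u i := ⟨_, rfl⟩
  obtain ⟨ψ', hψ'⟩ : ∃ ψ', ψ' = fun i => ψ i * ((d i)⁻¹ : Fˣ) := ⟨_, rfl⟩
  have hd' : ψ' ⬝ᵥ u' = 1 := by rw [hu', hψ', diag_dot, h]
  have hψu' : ψ ⬝ᵥ u' = 0 := by
    have : ψ ⬝ᵥ u' = ∑ i, (if i = p then θ else if i ∈ P then η else 1) * (ψ i * u i) := by
      refine Finset.sum_congr rfl fun i _ => ?_
      rw [hu', hd]
      by_cases hi : i = p <;> by_cases hi' : i ∈ P <;> simp [hi, hi', hp] <;> ring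
    rw [this, hsum, hηdef]
    field_simp
    rw [hA]
    ring
  have hψ'u : ψ' ⬝ᵥ u = B := by
    have : ψ' ⬝ᵥ u = ∑ i, (if i = p then θ⁻¹ else if i ∈ P then η⁻¹ else 1) * (ψ i * u i) := by
      refine Finset.sum_congr rfl fun i _ => ?_
      rw [hψ', hd]
      by_cases hi : i = p <;> by_cases hi' : i ∈ P <;> simp [hi, hi', hp] <;> ring
    rw [this, hsum, hB]
  have hR2 : ∀ c : F, c ≠ 0 → refl u' ψ' c ∈ M := fun c hc => by
    have h1 := M.mul_mem (M.mul_mem (hfull 1 d) (hR c hc)) (M.inv_mem (hfull 1 d))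
    rw [show mono 1 d = diagGL d from rfl, conj_refl _ h hc, diag_mulVec, diag_vecMul_inv, ← hu', ← hψ'] at h1
    exact h1
  obtain ⟨κ, hκ⟩ : ∃ κ, κ = B * θ * z1 := ⟨_, rfl⟩
  have hκ0 : κ ≠ 0 := hκ ▸ mul_ne_zero (mul_ne_zero hB0 hθ0) h10
  obtain ⟨l, hl0, hl1, hlq⟩ := exists_avoid hq κ (-(2 * κ + 1)) 1 (Or.inl hκ0)
  have h1 := M.mul_mem (M.mul_mem (hR l hl0) (hR2 l hl0)) (M.inv_mem (hR l hl0))
  rw [conj_refl _ hd' hl0, refl_mulVec h hl0, hψu', mul_zero, zero_smul, add_zero, refl_inv h hl0,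
    refl_vecMul h (inv_ne_zero hl0), hψ'u] at h1
  have h2 := M.mul_mem h1 (M.inv_mem (hR2 l hl0))
  rw [refl_mul_inv_centre hd' (by rw [add_dotProduct, hd', smul_dotProduct, hψu', smul_zero, add_zero]) hl0,
    add_sub_cancel_left, smul_smul] at h2
  have hup : u p ≠ 0 := fun e => h10 (by rw [hz1, e, mul_zero])
  have hψp : ψ p ≠ 0 := fun e => h10 (by rw [hz1, e, zero_mul])
  have hu'p : u' p = θ * u p := by rw [hu', hd]; simp
  have hu'0 : u' p ≠ 0 := hu'p ▸ mul_ne_zero hθ0 hup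
  have hk : (l - 1) * (B * (l⁻¹ - 1)) ≠ 0 :=
    mul_ne_zero (sub_ne_zero.mpr hl1) (mul_ne_zero hB0 (sub_ne_zero.mpr fun e => hl1 (inv_eq_one.mp e)))
  refine el_of_transv hq hfull (by rw [smul_dotProduct, hψu', smul_zero]) (fun e => hu'0 (by simp [e]))
    (fun e => mul_ne_zero hk hψp (congrFun e p)) h2 (p := p) (Or.inl hu'0) fun e => hlq ?_
  rw [Pi.smul_apply, smul_eq_mul, hu'p] at e
  rw [hκ, hz1]
  field_simp at e
  linear_combination (-1 : F) * e

/-- Three non-zero coordinates of the centre. -/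
lemma el_of_refl_three {u ψ : ι → F} (h : ψ ⬝ᵥ u = 1) (hR : ∀ c : F, c ≠ 0 → refl u ψ c ∈ M) {p q r : ι}
    (hpq : p ≠ q) (hpr : p ≠ r) (hqr : q ≠ r) (hp : u p ≠ 0) (hq' : u q ≠ 0) (hr : u r ≠ 0) : El M := by
  classical
  have nz : ∀ i, u i ≠ 0 → ψ i = 0 → El M := fun i h1 h2 => el_of_refl_mismatch hq hfull h hR (Or.inl ⟨h1, h2⟩)
  by_cases e1 : ψ p = 0; · exact nz p hp e1
  by_cases e2 : ψ q = 0; · exact nz q hq' e2
  by_cases e3 : ψ r = 0; · exact nz r hr e3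
  by_cases g1 : ψ p * u p + ψ q * u q = 1 ∧ ψ p * u p = ψ q * u q
  · by_cases g2 : ψ p * u p + ψ r * u r = 1 ∧ ψ p * u p = ψ r * u r
    · have hz : ψ q * u q + ψ r * u r = 1 := by linear_combination g1.1 - g2.2
      refine el_of_blocks hq hfull h hR {q, r} (by simp [hpq, hpr]) rfl rfl (mul_ne_zero e1 hp)
        (by rw [Finset.sum_pair hqr, hz]; exact one_ne_zero) fun hsum hzz => ?_
      rw [Finset.sum_pair hqr, hz] at hzz
      exact mul_ne_zero e2 hq' (by linear_combination g1.1 - hzz)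
    · refine el_of_blocks hq hfull h hR {r} (by simp [hpr]) rfl rfl (mul_ne_zero e1 hp)
        (by simp [e3, hr]) fun hsum hzz => ?_
      rw [Finset.sum_singleton] at hsum hzz
      exact g2 ⟨hsum, hzz⟩
  · refine el_of_blocks hq hfull h hR {q} (by simp [hpq]) rfl rfl (mul_ne_zero e1 hp)
      (by simp [e2, hq']) fun hsum hzz => ?_
    rw [Finset.sum_singleton] at hsum hzz
    exact g1 ⟨hsum, hzz⟩

/-- A family of pseudo-reflections with non-coordinate centre gives an elementary transvection. -/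
lemma el_of_refl (hN : 3 ≤ Fintype.card ι) {u ψ : ι → F} (h : ψ ⬝ᵥ u = 1)
    (hR : ∀ c : F, c ≠ 0 → refl u ψ c ∈ M) {p q : ι} (hpq : p ≠ q) (hp : u p ≠ 0) (hq' : u q ≠ 0) : El M := by
  classical
  by_cases h3 : ∃ r, r ≠ p ∧ r ≠ q ∧ u r ≠ 0
  · obtain ⟨r, hrp, hrq, hr⟩ := h3
    exact el_of_refl_three hq hfull h hR hpq (Ne.symm hrp) hrq.symm hp hq' hr
  by_cases e1 : ψ p = 0; · exact el_of_refl_mismatch hq hfull h hR (Or.inl ⟨hp, e1⟩)
  by_cases e2 : ψ q = 0; · exact el_of_refl_mismatch hq hfull h hR (Or.inl ⟨hq', e2⟩)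
  by_cases g1 : ψ p * u p + ψ q * u q = 1 ∧ ψ p * u p = ψ q * u q
  swap
  · refine el_of_blocks hq hfull h hR {q} (by simp [hpq]) rfl rfl (mul_ne_zero e1 hp)
      (by simp [e2, hq']) fun hsum hzz => ?_
    rw [Finset.sum_singleton] at hsum hzz
    exact g1 ⟨hsum, hzz⟩
  obtain ⟨r, hr⟩ : ∃ r, r ∉ ({p, q} : Finset ι) := by
    by_contra hcon
    simp only [not_exists, not_not] at hcon
    have := Finset.card_le_card (fun i (_ : i ∈ Finset.univ) => hcon i)
    rw [Finset.card_univ] at this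
    have := Finset.card_le_two (a := p) (b := q)
    omega
  simp only [Finset.mem_insert, Finset.mem_singleton, not_or] at hr
  obtain ⟨hrp, hrq⟩ := hr
  have hur : u r = 0 := by_contra fun e => h3 ⟨r, hrp, hrq, e⟩
  by_cases hψr : ψ r = 0
  swap; · exact el_of_refl_mismatch hq hfull h hR (Or.inr ⟨hur, hψr⟩)
  have h2 : (2 : F) * (ψ p * u p) = 1 := by linear_combination g1.1 + g1.2
  obtain ⟨l, hl1, hlm1, -⟩ := exists_unit_ne hq
  obtain ⟨u', hu'⟩ : ∃ u' : ι → F, u' = ((mono (Equiv.swap q r) (1 : ι → Fˣ) : GL ι F) : Matrix ι ι F) *ᵥ u := ⟨_, rfl⟩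
  obtain ⟨ψ', hψ'⟩ : ∃ ψ' : ι → F, ψ' = ψ ᵥ* (((mono (Equiv.swap q r) (1 : ι → Fˣ))⁻¹ : GL ι F) : Matrix ι ι F) := ⟨_, rfl⟩
  have hd' : ψ' ⬝ᵥ u' = 1 := by rw [hu', hψ', vecMul_inv_dotProduct, h]
  have eu : ∀ i, u' i = u (Equiv.swap q r i) := by
    intro i
    have := mono_mulVec (Equiv.swap q r) (1 : ι → Fˣ) u (Equiv.swap q r i)
    rw [Equiv.swap_apply_self] at this
    simpa [hu'] using this
  have hψu' : ψ ⬝ᵥ u' = ψ p * u p := by
    show ∑ i, ψ i * u' i = _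
    rw [Finset.sum_eq_single p]
    · rw [eu, Equiv.swap_apply_of_ne_of_ne hpq (Ne.symm hrp)]
    · intro i _ hi
      by_cases hiq : i = q
      · rw [eu, hiq, Equiv.swap_apply_left, hur, mul_zero]
      by_cases hir : i = r
      · rw [hir, hψr, zero_mul]
      have hui : u i = 0 := by_contra fun e => h3 ⟨i, hi, hiq, e⟩
      rw [eu, Equiv.swap_apply_of_ne_of_ne hiq hir, hui, mul_zero]
    · simp
  have hR2 : ∀ c : F, c ≠ 0 → refl ((refl u ψ (l : F) : Matrix ι ι F) *ᵥ u')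
      (ψ' ᵥ* (((refl u ψ (l : F))⁻¹ : GL ι F) : Matrix ι ι F)) c ∈ M := by
    intro c hc
    rw [← conj_refl _ hd' hc]
    refine M.mul_mem (M.mul_mem (hR _ l.ne_zero) ?_) (M.inv_mem (hR _ l.ne_zero))
    rw [hu', hψ', ← conj_refl _ h hc]
    exact M.mul_mem (M.mul_mem (hfull _ _) (hR c hc)) (M.inv_mem (hfull _ _))
  have hv : ∀ i, ((refl u ψ (l : F) : Matrix ι ι F) *ᵥ u') i = u' i + ((l : F) - 1) * (ψ p * u p) * u i := by
    intro i
    rw [refl_mulVec h l.ne_zero, hψu', Pi.add_apply, Pi.smul_apply, smul_eq_mul]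
  refine el_of_refl_three hq hfull (by rw [vecMul_inv_dotProduct, hd']) hR2 hpq (Ne.symm hrp) (Ne.symm hrq) ?_ ?_ ?_
  · rw [hv, eu, Equiv.swap_apply_of_ne_of_ne hpq (Ne.symm hrp)]
    intro e
    have : u p * ((l : F) + 1) = 0 := by linear_combination 2 * e - ((l : F) - 1) * u p * h2
    rcases mul_eq_zero.mp this with h4 | h4
    exacts [hp h4, hlm1 (eq_neg_of_add_eq_zero_left h4)]
  · rw [hv, eu, Equiv.swap_apply_left, hur, zero_add]
    exact mul_ne_zero (mul_ne_zero (sub_ne_zero.mpr hl1) (mul_ne_zero e1 hp)) hq'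
  · rw [hv, eu, Equiv.swap_apply_right, hur, mul_zero, add_zero]
    exact hq'

/-- A non-monomial member of a group containing all monomial matrices gives an elementary transvection. -/
lemma el_of_not_isMono (hN : 3 ≤ Fintype.card ι) {x : GL ι F} (hx : x ∈ M) (hmono : ¬ IsMono x) : El M := by
  classical
  simp only [IsMono, not_forall, not_exists] at hmono
  obtain ⟨j, hj⟩ := hmono
  obtain ⟨p, hp⟩ := col_ne_zero x j
  obtain ⟨q, hqp, hq'⟩ : ∃ q, q ≠ p ∧ (x : Matrix ι ι F) q j ≠ 0 := by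
    obtain ⟨q, hq'⟩ := hj p
    exact ⟨q, hq'.1, hq'.2⟩
  have hd : (Pi.single j 1 : ι → F) ⬝ᵥ Pi.single j 1 = 1 := by simp
  refine el_of_refl hq hfull hN (u := (x : Matrix ι ι F) *ᵥ Pi.single j 1)
    (ψ := Pi.single j 1 ᵥ* ((x⁻¹ : GL ι F) : Matrix ι ι F)) (by rw [vecMul_inv_dotProduct, hd])
    (fun c hc => ?_) (Ne.symm hqp) (by simpa [mulVec_single_one] using hp) (by simpa [mulVec_single_one] using hq')
  rw [← conj_refl _ hd hc, ← Units.val_mk0 hc, refl_single]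
  exact M.mul_mem (M.mul_mem hx (hfull _ _)) (M.inv_mem hx)

end CfsgLib.Classical22.DecompLine
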