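/-
Overgroups of the monomial subgroup of SL(ι, F): producing a non-monomial member with a coordinate column.
-/
import Cfsg.Agent.Lib.Classical22.DecompLineGL

set_option autoImplicit false

namespace CfsgLib.Classical22.DecompLine

open Matrix CfsgLib.Transvec CfsgLib.Classical22.Monomial
open scoped MatrixGroups

variable {ι : Type} [Fintype ι] [DecidableEq ι] {F : Type*} [Field F] {M : Subgroup (GL ι F)}

/-- `M` has a non-monomial member with a coordinate column. -/
def Fixing (M : Subgroup (GL ι F)) : Prop :=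
  ∃ (k : ι) (x : GL ι F), x ∈ M ∧ ¬ IsMono x ∧ ∀ i, i ≠ k → (x : Matrix ι ι F) i k = 0

/-- The diagonal matrix with `c` at `p` and its inverse at `r`. -/
def pairD (p r : ι) (c : Fˣ) : GL ι F := diagGL fun i => if i = p then c else if i = r then c⁻¹ else 1

lemma det_pairD {p r : ι} (hpr : p ≠ r) (c : Fˣ) : (pairD p r c : Matrix ι ι F).det = 1 := by
  rw [pairD, det_diag, Finset.prod_eq_mul p r hpr (fun i _ hi => by simp [hi.1, hi.2]) (fun h => absurd (Finset.mem_univ _) h)
    (fun h => absurd (Finset.mem_univ _) h)]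
  simp [Ne.symm hpr]

lemma pairD_mulVec (p r : ι) (c : Fˣ) (x : ι → F) :
    (pairD p r c : Matrix ι ι F) *ᵥ x = fun i => (((if i = p then c else if i = r then c⁻¹ else 1) : Fˣ) : F) * x i :=
  diag_mulVec _ x

lemma mul_apply_col (g h : GL ι F) (i j : ι) :
    ((g * h : GL ι F) : Matrix ι ι F) i j = ((g : Matrix ι ι F) *ᵥ fun l => (h : Matrix ι ι F) l j) i := rfl

variable (hmon : ∀ σ d, (mono σ d : Matrix ι ι F).det = 1 → mono σ d ∈ M)
include hmon

lemma pairD_mem {p r : ι} (hpr : p ≠ r) (c : Fˣ) : pairD p r c ∈ M := hmon _ _ (det_pairD hpr c)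

/-- A coordinate column somewhere is enough. -/
lemma fixing_of_coord {x : GL ι F} (hx : x ∈ M) (hm : ¬ IsMono x) {a b : ι}
    (h : ∀ i, i ≠ b → (x : Matrix ι ι F) i a = 0) : Fixing M := by
  obtain ⟨e, -, he⟩ := exists_det_one (Equiv.swap a b) (1 : ι → Fˣ) a
  refine ⟨a, mono (Equiv.swap a b) e * x, M.mul_mem (hmon _ _ he) hx, not_isMono_mono_mul hm _ _, fun i hi => ?_⟩
  rw [mul_apply_col, ← Equiv.swap_apply_self a b i, mono_mulVec, h _ (fun e => hi (by
    rw [← Equiv.swap_apply_self a b i, e, Equiv.swap_apply_right])), mul_zero]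

variable [Fintype F] (hq : 5 ≤ Fintype.card F)
include hq

/-- A monomial element fixing many independent vectors has a permutation of order at most three. -/
lemma perm_small (σ : Equiv.Perm ι) (d : ι → Fˣ) {p r : ι} (hpr : p ≠ r) (x : GL ι F)
    (hz : ∀ y : ι → F, y p = 0 → y r = 0 →
      (mono σ d : Matrix ι ι F) *ᵥ (((x⁻¹ : GL ι F) : Matrix ι ι F) *ᵥ y) = ((x⁻¹ : GL ι F) : Matrix ι ι F) *ᵥ y) :
    σ ^ 2 = 1 ∨ σ ^ 3 = 1 := by
  classical
  by_contra hcon
  rw [not_or] at hcon
  obtain ⟨j, hj⟩ : ∃ j, σ (σ j) ≠ j := by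
    by_contra h
    simp only [not_exists, not_not] at h
    exact hcon.1 (Equiv.ext fun i => by simp [pow_two, h i])
  have hj1 : σ j ≠ j := fun e => hj (by rw [e, e])
  have hj2 : σ (σ j) ≠ σ j := fun e => hj1 (σ.injective e)
  suffices hT : ∃ T : Finset ι, T.card = 3 ∧
      ∀ w : ι → F, (∀ i, i ∉ T → w i = 0) → (∀ i, w i = 0 → w (σ i) = 0) → w = 0 by
    obtain ⟨T, hT, hTw⟩ := hT
    let ext' : ({i // i ∉ ({p, r} : Finset ι)} → F) → ι → F := fun y i =>
      if h : i ∉ ({p, r} : Finset ι) then y ⟨i, h⟩ else 0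
    have hext : Function.Injective ext' := fun y y' h => funext fun i => by
      have h1 := congrFun h i
      simp only [ext', dif_pos i.2] at h1
      exact h1
    let L : ({i // i ∉ ({p, r} : Finset ι)} → F) → ({i // i ∉ T} → F) := fun y i =>
      (((x⁻¹ : GL ι F) : Matrix ι ι F) *ᵥ ext' y) i
    have hfix : ∀ y (i : ι), (((x⁻¹ : GL ι F) : Matrix ι ι F) *ᵥ ext' y) (σ i) =
        d i * (((x⁻¹ : GL ι F) : Matrix ι ι F) *ᵥ ext' y) i := by
      intro y i
      have h1 := congrFun (hz (ext' y) (by simp [ext']) (by simp [ext'])) (σ i)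
      rw [mono_mulVec] at h1
      exact h1.symm
    have hL : Function.Injective L := by
      intro y y' h
      refine hext (mulVec_injective x⁻¹ ?_)
      refine sub_eq_zero.mp (hTw _ (fun i hi => ?_) fun i hi => ?_)
      · exact sub_eq_zero.mpr (congrFun h ⟨i, hi⟩)
      · simp only [Pi.sub_apply] at hi ⊢
        rw [hfix, hfix, ← mul_sub, hi, mul_zero]
    have h1 := Fintype.card_le_of_injective L hL
    rw [Fintype.card_fun, Fintype.card_fun, pow_le_pow_iff_right₀ (by omega : 1 < Fintype.card F),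
      Fintype.card_subtype_compl, Fintype.card_subtype_compl, Fintype.card_coe, Fintype.card_coe, hT,
      Finset.card_pair hpr] at h1
    have h3 := Finset.card_le_univ T
    omega
  by_cases h3 : σ (σ (σ j)) = j
  · obtain ⟨l, hl⟩ : ∃ l, σ (σ (σ l)) ≠ l := by
      by_contra h
      simp only [not_exists, not_not] at h
      exact hcon.2 (Equiv.ext fun i => by simp [pow_succ, h i])
    have l0 : l ≠ j := fun e => hl (e ▸ h3)
    have l1 : l ≠ σ j := fun e => hl (by rw [e, h3])
    have l2 : l ≠ σ (σ j) := fun e => hl (by rw [e, h3])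
    have l3 : σ l ≠ l := fun e => hl (by rw [e, e, e])
    have l4 : σ l ≠ j := fun e => l2 (σ.injective (e.trans h3.symm))
    refine ⟨{σ j, σ (σ j), σ l}, Finset.card_eq_three.mpr ⟨_, _, _, hj2.symm, (fun e => l0 (σ.injective e).symm),
      (fun e => l1 (σ.injective e).symm), rfl⟩, fun w hw hs => funext fun i => ?_⟩
    have hwj : w j = 0 := hw j (by simp [hj1.symm, hj.symm, l4.symm])
    have hwl : w l = 0 := hw l (by simp [l1, l2, l3.symm])
    by_cases hi : i ∈ ({σ j, σ (σ j), σ l} : Finset ι)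
    · simp only [Finset.mem_insert, Finset.mem_singleton] at hi
      rcases hi with rfl | rfl | rfl
      exacts [hs _ hwj, hs _ (hs _ hwj), hs _ hwl]
    · exact hw i hi
  · refine ⟨{σ j, σ (σ j), σ (σ (σ j))}, Finset.card_eq_three.mpr ⟨_, _, _, hj2.symm,
      (fun e => hj (σ.injective e).symm), (fun e => hj2 (σ.injective e).symm), rfl⟩, fun w hw hs => funext fun i => ?_⟩
    have hwj : w j = 0 := hw j (by simp [hj1.symm, hj.symm, Ne.symm h3])
    by_cases hi : i ∈ ({σ j, σ (σ j), σ (σ (σ j))} : Finset ι)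
    · simp only [Finset.mem_insert, Finset.mem_singleton] at hi
      rcases hi with rfl | rfl | rfl
      exacts [hs _ hwj, hs _ (hs _ hwj), hs _ (hs _ (hs _ hwj))]
    · exact hw i hi

/-- Two zeros of a column separate the coordinates. -/
lemma plane {x : GL ι F} (hx : x ∈ M) {k p r : ι} (hpr : p ≠ r)
    (hp : (x : Matrix ι ι F) p k = 0) (hr : (x : Matrix ι ι F) r k = 0) :
    Fixing M ∨ ∀ a, (x : Matrix ι ι F) p a ≠ 0 → ∀ i, i ≠ p → i ≠ r → (x : Matrix ι ι F) i a = 0 := by
  classical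
  obtain ⟨Φ, hΦ⟩ : ∃ Φ : Fˣ →* GL ι F, ∀ c, Φ c = x⁻¹ * pairD p r c * x := by
    refine ⟨MonoidHom.mk' (fun c => x⁻¹ * pairD p r c * x) fun c c' => ?_, fun c => rfl⟩
    have e : pairD p r (c * c') = pairD p r c * (pairD p r c' : GL ι F) := by
      rw [pairD, pairD, pairD, diagGL, diagGL, diagGL, mono_mul, one_mul]
      congr 1
      funext i
      rw [Equiv.Perm.one_apply]
      split_ifs <;> simp [mul_inv, mul_comm]
    show x⁻¹ * pairD p r (c * c') * x = x⁻¹ * pairD p r c * x * (x⁻¹ * pairD p r c' * x)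
    rw [e]
    group
  have hΦM : ∀ c, Φ c ∈ M := fun c => hΦ c ▸ M.mul_mem (M.mul_mem (M.inv_mem hx) (pairD_mem hmon hpr c)) hx
  have hcol : ∀ c i, i ≠ k → (Φ c : Matrix ι ι F) i k = 0 := by
    intro c i hi
    have e : (Φ c : Matrix ι ι F) *ᵥ Pi.single k 1 = Pi.single k 1 := by
      rw [hΦ, mul_mulVec, mul_mulVec]
      have : (pairD p r c : Matrix ι ι F) *ᵥ ((x : Matrix ι ι F) *ᵥ Pi.single k 1) = (x : Matrix ι ι F) *ᵥ Pi.single k 1 := by
        rw [pairD_mulVec, mulVec_single_one]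
        funext l
        by_cases h1 : l = p
        · subst h1; simp [hp]
        · by_cases h2 : l = r
          · subst h2; simp [hr]
          · simp [h1, h2]
      rw [this, inv_mulVec_cancel]
    have := congrFun e i
    simpa [mulVec_single_one, hi] using this
  by_cases hall : ∃ c, ¬ IsMono (Φ c)
  · obtain ⟨c, hc⟩ := hall
    exact Or.inl ⟨k, Φ c, hΦM c, hc, hcol c⟩
  simp only [not_exists, not_not] at hall
  obtain ⟨c0, hc0⟩ := IsCyclic.exists_generator (α := Fˣ)
  have hord : orderOf c0 = Fintype.card F - 1 := by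
    rw [orderOf_eq_card_of_forall_mem_zpowers hc0, Nat.card_eq_fintype_card, Fintype.card_units]
  obtain ⟨σ, e0, hσ⟩ := (hall c0).exists_mono
  have hsmall := perm_small hmon hq σ e0 hpr x fun y hyp hyr => by
    rw [← hσ, hΦ, mul_mulVec, mul_mulVec, mulVec_inv_cancel]
    congr 1
    rw [pairD_mulVec]
    funext l
    by_cases h1 : l = p
    · subst h1; simp [hyp]
    · by_cases h2 : l = r
      · subst h2; simp [hyr]
      · simp [h1, h2]
  obtain ⟨j, hj, hj4⟩ : ∃ j, σ ^ j = 1 ∧ (j = 2 ∨ j = 3) := by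
    rcases hsmall with h | h
    exacts [⟨2, h, Or.inl rfl⟩, ⟨3, h, Or.inr rfl⟩]
  have hpow : ∀ j : ℕ, ∃ e, Φ c0 ^ j = mono (σ ^ j) e := by
    intro j
    induction j with
    | zero => exact ⟨1, by rw [pow_zero, pow_zero, mono_one]⟩
    | succ j ih =>
      obtain ⟨e, he⟩ := ih
      exact ⟨_, by rw [pow_succ, pow_succ, he, hσ, mono_mul]⟩
  obtain ⟨e, he⟩ := hpow j
  rw [hj, ← map_pow, hΦ] at he
  obtain ⟨c, hcdef⟩ : ∃ c, c = c0 ^ j := ⟨_, rfl⟩
  rw [← hcdef, mul_assoc, inv_mul_eq_iff_eq_mul] at he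
  have hc1 : (c : F) ≠ 1 := by
    intro h
    have h1 : orderOf c0 ∣ j := orderOf_dvd_of_pow_eq_one (hcdef ▸ Units.ext h)
    have h2 := Nat.le_of_dvd (by omega) h1
    omega
  have hc2 : ((c⁻¹ : Fˣ) : F) ≠ 1 := fun h => hc1 (by
    rwa [Units.val_inv_eq_inv_val, inv_eq_one] at h)
  have hent : ∀ i a, (((if i = p then c else if i = r then c⁻¹ else 1) : Fˣ) : F) * (x : Matrix ι ι F) i a =
      (x : Matrix ι ι F) i a * e a := by
    intro i a
    have h1 := congrArg (fun g : GL ι F => (g : Matrix ι ι F) i a) he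
    simp only [mul_apply_col, pairD_mulVec] at h1
    rw [h1]
    show ∑ l, (x : Matrix ι ι F) i l * (mono 1 e : Matrix ι ι F) l a = _
    rw [Finset.sum_eq_single a (fun l _ hl => by simp [mono_apply, hl]) (fun h => absurd (Finset.mem_univ a) h)]
    simp [mono_apply]
  refine Or.inr fun a ha i hip hir => ?_
  have h1 := hent p a
  rw [if_pos rfl, mul_comm] at h1
  have hea := mul_left_cancel₀ ha h1
  have h2 := hent i a
  rw [if_neg hip, if_neg hir, Units.val_one, one_mul] at h2
  by_contra hne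
  exact hc1 (hea.trans (mul_left_cancel₀ hne (by rw [← h2, mul_one]) : (e a : F) = 1))

/-- Three zeros in a column. -/
lemma fixing_of_three_zeros {x : GL ι F} (hx : x ∈ M) (hm : ¬ IsMono x) {k p r r' : ι} (hpr : p ≠ r) (hpr' : p ≠ r')
    (hrr' : r ≠ r') (hp : (x : Matrix ι ι F) p k = 0) (hr : (x : Matrix ι ι F) r k = 0)
    (hr' : (x : Matrix ι ι F) r' k = 0) : Fixing M := by
  rcases plane hmon hq hx hpr hp hr with h | h
  · exact h
  rcases plane hmon hq hx hpr' hp hr' with h' | h'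
  · exact h'
  obtain ⟨a, ha⟩ := row_ne_zero x p
  refine fixing_of_coord hmon hx hm (a := a) (b := p) fun i hi => ?_
  by_cases hir : i = r
  · subst hir; exact h' a ha _ hi hrr'
  · exact h a ha i hi hir

/-- Two zeros in a column. -/
lemma fixing_of_two_zeros (hn : 5 ≤ Fintype.card ι) {x : GL ι F} (hx : x ∈ M) (hm : ¬ IsMono x) {k p r : ι}
    (hpr : p ≠ r) (hp : (x : Matrix ι ι F) p k = 0) (hr : (x : Matrix ι ι F) r k = 0) : Fixing M := by
  rcases plane hmon hq hx hpr hp hr with h | h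
  · exact h
  obtain ⟨a, ha⟩ := row_ne_zero x p
  have hcard : 2 < (Finset.univ \ {p, r} : Finset ι).card := by
    rw [Finset.card_sdiff_of_subset (Finset.subset_univ _), Finset.card_univ, Finset.card_pair hpr]; omega
  obtain ⟨u, v, w, hu, hv, hw, huv, huw, hvw⟩ := Finset.two_lt_card_iff.mp hcard
  simp only [Finset.mem_sdiff, Finset.mem_univ, true_and, Finset.mem_insert, Finset.mem_singleton, not_or] at hu hv hw
  exact fixing_of_three_zeros hmon hq hx hm huv huw hvw (h a ha u hu.1 hu.2) (h a ha v hv.1 hv.2) (h a ha w hw.1 hw.2)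

omit hq in
/-- A column without zeros. -/
lemma fixing_of_no_zero (hn : 5 ≤ Fintype.card ι) {x : GL ι F} (hx : x ∈ M) {k : ι}
    (h : ∀ i, (x : Matrix ι ι F) i k ≠ 0) : Fixing M := by
  classical
  obtain ⟨D, hD⟩ : ∃ D : GL ι F, D = diagGL (fun i => Units.mk0 _ (h i)) := ⟨_, rfl⟩
  obtain ⟨Φ, hΦ⟩ : ∃ Φ : alternatingGroup ι →* GL ι F,
      ∀ π : alternatingGroup ι, Φ π = x⁻¹ * (D * mono (π : Equiv.Perm ι) 1 * D⁻¹) * x := by
    refine ⟨MonoidHom.mk' (fun π : alternatingGroup ι => x⁻¹ * (D * mono (π : Equiv.Perm ι) 1 * D⁻¹) * x)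
      fun π π' => ?_, fun _ => rfl⟩
    have e : mono ((π * π' : alternatingGroup ι) : Equiv.Perm ι) (1 : ι → Fˣ) =
        mono (π : Equiv.Perm ι) 1 * mono (π' : Equiv.Perm ι) 1 := by
      rw [mono_mul]; simp only [Subgroup.coe_mul, Pi.one_apply, mul_one]; rfl
    show x⁻¹ * (D * mono ((π * π' : alternatingGroup ι) : Equiv.Perm ι) 1 * D⁻¹) * x = _
    rw [e]
    group
  have hΦM : ∀ π, Φ π ∈ M := by
    intro π
    rw [hΦ]
    refine M.mul_mem (M.mul_mem (M.inv_mem hx) ?_) hx
    have hD' : IsMono D := hD ▸ isMono_mono _ _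
    obtain ⟨σ', d', e'⟩ := ((hD'.mul (isMono_mono (π : Equiv.Perm ι) 1)).mul hD'.inv).exists_mono
    rw [e']
    refine hmon _ _ ?_
    rw [← e', Units.val_mul, Units.val_mul, Matrix.det_units_conj, det_mono,
      Equiv.Perm.mem_alternatingGroup.mp π.2]
    simp
  have hcol : ∀ π i, i ≠ k → (Φ π : Matrix ι ι F) i k = 0 := by
    intro π i hi
    have hones : ((D⁻¹ : GL ι F) : Matrix ι ι F) *ᵥ ((x : Matrix ι ι F) *ᵥ Pi.single k 1) = fun _ => 1 := by
      refine mulVec_injective D ?_
      simp only [mulVec_inv_cancel, mulVec_single_one]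
      rw [hD, diag_mulVec]
      funext l; simp
    have hperm : (mono (π : Equiv.Perm ι) (1 : ι → Fˣ) : Matrix ι ι F) *ᵥ (fun _ => (1 : F)) = fun _ => 1 := by
      funext l
      obtain ⟨l, rfl⟩ := (π : Equiv.Perm ι).surjective l
      rw [mono_mulVec]; simp
    have e : (Φ π : Matrix ι ι F) *ᵥ Pi.single k 1 = Pi.single k 1 := by
      rw [hΦ, mul_mulVec, mul_mulVec, mul_mulVec, mul_mulVec, hones, hperm, ← hones, mulVec_inv_cancel, inv_mulVec_cancel]
    have := congrFun e i
    simpa [mulVec_single_one, hi] using this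
  by_cases hall : ∃ π, ¬ IsMono (Φ π)
  · obtain ⟨π, hπ⟩ := hall
    exact ⟨k, Φ π, hΦM π, hπ, hcol π⟩
  simp only [not_exists, not_not] at hall
  choose ρ e he using fun π => (hall π).exists_mono
  exfalso
  let R : alternatingGroup ι →* Equiv.Perm ι := MonoidHom.mk' ρ fun π π' => by
    have h1 := he (π * π')
    rw [map_mul, he π, he π', mono_mul] at h1
    exact (mono_inj h1).symm
  have hΦinj : Function.Injective Φ := fun π π' h' => by
    rw [hΦ, hΦ] at h'
    exact Subtype.ext (mono_inj (mul_left_cancel (mul_right_cancel (mul_left_cancel (mul_right_cancel h')))))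
  haveI := alternatingGroup.isSimpleGroup (α := ι) (by rwa [Nat.card_eq_fintype_card])
  haveI := alternatingGroup.nontrivial_of_three_le_card (α := ι) (by rw [Nat.card_eq_fintype_card]; omega)
  rcases R.normal_ker.eq_bot_or_eq_top with hb | ht
  · have hfix : ∀ π, ρ π k = k := by
      intro π
      by_contra hne
      have h1 := hcol π _ hne
      rw [he, mono_apply, if_pos rfl] at h1
      exact (e π k).ne_zero h1
    let R' : alternatingGroup ι → {f : Equiv.Perm ι // ∀ a, ¬ (a ≠ k) → f a = a} := fun π =>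
      ⟨R π, fun a ha => by rw [not_not.mp ha]; exact hfix π⟩
    have h1 := Nat.card_le_card_of_injective R' fun π π' h' =>
      (R.ker_eq_bot_iff).mp hb (congrArg Subtype.val h')
    rw [Nat.card_congr (Equiv.Perm.subtypeEquivSubtypePerm (fun a => a ≠ k)).symm, Nat.card_perm,
      Nat.card_eq_fintype_card, Nat.card_eq_fintype_card, Fintype.card_subtype_compl, Fintype.card_subtype_eq] at h1
    haveI : Nontrivial ι := Fintype.one_lt_card_iff_nontrivial.mp (by omega)
    have h2 := two_mul_card_alternatingGroup (α := ι)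
    rw [Fintype.card_perm] at h2
    obtain ⟨m, hm⟩ : ∃ m, Fintype.card ι = m + 1 := ⟨Fintype.card ι - 1, by omega⟩
    rw [hm, Nat.factorial_succ] at h2
    rw [hm, Nat.add_sub_cancel] at h1
    nlinarith [Nat.factorial_pos m]
  · have hdiag : ∀ π, ρ π = 1 := fun π => by
      have : π ∈ R.ker := by rw [ht]; trivial
      exact this
    have hcomm : ∀ π π' : alternatingGroup ι, π * π' = π' * π := fun π π' => hΦinj (by
      rw [map_mul, map_mul, he, he, hdiag, hdiag, mono_mul, mono_mul]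
      congr 1
      funext l
      simp [mul_comm])
    have hc := alternatingGroup.center_eq_bot (α := ι) (by rw [Nat.card_eq_fintype_card]; omega)
    obtain ⟨π, hπ⟩ := exists_ne (1 : alternatingGroup ι)
    have : π ∈ Subgroup.center (alternatingGroup ι) := Subgroup.mem_center_iff.mpr fun g => hcomm g π
    rw [hc, Subgroup.mem_bot] at this
    exact hπ this

end CfsgLib.Classical22.DecompLine
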