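/-
Overgroups of the monomial subgroup of SL(ι, F): a non-monomial member forces a coordinate column.
-/
import Cfsg.Agent.Lib.Classical22.DecompLineCols

set_option autoImplicit false

namespace CfsgLib.Classical22.DecompLine

open Matrix CfsgLib.Transvec CfsgLib.Classical22.Monomial
open scoped MatrixGroups

variable {ι : Type} [Fintype ι] [DecidableEq ι] {F : Type*} [Field F] [Fintype F]

/-- A non-zero scalar avoiding the roots of two non-constant affine functions. -/
lemma exists_avoid_affine (hq : 5 ≤ Fintype.card F) {s1 s2 : F} (k1 k2 : F) (h1 : s1 ≠ 0) (h2 : s2 ≠ 0) :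
    ∃ t : F, t ≠ 0 ∧ s1 * t + k1 ≠ 0 ∧ s2 * t + k2 ≠ 0 := by
  classical
  obtain ⟨t, ht⟩ := exists_notMem ({0, -k1 / s1, -k2 / s2} : Finset F)
    (lt_of_le_of_lt Finset.card_le_three (by omega))
  simp only [Finset.mem_insert, Finset.mem_singleton, not_or] at ht
  refine ⟨t, ht.1, fun e => ht.2.1 ?_, fun e => ht.2.2 ?_⟩
  · rw [eq_div_iff h1]; linear_combination e
  · rw [eq_div_iff h2]; linear_combination e

/-- One equation with non-vanishing unknowns. -/
lemma one_row (hq : 5 ≤ Fintype.card F) (c : ι → F) {r1 r2 : ι} (h12 : r1 ≠ r2) (h1 : c r1 ≠ 0) (h2 : c r2 ≠ 0)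
    (f : ι → Fˣ) : ∃ d : ι → Fˣ, (∀ r, r ∉ ({r1, r2} : Finset ι) → d r = f r) ∧ ∑ r, c r * d r = 0 := by
  obtain ⟨K, hK⟩ : ∃ K, K = ∑ r ∈ Finset.univ \ {r1, r2}, c r * f r := ⟨_, rfl⟩
  obtain ⟨t, ht, ht1, -⟩ := exists_avoid_affine hq K K h1 h1
  refine ⟨Function.update (Function.update f r1 (Units.mk0 t ht)) r2
    (Units.mk0 (-(c r1 * t + K) / c r2) (div_ne_zero (neg_ne_zero.mpr ht1) h2)), fun r hr => ?_, ?_⟩
  · simp only [Finset.mem_insert, Finset.mem_singleton, not_or] at hr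
    rw [Function.update_of_ne hr.2, Function.update_of_ne hr.1]
  · rw [← Finset.sum_sdiff (Finset.subset_univ {r1, r2}), Finset.sum_pair h12]
    rw [Finset.sum_congr rfl (g := fun r => c r * f r) fun r hr => by
      simp only [Finset.mem_sdiff, Finset.mem_univ, true_and, Finset.mem_insert, Finset.mem_singleton, not_or] at hr
      rw [Function.update_of_ne hr.2, Function.update_of_ne hr.1], ← hK, Function.update_self,
      Function.update_of_ne h12, Function.update_self, Units.val_mk0, Units.val_mk0, mul_div_cancel₀ _ h2]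
    ring

/-- Two equations with non-vanishing unknowns. -/
lemma two_rows (hq : 5 ≤ Fintype.card F) (a b : ι → F) {r1 r2 r3 : ι} (h12 : r1 ≠ r2) (h13 : r1 ≠ r3) (h23 : r2 ≠ r3)
    (m12 : a r1 * b r2 - a r2 * b r1 ≠ 0) (m13 : a r1 * b r3 - a r3 * b r1 ≠ 0)
    (m23 : a r2 * b r3 - a r3 * b r2 ≠ 0) (f : ι → Fˣ) :
    ∃ d : ι → Fˣ, (∀ r, r ∉ ({r1, r2, r3} : Finset ι) → d r = f r) ∧
      ∑ r, a r * d r = 0 ∧ ∑ r, b r * d r = 0 := by
  obtain ⟨Ka, hKa⟩ : ∃ K, K = ∑ r ∈ Finset.univ \ {r1, r2, r3}, a r * f r := ⟨_, rfl⟩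
  obtain ⟨Kb, hKb⟩ : ∃ K, K = ∑ r ∈ Finset.univ \ {r1, r2, r3}, b r * f r := ⟨_, rfl⟩
  obtain ⟨t, ht, ht1, ht2⟩ := exists_avoid_affine hq (Kb * a r2 - Ka * b r2) (Ka * b r1 - Kb * a r1) m23
    (s2 := a r3 * b r1 - a r1 * b r3) (fun e => m13 (by linear_combination -e))
  obtain ⟨u1, hu1⟩ : ∃ u : Fˣ, (u : F) = ((a r2 * b r3 - a r3 * b r2) * t + (Kb * a r2 - Ka * b r2)) /
      (a r1 * b r2 - a r2 * b r1) := ⟨Units.mk0 _ (div_ne_zero ht1 m12), rfl⟩
  obtain ⟨u2, hu2⟩ : ∃ u : Fˣ, (u : F) = ((a r3 * b r1 - a r1 * b r3) * t + (Ka * b r1 - Kb * a r1)) /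
      (a r1 * b r2 - a r2 * b r1) := ⟨Units.mk0 _ (div_ne_zero ht2 m12), rfl⟩
  obtain ⟨d, hd⟩ : ∃ d, d = Function.update (Function.update (Function.update f r1 u1) r2 u2) r3 (Units.mk0 t ht) :=
    ⟨_, rfl⟩
  refine ⟨d, fun r hr => ?_, ?_⟩
  · simp only [Finset.mem_insert, Finset.mem_singleton, not_or] at hr
    rw [hd, Function.update_of_ne hr.2.2, Function.update_of_ne hr.2.1, Function.update_of_ne hr.1]
  · have hs : ∀ c : ι → F, ∑ r, c r * d r =
        (∑ r ∈ Finset.univ \ {r1, r2, r3}, c r * f r) + (c r1 * u1 + (c r2 * u2 + c r3 * t)) := by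
      intro c
      rw [← Finset.sum_sdiff (Finset.subset_univ {r1, r2, r3}), Finset.sum_insert (by simp [h12, h13]),
        Finset.sum_pair h23]
      refine congrArg₂ (· + ·) (Finset.sum_congr rfl fun r hr => ?_) ?_
      · simp only [Finset.mem_sdiff, Finset.mem_univ, true_and, Finset.mem_insert, Finset.mem_singleton, not_or] at hr
        rw [hd, Function.update_of_ne hr.2.2, Function.update_of_ne hr.2.1, Function.update_of_ne hr.1]
      · rw [hd, Function.update_of_ne h13, Function.update_of_ne h12, Function.update_self, Function.update_of_ne h23,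
          Function.update_self, Function.update_self, Units.val_mk0]
    obtain ⟨D, hD⟩ : ∃ D, D = a r1 * b r2 - a r2 * b r1 := ⟨_, rfl⟩
    rw [← hD] at m12 hu1 hu2
    rw [hs a, hs b, ← hKa, ← hKb, hu1, hu2]
    constructor
    · field_simp
      rw [hD]
      ring
    · field_simp
      rw [hD]
      ring

variable {M : Subgroup (GL ι F)} (hmon : ∀ σ d, (mono σ d : Matrix ι ι F).det = 1 → mono σ d ∈ M)
  (hq : 5 ≤ Fintype.card F) (hn : 9 ≤ Fintype.card ι)
include hmon hq hn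

/-- Without a coordinate column every column has exactly one zero. -/
lemma unique_zero (hF : ¬ Fixing M) {x : GL ι F} (hx : x ∈ M) (hm : ¬ IsMono x) (k : ι) :
    ∃! p, (x : Matrix ι ι F) p k = 0 := by
  by_cases h : ∃ p, (x : Matrix ι ι F) p k = 0
  · obtain ⟨p, hp⟩ := h
    exact ⟨p, hp, fun r hr => by_contra fun e => hF (fixing_of_two_zeros hmon hq (by omega) hx hm e hr hp)⟩
  · simp only [not_exists] at h
    exact (hF (fixing_of_no_zero hmon (by omega) hx h)).elim

/-- A non-monomial member forces a coordinate column. -/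
theorem fixing_of_not_isMono {x : GL ι F} (hx : x ∈ M) (hm : ¬ IsMono x) : Fixing M := by
  classical
  by_contra hF
  have hq1 : 4 ≤ Fintype.card Fˣ := by rw [Fintype.card_units]; omega
  have hx' : x⁻¹ ∈ M := M.inv_mem hx
  have hm' : ¬ IsMono x⁻¹ := not_isMono_inv hm
  have huniq : ∀ r, ∃! i, ((x⁻¹ : GL ι F) : Matrix ι ι F) i r = 0 := fun r => unique_zero hmon hq hn hF hx' hm' r
  choose σ hσ hσu using huniq
  obtain ⟨k⟩ : Nonempty ι := Fintype.card_pos_iff.mp (by omega)
  obtain ⟨p, hp, hpu⟩ := unique_zero hmon hq hn hF hx hm k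
  have hv : ∀ r, r ≠ p → (x : Matrix ι ι F) r k ≠ 0 := fun r hr e => hr (hpu r e)
  obtain ⟨c, hc⟩ : ∃ c : ι → ι → F, ∀ i r, c i r = ((x⁻¹ : GL ι F) : Matrix ι ι F) i r * (x : Matrix ι ι F) r k :=
    ⟨_, fun _ _ => rfl⟩
  have hc0 : ∀ r, c (σ r) r = 0 := fun r => by rw [hc, hσ r, zero_mul]
  have hcne : ∀ i r, r ≠ p → i ≠ σ r → c i r ≠ 0 := fun i r hr hi =>
    hc i r ▸ mul_ne_zero (fun e => hi (hσu r i e)) (hv r hr)
  have hsum : ∀ i, ∑ r, c i r = if i = k then 1 else 0 := by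
    intro i
    have h1 := congrArg (fun g : GL ι F => (g : Matrix ι ι F) i k) (inv_mul_cancel x)
    simp only [Units.val_mul, Units.val_one, Matrix.mul_apply, Matrix.one_apply] at h1
    rw [← h1]
    exact Finset.sum_congr rfl fun r _ => hc i r
  -- what the conjugated diagonal elements say about the combinations
  have key : ∀ d : ι → Fˣ, (∀ i j, ∑ r, c i r * d r = 0 → ∑ r, c j r * d r = 0 → i = j) ∨
      ∃ l, ∀ i, i ≠ l → ∑ r, c i r * d r = 0 := by
    intro d
    obtain ⟨e, he, hdet⟩ := exists_det_one (1 : Equiv.Perm ι) d p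
    have hy : x⁻¹ * mono 1 e * x ∈ M := M.mul_mem (M.mul_mem hx' (hmon _ _ hdet)) hx
    have hcol : ∀ i, ((x⁻¹ * mono 1 e * x : GL ι F) : Matrix ι ι F) i k = ∑ r, c i r * d r := by
      intro i
      rw [mul_assoc, mul_apply_col]
      refine Finset.sum_congr rfl fun r _ => ?_
      show ((x⁻¹ : GL ι F) : Matrix ι ι F) i r * ((mono 1 e * x : GL ι F) : Matrix ι ι F) r k = _
      rw [mul_apply_col, show (mono 1 e : GL ι F) = diagGL e from rfl, diag_mulVec, hc]
      show _ * ((e r : F) * (x : Matrix ι ι F) r k) = _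
      by_cases hr : r = p
      · rw [hr, hp]; simp only [mul_zero, zero_mul]
      · rw [he r hr]; ring
    by_cases hym : IsMono (x⁻¹ * mono 1 e * x)
    · obtain ⟨l, hl⟩ := hym k
      exact Or.inr ⟨l, fun i hi => (hcol i) ▸ hl i hi⟩
    · obtain ⟨z, -, hz⟩ := unique_zero hmon hq hn hF hy hym k
      exact Or.inl fun i j hi hj => (hz i ((hcol i).trans hi)).trans (hz j ((hcol j).trans hj)).symm
  -- a large family of combinations with two zeros
  suffices hfam : ∃ (R : Finset ι) (i j : ι), R.card ≤ 3 ∧ i ≠ j ∧ ∀ f : ι → Fˣ, ∃ d : ι → Fˣ,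
      (∀ r, r ∉ R → d r = f r) ∧ ∑ r, c i r * d r = 0 ∧ ∑ r, c j r * d r = 0 by
    obtain ⟨R, i, j, hR, hij, hfam⟩ := hfam
    obtain ⟨S, hS⟩ : ∃ S, S = insert p R := ⟨_, rfl⟩
    choose D hD1 hD2 hD3 using hfam
    let ext' : ({r // r ∉ S} → Fˣ) → ι → Fˣ := fun g r => if h : r ∉ S then g ⟨r, h⟩ else 1
    have hl : ∀ g, ∃ l, ∀ i, i ≠ l → ∑ r, c i r * D (ext' g) r = 0 := fun g =>
      (key (D (ext' g))).resolve_left fun h => hij (h i j (hD2 _) (hD3 _))
    choose L hL using hl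
    have hinj : Function.Injective (fun g => (L g, ∑ r, c (L g) r * D (ext' g) r)) := by
      intro g g' hgg
      obtain ⟨hl1, hl2⟩ := Prod.mk.inj hgg
      have hu : ((x⁻¹ : GL ι F) : Matrix ι ι F) *ᵥ (fun r => (x : Matrix ι ι F) r k * D (ext' g) r) =
          ((x⁻¹ : GL ι F) : Matrix ι ι F) *ᵥ (fun r => (x : Matrix ι ι F) r k * D (ext' g') r) := by
        funext i
        have e : ∀ g, (((x⁻¹ : GL ι F) : Matrix ι ι F) *ᵥ (fun r => (x : Matrix ι ι F) r k * D (ext' g) r)) i =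
            ∑ r, c i r * D (ext' g) r := fun g =>
          Finset.sum_congr rfl fun r _ => by rw [hc, mul_assoc]
        rw [e, e]
        by_cases hi : i = L g
        · rw [hi]; conv_rhs => rw [hl1]
          exact hl2
        · rw [hL g i hi, hL g' i (hl1 ▸ hi)]
      funext r
      have hrp : (r : ι) ≠ p := fun e => r.2 (by
        have h0 := Finset.mem_insert_self p R; rw [← hS] at h0; exact e ▸ h0)
      have hrR : (r : ι) ∉ R := fun e => r.2 (by
        have h0 := Finset.mem_insert_of_mem (b := p) e; rwa [← hS] at h0)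
      have h1 := mul_left_cancel₀ (hv r hrp) (congrFun (mulVec_injective x⁻¹ hu) r)
      have h2 := Units.ext h1
      rw [hD1 _ _ hrR, hD1 _ _ hrR] at h2
      simpa [ext', r.2] using h2
    have h1 := Fintype.card_le_of_injective _ hinj
    rw [Fintype.card_fun, Fintype.card_prod, Fintype.card_units, Fintype.card_subtype_compl, Fintype.card_coe] at h1
    have hScard : S.card ≤ 4 := hS ▸ (Finset.card_insert_le _ _).trans (by omega)
    have h2 : (Fintype.card F - 1) ^ (Fintype.card ι - 4) ≤ (Fintype.card F - 1) ^ (Fintype.card ι - S.card) :=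
      Nat.pow_le_pow_right (by omega) (by omega)
    obtain ⟨m, hm⟩ : ∃ m, Fintype.card ι = m + 6 := ⟨Fintype.card ι - 6, by omega⟩
    obtain ⟨s, hs⟩ : ∃ s, Fintype.card F = s + 1 := ⟨Fintype.card F - 1, by omega⟩
    rw [hm, hs, Nat.add_sub_cancel] at h2
    rw [hs, hm, Nat.add_sub_cancel] at h1
    rw [show m + 6 - 4 = m + 2 by omega] at h2
    have h3 : 4 ^ m ≤ s ^ m := Nat.pow_le_pow_left (by omega) m
    have h4 : m + 6 < 4 ^ m := by
      have h6 : ∀ j, j + 9 < 4 ^ (j + 3) := fun j => by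
        induction j with
        | zero => norm_num
        | succ j ih => rw [pow_succ]; omega
      have := h6 (m - 3)
      rw [show m - 3 + 3 = m by omega] at this
      omega
    have h5 : (m + 6) * (s + 1) < 4 ^ m * (s * s) :=
      Nat.mul_lt_mul_of_lt_of_le h4 (by nlinarith) (by nlinarith)
    have h7 : (m + 6) * (s + 1) < s ^ (m + 2) := lt_of_lt_of_le h5 (by
      rw [show s ^ (m + 2) = s ^ m * (s * s) by ring]
      exact Nat.mul_le_mul_right _ h3)
    omega
  -- choosing the two rows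
  obtain ⟨r0, hr0⟩ : ∃ r0, r0 ≠ p := Fintype.exists_ne_of_one_lt_card (by omega) p
  by_cases hconst : ∀ r, r ≠ p → σ r = σ r0
  · obtain ⟨j, hj⟩ : ∃ j, j ≠ σ r0 := Fintype.exists_ne_of_one_lt_card (by omega) _
    obtain ⟨r1, hr1⟩ : ∃ r1, r1 ∉ ({p, r0} : Finset ι) := by
      by_contra hcon
      simp only [not_exists, not_not] at hcon
      have := Finset.card_le_card (fun i (_ : i ∈ Finset.univ) => hcon i)
      rw [Finset.card_univ] at this
      have := Finset.card_le_two (a := p) (b := r0)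
      omega
    simp only [Finset.mem_insert, Finset.mem_singleton, not_or] at hr1
    refine ⟨{r0, r1}, σ r0, j, Finset.card_le_two.trans (by omega), hj.symm, fun f => ?_⟩
    obtain ⟨d, hd1, hd2⟩ := one_row hq (c j) (Ne.symm hr1.2) (hcne j r0 hr0 hj)
      (hcne j r1 hr1.1 (hconst r1 hr1.1 ▸ hj)) f
    refine ⟨d, hd1, Finset.sum_eq_zero fun r _ => ?_, hd2⟩
    by_cases hr : r = p
    · rw [hr, hc, hp, mul_zero, zero_mul]
    · rw [← hconst r hr, hc0, zero_mul]
  simp only [not_forall] at hconst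
  obtain ⟨r1, hr1, hσ1⟩ := hconst
  have h01 : r0 ≠ r1 := fun e => hσ1 (e ▸ rfl)
  obtain ⟨r2, hr2⟩ : ∃ r2, r2 ∉ ({p, r0, r1} : Finset ι) := by
    by_contra hcon
    simp only [not_exists, not_not] at hcon
    have := Finset.card_le_card (fun i (_ : i ∈ Finset.univ) => hcon i)
    rw [Finset.card_univ] at this
    have := Finset.card_le_three (a := p) (b := r0) (c := r1)
    omega
  simp only [Finset.mem_insert, Finset.mem_singleton, not_or] at hr2
  obtain ⟨hr2p, hr20, hr21⟩ := hr2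
  -- two columns with a common zero and a third with another one
  have two_class : ∀ a b b' : ι, a ≠ p → b ≠ p → b' ≠ p → b ≠ b' → σ b = σ b' → σ a ≠ σ b →
      ∃ (R : Finset ι) (i j : ι), R.card ≤ 3 ∧ i ≠ j ∧ ∀ f : ι → Fˣ, ∃ d : ι → Fˣ,
        (∀ r, r ∉ R → d r = f r) ∧ ∑ r, c i r * d r = 0 ∧ ∑ r, c j r * d r = 0 := by
    intro a b b' ha hb hb' hbb hsame hdiff
    obtain ⟨l, hl⟩ : ∃ l, c (σ a) b * c l b' - c (σ a) b' * c l b ≠ 0 := by
      by_contra hcon
      simp only [not_exists, not_not] at hcon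
      obtain ⟨w, hw⟩ : ∃ w : ι → F, w = Pi.single b' (c (σ a) b * (x : Matrix ι ι F) b' k) -
          Pi.single b (c (σ a) b' * (x : Matrix ι ι F) b k) := ⟨_, rfl⟩
      have h1 : ((x⁻¹ : GL ι F) : Matrix ι ι F) *ᵥ w = 0 := by
        funext l
        rw [hw, mulVec_sub, Pi.sub_apply, mulVec_single, mulVec_single, Pi.zero_apply]
        have := hcon l
        rw [hc l b', hc l b] at this
        simp only [Pi.smul_apply, Matrix.col_apply, MulOpposite.smul_eq_mul_unop, MulOpposite.unop_op]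
        linear_combination this
      have h2 := congrFun (mulVec_injective x⁻¹ (h1.trans (mulVec_zero _).symm)) b'
      rw [hw, Pi.sub_apply, Pi.single_eq_same, Pi.single_eq_of_ne (Ne.symm hbb), sub_zero, Pi.zero_apply] at h2
      exact mul_ne_zero (hcne _ _ hb hdiff) (hv b' hb') h2
    have hla : l ≠ σ a := fun e => hl (by rw [e]; ring)
    have hlb : l ≠ σ b := fun e => hl (by
      rw [e, hc0 b, show c (σ b) b' = 0 by rw [hsame]; exact hc0 b']; ring)
    refine ⟨{a, b, b'}, σ a, l, Finset.card_le_three, hla.symm, fun f => two_rows hq (c (σ a)) (c l)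
      (fun e => hdiff (congrArg σ e)) (fun e => hdiff (by rw [e, ← hsame])) hbb ?_ ?_ hl f⟩
    · rw [hc0 a, zero_mul, zero_sub, neg_ne_zero]
      exact mul_ne_zero (hcne _ _ hb hdiff) (hcne _ _ ha hla)
    · rw [hc0 a, zero_mul, zero_sub, neg_ne_zero]
      exact mul_ne_zero (hcne _ _ hb' (hsame ▸ hdiff)) (hcne _ _ ha hla)
  by_cases e0 : σ r2 = σ r0
  · exact two_class r1 r0 r2 hr1 hr0 hr2p (Ne.symm hr20) e0.symm hσ1
  by_cases e1 : σ r2 = σ r1
  · exact two_class r0 r1 r2 hr0 hr1 hr2p (Ne.symm hr21) e1.symm (fun e => hσ1 e.symm)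
  refine ⟨{r0, r1, r2}, σ r0, σ r1, Finset.card_le_three, fun e => hσ1 e.symm,
    fun f => two_rows hq (c (σ r0)) (c (σ r1)) h01 (Ne.symm hr20) (Ne.symm hr21) ?_ ?_ ?_ f⟩
  · rw [hc0 r0, zero_mul, zero_sub, neg_ne_zero]
    exact mul_ne_zero (hcne _ _ hr1 (fun e => hσ1 e.symm)) (hcne _ _ hr0 hσ1)
  · rw [hc0 r0, zero_mul, zero_sub, neg_ne_zero]
    exact mul_ne_zero (hcne _ _ hr2p (fun e => e0 e.symm)) (hcne _ _ hr0 hσ1)
  · rw [hc0 r1, mul_zero, sub_zero]
    exact mul_ne_zero (hcne _ _ hr1 (fun e => hσ1 e.symm)) (hcne _ _ hr2p (fun e => e1 e.symm))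

end CfsgLib.Classical22.DecompLine
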