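/-
A subgroup of SL(ι, F) properly containing the monomial subgroup is SL(ι, F).
-/
import Cfsg.Agent.Lib.Classical22.DecompLineFix
import Cfsg.Agent.Lib.Classical.SLBasic

set_option autoImplicit false

namespace CfsgLib.Classical22.DecompLine

open Matrix CfsgLib.Transvec CfsgLib.Classical22.Monomial
open scoped MatrixGroups

variable {ι : Type} [Fintype ι] [DecidableEq ι] {F : Type*} [Field F]

/-- The stabiliser of a coordinate line. -/
def lineStab (k : ι) : Subgroup (GL ι F) where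
  carrier := {g | ∀ i, i ≠ k → (g : Matrix ι ι F) i k = 0}
  mul_mem' {g h} hg hh := fun i hi => by
    rw [Units.val_mul, Matrix.mul_apply, Finset.sum_eq_zero]
    intro l _
    by_cases hl : l = k
    · rw [hl, hg i hi, zero_mul]
    · rw [hh l hl, mul_zero]
  one_mem' := fun i hi => by simp [hi]
  inv_mem' {g} hg := fun i hi => by
    have e : (g : Matrix ι ι F) *ᵥ Pi.single k 1 = (g : Matrix ι ι F) k k • (Pi.single k 1 : ι → F) := by
      funext l
      by_cases hl : l = k
      · subst hl; simp [mulVec_single_one]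
      · simp [mulVec_single_one, hl, hg l hl]
    have h1 := congrArg (((g⁻¹ : GL ι F) : Matrix ι ι F) *ᵥ ·) e
    simp only [inv_mulVec_cancel, mulVec_smul] at h1
    simp only [mulVec_single_one] at h1
    have h2 := congrFun h1 i
    rw [Pi.single_eq_of_ne hi, Pi.smul_apply, smul_eq_mul] at h2
    rcases mul_eq_zero.mp h2.symm with h3 | h3
    · exfalso
      have h4 := congrFun h1 k
      rw [Pi.single_eq_same, Pi.smul_apply, smul_eq_mul, h3, zero_mul] at h4
      exact one_ne_zero h4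
    · exact h3

/-- Deleting the row and column of `k`. -/
noncomputable def sub (k : ι) : lineStab (F := F) k →* GL {i // i ≠ k} F :=
  MonoidHom.toHomUnits
    { toFun := fun g => ((g : GL ι F) : Matrix ι ι F).submatrix Subtype.val Subtype.val
      map_one' := by ext i j; simp [Matrix.one_apply, Subtype.val_inj]
      map_mul' := fun g h => by
        ext i j
        rw [Subgroup.coe_mul, Units.val_mul, Matrix.submatrix_apply, Matrix.mul_apply, Matrix.mul_apply,
          ← Finset.add_sum_erase _ _ (Finset.mem_univ k), g.2 (i : ι) i.2, zero_mul, zero_add]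
        exact Finset.sum_subtype (Finset.univ.erase k) (fun x => by simp)
          (fun l => ((g : GL ι F) : Matrix ι ι F) i l * ((h : GL ι F) : Matrix ι ι F) l j) }

lemma sub_apply (k : ι) (g : lineStab (F := F) k) (i j : {i // i ≠ k}) :
    (sub k g : Matrix {i // i ≠ k} {i // i ≠ k} F) i j = ((g : GL ι F) : Matrix ι ι F) i j := rfl

lemma transv_mem_lineStab (k : ι) {v φ : ι → F} (hd : φ ⬝ᵥ v = 0) (hφ : φ k = 0) : transv v φ ∈ lineStab k :=
  fun i hi => by rw [transv_val hd, Matrix.add_apply, Matrix.one_apply_ne hi, vecMulVec_apply, hφ, mul_zero, add_zero]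

lemma eq_transv_of_sub_one {k : ι} (g : lineStab (F := F) k) (hs : (g : GL ι F) ∈ Cfsg.Geo.specialLinear ι F)
    (h : sub k g = 1) : ∃ ρ : ι → F, ρ k = 0 ∧ (g : GL ι F) = transv (Pi.single k 1) ρ := by
  obtain ⟨ρ, hρ⟩ : ∃ ρ : ι → F, ρ = fun j => ((g : GL ι F) : Matrix ι ι F) k j - (1 : Matrix ι ι F) k j := ⟨_, rfl⟩
  have hval : ((g : GL ι F) : Matrix ι ι F) = 1 + vecMulVec (Pi.single k 1) ρ := by
    ext i j
    rw [Matrix.add_apply, vecMulVec_apply]
    by_cases hi : i = k
    · subst hi; rw [Pi.single_eq_same, one_mul, hρ]; ring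
    · rw [Pi.single_eq_of_ne hi, zero_mul, add_zero]
      by_cases hj : j = k
      · subst hj; rw [g.2 i hi, Matrix.one_apply_ne hi]
      · have := congrArg (fun x : GL {i // i ≠ k} F => (x : Matrix {i // i ≠ k} {i // i ≠ k} F) ⟨i, hi⟩ ⟨j, hj⟩) h
        simpa [sub_apply, Matrix.one_apply] using this
  have hdet := (mem_specialLinear_iff _).mp hs
  rw [hval, vecMulVec_eq Unit, det_one_add_replicateCol_mul_replicateRow, add_eq_left, dotProduct_single, mul_one] at hdet
  refine ⟨ρ, hdet, Units.ext ?_⟩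
  rw [hval, transv_val (by rw [dotProduct_single, hdet, zero_mul])]

variable [Fintype F] {M : Subgroup (GL ι F)} (hmon : ∀ σ d, (mono σ d : Matrix ι ι F).det = 1 → mono σ d ∈ M)
  (hq : 5 ≤ Fintype.card F) (hn : 9 ≤ Fintype.card ι)
include hmon hq hn

/-- Conjugating by a diagonal element and dividing. -/
lemma diff_mem {k : ι} {ρ : ι → F} (hρk : ρ k = 0) (hT : transv (Pi.single k 1) ρ ∈ M) {b l : ι} (hbl : b ≠ l)
    (hbk : b ≠ k) (hlk : l ≠ k) (c : Fˣ) :
    transv (Pi.single k 1) (Pi.single b ((((c⁻¹ : Fˣ) : F) - 1) * ρ b) + Pi.single l (((c : F) - 1) * ρ l)) ∈ M := by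
  have hd : ρ ⬝ᵥ Pi.single k 1 = 0 := by rw [dotProduct_single, hρk, zero_mul]
  have h1 := M.mul_mem (M.mul_mem (pairD_mem hmon hbl c) hT) (M.inv_mem (pairD_mem hmon hbl c))
  rw [pairD, conj_diag_transv _ hd] at h1
  have h2 := M.mul_mem (M.inv_mem hT) h1
  have e1 : (fun i => (((if i = b then c else if i = l then c⁻¹ else 1) : Fˣ) : F) * (Pi.single k 1 : ι → F) i) =
      Pi.single k 1 := by
    funext i
    by_cases hi : i = k
    · subst hi; simp [Ne.symm hbk, Ne.symm hlk]
    · simp [hi]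
  have e2 : (fun i => ρ i * (((if i = b then c else if i = l then c⁻¹ else 1)⁻¹ : Fˣ) : F)) =
      ρ + (Pi.single b ((((c⁻¹ : Fˣ) : F) - 1) * ρ b) + Pi.single l (((c : F) - 1) * ρ l)) := by
    funext i
    by_cases hib : i = b
    · subst hib; simp [hbl]; ring
    · by_cases hil : i = l
      · subst hil; simp [hib]; ring
      · simp [hib, hil]
  rw [e1, e2, ← transv_mul hd (by simp [dotProduct_single, hbk.symm, hlk.symm]), inv_mul_cancel_left] at h2
  exact h2

lemma el_of_line {k : ι} {ρ : ι → F} (hρk : ρ k = 0) (hρ : ρ ≠ 0) (hT : transv (Pi.single k 1) ρ ∈ M) : El M := by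
  obtain ⟨t, ht, -, -⟩ := exists_unit_ne hq
  have ht' : ((t⁻¹ : Fˣ) : F) - 1 ≠ 0 := sub_ne_zero.mpr fun e => ht (by
    rwa [Units.val_inv_eq_inv_val, inv_eq_one] at e)
  obtain ⟨b, hb⟩ := Function.ne_iff.mp hρ
  have hbk : b ≠ k := fun e => hb (e ▸ hρk)
  have hpick : ∀ s : Finset ι, s.card ≤ 3 → ∃ l, l ∉ s := fun s hs => by
    by_contra hcon
    simp only [not_exists, not_not] at hcon
    have := Finset.card_le_card (fun i (_ : i ∈ Finset.univ) => hcon i)
    rw [Finset.card_univ] at this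
    omega
  obtain ⟨l, hl⟩ := hpick {k, b} (Finset.card_le_two.trans (by omega))
  simp only [Finset.mem_insert, Finset.mem_singleton, not_or] at hl
  obtain ⟨δ, hδ⟩ : ∃ δ : ι → F, δ = Pi.single b ((((t⁻¹ : Fˣ) : F) - 1) * ρ b) + Pi.single l (((t : F) - 1) * ρ l) :=
    ⟨_, rfl⟩
  have h1 : transv (Pi.single k 1) δ ∈ M := hδ ▸ diff_mem hmon hq hn hρk hT (Ne.symm hl.2) hbk hl.1 t
  obtain ⟨l', hl'⟩ := hpick {k, b, l} Finset.card_le_three
  simp only [Finset.mem_insert, Finset.mem_singleton, not_or] at hl'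
  have hδk : δ k = 0 := by simp [hδ, hbk.symm, Ne.symm hl.1]
  have h2 := diff_mem hmon hq hn hδk h1 (Ne.symm hl'.2.1) hbk hl'.1 t
  have e1 : δ l' = 0 := by simp [hδ, hl'.2.1, hl'.2.2]
  have e2 : δ b = (((t⁻¹ : Fˣ) : F) - 1) * ρ b := by simp [hδ, Ne.symm hl.2]
  rw [e1, mul_zero, Pi.single_zero, add_zero, e2] at h2
  exact ⟨k, b, _, hbk.symm, mul_ne_zero ht' (mul_ne_zero ht' hb), h2⟩

/-- A coordinate column and a non-monomial member give an elementary transvection. -/
lemma el_of_fixing (hM : M ≤ Cfsg.Geo.specialLinear ι F) (hF : Fixing M) : El M := by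
  classical
  obtain ⟨k, x, hxM, hxm, hxk⟩ := hF
  obtain ⟨R, hR⟩ : ∃ R, R = (M.subgroupOf (lineStab k)).map (sub (F := F) k) := ⟨_, rfl⟩
  have hfull : ∀ (π : Equiv.Perm {i // i ≠ k}) (d : {i // i ≠ k} → Fˣ), ∃ g : lineStab (F := F) k,
      (g : GL ι F) ∈ M ∧ IsMono (g : GL ι F) ∧ sub k g = mono π d := by
    intro π d
    obtain ⟨e, he, hdet⟩ := exists_det_one (Equiv.Perm.ofSubtype π) (fun i => if h : i ≠ k then d ⟨i, h⟩ else 1) k
    have hk : Equiv.Perm.ofSubtype π k = k := Equiv.Perm.ofSubtype_apply_of_not_mem π (by simp)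
    have hmem : mono (Equiv.Perm.ofSubtype π) e ∈ lineStab k := fun i hi => by
      rw [mono_apply, hk, if_neg hi]
    refine ⟨⟨_, hmem⟩, hmon _ _ hdet, isMono_mono _ _, Units.ext (Matrix.ext fun i j => ?_)⟩
    rw [sub_apply, mono_apply, mono_apply, Equiv.Perm.ofSubtype_apply_coe, he _ j.2, dif_pos j.2]
    by_cases h : i = π j
    · rw [if_pos h, if_pos (by rw [h])]
    · rw [if_neg h, if_neg (fun e => h (Subtype.ext e))]
  have hfullR : ∀ (π : Equiv.Perm {i // i ≠ k}) (d : {i // i ≠ k} → Fˣ), mono π d ∈ R := fun π d => by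
    obtain ⟨g, hg, -, hg'⟩ := hfull π d
    rw [hR]
    exact ⟨g, hg, hg'⟩
  have hpick : ∀ s : Finset ι, s.card ≤ 4 → ∃ l, l ∉ s := fun s hs => by
    by_contra hcon
    simp only [not_exists, not_not] at hcon
    have := Finset.card_le_card (fun i (_ : i ∈ Finset.univ) => hcon i)
    rw [Finset.card_univ] at this
    omega
  by_cases hxs : IsMono (sub k ⟨x, hxk⟩)
  · obtain ⟨π, d, hπ⟩ := hxs.exists_mono
    obtain ⟨m, hmM, hmm, hm⟩ := hfull π d
    obtain ⟨ρ, hρk, hρ⟩ := eq_transv_of_sub_one (m⁻¹ * ⟨x, hxk⟩) (hM (M.mul_mem (M.inv_mem hmM) hxM))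
      (by rw [map_mul, map_inv, hm, hπ, inv_mul_cancel])
    rw [Subgroup.coe_mul, Subgroup.coe_inv] at hρ
    refine el_of_line hmon hq hn hρk (fun e => hxm ?_) (hρ ▸ M.mul_mem (M.inv_mem hmM) hxM)
    rw [e, transv_zero, inv_mul_eq_one] at hρ
    exact (show (m : GL ι F) = x from hρ) ▸ hmm
  obtain ⟨a, b, c, hab, hc, hT⟩ := el_of_not_isMono hq hfullR
    (by rw [Fintype.card_subtype_compl, Fintype.card_subtype_eq]; omega)
    (show sub k ⟨x, hxk⟩ ∈ R by rw [hR]; exact ⟨⟨x, hxk⟩, hxM, rfl⟩) hxs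
  rw [hR] at hT
  obtain ⟨y, hy, hys⟩ := hT
  change (y : GL ι F) ∈ M at hy
  have hab' : (a : ι) ≠ b := fun e => hab (Subtype.ext e)
  have hd := single_dotProduct_single hab' c
  obtain ⟨T, hTdef⟩ : ∃ T, T = transv (Pi.single (a : ι) (1 : F)) (Pi.single (b : ι) c) := ⟨_, rfl⟩
  have hTs : T ∈ lineStab k := hTdef ▸ transv_mem_lineStab k hd (by simp [Ne.symm b.2])
  have hTsub : sub k ⟨T, hTs⟩ = transv (Pi.single a 1) (Pi.single b c) := by
    refine Units.ext (Matrix.ext fun i j => ?_)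
    rw [sub_apply, transv_val (single_dotProduct_single hab c)]
    show (T : Matrix ι ι F) i j = _
    rw [hTdef, transv_val hd, Matrix.add_apply, Matrix.add_apply, vecMulVec_apply, vecMulVec_apply]
    simp [Matrix.one_apply, Pi.single_apply, Subtype.coe_inj]
  obtain ⟨ρ, hρk, hρ⟩ := eq_transv_of_sub_one ((⟨T, hTs⟩ : lineStab (F := F) k)⁻¹ * y)
    ((Cfsg.Geo.specialLinear ι F).mul_mem
      ((Cfsg.Geo.specialLinear ι F).inv_mem (hTdef ▸ transv_mem_specialLinear _ _)) (hM hy))
    (by rw [map_mul, map_inv, hys, hTsub, inv_mul_cancel])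
  rw [Subgroup.coe_mul, Subgroup.coe_inv, inv_mul_eq_iff_eq_mul] at hρ
  change (y : GL ι F) = T * _ at hρ
  by_cases hρ0 : ρ = 0
  · rw [hρ0, transv_zero, mul_one] at hρ
    exact ⟨a, b, c, hab', hc, hTdef ▸ hρ ▸ hy⟩
  -- a diagonal element commuting with `T`
  obtain ⟨f, hf⟩ := hpick {(a : ι), (b : ι), k} (Finset.card_le_three.trans (by omega))
  simp only [Finset.mem_insert, Finset.mem_singleton, not_or] at hf
  obtain ⟨t, ht, -, ht2⟩ := exists_unit_ne hq
  have hρd : ρ ⬝ᵥ Pi.single k 1 = 0 := by rw [dotProduct_single, hρk, zero_mul]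
  obtain ⟨δ, hδ⟩ : ∃ δ : ι → F, δ = fun i => (if i = f then (t : F) * t - 1 else (t : F) - 1) * ρ i := ⟨_, rfl⟩
  have hD := pairD_mem hmon (Ne.symm hf.2.2) t
  have h1 := M.mul_mem (M.inv_mem hy) (M.mul_mem (M.mul_mem hD hy) (M.inv_mem hD))
  have eT : pairD k f t * T * (pairD k f t)⁻¹ = T := by
    rw [hTdef, pairD, conj_diag_transv _ hd]
    congr 1 <;> funext i
    · by_cases hi : i = a
      · subst hi; simp [a.2, Ne.symm hf.1]
      · simp [hi]
    · by_cases hi : i = b
      · subst hi; simp [b.2, Ne.symm hf.2.1]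
      · simp [hi]
  have eK : pairD k f t * transv (Pi.single k 1) ρ * (pairD k f t)⁻¹ = transv (Pi.single k 1) (ρ + δ) := by
    have e1 : (fun i => (((if i = k then t else if i = f then t⁻¹ else 1) : Fˣ) : F) * (Pi.single k 1 : ι → F) i) =
        (t : F) • Pi.single k 1 := by
      funext i
      by_cases hi : i = k
      · subst hi; simp
      · simp [hi]
    have e2 : (t : F) • (fun i => ρ i * (((if i = k then t else if i = f then t⁻¹ else 1)⁻¹ : Fˣ) : F)) = ρ + δ := by
      funext i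
      by_cases hi : i = k
      · subst hi; simp [hδ, hρk]
      · by_cases hi' : i = f
        · subst hi'; simp [hδ, hi]; ring
        · simp [hδ, hi, hi']; ring
    rw [pairD, conj_diag_transv _ hρd, e1, transv_smul_left _ ?_, e2]
    rw [dotProduct_single, hρk]; simp
  have h2 : transv (Pi.single k 1) δ ∈ M := by
    have e : (y : GL ι F)⁻¹ * (pairD k f t * (y : GL ι F) * (pairD k f t)⁻¹) = transv (Pi.single k 1) δ := by
      rw [hρ, show pairD k f t * (T * transv (Pi.single k 1) ρ) * (pairD k f t)⁻¹ =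
          (pairD k f t * T * (pairD k f t)⁻¹) * (pairD k f t * transv (Pi.single k 1) ρ * (pairD k f t)⁻¹) by group,
        eT, eK, _root_.mul_inv_rev, mul_assoc, inv_mul_cancel_left,
        ← transv_mul hρd (by simp [hδ, dotProduct_single, hρk]), inv_mul_cancel_left]
    rwa [e] at h1
  refine el_of_line hmon hq hn (by simp [hδ, hρk]) (fun e => hρ0 (funext fun i => ?_)) h2
  have h3 := congrFun e i
  by_cases hi : i = f <;> simp [hδ, hi, sub_ne_zero.mpr ht, sub_ne_zero.mpr ht2] at h3 <;> simp [hi, h3]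

/-- An elementary transvection generates everything. -/
theorem le_of_el (hel : El M) : Cfsg.Geo.specialLinear ι F ≤ M := by
  classical
  obtain ⟨a0, b0, c0, hab, hc0, hT⟩ := hel
  have hpick : ∀ s : Finset ι, s.card ≤ 4 → ∃ l, l ∉ s := fun s hs => by
    by_contra hcon
    simp only [not_exists, not_not] at hcon
    have := Finset.card_le_card (fun i (_ : i ∈ Finset.univ) => hcon i)
    rw [Finset.card_univ] at this
    omega
  have hscal : ∀ c : F, transv (Pi.single a0 1) (Pi.single b0 c) ∈ M := by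
    intro c
    by_cases hc : c = 0
    · rw [hc, Pi.single_zero, transv_zero]; exact M.one_mem
    obtain ⟨f, hf⟩ := hpick {a0, b0} (Finset.card_le_two.trans (by omega))
    simp only [Finset.mem_insert, Finset.mem_singleton, not_or] at hf
    obtain ⟨t, ht⟩ : ∃ t : Fˣ, t = Units.mk0 (c / c0) (div_ne_zero hc hc0) := ⟨_, rfl⟩
    have hD := pairD_mem hmon (Ne.symm hf.1) t
    have h1 := M.mul_mem (M.mul_mem hD hT) (M.inv_mem hD)
    rw [pairD, diagGL, mono_conj_transv _ _ hab] at h1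
    simpa [ht, hab.symm, Ne.symm hf.2, hc0] using h1
  have hall : ∀ (a b : ι), a ≠ b → ∀ c : F, transv (Pi.single a 1) (Pi.single b c) ∈ M := by
    intro a b h c
    obtain ⟨π, hπ⟩ : ∃ π, π = Equiv.swap ((Equiv.swap a0 a) b0) b * Equiv.swap a0 a := ⟨_, rfl⟩
    have h1 : π a0 = a := by
      rw [hπ, Equiv.Perm.mul_apply, Equiv.swap_apply_left, Equiv.swap_apply_of_ne_of_ne ?_ h]
      exact fun e => hab ((Equiv.swap a0 a).injective ((Equiv.swap_apply_left a0 a).trans e))
    have h2 : π b0 = b := by rw [hπ, Equiv.Perm.mul_apply, Equiv.swap_apply_left]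
    obtain ⟨f, hf⟩ := hpick {a0, b0} (Finset.card_le_two.trans (by omega))
    simp only [Finset.mem_insert, Finset.mem_singleton, not_or] at hf
    obtain ⟨e, he, hdet⟩ := exists_det_one π (1 : ι → Fˣ) f
    have h3 := M.mul_mem (M.mul_mem (hmon _ _ hdet) (hscal c)) (M.inv_mem (hmon _ _ hdet))
    rw [mono_conj_transv _ _ hab, h1, h2, he a0 (Ne.symm hf.1), he b0 (Ne.symm hf.2)] at h3
    simpa using h3
  intro g hg
  rw [mem_specialLinear_iff] at hg
  have key := CfsgLib.Classical.SL_le_of_transvections (M.comap Matrix.SpecialLinearGroup.toGL) fun i j hij a => by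
    rw [Subgroup.mem_comap, toGL_transvection hij a]
    exact hall i j hij a
  have h1 : (⟨(g : Matrix ι ι F), hg⟩ : Matrix.SpecialLinearGroup ι F) ∈ M.comap Matrix.SpecialLinearGroup.toGL := by
    rw [key]; trivial
  have e : Matrix.SpecialLinearGroup.toGL ⟨(g : Matrix ι ι F), hg⟩ = g := Units.ext rfl
  exact e ▸ Subgroup.mem_comap.mp h1

/-- The monomial subgroup of SL is maximal. -/
theorem le_of_not_isMono (hM : M ≤ Cfsg.Geo.specialLinear ι F) {x : GL ι F} (hx : x ∈ M) (hxm : ¬ IsMono x) :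
    Cfsg.Geo.specialLinear ι F ≤ M :=
  le_of_el hmon hq hn (el_of_fixing hmon hq hn hM (fixing_of_not_isMono hmon hq hn hx hxm))

end CfsgLib.Classical22.DecompLine
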