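/-
Overgroups of the monomial subgroup of SL(ι, F) in dimension at least six.
-/
import Cfsg.Agent.Lib.Classical22.DecompLineSL

set_option autoImplicit false
set_option linter.all false

namespace CfsgLib.Classical22.DecompLineSix

open Matrix CfsgLib.Transvec CfsgLib.Classical22.Monomial
open CfsgLib.Classical22.DecompLine (Fixing El pairD pairD_mem pairD_mulVec mul_apply_col exists_unit_ne exists_avoid_affine one_row two_rows fixing_of_two_zeros fixing_of_no_zero el_of_not_isMono lineStab sub transv_mem_lineStab eq_transv_of_sub_one)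
open scoped MatrixGroups

variable {ι : Type} [Fintype ι] [DecidableEq ι] {F : Type*} [Field F] [Fintype F]
  {M : Subgroup (GL ι F)} (hmon : ∀ σ d, (mono σ d : Matrix ι ι F).det = 1 → mono σ d ∈ M)
  (hq : 5 ≤ Fintype.card F) (hn : 6 ≤ Fintype.card ι)
include hmon hq hn

/-- Without a coordinate column every column has exactly one zero. -/
lemma unique_zero (hF : ¬ Fixing M) {x : GL ι F} (hx : x ∈ M) (hm : ¬ IsMono x) (k : ι) :
    ∃! p, (x : Matrix ι ι F) p k = 0 := by
  by_cases h : ∃ p, (x : Matrix ι ι F) p k = 0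
  · obtain ⟨p, hp⟩ := h
    exact ⟨p, hp, fun r hr => by_contra fun e => hF (fixing_of_two_zeros hmon hq (by omega) hx hm e hr hp)⟩
  · simp only [not_exists] at h
    exact (hF (fixing_of_no_zero hmon (by omega) hx h)).elim

/-- A non-monomial member forces a coordinate column. -/
theorem fixing_of_not_isMono {x : GL ι F} (hx : x ∈ M) (hm : ¬ IsMono x) : Fixing M := by
  classical
  by_contra hF
  have hq1 : 4 ≤ Fintype.card Fˣ := by rw [Fintype.card_units]; omega
  have hx' : x⁻¹ ∈ M := M.inv_mem hx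
  have hm' : ¬ IsMono x⁻¹ := not_isMono_inv hm
  have huniq : ∀ r, ∃! i, ((x⁻¹ : GL ι F) : Matrix ι ι F) i r = 0 := fun r => unique_zero hmon hq hn hF hx' hm' r
  choose σ hσ hσu using huniq
  have huniqx : ∀ j, ∃! r, (x : Matrix ι ι F) r j = 0 := fun j => unique_zero hmon hq hn hF hx hm j
  choose τ hτ hτu using huniqx
  obtain ⟨k, hk⟩ : ∃ k, 2 * (Finset.univ.filter fun l => τ l = τ k).card ≤ Fintype.card ι := by
    obtain ⟨k₀⟩ : Nonempty ι := Fintype.card_pos_iff.mp (by omega)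
    by_cases h : 2 * (Finset.univ.filter fun l => τ l = τ k₀).card ≤ Fintype.card ι
    · exact ⟨k₀, h⟩
    obtain ⟨k₁, hk₁⟩ : ∃ k₁, τ k₁ ≠ τ k₀ := by
      by_contra hall
      simp only [not_exists, not_not] at hall
      obtain ⟨a, ha⟩ := row_ne_zero x (τ k₀)
      exact ha (hall a ▸ hτ a)
    refine ⟨k₁, ?_⟩
    have hdis : Disjoint (Finset.univ.filter fun l => τ l = τ k₁) (Finset.univ.filter fun l => τ l = τ k₀) := by
      rw [Finset.disjoint_filter]
      exact fun l _ e1 e2 => hk₁ (e1.symm.trans e2)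
    have h2 := Finset.card_le_univ ((Finset.univ.filter fun l => τ l = τ k₁) ∪ (Finset.univ.filter fun l => τ l = τ k₀))
    rw [Finset.card_union_of_disjoint hdis] at h2
    omega
  obtain ⟨p, hpdef⟩ : ∃ p, p = τ k := ⟨_, rfl⟩
  rw [← hpdef] at hk
  have hp : (x : Matrix ι ι F) p k = 0 := hpdef ▸ hτ k
  have hpu : ∀ r, (x : Matrix ι ι F) r k = 0 → r = p := fun r hr => hpdef ▸ hτu k r hr
  have hv : ∀ r, r ≠ p → (x : Matrix ι ι F) r k ≠ 0 := fun r hr e => hr (hpu r e)
  obtain ⟨c, hc⟩ : ∃ c : ι → ι → F, ∀ i r, c i r = ((x⁻¹ : GL ι F) : Matrix ι ι F) i r * (x : Matrix ι ι F) r k :=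
    ⟨_, fun _ _ => rfl⟩
  have hc0 : ∀ r, c (σ r) r = 0 := fun r => by rw [hc, hσ r, zero_mul]
  have hcne : ∀ i r, r ≠ p → i ≠ σ r → c i r ≠ 0 := fun i r hr hi =>
    hc i r ▸ mul_ne_zero (fun e => hi (hσu r i e)) (hv r hr)
  have hsum : ∀ i, ∑ r, c i r = if i = k then 1 else 0 := by
    intro i
    have h1 := congrArg (fun g : GL ι F => (g : Matrix ι ι F) i k) (inv_mul_cancel x)
    simp only [Units.val_mul, Units.val_one, Matrix.mul_apply, Matrix.one_apply] at h1
    rw [← h1]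
    exact Finset.sum_congr rfl fun r _ => hc i r
  -- what the conjugated diagonal elements say about the combinations
  have key : ∀ d : ι → Fˣ, (∀ i j, ∑ r, c i r * d r = 0 → ∑ r, c j r * d r = 0 → i = j) ∨
      ∃ l, ∀ i, i ≠ l → ∑ r, c i r * d r = 0 := by
    intro d
    obtain ⟨e, he, hdet⟩ := exists_det_one (1 : Equiv.Perm ι) d p
    have hy : x⁻¹ * mono 1 e * x ∈ M := M.mul_mem (M.mul_mem hx' (hmon _ _ hdet)) hx
    have hcol : ∀ i, ((x⁻¹ * mono 1 e * x : GL ι F) : Matrix ι ι F) i k = ∑ r, c i r * d r := by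
      intro i
      rw [mul_assoc, mul_apply_col]
      refine Finset.sum_congr rfl fun r _ => ?_
      show ((x⁻¹ : GL ι F) : Matrix ι ι F) i r * ((mono 1 e * x : GL ι F) : Matrix ι ι F) r k = _
      rw [mul_apply_col, show (mono 1 e : GL ι F) = diagGL e from rfl, diag_mulVec, hc]
      show _ * ((e r : F) * (x : Matrix ι ι F) r k) = _
      by_cases hr : r = p
      · rw [hr, hp]; simp only [mul_zero, zero_mul]
      · rw [he r hr]; ring
    by_cases hym : IsMono (x⁻¹ * mono 1 e * x)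
    · obtain ⟨l, hl⟩ := hym k
      exact Or.inr ⟨l, fun i hi => (hcol i) ▸ hl i hi⟩
    · obtain ⟨z, -, hz⟩ := unique_zero hmon hq hn hF hy hym k
      exact Or.inl fun i j hi hj => (hz i ((hcol i).trans hi)).trans (hz j ((hcol j).trans hj)).symm
  -- a large family of combinations with two zeros
  suffices hfam : ∃ (R : Finset ι) (i j : ι), R.card ≤ 3 ∧ i ≠ j ∧ ∀ f : ι → Fˣ, ∃ d : ι → Fˣ,
      (∀ r, r ∉ R → d r = f r) ∧ ∑ r, c i r * d r = 0 ∧ ∑ r, c j r * d r = 0 by
    obtain ⟨R, i, j, hR, hij, hfam⟩ := hfam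
    obtain ⟨S, hS⟩ : ∃ S, S = insert p R := ⟨_, rfl⟩
    choose D hD1 hD2 hD3 using hfam
    let ext' : ({r // r ∉ S} → Fˣ) → ι → Fˣ := fun g r => if h : r ∉ S then g ⟨r, h⟩ else 1
    have hl : ∀ g, ∃ l, ∀ i, i ≠ l → ∑ r, c i r * D (ext' g) r = 0 := fun g =>
      (key (D (ext' g))).resolve_left fun h => hij (h i j (hD2 _) (hD3 _))
    choose L hL using hl
    have e : ∀ g i, (((x⁻¹ : GL ι F) : Matrix ι ι F) *ᵥ (fun r => (x : Matrix ι ι F) r k * D (ext' g) r)) i =
        ∑ r, c i r * D (ext' g) r := fun g i =>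
      Finset.sum_congr rfl fun r _ => by rw [hc, mul_assoc]
    have hval : ∀ g, ∑ r, c (L g) r * D (ext' g) r ≠ 0 := by
      intro g h0
      obtain ⟨r, hr⟩ : ∃ r, r ≠ p := Fintype.exists_ne_of_one_lt_card (by omega) p
      have hu : ((x⁻¹ : GL ι F) : Matrix ι ι F) *ᵥ (fun r => (x : Matrix ι ι F) r k * D (ext' g) r) =
          ((x⁻¹ : GL ι F) : Matrix ι ι F) *ᵥ 0 := by
        rw [mulVec_zero]
        funext i
        rw [e]
        by_cases hi : i = L g
        · rw [hi]; exact h0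
        · exact hL g i hi
      exact mul_ne_zero (hv r hr) (D (ext' g) r).ne_zero (congrFun (mulVec_injective x⁻¹ hu) r)
    have hLT : ∀ g, L g ∈ (Finset.univ.filter fun l => τ l = p) := by
      intro g
      rw [Finset.mem_filter]
      refine ⟨Finset.mem_univ _, ?_⟩
      have hu : ((x⁻¹ : GL ι F) : Matrix ι ι F) *ᵥ (fun r => (x : Matrix ι ι F) r k * D (ext' g) r) =
          Pi.single (L g) (∑ r, c (L g) r * D (ext' g) r) := by
        funext i
        rw [e]
        by_cases hi : i = L g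
        · rw [hi, Pi.single_eq_same]
        · rw [Pi.single_eq_of_ne hi]; exact hL g i hi
      have h1 := congrFun (congrArg ((x : Matrix ι ι F) *ᵥ ·) hu) p
      simp only [mulVec_inv_cancel] at h1
      rw [hp, zero_mul, mulVec_single] at h1
      simp only [Pi.smul_apply, Matrix.col_apply, MulOpposite.smul_eq_mul_unop, MulOpposite.unop_op] at h1
      exact ((hτu (L g) p ((mul_eq_zero.mp h1.symm).resolve_right (hval g))).symm)
    have hinj : Function.Injective (fun g =>
        ((⟨L g, hLT g⟩ : {l // l ∈ Finset.univ.filter fun l => τ l = p}), Units.mk0 _ (hval g))) := by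
      intro g g' hgg
      obtain ⟨hl1', hl2'⟩ := Prod.mk.inj hgg
      have hl1 : L g = L g' := congrArg Subtype.val hl1'
      have hl2 : ∑ r, c (L g) r * D (ext' g) r = ∑ r, c (L g') r * D (ext' g') r := congrArg Units.val hl2'
      have hu : ((x⁻¹ : GL ι F) : Matrix ι ι F) *ᵥ (fun r => (x : Matrix ι ι F) r k * D (ext' g) r) =
          ((x⁻¹ : GL ι F) : Matrix ι ι F) *ᵥ (fun r => (x : Matrix ι ι F) r k * D (ext' g') r) := by
        funext i
        rw [e, e]
        by_cases hi : i = L g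
        · rw [hi]; conv_rhs => rw [hl1]
          exact hl2
        · rw [hL g i hi, hL g' i (hl1 ▸ hi)]
      funext r
      have hrp : (r : ι) ≠ p := fun e => r.2 (by
        have h0 := Finset.mem_insert_self p R; rw [← hS] at h0; exact e ▸ h0)
      have hrR : (r : ι) ∉ R := fun e => r.2 (by
        have h0 := Finset.mem_insert_of_mem (b := p) e; rwa [← hS] at h0)
      have h1 := mul_left_cancel₀ (hv r hrp) (congrFun (mulVec_injective x⁻¹ hu) r)
      have h2 := Units.ext h1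
      rw [hD1 _ _ hrR, hD1 _ _ hrR] at h2
      simpa [ext', r.2] using h2
    have h1 := Fintype.card_le_of_injective _ hinj
    rw [Fintype.card_fun, Fintype.card_prod, Fintype.card_units, Fintype.card_subtype_compl, Fintype.card_coe,
      Fintype.card_coe] at h1
    have hScard : S.card ≤ 4 := hS ▸ (Finset.card_insert_le _ _).trans (by omega)
    obtain ⟨s, hs⟩ : ∃ s, Fintype.card F = s + 1 := ⟨Fintype.card F - 1, by omega⟩
    rw [hs, Nat.add_sub_cancel] at h1
    obtain ⟨m, hm⟩ : ∃ m, Fintype.card ι = m + 6 := ⟨Fintype.card ι - 6, by omega⟩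
    obtain ⟨t, ht⟩ : ∃ t, t = (Finset.univ.filter fun l => τ l = p).card := ⟨_, rfl⟩
    rw [← ht] at h1 hk
    have h2 : s ^ (m + 1) * s ≤ t * s := by
      rw [← pow_succ]
      exact (Nat.pow_le_pow_right (by omega) (by omega)).trans h1
    have h3 : s ^ (m + 1) ≤ t := Nat.le_of_mul_le_mul_right h2 (by omega)
    have h4 : 4 ^ (m + 1) ≤ s ^ (m + 1) := Nat.pow_le_pow_left (by omega) _
    have h5 : ∀ j, 4 * (j + 1) ≤ 4 ^ (j + 1) := fun j => by
      induction j with
      | zero => norm_num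
      | succ j ih => rw [pow_succ]; omega
    have h6 := h5 m
    omega
  -- choosing the two rows
  obtain ⟨r0, hr0⟩ : ∃ r0, r0 ≠ p := Fintype.exists_ne_of_one_lt_card (by omega) p
  by_cases hconst : ∀ r, r ≠ p → σ r = σ r0
  · obtain ⟨j, hj⟩ : ∃ j, j ≠ σ r0 := Fintype.exists_ne_of_one_lt_card (by omega) _
    obtain ⟨r1, hr1⟩ : ∃ r1, r1 ∉ ({p, r0} : Finset ι) := by
      by_contra hcon
      simp only [not_exists, not_not] at hcon
      have := Finset.card_le_card (fun i (_ : i ∈ Finset.univ) => hcon i)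
      rw [Finset.card_univ] at this
      have := Finset.card_le_two (a := p) (b := r0)
      omega
    simp only [Finset.mem_insert, Finset.mem_singleton, not_or] at hr1
    refine ⟨{r0, r1}, σ r0, j, Finset.card_le_two.trans (by omega), hj.symm, fun f => ?_⟩
    obtain ⟨d, hd1, hd2⟩ := one_row hq (c j) (Ne.symm hr1.2) (hcne j r0 hr0 hj)
      (hcne j r1 hr1.1 (hconst r1 hr1.1 ▸ hj)) f
    refine ⟨d, hd1, Finset.sum_eq_zero fun r _ => ?_, hd2⟩
    by_cases hr : r = p
    · rw [hr, hc, hp, mul_zero, zero_mul]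
    · rw [← hconst r hr, hc0, zero_mul]
  simp only [not_forall] at hconst
  obtain ⟨r1, hr1, hσ1⟩ := hconst
  have h01 : r0 ≠ r1 := fun e => hσ1 (e ▸ rfl)
  obtain ⟨r2, hr2⟩ : ∃ r2, r2 ∉ ({p, r0, r1} : Finset ι) := by
    by_contra hcon
    simp only [not_exists, not_not] at hcon
    have := Finset.card_le_card (fun i (_ : i ∈ Finset.univ) => hcon i)
    rw [Finset.card_univ] at this
    have := Finset.card_le_three (a := p) (b := r0) (c := r1)
    omega
  simp only [Finset.mem_insert, Finset.mem_singleton, not_or] at hr2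
  obtain ⟨hr2p, hr20, hr21⟩ := hr2
  -- two columns with a common zero and a third with another one
  have two_class : ∀ a b b' : ι, a ≠ p → b ≠ p → b' ≠ p → b ≠ b' → σ b = σ b' → σ a ≠ σ b →
      ∃ (R : Finset ι) (i j : ι), R.card ≤ 3 ∧ i ≠ j ∧ ∀ f : ι → Fˣ, ∃ d : ι → Fˣ,
        (∀ r, r ∉ R → d r = f r) ∧ ∑ r, c i r * d r = 0 ∧ ∑ r, c j r * d r = 0 := by
    intro a b b' ha hb hb' hbb hsame hdiff
    obtain ⟨l, hl⟩ : ∃ l, c (σ a) b * c l b' - c (σ a) b' * c l b ≠ 0 := by
      by_contra hcon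
      simp only [not_exists, not_not] at hcon
      obtain ⟨w, hw⟩ : ∃ w : ι → F, w = Pi.single b' (c (σ a) b * (x : Matrix ι ι F) b' k) -
          Pi.single b (c (σ a) b' * (x : Matrix ι ι F) b k) := ⟨_, rfl⟩
      have h1 : ((x⁻¹ : GL ι F) : Matrix ι ι F) *ᵥ w = 0 := by
        funext l
        rw [hw, mulVec_sub, Pi.sub_apply, mulVec_single, mulVec_single, Pi.zero_apply]
        have := hcon l
        rw [hc l b', hc l b] at this
        simp only [Pi.smul_apply, Matrix.col_apply, MulOpposite.smul_eq_mul_unop, MulOpposite.unop_op]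
        linear_combination this
      have h2 := congrFun (mulVec_injective x⁻¹ (h1.trans (mulVec_zero _).symm)) b'
      rw [hw, Pi.sub_apply, Pi.single_eq_same, Pi.single_eq_of_ne (Ne.symm hbb), sub_zero, Pi.zero_apply] at h2
      exact mul_ne_zero (hcne _ _ hb hdiff) (hv b' hb') h2
    have hla : l ≠ σ a := fun e => hl (by rw [e]; ring)
    have hlb : l ≠ σ b := fun e => hl (by
      rw [e, hc0 b, show c (σ b) b' = 0 by rw [hsame]; exact hc0 b']; ring)
    refine ⟨{a, b, b'}, σ a, l, Finset.card_le_three, hla.symm, fun f => two_rows hq (c (σ a)) (c l)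
      (fun e => hdiff (congrArg σ e)) (fun e => hdiff (by rw [e, ← hsame])) hbb ?_ ?_ hl f⟩
    · rw [hc0 a, zero_mul, zero_sub, neg_ne_zero]
      exact mul_ne_zero (hcne _ _ hb hdiff) (hcne _ _ ha hla)
    · rw [hc0 a, zero_mul, zero_sub, neg_ne_zero]
      exact mul_ne_zero (hcne _ _ hb' (hsame ▸ hdiff)) (hcne _ _ ha hla)
  by_cases e0 : σ r2 = σ r0
  · exact two_class r1 r0 r2 hr1 hr0 hr2p (Ne.symm hr20) e0.symm hσ1
  by_cases e1 : σ r2 = σ r1
  · exact two_class r0 r1 r2 hr0 hr1 hr2p (Ne.symm hr21) e1.symm (fun e => hσ1 e.symm)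
  refine ⟨{r0, r1, r2}, σ r0, σ r1, Finset.card_le_three, fun e => hσ1 e.symm,
    fun f => two_rows hq (c (σ r0)) (c (σ r1)) h01 (Ne.symm hr20) (Ne.symm hr21) ?_ ?_ ?_ f⟩
  · rw [hc0 r0, zero_mul, zero_sub, neg_ne_zero]
    exact mul_ne_zero (hcne _ _ hr1 (fun e => hσ1 e.symm)) (hcne _ _ hr0 hσ1)
  · rw [hc0 r0, zero_mul, zero_sub, neg_ne_zero]
    exact mul_ne_zero (hcne _ _ hr2p (fun e => e0 e.symm)) (hcne _ _ hr0 hσ1)
  · rw [hc0 r1, mul_zero, sub_zero]
    exact mul_ne_zero (hcne _ _ hr1 (fun e => hσ1 e.symm)) (hcne _ _ hr2p (fun e => e1 e.symm))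

/-- Conjugating by a diagonal element and dividing. -/
lemma diff_mem {k : ι} {ρ : ι → F} (hρk : ρ k = 0) (hT : transv (Pi.single k 1) ρ ∈ M) {b l : ι} (hbl : b ≠ l)
    (hbk : b ≠ k) (hlk : l ≠ k) (c : Fˣ) :
    transv (Pi.single k 1) (Pi.single b ((((c⁻¹ : Fˣ) : F) - 1) * ρ b) + Pi.single l (((c : F) - 1) * ρ l)) ∈ M := by
  have hd : ρ ⬝ᵥ Pi.single k 1 = 0 := by rw [dotProduct_single, hρk, zero_mul]
  have h1 := M.mul_mem (M.mul_mem (pairD_mem hmon hbl c) hT) (M.inv_mem (pairD_mem hmon hbl c))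
  rw [pairD, conj_diag_transv _ hd] at h1
  have h2 := M.mul_mem (M.inv_mem hT) h1
  have e1 : (fun i => (((if i = b then c else if i = l then c⁻¹ else 1) : Fˣ) : F) * (Pi.single k 1 : ι → F) i) =
      Pi.single k 1 := by
    funext i
    by_cases hi : i = k
    · subst hi; simp [Ne.symm hbk, Ne.symm hlk]
    · simp [hi]
  have e2 : (fun i => ρ i * (((if i = b then c else if i = l then c⁻¹ else 1)⁻¹ : Fˣ) : F)) =
      ρ + (Pi.single b ((((c⁻¹ : Fˣ) : F) - 1) * ρ b) + Pi.single l (((c : F) - 1) * ρ l)) := by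
    funext i
    by_cases hib : i = b
    · subst hib; simp [hbl]; ring
    · by_cases hil : i = l
      · subst hil; simp [hib]; ring
      · simp [hib, hil]
  rw [e1, e2, ← transv_mul hd (by simp [dotProduct_single, hbk.symm, hlk.symm]), inv_mul_cancel_left] at h2
  exact h2

lemma el_of_line {k : ι} {ρ : ι → F} (hρk : ρ k = 0) (hρ : ρ ≠ 0) (hT : transv (Pi.single k 1) ρ ∈ M) : El M := by
  obtain ⟨t, ht, -, -⟩ := exists_unit_ne hq
  have ht' : ((t⁻¹ : Fˣ) : F) - 1 ≠ 0 := sub_ne_zero.mpr fun e => ht (by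
    rwa [Units.val_inv_eq_inv_val, inv_eq_one] at e)
  obtain ⟨b, hb⟩ := Function.ne_iff.mp hρ
  have hbk : b ≠ k := fun e => hb (e ▸ hρk)
  have hpick : ∀ s : Finset ι, s.card ≤ 3 → ∃ l, l ∉ s := fun s hs => by
    by_contra hcon
    simp only [not_exists, not_not] at hcon
    have := Finset.card_le_card (fun i (_ : i ∈ Finset.univ) => hcon i)
    rw [Finset.card_univ] at this
    omega
  obtain ⟨l, hl⟩ := hpick {k, b} (Finset.card_le_two.trans (by omega))
  simp only [Finset.mem_insert, Finset.mem_singleton, not_or] at hl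
  obtain ⟨δ, hδ⟩ : ∃ δ : ι → F, δ = Pi.single b ((((t⁻¹ : Fˣ) : F) - 1) * ρ b) + Pi.single l (((t : F) - 1) * ρ l) :=
    ⟨_, rfl⟩
  have h1 : transv (Pi.single k 1) δ ∈ M := hδ ▸ diff_mem hmon hq hn hρk hT (Ne.symm hl.2) hbk hl.1 t
  obtain ⟨l', hl'⟩ := hpick {k, b, l} Finset.card_le_three
  simp only [Finset.mem_insert, Finset.mem_singleton, not_or] at hl'
  have hδk : δ k = 0 := by simp [hδ, hbk.symm, Ne.symm hl.1]
  have h2 := diff_mem hmon hq hn hδk h1 (Ne.symm hl'.2.1) hbk hl'.1 t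
  have e1 : δ l' = 0 := by simp [hδ, hl'.2.1, hl'.2.2]
  have e2 : δ b = (((t⁻¹ : Fˣ) : F) - 1) * ρ b := by simp [hδ, Ne.symm hl.2]
  rw [e1, mul_zero, Pi.single_zero, add_zero, e2] at h2
  exact ⟨k, b, _, hbk.symm, mul_ne_zero ht' (mul_ne_zero ht' hb), h2⟩

/-- A coordinate column and a non-monomial member give an elementary transvection. -/
lemma el_of_fixing (hM : M ≤ Cfsg.Geo.specialLinear ι F) (hF : Fixing M) : El M := by
  classical
  obtain ⟨k, x, hxM, hxm, hxk⟩ := hF
  obtain ⟨R, hR⟩ : ∃ R, R = (M.subgroupOf (lineStab k)).map (sub (F := F) k) := ⟨_, rfl⟩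
  have hfull : ∀ (π : Equiv.Perm {i // i ≠ k}) (d : {i // i ≠ k} → Fˣ), ∃ g : lineStab (F := F) k,
      (g : GL ι F) ∈ M ∧ IsMono (g : GL ι F) ∧ sub k g = mono π d := by
    intro π d
    obtain ⟨e, he, hdet⟩ := exists_det_one (Equiv.Perm.ofSubtype π) (fun i => if h : i ≠ k then d ⟨i, h⟩ else 1) k
    have hk : Equiv.Perm.ofSubtype π k = k := Equiv.Perm.ofSubtype_apply_of_not_mem π (by simp)
    have hmem : mono (Equiv.Perm.ofSubtype π) e ∈ lineStab k := fun i hi => by
      rw [mono_apply, hk, if_neg hi]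
    refine ⟨⟨_, hmem⟩, hmon _ _ hdet, isMono_mono _ _, Units.ext (Matrix.ext fun i j => ?_)⟩
    rw [DecompLine.sub_apply, mono_apply, mono_apply, Equiv.Perm.ofSubtype_apply_coe, he _ j.2, dif_pos j.2]
    by_cases h : i = π j
    · rw [if_pos h, if_pos (by rw [h])]
    · rw [if_neg h, if_neg (fun e => h (Subtype.ext e))]
  have hfullR : ∀ (π : Equiv.Perm {i // i ≠ k}) (d : {i // i ≠ k} → Fˣ), mono π d ∈ R := fun π d => by
    obtain ⟨g, hg, -, hg'⟩ := hfull π d
    rw [hR]
    exact ⟨g, hg, hg'⟩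
  have hpick : ∀ s : Finset ι, s.card ≤ 4 → ∃ l, l ∉ s := fun s hs => by
    by_contra hcon
    simp only [not_exists, not_not] at hcon
    have := Finset.card_le_card (fun i (_ : i ∈ Finset.univ) => hcon i)
    rw [Finset.card_univ] at this
    omega
  by_cases hxs : IsMono (sub k ⟨x, hxk⟩)
  · obtain ⟨π, d, hπ⟩ := hxs.exists_mono
    obtain ⟨m, hmM, hmm, hm⟩ := hfull π d
    obtain ⟨ρ, hρk, hρ⟩ := eq_transv_of_sub_one (m⁻¹ * ⟨x, hxk⟩) (hM (M.mul_mem (M.inv_mem hmM) hxM))
      (by rw [map_mul, map_inv, hm, hπ, inv_mul_cancel])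
    rw [Subgroup.coe_mul, Subgroup.coe_inv] at hρ
    refine el_of_line hmon hq hn hρk (fun e => hxm ?_) (hρ ▸ M.mul_mem (M.inv_mem hmM) hxM)
    rw [e, transv_zero, inv_mul_eq_one] at hρ
    exact (show (m : GL ι F) = x from hρ) ▸ hmm
  obtain ⟨a, b, c, hab, hc, hT⟩ := el_of_not_isMono hq hfullR
    (by rw [Fintype.card_subtype_compl, Fintype.card_subtype_eq]; omega)
    (show sub k ⟨x, hxk⟩ ∈ R by rw [hR]; exact ⟨⟨x, hxk⟩, hxM, rfl⟩) hxs
  rw [hR] at hT
  obtain ⟨y, hy, hys⟩ := hT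
  change (y : GL ι F) ∈ M at hy
  have hab' : (a : ι) ≠ b := fun e => hab (Subtype.ext e)
  have hd := single_dotProduct_single hab' c
  obtain ⟨T, hTdef⟩ : ∃ T, T = transv (Pi.single (a : ι) (1 : F)) (Pi.single (b : ι) c) := ⟨_, rfl⟩
  have hTs : T ∈ lineStab k := hTdef ▸ transv_mem_lineStab k hd (by simp [Ne.symm b.2])
  have hTsub : sub k ⟨T, hTs⟩ = transv (Pi.single a 1) (Pi.single b c) := by
    refine Units.ext (Matrix.ext fun i j => ?_)
    rw [DecompLine.sub_apply, transv_val (single_dotProduct_single hab c)]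
    show (T : Matrix ι ι F) i j = _
    rw [hTdef, transv_val hd, Matrix.add_apply, Matrix.add_apply, vecMulVec_apply, vecMulVec_apply]
    simp [Matrix.one_apply, Pi.single_apply, Subtype.coe_inj]
  obtain ⟨ρ, hρk, hρ⟩ := eq_transv_of_sub_one ((⟨T, hTs⟩ : lineStab (F := F) k)⁻¹ * y)
    ((Cfsg.Geo.specialLinear ι F).mul_mem
      ((Cfsg.Geo.specialLinear ι F).inv_mem (hTdef ▸ transv_mem_specialLinear _ _)) (hM hy))
    (by rw [map_mul, map_inv, hys, hTsub, inv_mul_cancel])
  rw [Subgroup.coe_mul, Subgroup.coe_inv, inv_mul_eq_iff_eq_mul] at hρ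
  change (y : GL ι F) = T * _ at hρ
  by_cases hρ0 : ρ = 0
  · rw [hρ0, transv_zero, mul_one] at hρ
    exact ⟨a, b, c, hab', hc, hTdef ▸ hρ ▸ hy⟩
  -- a diagonal element commuting with `T`
  obtain ⟨f, hf⟩ := hpick {(a : ι), (b : ι), k} (Finset.card_le_three.trans (by omega))
  simp only [Finset.mem_insert, Finset.mem_singleton, not_or] at hf
  obtain ⟨t, ht, -, ht2⟩ := exists_unit_ne hq
  have hρd : ρ ⬝ᵥ Pi.single k 1 = 0 := by rw [dotProduct_single, hρk, zero_mul]
  obtain ⟨δ, hδ⟩ : ∃ δ : ι → F, δ = fun i => (if i = f then (t : F) * t - 1 else (t : F) - 1) * ρ i := ⟨_, rfl⟩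
  have hD := pairD_mem hmon (Ne.symm hf.2.2) t
  have h1 := M.mul_mem (M.inv_mem hy) (M.mul_mem (M.mul_mem hD hy) (M.inv_mem hD))
  have eT : pairD k f t * T * (pairD k f t)⁻¹ = T := by
    rw [hTdef, pairD, conj_diag_transv _ hd]
    congr 1 <;> funext i
    · by_cases hi : i = a
      · subst hi; simp [a.2, Ne.symm hf.1]
      · simp [hi]
    · by_cases hi : i = b
      · subst hi; simp [b.2, Ne.symm hf.2.1]
      · simp [hi]
  have eK : pairD k f t * transv (Pi.single k 1) ρ * (pairD k f t)⁻¹ = transv (Pi.single k 1) (ρ + δ) := by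
    have e1 : (fun i => (((if i = k then t else if i = f then t⁻¹ else 1) : Fˣ) : F) * (Pi.single k 1 : ι → F) i) =
        (t : F) • Pi.single k 1 := by
      funext i
      by_cases hi : i = k
      · subst hi; simp
      · simp [hi]
    have e2 : (t : F) • (fun i => ρ i * (((if i = k then t else if i = f then t⁻¹ else 1)⁻¹ : Fˣ) : F)) = ρ + δ := by
      funext i
      by_cases hi : i = k
      · subst hi; simp [hδ, hρk]
      · by_cases hi' : i = f
        · subst hi'; simp [hδ, hi]; ring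
        · simp [hδ, hi, hi']; ring
    rw [pairD, conj_diag_transv _ hρd, e1, transv_smul_left _ ?_, e2]
    rw [dotProduct_single, hρk]; simp
  have h2 : transv (Pi.single k 1) δ ∈ M := by
    have e : (y : GL ι F)⁻¹ * (pairD k f t * (y : GL ι F) * (pairD k f t)⁻¹) = transv (Pi.single k 1) δ := by
      rw [hρ, show pairD k f t * (T * transv (Pi.single k 1) ρ) * (pairD k f t)⁻¹ =
          (pairD k f t * T * (pairD k f t)⁻¹) * (pairD k f t * transv (Pi.single k 1) ρ * (pairD k f t)⁻¹) by group,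
        eT, eK, _root_.mul_inv_rev, mul_assoc, inv_mul_cancel_left,
        ← transv_mul hρd (by simp [hδ, dotProduct_single, hρk]), inv_mul_cancel_left]
    rwa [e] at h1
  refine el_of_line hmon hq hn (by simp [hδ, hρk]) (fun e => hρ0 (funext fun i => ?_)) h2
  have h3 := congrFun e i
  by_cases hi : i = f <;> simp [hδ, hi, sub_ne_zero.mpr ht, sub_ne_zero.mpr ht2] at h3 <;> simp [hi, h3]

/-- An elementary transvection generates everything. -/
theorem le_of_el (hel : El M) : Cfsg.Geo.specialLinear ι F ≤ M := by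
  classical
  obtain ⟨a0, b0, c0, hab, hc0, hT⟩ := hel
  have hpick : ∀ s : Finset ι, s.card ≤ 4 → ∃ l, l ∉ s := fun s hs => by
    by_contra hcon
    simp only [not_exists, not_not] at hcon
    have := Finset.card_le_card (fun i (_ : i ∈ Finset.univ) => hcon i)
    rw [Finset.card_univ] at this
    omega
  have hscal : ∀ c : F, transv (Pi.single a0 1) (Pi.single b0 c) ∈ M := by
    intro c
    by_cases hc : c = 0
    · rw [hc, Pi.single_zero, transv_zero]; exact M.one_mem
    obtain ⟨f, hf⟩ := hpick {a0, b0} (Finset.card_le_two.trans (by omega))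
    simp only [Finset.mem_insert, Finset.mem_singleton, not_or] at hf
    obtain ⟨t, ht⟩ : ∃ t : Fˣ, t = Units.mk0 (c / c0) (div_ne_zero hc hc0) := ⟨_, rfl⟩
    have hD := pairD_mem hmon (Ne.symm hf.1) t
    have h1 := M.mul_mem (M.mul_mem hD hT) (M.inv_mem hD)
    rw [pairD, diagGL, mono_conj_transv _ _ hab] at h1
    simpa [ht, hab.symm, Ne.symm hf.2, hc0] using h1
  have hall : ∀ (a b : ι), a ≠ b → ∀ c : F, transv (Pi.single a 1) (Pi.single b c) ∈ M := by
    intro a b h c
    obtain ⟨π, hπ⟩ : ∃ π, π = Equiv.swap ((Equiv.swap a0 a) b0) b * Equiv.swap a0 a := ⟨_, rfl⟩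
    have h1 : π a0 = a := by
      rw [hπ, Equiv.Perm.mul_apply, Equiv.swap_apply_left, Equiv.swap_apply_of_ne_of_ne ?_ h]
      exact fun e => hab ((Equiv.swap a0 a).injective ((Equiv.swap_apply_left a0 a).trans e))
    have h2 : π b0 = b := by rw [hπ, Equiv.Perm.mul_apply, Equiv.swap_apply_left]
    obtain ⟨f, hf⟩ := hpick {a0, b0} (Finset.card_le_two.trans (by omega))
    simp only [Finset.mem_insert, Finset.mem_singleton, not_or] at hf
    obtain ⟨e, he, hdet⟩ := exists_det_one π (1 : ι → Fˣ) f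
    have h3 := M.mul_mem (M.mul_mem (hmon _ _ hdet) (hscal c)) (M.inv_mem (hmon _ _ hdet))
    rw [mono_conj_transv _ _ hab, h1, h2, he a0 (Ne.symm hf.1), he b0 (Ne.symm hf.2)] at h3
    simpa using h3
  intro g hg
  rw [mem_specialLinear_iff] at hg
  have key := CfsgLib.Classical.SL_le_of_transvections (M.comap Matrix.SpecialLinearGroup.toGL) fun i j hij a => by
    rw [Subgroup.mem_comap, toGL_transvection hij a]
    exact hall i j hij a
  have h1 : (⟨(g : Matrix ι ι F), hg⟩ : Matrix.SpecialLinearGroup ι F) ∈ M.comap Matrix.SpecialLinearGroup.toGL := by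
    rw [key]; trivial
  have e : Matrix.SpecialLinearGroup.toGL ⟨(g : Matrix ι ι F), hg⟩ = g := Units.ext rfl
  exact e ▸ Subgroup.mem_comap.mp h1

/-- The monomial subgroup of SL is maximal. -/
theorem le_of_not_isMono (hM : M ≤ Cfsg.Geo.specialLinear ι F) {x : GL ι F} (hx : x ∈ M) (hxm : ¬ IsMono x) :
    Cfsg.Geo.specialLinear ι F ≤ M :=
  le_of_el hmon hq hn (el_of_fixing hmon hq hn hM (fixing_of_not_isMono hmon hq hn hx hxm))

end CfsgLib.Classical22.DecompLineSix
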