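/-
Stabilisers of decompositions into lines (q ≤ 4) and planes (q = 2) are not maximal in SL.
-/
import Cfsg.Agent.Lib.Classical22.DecompCoords

set_option autoImplicit false

namespace CfsgLib.Classical22.DecompSmallField

open Matrix CfsgLib.Transvec CfsgLib.Classical22.Monomial CfsgLib.Classical22.DecompBlocks
open CfsgLib.Classical22.DecompCoords
open scoped MatrixGroups

variable {F : Type*} [Field F]

/-- The indicator of non-vanishing. -/
noncomputable def ind {V : Type*} [Zero V] (v : V) : F := by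
  classical exact if v = 0 then 0 else 1

theorem core [Fintype F] {m : ℕ} (h : (m = 1 ∧ Fintype.card F ≤ 4) ∨ (m = 2 ∧ Fintype.card F = 2))
    (u : Fin 4 → (Fin m → F)) : ∑ a, (ind (u a + ∑ b, u b) : F) = ∑ a, ind (u a) := by
  classical
  have hcast : (Fintype.card F : F) = 0 := FiniteField.cast_card_eq_zero F
  rcases h with ⟨rfl, hq⟩ | ⟨rfl, hq⟩
  · have hind : ∀ v : Fin 1 → F, (ind v : F) = v 0 ^ (Fintype.card F - 1) := by
      intro v
      have h1 := Fintype.one_lt_card (α := F)
      by_cases hv : v = 0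
      · rw [ind, if_pos hv, hv, Pi.zero_apply, zero_pow (by omega)]
      · rw [ind, if_neg hv, FiniteField.pow_card_sub_one_eq_one]
        exact fun h0 => hv (funext fun i => by rw [Fin.eq_zero i, h0]; rfl)
    simp only [hind, Fin.sum_univ_four, Pi.add_apply]
    have h1 := Fintype.one_lt_card (α := F)
    interval_cases hc : Fintype.card F
    · simp only [Nat.cast_ofNat] at hcast
      simp only [Nat.add_one_sub_one, pow_one]
      linear_combination (2 * (u 0 0 + u 1 0 + u 2 0 + u 3 0)) * hcast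
    · simp only [Nat.cast_ofNat] at hcast
      simp only [Nat.add_one_sub_one]
      linear_combination (2 * (u 0 0 + u 1 0 + u 2 0 + u 3 0) ^ 2) * hcast
    · simp only [Nat.cast_ofNat] at hcast
      have h2 : (2 : F) = 0 := mul_self_eq_zero.1 (by linear_combination hcast)
      simp only [Nat.add_one_sub_one]
      linear_combination (5 * (u 0 0 + u 1 0 + u 2 0 + u 3 0) ^ 3 - 3 * (u 0 0 + u 1 0 + u 2 0 + u 3 0) *
        (u 0 0 * u 1 0 + u 0 0 * u 2 0 + u 0 0 * u 3 0 + u 1 0 * u 2 0 + u 1 0 * u 3 0 + u 2 0 * u 3 0)) * h2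
  · have h2 : (2 : F) = 0 := by simpa [hq] using hcast
    have h01 : ∀ x : F, x = 0 ∨ x = 1 := by
      intro x
      by_cases hx : x = 0
      · exact Or.inl hx
      · have := FiniteField.pow_card_sub_one_eq_one x hx
        rw [hq] at this
        exact Or.inr (by simpa using this)
    have hind : ∀ v : Fin 2 → F, (ind v : F) = v 0 + v 1 + v 0 * v 1 := by
      intro v
      by_cases hv : v = 0
      · rw [ind, if_pos hv, hv]; simp
      · rw [ind, if_neg hv]
        rcases h01 (v 0) with e0 | e0 <;> rcases h01 (v 1) with e1 | e1 <;> rw [e0, e1]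
        · exact absurd (funext fun i => by fin_cases i <;> simpa) hv
        · ring
        · ring
        · linear_combination -h2
    simp only [hind, Fin.sum_univ_four, Pi.add_apply]
    linear_combination (2 * (u 0 0 + u 1 0 + u 2 0 + u 3 0) + 2 * (u 0 1 + u 1 1 + u 2 1 + u 3 1) +
      3 * ((u 0 0 + u 1 0 + u 2 0 + u 3 0) * (u 0 1 + u 1 1 + u 2 1 + u 3 1))) * h2

variable {ι : Type} [Fintype ι] [DecidableEq ι] {t m : ℕ}

/-- The number of non-zero block components, in `F`. -/
noncomputable def weight (e : Fin t × Fin m ≃ ι) (x : ι → F) : F := ∑ j : Fin t, ind fun k => x (e (j, k))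

theorem weight_perm (e : Fin t × Fin m ≃ ι) (h : GL ι F) {σ : Equiv.Perm (Fin t)}
    (hσ : ∀ i v, InBlk (fun l => (e.symm l).1) i v → InBlk (fun l => (e.symm l).1) (σ i) ((h : Matrix ι ι F) *ᵥ v))
    (x : ι → F) : weight e ((h : Matrix ι ι F) *ᵥ x) = weight e x := by
  classical
  refine (Equiv.sum_comp σ (fun j => (ind fun k => ((h : Matrix ι ι F) *ᵥ x) (e (j, k)) : F))).symm.trans
    (Finset.sum_congr rfl fun i _ => ?_)
  have hdec : x = ∑ j, DecompBlocks.comp (fun l => (e.symm l).1) j x := funext fun l => by simp [DecompBlocks.comp]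
  have hcomp : ∀ k, ((h : Matrix ι ι F) *ᵥ x) (e (σ i, k)) =
      ((h : Matrix ι ι F) *ᵥ DecompBlocks.comp (fun l => (e.symm l).1) i x) (e (σ i, k)) := by
    intro k
    conv_lhs => rw [hdec, Matrix.mulVec_sum, Finset.sum_apply]
    refine Finset.sum_eq_single i (fun j _ hj => hσ j _ (inBlk_comp j x) _ ?_) (fun h => absurd (Finset.mem_univ _) h)
    simpa using hj.symm
  simp only [hcomp]
  by_cases h0 : (fun k => x (e (i, k))) = 0
  · have hz : DecompBlocks.comp (fun l => (e.symm l).1) i x = 0 := funext fun l => by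
      obtain ⟨⟨a, k⟩, rfl⟩ := e.surjective l
      by_cases ha : a = i
      · subst ha; simpa [DecompBlocks.comp] using congrFun h0 k
      · simp [DecompBlocks.comp, ha]
    rw [h0, hz, Matrix.mulVec_zero]
    rfl
  · have h1 : (fun k => ((h : Matrix ι ι F) *ᵥ DecompBlocks.comp (fun l => (e.symm l).1) i x) (e (σ i, k))) ≠ 0 := by
      intro hz
      apply h0
      have hz' : (h : Matrix ι ι F) *ᵥ DecompBlocks.comp (fun l => (e.symm l).1) i x = 0 := funext fun l => by
        obtain ⟨⟨a, k⟩, rfl⟩ := e.surjective l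
        by_cases ha : a = σ i
        · subst ha; exact congrFun hz k
        · exact hσ i _ (inBlk_comp i x) _ (by simpa using ha)
      have hx0 := mulVec_injective h (hz'.trans (Matrix.mulVec_zero _).symm)
      funext k
      simpa [DecompBlocks.comp] using congrFun hx0 (e (i, k))
    simp [ind, h0, h1]

theorem exists_overgroup [Fintype F] {n : ℕ} (hn : 13 ≤ n) {D : Fin t → Submodule F (Fin n → F)}
    (hD : Cfsg.Geo.IsMDecomposition m D) (h : (m = 1 ∧ Fintype.card F ≤ 4) ∨ (m = 2 ∧ Fintype.card F = 2)) :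
    ∃ K : Subgroup (GL (Fin n) F), Cfsg.Geo.decompositionStabilizer D ⊓ Cfsg.Geo.specialLinear (Fin n) F < K ∧
      K < Cfsg.Geo.specialLinear (Fin n) F := by
  classical
  obtain ⟨e, P, hP⟩ := exists_coords hD
  have hcard : t * m = n := by simpa using Fintype.card_congr e
  have ht : 5 ≤ t := by rcases h with ⟨rfl, -⟩ | ⟨rfl, -⟩ <;> omega
  have hm0 : 0 < m := hD.pos
  have h6 : (6 : F) = 0 := by
    have hcast : (Fintype.card F : F) = 0 := FiniteField.cast_card_eq_zero F
    have h1 := Fintype.one_lt_card (α := F)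
    have h4 : Fintype.card F ≤ 4 := by rcases h with ⟨-, h⟩ | ⟨-, h⟩ <;> omega
    interval_cases hc : Fintype.card F <;> simp only [Nat.cast_ofNat] at hcast
    · linear_combination 3 * hcast
    · linear_combination 2 * hcast
    · have h2 : (2 : F) = 0 := mul_self_eq_zero.1 (by linear_combination hcast)
      linear_combination 3 * h2
  obtain ⟨S, hS⟩ : ∃ S : Fin 4 → Fin t, ∀ a, (S a).val = a.val :=
    ⟨fun a => ⟨a.val, by omega⟩, fun a => rfl⟩
  have hSi : Function.Injective S := fun a b hab => Fin.ext (by rw [← hS a, ← hS b, hab])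
  obtain ⟨f, hf⟩ : ∃ f : (Fin n → F) →ₗ[F] (Fin n → F), ∀ x j k, f x (e (j, k)) =
      x (e (j, k)) + if j.val < 4 then ∑ a, x (e (S a, k)) else 0 := by
    refine ⟨{ toFun := fun x l => x l + if (e.symm l).1.val < 4 then ∑ a, x (e (S a, (e.symm l).2)) else 0
              map_add' := fun x y => ?_
              map_smul' := fun c x => ?_ }, fun x j k => ?_⟩
    · funext l
      simp only [Pi.add_apply, Finset.sum_add_distrib]
      split_ifs <;> ring
    · funext l
      simp only [Pi.smul_apply, smul_eq_mul, RingHom.id_apply, ← Finset.mul_sum]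
      split_ifs <;> ring
    · simp
  have hsum : ∀ x k, ∑ a, f x (e (S a, k)) = 5 * ∑ a, x (e (S a, k)) := by
    intro x k
    simp only [hf, hS, Fin.is_lt, if_true, Finset.sum_add_distrib, Finset.sum_const, Finset.card_univ,
      Fintype.card_fin, nsmul_eq_mul, Nat.cast_ofNat]
    ring
  have hff : ∀ x, f (f x) = x := by
    intro x
    funext l
    obtain ⟨⟨j, k⟩, rfl⟩ := e.surjective l
    by_cases hj : j.val < 4
    · rw [hf, if_pos hj, hsum, hf, if_pos hj]
      linear_combination (∑ a, x (e (S a, k))) * h6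
    · rw [hf, if_neg hj, hf, if_neg hj, add_zero, add_zero]
  have hM : LinearMap.toMatrix' f * LinearMap.toMatrix' f = 1 := by
    rw [← LinearMap.toMatrix'_comp, show f.comp f = LinearMap.id from LinearMap.ext hff, LinearMap.toMatrix'_id]
  obtain ⟨g₁, hg₁⟩ : ∃ g : GL (Fin n) F, ∀ x, (g : Matrix (Fin n) (Fin n) F) *ᵥ x = f x :=
    ⟨⟨LinearMap.toMatrix' f, LinearMap.toMatrix' f, hM, hM⟩, fun x => LinearMap.toMatrix'_mulVec f x⟩
  have hw₁ : ∀ x, weight e ((g₁ : Matrix (Fin n) (Fin n) F) *ᵥ x) = weight e x := by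
    intro x
    rw [hg₁]
    obtain ⟨T, hT⟩ : ∃ T : Finset (Fin t), T = Finset.univ.map ⟨S, hSi⟩ := ⟨_, rfl⟩
    have hmem : ∀ j, j ∈ T ↔ j.val < 4 := fun j => by
      rw [hT, Finset.mem_map]
      constructor
      · rintro ⟨a, -, rfl⟩
        exact (hS a).trans_lt a.2
      · exact fun hj => ⟨⟨j.val, hj⟩, Finset.mem_univ _, Fin.ext (hS _)⟩
    rw [weight, weight, ← Finset.sum_add_sum_compl T, ← Finset.sum_add_sum_compl T (fun j => (ind fun k => x (e (j, k)) : F))]
    congr 1
    · rw [hT, Finset.sum_map, Finset.sum_map]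
      refine (Finset.sum_congr rfl fun a _ => ?_).trans (core h fun a k => x (e (S a, k)))
      show (ind fun k => f x (e (S a, k)) : F) = _
      congr 1
      funext k
      rw [hf, if_pos ((hS a).trans_lt a.2), Pi.add_apply, Finset.sum_apply]
    · refine Finset.sum_congr rfl fun j hj => ?_
      rw [Finset.mem_compl, hmem] at hj
      simp [hf, hj]
  obtain ⟨s, hs⟩ : ∃ s : Equiv.Perm (Fin t), s = Equiv.swap ⟨0, by omega⟩ ⟨4, by omega⟩ := ⟨_, rfl⟩
  obtain ⟨π, hπ⟩ : ∃ π : GL (Fin n) F, π = mono (e.symm.trans ((Equiv.prodCongr s (Equiv.refl _)).trans e)) 1 := ⟨_, rfl⟩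
  have hπv : ∀ x j k, ((π : Matrix (Fin n) (Fin n) F) *ᵥ x) (e (j, k)) = x (e (s j, k)) := by
    intro x j k
    have := mono_mulVec (e.symm.trans ((Equiv.prodCongr s (Equiv.refl (Fin m))).trans e)) (1 : Fin n → Fˣ) x (e (s j, k))
    simp only [Equiv.trans_apply, Equiv.symm_apply_apply, Equiv.prodCongr_apply, Prod.map, Equiv.refl_apply,
      Pi.one_apply, Units.val_one, one_mul] at this
    rw [hπ]
    rwa [show s (s j) = j by rw [hs, Equiv.swap_apply_self]] at this
  have hπ2 : π⁻¹ = π := by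
    refine inv_eq_of_mul_eq_one_right (gl_ext fun x => funext fun l => ?_)
    obtain ⟨⟨j, k⟩, rfl⟩ := e.surjective l
    rw [mul_mulVec, hπv, hπv, hs, Equiv.swap_apply_self, Units.val_one, Matrix.one_mulVec]
  have hwπ : ∀ x, weight e ((π : Matrix (Fin n) (Fin n) F) *ᵥ x) = weight e x := fun x => by
    simp only [weight, hπv]
    exact Equiv.sum_comp s (fun j => (ind fun k => x (e (j, k)) : F))
  obtain ⟨g, hg⟩ : ∃ g : GL (Fin n) F, g = g₁ * (π * g₁ * π⁻¹) := ⟨_, rfl⟩
  let W : Subgroup (GL (Fin n) F) :=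
    { carrier := {g | ∀ x, weight e (((P⁻¹ * g * P : GL (Fin n) F) : Matrix (Fin n) (Fin n) F) *ᵥ x) = weight e x}
      one_mem' := fun x => by simp
      mul_mem' := fun {a b} ha hb x => by
        rw [show P⁻¹ * (a * b) * P = (P⁻¹ * a * P) * (P⁻¹ * b * P) by group, mul_mulVec, ha, hb]
      inv_mem' := fun {a} ha x => by
        have h := ha (((P⁻¹ * a⁻¹ * P : GL (Fin n) F) : Matrix (Fin n) (Fin n) F) *ᵥ x)
        rw [← mul_mulVec, show P⁻¹ * a * P * (P⁻¹ * a⁻¹ * P) = 1 by group, Units.val_one, Matrix.one_mulVec] at h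
        exact h.symm }
  have hle : Cfsg.Geo.decompositionStabilizer D ⊓ Cfsg.Geo.specialLinear (Fin n) F ≤
      W ⊓ Cfsg.Geo.specialLinear (Fin n) F := by
    rintro y ⟨hy, hy'⟩
    obtain ⟨σ, hσ⟩ := (mem_stabilizer_iff hD hP y).1 hy
    exact ⟨weight_perm e _ hσ, hy'⟩
  refine ⟨W ⊓ Cfsg.Geo.specialLinear (Fin n) F, lt_of_le_of_ne hle fun heq => ?_,
    lt_of_le_of_ne inf_le_right fun heq => ?_⟩
  · have hgW : P * g * P⁻¹ ∈ W ⊓ Cfsg.Geo.specialLinear (Fin n) F := by
      refine ⟨fun x => ?_, ?_⟩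
      · rw [show P⁻¹ * (P * g * P⁻¹) * P = g by group, hg, mul_mulVec, hw₁, mul_mulVec, mul_mulVec, hwπ, hw₁, hπ2, hwπ]
      · refine MonoidHom.mem_ker.2 ?_
        rw [map_mul, map_mul, hg, map_mul, map_mul, map_mul, map_inv, map_inv, mul_inv_cancel_comm,
          mul_inv_cancel_comm, ← map_mul]
        have : g₁ * g₁ = 1 := gl_ext fun x => by rw [mul_mulVec, hg₁, hg₁, hff, Units.val_one, Matrix.one_mulVec]
        rw [this, map_one]
    rw [← heq] at hgW
    obtain ⟨σ, hσ⟩ := (mem_stabilizer_iff hD hP _).1 hgW.1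
    rw [show P⁻¹ * (P * g * P⁻¹) * P = g by group] at hσ
    obtain ⟨k₀, hk₀⟩ : ∃ k : Fin m, k.val = 0 := ⟨⟨0, hm0⟩, rfl⟩
    have hE : InBlk (fun l => (e.symm l).1) (⟨0, by omega⟩ : Fin t) (Pi.single (e (⟨0, by omega⟩, k₀)) (1 : F) : Fin n → F) :=
      inBlk_single (by simp) 1
    have hval : ∀ b : Fin 4, b.val ≠ 0 → ((g : Matrix (Fin n) (Fin n) F) *ᵥ
        Pi.single (e (⟨0, by omega⟩, k₀)) 1) (e (S b, k₀)) = 1 := by
      intro b hb
      have hfix : (π * g₁ * π⁻¹ : GL (Fin n) F).1 *ᵥ (Pi.single (e (⟨0, by omega⟩, k₀)) (1 : F) : Fin n → F) =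
          Pi.single (e (⟨0, by omega⟩, k₀)) 1 := by
        funext l
        obtain ⟨⟨j, k⟩, rfl⟩ := e.surjective l
        rw [hπ2, mul_mulVec, mul_mulVec, hπv, hg₁, hf]
        have h4 : ∀ a : Fin 4, s (S a) ≠ (⟨0, by omega⟩ : Fin t) := by
          intro a h
          rw [hs, Equiv.swap_apply_eq_iff, Equiv.swap_apply_left] at h
          have hv := congrArg Fin.val h
          rw [hS] at hv
          exact absurd hv (Nat.ne_of_lt a.2)
        have hz : ∑ a, ((π : Matrix (Fin n) (Fin n) F) *ᵥ Pi.single (e (⟨0, by omega⟩, k₀)) 1) (e (S a, k)) = 0 := by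
          refine Finset.sum_eq_zero fun a _ => ?_
          rw [hπv, Pi.single_eq_of_ne]
          exact fun h => h4 a (congrArg Prod.fst (e.injective h))
        rw [hz, ite_self, add_zero, hπv, hs, Equiv.swap_apply_self]
      rw [hg, mul_mulVec, hfix, hg₁, hf, if_pos ((hS b).trans_lt b.2), Pi.single_eq_of_ne, zero_add,
        Finset.sum_eq_single ⟨0, by omega⟩]
      · rw [show S ⟨0, by omega⟩ = (⟨0, by omega⟩ : Fin t) from Fin.ext (hS _), Pi.single_eq_same]
      · intro a _ ha
        refine Pi.single_eq_of_ne ?_ _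
        intro h
        exact ha (Fin.ext ((hS a).symm.trans (congrArg (fun p : Fin t × Fin m => p.1.val) (e.injective h))))
      · intro h; exact absurd (Finset.mem_univ _) h
      · intro h
        exact hb ((hS b).symm.trans (congrArg (fun p : Fin t × Fin m => p.1.val) (e.injective h)))
    have hblk : ∀ b : Fin 4, b.val ≠ 0 → S b = σ ⟨0, by omega⟩ := by
      intro b hb
      by_contra hne
      have h0 := hσ _ _ hE (e (S b, k₀)) (by simpa using hne)
      exact one_ne_zero ((hval b hb).symm.trans h0)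
    exact absurd (hSi ((hblk 1 (by decide)).trans (hblk 2 (by decide)).symm)) (by decide)
  · obtain ⟨k₀, hk₀⟩ : ∃ k : Fin m, k.val = 0 := ⟨⟨0, hm0⟩, rfl⟩
    obtain ⟨a, ha⟩ : ∃ a : Fin n, a = e (⟨0, by omega⟩, k₀) := ⟨_, rfl⟩
    obtain ⟨b, hb⟩ : ∃ b : Fin n, b = e (⟨1, by omega⟩, k₀) := ⟨_, rfl⟩
    have hab : b ≠ a := fun h => by
      rw [ha, hb] at h
      exact absurd (congrArg (fun p : Fin t × Fin m => p.1.val) (e.injective h)) (by simp)
    obtain ⟨τ, hτ⟩ : ∃ τ : GL (Fin n) F, (τ : Matrix (Fin n) (Fin n) F) = Matrix.transvection b a 1 :=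
      ⟨Matrix.GeneralLinearGroup.mkOfDetNeZero _ (ne_of_eq_of_ne (Matrix.det_transvection_of_ne b a hab (1 : F)) one_ne_zero), rfl⟩
    have hmem : P * τ * P⁻¹ ∈ Cfsg.Geo.specialLinear (Fin n) F := by
      refine MonoidHom.mem_ker.2 (Units.ext ?_)
      rw [map_mul, map_mul, map_inv, mul_inv_cancel_comm, Matrix.GeneralLinearGroup.val_det_apply, hτ,
        Matrix.det_transvection_of_ne b a hab, Units.val_one]
    rw [← heq] at hmem
    have h := hmem.1 (Pi.single a 1)
    rw [show P⁻¹ * (P * τ * P⁻¹) * P = τ by group, hτ, Matrix.transvection, Matrix.add_mulVec, Matrix.one_mulVec,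
      show (Matrix.single b a (1 : F)) *ᵥ (Pi.single a 1 : Fin n → F) = Pi.single b 1 by
        ext l; by_cases hl : l = b <;> simp [hl, Ne.symm, Matrix.single]] at h
    simp only [weight] at h
    rw [← Finset.add_sum_erase _ _ (Finset.mem_univ (⟨1, by omega⟩ : Fin t)),
      ← Finset.add_sum_erase _ (fun j => (ind fun k => (Pi.single a 1 : Fin n → F) (e (j, k)) : F))
        (Finset.mem_univ (⟨1, by omega⟩ : Fin t))] at h
    have e1 : (ind fun k => (Pi.single a 1 + Pi.single b 1 : Fin n → F) (e (⟨1, by omega⟩, k)) : F) = 1 := by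
      rw [ind, if_neg]
      intro hz
      have := congrFun hz k₀
      simp [← hb, hab] at this
    have e0 : (ind fun k => (Pi.single a 1 : Fin n → F) (e (⟨1, by omega⟩, k)) : F) = 0 := by
      rw [ind, if_pos]
      funext k
      exact Pi.single_eq_of_ne (fun hh => absurd (congrArg (fun p : Fin t × Fin m => p.1.val) (e.injective (hh.trans ha))) (by simp)) _
    have e2 : ∀ j ∈ Finset.univ.erase (⟨1, by omega⟩ : Fin t),
        (ind fun k => (Pi.single a 1 + Pi.single b 1 : Fin n → F) (e (j, k)) : F) =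
          ind fun k => (Pi.single a 1 : Fin n → F) (e (j, k)) := by
      intro j hj
      congr 1
      funext k
      rw [Pi.add_apply, Pi.single_eq_of_ne (i := b), add_zero]
      exact fun hh => (Finset.mem_erase.1 hj).1 (congrArg Prod.fst (e.injective (hh.trans hb)))
    rw [e1, e0, Finset.sum_congr rfl e2] at h
    exact one_ne_zero (add_right_cancel (b := (∑ j ∈ Finset.univ.erase (⟨1, by omega⟩ : Fin t),
      (ind fun k => (Pi.single a 1 : Fin n → F) (e (j, k)) : F))) h)

end CfsgLib.Classical22.DecompSmallField
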