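/-
Stabilisers of orthogonal decompositions into planes over F₂ are not maximal in Sp.
-/
import Cfsg.Agent.Lib.Classical22.DecompSmallField
import Cfsg.Agent.Lib.Classical.SpBasic

set_option autoImplicit false

namespace CfsgLib.Classical22.DecompSmallField

open Matrix CfsgLib.Transvec CfsgLib.Classical22.Monomial CfsgLib.Classical22.DecompBlocks
open CfsgLib.Classical22.DecompCoords CfsgLib.Classical

variable {F : Type*} [Field F]

theorem exists_overgroup_sp [Fintype F] {m t : ℕ} (hm : 7 ≤ m) (hq : Fintype.card F = 2)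
    {D : Fin t → Submodule F (Fin m ⊕ Fin m → F)}
    (hD : Cfsg.Geo.IsNondegenerateMDecomposition (Cfsg.sympForm m F) 2 D) :
    ∃ K : Subgroup (GL (Fin m ⊕ Fin m) F), Cfsg.Geo.decompositionStabilizer D ⊓ Cfsg.spGL m F < K ∧
      K < Cfsg.spGL m F := by
  classical
  obtain ⟨e, P, hP⟩ := exists_coords hD.decomp
  have hcard : t * 2 = 2 * m := by
    have h := Fintype.card_congr e
    simp at h
    omega
  have ht : 7 ≤ t := by omega
  have h01 : ∀ x : F, x = 0 ∨ x = 1 := by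
    intro x
    by_cases hx : x = 0
    · exact Or.inl hx
    · have := FiniteField.pow_card_sub_one_eq_one x hx
      rw [hq] at this
      exact Or.inr (by simpa using this)
  have h2 : (2 : F) = 0 := by simpa [hq] using FiniteField.cast_card_eq_zero F
  obtain ⟨w, hw⟩ : ∃ w : (Fin m ⊕ Fin m) → (Fin m ⊕ Fin m → F),
      ∀ l, w l = (P : Matrix (Fin m ⊕ Fin m) (Fin m ⊕ Fin m) F) *ᵥ Pi.single l 1 := ⟨_, fun l => rfl⟩
  have hwmem : ∀ j k, w (e (j, k)) ∈ D j := fun j k => by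
    rw [hw, hP]
    exact inBlk_single (by simp) 1
  have hwdec : ∀ x : Fin m ⊕ Fin m → F,
      (P : Matrix (Fin m ⊕ Fin m) (Fin m ⊕ Fin m) F) *ᵥ x = ∑ j : Fin t, (x (e (j, 0)) • w (e (j, 0)) + x (e (j, 1)) • w (e (j, 1))) := by
    intro x
    conv_lhs => rw [pi_eq_sum_univ' x]
    rw [Matrix.mulVec_sum, ← Equiv.sum_comp e, Fintype.sum_prod_type]
    refine Finset.sum_congr rfl fun j _ => ?_
    rw [Fin.sum_univ_two, Matrix.mulVec_smul, Matrix.mulVec_smul, hw, hw]
  have hB : ∀ x y : Fin m ⊕ Fin m → F, Cfsg.sympForm m F ((P : Matrix (Fin m ⊕ Fin m) (Fin m ⊕ Fin m) F) *ᵥ x)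
      ((P : Matrix (Fin m ⊕ Fin m) (Fin m ⊕ Fin m) F) *ᵥ y) =
      ∑ j : Fin t, (x (e (j, 0)) * y (e (j, 1)) + x (e (j, 1)) * y (e (j, 0))) := by
    have hone : ∀ j, Cfsg.sympForm m F (w (e (j, 0))) (w (e (j, 1))) = 1 := by
      intro j
      refine (h01 _).resolve_left fun h0 => ?_
      have hne : w (e (j, 0)) ≠ 0 := by rw [hw]; exact mulVec_ne_zero P (by simp)
      obtain ⟨-, z, hz, hz0⟩ := hD.nondegenerate j _ (hwmem j 0) hne
      obtain ⟨v, rfl⟩ : ∃ v, z = (P : Matrix (Fin m ⊕ Fin m) (Fin m ⊕ Fin m) F) *ᵥ v :=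
        ⟨_, (mulVec_inv_cancel P z).symm⟩
      have hv := (hP j v).1 hz
      apply hz0
      rw [hwdec, Finset.sum_eq_single j]
      · rw [sympForm_add_right, sympForm_smul_right, sympForm_smul_right, h0, sympForm_self]; ring
      · intro i _ hi
        rw [hv _ (by simpa using hi), hv _ (by simpa using hi), zero_smul, zero_smul, add_zero]
      · intro h; exact absurd (Finset.mem_univ _) h
    intro x y
    rw [hwdec, hwdec]
    obtain ⟨a, ha⟩ : ∃ a : Fin t → Fin 2 → F, ∀ j k, a j k = x (e (j, k)) := ⟨_, fun j k => rfl⟩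
    have hsumL : ∀ (s : Finset (Fin t)) (u : Fin t → Fin m ⊕ Fin m → F) (z : Fin m ⊕ Fin m → F),
        Cfsg.sympForm m F (∑ i ∈ s, u i) z = ∑ i ∈ s, Cfsg.sympForm m F (u i) z := by
      intro s u z
      induction s using Finset.induction_on with
      | empty => simp
      | insert i s hi ih => rw [Finset.sum_insert hi, Finset.sum_insert hi, sympForm_add_left, ih]
    have hsumR : ∀ (s : Finset (Fin t)) (u : Fin t → Fin m ⊕ Fin m → F) (z : Fin m ⊕ Fin m → F),
        Cfsg.sympForm m F z (∑ i ∈ s, u i) = ∑ i ∈ s, Cfsg.sympForm m F z (u i) := by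
      intro s u z
      induction s using Finset.induction_on with
      | empty => simp
      | insert i s hi ih => rw [Finset.sum_insert hi, Finset.sum_insert hi, sympForm_add_right, ih]
    rw [hsumL]
    refine Finset.sum_congr rfl fun j _ => ?_
    rw [hsumR, Finset.sum_eq_single j]
    · simp only [sympForm_add_left, sympForm_add_right, sympForm_smul_left, sympForm_smul_right, sympForm_self]
      rw [sympForm_swap (w (e (j, 0))) (w (e (j, 1))), hone]
      linear_combination (-(x (e (j, 1)) * y (e (j, 0)))) * h2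
    · intro i _ hi
      refine hD.orthogonal j i hi.symm _ ?_ _ ?_
      · exact (D j).add_mem ((D j).smul_mem _ (hwmem j 0)) ((D j).smul_mem _ (hwmem j 1))
      · exact (D i).add_mem ((D i).smul_mem _ (hwmem i 0)) ((D i).smul_mem _ (hwmem i 1))
    · intro h; exact absurd (Finset.mem_univ _) h
  obtain ⟨S, hS⟩ : ∃ S : Fin 4 → Fin t, ∀ a, (S a).val = a.val :=
    ⟨fun a => ⟨a.val, by omega⟩, fun a => rfl⟩
  have hSi : Function.Injective S := fun a b hab => Fin.ext (by rw [← hS a, ← hS b, hab])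
  obtain ⟨f, hf⟩ : ∃ f : (Fin m ⊕ Fin m → F) →ₗ[F] (Fin m ⊕ Fin m → F), ∀ x j k, f x (e (j, k)) =
      x (e (j, k)) + if j.val < 4 then ∑ a, x (e (S a, k)) else 0 := by
    refine ⟨{ toFun := fun x l => x l + if (e.symm l).1.val < 4 then ∑ a, x (e (S a, (e.symm l).2)) else 0
              map_add' := fun x y => ?_
              map_smul' := fun c x => ?_ }, fun x j k => ?_⟩
    · funext l
      simp only [Pi.add_apply, Finset.sum_add_distrib]
      split_ifs <;> ring
    · funext l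
      simp only [Pi.smul_apply, smul_eq_mul, RingHom.id_apply, ← Finset.mul_sum]
      split_ifs <;> ring
    · simp
  have hf4 : ∀ x a k, f x (e (S a, k)) = x (e (S a, k)) + ∑ b, x (e (S b, k)) := fun x a k => by
    rw [hf, if_pos ((hS a).trans_lt a.2)]
  have hff : ∀ x, f (f x) = x := by
    intro x
    funext l
    obtain ⟨⟨j, k⟩, rfl⟩ := e.surjective l
    by_cases hj : j.val < 4
    · rw [hf, if_pos hj, hf, if_pos hj, Fin.sum_univ_four (f := fun a => f x (e (S a, k))), hf4, hf4, hf4, hf4,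
        Fin.sum_univ_four]
      linear_combination (3 * (x (e (S 0, k)) + x (e (S 1, k)) + x (e (S 2, k)) + x (e (S 3, k)))) * h2
    · rw [hf, if_neg hj, hf, if_neg hj, add_zero, add_zero]
  have hM : LinearMap.toMatrix' f * LinearMap.toMatrix' f = 1 := by
    rw [← LinearMap.toMatrix'_comp, show f.comp f = LinearMap.id from LinearMap.ext hff, LinearMap.toMatrix'_id]
  obtain ⟨g, hg⟩ : ∃ g : GL (Fin m ⊕ Fin m) F, ∀ x, (g : Matrix (Fin m ⊕ Fin m) (Fin m ⊕ Fin m) F) *ᵥ x = f x :=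
    ⟨⟨LinearMap.toMatrix' f, LinearMap.toMatrix' f, hM, hM⟩, fun x => LinearMap.toMatrix'_mulVec f x⟩
  obtain ⟨T, hT⟩ : ∃ T : Finset (Fin t), T = Finset.univ.map ⟨S, hSi⟩ := ⟨_, rfl⟩
  have hmem : ∀ j, j ∉ T → ¬ j.val < 4 := fun j hj hlt => hj (by
    rw [hT, Finset.mem_map]; exact ⟨⟨j.val, hlt⟩, Finset.mem_univ _, Fin.ext (hS _)⟩)
  have hgw : ∀ x, weight e (f x) = (weight e x : F) := by
    intro x
    rw [weight, weight, ← Finset.sum_add_sum_compl T, ← Finset.sum_add_sum_compl T (fun j => (ind fun k => x (e (j, k)) : F))]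
    congr 1
    · rw [hT, Finset.sum_map, Finset.sum_map]
      refine (Finset.sum_congr rfl fun a _ => ?_).trans (core (Or.inr ⟨rfl, hq⟩) fun a k => x (e (S a, k)))
      show (ind fun k => f x (e (S a, k)) : F) = _
      congr 1
      funext k
      rw [hf4, Pi.add_apply, Finset.sum_apply]
    · exact Finset.sum_congr rfl fun j hj => by simp [hf, hmem j (Finset.mem_compl.1 hj)]
  have hgB : ∀ x y, ∑ j : Fin t, (f x (e (j, 0)) * f y (e (j, 1)) + f x (e (j, 1)) * f y (e (j, 0))) =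
      ∑ j : Fin t, (x (e (j, 0)) * y (e (j, 1)) + x (e (j, 1)) * y (e (j, 0))) := by
    intro x y
    rw [← Finset.sum_add_sum_compl T, ← Finset.sum_add_sum_compl T (fun j => x (e (j, 0)) * y (e (j, 1)) + x (e (j, 1)) * y (e (j, 0)))]
    congr 1
    · rw [hT, Finset.sum_map, Finset.sum_map, Fin.sum_univ_four, Fin.sum_univ_four]
      simp only [Function.Embedding.coeFn_mk, hf4, Fin.sum_univ_four]
      linear_combination (3 * ((x (e (S 0, 0)) + x (e (S 1, 0)) + x (e (S 2, 0)) + x (e (S 3, 0))) *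
        (y (e (S 0, 1)) + y (e (S 1, 1)) + y (e (S 2, 1)) + y (e (S 3, 1))) +
        (x (e (S 0, 1)) + x (e (S 1, 1)) + x (e (S 2, 1)) + x (e (S 3, 1))) *
        (y (e (S 0, 0)) + y (e (S 1, 0)) + y (e (S 2, 0)) + y (e (S 3, 0))))) * h2
    · exact Finset.sum_congr rfl fun j hj => by simp [hf, hmem j (Finset.mem_compl.1 hj)]
  let W : Subgroup (GL (Fin m ⊕ Fin m) F) :=
    { carrier := {g | ∀ x, (weight e (((P⁻¹ * g * P : GL (Fin m ⊕ Fin m) F) : Matrix (Fin m ⊕ Fin m) (Fin m ⊕ Fin m) F) *ᵥ x) : F) = weight e x}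
      one_mem' := fun x => by simp
      mul_mem' := fun {a b} ha hb x => by
        rw [show P⁻¹ * (a * b) * P = (P⁻¹ * a * P) * (P⁻¹ * b * P) by group, mul_mulVec, ha, hb]
      inv_mem' := fun {a} ha x => by
        have h := ha (((P⁻¹ * a⁻¹ * P : GL (Fin m ⊕ Fin m) F) : Matrix (Fin m ⊕ Fin m) (Fin m ⊕ Fin m) F) *ᵥ x)
        rw [← mul_mulVec, show P⁻¹ * a * P * (P⁻¹ * a⁻¹ * P) = 1 by group, Units.val_one, Matrix.one_mulVec] at h
        exact h.symm }
  have hle : Cfsg.Geo.decompositionStabilizer D ⊓ Cfsg.spGL m F ≤ W ⊓ Cfsg.spGL m F := by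
    rintro y ⟨hy, hy'⟩
    obtain ⟨σ, hσ⟩ := (mem_stabilizer_iff hD.decomp hP y).1 hy
    exact ⟨weight_perm e _ hσ, hy'⟩
  refine ⟨W ⊓ Cfsg.spGL m F, lt_of_le_of_ne hle fun heq => ?_, lt_of_le_of_ne inf_le_right fun heq => ?_⟩
  · have hgW : P * g * P⁻¹ ∈ W ⊓ Cfsg.spGL m F := by
      refine ⟨fun x => ?_, fun u v => ?_⟩
      · rw [show P⁻¹ * (P * g * P⁻¹) * P = g by group, hg, hgw]
      · obtain ⟨x, rfl⟩ : ∃ x, u = (P : Matrix (Fin m ⊕ Fin m) (Fin m ⊕ Fin m) F) *ᵥ x := ⟨_, (mulVec_inv_cancel P u).symm⟩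
        obtain ⟨y, rfl⟩ : ∃ y, v = (P : Matrix (Fin m ⊕ Fin m) (Fin m ⊕ Fin m) F) *ᵥ y := ⟨_, (mulVec_inv_cancel P v).symm⟩
        show Cfsg.sympForm m F (((P * g * P⁻¹ : GL (Fin m ⊕ Fin m) F) : Matrix (Fin m ⊕ Fin m) (Fin m ⊕ Fin m) F) *ᵥ _)
          (((P * g * P⁻¹ : GL (Fin m ⊕ Fin m) F) : Matrix (Fin m ⊕ Fin m) (Fin m ⊕ Fin m) F) *ᵥ _) = _
        rw [← mul_mulVec, ← mul_mulVec, inv_mul_cancel_right, mul_mulVec, mul_mulVec, hg, hg, hB, hB, hgB]
    rw [← heq] at hgW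
    obtain ⟨σ, hσ⟩ := (mem_stabilizer_iff hD.decomp hP _).1 hgW.1
    rw [show P⁻¹ * (P * g * P⁻¹) * P = g by group] at hσ
    have hE : InBlk (fun l => (e.symm l).1) (S 0) (Pi.single (e (S 0, (0 : Fin 2))) (1 : F) : Fin m ⊕ Fin m → F) :=
      inBlk_single (by simp) 1
    have hblk : ∀ b : Fin 4, b ≠ 0 → S b = σ (S 0) := by
      intro b hb
      by_contra hne
      have h0 := hσ _ _ hE (e (S b, (0 : Fin 2))) (by simpa using hne)
      rw [hg, hf4, Pi.single_eq_of_ne, zero_add, Finset.sum_eq_single 0, Pi.single_eq_same] at h0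
      · exact one_ne_zero h0
      · intro a _ ha
        exact Pi.single_eq_of_ne (fun h => ha (hSi (congrArg Prod.fst (e.injective h)))) _
      · intro h; exact absurd (Finset.mem_univ _) h
      · exact fun h => hb (hSi (congrArg Prod.fst (e.injective h)))
    exact absurd (hSi ((hblk 1 (by decide)).trans (hblk 2 (by decide)).symm)) (by decide)
  · obtain ⟨j₀, hj₀⟩ : ∃ j : Fin t, j.val = 0 := ⟨⟨0, by omega⟩, rfl⟩
    obtain ⟨j₁, hj₁⟩ : ∃ j : Fin t, j.val = 1 := ⟨⟨1, by omega⟩, rfl⟩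
    have hj : j₁ ≠ j₀ := fun h => by rw [h] at hj₁; omega
    obtain ⟨v, hv⟩ : ∃ v : Fin m ⊕ Fin m → F, v = Pi.single (e (j₀, 1)) 1 + Pi.single (e (j₁, 0)) 1 := ⟨_, rfl⟩
    obtain ⟨T', hT'⟩ : ∃ T' : GL (Fin m ⊕ Fin m) F, ∀ x, (T' : Matrix (Fin m ⊕ Fin m) (Fin m ⊕ Fin m) F) *ᵥ x =
        x + (Cfsg.sympForm m F x ((P : Matrix (Fin m ⊕ Fin m) (Fin m ⊕ Fin m) F) *ᵥ v)) •
          ((P : Matrix (Fin m ⊕ Fin m) (Fin m ⊕ Fin m) F) *ᵥ v) := by
      have hsq : Cfsg.sympTransvection m ((P : Matrix (Fin m ⊕ Fin m) (Fin m ⊕ Fin m) F) *ᵥ v) (1 : F) *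
          Cfsg.sympTransvection m ((P : Matrix (Fin m ⊕ Fin m) (Fin m ⊕ Fin m) F) *ᵥ v) (1 : F) = 1 := by
        refine Matrix.ext_of_mulVec_single fun i => ?_
        rw [← Matrix.mulVec_mulVec, sympTransvection_mulVec, sympTransvection_mulVec, sympForm_add_left,
          sympForm_smul_left, sympForm_self, Matrix.one_mulVec, mul_zero, add_zero, add_assoc, ← add_smul]
        rw [show ∀ a : F, a + a = 0 from fun a => by linear_combination a * h2, zero_smul, add_zero]
      exact ⟨⟨_, _, hsq, hsq⟩, fun x => by rw [sympTransvection_mulVec, one_mul]⟩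
    have hmemT : T' ∈ Cfsg.spGL m F := by
      intro a b
      show Cfsg.sympForm m F ((T' : Matrix (Fin m ⊕ Fin m) (Fin m ⊕ Fin m) F) *ᵥ a)
        ((T' : Matrix (Fin m ⊕ Fin m) (Fin m ⊕ Fin m) F) *ᵥ b) = _
      rw [hT', hT']
      simp only [sympForm_add_left, sympForm_add_right, sympForm_smul_left, sympForm_smul_right, sympForm_self]
      rw [sympForm_swap b ((P : Matrix (Fin m ⊕ Fin m) (Fin m ⊕ Fin m) F) *ᵥ v)]
      ring
    rw [← heq] at hmemT
    have h := hmemT.1 (Pi.single (e (j₀, 0)) 1)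
    have hval : ((P⁻¹ * T' * P : GL (Fin m ⊕ Fin m) F) : Matrix (Fin m ⊕ Fin m) (Fin m ⊕ Fin m) F) *ᵥ
        Pi.single (e (j₀, 0)) 1 = Pi.single (e (j₀, 0)) 1 + v := by
      apply mulVec_injective P
      dsimp only
      rw [← mul_mulVec, show P * (P⁻¹ * T' * P) = T' * P by group, mul_mulVec, hT', hB, Matrix.mulVec_add,
        Finset.sum_eq_single j₀]
      · simp [hv, hj.symm, hj]
      · intro i _ hi; simp [hi]
      · intro h; exact absurd (Finset.mem_univ _) h
    rw [hval, hv] at h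
    simp only [weight] at h
    rw [← Finset.add_sum_erase _ _ (Finset.mem_univ j₁),
      ← Finset.add_sum_erase _ (fun j => (ind fun k => (Pi.single (e (j₀, 0)) 1 : Fin m ⊕ Fin m → F) (e (j, k)) : F))
        (Finset.mem_univ j₁)] at h
    have e1 : (ind fun k => (Pi.single (e (j₀, 0)) 1 + (Pi.single (e (j₀, 1)) 1 + Pi.single (e (j₁, 0)) 1) : Fin m ⊕ Fin m → F) (e (j₁, k)) : F) = 1 := by
      rw [ind, if_neg]
      intro hz
      have := congrFun hz 0
      simp [hj] at this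
    have e0 : (ind fun k => (Pi.single (e (j₀, 0)) 1 : Fin m ⊕ Fin m → F) (e (j₁, k)) : F) = 0 := by
      rw [ind, if_pos]
      funext k
      simp [hj]
    have e2 : ∀ j ∈ Finset.univ.erase j₁,
        (ind fun k => (Pi.single (e (j₀, 0)) 1 + (Pi.single (e (j₀, 1)) 1 + Pi.single (e (j₁, 0)) 1) : Fin m ⊕ Fin m → F) (e (j, k)) : F) =
          ind fun k => (Pi.single (e (j₀, 0)) 1 : Fin m ⊕ Fin m → F) (e (j, k)) := by
      intro j hjm
      have hjne := (Finset.mem_erase.1 hjm).1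
      by_cases hj0 : j = j₀
      · subst hj0
        rw [ind, if_neg, ind, if_neg]
        · intro hz; simpa using congrFun hz 0
        · intro hz; simpa [hj.symm] using congrFun hz 0
      · congr 1
        funext k
        simp [hjne, hj0]
    rw [e1, e0, Finset.sum_congr rfl e2] at h
    exact one_ne_zero (add_right_cancel (b := (∑ j ∈ Finset.univ.erase j₁,
      (ind fun k => (Pi.single (e (j₀, 0)) 1 : Fin m ⊕ Fin m → F) (e (j, k)) : F))) h)

end CfsgLib.Classical22.DecompSmallField
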