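/-
Tensor stabilisers with a monomial factor are not maximal in orthogonal groups of odd characteristic.
-/
import Cfsg.Agent.Lib.Classical22.TensorRefine

set_option autoImplicit false

namespace CfsgLib.Classical22.TensorRefine

open Matrix CfsgLib.Transvec
open scoped commutatorElement

variable {F : Type*} [Field F] {ι : Type} [Fintype ι] [DecidableEq ι]

/-- A product of two reflections in orthogonal vectors of equal norm lies in `Ω`. -/
theorem exists_omega_pair (h2 : (2 : F) ≠ 0) {Q : (ι → F) → F} (hsm : ∀ (c : F) v, Q (c • v) = c ^ 2 * Q v)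
    (hB : Cfsg.Geo.IsBilinearForm (QuadraticMap.polar Q)) {a b : ι → F} (hab : QuadraticMap.polar Q a b = 0)
    (hQab : Q a = Q b) (ha : Q a ≠ 0) :
    ∃ g ∈ Cfsg.Geo.omegaGL Q, ∀ x, (g : Matrix ι ι F) *ᵥ x =
      x - (QuadraticMap.polar Q x a / Q a) • a - (QuadraticMap.polar Q x b / Q b) • b := by
  classical
  have hself : ∀ v, QuadraticMap.polar Q v v = 2 * Q v := fun v => by
    rw [QuadraticMap.polar, ← two_smul F v, hsm]; ring
  have hneg : ∀ u v, QuadraticMap.polar Q u (-v) = -QuadraticMap.polar Q u v := fun u v => by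
    rw [← neg_one_smul F v, hB.smul_right]; ring
  have hadd : ∀ u v, Q (u + v) = Q u + Q v + QuadraticMap.polar Q u v := fun u v => by
    rw [QuadraticMap.polar]; ring
  have hrefl : ∀ d : ι → F, Q d ≠ 0 → ∃ r : Cfsg.isometryGroup F Q, r * r = 1 ∧
      ∀ x, ((r : GL ι F) : Matrix ι ι F) *ᵥ x = x - (QuadraticMap.polar Q x d / Q d) • d := by
    intro d hd
    obtain ⟨L, hL⟩ : ∃ L : (ι → F) →ₗ[F] (ι → F), ∀ x, L x = x - (QuadraticMap.polar Q x d / Q d) • d := by
      refine ⟨{ toFun := fun x => x - (QuadraticMap.polar Q x d / Q d) • d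
                map_add' := fun x y => by rw [hB.add_left, add_div, add_smul]; abel
                map_smul' := fun k x => ?_ }, fun x => rfl⟩
      rw [hB.smul_left, RingHom.id_apply, smul_sub, smul_smul, mul_div_assoc]
    have hLL : ∀ x, L (L x) = x := by
      intro x
      have e : QuadraticMap.polar Q (L x) d = -QuadraticMap.polar Q x d := by
        rw [hL, sub_eq_add_neg, ← neg_smul, hB.add_left, hB.smul_left, hself]
        field_simp
        ring
      rw [hL (L x), e, hL, neg_div, neg_smul, sub_neg_eq_add, sub_add_cancel]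
    have hQ : ∀ x, Q (L x) = Q x := by
      intro x
      rw [hL, sub_eq_add_neg, ← neg_smul, hadd, hsm, hB.smul_right]
      field_simp
      ring
    have hM : LinearMap.toMatrix' L * LinearMap.toMatrix' L = 1 := by
      rw [← LinearMap.toMatrix'_comp, show L.comp L = LinearMap.id from LinearMap.ext hLL, LinearMap.toMatrix'_id]
    obtain ⟨r, hr⟩ : ∃ r : GL ι F, ∀ x, (r : Matrix ι ι F) *ᵥ x = L x :=
      ⟨⟨LinearMap.toMatrix' L, LinearMap.toMatrix' L, hM, hM⟩, fun x => LinearMap.toMatrix'_mulVec L x⟩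
    refine ⟨⟨r, fun x _ => ?_⟩, Subtype.ext (gl_ext fun x => ?_), fun x => by rw [hr, hL]⟩
    · show Q ((r : Matrix ι ι F) *ᵥ x) = Q x
      rw [hr, hQ]
    · show ((r * r : GL ι F) : Matrix ι ι F) *ᵥ x = ((1 : GL ι F) : Matrix ι ι F) *ᵥ x
      rw [mul_mulVec, hr, hr, hLL, Units.val_one, Matrix.one_mulVec]
  have hc : Q (a - b) = 2 * Q a := by
    rw [sub_eq_add_neg, hadd, hneg, hab, ← neg_one_smul F b, hsm, ← hQab]; ring
  obtain ⟨ra, hra2, hra⟩ := hrefl a ha
  obtain ⟨rc, hrc2, hrc⟩ := hrefl (a - b) (by rw [hc]; exact mul_ne_zero h2 ha)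
  refine ⟨((⁅ra, rc⁆ : Cfsg.isometryGroup F Q) : GL ι F),
    Subgroup.mem_map.2 ⟨⁅ra, rc⁆, Subgroup.commutator_mem_commutator (Subgroup.mem_top _) (Subgroup.mem_top _), rfl⟩, fun x => ?_⟩
  have hia : ra⁻¹ = ra := inv_eq_of_mul_eq_one_right hra2
  have hic : rc⁻¹ = rc := inv_eq_of_mul_eq_one_right hrc2
  rw [commutatorElement_def, hia, hic, Subgroup.coe_mul, Subgroup.coe_mul, Subgroup.coe_mul, mul_mulVec, mul_mulVec,
    mul_mulVec]
  have hca : ((rc : GL ι F) : Matrix ι ι F) *ᵥ a = b := by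
    have hp : QuadraticMap.polar Q a (a - b) = 2 * Q a := by
      rw [sub_eq_add_neg, hB.add_right, hneg, hab, hself]; ring
    rw [hrc, hp, hc, div_self (mul_ne_zero h2 ha), one_smul, sub_sub_cancel]
  have hpol : QuadraticMap.polar Q (((rc : GL ι F) : Matrix ι ι F) *ᵥ x) a = QuadraticMap.polar Q x b := by
    have hiso : ∀ v, Q (((rc : GL ι F) : Matrix ι ι F) *ᵥ v) = Q v := fun v => rc.2 v v
    have hxx : ((rc : GL ι F) : Matrix ι ι F) *ᵥ (((rc : GL ι F) : Matrix ι ι F) *ᵥ x) = x := by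
      rw [← mul_mulVec, ← Subgroup.coe_mul, hrc2, Subgroup.coe_one, Units.val_one, Matrix.one_mulVec]
    rw [QuadraticMap.polar, ← hiso (_ + a), ← hiso a, ← hiso (((rc : GL ι F) : Matrix ι ι F) *ᵥ x), Matrix.mulVec_add,
      hxx, hca]
    rfl
  have hrcc : ((rc : GL ι F) : Matrix ι ι F) *ᵥ (((rc : GL ι F) : Matrix ι ι F) *ᵥ x) = x := by
    rw [← mul_mulVec, ← Subgroup.coe_mul, hrc2, Subgroup.coe_one, Units.val_one, Matrix.one_mulVec]
  have hp : ∀ k : F, QuadraticMap.polar Q (x - k • b) a = QuadraticMap.polar Q x a := fun k => by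
    rw [sub_eq_add_neg, ← neg_smul, hB.add_left, hB.smul_left, QuadraticMap.polar_comm Q b a, hab, mul_zero, add_zero]
  rw [hra (((rc : GL ι F) : Matrix ι ι F) *ᵥ x), Matrix.mulVec_sub, Matrix.mulVec_smul, hrcc, hca, hpol, hra,
    hp, hQab]
  abel

theorem exists_overgroup_orth {a b : ℕ} (ha : 2 ≤ a) (h2 : (2 : F) ≠ 0) (Q : (ι → F) → F)
    (hsm : ∀ (c : F) v, Q (c • v) = c ^ 2 * Q v) (hbil : Cfsg.Geo.IsBilinearForm (QuadraticMap.polar Q))
    (fA : (Fin a → F) → (Fin a → F) → F) (fB : (Fin b → F) → (Fin b → F) → F)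
    (hAl : ∀ (c : F) (x v : Fin a → F), fA (c • x) v = c * fA x v)
    (hAr : ∀ (c : F) (v x : Fin a → F), fA v (c • x) = c * fA v x)
    (hBl : ∀ (c : F) (x v : Fin b → F), fB (c • x) v = c * fB x v)
    (hBn : ∀ y, y ≠ 0 → ∃ y', fB y y' ≠ 0)
    (τ : (Fin a → F) →ₗ[F] (Fin b → F) →ₗ[F] (ι → F)) {c : F} (hc : c ≠ 0)
    (hf : ∀ u u' y y', QuadraticMap.polar Q (τ u y) (τ u' y') = c * (fA u u' * fB y y'))
    (M : Subgroup (GL ι F))
    (hM : ∀ g ∈ M, ∃ (A : (Fin a → F) →ₗ[F] (Fin a → F)) (B : (Fin b → F) →ₗ[F] (Fin b → F)),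
      Function.Injective A ∧ Function.Injective B ∧ ∀ u y, (g : Matrix ι ι F) *ᵥ τ u y = τ (A u) (B y))
    (u : Fin a → (Fin a → F)) (hu : ∀ i j, fA (u i) (u j) = if i = j then 1 else 0)
    (hmono : ∀ v : Fin a → (Fin a → F), ∀ s : F, s ≠ 0 → (∀ i j, fA (v i) (v j) = if i = j then s else 0) →
      ∀ i, ∃ (k : Fin a) (d : F), v i = d • u k)
    {y₀ y₁ y₂ : Fin b → F} (h11 : fB y₀ y₀ = fB y₁ y₁) (h00 : fB y₀ y₀ ≠ 0) (h22 : fB y₂ y₂ ≠ 0)
    (h01' : fB y₀ y₁ = 0) (h20 : fB y₂ y₀ = 0) (h21 : fB y₂ y₁ = 0) :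
    ∃ K : Subgroup (GL ι F), M ⊓ Cfsg.Geo.omegaGL Q < K ∧ K < Cfsg.Geo.omegaGL Q := by
  classical
  obtain ⟨f, hfdef⟩ : ∃ f, f = QuadraticMap.polar Q := ⟨_, rfl⟩
  rw [← hfdef] at hf hbil
  have hal := hbil.add_left
  have har := hbil.add_right
  have hI : ∀ g ∈ Cfsg.Geo.omegaGL Q, ∀ x y, f ((g : Matrix ι ι F) *ᵥ x) ((g : Matrix ι ι F) *ᵥ y) = f x y := by
    rintro _ ⟨g, -, rfl⟩ x y
    have hiso : ∀ v, Q (((g : GL ι F) : Matrix ι ι F) *ᵥ v) = Q v := fun v => g.2 v v
    rw [hfdef, QuadraticMap.polar, QuadraticMap.polar, Subgroup.coe_subtype, ← Matrix.mulVec_add, hiso, hiso, hiso]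
  obtain ⟨I, hIdef⟩ : ∃ I, I = Cfsg.Geo.omegaGL Q := ⟨_, rfl⟩
  rw [← hIdef] at hI ⊢
  have hy₀ : y₀ ≠ 0 := fun h => h00 (by
    have := hBl 0 y₀ y₀
    rw [zero_smul, zero_mul] at this
    rw [h] at this ⊢
    exact this)
  obtain ⟨i₀, hi₀⟩ : ∃ i : Fin a, i.val = 0 := ⟨⟨0, by omega⟩, rfl⟩
  obtain ⟨i₁, hi₁⟩ : ∃ i : Fin a, i.val = 1 := ⟨⟨1, by omega⟩, rfl⟩
  have h01 : i₀ ≠ i₁ := fun h => by rw [h] at hi₀; omega
  obtain ⟨yd, h02⟩ := hBn y₀ hy₀
  have hinj : ∀ i, Function.Injective (τ (u i)) := fun i => by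
    rw [← LinearMap.ker_eq_bot, LinearMap.ker_eq_bot']
    intro y hy
    by_contra h0
    obtain ⟨y', hy'⟩ := hBn y h0
    have h := hf (u i) (u i) y y'
    rw [hy, hu, if_pos rfl, one_mul] at h
    have h0' := hal 0 0 (τ (u i) y')
    rw [add_zero] at h0'
    rw [show f 0 (τ (u i) y') = 0 from left_eq_add.1 h0'] at h
    exact mul_ne_zero hc hy' h.symm
  obtain ⟨D, hD⟩ : ∃ D : Fin a → Submodule F (ι → F), ∀ i, D i = LinearMap.range (τ (u i)) := ⟨_, fun i => rfl⟩
  have hdim : ∀ i, Module.finrank F (D i) = b := fun i => by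
    rw [hD, LinearMap.finrank_range_of_inj (hinj i), Module.finrank_fin_fun]
  have hle : M ⊓ I ≤ Cfsg.Geo.decompositionStabilizer D ⊓ I := by
    rintro g ⟨hg, hgI⟩
    refine ⟨?_, hgI⟩
    obtain ⟨A, B, hA, hB, hAB⟩ := hM g hg
    have key : ∀ i j y y', fA (A (u i)) (A (u j)) * fB (B y) (B y') = fA (u i) (u j) * fB y y' := by
      intro i j y y'
      have h := hI g hgI (τ (u i) y) (τ (u j) y')
      rw [hAB, hAB, hf, hf] at h
      exact mul_left_cancel₀ hc h
    have hB0 : fB (B y₀) (B yd) ≠ 0 := fun h => by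
      have := key i₀ i₀ y₀ yd
      rw [h, mul_zero, hu, if_pos rfl, one_mul] at this
      exact h02 this.symm
    obtain ⟨s, hs⟩ : ∃ s, s = fB y₀ yd / fB (B y₀) (B yd) := ⟨_, rfl⟩
    have hs0 : s ≠ 0 := hs ▸ div_ne_zero h02 hB0
    have hv : ∀ i j, fA (A (u i)) (A (u j)) = if i = j then s else 0 := by
      intro i j
      have h := key i j y₀ yd
      rw [hu] at h
      split_ifs at h ⊢ with hij
      · rw [hs, eq_div_iff hB0]; rw [one_mul] at h; exact h
      · rw [zero_mul] at h; exact (mul_eq_zero.1 h).resolve_right hB0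
    choose π d hπ using hmono (fun i => A (u i)) s hs0 hv
    have hd : ∀ i, d i ≠ 0 := fun i h => by
      have := hv i i
      rw [show A (u i) = d i • u (π i) from hπ i, h, hAl, zero_mul, if_pos rfl] at this
      exact hs0 this.symm
    have hπi : Function.Injective π := fun i j hij => by
      by_contra hne
      have := hv i j
      rw [show A (u i) = d i • u (π i) from hπ i, show A (u j) = d j • u (π j) from hπ j, hij, hAl, hAr, hu,
        if_pos rfl, if_neg hne, mul_one, mul_eq_zero] at this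
      exact this.elim (hd i) (hd j)
    refine ⟨Equiv.ofBijective π (Finite.injective_iff_bijective.1 hπi), fun i => Submodule.eq_of_le_of_finrank_eq ?_ ?_⟩
    · rintro _ ⟨x, hx, rfl⟩
      rw [hD] at hx
      obtain ⟨y, rfl⟩ := hx
      rw [Matrix.toLin'_apply, hAB, show A (u i) = d i • u (π i) from hπ i, map_smul, LinearMap.smul_apply,
        ← map_smul, hD]
      exact ⟨_, rfl⟩
    · rw [← (Submodule.equivMapOfInjective (Matrix.toLin' (g : Matrix ι ι F))
        (by intro p q h; exact mulVec_injective g (by simpa [Matrix.toLin'_apply] using h)) (D i)).finrank_eq, hdim, hdim]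
  refine ⟨Cfsg.Geo.decompositionStabilizer D ⊓ I, lt_of_le_of_ne hle fun heq => ?_,
    lt_of_le_of_ne inf_le_right fun heq => ?_⟩
  · have hQ : ∀ y, Q (τ (u i₀) y) = c * fB y y / 2 := fun y => by
      have h : QuadraticMap.polar Q (τ (u i₀) y) (τ (u i₀) y) = 2 * Q (τ (u i₀) y) := by
        rw [QuadraticMap.polar, ← two_smul F (τ (u i₀) y), hsm]; ring
      rw [← hfdef, hf, hu, if_pos rfl, one_mul] at h
      rw [h, mul_div_cancel_left₀ _ h2]
    obtain ⟨g, hgI, hg⟩ := exists_omega_pair h2 hsm (hfdef ▸ hbil) (a := τ (u i₀) y₀) (b := τ (u i₀) y₁)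
      (by rw [← hfdef, hf, h01', mul_zero, mul_zero]) (by rw [hQ, hQ, h11])
      (by rw [hQ]; exact div_ne_zero (mul_ne_zero hc h00) h2)
    rw [← hfdef] at hg
    rw [← hIdef] at hgI
    have hmem : g ∈ Cfsg.Geo.decompositionStabilizer D ⊓ I := by
      refine ⟨⟨1, fun i => Submodule.eq_of_le_of_finrank_eq ?_ ?_⟩, hgI⟩
      · rintro _ ⟨x, hx, rfl⟩
        rw [hD] at hx
        obtain ⟨y, rfl⟩ := hx
        rw [Matrix.toLin'_apply, hg, hf, hf, hu, Equiv.Perm.one_apply, hD]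
        by_cases hi : i = i₀
        · subst hi
          exact Submodule.sub_mem _ (Submodule.sub_mem _ ⟨_, rfl⟩ (Submodule.smul_mem _ _ ⟨_, rfl⟩))
            (Submodule.smul_mem _ _ ⟨_, rfl⟩)
        · rw [if_neg hi, zero_mul, mul_zero, zero_div, zero_smul, sub_zero, zero_mul, mul_zero, zero_div, zero_smul, sub_zero]
          exact ⟨_, rfl⟩
      · rw [← (Submodule.equivMapOfInjective (Matrix.toLin' (g : Matrix ι ι F))
          (by intro p q h; exact mulVec_injective g (by simpa [Matrix.toLin'_apply] using h)) (D i)).finrank_eq, hdim, hdim]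
    rw [← heq] at hmem
    obtain ⟨A, B, -, -, hAB⟩ := hM g hmem.1
    have hfix : ∀ y, τ (A (u i₁)) (B y) = τ (u i₁) y := fun y => by
      rw [← hAB, hg, hf, hf, hu, if_neg h01.symm, zero_mul, mul_zero, zero_div, zero_smul, sub_zero, zero_mul, mul_zero,
        zero_div, zero_smul, sub_zero]
    have hBy : ∀ y y', fA (A (u i₁)) (u i₁) * fB (B y) y' = fB y y' := by
      intro y y'
      have h := congrArg (fun x => f x (τ (u i₁) y')) (hfix y)
      rw [hf, hf, hu, if_pos rfl, one_mul] at h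
      exact mul_left_cancel₀ hc h
    have hκ : fA (A (u i₁)) (u i₁) ≠ 0 := fun h => h00 (by rw [← hBy, h, zero_mul])
    have ew : τ (A (u i₀)) (B y₂) = τ (u i₀) y₂ := by
      rw [← hAB, hg, hf, hf, h20, h21, mul_zero, mul_zero, zero_div, zero_smul, sub_zero, zero_div, zero_smul, sub_zero]
    have ey : τ (A (u i₀)) (B y₀) = (-1 : F) • τ (u i₀) y₀ := by
      rw [← hAB, hg, hf, hf, h01', hu, if_pos rfl, mul_zero, mul_zero, zero_div, zero_smul, sub_zero, hQ, one_mul,
        show c * fB y₀ y₀ / (c * fB y₀ y₀ / 2) = 2 by field_simp]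
      module
    have e2 := congrArg (fun x => f x (τ (u i₀) y₂)) ew
    have e0 := congrArg (fun x => f x (τ (u i₀) y₀)) ey
    simp only [hbil.smul_left, hf, hu, if_true, one_mul] at e2 e0
    have b2 := hBy y₂ y₂
    have b0 := hBy y₀ y₀
    have l2 : fA (A (u i₀)) (u i₀) = fA (A (u i₁)) (u i₁) := mul_left_cancel₀ (mul_ne_zero hc h22) (by
      linear_combination (fA (A (u i₁)) (u i₁)) * e2 - (c * fA (A (u i₀)) (u i₀)) * b2)
    have l0 : fA (A (u i₀)) (u i₀) = -fA (A (u i₁)) (u i₁) := mul_left_cancel₀ (mul_ne_zero hc h00) (by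
      linear_combination (fA (A (u i₁)) (u i₁)) * e0 - (c * fA (A (u i₀)) (u i₀)) * b0)
    exact mul_ne_zero h2 hκ (by linear_combination l0 - l2)
  · have hsum : ∀ z z', f (τ (u i₀) z + τ (u i₁) z) (τ (u i₀) z' + τ (u i₁) z') = 2 * (c * fB z z') := by
      intro z z'
      simp only [hal, har, hf, hu, if_true, if_neg h01, if_neg h01.symm]
      ring
    have hQ : ∀ y, Q (τ (u i₀) y + τ (u i₁) y) = c * fB y y := fun y => by
      have h : QuadraticMap.polar Q (τ (u i₀) y + τ (u i₁) y) (τ (u i₀) y + τ (u i₁) y) =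
          2 * Q (τ (u i₀) y + τ (u i₁) y) := by
        rw [QuadraticMap.polar, ← two_smul F (τ (u i₀) y + τ (u i₁) y), hsm]; ring
      rw [← hfdef, hsum] at h
      exact (mul_left_cancel₀ h2 h).symm
    obtain ⟨g, hgI, hg⟩ := exists_omega_pair h2 hsm (hfdef ▸ hbil) (a := τ (u i₀) y₀ + τ (u i₁) y₀)
      (b := τ (u i₀) y₁ + τ (u i₁) y₁) (by rw [← hfdef, hsum, h01', mul_zero, mul_zero]) (by rw [hQ, hQ, h11])
      (by rw [hQ]; exact mul_ne_zero hc h00)
    rw [← hfdef] at hg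
    rw [← hIdef, ← heq] at hgI
    obtain ⟨π, hπ⟩ := hgI.1
    have hval : ∀ y z, f (τ (u i₀) y) (τ (u i₀) z + τ (u i₁) z) = c * fB y z := fun y z => by
      rw [har, hf, hf, hu, hu, if_pos rfl, if_neg h01, one_mul, zero_mul, mul_zero, add_zero]
    have himg : ∀ y, ∃ z, (g : Matrix ι ι F) *ᵥ τ (u i₀) y = τ (u (π i₀)) z := fun y => by
      have hx : Matrix.toLin' (g : Matrix ι ι F) (τ (u i₀) y) ∈ D (π i₀) := by
        rw [← hπ]
        exact Submodule.mem_map_of_mem (by rw [hD]; exact ⟨_, rfl⟩)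
      rw [Matrix.toLin'_apply, hD, LinearMap.mem_range] at hx
      obtain ⟨z, hz⟩ := hx
      exact ⟨z, hz.symm⟩
    obtain ⟨z, hz⟩ := himg y₀
    rw [hg, hval, hval, h01', mul_zero, zero_div, zero_smul, sub_zero, hQ, div_self (mul_ne_zero hc h00), one_smul,
      sub_add_cancel_left, ← neg_one_smul F (τ (u i₁) y₀)] at hz
    have hp : π i₀ = i₁ := by
      by_contra hp
      have h := congrArg (fun x => f x (τ (u i₁) y₀)) hz
      simp only [hbil.smul_left, hf, hu, if_true, if_neg hp, zero_mul, mul_zero, one_mul] at h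
      exact mul_ne_zero hc h00 (by linear_combination -h)
    obtain ⟨w, hw⟩ := himg y₂
    rw [hg, hval, hval, h20, h21, mul_zero, zero_div, zero_smul, sub_zero, zero_div, zero_smul, sub_zero, hp] at hw
    have h := congrArg (fun x => f x (τ (u i₀) y₂)) hw
    simp only [hf, hu, if_true, if_neg h01.symm, zero_mul, mul_zero, one_mul] at h
    exact mul_ne_zero hc h22 h

end CfsgLib.Classical22.TensorRefine
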