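/-
Stabilisers of orthogonal decompositions into planes or 3-spaces over F₃ are not maximal in Ω.
-/
import Cfsg.Agent.Lib.Classical22.DecompCoords
import Cfsg.Agent.Lib.Classical22.TensorRefineOrth
import Cfsg.Agent.S5667

set_option autoImplicit false

namespace CfsgLib.Classical22.DecompThree

open Matrix CfsgLib.Transvec CfsgLib.Classical22.Monomial CfsgLib.Classical22.DecompBlocks
open CfsgLib.Classical22.DecompCoords CfsgLib.Classical22.TensorRefine

variable {F : Type*} [Field F] {ι : Type} [Fintype ι] [DecidableEq ι]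

theorem good_norms (h3 : (3 : F) = 0) (hsq : ∀ a : F, a ≠ 0 → a ^ 2 = 1) {k : ℕ} {ν : Fin k → F}
    (hk : k = 2 ∨ (k = 3 ∧ ∀ i j, ν i = ν j)) (hν : ∀ i, ν i ≠ 0) (x : Fin k → F) (l : Fin k)
    (h : ∑ i, x i * x i * ν i = ν l) : ∀ i j, x i ≠ 0 → x j ≠ 0 → i = j := by
  have hx : ∀ i, x i ≠ 0 → x i * x i = 1 := fun i hi => by rw [← sq]; exact hsq _ hi
  rcases hk with rfl | ⟨rfl, heq⟩
  · rw [Fin.sum_univ_two] at h
    have hb : x 0 = 0 ∨ x 1 = 0 := by
      by_contra hc
      push Not at hc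
      rw [hx 0 hc.1, hx 1 hc.2] at h
      fin_cases l
      · exact hν 1 (by simpa using h)
      · exact hν 0 (by simpa using h)
    intro i j hi hj
    fin_cases i <;> fin_cases j <;> first | rfl | exact absurd hb (by simp_all)
  · rw [Fin.sum_univ_three, heq 1 0, heq 2 0, heq l 0] at h
    have key : ∀ a b c : Fin 3, a ≠ b → a ≠ c → b ≠ c →
        x a * x a * ν 0 + x b * x b * ν 0 + x c * x c * ν 0 = ν 0 → x a ≠ 0 → x b ≠ 0 → False := by
      intro a b c _ _ _ h ha hb
      rw [hx a ha, hx b hb] at h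
      by_cases hc : x c = 0
      · rw [hc] at h
        exact hν 0 (by linear_combination h)
      · rw [hx c hc] at h
        exact hν 0 (by linear_combination (ν 0) * h3 - h)
    intro i j hi hj
    by_contra hne
    fin_cases i <;> fin_cases j <;> first
      | exact hne rfl
      | exact key 0 1 2 (by decide) (by decide) (by decide) h (by assumption) (by assumption)
      | exact key 1 0 2 (by decide) (by decide) (by decide) (by linear_combination h) (by assumption) (by assumption)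
      | exact key 0 2 1 (by decide) (by decide) (by decide) (by linear_combination h) (by assumption) (by assumption)
      | exact key 2 0 1 (by decide) (by decide) (by decide) (by linear_combination h) (by assumption) (by assumption)
      | exact key 1 2 0 (by decide) (by decide) (by decide) (by linear_combination h) (by assumption) (by assumption)
      | exact key 2 1 0 (by decide) (by decide) (by decide) (by linear_combination h) (by assumption) (by assumption)

theorem good_family [Fintype F] (hq : Fintype.card F = 3) {V : Type*} [AddCommGroup V] [Module F V]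
    [FiniteDimensional F V] {k : ℕ} (hd : Module.finrank F V = k) (hk : k = 2 ∨ k = 3) (B : V →ₗ[F] V →ₗ[F] F)
    (hs : ∀ x y, B x y = B y x) (hn : ∀ v, v ≠ 0 → ∃ w, B v w ≠ 0) :
    ∃ (u : Fin k → V) (ν : Fin k → F), (∀ i, ν i ≠ 0) ∧ (k = 2 ∨ (k = 3 ∧ ∀ i j, ν i = ν j)) ∧
      ∀ i j, B (u i) (u j) = if i = j then ν i else 0 := by
  classical
  have h3 : (3 : F) = 0 := by
    have h := FiniteField.cast_card_eq_zero F
    rw [hq] at h
    simpa using h
  have h2 : (2 : F) ≠ 0 := fun h => one_ne_zero (α := F) (by linear_combination h3 - h)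
  haveI : Invertible (2 : F) := invertibleOfNonzero h2
  have hS : LinearMap.IsSymm B := ⟨fun x y => by simpa using hs x y⟩
  obtain ⟨b₀, hb₀⟩ := LinearMap.BilinForm.exists_orthogonal_basis hS
  obtain ⟨b, hb⟩ : ∃ b : Module.Basis (Fin k) F V, ∀ i j, i ≠ j → B (b i) (b j) = 0 :=
    ⟨b₀.reindex (finCongr hd), fun i j h => by
      rw [Module.Basis.reindex_apply, Module.Basis.reindex_apply]
      exact hb₀ (fun hc => h ((finCongr hd).symm.injective hc))⟩
  have hne : ∀ i, B (b i) (b i) ≠ 0 := fun i h0 => by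
    obtain ⟨x, hx⟩ := hn (b i) (b.ne_zero i)
    apply hx
    rw [← b.sum_repr x, map_sum]
    refine Finset.sum_eq_zero fun j _ => ?_
    by_cases hij : i = j
    · subst hij; rw [map_smul, h0, smul_zero]
    · rw [map_smul, hb i j hij, smul_zero]
  rcases hk with rfl | rfl
  · refine ⟨b, fun i => B (b i) (b i), hne, Or.inl rfl, fun i j => ?_⟩
    by_cases hij : i = j
    · subst hij; rw [if_pos rfl]
    · rw [if_neg hij, hb i j hij]
  · have hval : ∀ i, B (b i) (b i) = 1 ∨ B (b i) (b i) = -1 := fun i => by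
      have h := FiniteField.pow_card_sub_one_eq_one _ (hne i)
      rw [hq] at h
      exact sq_eq_one_iff.1 h
    have fin : ∀ (u : Fin 3 → V) (ε : F), ε ≠ 0 → (∀ i j, B (u i) (u j) = if i = j then ε else 0) →
        ∃ (u : Fin 3 → V) (ν : Fin 3 → F), (∀ i, ν i ≠ 0) ∧ (3 = 2 ∨ (3 = 3 ∧ ∀ i j, ν i = ν j)) ∧
          ∀ i j, B (u i) (u j) = if i = j then ν i else 0 :=
      fun u ε hε hu => ⟨u, fun _ => ε, fun _ => hε, Or.inr ⟨rfl, fun _ _ => rfl⟩, hu⟩
    have two : ∀ i j l : Fin 3, i ≠ j → i ≠ l → j ≠ l → B (b i) (b i) = B (b j) (b j) →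
        B (b l) (b l) = -B (b i) (b i) → ∃ (u : Fin 3 → V) (ν : Fin 3 → F), (∀ i, ν i ≠ 0) ∧
          (3 = 2 ∨ (3 = 3 ∧ ∀ i j, ν i = ν j)) ∧ ∀ i j, B (u i) (u j) = if i = j then ν i else 0 :=
      fun i j l hij hil hjl ej el => by
        obtain ⟨u, hu⟩ := Cfsg.Agent.S5667.pair_flip h3 B hs (hb i j hij) (hb i l hil) (hb j l hjl) rfl ej.symm el
        exact fin u _ (neg_ne_zero.2 (hne i)) hu
    by_cases e01 : B (b 0) (b 0) = B (b 1) (b 1)
    · by_cases e02 : B (b 0) (b 0) = B (b 2) (b 2)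
      · refine fin b _ (hne 0) fun i j => ?_
        by_cases hij : i = j
        · subst hij; rw [if_pos rfl]; fin_cases i <;> first | rfl | exact e01.symm | exact e02.symm
        · rw [if_neg hij, hb i j hij]
      · refine two 0 1 2 (by decide) (by decide) (by decide) e01 ?_
        rcases hval 0 with a | a <;> rcases hval 2 with c | c <;> rw [a, c] at e02 ⊢
        · exact absurd rfl e02
        · rw [neg_neg]
        · exact absurd rfl e02
    · by_cases e02 : B (b 0) (b 0) = B (b 2) (b 2)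
      · refine two 0 2 1 (by decide) (by decide) (by decide) e02 ?_
        rcases hval 0 with a | a <;> rcases hval 1 with c | c <;> rw [a, c] at e01 ⊢
        · exact absurd rfl e01
        · rw [neg_neg]
        · exact absurd rfl e01
      · refine two 1 2 0 (by decide) (by decide) (by decide) ?_ ?_
        · rcases hval 0 with a | a <;> rcases hval 1 with c | c <;> rcases hval 2 with d | d <;>
            rw [a, c] at e01 <;> rw [a, d] at e02 <;> rw [c, d] <;>
            first | exact absurd rfl e01 | exact absurd rfl e02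
        · rcases hval 0 with a | a <;> rcases hval 1 with c | c <;> rw [a, c] at e01 ⊢ <;>
            first | exact absurd rfl e01 | rw [neg_neg] | rfl

theorem exists_overgroup [Fintype F] (hq : Fintype.card F = 3) (hcard : 13 ≤ Fintype.card ι) (Q : (ι → F) → F)
    (hsm : ∀ (c : F) v, Q (c • v) = c ^ 2 * Q v) (hbil : Cfsg.Geo.IsBilinearForm (QuadraticMap.polar Q)) {t k : ℕ}
    (hk : k = 2 ∨ k = 3) (D : Fin t → Submodule F (ι → F)) (hD : Cfsg.Geo.IsOrthogonalMDecomposition Q k D) :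
    ∃ K : Subgroup (GL ι F), Cfsg.Geo.decompositionStabilizer D ⊓ Cfsg.Geo.omegaGL Q < K ∧
      K < Cfsg.Geo.omegaGL Q := by
  classical
  have h3 : (3 : F) = 0 := by
    have h := FiniteField.cast_card_eq_zero F
    rw [hq] at h
    simpa using h
  have h2 : (2 : F) ≠ 0 := fun h => one_ne_zero (α := F) (by linear_combination h3 - h)
  have hsq : ∀ a : F, a ≠ 0 → a ^ 2 = 1 := fun a ha => by
    have := FiniteField.pow_card_sub_one_eq_one a ha
    rwa [hq] at this
  have hself : ∀ v, QuadraticMap.polar Q v v = 2 * Q v := fun v => by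
    rw [QuadraticMap.polar, ← two_smul F v, hsm]; ring
  obtain ⟨B, hB⟩ : ∃ B : (ι → F) →ₗ[F] (ι → F) →ₗ[F] F, ∀ x y, B x y = QuadraticMap.polar Q x y :=
    ⟨LinearMap.mk₂ F _ hbil.add_left hbil.smul_left hbil.add_right hbil.smul_right, fun x y => rfl⟩
  obtain ⟨e, -, -⟩ := exists_coords hD.decomp.decomp
  have htk : t * k = Fintype.card ι := by simpa using Fintype.card_congr e
  have ht : 5 ≤ t := by rcases hk with rfl | rfl <;> omega
  obtain ⟨j₀, hj₀⟩ : ∃ j : Fin t, j.val = 0 := ⟨⟨0, by omega⟩, rfl⟩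
  obtain ⟨u₀, ν, hν, hkν, hu₀⟩ := good_family hq (hD.decomp.decomp.finrank_eq j₀) hk
    ((B.comp (D j₀).subtype).compl₂ (D j₀).subtype)
    (fun x y => by simp [hB, QuadraticMap.polar_comm Q]) (fun v hv => by
      obtain ⟨x, hx, hx0⟩ := (hD.decomp.nondegenerate j₀ v v.2 (fun h => hv (Subtype.ext h))).2
      exact ⟨⟨x, hx⟩, by simpa [hB] using hx0⟩)
  choose φ hφ using fun j => hD.isometric j₀ j
  obtain ⟨u, hu⟩ : ∃ u : Fin t → Fin k → (ι → F), ∀ j i, u j i = (φ j (u₀ i) : ι → F) := ⟨_, fun j i => rfl⟩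
  have humem : ∀ j i, u j i ∈ D j := fun j i => hu j i ▸ (φ j (u₀ i)).2
  have huu : ∀ j i i', QuadraticMap.polar Q (u j i) (u j i') = if i = i' then ν i else 0 := by
    intro j i i'
    rw [← hu₀, hu, hu]
    simp only [LinearMap.compl₂_apply, LinearMap.comp_apply, Submodule.subtype_apply, hB, QuadraticMap.polar]
    rw [← Submodule.coe_add, ← map_add, hφ, hφ, hφ, Submodule.coe_add]
  have huo : ∀ l l', QuadraticMap.polar Q (u (e.symm l).1 (e.symm l).2) (u (e.symm l').1 (e.symm l').2) =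
      if l = l' then ν (e.symm l).2 else 0 := by
    intro l l'
    by_cases hb : (e.symm l).1 = (e.symm l').1
    · rw [hb, huu]
      by_cases hl : l = l'
      · rw [if_pos hl, if_pos (by rw [hl])]
      · rw [if_neg hl, if_neg (fun h => hl (e.symm.injective (Prod.ext hb h)))]
    · rw [hD.decomp.orthogonal _ _ hb _ (humem _ _) _ (humem _ _), if_neg (fun h => hb (by rw [h]))]
  obtain ⟨U, hU⟩ : ∃ U : Matrix ι ι F, ∀ x, U *ᵥ x = ∑ l, x l • u (e.symm l).1 (e.symm l).2 := by
    refine ⟨Matrix.of fun i l => u (e.symm l).1 (e.symm l).2 i, fun x => ?_⟩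
    funext i
    rw [Finset.sum_apply]
    simp [Matrix.mulVec, dotProduct, mul_comm]
  have hdual : ∀ (x : ι → F) l, QuadraticMap.polar Q (U *ᵥ x) (u (e.symm l).1 (e.symm l).2) = x l * ν (e.symm l).2 := by
    intro x l
    rw [hU, ← hB, map_sum, LinearMap.sum_apply, Finset.sum_eq_single l]
    · rw [map_smul, LinearMap.smul_apply, hB, huo, if_pos rfl, smul_eq_mul]
    · intro i _ hi
      rw [map_smul, LinearMap.smul_apply, hB, huo, if_neg hi, smul_zero]
    · intro h; exact absurd (Finset.mem_univ _) h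
  have hUi : Function.Injective U.mulVec := fun x y hxy => funext fun l => by
    have h := congrArg (fun z => QuadraticMap.polar Q z (u (e.symm l).1 (e.symm l).2)) hxy
    simp only [hdual] at h
    exact mul_right_cancel₀ (hν _) h
  obtain ⟨P, hPU⟩ : ∃ P : GL ι F, (P : Matrix ι ι F) = U :=
    ⟨(Matrix.mulVec_injective_iff_isUnit.1 hUi).unit, rfl⟩
  have hP : ∀ (j : Fin t) (x : ι → F), (P : Matrix ι ι F) *ᵥ x ∈ D j ↔ InBlk (fun l => (e.symm l).1) j x := by
    intro j x
    rw [hPU]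
    constructor
    · intro hx l hl
      refine (mul_eq_zero.1 ((hdual x l).symm.trans ?_)).resolve_right (hν _)
      exact hD.decomp.orthogonal j _ (Ne.symm hl) _ hx _ (humem _ _)
    · intro hx
      rw [hU]
      refine (D j).sum_mem fun l _ => ?_
      by_cases hl : (e.symm l).1 = j
      · exact (D j).smul_mem _ (hl ▸ humem _ _)
      · rw [hx l hl, zero_smul]
        exact (D j).zero_mem
  have hP1 : ∀ l, (P : Matrix ι ι F) *ᵥ Pi.single l 1 = u (e.symm l).1 (e.symm l).2 := fun l => by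
    rw [hPU, hU, Finset.sum_eq_single l]
    · simp
    · intro i _ hi; simp [hi]
    · simp
  have hform : ∀ x y, QuadraticMap.polar Q ((P : Matrix ι ι F) *ᵥ x) ((P : Matrix ι ι F) *ᵥ y) =
      ∑ l, x l * y l * ν (e.symm l).2 := by
    intro x y
    rw [hPU, hU y, ← hB, map_sum]
    refine Finset.sum_congr rfl fun l _ => ?_
    rw [map_smul, hB, hdual, smul_eq_mul]
    ring
  have hI : ∀ g ∈ Cfsg.Geo.omegaGL Q, ∀ x y,
      QuadraticMap.polar Q ((g : Matrix ι ι F) *ᵥ x) ((g : Matrix ι ι F) *ᵥ y) = QuadraticMap.polar Q x y := by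
    rintro _ ⟨g, -, rfl⟩ x y
    have hiso : ∀ v, Q (((g : GL ι F) : Matrix ι ι F) *ᵥ v) = Q v := fun v => g.2 v v
    rw [QuadraticMap.polar, QuadraticMap.polar, Subgroup.coe_subtype, ← Matrix.mulVec_add, hiso, hiso, hiso]
  let W : Subgroup (GL ι F) :=
    { carrier := {g | IsMono (P⁻¹ * g * P)}
      one_mem' := by
        show IsMono (P⁻¹ * 1 * P)
        rw [mul_one, inv_mul_cancel, ← mono_one]
        exact isMono_mono _ _
      mul_mem' := fun {a b} ha hb => by
        show IsMono (P⁻¹ * (a * b) * P)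
        rw [show P⁻¹ * (a * b) * P = (P⁻¹ * a * P) * (P⁻¹ * b * P) by group]
        exact IsMono.mul ha hb
      inv_mem' := fun {a} ha => by
        show IsMono (P⁻¹ * a⁻¹ * P)
        rw [show P⁻¹ * a⁻¹ * P = (P⁻¹ * a * P)⁻¹ by group]
        exact IsMono.inv ha }
  have hle : Cfsg.Geo.decompositionStabilizer D ⊓ Cfsg.Geo.omegaGL Q ≤ W ⊓ Cfsg.Geo.omegaGL Q := by
    rintro y ⟨hy, hy'⟩
    refine ⟨fun c => ?_, hy'⟩
    obtain ⟨s, hs⟩ := (mem_stabilizer_iff hD.decomp.decomp hP y).1 hy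
    obtain ⟨⟨j, i⟩, rfl⟩ := e.surjective c
    obtain ⟨z, hz⟩ : ∃ z, z = ((P⁻¹ * y * P : GL ι F) : Matrix ι ι F) *ᵥ Pi.single (e (j, i)) 1 := ⟨_, rfl⟩
    have hzb : InBlk (fun l => (e.symm l).1) (s j) z := hz ▸ hs j _ (inBlk_single (by simp) 1)
    have hzz : ∑ i' : Fin k, z (e (s j, i')) * z (e (s j, i')) * ν i' = ν i := by
      have hsum : QuadraticMap.polar Q ((P : Matrix ι ι F) *ᵥ z) ((P : Matrix ι ι F) *ᵥ z) = ν i := by
        rw [hz, ← mul_mulVec, show P * (P⁻¹ * y * P) = y * P by group, mul_mulVec, hI y hy', hP1, huo, if_pos rfl]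
        simp
      rw [← hsum, hform, ← Equiv.sum_comp e, Fintype.sum_prod_type, Finset.sum_eq_single (s j)]
      · simp
      · intro a _ ha
        refine Finset.sum_eq_zero fun k' _ => ?_
        rw [hzb _ (by simpa using ha), zero_mul, zero_mul]
      · intro h; exact absurd (Finset.mem_univ _) h
    have hone := good_norms h3 hsq hkν hν (fun i' => z (e (s j, i'))) i hzz
    have hcol : ∀ l, (P⁻¹ * y * P : GL ι F).1 l (e (j, i)) = z l := fun l => by
      rw [hz, Matrix.mulVec_single_one]; rfl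
    by_cases hex : ∃ i', z (e (s j, i')) ≠ 0
    · obtain ⟨i', hi'⟩ := hex
      refine ⟨e (s j, i'), fun l hl => ?_⟩
      rw [hcol]
      obtain ⟨⟨a, i''⟩, rfl⟩ := e.surjective l
      by_cases ha : a = s j
      · subst ha
        by_contra h
        exact hl (by rw [hone i'' i' h hi'])
      · exact hzb _ (by simpa using ha)
    · push Not at hex
      exact absurd (hzz.symm.trans (Finset.sum_eq_zero fun i' _ => by rw [hex i', zero_mul, zero_mul])) (hν i)
  obtain ⟨J, hJ⟩ : ∃ J : Fin 5 → Fin t, ∀ a, (J a).val = a.val := ⟨fun a => ⟨a.val, by omega⟩, fun a => rfl⟩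
  have hJi : Function.Injective J := fun a b h => Fin.ext (by rw [← hJ a, ← hJ b, h])
  obtain ⟨i₀, hi₀⟩ : ∃ i : Fin k, i.val = 0 := ⟨⟨0, by omega⟩, rfl⟩
  obtain ⟨i₁, hi₁⟩ : ∃ i : Fin k, i.val = 1 := ⟨⟨1, by omega⟩, rfl⟩
  have hii : i₀ ≠ i₁ := fun h => by rw [h] at hi₀; omega
  have hne : ∀ a b, a ≠ b → e (J a, i₀) ≠ e (J b, i₀) :=
    fun a b h h' => h (hJi (congrArg Prod.fst (e.injective h')))
  have hQP : ∀ x, Q ((P : Matrix ι ι F) *ᵥ x) = (∑ l, x l * x l * ν (e.symm l).2) / 2 := fun x => by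
    rw [← hform, hself, mul_div_cancel_left₀ _ h2]
  have hpair : ∀ x₁ x₂ : ι → F, (∑ l, x₁ l * x₂ l * ν (e.symm l).2) = 0 →
      (∑ l, x₁ l * x₁ l * ν (e.symm l).2) = ∑ l, x₂ l * x₂ l * ν (e.symm l).2 →
      (∑ l, x₁ l * x₁ l * ν (e.symm l).2) ≠ 0 →
      ∃ g ∈ Cfsg.Geo.omegaGL Q, ∀ x, ((P⁻¹ * g * P : GL ι F) : Matrix ι ι F) *ᵥ x =
        x - (2 * (∑ l, x l * x₁ l * ν (e.symm l).2) / ∑ l, x₁ l * x₁ l * ν (e.symm l).2) • x₁
          - (2 * (∑ l, x l * x₂ l * ν (e.symm l).2) / ∑ l, x₂ l * x₂ l * ν (e.symm l).2) • x₂ := by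
    intro x₁ x₂ h12 hn hn0
    obtain ⟨g, hg, hgv⟩ := exists_omega_pair h2 hsm hbil (a := (P : Matrix ι ι F) *ᵥ x₁) (b := (P : Matrix ι ι F) *ᵥ x₂)
      (by rw [hform, h12]) (by rw [hQP, hQP, hn]) (by rw [hQP]; exact div_ne_zero hn0 h2)
    refine ⟨g, hg, fun x => ?_⟩
    apply mulVec_injective P
    dsimp only
    rw [← mul_mulVec, show P * (P⁻¹ * g * P) = g * P by group, mul_mulVec, hgv, hform, hform, hQP, hQP,
      Matrix.mulVec_sub, Matrix.mulVec_sub, Matrix.mulVec_smul, Matrix.mulVec_smul]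
    simp only [div_div_eq_mul_div, mul_comm _ (2 : F)]
  obtain ⟨ev, hev⟩ : ∃ ev : Fin 5 → (ι → F), ∀ a, ev a = Pi.single (e (J a, i₀)) 1 := ⟨_, fun a => rfl⟩
  have hd : ∀ a b, ∑ l, ev a l * ev b l * ν (e.symm l).2 = if a = b then ν i₀ else 0 := by
    intro a b
    rw [hev, hev, Finset.sum_eq_single (e (J a, i₀))]
    · by_cases hab : a = b
      · subst hab; simp
      · rw [if_neg hab, Pi.single_eq_of_ne (hne a b hab), mul_zero, zero_mul]
    · intro l _ hl; rw [Pi.single_eq_of_ne hl, zero_mul, zero_mul]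
    · simp
  refine ⟨W ⊓ Cfsg.Geo.omegaGL Q, lt_of_le_of_ne hle fun heq => ?_, lt_of_le_of_ne inf_le_right fun heq => ?_⟩
  · have s00 : ∑ l, (ev 0 + ev 1) l * (ev 0 + ev 1) l * ν (e.symm l).2 = 2 * ν i₀ := by
      simp only [Pi.add_apply, add_mul, mul_add, Finset.sum_add_distrib, hd]
      simp; ring
    have s11 : ∑ l, (ev 2 + ev 3) l * (ev 2 + ev 3) l * ν (e.symm l).2 = 2 * ν i₀ := by
      simp only [Pi.add_apply, add_mul, mul_add, Finset.sum_add_distrib, hd]
      simp; ring
    obtain ⟨g, hg, hgv⟩ := hpair (ev 0 + ev 1) (ev 2 + ev 3)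
      (by simp only [Pi.add_apply, add_mul, mul_add, Finset.sum_add_distrib, hd]; simp)
      (s00.trans s11.symm) (by rw [s00]; exact mul_ne_zero h2 (hν _))
    have hdot : ∀ (x : ι → F) a b, a ≠ b → ∑ l, x l * (ev a + ev b) l * ν (e.symm l).2 =
        (x (e (J a, i₀)) + x (e (J b, i₀))) * ν i₀ := by
      intro x a b hab
      simp only [Pi.add_apply, mul_add, add_mul, Finset.sum_add_distrib]
      rw [hev, hev, Finset.sum_eq_single (e (J a, i₀)), Finset.sum_eq_single (e (J b, i₀))] <;>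
        intros <;> simp_all
    obtain ⟨π, hπ⟩ : ∃ π : Equiv.Perm ι, π = Equiv.swap (e (J 0, i₀)) (e (J 1, i₀)) * Equiv.swap (e (J 2, i₀)) (e (J 3, i₀)) :=
      ⟨_, rfl⟩
    have hgm : IsMono (P⁻¹ * g * P) := by
      intro c
      refine ⟨π c, fun l hl => ?_⟩
      have h := congrFun (hgv (Pi.single c 1)) l
      rw [Matrix.mulVec_single_one] at h
      rw [show (P⁻¹ * g * P : GL ι F).1 l c = _ from h, hdot _ 0 1 (by decide), hdot _ 2 3 (by decide), s00, s11]
      have n01 := hne 0 1 (by decide)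
      have n02 := hne 0 2 (by decide)
      have n03 := hne 0 3 (by decide)
      have n12 := hne 1 2 (by decide)
      have n13 := hne 1 3 (by decide)
      have n23 := hne 2 3 (by decide)
      have hν0 := hν i₀
      simp only [Pi.sub_apply, Pi.smul_apply, Pi.add_apply, smul_eq_mul, hev]
      simp only [hπ, Equiv.Perm.mul_apply] at hl
      by_cases c0 : c = e (J 0, i₀)
      · subst c0
        rw [Equiv.swap_apply_of_ne_of_ne n02 n03, Equiv.swap_apply_left] at hl
        by_cases l0 : l = e (J 0, i₀)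
        · subst l0; simp [n01, n02, n03, n01.symm, n02.symm, n03.symm]; field_simp; ring
        · simp [l0, hl, n01, n02, n03, n01.symm, n02.symm, n03.symm]
      by_cases c1 : c = e (J 1, i₀)
      · subst c1
        rw [Equiv.swap_apply_of_ne_of_ne n12 n13, Equiv.swap_apply_right] at hl
        by_cases l1 : l = e (J 1, i₀)
        · subst l1; simp [n01, n12, n13, n01.symm, n12.symm, n13.symm]; field_simp; ring
        · simp [l1, hl, n01, n12, n13, n01.symm, n12.symm, n13.symm]
      by_cases c2 : c = e (J 2, i₀)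
      · subst c2
        rw [Equiv.swap_apply_left, Equiv.swap_apply_of_ne_of_ne n03.symm n13.symm] at hl
        by_cases l2 : l = e (J 2, i₀)
        · subst l2; simp [n02, n12, n23, n02.symm, n12.symm, n23.symm]; field_simp; ring
        · simp [l2, hl, n02, n12, n23, n02.symm, n12.symm, n23.symm]
      by_cases c3 : c = e (J 3, i₀)
      · subst c3
        rw [Equiv.swap_apply_right, Equiv.swap_apply_of_ne_of_ne n02.symm n12.symm] at hl
        by_cases l3 : l = e (J 3, i₀)
        · subst l3; simp [n03, n13, n23, n03.symm, n13.symm, n23.symm]; field_simp; ring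
        · simp [l3, hl, n03, n13, n23, n03.symm, n13.symm, n23.symm]
      rw [Equiv.swap_apply_of_ne_of_ne c2 c3, Equiv.swap_apply_of_ne_of_ne c0 c1] at hl
      simp [hl, Ne.symm c0, Ne.symm c1, Ne.symm c2, Ne.symm c3]
    have hmem : g ∈ W ⊓ Cfsg.Geo.omegaGL Q := ⟨hgm, hg⟩
    rw [← heq] at hmem
    obtain ⟨s, hs⟩ := (mem_stabilizer_iff hD.decomp.decomp hP _).1 hmem.1
    have hk1 : ∀ a, e (J a, i₀) ≠ e (J 0, i₁) := fun a h => hii (congrArg Prod.snd (e.injective h))
    have hA : ((P⁻¹ * g * P : GL ι F) : Matrix ι ι F) *ᵥ Pi.single (e (J 0, i₁)) 1 = Pi.single (e (J 0, i₁)) 1 := by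
      rw [hgv, hdot _ 0 1 (by decide), hdot _ 2 3 (by decide)]
      simp [hk1]
    have hB' : ((P⁻¹ * g * P : GL ι F) : Matrix ι ι F) *ᵥ ev 0 = - ev 1 := by
      rw [hgv, hdot _ 0 1 (by decide), hdot _ 2 3 (by decide), s00, s11, hev 0]
      have n01 := hne 0 1 (by decide)
      have n02 := hne 0 2 (by decide)
      have n03 := hne 0 3 (by decide)
      have hν0 := hν i₀
      simp [n01.symm, n02.symm, n03.symm, h2, hν0, hev]
    have e1 : s (J 0) = J 0 := by
      by_contra hn
      have h := hs (J 0) (Pi.single (e (J 0, i₁)) 1) (inBlk_single (by simp) 1) (e (J 0, i₁)) (by simpa using Ne.symm hn)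
      rw [hA, Pi.single_eq_same] at h
      exact one_ne_zero h
    have h := hs (J 0) (ev 0) (by rw [hev]; exact inBlk_single (by simp) 1) (e (J 1, i₀))
      (by simp [e1, hJi.eq_iff])
    rw [hB', hev] at h
    simp at h
  · have s00 : ∑ l, (ev 0 + ev 1 + ev 2 + ev 3) l * (ev 0 + ev 1 + ev 2 + ev 3) l * ν (e.symm l).2 = 4 * ν i₀ := by
      simp only [Pi.add_apply, add_mul, mul_add, Finset.sum_add_distrib, hd]
      simp; ring
    have h4 : 4 * ν i₀ = ν i₀ := by linear_combination (ν i₀) * h3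
    obtain ⟨g, hg, hgv⟩ := hpair (ev 0 + ev 1 + ev 2 + ev 3) (ev 4)
      (by simp only [Pi.add_apply, add_mul, mul_add, Finset.sum_add_distrib, hd]; simp)
      (by rw [s00, h4, hd, if_pos rfl]) (by rw [s00, h4]; exact hν _)
    rw [← heq] at hg
    obtain ⟨i, hi⟩ := hg.1 (e (J 0, i₀))
    have hval : ∀ a : Fin 5, a ≠ 0 → a ≠ 4 → (P⁻¹ * g * P : GL ι F).1 (e (J a, i₀)) (e (J 0, i₀)) ≠ 0 := by
      intro a ha ha4
      have h := congrFun (hgv (ev 0)) (e (J a, i₀))
      rw [s00, h4] at h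
      have hdd : ∑ l, ev 0 l * (ev 0 + ev 1 + ev 2 + ev 3) l * ν (e.symm l).2 = ν i₀ := by
        simp only [Pi.add_apply, mul_add, add_mul, Finset.sum_add_distrib, hd]
        simp
      rw [hdd, hd, if_neg (show (0 : Fin 5) ≠ 4 by decide)] at h
      have hcol : (((P⁻¹ * g * P : GL ι F) : Matrix ι ι F) *ᵥ ev 0) (e (J a, i₀)) =
          (P⁻¹ * g * P : GL ι F).1 (e (J a, i₀)) (e (J 0, i₀)) := by rw [hev, Matrix.mulVec_single_one]; rfl
      rw [hcol] at h
      rw [h]
      fin_cases a <;> simp_all [hev, hJi.eq_iff]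
    exact hne 1 2 (by decide) ((Classical.not_not.1 fun h => hval 1 (by decide) (by decide) (hi _ h)).trans
      (Classical.not_not.1 fun h => hval 2 (by decide) (by decide) (hi _ h)).symm)

end CfsgLib.Classical22.DecompThree
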