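import Mathlib

set_option autoImplicit false

/-!
# Fixed-point-free elements of prime order in transitive groups
-/

namespace CfsgLib.Classical22

open MulAction

variable {G Ω : Type*} [Group G] [Finite G] [MulAction G Ω] [Fintype Ω]

/-- If `p` divides the degree then every orbit of a Sylow `p`-subgroup has size divisible by the `p`-part. -/
theorem pow_dvd_orbit_sylow (htr : IsPretransitive G Ω) {p j : ℕ} [Fact p.Prime] (P : Sylow p G)
    (hj : p ^ j ∣ Fintype.card Ω) (ω : Ω) : p ^ j ∣ Nat.card (orbit P ω) := by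
  have h1 : (stabilizer G ω).index = Fintype.card Ω := by
    haveI := htr
    rw [index_stabilizer_of_transitive, Nat.card_eq_fintype_card]
  obtain ⟨e, he⟩ := P.isPGroup'.card_orbit ω
  rw [he]
  have h2 : Nat.card (orbit P ω) = (stabilizer P ω).index :=
    (index_stabilizer P ω).symm ▸ (Nat.card_coe_set_eq _)
  -- compare the indices in `G`
  have hle : (stabilizer P ω).map (P : Subgroup G).subtype ≤ stabilizer G ω := by
    rintro _ ⟨x, hx, rfl⟩; exact hx
  have h3 := Subgroup.index_dvd_of_le hle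
  rw [Subgroup.index_map_subtype, h1, ← h2, he] at h3
  have h4 : Nat.Coprime (p ^ j) (P : Subgroup G).index :=
    Nat.Coprime.pow_left _ ((Nat.Prime.coprime_iff_not_dvd Fact.out).mpr P.not_dvd_index)
  exact h4.dvd_of_dvd_mul_right (hj.trans h3)

omit [Finite G] in
/-- A transitive finite `p`-group contains a fixed-point-free element of order `p`. -/
theorem exists_derangement_pGroup [Finite G] [FaithfulSMul G Ω] (htr : IsPretransitive G Ω) {p : ℕ}
    [Fact p.Prime] (hG : IsPGroup p G) (hΩ : 1 < Fintype.card Ω) :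
    ∃ g : G, orderOf g = p ∧ ∀ ω : Ω, g • ω ≠ ω := by
  haveI := htr
  haveI : Nontrivial G := by
    obtain ⟨a, b, hab⟩ := Fintype.exists_pair_of_one_lt_card hΩ
    obtain ⟨g, hg⟩ := exists_smul_eq G a b
    exact ⟨g, 1, fun h => hab (by rw [← hg, h, one_smul])⟩
  haveI := hG.center_nontrivial
  obtain ⟨n, hn0, hn⟩ := (hG.to_subgroup (Subgroup.center G)).exists_card_eq.imp fun n hn =>
    show 0 < n ∧ Nat.card (Subgroup.center G) = p ^ n from
      ⟨Nat.pos_of_ne_zero fun h0 => by
        have := Finite.one_lt_card (α := Subgroup.center G)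
        rw [hn, h0, pow_zero] at this; omega, hn⟩
  obtain ⟨z, hz⟩ := exists_prime_orderOf_dvd_card' p (hn ▸ dvd_pow_self p hn0.ne')
  refine ⟨z, by rwa [Subgroup.orderOf_coe], fun ω hω => ?_⟩
  have hz1 : (z : G) = 1 := by
    refine eq_of_smul_eq_smul fun b : Ω => ?_
    obtain ⟨g, rfl⟩ := exists_smul_eq G ω b
    rw [one_smul, ← mul_smul, ← Subgroup.mem_center_iff.mp z.2 g, mul_smul, hω]
  rw [← Subgroup.orderOf_coe, hz1, orderOf_one] at hz
  exact (Fact.out : p.Prime).one_lt.ne hz

/-- Transitive groups of prime-power degree have fixed-point-free elements of order `p`. -/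
theorem exists_derangement_primePow [FaithfulSMul G Ω] (htr : IsPretransitive G Ω) {p k : ℕ} (hp : p.Prime)
    (hk : 1 ≤ k) (hΩ : Fintype.card Ω = p ^ k) :
    ∃ g : G, orderOf g = p ∧ ∀ ω : Ω, g • ω ≠ ω := by
  haveI := Fact.mk hp
  obtain ⟨P⟩ := Sylow.nonempty (p := p) (G := G)
  have hall : ∀ ω : Ω, orbit P ω = Set.univ := fun ω => by
    apply Set.eq_of_subset_of_ncard_le (Set.subset_univ _)
    rw [Set.ncard_univ, Nat.card_eq_fintype_card, ← Nat.card_coe_set_eq, hΩ]
    exact Nat.le_of_dvd (Nat.card_pos_iff.mpr ⟨⟨⟨ω, mem_orbit_self _⟩⟩, inferInstance⟩)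
      (pow_dvd_orbit_sylow htr P hΩ.symm.dvd ω)
  have htrP : IsPretransitive P Ω := ⟨fun a b => mem_orbit_iff.mp ((hall a).symm ▸ Set.mem_univ b)⟩
  obtain ⟨g, hg, hfix⟩ := exists_derangement_pGroup htrP P.isPGroup'
    (hΩ ▸ Nat.one_lt_pow (by omega) hp.one_lt)
  exact ⟨g, by rwa [Subgroup.orderOf_coe], hfix⟩

/-- Transitive groups of degree `m p`, `m ≤ p`, have fixed-point-free elements of order `p`. -/
theorem exists_derangement_small [FaithfulSMul G Ω] (htr : IsPretransitive G Ω) {p m : ℕ} (hp : p.Prime)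
    (hm : 1 ≤ m) (hmp : m ≤ p) (hΩ : Fintype.card Ω = m * p) :
    ∃ g : G, orderOf g = p ∧ ∀ ω : Ω, g • ω ≠ ω := by
  classical
  haveI := Fact.mk hp
  haveI := Fintype.ofFinite G
  obtain ⟨P⟩ := Sylow.nonempty (p := p) (G := G)
  have hdvd : ∀ ω : Ω, p ∣ Nat.card (orbit P ω) := fun ω => by
    simpa using pow_dvd_orbit_sylow (j := 1) htr P (by rw [pow_one, hΩ]; exact dvd_mul_left _ _) ω
  by_cases hbig : ∃ ω : Ω, orbit P ω = Set.univ
  · obtain ⟨ω, hω⟩ := hbig
    obtain ⟨e, he⟩ := P.isPGroup'.card_orbit ω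
    rw [hω, Nat.card_coe_set_eq, Set.ncard_univ, Nat.card_eq_fintype_card] at he
    refine exists_derangement_primePow htr hp (Nat.pos_of_ne_zero fun h0 => ?_) he
    rw [h0, pow_zero, hΩ] at he
    exact hp.one_lt.ne' (Nat.eq_one_of_mul_eq_one_left he)
  simp only [not_exists] at hbig
  have hsize : ∀ ω : Ω, Nat.card (orbit P ω) = p := fun ω => by
    obtain ⟨e, he⟩ := P.isPGroup'.card_orbit ω
    have hlt : Nat.card (orbit P ω) < p ^ 2 := by
      rw [Nat.card_coe_set_eq]
      calc (orbit P ω).ncard < Fintype.card Ω := by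
            rw [← Nat.card_eq_fintype_card, ← Set.ncard_univ]
            exact Set.ncard_lt_ncard ((Set.subset_univ _).ssubset_of_ne (hbig ω))
        _ ≤ p ^ 2 := by rw [hΩ, sq]; exact Nat.mul_le_mul_right p hmp
    have h1 := hdvd ω
    rw [he] at hlt h1 ⊢
    have := (Nat.pow_lt_pow_iff_right hp.one_lt).mp hlt
    interval_cases e
    · exact absurd (Nat.dvd_one.mp (by simpa using h1)) hp.one_lt.ne'
    · exact pow_one p
  have hidx : ∀ ω : Ω, (stabilizer P ω).index = p := fun ω => by
    rw [index_stabilizer, ← Nat.card_coe_set_eq, hsize]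
  have hnorm : ∀ ω : Ω, (stabilizer P ω).Normal := fun ω => by
    haveI : Nontrivial P := by
      refine Finite.one_lt_card_iff_nontrivial.mp ?_
      have h := (stabilizer P ω).index_dvd_card
      rw [hidx] at h
      exact hp.one_lt.trans_le (Nat.le_of_dvd Nat.card_pos h)
    exact Subgroup.normal_of_index_eq_minFac_card (by
      rw [hidx]
      obtain ⟨n, hn⟩ := P.isPGroup'.exists_card_eq
      rw [hn, Nat.pow_minFac, hp.minFac_eq]
      intro h0; rw [h0, pow_zero] at hn
      exact Finite.one_lt_card.ne' hn)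
  -- the elements fixing a point
  let Q := orbitRel.Quotient P Ω
  have hcardQ : Fintype.card Q = m := by
    have h : Fintype.card Ω = ∑ q : Q, Fintype.card q.orbit := by
      rw [Fintype.card_congr (selfEquivSigmaOrbits' P Ω), Fintype.card_sigma]
    rw [hΩ, Finset.sum_congr rfl (fun q _ => ?_)] at h
    · rw [Finset.sum_const, Finset.card_univ, smul_eq_mul] at h
      exact (Nat.eq_of_mul_eq_mul_right hp.pos h).symm
    · rw [← Nat.card_eq_fintype_card, orbitRel.Quotient.orbit_eq_orbit_out _ Quotient.out_eq, hsize]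
  let bad : Finset P := {1} ∪ Finset.univ.biUnion fun q : Q => (Finset.univ.filter fun g : P => g • q.out = q.out).erase 1
  have hbad : bad.card < Fintype.card P := by
    have hK : ∀ ω : Ω, ((Finset.univ.filter fun g : P => g • ω = ω).erase 1).card * p + p = Fintype.card P := fun ω => by
      rw [Finset.card_erase_of_mem (by simp), ← Nat.card_eq_fintype_card, ← (stabilizer P ω).card_mul_index, hidx]
      have e : Nat.card (stabilizer P ω) = (Finset.univ.filter fun g : P => g • ω = ω).card := by
        rw [Nat.card_eq_fintype_card]; exact Fintype.card_subtype _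
      rw [e]
      have hpos : 0 < (Finset.univ.filter fun g : P => g • ω = ω).card := Finset.card_pos.mpr ⟨1, by simp⟩
      obtain ⟨c, hc⟩ := Nat.exists_eq_succ_of_ne_zero hpos.ne'
      rw [hc, Nat.succ_sub_one, Nat.succ_mul]
    refine (Finset.card_union_le _ _).trans_lt ?_
    rw [Finset.card_singleton]
    have h1 := Finset.card_biUnion_le (s := (Finset.univ : Finset Q))
      (t := fun q : Q => (Finset.univ.filter fun g : P => g • q.out = q.out).erase 1)
    have h2 : (∑ q : Q, ((Finset.univ.filter fun g : P => g • q.out = q.out).erase 1).card) * p + m * p = m * Fintype.card P := by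
      rw [Finset.sum_mul]
      have : m * p = ∑ _q : Q, p := by rw [Finset.sum_const, Finset.card_univ, hcardQ, smul_eq_mul]
      rw [this, ← Finset.sum_add_distrib, Finset.sum_congr rfl fun q _ => hK q.out, Finset.sum_const,
        Finset.card_univ, hcardQ, smul_eq_mul]
    have h3 : m * Fintype.card P ≤ p * Fintype.card P := Nat.mul_le_mul_right _ hmp
    have h4 : 1 < p := hp.one_lt
    have h5 : p ≤ m * p := Nat.le_mul_of_pos_left p hm
    by_contra hcon
    have h6 : Fintype.card P * p ≤ (1 + ∑ q : Q, ((Finset.univ.filter fun g : P => g • q.out = q.out).erase 1).card) * p :=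
      Nat.mul_le_mul_right p ((Nat.le_of_not_lt hcon).trans (Nat.add_le_add_left h1 1))
    rw [add_mul, one_mul] at h6
    have hPp : p ∣ Fintype.card P := by
      rcases isEmpty_or_nonempty Q with hQ | ⟨⟨q⟩⟩
      · rw [Fintype.card_eq_zero] at hcardQ; omega
      · have h := (stabilizer P q.out).index_dvd_card
        rwa [hidx, Nat.card_eq_fintype_card] at h
    rcases Nat.lt_or_eq_of_le hmp with hlt | heq
    · have := Nat.mul_lt_mul_of_pos_right hlt (Fintype.card_pos (α := P))
      nlinarith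
    · subst heq; nlinarith
  obtain ⟨g, -, hg⟩ := Finset.exists_mem_notMem_of_card_lt_card (hbad.trans_eq Finset.card_univ.symm)
  have hg1 : g ≠ 1 := fun h => hg (Finset.mem_union_left _ (by simp [h]))
  have hfree : ∀ ω : Ω, g • ω ≠ ω := by
    intro ω hω
    obtain ⟨h, hh⟩ := mem_orbit_iff.mp (orbitRel_apply.mp (@Quotient.exact _ (orbitRel P Ω) _ _
      (Quotient.out_eq (Quotient.mk (orbitRel P Ω) ω))))
    apply hg
    refine Finset.mem_union_right _ (Finset.mem_biUnion.mpr ⟨Quotient.mk (orbitRel P Ω) ω, Finset.mem_univ _,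
      Finset.mem_erase.mpr ⟨hg1, Finset.mem_filter.mpr ⟨Finset.mem_univ _, ?_⟩⟩⟩)
    have hmem : h⁻¹ * g * h⁻¹⁻¹ ∈ stabilizer P ω := (hnorm ω).conj_mem _ hω h⁻¹
    rw [inv_inv, mem_stabilizer_iff, mul_smul, mul_smul, hh, inv_smul_eq_iff, hh] at hmem
    exact hmem
  have hgp : g ^ p = 1 := by
    have hp' : ∀ ω : Ω, (g ^ p) • ω = ω := fun ω => by
      haveI := hnorm ω
      have := Subgroup.pow_index_mem (stabilizer P ω) g
      rwa [hidx] at this
    apply Subtype.ext
    exact eq_of_smul_eq_smul fun ω : Ω => by rw [OneMemClass.coe_one, one_smul]; exact hp' ω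
  exact ⟨g, by rw [Subgroup.orderOf_coe]; exact orderOf_eq_prime hgp hg1, hfree⟩

end CfsgLib.Classical22
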