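/-
Eigenspace bounds for elements normalising an absolutely irreducible extraspecial group.
-/
import Mathlib
import Cfsg.Prelude.Def_GeometricClasses

set_option autoImplicit false

namespace CfsgLib.Classical22.ExtraspecialEigen

section Linear

variable {F V : Type*} [Field F] [AddCommGroup V] [Module F V] [FiniteDimensional F V]

theorem sum_finrank_le {ι : Type*} [Fintype ι] (f : V →ₗ[F] V) (μ : ι → F) (hμ : Function.Injective μ)
    (P : ι → Submodule F V) (Y : Submodule F V) (hPY : ∀ i, P i ≤ Y) (hP : ∀ i, ∀ v ∈ P i, f v = μ i • v) :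
    ∑ i, Module.finrank F (P i) ≤ Module.finrank F Y := by
  classical
  obtain ⟨Φ, hΦ⟩ : ∃ Φ : (Π i, P i) →ₗ[F] Y, ∀ w, (Φ w : V) = ∑ i, (w i : V) :=
    ⟨LinearMap.codRestrict Y (∑ i, (P i).subtype.comp (LinearMap.proj i)) (fun w => by
      simp only [LinearMap.coe_sum, Finset.sum_apply]
      exact Y.sum_mem fun i _ => hPY i (w i).2), fun w => by simp⟩
  have hinj : Function.Injective Φ := by
    rw [← LinearMap.ker_eq_bot, LinearMap.ker_eq_bot']
    intro w hw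
    by_contra hw0
    obtain ⟨i₀, hi₀⟩ : ∃ i, (w i : V) ≠ 0 := by
      by_contra! h
      exact hw0 (funext fun i => Subtype.ext (h i))
    have hLI := Module.End.eigenvectors_linearIndependent' f (fun i : {i // (w i : V) ≠ 0} => μ i)
      (hμ.comp Subtype.val_injective) (fun i => (w i : V)) fun i =>
        Module.End.hasEigenvector_iff.2 ⟨Module.End.mem_eigenspace_iff.2 (hP _ _ (w i).2), i.2⟩
    have hsum : ∑ i : {i // (w i : V) ≠ 0}, (1 : F) • (w i : V) = 0 := by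
      simp only [one_smul]
      rw [← Finset.sum_subtype (Finset.univ.filter fun i => (w i : V) ≠ 0) (fun x => by simp) (fun i => (w i : V)),
        Finset.sum_filter_ne_zero, ← hΦ, hw, Submodule.coe_zero]
    exact one_ne_zero (Fintype.linearIndependent_iff.1 hLI _ hsum ⟨i₀, hi₀⟩)
  calc ∑ i, Module.finrank F (P i) = Module.finrank F (Π i, P i) := (Module.finrank_pi_fintype F).symm
    _ ≤ _ := LinearMap.finrank_le_finrank_of_injective hinj

theorem translate_bound (g x : V →ₗ[F] V) (hx : Function.Injective x) {r : ℕ} {β : F} (hβ : IsPrimitiveRoot β r)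
    {Y : Submodule F V} (hxY : ∀ y ∈ Y, x y ∈ Y) (hgx : ∀ y ∈ Y, g (x y) = β • x (g y)) {c : F} (hc : c ≠ 0)
    {W : Submodule F V} (hWY : W ≤ Y) (hW : ∀ w ∈ W, g w = c • w) :
    r * Module.finrank F W ≤ Module.finrank F Y := by
  classical
  obtain ⟨P, hP⟩ : ∃ P : Fin r → Submodule F V, ∀ j, P j = W.map (x ^ (j : ℕ)) := ⟨_, fun j => rfl⟩
  have hmem : ∀ (j : ℕ), ∀ w ∈ W, (x ^ j) w ∈ Y ∧ g ((x ^ j) w) = (c * β ^ j) • (x ^ j) w := by
    intro j
    induction j with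
    | zero => intro w hw; exact ⟨by simpa using hWY hw, by simpa using hW w hw⟩
    | succ j ih =>
      intro w hw
      rw [pow_succ', Module.End.mul_apply]
      refine ⟨hxY _ (ih w hw).1, ?_⟩
      rw [hgx _ (ih w hw).1, (ih w hw).2, map_smul, smul_smul, pow_succ]
      congr 1
      ring
  have hinj : ∀ j : ℕ, Function.Injective (x ^ j) := fun j => by
    rw [Module.End.coe_pow]; exact hx.iterate j
  have h := sum_finrank_le g (fun j : Fin r => c * β ^ (j : ℕ))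
    (fun i j h => Fin.ext (hβ.pow_inj i.2 j.2 (mul_left_cancel₀ hc h))) P Y
    (fun j => hP j ▸ Submodule.map_le_iff_le_comap.2 fun w hw => (hmem j w hw).1)
    (fun j v hv => by rw [hP] at hv; obtain ⟨w, hw, rfl⟩ := hv; exact (hmem j w hw).2)
  beta_reduce at h
  rw [Finset.sum_congr rfl (fun (j : Fin r) _ => show Module.finrank F (P j) = Module.finrank F (W.map (x ^ (j : ℕ))) by rw [hP])] at h
  rw [Finset.sum_congr rfl (fun (j : Fin r) _ => (Submodule.equivMapOfInjective _ (hinj j) W).finrank_eq.symm)] at h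
  simpa using h

theorem finrank_le_roots (f : V →ₗ[F] V) (W : Submodule F V) (hfW : ∀ w ∈ W, f w ∈ W) :
    ∀ (k : ℕ) (μ : ℕ → F), (∀ w ∈ W, (Polynomial.aeval f (∏ i ∈ Finset.range k, (Polynomial.X - Polynomial.C (μ i)))) w = 0) →
      ∃ P : ℕ → Submodule F V, (∀ i, P i ≤ W ∧ ∀ v ∈ P i, f v = μ i • v) ∧
        Module.finrank F W ≤ ∑ i ∈ Finset.range k, Module.finrank F (P i) := by
  intro k
  induction k generalizing W with
  | zero =>
    intro μ h
    refine ⟨fun _ => ⊥, fun i => ⟨bot_le, fun v hv => by simp [(Submodule.mem_bot F).1 hv]⟩, ?_⟩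
    have : W = ⊥ := eq_bot_iff.2 fun w hw => by simpa using h w hw
    simp [this]
  | succ k ih =>
    intro μ h
    obtain ⟨T, hT⟩ : ∃ T : V →ₗ[F] V, T = f - μ k • LinearMap.id := ⟨_, rfl⟩
    obtain ⟨W', hW'⟩ : ∃ W', W' = W.map T := ⟨_, rfl⟩
    have hW'W : W' ≤ W := by
      rw [hW', hT]
      rintro _ ⟨w, hw, rfl⟩
      exact W.sub_mem (hfW w hw) (W.smul_mem _ hw)
    have hfW' : ∀ w ∈ W', f w ∈ W' := by
      rw [hW']
      rintro _ ⟨w, hw, rfl⟩
      exact ⟨f w, hfW w hw, by simp [hT]⟩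
    have hker : ∀ w ∈ W', (Polynomial.aeval f (∏ i ∈ Finset.range k, (Polynomial.X - Polynomial.C (μ i)))) w = 0 := by
      rw [hW']
      rintro _ ⟨w, hw, rfl⟩
      have h0 := h w hw
      rw [Finset.prod_range_succ, map_mul, Module.End.mul_apply] at h0
      rw [← h0]
      congr 1
      simp [hT]
    obtain ⟨P, hP, hle⟩ := ih W' hfW' μ hker
    refine ⟨Function.update P k (W ⊓ LinearMap.ker T), fun i => ?_, ?_⟩
    · by_cases hi : i = k
      · subst hi
        rw [Function.update_self]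
        refine ⟨inf_le_left, fun v hv => ?_⟩
        have := hv.2
        rw [SetLike.mem_coe, LinearMap.mem_ker, hT] at this
        simpa [sub_eq_zero] using this
      · rw [Function.update_of_ne hi]
        exact ⟨(hP i).1.trans hW'W, (hP i).2⟩
    · rw [Finset.sum_range_succ, Function.update_self, Finset.sum_congr rfl (fun i hi => by
        rw [Function.update_of_ne (Finset.mem_range.1 hi).ne])]
      have h2 := LinearMap.finrank_range_add_finrank_ker (T.comp W.subtype)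
      rw [LinearMap.range_comp, Submodule.range_subtype, ← hW', LinearMap.ker_comp] at h2
      have e : Module.finrank F (Submodule.comap W.subtype (LinearMap.ker T)) =
          Module.finrank F (W ⊓ LinearMap.ker T : Submodule F V) := by
        rw [← (Submodule.equivMapOfInjective _ W.subtype_injective (Submodule.comap W.subtype (LinearMap.ker T))).finrank_eq.symm,
          Submodule.map_comap_subtype]
      omega

theorem root_decomp (f : V →ₗ[F] V) {r : ℕ} {ω : F} (hω : IsPrimitiveRoot ω r) (hr : 0 < r)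
    (W : Submodule F V) (hfW : ∀ w ∈ W, f w ∈ W) (hf : ∀ w ∈ W, (f ^ r) w = w) :
    ∃ P : Fin r → Submodule F V, (∀ i, P i ≤ W ∧ ∀ v ∈ P i, f v = ω ^ (i : ℕ) • v) ∧
      Module.finrank F W ≤ ∑ i, Module.finrank F (P i) := by
  obtain ⟨P, hP, hle⟩ := finrank_le_roots f W hfW r (fun i => ω ^ i) (fun w hw => by
    have e : (∏ i ∈ Finset.range r, (Polynomial.X - Polynomial.C (ω ^ i))) = Polynomial.X ^ r - 1 := by
      rw [← Polynomial.C_1, X_pow_sub_C_eq_prod hω hr (one_pow r)]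
      simp
    rw [e, map_sub, map_pow, Polynomial.aeval_X, map_one, LinearMap.sub_apply, Module.End.one_apply, hf w hw, sub_self])
  exact ⟨fun i => P i, fun i => hP i, by rwa [Fin.sum_univ_eq_sum_range (fun i => Module.finrank F (P i))]⟩

theorem quadratic_bound (g u ρ : V →ₗ[F] V) (hu : Function.Injective u) {r : ℕ} [hr : Fact r.Prime] (hr2 : r ≠ 2)
    {γ : F} (hγ : IsPrimitiveRoot γ r) {s : ℕ}
    {Y : Submodule F V} (hgY : ∀ y ∈ Y, g y ∈ Y) (huY : ∀ y ∈ Y, u y ∈ Y) (hρY : ∀ y ∈ Y, ρ y ∈ Y)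
    (hρ : ∀ y ∈ Y, (ρ ^ r) y = y) (hgρ : ∀ y ∈ Y, g (ρ y) = ρ (g y)) (hρu : ∀ y ∈ Y, ρ (u y) = γ • u (ρ y))
    (hgu : ∀ y ∈ Y, g (u y) = γ ^ s • ρ (u (g y))) {c : F} (hc : c ≠ 0) :
    r * Module.finrank F (Y ⊓ LinearMap.ker (g - c • LinearMap.id) : Submodule F V) ≤ 2 * Module.finrank F Y := by
  classical
  have hrp := hr.out.pos
  obtain ⟨E, hE⟩ : ∃ E : ℕ → Submodule F V, ∀ i v, v ∈ E i ↔ v ∈ Y ∧ ρ v = γ ^ i • v :=
    ⟨fun i => Y ⊓ LinearMap.ker (ρ - γ ^ i • LinearMap.id), fun i v => by simp [sub_eq_zero]⟩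
  obtain ⟨T, hT⟩ : ∃ T : ℕ → ℕ, ∀ i, T i = ∑ j ∈ Finset.range i, (s + j + 1) := ⟨_, fun i => rfl⟩
  have hup : ∀ (i : ℕ), ∀ y ∈ E 0, (u ^ i) y ∈ E i := by
    intro i
    induction i with
    | zero => intro y hy; simpa using hy
    | succ i ih =>
      intro y hy
      obtain ⟨h1, h2⟩ := (hE _ _).1 (ih y hy)
      rw [pow_succ', Module.End.mul_apply, hE]
      refine ⟨huY _ h1, ?_⟩
      rw [hρu _ h1, h2, map_smul, smul_smul, pow_succ']
  have hgi : ∀ (i : ℕ), ∀ y ∈ E 0, g ((u ^ i) y) = γ ^ T i • (u ^ i) (g y) := by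
    intro i
    induction i with
    | zero => intro y _; simp [hT]
    | succ i ih =>
      intro y hy
      have hgy : g y ∈ E 0 := by
        obtain ⟨h1, h2⟩ := (hE _ _).1 hy
        rw [hE]
        refine ⟨hgY y h1, ?_⟩
        rw [← hgρ y h1, h2, map_smul]
      have h2 := ((hE _ _).1 (hup (i + 1) _ hgy)).2
      rw [pow_succ', Module.End.mul_apply] at h2
      rw [pow_succ', Module.End.mul_apply, hgu _ ((hE _ _).1 (hup i y hy)).1, ih y hy, map_smul, map_smul,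
        smul_smul, h2, smul_smul, Module.End.mul_apply, hT, hT, Finset.sum_range_succ, ← pow_add, ← pow_add]
      congr 2
      ring
  -- the translates of the first member fill `Y`
  have hsurj : ∀ i, (E i).map (u ^ (r - i % r)) ≤ E 0 := by
    intro i
    rintro _ ⟨y, hy, rfl⟩
    have key : ∀ k : ℕ, (u ^ k) y ∈ E (i + k) := by
      intro k
      induction k with
      | zero => simpa using hy
      | succ k ih =>
        obtain ⟨h1, h2⟩ := (hE _ _).1 ih
        rw [pow_succ', Module.End.mul_apply, hE]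
        refine ⟨huY _ h1, ?_⟩
        rw [hρu _ h1, h2, map_smul, smul_smul, ← pow_succ', add_assoc]
    obtain ⟨h1, h2⟩ := (hE _ _).1 (key (r - i % r))
    rw [hE]
    refine ⟨h1, h2.trans ?_⟩
    congr 1
    rw [pow_zero, hγ.pow_eq_one_iff_dvd]
    exact ⟨i / r + 1, by rw [mul_add, mul_one]; have := Nat.div_add_mod i r; have := Nat.mod_lt i hrp; omega⟩
  have hinj : ∀ j : ℕ, Function.Injective (u ^ j) := fun j => by
    rw [Module.End.coe_pow]; exact hu.iterate j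
  have hE0 : r * Module.finrank F (E 0) ≤ Module.finrank F Y := by
    have h := sum_finrank_le ρ (fun i : Fin r => γ ^ (i : ℕ)) (fun i j h => Fin.ext (hγ.pow_inj i.2 j.2 h))
      (fun i : Fin r => E i) Y (fun i v hv => ((hE _ _).1 hv).1) (fun i v hv => ((hE _ _).1 hv).2)
    refine le_trans ?_ h
    calc r * Module.finrank F (E 0) = ∑ _i : Fin r, Module.finrank F (E 0) := by simp
      _ ≤ _ := Finset.sum_le_sum fun i _ => by
        rw [(Submodule.equivMapOfInjective _ (hinj i) (E 0)).finrank_eq]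
        exact Submodule.finrank_mono (Submodule.map_le_iff_le_comap.2 fun y hy => hup i y hy)
  obtain ⟨W, hW⟩ : ∃ W : Submodule F V, W = Y ⊓ LinearMap.ker (g - c • LinearMap.id) := ⟨_, rfl⟩
  rw [← hW]
  have hWmem : ∀ w, w ∈ W ↔ w ∈ Y ∧ g w = c • w := fun w => by simp [hW, sub_eq_zero]
  obtain ⟨P, hP, hle⟩ := root_decomp ρ hγ hrp W (fun w hw => by
    obtain ⟨h1, h2⟩ := (hWmem w).1 hw
    exact (hWmem _).2 ⟨hρY w h1, by rw [hgρ w h1, h2, map_smul]⟩) (fun w hw => hρ w ((hWmem w).1 hw).1)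
  obtain ⟨D, hD⟩ : ∃ D : F → Submodule F V, ∀ e v, v ∈ D e ↔ v ∈ E 0 ∧ g v = e • v :=
    ⟨fun e => E 0 ⊓ LinearMap.ker (g - e • LinearMap.id), fun e v => by simp [sub_eq_zero]⟩
  obtain ⟨val, hval⟩ : ∃ val : Fin r → F, ∀ i, val i = c * (γ ^ T i)⁻¹ := ⟨_, fun i => rfl⟩
  have hPD : ∀ i : Fin r, Module.finrank F (P i) ≤ Module.finrank F (D (val i)) := by
    intro i
    have hsur : P i ≤ (D (val i)).map (u ^ (i : ℕ)) := by
      intro w hw
      obtain ⟨hwY, hwg⟩ := (hWmem w).1 ((hP i).1 hw)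
      have hwE : w ∈ E i := (hE _ _).2 ⟨hwY, (hP i).2 w hw⟩
      have heq : (E 0).map (u ^ (i : ℕ)) = E i := by
        refine Submodule.eq_of_le_of_finrank_le (Submodule.map_le_iff_le_comap.2 fun y hy => hup i y hy) ?_
        rw [← (Submodule.equivMapOfInjective _ (hinj i) (E 0)).finrank_eq,
          (Submodule.equivMapOfInjective _ (hinj (r - (i : ℕ) % r)) (E i)).finrank_eq]
        exact Submodule.finrank_mono (hsurj i)
      rw [← heq] at hwE
      obtain ⟨y, hy, rfl⟩ := hwE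
      refine ⟨y, (hD _ _).2 ⟨hy, hinj i ?_⟩, rfl⟩
      have h := hgi i y hy
      rw [hwg] at h
      rw [map_smul, hval, mul_comm, mul_smul, h, smul_smul, inv_mul_cancel₀ (pow_ne_zero _ (hγ.ne_zero hr.out.ne_zero)),
        one_smul]
    refine (Submodule.finrank_mono hsur).trans ?_
    rw [← (Submodule.equivMapOfInjective _ (hinj i) (D (val i))).finrank_eq]
  have hfib : ∀ e ∈ Finset.univ.image val, (Finset.univ.filter fun i => val i = e).card ≤ 2 := by
    intro e _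
    by_contra hcard
    obtain ⟨i, hi, j, hj, k, hk, hij, hik, hjk⟩ := Finset.two_lt_card.1 (not_le.1 hcard)
    simp only [Finset.mem_filter, Finset.mem_univ, true_and] at hi hj hk
    have hγ0 : γ ≠ 0 := hγ.ne_zero hr.out.ne_zero
    have hmod : ∀ a b : Fin r, val a = e → val b = e → (T a : ZMod r) = T b := by
      intro a b ha hb
      have h1 : γ ^ T a = γ ^ T b := by
        rw [hval] at ha hb
        exact inv_injective (mul_left_cancel₀ hc (ha.trans hb.symm))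
      have : γ ^ (T a % r) = γ ^ (T b % r) := by
        rwa [← pow_eq_pow_mod _ hγ.pow_eq_one, ← pow_eq_pow_mod _ hγ.pow_eq_one]
      exact (ZMod.natCast_eq_natCast_iff' _ _ _).2 (hγ.pow_inj (Nat.mod_lt _ hrp) (Nat.mod_lt _ hrp) this)
    have h2 : ∀ m, 2 * T m = m * (2 * s + m + 1) := by
      intro m
      induction m with
      | zero => simp [hT]
      | succ m ih => rw [hT, Finset.sum_range_succ, ← hT, mul_add, ih]; ring
    have hlin : ∀ a b : Fin r, a ≠ b → val a = e → val b = e → (2 * s + (a : ℕ) + (b : ℕ) + 1 : ZMod r) = 0 := by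
      intro a b hab ha hb
      have e1 := congrArg (fun t : ℕ => (t : ZMod r)) (h2 a)
      have e2 := congrArg (fun t : ℕ => (t : ZMod r)) (h2 b)
      push_cast at e1 e2
      have hne : ((a : ℕ) : ZMod r) - (b : ℕ) ≠ 0 := sub_ne_zero.2 fun h => hab (Fin.ext (by
        have := (ZMod.natCast_eq_natCast_iff' _ _ _).1 h
        rwa [Nat.mod_eq_of_lt a.2, Nat.mod_eq_of_lt b.2] at this))
      refine (mul_eq_zero.1 (?_ : (((a : ℕ) : ZMod r) - (b : ℕ)) * (2 * s + (a : ℕ) + (b : ℕ) + 1) = 0)).resolve_left hne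
      linear_combination (2 : ZMod r) * hmod a b ha hb - e1 + e2
    have hab := hlin i j hij hi hj
    have hac := hlin i k hik hi hk
    have : ((j : ℕ) : ZMod r) = (k : ℕ) := by linear_combination hab - hac
    have := (ZMod.natCast_eq_natCast_iff' _ _ _).1 this
    rw [Nat.mod_eq_of_lt j.2, Nat.mod_eq_of_lt k.2] at this
    exact hjk (Fin.ext this)
  have hsumD : ∑ e : (Finset.univ.image val : Finset F), Module.finrank F (D e) ≤ Module.finrank F (E 0) :=
    sum_finrank_le g (fun e : (Finset.univ.image val : Finset F) => (e : F)) Subtype.val_injective (fun e => D e) (E 0)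
      (fun e v hv => ((hD _ _).1 hv).1) (fun e v hv => ((hD _ _).1 hv).2)
  rw [Finset.sum_coe_sort (Finset.univ.image val) (fun e => Module.finrank F (D e))] at hsumD
  have hbound : Module.finrank F W ≤ 2 * Module.finrank F (E 0) := by
    refine hle.trans ((Finset.sum_le_sum fun i _ => hPD i).trans ?_)
    rw [← Finset.sum_fiberwise_of_maps_to (fun i (_ : i ∈ (Finset.univ : Finset (Fin r))) =>
      Finset.mem_image_of_mem val (Finset.mem_univ i)) (fun i => Module.finrank F (D (val i)))]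
    refine le_trans (Finset.sum_le_sum fun e he => ?_) ((Finset.mul_sum _ _ 2).symm.le.trans (Nat.mul_le_mul le_rfl hsumD))
    rw [Finset.sum_congr rfl (fun i hi => by rw [(Finset.mem_filter.1 hi).2]), Finset.sum_const, smul_eq_mul]
    exact Nat.mul_le_mul (hfib e he) le_rfl
  calc r * Module.finrank F W ≤ r * (2 * Module.finrank F (E 0)) := Nat.mul_le_mul le_rfl hbound
    _ = 2 * (r * Module.finrank F (E 0)) := by ring
    _ ≤ _ := Nat.mul_le_mul le_rfl hE0

end Linear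

section Groups

open Matrix

variable {F : Type*} [Field F] {n : ℕ}

/-- The linear map of an invertible matrix. -/
abbrev op (x : GL (Fin n) F) : (Fin n → F) →ₗ[F] (Fin n → F) := Matrix.toLin' (x : Matrix (Fin n) (Fin n) F)

theorem op_mul (x y : GL (Fin n) F) (v : Fin n → F) : op (x * y) v = op x (op y v) := by
  simp [op, Matrix.toLin'_mul]

theorem op_inj (x : GL (Fin n) F) : Function.Injective (op x) := fun u v h => by
  have := congrArg (op x⁻¹) h
  rwa [← op_mul, ← op_mul, inv_mul_cancel, show op (1 : GL (Fin n) F) = LinearMap.id by simp [op]] at this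

theorem op_one (v : Fin n → F) : op (1 : GL (Fin n) F) v = v := by simp [op]

theorem op_scalar {z : GL (Fin n) F} {t : F} (hz : (z : Matrix (Fin n) (Fin n) F) = t • 1) (v : Fin n → F) :
    op z v = t • v := by simp [op, hz]

theorem op_pow (x : GL (Fin n) F) (k : ℕ) : op (x ^ k) = op x ^ k := by
  rw [op, op, Units.val_pow_eq_pow_val, Matrix.toLin'_pow]

theorem main [Fintype F] {r ϖ : ℕ} (R : Subgroup (GL (Fin n) F)) (hr : r.Prime) (hR : IsPGroup r R)
    (hZ : Nat.card (Subgroup.center R) = r) (hext : commutator R = Subgroup.center R)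
    (hexp : Monoid.exponent R = r ∨ Monoid.exponent R = 4)
    (hirr : Cfsg.Geo.ActsAbsolutelyIrreducibly (Cfsg.Geo.matrixSet R)) (g : GL (Fin n) F)
    (hg : g ∈ Cfsg.Geo.subgroupNormalizer (R ⊔ Cfsg.Geo.scalars (Fin n) F)) (hϖ : ϖ.Prime) (hord : orderOf g = ϖ)
    (hns : g ∉ Cfsg.Geo.scalars (Fin n) F) (c : F) :
    4 * Module.finrank F (Module.End.eigenspace (op g) c) ≤ 3 * n ∧
    (ϖ ≠ 2 → (ϖ ≠ 3 ∨ r ≠ 3) → 2 * Module.finrank F (Module.End.eigenspace (op g) c) ≤ n) ∧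
    (ϖ ≠ 2 → 3 * Module.finrank F (Module.End.eigenspace (op g) c) ≤ 2 * n) ∧ (r = 3 → 3 ∣ n) := by
  classical
  haveI : Fact r.Prime := ⟨hr⟩
  haveI : Finite R := inferInstance
  have hn : 0 < n := by
    refine Nat.pos_of_ne_zero fun h0 => hns ((Cfsg.Geo.mem_scalars_iff _).2 ⟨1, ?_⟩)
    subst h0
    exact Subsingleton.elim _ _
  obtain ⟨Z, hZd⟩ : ∃ Z, Z = Cfsg.Geo.scalars (Fin n) F := ⟨_, rfl⟩
  obtain ⟨S, hSd⟩ : ∃ S, S = R ⊔ Z := ⟨_, rfl⟩
  rw [← hZd] at hns hg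
  rw [← hSd] at hg
  have hZc : ∀ z ∈ Z, ∀ x, z * x = x * z := fun z hz x => by
    rw [hZd, Cfsg.Geo.mem_scalars_iff] at hz
    obtain ⟨t, ht⟩ := hz
    exact Units.ext (by rw [Units.val_mul, Units.val_mul, ht, smul_mul_assoc, one_mul, mul_smul_comm, mul_one])
  haveI hZn : Z.Normal := ⟨fun z hz x => by rw [← hZc z hz x, mul_inv_cancel_right]; exact hz⟩
  have hSmem : ∀ x ∈ S, ∃ ρ ∈ R, ∃ z ∈ Z, x = z * ρ := fun x hx => by
    rw [hSd, Subgroup.mem_sup_of_normal_right] at hx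
    obtain ⟨ρ, hρ, z, hz, rfl⟩ := hx
    exact ⟨ρ, hρ, z, hz, (hZc z hz ρ).symm⟩
  have hRS : R ≤ S := hSd ▸ le_sup_left
  have hnd0 : ∀ x : GL (Fin n) F, (∀ v ∈ R, x * v = v * x) → x ∈ Z := fun x hx => by
    obtain ⟨t, ht⟩ := hirr.2 (x : Matrix (Fin n) (Fin n) F) (by
      rintro _ ⟨v, hv, rfl⟩
      exact congrArg Units.val (hx v hv))
    rw [hZd, Cfsg.Geo.mem_scalars_iff]
    refine ⟨Units.mk0 t fun h0 => ?_, ht⟩
    have h1 : (1 : Matrix (Fin n) (Fin n) F) = 0 := by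
      rw [← Units.mul_inv x, ht, h0, zero_smul, zero_mul]
    have h2 := congrFun (congrFun h1 ⟨0, hn⟩) ⟨0, hn⟩
    simp at h2
  have hcomR : ∀ a ∈ R, ∀ b ∈ R, a * b * a⁻¹ * b⁻¹ ∈ Z ∧ (a * b * a⁻¹ * b⁻¹) ^ r = 1 := by
    intro a ha b hb
    have h : (⟨a, ha⟩ : R) * ⟨b, hb⟩ * (⟨a, ha⟩ : R)⁻¹ * (⟨b, hb⟩ : R)⁻¹ ∈ Subgroup.center R := by
      rw [← hext]
      exact Subgroup.commutator_mem_commutator (Subgroup.mem_top _) (Subgroup.mem_top _)
    refine ⟨hnd0 _ fun v hv => (congrArg Subtype.val (Subgroup.mem_center_iff.1 h ⟨v, hv⟩)).symm, ?_⟩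
    have := pow_card_eq_one' (x := (⟨_, h⟩ : Subgroup.center R))
    rw [hZ] at this
    exact congrArg (fun u : Subgroup.center R => ((u : R) : GL (Fin n) F)) this
  -- commutators of elements of `S`
  obtain ⟨cm, hcm⟩ : ∃ cm : GL (Fin n) F → GL (Fin n) F → GL (Fin n) F, ∀ a b, cm a b = a * b * a⁻¹ * b⁻¹ :=
    ⟨_, fun a b => rfl⟩
  have hcS : ∀ a ∈ S, ∀ b ∈ S, cm a b ∈ Z ∧ cm a b ^ r = 1 := by
    intro a ha b hb
    obtain ⟨ρ, hρ, z, hz, rfl⟩ := hSmem a ha
    obtain ⟨σ, hσ, w, hw, rfl⟩ := hSmem b hb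
    have e : cm (z * ρ) (w * σ) = ρ * σ * ρ⁻¹ * σ⁻¹ := by
      rw [hcm]
      calc z * ρ * (w * σ) * (z * ρ)⁻¹ * (w * σ)⁻¹ = z * (ρ * w) * σ * ρ⁻¹ * z⁻¹ * (σ⁻¹ * w⁻¹) := by group
        _ = z * (w * ρ) * σ * ρ⁻¹ * z⁻¹ * (σ⁻¹ * w⁻¹) := by rw [hZc w hw ρ]
        _ = z * w * (ρ * σ * ρ⁻¹) * z⁻¹ * (σ⁻¹ * w⁻¹) := by group
        _ = z * w * (z⁻¹ * (ρ * σ * ρ⁻¹)) * (σ⁻¹ * w⁻¹) := by rw [mul_assoc (z * w), hZc z⁻¹ (inv_mem hz)]
        _ = z * (w * z⁻¹) * (ρ * σ * ρ⁻¹ * σ⁻¹) * w⁻¹ := by group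
        _ = w * (ρ * σ * ρ⁻¹ * σ⁻¹) * w⁻¹ := by rw [hZc w hw z⁻¹, mul_inv_cancel_left]
        _ = ρ * σ * ρ⁻¹ * σ⁻¹ := by rw [hZc w hw, mul_inv_cancel_right]
    rw [e]; exact hcomR ρ hρ σ hσ
  have cl : ∀ a ∈ S, ∀ b ∈ S, ∀ d ∈ S, cm (a * b) d = cm a d * cm b d := fun a ha b hb d hd => by
    calc cm (a * b) d = a * cm b d * a⁻¹ * cm a d := by simp only [hcm]; group
      _ = cm b d * cm a d := by rw [← hZc _ (hcS b hb d hd).1 a, mul_inv_cancel_right]
      _ = cm a d * cm b d := hZc _ (hcS b hb d hd).1 _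
  have cr : ∀ a ∈ S, ∀ b ∈ S, ∀ d ∈ S, cm a (b * d) = cm a b * cm a d := fun a ha b hb d hd => by
    calc cm a (b * d) = cm a b * (b * cm a d * b⁻¹) := by simp only [hcm]; group
      _ = cm a b * cm a d := by rw [← hZc _ (hcS a ha d hd).1 b, mul_inv_cancel_right]
  have cswap : ∀ a b, cm b a = (cm a b)⁻¹ := fun a b => by simp only [hcm]; group
  have cself : ∀ a, cm a a = 1 := fun a => by simp only [hcm]; group
  have cinvl : ∀ a ∈ S, ∀ d ∈ S, cm a⁻¹ d = (cm a d)⁻¹ := fun a ha d hd => by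
    refine eq_inv_of_mul_eq_one_left ?_
    rw [← cl _ (inv_mem ha) _ ha _ hd, inv_mul_cancel]
    simp [hcm]
  have cinvr : ∀ a ∈ S, ∀ d ∈ S, cm a d⁻¹ = (cm a d)⁻¹ := fun a ha d hd => by
    refine eq_inv_of_mul_eq_one_left ?_
    rw [← cr _ ha _ (inv_mem hd) _ hd, inv_mul_cancel]
    simp [hcm]
  have hnd : ∀ x ∈ S, (∀ v ∈ R, cm x v = 1) → x ∈ Z := fun x _ h => hnd0 x fun v hv => by
    have := h v hv
    rw [hcm, mul_inv_eq_one, mul_inv_eq_iff_eq_mul] at this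
    exact this
  have hpowS : ∀ x ∈ S, x ^ r ∈ Z := fun x hx => by
    refine hnd _ (pow_mem hx r) fun v hv => ?_
    have : ∀ k : ℕ, cm (x ^ k) v = cm x v ^ k := fun k => by
      induction k with
      | zero => simp [hcm]
      | succ k ih => rw [pow_succ, cl _ (pow_mem hx k) _ hx _ (hRS hv), ih, pow_succ]
    rw [this]; exact (hcS x hx v (hRS hv)).2
  have hg' : g ∈ Subgroup.normalizer (S : Set (GL (Fin n) F)) := hg
  obtain ⟨φ, hφd⟩ : ∃ φ : GL (Fin n) F → GL (Fin n) F, ∀ x, φ x = g * x * g⁻¹ := ⟨_, fun x => rfl⟩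
  obtain ⟨ψ, hψd⟩ : ∃ ψ : GL (Fin n) F → GL (Fin n) F, ∀ x, ψ x = g⁻¹ * x * g := ⟨_, fun x => rfl⟩
  have hφS : ∀ x ∈ S, φ x ∈ S := fun x hx => hφd x ▸ (Subgroup.mem_normalizer_iff.1 hg' x).1 hx
  have hψS : ∀ x ∈ S, ψ x ∈ S := fun x hx => hψd x ▸ (Subgroup.mem_normalizer_iff.1 hg' _).2 (by
    rw [show g * (g⁻¹ * x * g) * g⁻¹ = x by group]; exact hx)
  have hφψ : ∀ x, φ (ψ x) = x := fun x => by rw [hφd, hψd]; group
  have hφmul : ∀ x y, φ (x * y) = φ x * φ y := fun x y => by simp only [hφd]; group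
  have cφ : ∀ a ∈ S, ∀ b ∈ S, cm (φ a) (φ b) = cm a b := fun a ha b hb => by
    calc cm (φ a) (φ b) = g * cm a b * g⁻¹ := by simp only [hcm, hφd]; group
      _ = cm a b := by rw [← hZc _ (hcS a ha b hb).1 g, mul_inv_cancel_right]
  obtain ⟨D, hD⟩ : ∃ D : GL (Fin n) F → GL (Fin n) F, ∀ x, D x = φ x * x⁻¹ := ⟨_, fun x => rfl⟩
  have hDS : ∀ x ∈ S, D x ∈ S := fun x hx => hD x ▸ mul_mem (hφS x hx) (inv_mem hx)
  obtain ⟨π, hπ⟩ : ∃ π : GL (Fin n) F →* GL (Fin n) F ⧸ Z, π = QuotientGroup.mk' Z := ⟨_, rfl⟩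
  have hπ1 : ∀ x, π x = 1 ↔ x ∈ Z := fun x => by rw [hπ, QuotientGroup.mk'_apply, QuotientGroup.eq_one_iff]
  have hπc : ∀ a ∈ S, ∀ b ∈ S, π a * π b = π b * π a := fun a ha b hb => by
    have h := (hπ1 _).2 (hcS a ha b hb).1
    simp only [hcm, map_mul, map_inv] at h
    rw [mul_inv_eq_one, mul_inv_eq_iff_eq_mul] at h
    exact h
  -- the scalar of a central commutator
  have hscal : ∀ z ∈ Z, z ≠ 1 → z ^ r = 1 → ∃ t : F, IsPrimitiveRoot t r ∧ (z : Matrix (Fin n) (Fin n) F) = t • 1 := by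
    intro z hz h1 hzr
    rw [hZd, Cfsg.Geo.mem_scalars_iff] at hz
    obtain ⟨t', ht⟩ := hz
    obtain ⟨t, htt⟩ : ∃ t : F, t = (t' : F) := ⟨_, rfl⟩
    rw [← htt] at ht
    refine ⟨t, ?_, ht⟩
    have ht1 : t ≠ 1 := fun h => h1 (Units.ext (by rw [ht, h, one_smul, Units.val_one]))
    have htr : t ^ r = 1 := by
      have h := congrArg (fun N : GL (Fin n) F => (N : Matrix (Fin n) (Fin n) F) ⟨0, hn⟩ ⟨0, hn⟩) hzr
      beta_reduce at h
      rw [Units.val_pow_eq_pow_val, ht, _root_.smul_pow, one_pow] at h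
      simpa using h
    exact (IsPrimitiveRoot.iff_orderOf).2 (orderOf_eq_prime htr ht1)
  obtain ⟨W, hW⟩ : ∃ W, W = Module.End.eigenspace (op g) c := ⟨_, rfl⟩
  rw [← hW]
  have hWm : ∀ w, w ∈ W ↔ op g w = c • w := fun w => by rw [hW, Module.End.mem_eigenspace_iff]
  -- an eigenspace of a non-scalar element of `S` is small
  have hfixS : ∀ h ∈ S, h ∉ Z → ∀ (t : F) (X : Submodule F (Fin n → F)), t ≠ 0 → (∀ x ∈ X, op h x = t • x) →
      r * Module.finrank F X ≤ n := by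
    intro h hh hhZ t X ht hX
    obtain ⟨v, hv, hvc⟩ : ∃ v ∈ R, cm h v ≠ 1 := by
      by_contra! hc'
      exact hhZ (hnd h hh hc')
    obtain ⟨β, hβ, hβe⟩ := hscal _ (hcS h hh v (hRS hv)).1 hvc (hcS h hh v (hRS hv)).2
    have := translate_bound (op h) (op v) (op_inj v) hβ (Y := ⊤) (fun _ _ => trivial) (fun y _ => by
      rw [← op_mul, show h * v = cm h v * (v * h) by rw [hcm]; group, op_mul, op_scalar hβe, op_mul]) ht
      (W := X) le_top hX
    simpa using this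
  have hrn : r ∣ n := by
    obtain ⟨a, ha, b, hb, hab⟩ : ∃ a ∈ R, ∃ b ∈ R, cm a b ≠ 1 := by
      by_contra! h
      have : commutator R = ⊥ := by
        rw [commutator_def, Subgroup.commutator_eq_bot_iff_le_centralizer]
        intro x _ y _
        have := h y y.2 x x.2
        rw [hcm, mul_inv_eq_one, mul_inv_eq_iff_eq_mul] at this
        exact Subtype.ext this
      rw [← hext, this, Subgroup.card_bot] at hZ
      exact hr.ne_one hZ.symm
    obtain ⟨β, hβ, hβe⟩ := hscal _ (hcS a (hRS ha) b (hRS hb)).1 hab (hcS a (hRS ha) b (hRS hb)).2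
    have h := congrArg Matrix.det hβe
    rw [hcm, Units.val_mul, Units.val_mul, Units.val_mul, det_mul, det_mul, det_mul, det_smul, det_one, mul_one,
      Fintype.card_fin] at h
    have e : ((a : GL (Fin n) F) : Matrix (Fin n) (Fin n) F).det * ((b : GL (Fin n) F) : Matrix (Fin n) (Fin n) F).det *
        ((a⁻¹ : GL (Fin n) F) : Matrix (Fin n) (Fin n) F).det * ((b⁻¹ : GL (Fin n) F) : Matrix (Fin n) (Fin n) F).det = 1 := by
      rw [mul_right_comm (((a : GL (Fin n) F) : Matrix (Fin n) (Fin n) F).det)]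
      rw [← det_mul, ← det_mul, ← det_mul, Units.mul_inv, one_mul, Units.mul_inv, det_one]
    rw [e] at h
    exact hβ.dvd_of_pow_eq_one n h.symm
  have hrn3 : r = 3 → 3 ∣ n := fun h => h ▸ hrn
  have finish : r * Module.finrank F W ≤ n ∨ (2 * Module.finrank F W ≤ n ∧ (r = 2 ∨ 3 * Module.finrank F W ≤ 2 * n)) →
      4 * Module.finrank F W ≤ 3 * n ∧ (ϖ ≠ 2 → (ϖ ≠ 3 ∨ r ≠ 3) → 2 * Module.finrank F W ≤ n) ∧
        (ϖ ≠ 2 → 3 * Module.finrank F W ≤ 2 * n) ∧ (r = 3 → 3 ∣ n) := by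
    rintro (h | ⟨h, -⟩)
    · have := Nat.mul_le_mul (hr.two_le) (le_refl (Module.finrank F W))
      exact ⟨by omega, fun _ _ => by omega, fun _ => by omega, hrn3⟩
    · exact ⟨by omega, fun _ _ => h, fun _ => by omega, hrn3⟩
  have hWc : c = 0 → W = ⊥ := fun h => eq_bot_iff.2 fun w hw => by
    rw [hWm, h, zero_smul] at hw
    exact (Submodule.mem_bot F).2 (op_inj g (hw.trans (map_zero _).symm))
  by_cases hc0 : c = 0
  · refine finish (Or.inl ?_)
    rw [hWc hc0]; simp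
  -- all commutators scalar
  by_cases hA : ∀ u ∈ R, D u ∈ Z
  · obtain ⟨u, hu, hu1⟩ : ∃ u ∈ R, D u ≠ 1 := by
      by_contra! h
      refine hns (hnd0 g fun v hv => ?_)
      have := h v hv
      rwa [hD, mul_inv_eq_one, hφd, mul_inv_eq_iff_eq_mul] at this
    have hDr : D u ^ r = 1 := by
      have h1 : φ (u ^ r) = u ^ r := by rw [hφd, ← hZc _ (hpowS u (hRS hu)) g, mul_inv_cancel_right]
      have hcomm : Commute (D u) u := hZc _ (hA u hu) u
      have h2 : φ (u ^ r) = (D u * u) ^ r := by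
        rw [show D u * u = φ u by rw [hD, inv_mul_cancel_right]]
        simp only [hφd, conj_pow]
      rw [h1, hcomm.mul_pow] at h2
      exact right_eq_mul.1 h2 |>.symm ▸ rfl
    obtain ⟨β, hβ, hβe⟩ := hscal _ (hA u hu) hu1 hDr
    refine finish (Or.inl ?_)
    have := translate_bound (op g) (op u) (op_inj u) hβ (Y := ⊤) (fun _ _ => trivial) (fun y _ => by
      rw [← op_mul, show g * u = D u * (u * g) by rw [hD, hφd]; group, op_mul, op_scalar hβe, op_mul]) hc0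
      (W := W) le_top (fun w hw => (hWm w).1 hw)
    simpa using this
  push Not at hA
  have hXle : ∀ u, ∀ h ∈ S, h ∉ Z → ∀ X : Submodule F (Fin n → F), (∀ x ∈ X, op h x = x) →
      W ⊓ W.map (op u) ≤ X → 2 * r * Module.finrank F W ≤ (r + 1) * n := by
    intro u h hh hhZ X hX hle
    have h1 := hfixS h hh hhZ 1 X one_ne_zero (fun x hx => by rw [hX x hx, one_smul])
    have h2 := Submodule.finrank_sup_add_finrank_inf_eq W (W.map (op u))
    rw [← (Submodule.equivMapOfInjective _ (op_inj u) W).finrank_eq] at h2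
    have h3 := Submodule.finrank_le (W ⊔ W.map (op u))
    rw [Module.finrank_fin_fun] at h3
    have h4 := Submodule.finrank_mono hle
    have h5 : 2 * Module.finrank F W ≤ n + Module.finrank F X := by omega
    calc 2 * r * Module.finrank F W = r * (2 * Module.finrank F W) := by ring
      _ ≤ r * (n + Module.finrank F X) := Nat.mul_le_mul le_rfl h5
      _ = r * n + r * Module.finrank F X := by ring
      _ ≤ r * n + n := by omega
      _ = _ := by ring
  have hXfix : ∀ u, ∀ x ∈ W ⊓ W.map (op u), op (D u) x = x := by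
    rintro u x ⟨hx1, w, hw, rfl⟩
    rw [SetLike.mem_coe, hWm] at hx1
    have hinv : op g⁻¹ w = c⁻¹ • w := by
      apply op_inj g
      rw [← op_mul, mul_inv_cancel, op_one, map_smul, (hWm w).1 hw, smul_smul, inv_mul_cancel₀ hc0, one_smul]
    rw [hD, hφd, ← op_mul, show g * u * g⁻¹ * u⁻¹ * u = g * u * g⁻¹ by group, op_mul, hinv, map_smul, op_mul, hx1,
      smul_smul, inv_mul_cancel₀ hc0, one_smul]
  obtain ⟨u₀, hu₀, hu₀Z⟩ := hA
  have hweak := hXle u₀ (D u₀) (hDS _ (hRS hu₀)) hu₀Z {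
    carrier := {x | op (D u₀) x = x}
    zero_mem' := map_zero _
    add_mem' := fun {a b} ha hb => by rw [Set.mem_setOf_eq] at *; rw [map_add, ha, hb]
    smul_mem' := fun t a ha => by rw [Set.mem_setOf_eq] at *; rw [map_smul, ha] } (fun x hx => hx)
    (fun x hx => hXfix u₀ x hx)
  have hweak4 : 4 * Module.finrank F W ≤ 3 * n := by
    refine Nat.le_of_mul_le_mul_left ?_ hr.pos
    have := Nat.mul_le_mul_right n hr.two_le
    calc r * (4 * Module.finrank F W) = 2 * (2 * r * Module.finrank F W) := by ring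
      _ ≤ 2 * ((r + 1) * n) := Nat.mul_le_mul le_rfl hweak
      _ = 2 * r * n + 2 * n := by ring
      _ ≤ 2 * r * n + r * n := by omega
      _ = _ := by ring
  by_cases hlow : ϖ = 2
  · exact ⟨hweak4, fun h => absurd hlow h, fun h => absurd hlow h, hrn3⟩
  by_cases h33 : ϖ = 3 ∧ r = 3
  · refine ⟨hweak4, fun _ h => by omega, fun _ => ?_, hrn3⟩
    rw [h33.2] at hweak
    omega
  by_cases hB1 : ∃ u ∈ R, cm (D u) (φ (D u)) ≠ 1
  · obtain ⟨u, hu, hne⟩ := hB1
    obtain ⟨β, hβ, hβe⟩ := hscal _ (hcS _ (hDS _ (hRS hu)) _ (hφS _ (hDS _ (hRS hu)))).1 hne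
      (hcS _ (hDS _ (hRS hu)) _ (hφS _ (hDS _ (hRS hu)))).2
    have hX0 : W ⊓ W.map (op u) = ⊥ := by
      refine eq_bot_iff.2 fun x hx => (Submodule.mem_bot F).2 ?_
      have h1 := hXfix u x hx
      have hinv : op g⁻¹ x = c⁻¹ • x := by
        apply op_inj g
        rw [← op_mul, mul_inv_cancel, op_one, map_smul, (hWm x).1 hx.1, smul_smul, inv_mul_cancel₀ hc0, one_smul]
      have h2 : op (φ (D u)) x = x := by
        rw [hφd, op_mul, hinv, map_smul, op_mul, h1, (hWm x).1 hx.1, smul_smul, inv_mul_cancel₀ hc0, one_smul]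
      have h3 : op (D u * φ (D u)) x = op (cm (D u) (φ (D u)) * (φ (D u) * D u)) x := by
        congr 2; rw [hcm]; group
      rw [op_mul, op_mul, op_mul, h1, h2, h1, op_scalar hβe] at h3
      have h4 : (β - 1) • x = 0 := by rw [sub_smul, one_smul, ← h3, sub_self]
      exact (smul_eq_zero.1 h4).resolve_left (sub_ne_zero.2 (hβ.ne_one hr.one_lt))
    refine finish (Or.inr ⟨?_, ?_⟩)
    all_goals
      have h2 := Submodule.finrank_sup_add_finrank_inf_eq W (W.map (op u))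
      rw [← (Submodule.equivMapOfInjective _ (op_inj u) W).finrank_eq, hX0, finrank_bot] at h2
      have h3 := Submodule.finrank_le (W ⊔ W.map (op u))
      rw [Module.finrank_fin_fun] at h3
      omega
  push Not at hB1
  obtain ⟨a, ha⟩ : ∃ a, a = π g := ⟨_, rfl⟩
  have hπφ : ∀ x, π (φ x) = a * π x * a⁻¹ := fun x => by rw [hφd, map_mul, map_mul, map_inv, ha]
  have hπψ : ∀ x, π (ψ x) = a⁻¹ * π x * a := fun x => by rw [hψd, map_mul, map_mul, map_inv, ha]
  have haϖ : a ^ ϖ = 1 := by rw [ha, ← map_pow, ← hord, pow_orderOf_eq_one, map_one]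
  have hodd : Odd ϖ := hϖ.odd_of_ne_two hlow
  have half : ∀ (k : ℕ) (X : GL (Fin n) F ⧸ Z), a ^ 2 * X = X * a ^ 2 → k = k → a * X = X * a := fun k X h _ => by
    obtain ⟨j, hj⟩ := hodd
    have hc1 : Commute (a ^ 2) X := h
    have h2 := hc1.pow_left (j + 1)
    rw [← pow_mul, show 2 * (j + 1) = ϖ + 1 by omega, pow_succ, haϖ, one_mul] at h2
    exact h2
  have hpolar : ∀ u ∈ R, ∀ v ∈ R, cm (D u) (φ (D v)) * cm (D v) (φ (D u)) = 1 := by
    intro u hu v hv
    have hDuv : ∃ z ∈ Z, D (u * v) = D u * D v * z := by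
      refine ⟨(D v)⁻¹ * (u * D v * u⁻¹), ?_, ?_⟩
      · have := (hcS _ (inv_mem (hDS v (hRS hv))) u (hRS hu)).1
        rw [hcm, inv_inv] at this
        rw [show (D v)⁻¹ * (u * D v * u⁻¹) = (D v)⁻¹ * u * D v * u⁻¹ by group]
        exact this
      · simp only [hD, hφmul]; group
    obtain ⟨z, hz, he⟩ := hDuv
    have hu' := hDS u (hRS hu)
    have hv' := hDS v (hRS hv)
    have hzS : z ∈ S := by rw [hSd]; exact Subgroup.mem_sup_right hz
    have hzc : ∀ x, cm z x = 1 ∧ cm x z = 1 := fun x => by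
      constructor
      · rw [hcm, hZc z hz x, mul_inv_cancel_right, mul_inv_cancel]
      · rw [hcm, ← hZc z hz x, mul_inv_cancel_right, mul_inv_cancel]
    have hφz : φ z = z := by rw [hφd, ← hZc z hz g, mul_inv_cancel_right]
    have h := hB1 (u * v) (mul_mem hu hv)
    rw [he, hφmul, hφmul, hφz, cl _ (mul_mem hu' hv') _ hzS _ (mul_mem (mul_mem (hφS _ hu') (hφS _ hv')) hzS),
      (hzc _).1, mul_one, cr _ (mul_mem hu' hv') _ (mul_mem (hφS _ hu') (hφS _ hv')) _ hzS, (hzc _).2, mul_one,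
      cl _ hu' _ hv' _ (mul_mem (hφS _ hu') (hφS _ hv')), cr _ hu' _ (hφS _ hu') _ (hφS _ hv'),
      cr _ hv' _ (hφS _ hu') _ (hφS _ hv'), hB1 u hu, hB1 v hv, one_mul, mul_one] at h
    exact h
  have hfixq : ∀ u ∈ R, ∃ q ∈ S, a * π q * a⁻¹ = π q ∧ a ^ 2 * π (D u) * (a ^ 2)⁻¹ = π q * π (D u) := by
    intro u hu
    have hh := hDS u (hRS hu)
    obtain ⟨d, hd⟩ : ∃ d, d = φ (D u) * (ψ (D u))⁻¹ := ⟨_, rfl⟩
    have hdS : d ∈ S := hd ▸ mul_mem (hφS _ hh) (inv_mem (hψS _ hh))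
    have hd0 : ∀ v ∈ R, cm (ψ d * d⁻¹) v = 1 := by
      intro v hv
      have hv' := hDS v (hRS hv)
      have h1 : cm d (D v) = 1 := by
        rw [hd, cl _ (hφS _ hh) _ (inv_mem (hψS _ hh)) _ hv', cinvl _ (hψS _ hh) _ hv',
          ← cφ (ψ (D u)) (hψS _ hh) (D v) hv', hφψ, cswap (D v) (φ (D u)), ← _root_.mul_inv_rev, inv_eq_one]
        exact hpolar u hu v hv
      rw [hD, cr _ hdS _ (hφS _ (hRS hv)) _ (inv_mem (hRS hv)), cinvr _ hdS _ (hRS hv), mul_inv_eq_one] at h1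
      rw [cl _ (hψS _ hdS) _ (inv_mem hdS) _ (hRS hv), cinvl _ hdS _ (hRS hv),
        ← cφ (ψ d) (hψS _ hdS) v (hRS hv), hφψ, h1, mul_inv_cancel]
    have h := (hπ1 _).2 (hnd _ (mul_mem (hψS _ hdS) (inv_mem hdS)) hd0)
    rw [map_mul, map_inv, hπψ, mul_inv_eq_one] at h
    refine ⟨d, hdS, ?_, ?_⟩
    · conv_lhs => rw [← h]
      group
    · have e : π d = a * π (D u) * a⁻¹ * (a⁻¹ * π (D u) * a)⁻¹ := by rw [hd, map_mul, map_inv, hπφ, hπψ]
      have e2 : a * π d * a⁻¹ = π d := by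
        conv_lhs => rw [← h]
        group
      rw [← e2, e, pow_two]
      group
  have hS' : ∀ x ∈ S, π x ^ r = 1 := fun x hx => by rw [← map_pow, hπ1]; exact hpowS x hx
  by_cases hrϖ : ϖ = r
  swap
  · exfalso
    have hkill : ∀ x ∈ S, π x ^ ϖ = 1 → π x = 1 := fun x hx h => by
      have h1 := Nat.dvd_gcd (orderOf_dvd_of_pow_eq_one h) (orderOf_dvd_of_pow_eq_one (hS' x hx))
      rw [(Nat.coprime_primes hϖ hr).2 hrϖ] at h1
      exact orderOf_eq_one_iff.1 (Nat.dvd_one.1 h1)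
    have hfix : ∀ u ∈ R, a * π (D u) = π (D u) * a := by
      intro u hu
      obtain ⟨q, hq, hqf, hq2⟩ := hfixq u hu
      have hqa : Commute (a ^ 2) (π q) := (show Commute a (π q) by
        rw [mul_inv_eq_iff_eq_mul] at hqf; exact hqf).pow_left 2
      have key : ∀ j : ℕ, (a ^ 2) ^ j * π (D u) * ((a ^ 2) ^ j)⁻¹ = π q ^ j * π (D u) := by
        intro j
        induction j with
        | zero => simp
        | succ j ih =>
          rw [pow_succ' (a ^ 2), show a ^ 2 * (a ^ 2) ^ j * π (D u) * (a ^ 2 * (a ^ 2) ^ j)⁻¹ =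
            a ^ 2 * ((a ^ 2) ^ j * π (D u) * ((a ^ 2) ^ j)⁻¹) * (a ^ 2)⁻¹ by group, ih,
            show a ^ 2 * (π q ^ j * π (D u)) * (a ^ 2)⁻¹ = (a ^ 2 * π q ^ j) * π (D u) * (a ^ 2)⁻¹ by group,
            (hqa.pow_right j).eq, show π q ^ j * a ^ 2 * π (D u) * (a ^ 2)⁻¹ = π q ^ j * (a ^ 2 * π (D u) * (a ^ 2)⁻¹) by group,
            hq2, pow_succ, mul_assoc]
      have h := key ϖ
      rw [← pow_mul, mul_comm 2 ϖ, pow_mul, haϖ, one_pow, one_mul, inv_one, mul_one, right_eq_mul] at h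
      rw [hkill q hq h, one_mul, mul_inv_eq_iff_eq_mul] at hq2
      exact half 0 _ hq2 rfl
    have key : ∀ j : ℕ, a ^ j * π u₀ * (a ^ j)⁻¹ = π (D u₀) ^ j * π u₀ := by
      intro j
      induction j with
      | zero => simp
      | succ j ih =>
        have hc1 : Commute a (π (D u₀)) := hfix u₀ hu₀
        rw [pow_succ' a, show a * a ^ j * π u₀ * (a * a ^ j)⁻¹ = a * (a ^ j * π u₀ * (a ^ j)⁻¹) * a⁻¹ by group, ih,
          show a * (π (D u₀) ^ j * π u₀) * a⁻¹ = (a * π (D u₀) ^ j) * π u₀ * a⁻¹ by group, (hc1.pow_right j).eq,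
          show π (D u₀) ^ j * a * π u₀ * a⁻¹ = π (D u₀) ^ j * (a * π u₀ * a⁻¹) by group, ← hπφ,
          show φ u₀ = D u₀ * u₀ by rw [hD, inv_mul_cancel_right], map_mul, pow_succ, mul_assoc]
    have h := key ϖ
    rw [haϖ, one_mul, inv_one, mul_one, right_eq_mul] at h
    exact hu₀Z ((hπ1 _).1 (hkill _ (hDS _ (hRS hu₀)) h))
  -- the unipotent case
  subst hrϖ
  have hr3 : ϖ ≠ 3 := fun h => h33 ⟨h, h⟩
  have hr5 : 5 ≤ ϖ := by
    have := hr.two_le
    by_contra h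
    have : ϖ = 4 := by omega
    rw [this] at hr
    norm_num at hr
  have hexpr : ∀ x ∈ R, x ^ ϖ = 1 := fun x hx => by
    have h := Monoid.pow_exponent_eq_one (⟨x, hx⟩ : R)
    rcases hexp with e | e
    · rw [e] at h; exact congrArg Subtype.val h
    · exfalso
      obtain ⟨k, hk⟩ := hR ⟨x, hx⟩
      have hd2 : orderOf (⟨x, hx⟩ : R) ∣ Nat.gcd 4 (ϖ ^ k) := Nat.dvd_gcd (orderOf_dvd_of_pow_eq_one (e ▸ h)) (orderOf_dvd_of_pow_eq_one hk)
      obtain ⟨y, hy⟩ := exists_prime_orderOf_dvd_card' (G := R) ϖ (hZ ▸ Subgroup.card_subgroup_dvd_card _)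
      have : ϖ ∣ 4 := hy ▸ e ▸ Monoid.order_dvd_exponent y
      have := Nat.le_of_dvd (by norm_num) this
      omega
  obtain ⟨u, hu, hγ1⟩ : ∃ u ∈ R, cm (D u) u ≠ 1 := by
    by_contra! h
    have hpol : ∀ u ∈ R, ∀ v ∈ R, cm (φ u) v * cm (φ v) u = 1 := by
      intro x hx y hy
      have hz : ∀ x ∈ R, cm (φ x) x = 1 := fun x hx => by
        have := h x hx
        rwa [hD, cl _ (hφS _ (hRS hx)) _ (inv_mem (hRS hx)) _ (hRS hx), cinvl _ (hRS hx) _ (hRS hx), cself, inv_one,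
          mul_one] at this
      have hxS := hRS hx
      have hyS := hRS hy
      have h' := hz (x * y) (mul_mem hx hy)
      rw [hφmul, cl _ (hφS _ hxS) _ (hφS _ hyS) _ (mul_mem hxS hyS), cr _ (hφS _ hxS) _ hxS _ hyS,
        cr _ (hφS _ hyS) _ hxS _ hyS, hz x hx, hz y hy, one_mul, mul_one] at h'
      exact h'
    refine hu₀Z ((hπ1 _).1 ?_)
    have hxS := hRS hu₀
    have hd : φ u₀ * (ψ u₀)⁻¹ ∈ Z := hnd _ (mul_mem (hφS _ hxS) (inv_mem (hψS _ hxS))) fun v hv => by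
      rw [cl _ (hφS _ hxS) _ (inv_mem (hψS _ hxS)) _ (hRS hv), cinvl _ (hψS _ hxS) _ (hRS hv),
        ← cφ (ψ u₀) (hψS _ hxS) v (hRS hv), hφψ, ← cswap, ]
      exact hpol u₀ hu₀ v hv
    have h1 := (hπ1 _).2 hd
    rw [map_mul, map_inv, hπφ, hπψ, mul_inv_eq_one] at h1
    have h2 : a ^ 2 * π u₀ = π u₀ * a ^ 2 := by
      calc a ^ 2 * π u₀ = a * (a * π u₀ * a⁻¹) * a := by rw [pow_two]; group
        _ = a * (a⁻¹ * π u₀ * a) * a := by rw [h1]
        _ = π u₀ * a ^ 2 := by rw [pow_two]; group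
    have h3 := half 0 _ h2 rfl
    rw [hD, map_mul, map_inv, hπφ, h3, mul_inv_cancel_right, mul_inv_cancel]
  have hh := hDS u (hRS hu)
  obtain ⟨ρ, hρ, zt, hzt, hhe⟩ := hSmem _ hh
  obtain ⟨γ, hγ, hγe⟩ := hscal _ (hcS _ hh u (hRS hu)).1 hγ1 (hcS _ hh u (hRS hu)).2
  obtain ⟨σ, hσ, zl, hzl, hle⟩ := hSmem (D (D u)) (hDS _ hh)
  have hlfix : a * π σ = π σ * a := by
    obtain ⟨q, hq, hqf, hq2⟩ := hfixq u hu
    obtain ⟨L, hL⟩ : ∃ L, L = π (D (D u)) := ⟨_, rfl⟩
    have hLσ : L = π σ := by rw [hL, hle, map_mul, (hπ1 _).2 hzl, one_mul]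
    have hq3 : π q = a * L * a⁻¹ * L := by
      have e : a * π (D u) * a⁻¹ = L * π (D u) := by
        rw [hL, hD (D u), map_mul, map_inv, hπφ, inv_mul_cancel_right]
      refine mul_right_cancel (b := π (D u)) (hq2.symm.trans ?_)
      calc a ^ 2 * π (D u) * (a ^ 2)⁻¹ = a * (a * π (D u) * a⁻¹) * a⁻¹ := by rw [pow_two]; group
        _ = a * (L * π (D u)) * a⁻¹ := by rw [e]
        _ = a * L * a⁻¹ * (a * π (D u) * a⁻¹) := by group
        _ = a * L * a⁻¹ * (L * π (D u)) := by rw [e]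
        _ = a * L * a⁻¹ * L * π (D u) := (mul_assoc _ _ _).symm
    rw [← hLσ]
    refine half 0 _ ?_ rfl
    rw [hq3] at hqf
    have hcom : a * L * a⁻¹ * L = L * (a * L * a⁻¹) := by
      rw [hLσ, ← hπφ]
      exact hπc _ (hφS _ (hRS hσ)) _ (hRS hσ)
    have h5 : a ^ 2 * L * (a ^ 2)⁻¹ * (a * L * a⁻¹) = L * (a * L * a⁻¹) := by
      rw [← hcom, ← hqf, pow_two]; group
    exact mul_inv_eq_iff_eq_mul.1 (mul_right_cancel h5)
  have hDσ : D σ ∈ Z := (hπ1 _).1 (by rw [hD, map_mul, map_inv, hπφ, hlfix, mul_inv_cancel_right, mul_inv_cancel])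
  by_cases hδ : D σ = 1
  swap
  · have hDr : D σ ^ ϖ = 1 := by
      have hcomm : Commute (D σ) σ := hZc _ hDσ σ
      have h2 : φ (σ ^ ϖ) = (D σ * σ) ^ ϖ := by
        rw [show D σ * σ = φ σ by rw [hD, inv_mul_cancel_right]]
        simp only [hφd, conj_pow]
      rw [hexpr σ hσ, hcomm.mul_pow, hexpr σ hσ, mul_one, hφd, mul_one, mul_inv_cancel] at h2
      exact h2.symm
    obtain ⟨β, hβ, hβe⟩ := hscal _ hDσ hδ hDr
    refine finish (Or.inl ?_)
    have := translate_bound (op g) (op σ) (op_inj σ) hβ (Y := ⊤) (fun _ _ => trivial) (fun y _ => by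
      rw [← op_mul, show g * σ = D σ * (σ * g) by rw [hD, hφd]; group, op_mul, op_scalar hβe, op_mul]) hc0
      (W := W) le_top (fun w hw => (hWm w).1 hw)
    simpa using this
  have hgσ : g * σ = σ * g := by
    rw [hD, mul_inv_eq_one, hφd, mul_inv_eq_iff_eq_mul] at hδ; exact hδ
  have hσS := hRS hσ
  have hρS := hRS hρ
  have hzc : ∀ z ∈ Z, ∀ x, cm z x = 1 ∧ cm x z = 1 := fun z hz x => by
    constructor
    · rw [hcm, hZc z hz x, mul_inv_cancel_right, mul_inv_cancel]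
    · rw [hcm, ← hZc z hz x, mul_inv_cancel_right, mul_inv_cancel]
  have hzS : ∀ z ∈ Z, z ∈ S := fun z hz => by rw [hSd]; exact Subgroup.mem_sup_right hz
  have hcρσ : cm ρ σ = 1 := by
    have h1 : cm (D u) (D (D u)) = 1 := by
      rw [hD (D u), cr _ hh _ (hφS _ hh) _ (inv_mem hh), cinvr _ hh _ hh, cself, inv_one, mul_one, hB1 u hu]
    rw [hle, hhe, cr _ (mul_mem (hzS _ hzt) hρS) _ (hzS _ hzl) _ hσS, (hzc _ hzl _).2, one_mul,
      cl _ (hzS _ hzt) _ hρS _ hσS, (hzc _ hzt _).1, one_mul] at h1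
    exact h1
  have hcuσ : cm u σ = 1 := by
    have hφu : φ u = D u * u := by rw [hD, inv_mul_cancel_right]
    have h1 : cm u (D (D u)) = 1 := by
      have h2 := cφ u (hRS hu) (D u) hh
      rw [hφu, cl _ hh _ (hRS hu) _ (hφS _ hh), hB1 u hu, one_mul] at h2
      rw [hD (D u), cr _ (hRS hu) _ (hφS _ hh) _ (inv_mem hh), cinvr _ (hRS hu) _ hh, h2, mul_inv_cancel]
    rwa [hle, cr _ (hRS hu) _ (hzS _ hzl) _ hσS, (hzc _ hzl _).2, one_mul] at h1
  have comm_of : ∀ x y, cm x y = 1 → x * y = y * x := fun x y h => by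
    rw [hcm, mul_inv_eq_one, mul_inv_eq_iff_eq_mul] at h; exact h
  have hρσ := comm_of _ _ hcρσ
  have huσ := comm_of _ _ hcuσ
  have hγρ : ρ * u = cm (D u) u * (u * ρ) := by
    rw [hhe, cl _ (hzS _ hzt) _ hρS _ (hRS hu), (hzc _ hzt _).1, one_mul, hcm]; group
  obtain ⟨t, ht⟩ : ∃ t : F, (zt : Matrix (Fin n) (Fin n) F) = t • 1 := by
    rw [hZd, Cfsg.Geo.mem_scalars_iff] at hzt
    obtain ⟨t', ht'⟩ := hzt
    exact ⟨t', ht'⟩
  have hgu : g * u = zt * ρ * (u * g) := by rw [← hhe, hD, hφd]; group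
  have hgρ : g * ρ = zl * σ * (ρ * g) := by
    have h1 : φ (D u) = D (D u) * D u := by rw [hD (D u), inv_mul_cancel_right]
    rw [hle, hhe, hφd] at h1
    have h2 : zt * (g * ρ * g⁻¹) = zt * (zl * σ * ρ) := by
      calc zt * (g * ρ * g⁻¹) = zt * g * (ρ * g⁻¹) := by group
        _ = g * zt * (ρ * g⁻¹) := by rw [hZc zt hzt g]
        _ = g * (zt * ρ) * g⁻¹ := by group
        _ = zl * σ * (zt * ρ) := h1
        _ = zl * σ * zt * ρ := (mul_assoc _ _ _).symm
        _ = zt * (zl * σ) * ρ := by rw [hZc zt hzt (zl * σ)]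
        _ = _ := by group
    have h3 := mul_left_cancel h2
    rw [mul_inv_eq_iff_eq_mul] at h3
    rw [h3]; group
  obtain ⟨sl, hsl⟩ : ∃ s : F, (zl : Matrix (Fin n) (Fin n) F) = s • 1 := by
    rw [hZd, Cfsg.Geo.mem_scalars_iff] at hzl
    obtain ⟨s', hs'⟩ := hzl
    exact ⟨s', hs'⟩
  have hzlr : zl ^ ϖ = 1 := by
    have h2 : φ (ρ ^ ϖ) = (zl * (σ * ρ)) ^ ϖ := by
      rw [← mul_assoc, show zl * σ * ρ = φ ρ by rw [hφd, hgρ]; group]
      simp only [hφd, conj_pow]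
    rw [hexpr ρ hρ, (show Commute zl (σ * ρ) from hZc zl hzl _).mul_pow, (show Commute σ ρ from hρσ.symm).mul_pow,
      hexpr σ hσ, hexpr ρ hρ, one_mul, mul_one, hφd, mul_one, mul_inv_cancel] at h2
    exact h2.symm
  have hslr : sl ^ ϖ = 1 := by
    have h := congrArg (fun N : GL (Fin n) F => (N : Matrix (Fin n) (Fin n) F) ⟨0, hn⟩ ⟨0, hn⟩) hzlr
    beta_reduce at h
    rw [Units.val_pow_eq_pow_val, hsl, _root_.smul_pow, one_pow] at h
    simpa using h
  obtain ⟨s, hs⟩ : ∃ s : ℕ, γ ^ s = t := by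
    have htr : t ^ ϖ = 1 := by
      have h2 : φ (u ^ ϖ) = (D u * u) ^ ϖ := by
        rw [show D u * u = φ u by rw [hD, inv_mul_cancel_right]]
        simp only [hφd, conj_pow]
      have hρu : (ρ * u) ^ ϖ = 1 := hexpr _ (mul_mem hρ hu)
      rw [hexpr u hu, hhe, mul_assoc, (show Commute zt (ρ * u) from hZc zt hzt _).mul_pow, hρu, mul_one, hφd, mul_one,
        mul_inv_cancel] at h2
      have h := congrArg (fun N : GL (Fin n) F => (N : Matrix (Fin n) (Fin n) F) ⟨0, hn⟩ ⟨0, hn⟩) h2.symm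
      beta_reduce at h
      rw [Units.val_pow_eq_pow_val, ht, _root_.smul_pow, one_pow] at h
      simpa using h
    obtain ⟨s, -, hs⟩ := hγ.eq_pow_of_pow_eq_one htr
    exact ⟨s, hs⟩
  obtain ⟨P, hP, hPle⟩ := root_decomp (op σ) hγ hr.pos W (fun w hw => by
      rw [hWm, ← op_mul, hgσ, op_mul, (hWm w).1 hw, map_smul])
    (fun w _ => by rw [← op_pow, hexpr σ hσ, op_one])
  obtain ⟨Y, hY⟩ : ∃ Y : Fin ϖ → Submodule F (Fin n → F), ∀ i v, v ∈ Y i ↔ op σ v = γ ^ (i : ℕ) • v :=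
    ⟨fun i => Module.End.eigenspace (op σ) (γ ^ (i : ℕ)), fun i v => Module.End.mem_eigenspace_iff⟩
  have hYinv : ∀ x, x * σ = σ * x → ∀ i, ∀ y ∈ Y i, op x y ∈ Y i := fun x hx i y hy => by
    rw [hY, ← op_mul, ← hx, op_mul, (hY i y).1 hy, map_smul]
  have hbound : ∀ i, 2 * Module.finrank F (P i) ≤ Module.finrank F (Y i) := by
    intro i
    have hPY : P i ≤ Y i := fun v hv => (hY i v).2 ((hP i).2 v hv)
    have hPW : ∀ v ∈ P i, op g v = c • v := fun v hv => (hWm v).1 ((hP i).1 hv)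
    obtain ⟨μ, hμ⟩ : ∃ μ, μ = sl * γ ^ (i : ℕ) := ⟨_, rfl⟩
    have hgρY : ∀ y ∈ Y i, op g (op ρ y) = μ • op ρ (op g y) := fun y hy => by
      rw [← op_mul, hgρ, op_mul, op_mul, op_scalar hsl, (hY i _).1 ?_, smul_smul, op_mul, hμ]
      rw [op_mul]
      exact hYinv ρ hρσ i _ (hYinv g hgσ i y hy)
    by_cases hμ1 : μ = 1
    · have h := quadratic_bound (op g) (op u) (op ρ) (op_inj u) (r := ϖ) hlow hγ (s := s) (Y := Y i)
        (hYinv g hgσ i) (hYinv u huσ i) (hYinv ρ hρσ i) (fun y _ => by rw [← op_pow, hexpr ρ hρ, op_one])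
        (fun y hy => by rw [hgρY y hy, hμ1, one_smul])
        (fun y _ => by rw [← op_mul, hγρ, op_mul, op_scalar hγe, op_mul])
        (fun y _ => by rw [← op_mul, hgu, op_mul, op_mul, op_scalar ht, op_mul, hs]) hc0
      have hPle' : Module.finrank F (P i) ≤
          Module.finrank F (Y i ⊓ LinearMap.ker (op g - c • LinearMap.id) : Submodule F (Fin n → F)) :=
        Submodule.finrank_mono fun v hv => ⟨hPY hv, by simp [hPW v hv]⟩
      have := Nat.mul_le_mul (show 4 ≤ ϖ by omega) hPle'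
      omega
    · have hμr : μ ^ ϖ = 1 := by
        rw [hμ, mul_pow, hslr, one_mul, ← pow_mul, mul_comm (i : ℕ), pow_mul, hγ.pow_eq_one, one_pow]
      have hμp : IsPrimitiveRoot μ ϖ := IsPrimitiveRoot.iff_orderOf.2 (orderOf_eq_prime hμr hμ1)
      have h := translate_bound (op g) (op ρ) (op_inj ρ) hμp (Y := Y i) (hYinv ρ hρσ i) hgρY hc0 hPY hPW
      have := Nat.mul_le_mul (show 2 ≤ ϖ by omega) (le_refl (Module.finrank F (P i)))
      omega
  have hsum := sum_finrank_le (op σ) (fun i : Fin ϖ => γ ^ (i : ℕ)) (fun i j h => Fin.ext (hγ.pow_inj i.2 j.2 h))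
    Y ⊤ (fun i => le_top) (fun i v hv => (hY i v).1 hv)
  rw [finrank_top, Module.finrank_fin_fun] at hsum
  have h2 : 2 * Module.finrank F W ≤ n := by
    calc 2 * Module.finrank F W ≤ 2 * ∑ i, Module.finrank F (P i) := Nat.mul_le_mul le_rfl hPle
      _ = ∑ i, 2 * Module.finrank F (P i) := Finset.mul_sum _ _ _
      _ ≤ ∑ i, Module.finrank F (Y i) := Finset.sum_le_sum fun i _ => hbound i
      _ ≤ n := hsum
  exact ⟨by omega, fun _ _ => h2, fun _ => by omega, hrn3⟩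

end Groups

end CfsgLib.Classical22.ExtraspecialEigen
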