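/-
Groups containing the determinant-one linear maps over an extension field: basic elements.
-/
import Cfsg.Agent.Lib.Transvec.SympSpaces
import Cfsg.Agent.Lib.Transvec.Linear

set_option autoImplicit false

namespace CfsgLib.Classical22.FieldMax

open Matrix CfsgLib.Transvec
open scoped MatrixGroups

variable {ι : Type} [Fintype ι] [DecidableEq ι] {F : Type*} [Field F]
variable {K : Type*} [Field K] [Algebra F K] [Module K (ι → F)] [IsScalarTower F K (ι → F)]

variable (K) in
/-- The hypothesis on the group: it contains every `K`-linear element of determinant one. -/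
def LinearIn (M : Subgroup (GL ι F)) : Prop :=
  ∀ h : GL ι F, (∀ (k : K) (x : ι → F), (h : Matrix ι ι F) *ᵥ (k • x) = k • ((h : Matrix ι ι F) *ᵥ x)) →
    h ∈ Cfsg.Geo.specialLinear ι F → h ∈ M

theorem finiteK : Module.Finite K (ι → F) := Module.Finite.of_restrictScalars_finite F K (ι → F)

/-- The `K`-linear map `x ↦ x + ψ x • a` as an element of the general linear group. -/
noncomputable def kT (ψ : (ι → F) →ₗ[K] K) (a : ι → F) : GL ι F :=
  haveI := _root_.Classical.propDecidable (1 + ψ a ≠ 0)
  if h : 1 + ψ a ≠ 0 then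
    glOfInjective ((LinearMap.id + ψ.smulRight a).restrictScalars F) (by
      refine (injective_iff_map_eq_zero _).2 fun x hx => ?_
      change x + ψ x • a = 0 at hx
      have h1 : ψ x * (1 + ψ a) = 0 := by
        have h2 := congrArg ψ hx
        rw [map_add, map_smul, map_zero, smul_eq_mul] at h2
        linear_combination h2
      rwa [(mul_eq_zero.1 h1).resolve_right h, zero_smul, add_zero] at hx)
  else 1

theorem kT_mulVec {ψ : (ι → F) →ₗ[K] K} {a : ι → F} (h : 1 + ψ a ≠ 0) (x : ι → F) :
    (kT (F := F) ψ a : Matrix ι ι F) *ᵥ x = x + ψ x • a := by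
  rw [kT, dif_pos h, glOfInjective_mulVec]
  rfl

theorem kT_mem [FiniteDimensional F K] {M : Subgroup (GL ι F)} (hM : LinearIn K M) {ψ : (ι → F) →ₗ[K] K}
    {a : ι → F} (h : 1 + ψ a ≠ 0) (hN : Algebra.norm F (1 + ψ a) = 1) : kT (F := F) ψ a ∈ M := by
  haveI := finiteK (ι := ι) (F := F) (K := K)
  refine hM _ (fun k x => ?_) ?_
  · rw [kT_mulVec h, kT_mulVec h, map_smul, smul_add, smul_eq_mul, mul_smul]
  · have e : Matrix.toLin' (kT (F := F) ψ a : Matrix ι ι F) =
        (LinearMap.transvection ψ a).restrictScalars F := LinearMap.ext fun x => by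
      rw [Matrix.toLin'_apply, kT_mulVec h, LinearMap.restrictScalars_apply, LinearMap.transvection.apply]
    rw [mem_specialLinear_iff, ← LinearMap.det_toLin', e, LinearMap.det_restrictScalars,
      LinearMap.transvection.det, hN]

theorem kT_mem_of_eq_zero [FiniteDimensional F K] {M : Subgroup (GL ι F)} (hM : LinearIn K M)
    {ψ : (ι → F) →ₗ[K] K} {a : ι → F} (h : ψ a = 0) : kT (F := F) ψ a ∈ M :=
  kT_mem hM (by rw [h, add_zero]; exact one_ne_zero) (by rw [h, add_zero, map_one])

omit [Fintype ι] [DecidableEq ι] [Algebra F K] [IsScalarTower F K (ι → F)] in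
theorem exists_kfun {E : Submodule K (ι → F)} {u : ι → F} (hu : u ∉ E) :
    ∃ ψ : (ι → F) →ₗ[K] K, (∀ x ∈ E, ψ x = 0) ∧ ψ u = 1 := by
  obtain ⟨l, hl, hlE⟩ := E.exists_dual_map_eq_bot_of_notMem hu inferInstance
  refine ⟨(l u)⁻¹ • l, fun x hx => ?_, ?_⟩
  · have h : l x ∈ E.map l := ⟨x, hx, rfl⟩
    rw [hlE, Submodule.mem_bot] at h
    rw [LinearMap.smul_apply, h, smul_zero]
  · rw [LinearMap.smul_apply, smul_eq_mul, inv_mul_cancel₀ hl]

/-- The functional of an `F`-linear map given as a vector. -/
noncomputable def fVec (φ : (ι → F) →ₗ[F] F) : ι → F := (dotProductEquiv F ι).symm φ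

omit [Algebra F K] in
theorem fVec_dot (φ : (ι → F) →ₗ[F] F) (x : ι → F) : fVec φ ⬝ᵥ x = φ x := by
  conv_rhs => rw [← (dotProductEquiv F ι).apply_symm_apply φ]
  rfl

/-- A subring of a finite field extension containing the elements of norm one is everything. -/
theorem subring_eq_top [Fintype F] [FiniteDimensional F K] (h2 : 2 ≤ Module.finrank F K) (R : Subring K)
    (hR : ∀ c : K, Algebra.norm F c = 1 → c ∈ R) : R = ⊤ := by
  classical
  haveI : Finite K := Module.finite_of_finite F
  haveI : Fintype K := Fintype.ofFinite K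
  haveI : Fintype R := Fintype.ofFinite R
  by_contra hne
  obtain ⟨x, hx⟩ : ∃ x, x ∉ R := by
    by_contra h
    push Not at h
    exact hne (eq_top_iff.2 fun y _ => h y)
  have hinv : ∀ b ∈ R, b ≠ 0 → b⁻¹ ∈ R := by
    intro b hb hb0
    haveI : IsDomain R := inferInstance
    obtain ⟨c, hc⟩ := (Finite.injective_iff_surjective (f := fun y : R => (⟨b, hb⟩ : R) * y)).1
      (mul_right_injective₀ fun h => hb0 (congrArg Subtype.val h)) 1
    rw [← show (c : K) = b⁻¹ from eq_inv_of_mul_eq_one_right (congrArg Subtype.val hc)]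
    exact c.2
  have hsq : Fintype.card R * Fintype.card R ≤ Fintype.card K := by
    rw [← Fintype.card_prod]
    refine Fintype.card_le_of_injective (fun p : R × R => (p.1 : K) + p.2 * x) ?_
    rintro ⟨a, b⟩ ⟨a', b'⟩ h
    simp only at h
    by_cases hb : b = b'
    · subst hb
      rw [add_left_inj] at h
      exact Prod.ext (Subtype.ext h) rfl
    · refine absurd ?_ hx
      have hb' : (b : K) - b' ≠ 0 := sub_ne_zero.2 fun e => hb (Subtype.ext e)
      rw [show x = ((a' : K) - a) * ((b : K) - b')⁻¹ by field_simp; linear_combination h]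
      exact R.mul_mem (R.sub_mem a'.2 a.2) (hinv _ (R.sub_mem b.2 b'.2) hb')
  let N : Kˣ →* Fˣ := Units.map (Algebra.norm F : K →* F)
  have hker : Nat.card N.ker + 1 ≤ Fintype.card R := by
    rw [Nat.card_eq_fintype_card, ← Fintype.card_option]
    refine Fintype.card_le_of_injective (fun o : Option N.ker => match o with
      | none => (0 : R)
      | some u => ⟨((u : Kˣ) : K), hR _ (congrArg Units.val (MonoidHom.mem_ker.1 u.2))⟩) ?_
    rintro (_ | u) (_ | v) h
    · rfl
    · exact absurd (congrArg Subtype.val h).symm (Units.ne_zero _)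
    · exact absurd (congrArg Subtype.val h) (Units.ne_zero _)
    · exact congrArg some (Subtype.ext (Units.ext (congrArg Subtype.val h)))
  have hcard : Fintype.card K - 1 ≤ Nat.card N.ker * (Fintype.card F - 1) := by
    rw [← Fintype.card_units K, ← Fintype.card_units F, ← Nat.card_eq_fintype_card (α := Kˣ),
      ← N.ker.card_mul_index, Subgroup.index_ker, ← Nat.card_eq_fintype_card (α := Fˣ)]
    exact Nat.mul_le_mul_left _ (Subgroup.card_le_card_group _)
  have hKF : Fintype.card F * Fintype.card F ≤ Fintype.card K := by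
    rw [Module.card_eq_pow_finrank (K := F) (V := K), ← sq]
    exact Nat.pow_le_pow_right Fintype.card_pos h2
  have hq := Fintype.one_lt_card (α := F)
  obtain ⟨k, hk⟩ : ∃ k, k = Nat.card N.ker := ⟨_, rfl⟩
  rw [← hk] at hker hcard
  have hk1 : (k + 1) * (k + 1) ≤ Fintype.card K := (Nat.mul_le_mul hker hker).trans hsq
  obtain ⟨a, ha⟩ : ∃ a, Fintype.card F = a + 1 := ⟨_, (Nat.sub_add_cancel hq.le).symm⟩
  obtain ⟨c, hc⟩ : ∃ c, Fintype.card K = c + 1 := ⟨_, (Nat.sub_add_cancel Fintype.card_pos).symm⟩
  rw [ha, hc] at hcard hKF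
  rw [hc] at hk1
  simp only [Nat.add_sub_cancel] at hcard
  rw [ha] at hq
  nlinarith

end CfsgLib.Classical22.FieldMax
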