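/-
The semilinear group of a field extension of prime degree is maximal.
-/
import Cfsg.Agent.Lib.Classical22.FieldMaxBase

set_option autoImplicit false

namespace CfsgLib.Classical22.FieldMax

open Matrix CfsgLib.Transvec
open scoped MatrixGroups

variable {ι : Type} [Fintype ι] [DecidableEq ι] {F : Type*} [Field F] [Fintype F]
variable {K : Type*} [Field K] [Algebra F K] [Module K (ι → F)] [IsScalarTower F K (ι → F)]
variable [FiniteDimensional F K] {M : Subgroup (GL ι F)}

/-- The vectors-to-`K` maps giving unipotent elements of `M` along the line through `v`. -/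
def Unip (M : Subgroup (GL ι F)) (v : ι → F) (b : (ι → F) →ₗ[F] K) : Prop :=
  (∀ k : K, b (k • v) = 0) ∧ ∃ h ∈ M, ∀ x, (h : Matrix ι ι F) *ᵥ x = x + b x • v

omit [Fintype F] [IsScalarTower F K (ι → F)] [FiniteDimensional F K] in
theorem unip_add {v : ι → F} {b b' : (ι → F) →ₗ[F] K} (hb : Unip M v b) (hb' : Unip M v b') :
    Unip M v (b + b') := by
  obtain ⟨hb0, h, hh, he⟩ := hb
  obtain ⟨hb0', h', hh', he'⟩ := hb'
  refine ⟨fun k => by rw [LinearMap.add_apply, hb0, hb0', add_zero], h * h', mul_mem hh hh', fun x => ?_⟩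
  rw [mul_mulVec, he', he, map_add, hb0, LinearMap.add_apply, add_zero, add_smul]
  abel

omit [Fintype F] [IsScalarTower F K (ι → F)] [FiniteDimensional F K] in
theorem unip_neg {v : ι → F} {b : (ι → F) →ₗ[F] K} (hb : Unip M v b) : Unip M v (-b) := by
  obtain ⟨hb0, h, hh, he⟩ := hb
  refine ⟨fun k => by rw [LinearMap.neg_apply, hb0, neg_zero], h⁻¹, inv_mem hh, fun x => mulVec_injective h ?_⟩
  simp only [mulVec_inv_cancel]
  rw [he, map_add, hb0, LinearMap.neg_apply, neg_smul]
  abel

omit [Fintype F] in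
theorem unip_linear (hM : LinearIn K M) {v : ι → F} {ψ : (ι → F) →ₗ[K] K} (hψ : ψ v = 0) :
    Unip M v (ψ.restrictScalars F) := by
  refine ⟨fun k => by rw [LinearMap.restrictScalars_apply, map_smul, hψ, smul_zero], kT ψ v,
    kT_mem_of_eq_zero hM hψ, fun x => ?_⟩
  rw [kT_mulVec (by rw [hψ, add_zero]; exact one_ne_zero)]
  rfl

omit [Fintype F] [IsScalarTower F K (ι → F)] [FiniteDimensional F K] in
/-- Conjugation by an element acting as `A` on the line and trivially modulo it. -/
theorem unip_conj {v : ι → F} {b : (ι → F) →ₗ[F] K} (hb : Unip M v b) {h : GL ι F} (hh : h ∈ M)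
    (A : K →ₗ[F] K) (hA : ∀ k, (h : Matrix ι ι F) *ᵥ (k • v) = A k • v)
    (hq : ∀ x, ∃ k : K, (h : Matrix ι ι F) *ᵥ x = x + k • v) : Unip M v (A ∘ₗ b) := by
  obtain ⟨hb0, u, hu, he⟩ := hb
  refine ⟨fun k => by rw [LinearMap.comp_apply, hb0, map_zero], h * u * h⁻¹, mul_mem (mul_mem hh hu) (inv_mem hh),
    fun x => ?_⟩
  rw [mul_mulVec, mul_mulVec, he, Matrix.mulVec_add, mulVec_inv_cancel, hA, LinearMap.comp_apply]
  obtain ⟨k, hk⟩ := hq (((h⁻¹ : GL ι F) : Matrix ι ι F) *ᵥ x)
  rw [mulVec_inv_cancel] at hk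
  conv_rhs => rw [hk, map_add, hb0, add_zero, ← hk]

omit [Fintype F] in
theorem torus_mem (hM : LinearIn K M) {v : ι → F} {ψ : (ι → F) →ₗ[K] K} (hψ : ψ v = 1) {c : K}
    (hc : Algebra.norm F c = 1) :
    kT ψ ((c - 1) • v) ∈ M ∧ (∀ x, (kT (F := F) ψ ((c - 1) • v) : Matrix ι ι F) *ᵥ x = x + (ψ x * (c - 1)) • v) := by
  have hc0 : c ≠ 0 := fun h => by rw [h, Algebra.norm_zero] at hc; exact zero_ne_one hc
  have e : 1 + ψ ((c - 1) • v) = c := by rw [map_smul, hψ, smul_eq_mul, mul_one, add_sub_cancel]
  refine ⟨kT_mem hM (by rw [e]; exact hc0) (by rw [e, hc]), fun x => ?_⟩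
  rw [kT_mulVec (by rw [e]; exact hc0), smul_smul]

/-- A non-linear element on a line, trivial modulo it, gives a transvection along that line. -/
theorem exists_rankOne (hM : LinearIn K M) (hr : (Module.finrank F K).Prime) {v : ι → F} (hv : v ≠ 0)
    {h : GL ι F} (hh : h ∈ M) {A : K →ₗ[F] K} (hA : ∀ k, (h : Matrix ι ι F) *ᵥ (k • v) = A k • v)
    (hq : ∀ x, ∃ k : K, (h : Matrix ι ι F) *ᵥ x = x + k • v) (hnl : ¬ ∀ k l : K, A (k * l) = k * A l)
    {ψ : (ι → F) →ₗ[K] K} (hψ : ψ v = 0) (φ₀ : K →ₗ[F] F) :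
    Unip M v ((Algebra.linearMap F K ∘ₗ φ₀) ∘ₗ ψ.restrictScalars F) := by
  classical
  haveI : Finite K := Module.finite_of_finite F
  haveI : Fintype K := Fintype.ofFinite K
  let R : Subring (Module.End F K) :=
    { carrier := {T | ∀ b, Unip M v b → Unip M v (T ∘ₗ b)}
      one_mem' := fun b hb => by rwa [Module.End.one_eq_id, LinearMap.id_comp]
      mul_mem' := fun {T T'} hT hT' b hb => by
        rw [Module.End.mul_eq_comp, LinearMap.comp_assoc]
        exact hT _ (hT' b hb)
      zero_mem' := fun b hb => by simpa using unip_add hb (unip_neg hb)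
      add_mem' := fun {T T'} hT hT' b hb => by
        rw [LinearMap.add_comp]
        exact unip_add (hT b hb) (hT' b hb)
      neg_mem' := fun {T} hT b hb => by
        rw [LinearMap.neg_comp]
        exact unip_neg (hT b hb) }
  have hAR : A ∈ R := fun b hb => unip_conj hb hh A hA hq
  obtain ⟨ψ₁, -, hψ₁⟩ := exists_kfun (K := K) (E := (⊥ : Submodule K (ι → F))) (u := v) (by simpa using hv)
  have htop : Subring.comap ((Algebra.lmul F K).toRingHom) R = ⊤ := subring_eq_top hr.two_le _ fun c hc => by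
    intro b hb
    obtain ⟨hmem, hact⟩ := torus_mem hM hψ₁ hc
    refine unip_conj hb hmem _ (fun k => ?_) fun x => ⟨_, hact x⟩
    rw [hact, map_smul, hψ₁, smul_eq_mul, mul_one, ← add_smul]
    congr 1
    change k + k * (c - 1) = c * k
    ring
  have hK : ∀ c : K, Algebra.lmul F K c ∈ R := fun c => by
    have : c ∈ Subring.comap ((Algebra.lmul F K).toRingHom) R := htop ▸ Subring.mem_top c
    exact this
  haveI : IsSimpleModule R K := by
    refine isSimpleModule_iff _ _ |>.2 ⟨fun N => ?_⟩
    by_cases hN : N = ⊥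
    · exact Or.inl hN
    refine Or.inr (eq_top_iff.2 fun x _ => ?_)
    obtain ⟨y, hy, hy0⟩ := Submodule.exists_mem_ne_zero_of_ne_bot hN
    have := N.smul_mem (⟨_, hK (x / y)⟩ : R) hy
    rwa [show (⟨_, hK (x / y)⟩ : R) • y = x from div_mul_cancel₀ x hy0] at this
  let f : Module.End (Module.End R K) K :=
    { toFun := fun k => algebraMap F K (φ₀ k)
      map_add' := fun a b => by rw [map_add, map_add]
      map_smul' := fun e k => by
        obtain ⟨s, hs⟩ : ∃ s, s = e 1 := ⟨_, rfl⟩
        have hmul : ∀ x : K, e x = x * s := fun x => by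
          have := e.map_smul (⟨_, hK x⟩ : R) 1
          rw [show (⟨_, hK x⟩ : R) • (1 : K) = x from mul_one x, ← hs] at this
          exact this
        have hAs : ∀ x : K, A (x * s) = A x * s := fun x => by
          have := e.map_smul (⟨_, hAR⟩ : R) x
          rw [hmul, hmul] at this
          exact this.symm
        let E : Subalgebra F K :=
          { carrier := {t | ∀ x, A (x * t) = A x * t}
            mul_mem' := fun {a b} ha hb x => by rw [← mul_assoc, hb, ha, mul_assoc]
            one_mem' := fun x => by rw [mul_one, mul_one]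
            add_mem' := fun {a b} ha hb x => by rw [mul_add, map_add, ha, hb, mul_add]
            zero_mem' := fun x => by rw [mul_zero, map_zero, mul_zero]
            algebraMap_mem' := fun c x => by
              rw [mul_comm, ← Algebra.smul_def, map_smul, Algebra.smul_def, mul_comm] }
        haveI := Subalgebra.isSimpleOrder_of_finrank_prime F K hr
        rcases eq_bot_or_eq_top E with hE | hE
        · have hsE : s ∈ E := hAs
          rw [hE] at hsE
          obtain ⟨c, hc⟩ := Algebra.mem_bot.1 hsE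
          rw [RingHom.id_apply]
          change algebraMap F K (φ₀ (e k)) = e (algebraMap F K (φ₀ k))
          rw [hmul, hmul, ← hc, mul_comm k, ← Algebra.smul_def, map_smul, smul_eq_mul, map_mul, mul_comm]
        · refine absurd (fun a b => ?_) hnl
          have := (hE ▸ Algebra.mem_top : a ∈ E) b
          rw [mul_comm b a, mul_comm (A b) a] at this
          exact this }
  obtain ⟨T, hT⟩ := jacobson_density f (Finset.univ : Finset K)
  have hTe : (T : Module.End F K) = Algebra.linearMap F K ∘ₗ φ₀ :=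
    LinearMap.ext fun k => (hT k (Finset.mem_univ k)).symm
  exact hTe ▸ T.2 _ (unip_linear hM hψ)

end CfsgLib.Classical22.FieldMax
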