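/-
An element outside the semilinear group leads to a transvection.
-/
import Cfsg.Agent.Lib.Classical22.FieldMax

set_option autoImplicit false

namespace CfsgLib.Classical22.FieldMax

open Matrix CfsgLib.Transvec
open scoped MatrixGroups

variable {ι : Type} [Fintype ι] [DecidableEq ι] {F : Type*} [Field F] [Fintype F]
variable {K : Type*} [Field K] [Algebra F K] [Module K (ι → F)] [IsScalarTower F K (ι → F)]
variable [FiniteDimensional F K] {M : Subgroup (GL ι F)}

variable (K) in
/-- `g` is semilinear over `K`. -/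
def Semi (g : GL ι F) : Prop :=
  ∀ k : K, ∃ k' : K, ∀ x : ι → F, (g : Matrix ι ι F) *ᵥ (k • x) = k' • ((g : Matrix ι ι F) *ᵥ x)

theorem smul_left_inj' {v : ι → F} (hv : v ≠ 0) {a b : K} (h : a • v = b • v) : a = b :=
  smul_left_injective K hv h

omit [FiniteDimensional F K] [Algebra F K] [IsScalarTower F K (ι → F)] in
/-- Lines into lines gives semilinear. -/
theorem semi_of_lines (hdim : ∀ v : ι → F, ∃ w, w ∉ Submodule.span K {v}) {g : GL ι F}
    (hg : ∀ (v : ι → F) (k : K), ∃ k' : K, (g : Matrix ι ι F) *ᵥ (k • v) = k' • ((g : Matrix ι ι F) *ᵥ v)) :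
    Semi K g := by
  intro k
  choose σ hσ using fun v => hg v k
  rcases isEmpty_or_nonempty {v : ι → F // v ≠ 0} with he | ⟨⟨v, hv⟩⟩
  · refine ⟨0, fun x => ?_⟩
    by_cases hx : x = 0
    · simp [hx]
    · exact (he.false ⟨x, hx⟩).elim
  have hne : ∀ {x : ι → F}, x ≠ 0 → (g : Matrix ι ι F) *ᵥ x ≠ 0 := fun hx => mulVec_ne_zero g hx
  -- equal on independent pairs
  have hind : ∀ x y : ι → F, x ≠ 0 → y ≠ 0 → y ∉ Submodule.span K {x} → σ x = σ y := by
    intro x y hx hy hxy
    have hgi : ∀ s t : K, s • ((g : Matrix ι ι F) *ᵥ x) + t • ((g : Matrix ι ι F) *ᵥ y) = 0 → t = 0 := by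
      intro s t h
      by_contra ht
      refine hxy ?_
      have h1 : (g : Matrix ι ι F) *ᵥ y = (-t⁻¹ * s) • ((g : Matrix ι ι F) *ᵥ x) := by
        rw [← inv_smul_smul₀ ht ((g : Matrix ι ι F) *ᵥ y), eq_neg_of_add_eq_zero_right h, smul_neg, smul_smul,
          neg_mul, neg_smul]
      choose f hf using fun l : K => hg x l
      have hinj : Function.Injective f := fun a b hab =>
        smul_left_injective K hx (mulVec_injective g (by simp only [hf, hab]))
      haveI : Finite K := Finite.of_injective (fun a : K => a • x) (smul_left_injective K hx)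
      obtain ⟨l, hl⟩ := (Finite.injective_iff_surjective.1 hinj) (-t⁻¹ * s)
      exact Submodule.mem_span_singleton.2 ⟨l, mulVec_injective g (by simp only [hf, hl, h1])⟩
    have h1 := hσ (x + y)
    rw [smul_add, Matrix.mulVec_add, Matrix.mulVec_add, hσ x, hσ y, smul_add] at h1
    have hy' : σ y - σ (x + y) = 0 := hgi (σ x - σ (x + y)) _ (by
      rw [sub_smul, sub_smul]
      linear_combination (norm := module) h1)
    have hy'' := sub_eq_zero.1 hy'
    rw [← hy'', add_left_inj] at h1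
    exact smul_left_injective K (hne hx) h1
  refine ⟨σ v, fun x => ?_⟩
  by_cases hx : x = 0
  · simp [hx]
  rw [hσ x]
  congr 1
  by_cases hxv : x ∈ Submodule.span K {v}
  · obtain ⟨w, hw⟩ := hdim v
    have hw0 : w ≠ 0 := fun h => hw (h ▸ Submodule.zero_mem _)
    obtain ⟨a, rfl⟩ := Submodule.mem_span_singleton.1 hxv
    have ha : a ≠ 0 := fun h => hx (by rw [h, zero_smul])
    rw [hind v w hv hw0 hw, hind (a • v) w hx hw0 (by
      rwa [Submodule.span_singleton_smul_eq (Ne.isUnit ha)])]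
  · exact (hind v x hv hx hxv).symm

omit [Fintype F] in
theorem exists_transitive (hM : LinearIn K M) (hdim : ∀ v : ι → F, ∃ w, w ∉ Submodule.span K {v}) {u v : ι → F}
    (hu : u ≠ 0) (hv : v ≠ 0) : ∃ h ∈ M, (∀ (k : K) (x : ι → F),
      (h : Matrix ι ι F) *ᵥ (k • x) = k • ((h : Matrix ι ι F) *ᵥ x)) ∧ (h : Matrix ι ι F) *ᵥ u = v := by
  have key : ∀ u v : ι → F, u ≠ 0 → v ≠ 0 → v ∉ Submodule.span K {u} → ∃ h ∈ M, (∀ (k : K) (x : ι → F),
      (h : Matrix ι ι F) *ᵥ (k • x) = k • ((h : Matrix ι ι F) *ᵥ x)) ∧ (h : Matrix ι ι F) *ᵥ u = v := by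
    intro u v hu hv huv
    obtain ⟨ψ, hψ, hψu⟩ := exists_kfun (K := K) (E := Submodule.span K {v - u}) (u := u) fun h => by
      obtain ⟨c, hc⟩ := Submodule.mem_span_singleton.1 h
      have hc0 : c ≠ 0 := fun h0 => hu (by rw [← hc, h0, zero_smul])
      refine huv (Submodule.mem_span_singleton.2 ⟨c⁻¹ + 1, ?_⟩)
      rw [add_smul, one_smul]
      conv_lhs => arg 1; rw [← hc, inv_smul_smul₀ hc0]
      exact sub_add_cancel v u
    have h0 := hψ (v - u) (Submodule.mem_span_singleton_self _)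
    have h1 : 1 + ψ (v - u) ≠ 0 := by rw [h0, add_zero]; exact one_ne_zero
    refine ⟨kT ψ (v - u), kT_mem_of_eq_zero hM h0, fun k x => ?_, ?_⟩
    · rw [kT_mulVec h1, kT_mulVec h1, map_smul, smul_add, smul_eq_mul, mul_smul]
    · rw [kT_mulVec h1, hψu, one_smul, add_sub_cancel]
  by_cases huv : v ∈ Submodule.span K {u}
  swap
  · exact key u v hu hv huv
  obtain ⟨w, hw⟩ := hdim u
  have hw0 : w ≠ 0 := fun h => hw (h ▸ Submodule.zero_mem _)
  obtain ⟨h, hh, hl, he⟩ := key u w hu hw0 hw
  obtain ⟨h', hh', hl', he'⟩ := key w v hw0 hv (fun hm => hw (by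
    obtain ⟨a, rfl⟩ := Submodule.mem_span_singleton.1 huv
    have ha : a ≠ 0 := fun h => hv (by rw [h, zero_smul])
    obtain ⟨c, hc⟩ := Submodule.mem_span_singleton.1 hm
    have hc0 : c ≠ 0 := fun h => hv (by rw [← hc, h, zero_smul])
    exact Submodule.mem_span_singleton.2 ⟨c⁻¹ * a, by rw [mul_smul, ← hc, inv_smul_smul₀ hc0]⟩))
  exact ⟨h' * h, mul_mem hh' hh, fun k x => by rw [mul_mulVec, mul_mulVec, hl, hl'],
    by rw [mul_mulVec, he, he']⟩

/-- The line through `v` over `K`, as an `F`-subspace. -/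
abbrev kLine (v : ι → F) : Submodule F (ι → F) := (Submodule.span K {v}).restrictScalars F

theorem finrank_kLine {v : ι → F} (hv : v ≠ 0) :
    Module.finrank F (kLine (K := K) v) = Module.finrank F K :=
  ((LinearEquiv.toSpanNonzeroSingleton K (ι → F) v hv).restrictScalars F).finrank_eq.symm

omit [Fintype F] [FiniteDimensional F K] in
/-- From a unipotent map with values in `F`. -/
theorem transvection_of_unip {v : ι → F} {χ : (ι → F) →ₗ[F] F}
    (hU : Unip (K := K) M v (Algebra.linearMap F K ∘ₗ χ)) :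
    (∀ k : K, χ (k • v) = 0) ∧ transv v (fVec χ) ∈ M := by
  obtain ⟨hU0, h, hh, he⟩ := hU
  have hz : ∀ k : K, χ (k • v) = 0 := fun k => (algebraMap F K).injective (by
    rw [map_zero]; exact hU0 k)
  refine ⟨hz, ?_⟩
  have hvv : fVec χ ⬝ᵥ v = 0 := by
    have := hz 1
    rwa [one_smul, ← fVec_dot] at this
  rwa [show transv v (fVec χ) = h from gl_ext fun x => by
    rw [transv_mulVec hvv, he, fVec_dot, LinearMap.comp_apply, Algebra.linearMap_apply, algebraMap_smul]]

/-- An element preserving the line gives a transvection or acts on it as a field automorphism. -/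
theorem exists_transvection_or_mul (hM : LinearIn K M) (hr : (Module.finrank F K).Prime)
    (h2 : ∀ v : ι → F, ∃ w, w ∉ Submodule.span K {v}) {v : ι → F} (hv : v ≠ 0) {y' : GL ι F} (hy'M : y' ∈ M)
    (hy'v : (y' : Matrix ι ι F) *ᵥ v = v) (hmove : ∀ k : K, (y' : Matrix ι ι F) *ᵥ (k • v) ∈ Submodule.span K {v}) :
    (∃ χ : (ι → F) →ₗ[F] F, χ ≠ 0 ∧ (∀ k : K, χ (k • v) = 0) ∧ transv v (fVec χ) ∈ M) ∨
      ∃ A : K →ₗ[F] K, A 1 = 1 ∧ (∀ a c, A (a * c) = A a * A c) ∧
        ∀ k, (y' : Matrix ι ι F) *ᵥ (k • v) = A k • v := by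
  classical
  obtain ⟨ψ₁, -, hψ₁v⟩ := exists_kfun (K := K) (E := (⊥ : Submodule K (ι → F))) (u := v) (by simpa using hv)
  obtain ⟨A, hA⟩ : ∃ A : K →ₗ[F] K, A = ψ₁.restrictScalars F ∘ₗ Matrix.toLin' (y' : Matrix ι ι F) ∘ₗ
      (LinearMap.toSpanSingleton K (ι → F) v).restrictScalars F := ⟨_, rfl⟩
  have hAk : ∀ k, (y' : Matrix ι ι F) *ᵥ (k • v) = A k • v := fun k => by
    obtain ⟨c, hc⟩ := Submodule.mem_span_singleton.1 (hmove k)
    rw [hA]
    change _ = ψ₁ ((y' : Matrix ι ι F) *ᵥ (k • v)) • v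
    rw [← hc, map_smul, hψ₁v, smul_eq_mul, mul_one]
  have hA1 : A 1 = 1 := smul_left_injective K hv (by
    simp only [← hAk, one_smul, hy'v])
  have hAinj : Function.Injective A := fun a c h => smul_left_injective K hv
    (mulVec_injective y' (by simp only [hAk, h]))
  let Ae := LinearEquiv.ofInjectiveEndo A hAinj
  obtain ⟨φ₀, hφ₀⟩ : ∃ φ : K →ₗ[F] F, φ 1 = 1 := by
    obtain ⟨l, hl, -⟩ := (⊥ : Submodule F K).exists_dual_map_eq_bot_of_notMem (x := 1) (by simp) inferInstance
    exact ⟨(l 1)⁻¹ • l, by rw [LinearMap.smul_apply, smul_eq_mul, inv_mul_cancel₀ hl]⟩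
  have hT : ∀ c : K, Algebra.norm F c = 1 → ∃ h ∈ M, (∀ k, (h : Matrix ι ι F) *ᵥ (k • v) =
      (A ∘ₗ Algebra.lmul F K c ∘ₗ Ae.symm.toLinearMap) k • v) ∧
        ∀ x, ∃ k : K, (h : Matrix ι ι F) *ᵥ x = x + k • v := by
    intro c hc
    obtain ⟨hmem, hact⟩ := torus_mem hM hψ₁v hc
    have hinv : ∀ k : K, ((y'⁻¹ : GL ι F) : Matrix ι ι F) *ᵥ (k • v) = Ae.symm k • v := fun k =>
      mulVec_injective y' (by
        simp only [mulVec_inv_cancel, hAk]
        rw [show A (Ae.symm k) = k from Ae.apply_symm_apply k])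
    refine ⟨y' * kT ψ₁ ((c - 1) • v) * y'⁻¹, mul_mem (mul_mem hy'M hmem) (inv_mem hy'M), fun k => ?_, fun x => ?_⟩
    · rw [mul_mulVec, mul_mulVec, hinv, hact, map_smul, hψ₁v, smul_eq_mul, mul_one, ← add_smul, hAk]
      congr 1
      change A _ = A (c * Ae.symm k)
      congr 1
      ring
    · refine ⟨A (ψ₁ (((y'⁻¹ : GL ι F) : Matrix ι ι F) *ᵥ x) * (c - 1)), ?_⟩
      rw [mul_mulVec, mul_mulVec, hact, Matrix.mulVec_add, hAk, mulVec_inv_cancel]
  by_cases hnl : ∃ c : K, Algebra.norm F c = 1 ∧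
      ¬ ∀ k l : K, (A ∘ₗ Algebra.lmul F K c ∘ₗ Ae.symm.toLinearMap) (k * l) =
        k * (A ∘ₗ Algebra.lmul F K c ∘ₗ Ae.symm.toLinearMap) l
  · obtain ⟨c, hc, hc'⟩ := hnl
    obtain ⟨h, hh, hh1, hh2⟩ := hT c hc
    obtain ⟨w, hw⟩ := h2 v
    obtain ⟨ψ', hψ', hψ'w⟩ := exists_kfun hw
    refine Or.inl ⟨φ₀ ∘ₗ ψ'.restrictScalars F, fun h0 => ?_, transvection_of_unip ?_⟩
    · have := LinearMap.congr_fun h0 w
      rw [LinearMap.comp_apply, LinearMap.restrictScalars_apply, hψ'w, hφ₀] at this
      exact one_ne_zero this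
    · exact LinearMap.comp_assoc (ψ'.restrictScalars F) φ₀ (Algebra.linearMap F K) ▸
        exists_rankOne hM hr hv hh hh1 hh2 hc' (hψ' v (Submodule.mem_span_singleton_self v)) φ₀
  push Not at hnl
  -- then `A` is a field automorphism
  let C : Subring K :=
    { carrier := {c | ∀ k, A (c * k) = A c * A k}
      mul_mem' := fun {a c} ha hc k => by rw [mul_assoc, ha, hc, ha, mul_assoc]
      one_mem' := fun k => by rw [one_mul, hA1, one_mul]
      add_mem' := fun {a c} ha hc k => by rw [add_mul, map_add, ha, hc, map_add, add_mul]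
      zero_mem' := fun k => by rw [zero_mul, map_zero, zero_mul]
      neg_mem' := fun {a} ha k => by rw [neg_mul, map_neg, ha, map_neg, neg_mul] }
  have hC : C = ⊤ := subring_eq_top hr.two_le C fun c hc k => by
    have h1 := hnl c hc (A k) 1
    simp only [LinearMap.comp_apply, LinearEquiv.coe_coe, mul_one] at h1
    have e1 : Ae.symm 1 = 1 := by rw [LinearEquiv.symm_apply_eq]; exact hA1.symm
    have e2 : Ae.symm (A k) = k := Ae.symm_apply_apply k
    rw [e1, e2] at h1
    change A (c * k) = A k * A (c * 1) at h1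
    rw [mul_one] at h1
    rw [h1, mul_comm]
  have hmulA : ∀ a c, A (a * c) = A a * A c := fun a c => (hC ▸ Subring.mem_top a : a ∈ C) c
  exact Or.inr ⟨A, hA1, hmulA, hAk⟩

/-- An element fixing `v` but not its line gives a transvection. -/
theorem exists_transvection_of_moving (hM : LinearIn K M) (hr : (Module.finrank F K).Prime)
    (h2 : ∀ v : ι → F, ∃ w, w ∉ Submodule.span K {v})
    (h3 : Module.finrank F K = 2 → (∀ c : F, c = 0 ∨ c = 1) → ∀ u v : ι → F, ∃ w, w ∉ Submodule.span K {u} ⊔ Submodule.span K {v})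
    {v : ι → F} (hv : v ≠ 0) (j : ℕ) :
    ∀ y ∈ M, (y : Matrix ι ι F) *ᵥ v = v → (∃ k : K, (y : Matrix ι ι F) *ᵥ (k • v) ∉ Submodule.span K {v}) →
      Module.finrank F K ≤ j + Module.finrank F
        ↥(kLine (K := K) v ⊓ (kLine (K := K) v).comap (Matrix.toLin' (y : Matrix ι ι F))) →
      ∃ χ : (ι → F) →ₗ[F] F, χ ≠ 0 ∧ (∀ k : K, χ (k • v) = 0) ∧ transv v (fVec χ) ∈ M := by
  classical
  induction j with
  | zero =>
    intro y _ _ ⟨k, hk⟩ hd
    exfalso
    have hle := Submodule.eq_of_le_of_finrank_le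
      (inf_le_left : kLine (K := K) v ⊓ (kLine (K := K) v).comap (Matrix.toLin' (y : Matrix ι ι F)) ≤ _)
      (by rw [finrank_kLine hv]; omega)
    have hm : k • v ∈ kLine (K := K) v ⊓ (kLine (K := K) v).comap (Matrix.toLin' (y : Matrix ι ι F)) := by
      rw [hle]
      exact Submodule.smul_mem _ k (Submodule.mem_span_singleton_self v)
    exact hk hm.2
  | succ j ih =>
    intro y hy hyv ⟨k₀, hk₀⟩ hd
    -- choose a vector of the line leaving the line backwards
    obtain ⟨k₁, hk₁⟩ : ∃ k₁ : K, ((y⁻¹ : GL ι F) : Matrix ι ι F) *ᵥ (k₁ • v) ∉ Submodule.span K {v} := by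
      by_contra hc
      push Not at hc
      choose f hf using fun l => Submodule.mem_span_singleton.1 (hc l)
      haveI : Finite K := Module.finite_of_finite F
      have hinj : Function.Injective f := fun a b hab => smul_left_injective K hv
        (mulVec_injective y⁻¹ ((hf a).symm.trans (hab ▸ hf b)))
      obtain ⟨l, hl⟩ := Finite.injective_iff_surjective.1 hinj k₀
      have := hf l
      rw [hl] at this
      exact hk₀ (by rw [this, mulVec_inv_cancel]; exact Submodule.smul_mem _ l (Submodule.mem_span_singleton_self v))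
    obtain ⟨ψ, hψ, hψ₁⟩ := exists_kfun hk₁
    have hψv : ψ v = 0 := hψ v (Submodule.mem_span_singleton_self v)
    obtain ⟨y', hy'⟩ : ∃ y', y' = y * kT (F := F) ψ v * y⁻¹ := ⟨_, rfl⟩
    have hy'M : y' ∈ M := hy' ▸ mul_mem (mul_mem hy (kT_mem_of_eq_zero hM hψv)) (inv_mem hy)
    obtain ⟨b, hb⟩ : ∃ b : (ι → F) →ₗ[F] (ι → F), b = Matrix.toLin' (y : Matrix ι ι F) ∘ₗ
        ((ψ.smulRight v).restrictScalars F) ∘ₗ Matrix.toLin' ((y⁻¹ : GL ι F) : Matrix ι ι F) := ⟨_, rfl⟩
    have hbx : ∀ x, b x = (y : Matrix ι ι F) *ᵥ (ψ (((y⁻¹ : GL ι F) : Matrix ι ι F) *ᵥ x) • v) := fun x => by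
      rw [hb]; rfl
    have hy'x : ∀ x, (y' : Matrix ι ι F) *ᵥ x = x + b x := fun x => by
      rw [hy', mul_mulVec, mul_mulVec, kT_mulVec (by rw [hψv, add_zero]; exact one_ne_zero), Matrix.mulVec_add,
        mulVec_inv_cancel, hbx]
    have hyinv : ((y⁻¹ : GL ι F) : Matrix ι ι F) *ᵥ v = v := by
      conv_lhs => rw [← hyv, inv_mulVec_cancel]
    have hbv : b v = 0 := by rw [hbx, hyinv, hψv, zero_smul, Matrix.mulVec_zero]
    have hbb : ∀ x, b (b x) = 0 := fun x => by
      rw [hbx (b x), hbx x, inv_mulVec_cancel, map_smul, hψv, smul_zero, zero_smul, Matrix.mulVec_zero]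
    have hx₀ : b (k₁ • v) = v := by rw [hbx, hψ₁, one_smul, hyv]
    have hy'v : (y' : Matrix ι ι F) *ᵥ v = v := by rw [hy'x, hbv, add_zero]
    -- the intersection grows
    have hlt : Module.finrank F ↥(kLine (K := K) v ⊓ (kLine (K := K) v).comap (Matrix.toLin' (y : Matrix ι ι F))) <
        Module.finrank F ↥(kLine (K := K) v ⊓ (kLine (K := K) v).comap (Matrix.toLin' (y' : Matrix ι ι F))) := by
      have e : (kLine (K := K) v ⊓ (kLine (K := K) v).comap (Matrix.toLin' (y : Matrix ι ι F))).map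
          (Matrix.toLin' (y : Matrix ι ι F)) < kLine (K := K) v ⊓
            (kLine (K := K) v).comap (Matrix.toLin' (y' : Matrix ι ι F)) := by
        refine lt_of_le_of_ne ?_ fun he => ?_
        · rintro _ ⟨z, ⟨hz, hyz⟩, rfl⟩
          refine ⟨hyz, ?_⟩
          change (y' : Matrix ι ι F) *ᵥ ((y : Matrix ι ι F) *ᵥ z) ∈ Submodule.span K {v}
          rw [hy'x, hbx, inv_mulVec_cancel, hψ z hz, zero_smul, Matrix.mulVec_zero, add_zero]
          exact hyz
        · have hm : k₁ • v ∈ kLine (K := K) v ⊓ (kLine (K := K) v).comap (Matrix.toLin' (y' : Matrix ι ι F)) := by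
            refine ⟨Submodule.smul_mem _ k₁ (Submodule.mem_span_singleton_self v), ?_⟩
            change (y' : Matrix ι ι F) *ᵥ (k₁ • v) ∈ Submodule.span K {v}
            rw [hy'x, hx₀]
            exact Submodule.add_mem _ (Submodule.smul_mem _ k₁ (Submodule.mem_span_singleton_self v))
              (Submodule.mem_span_singleton_self v)
          rw [← he] at hm
          obtain ⟨z, ⟨hz, -⟩, hzk⟩ := hm
          rw [Matrix.toLin'_apply] at hzk
          refine hk₁ ?_
          rw [← hzk, inv_mulVec_cancel]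
          exact hz
      refine lt_of_eq_of_lt ?_ (Submodule.finrank_lt_finrank_of_lt e)
      exact (Submodule.equivMapOfInjective (Matrix.toLin' (y : Matrix ι ι F))
        (fun a b h => mulVec_injective y (by simpa using h)) _).finrank_eq
    by_cases hmove : ∃ k : K, (y' : Matrix ι ι F) *ᵥ (k • v) ∉ Submodule.span K {v}
    · exact ih y' hy'M hy'v hmove (by omega)
    push Not at hmove
    rcases exists_transvection_or_mul hM hr h2 hv hy'M hy'v hmove with h | ⟨A, hA1, hmulA, hAk⟩
    · exact h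
    let E : Subalgebra F K :=
      { carrier := {a | A a = a}
        mul_mem' := fun {a c} (ha : A a = a) (hc : A c = c) => show A (a * c) = a * c by rw [hmulA, ha, hc]
        one_mem' := hA1
        add_mem' := fun {a c} (ha : A a = a) (hc : A c = c) => show A (a + c) = a + c by rw [map_add, ha, hc]
        zero_mem' := map_zero A
        algebraMap_mem' := fun c => show A _ = _ by rw [Algebra.algebraMap_eq_smul_one, map_smul, hA1] }
    haveI := Subalgebra.isSimpleOrder_of_finrank_prime F K hr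
    have hE : E = ⊥ := (eq_bot_or_eq_top E).resolve_right fun h => by
      have hfix : A k₁ = k₁ := (h ▸ Algebra.mem_top : k₁ ∈ E)
      have h1 := hy'x (k₁ • v)
      rw [hx₀, hAk, hfix, left_eq_add] at h1
      exact hv h1
    have hd' : ∀ k, A k - k ∈ E := fun k => by
      change A (A k - k) = A k - k
      refine smul_left_injective K hv ?_
      have h1 : (A k - k) • v = b (k • v) := by rw [sub_smul, ← hAk, hy'x, add_sub_cancel_left]
      simp only
      rw [← hAk, h1, hy'x, hbb, add_zero]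
    have hr2 : Module.finrank F K = 2 := by
      obtain ⟨β, hβ⟩ : ∃ β : K →ₗ[F] K, β = A - LinearMap.id := ⟨_, rfl⟩
      have h1 := LinearMap.finrank_range_add_finrank_ker β
      have hle : ∀ S : Submodule F K, (∀ a ∈ S, a ∈ E) → Module.finrank F S ≤ 1 := fun S hS => by
        refine (Submodule.finrank_mono (t := Submodule.span F {(1 : K)}) fun a ha => ?_).trans
          (finrank_span_singleton (one_ne_zero (α := K))).le
        obtain ⟨c, rfl⟩ := Algebra.mem_bot.1 (hE ▸ hS a ha)
        exact Submodule.mem_span_singleton.2 ⟨c, (Algebra.algebraMap_eq_smul_one c).symm⟩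
      have hr1 := hle (LinearMap.range β) (by
        rintro _ ⟨a, rfl⟩
        rw [hβ]
        exact hd' a)
      have hk1 := hle (LinearMap.ker β) (fun a ha => by
        rw [hβ, LinearMap.mem_ker, LinearMap.sub_apply, LinearMap.id_apply, sub_eq_zero] at ha
        exact ha)
      have := hr.two_le
      omega
    -- the quadratic case
    have hk₀F : ∀ c : F, algebraMap F K c ≠ k₀ := fun c hc => hk₀ (by
      rw [← hc, algebraMap_smul, Matrix.mulVec_smul, hyv]
      exact Submodule.smul_of_tower_mem _ c (Submodule.mem_span_singleton_self v))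
    have hli : LinearIndependent F ![(1 : K), k₀] := by
      rw [LinearIndependent.pair_iff' one_ne_zero]
      exact fun c hc => hk₀F c (by rw [Algebra.algebraMap_eq_smul_one, hc])
    let bas := basisOfLinearIndependentOfCardEqFinrank hli (by rw [Fintype.card_fin, hr2])
    obtain ⟨χ, hχ⟩ : ∃ χ : (ι → F) →ₗ[F] F,
        χ = bas.coord 1 ∘ₗ ψ.restrictScalars F ∘ₗ Matrix.toLin' ((y⁻¹ : GL ι F) : Matrix ι ι F) := ⟨_, rfl⟩
    obtain ⟨z, hz⟩ : ∃ z, z = (y : Matrix ι ι F) *ᵥ (k₀ • v) := ⟨_, rfl⟩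
    have hbdec : ∀ x, ∃ α : F, b x = α • v + χ x • z := fun x => by
      refine ⟨bas.coord 0 (ψ (((y⁻¹ : GL ι F) : Matrix ι ι F) *ᵥ x)), ?_⟩
      rw [hbx, hz, hχ]
      conv_lhs => rw [← bas.sum_repr (ψ (((y⁻¹ : GL ι F) : Matrix ι ι F) *ᵥ x))]
      rw [Fin.sum_univ_two, add_smul, Matrix.mulVec_add, smul_assoc, smul_assoc, Matrix.mulVec_smul,
        Matrix.mulVec_smul]
      simp [bas, hyv]
    have hχv : ∀ k : K, χ (k • v) = 0 := fun k => by
      obtain ⟨α, hα⟩ := hbdec (k • v)
      by_contra hne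
      refine hk₀ ?_
      rw [← hz]
      have hmem : χ (k • v) • z ∈ Submodule.span K {v} := by
        rw [← add_sub_cancel_left (α • v) (χ (k • v) • z), ← hα]
        refine Submodule.sub_mem _ ?_ (Submodule.smul_of_tower_mem _ α (Submodule.mem_span_singleton_self v))
        rw [← add_sub_cancel_left (k • v) (b (k • v)), ← hy'x]
        exact Submodule.sub_mem _ (hmove k) (Submodule.smul_mem _ k (Submodule.mem_span_singleton_self v))
      have := Submodule.smul_of_tower_mem _ (χ (k • v))⁻¹ hmem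
      rwa [inv_smul_smul₀ hne] at this
    have hχ0 : χ ≠ 0 := fun h0 => by
      obtain ⟨w, hw⟩ := h2 v
      obtain ⟨x, hx⟩ : ∃ x, ψ (((y⁻¹ : GL ι F) : Matrix ι ι F) *ᵥ x) = k₀ :=
        ⟨(y : Matrix ι ι F) *ᵥ (k₀ • (((y⁻¹ : GL ι F) : Matrix ι ι F) *ᵥ (k₁ • v))),
          by rw [inv_mulVec_cancel, map_smul, hψ₁, smul_eq_mul, mul_one]⟩
      have h1 := LinearMap.congr_fun h0 x
      rw [hχ, LinearMap.comp_apply, LinearMap.comp_apply, Matrix.toLin'_apply, LinearMap.restrictScalars_apply, hx,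
        LinearMap.zero_apply, Module.Basis.coord_apply, show k₀ = bas 1 by simp [bas], Module.Basis.repr_self,
        Finsupp.single_eq_same] at h1
      exact one_ne_zero h1
    by_cases hq : ∀ c : F, c = 0 ∨ c = 1
    swap
    · push Not at hq
      obtain ⟨l, hl0, hl1⟩ := hq
      obtain ⟨T, hT⟩ : ∃ T, T = y * kT (F := F) (algebraMap F K l • ψ) v * y⁻¹ := ⟨_, rfl⟩
      have hlv : (algebraMap F K l • ψ) v = 0 := by rw [LinearMap.smul_apply, hψv, smul_zero]
      have hTM : T ∈ M := hT ▸ mul_mem (mul_mem hy (kT_mem_of_eq_zero hM hlv)) (inv_mem hy)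
      have hTx : ∀ x, (T : Matrix ι ι F) *ᵥ x = x + l • b x := fun x => by
        rw [hT, mul_mulVec, mul_mulVec, kT_mulVec (by rw [hlv, add_zero]; exact one_ne_zero), Matrix.mulVec_add,
          mulVec_inv_cancel, LinearMap.smul_apply, smul_eq_mul, mul_smul, algebraMap_smul, Matrix.mulVec_smul,
          hbx]
      have hTk : ∀ k, (T : Matrix ι ι F) *ᵥ (k • v) = (k + algebraMap F K l * (A k - k)) • v := fun k => by
        have h1 : (A k - k) • v = b (k • v) := by rw [sub_smul, ← hAk, hy'x, add_sub_cancel_left]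
        rw [hTx, ← h1, add_smul, mul_smul, algebraMap_smul]
      rcases exists_transvection_or_mul hM hr h2 hv hTM (by rw [hTx, hbv, smul_zero, add_zero])
          (fun k => hTk k ▸ Submodule.smul_mem _ _ (Submodule.mem_span_singleton_self v)) with h | ⟨B, -, hB, hBk⟩
      · exact h
      exfalso
      have hBA : ∀ k, B k = k + algebraMap F K l * (A k - k) := fun k =>
        smul_left_injective K hv (by simp only [← hBk, hTk])
      have h4 := hB k₀ k₀
      rw [hBA, hBA, hmulA] at h4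
      have hd0 : A k₀ - k₀ ≠ 0 := fun h0 => by
        have h5 := hd' k₀
        obtain ⟨c, hc⟩ : ∃ c, algebraMap F K c = k₀ := Algebra.mem_bot.1 (hE ▸ (show k₀ ∈ E from sub_eq_zero.1 h0))
        exact hk₀ (by
          rw [← hc, algebraMap_smul, Matrix.mulVec_smul, hyv]
          exact Submodule.smul_of_tower_mem _ c (Submodule.mem_span_singleton_self v))
      have h6 : algebraMap F K l * (algebraMap F K l - 1) * (A k₀ - k₀) ^ 2 = 0 := by
        linear_combination -h4
      simp only [mul_eq_zero, pow_eq_zero_iff, sub_eq_zero, ne_eq, OfNat.ofNat_ne_zero, not_false_eq_true] at h6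
      rcases h6 with (h | h) | h
      · exact hl0 ((algebraMap F K).injective (by rw [h, map_zero]))
      · exact hl1 ((algebraMap F K).injective (by rw [h, map_one]))
      · exact hd0 (sub_eq_zero.2 h)
    obtain ⟨a, ha⟩ := h3 hr2 hq v z
    obtain ⟨ψ', hψ', hψ'a⟩ := exists_kfun ha
    obtain ⟨δ, hδ, hδz⟩ := exists_kfun (K := K) (E := Submodule.span K {v} ⊔ Submodule.span K {a}) (u := z)
      fun hm => by
        obtain ⟨p, hp, q, hq, hpq⟩ := Submodule.mem_sup.1 hm
        obtain ⟨c, rfl⟩ := Submodule.mem_span_singleton.1 hq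
        rcases eq_or_ne c 0 with rfl | hc
        · rw [zero_smul, add_zero] at hpq
          exact hk₀ (hz ▸ hpq ▸ hp)
        · refine ha ?_
          rw [← inv_smul_smul₀ hc a, eq_sub_of_add_eq' hpq]
          exact Submodule.smul_mem _ _ (Submodule.sub_mem _ (Submodule.mem_sup_right (Submodule.mem_span_singleton_self z))
            (Submodule.mem_sup_left hp))
    have hψ'v : ψ' v = 0 := hψ' v (Submodule.mem_sup_left (Submodule.mem_span_singleton_self v))
    have hψ'z : ψ' z = 0 := hψ' z (Submodule.mem_sup_right (Submodule.mem_span_singleton_self z))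
    have hδv : δ v = 0 := hδ v (Submodule.mem_sup_left (Submodule.mem_span_singleton_self v))
    have hδa : δ a = 0 := hδ a (Submodule.mem_sup_right (Submodule.mem_span_singleton_self a))
    have hconj : ∀ φ : (ι → F) →ₗ[K] K, φ v = 0 →
        Unip M v (A ∘ₗ φ.restrictScalars F ∘ₗ (LinearMap.id - b)) := by
      intro φ hφ
      obtain ⟨hu0, u, hu, hue⟩ := unip_linear hM hφ
      refine ⟨fun k => ?_, y' * u * y'⁻¹, mul_mem (mul_mem hy'M hu) (inv_mem hy'M), fun x => ?_⟩
      · rw [LinearMap.comp_apply, LinearMap.comp_apply, LinearMap.sub_apply, LinearMap.id_apply,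
          LinearMap.restrictScalars_apply]
        obtain ⟨α, hα⟩ := hbdec (k • v)
        rw [hα, hχv, zero_smul, add_zero, map_sub, map_smul, hφ, smul_zero, LinearMap.map_smul_of_tower, hφ,
          smul_zero, sub_zero, map_zero]
      · have hinv : ((y'⁻¹ : GL ι F) : Matrix ι ι F) *ᵥ x = x - b x := mulVec_injective y' (by
          simp only [mulVec_inv_cancel]
          rw [hy'x, map_sub, hbb, sub_zero, sub_add_cancel])
        rw [mul_mulVec, mul_mulVec, hue, hinv, Matrix.mulVec_add, hAk, hy'x, map_sub, hbb, sub_zero, sub_add_cancel]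
        rfl
    have hφb : ∀ (φ : (ι → F) →ₗ[K] K), φ v = 0 → ∀ x, φ (x - b x) = φ x - χ x • φ z := fun φ hφ x => by
      obtain ⟨α, hα⟩ := hbdec x
      rw [hα, map_sub, map_add, LinearMap.map_smul_of_tower, LinearMap.map_smul_of_tower, hφ, smul_zero, zero_add]
    -- transport by a linear element fixing `v`
    have hσ : Unip M v (A ∘ₗ (ψ' + δ).restrictScalars F) := by
      obtain ⟨hu0, u, hu, hue⟩ := hconj ψ' hψ'v
      have hk1 : ∀ x, (kT (F := F) δ a : Matrix ι ι F) *ᵥ x = x + δ x • a := fun x =>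
        kT_mulVec (by rw [hδa, add_zero]; exact one_ne_zero) x
      refine ⟨fun k => ?_, (kT δ a)⁻¹ * u * kT δ a,
        mul_mem (mul_mem (inv_mem (kT_mem_of_eq_zero hM hδa)) hu) (kT_mem_of_eq_zero hM hδa), fun x => ?_⟩
      · rw [LinearMap.comp_apply, LinearMap.restrictScalars_apply, map_smul, LinearMap.add_apply, hψ'v, hδv,
          add_zero, smul_zero, map_zero]
      · refine mulVec_injective (kT δ a) ?_
        simp only
        rw [mul_mulVec, mul_mulVec, mulVec_inv_cancel, hue, hk1, hk1, map_add δ x, map_smul, hδv, smul_zero, add_zero]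
        simp only [LinearMap.comp_apply, LinearMap.sub_apply, LinearMap.id_apply, LinearMap.restrictScalars_apply]
        rw [hφb ψ' hψ'v, hψ'z, smul_zero, sub_zero, map_add, map_smul, hψ'a, smul_eq_mul, mul_one,
          LinearMap.add_apply]
        abel
    refine ⟨χ, hχ0, transvection_of_unip ?_⟩
    have h := unip_add hσ (unip_neg (hconj (ψ' + δ) (by rw [LinearMap.add_apply, hψ'v, hδv, add_zero])))
    convert h using 1
    refine LinearMap.ext fun x => ?_
    simp only [LinearMap.comp_apply, LinearMap.add_apply, LinearMap.neg_apply, LinearMap.sub_apply,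
      LinearMap.id_apply, LinearMap.restrictScalars_apply, Algebra.linearMap_apply]
    have e1 := hφb (ψ' + δ) (by rw [LinearMap.add_apply, hψ'v, hδv, add_zero]) x
    simp only [LinearMap.add_apply, hψ'z, hδz, zero_add] at e1
    rw [e1, map_sub, map_smul, hA1, Algebra.algebraMap_eq_smul_one]
    abel

end CfsgLib.Classical22.FieldMax
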