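/-
One transvection gives all of them.
-/
import Cfsg.Agent.Lib.Classical22.FieldMaxStart

set_option autoImplicit false

namespace CfsgLib.Classical22.FieldMax

open Matrix CfsgLib.Transvec
open scoped MatrixGroups

variable {ι : Type} [Fintype ι] [DecidableEq ι] {F : Type*} [Field F] [Fintype F]
variable {K : Type*} [Field K] [Algebra F K] [Module K (ι → F)] [IsScalarTower F K (ι → F)]
variable [FiniteDimensional F K] {M : Subgroup (GL ι F)}

/-- The map with values in `F` of a `K`-functional. -/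
def down (φ₀ : K →ₗ[F] F) (Φ : (ι → F) →ₗ[K] K) : (ι → F) →ₗ[F] F := φ₀ ∘ₗ Φ.restrictScalars F

omit [Fintype ι] [DecidableEq ι] [Fintype F] [FiniteDimensional F K] in
theorem down_apply (φ₀ : K →ₗ[F] F) (Φ : (ι → F) →ₗ[K] K) (x : ι → F) : down φ₀ Φ x = φ₀ (Φ x) := rfl

omit [DecidableEq ι] in
theorem down_surjective {φ₀ : K →ₗ[F] F} (h1 : φ₀ 1 = 1) : Function.Surjective (down (ι := ι) φ₀) := by
  classical
  haveI := finiteK (ι := ι) (F := F) (K := K)
  haveI : Finite K := Module.finite_of_finite F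
  haveI : Finite ((ι → F) →ₗ[K] K) := Module.finite_of_finite K
  haveI : Finite ((ι → F) →ₗ[F] F) := Module.finite_of_finite F
  have hinj : Function.Injective (down (ι := ι) φ₀) := fun Φ Φ' h => LinearMap.ext fun x => by
    by_contra hne
    have h2 := LinearMap.congr_fun h (((Φ x - Φ' x)⁻¹ : K) • x)
    rw [down_apply, down_apply, LinearMap.map_smul Φ, LinearMap.map_smul Φ', smul_eq_mul, smul_eq_mul] at h2
    have h3 : φ₀ ((Φ x - Φ' x)⁻¹ * (Φ x - Φ' x)) = 0 := by rw [mul_sub, map_sub, h2, sub_self]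
    rw [inv_mul_cancel₀ (sub_ne_zero.2 hne), h1] at h3
    exact one_ne_zero h3
  refine ((Nat.bijective_iff_injective_and_card _).2 ⟨hinj, ?_⟩).2
  rw [← Nat.card_congr (Module.finBasis K (ι → F)).toDualEquiv.toEquiv,
    ← Nat.card_congr (Pi.basisFun F ι).toDualEquiv.toEquiv]

omit [Fintype F] [FiniteDimensional F K] in
/-- Moving by a linear element fixing the line pointwise. -/
theorem unip_pull {v : ι → F} {b : (ι → F) →ₗ[F] K} (hb : Unip M v b) {k : GL ι F} (hk : k ∈ M)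
    (hv : ∀ c : K, (k : Matrix ι ι F) *ᵥ (c • v) = c • v) {b' : (ι → F) →ₗ[F] K}
    (hb' : ∀ x, b' x = b ((k : Matrix ι ι F) *ᵥ x)) : Unip M v b' := by
  obtain ⟨hb0, u, hu, he⟩ := hb
  refine ⟨fun c => by rw [hb', hv, hb0], k⁻¹ * u * k, mul_mem (mul_mem (inv_mem hk) hu) hk,
    fun x => mulVec_injective k ?_⟩
  simp only
  rw [mul_mulVec, mul_mulVec, mulVec_inv_cancel, he, Matrix.mulVec_add, hv, hb']

omit [Fintype F] [FiniteDimensional F K] in
/-- Moving the centre. -/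
theorem unip_push {v : ι → F} {b : (ι → F) →ₗ[F] K} (hb : Unip M v b) {h : GL ι F} (hh : h ∈ M)
    (hl : ∀ (c : K) (x : ι → F), (h : Matrix ι ι F) *ᵥ (c • x) = c • ((h : Matrix ι ι F) *ᵥ x)) :
    Unip M ((h : Matrix ι ι F) *ᵥ v) (b ∘ₗ Matrix.toLin' ((h⁻¹ : GL ι F) : Matrix ι ι F)) := by
  obtain ⟨hb0, u, hu, he⟩ := hb
  refine ⟨fun c => ?_, h * u * h⁻¹, mul_mem (mul_mem hh hu) (inv_mem hh), fun x => ?_⟩
  · rw [LinearMap.comp_apply, Matrix.toLin'_apply, ← hl, inv_mulVec_cancel, hb0]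
  · rw [mul_mulVec, mul_mulVec, he, Matrix.mulVec_add, hl, mulVec_inv_cancel]
    rfl

/-- The transvection in `M` of a centre and a `K`-functional. -/
def Has (M : Subgroup (GL ι F)) (φ₀ : K →ₗ[F] F) (v : ι → F) (Φ : (ι → F) →ₗ[K] K) : Prop :=
  Unip (K := K) M v (Algebra.linearMap F K ∘ₗ down φ₀ Φ)

/-- A single one gives the whole line of functionals. -/
theorem has_smul (hM : LinearIn K M) (hr : 2 ≤ Module.finrank F K) {φ₀ : K →ₗ[F] F} {v : ι → F}
    {Φ : (ι → F) →ₗ[K] K} (hΦ : Φ ≠ 0) (hv : Φ v = 0) (h : Has M φ₀ v Φ) (s : K) : Has M φ₀ v (s • Φ) := by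
  classical
  obtain ⟨a, ha⟩ : ∃ a, Φ a = 1 := by
    obtain ⟨x, hx⟩ : ∃ x, Φ x ≠ 0 := by
      by_contra hne
      push Not at hne
      exact hΦ (LinearMap.ext hne)
    exact ⟨(Φ x)⁻¹ • x, by rw [map_smul, smul_eq_mul, inv_mul_cancel₀ hx]⟩
  have hadd : ∀ s t : K, Has M φ₀ v (s • Φ) → Has M φ₀ v (t • Φ) → Has M φ₀ v ((s + t) • Φ) := fun s t hs ht => by
    unfold Has at *
    convert unip_add hs ht using 1
    ext x
    simp only [LinearMap.comp_apply, down_apply, LinearMap.add_apply, LinearMap.smul_apply, add_smul, map_add]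
  have hneg : ∀ s : K, Has M φ₀ v (s • Φ) → Has M φ₀ v ((-s) • Φ) := fun s hs => by
    unfold Has at *
    convert unip_neg hs using 1
    ext x
    simp only [LinearMap.comp_apply, down_apply, LinearMap.neg_apply, LinearMap.smul_apply, neg_smul, map_neg]
  have hzero : Has M φ₀ v ((0 : K) • Φ) := by
    have := hadd 1 (-1) (by rwa [one_smul]) (hneg 1 (by rwa [one_smul]))
    rwa [add_neg_cancel] at this
  let R : Subring K :=
    { carrier := {c | ∀ s : K, Has M φ₀ v (s • Φ) → Has M φ₀ v ((c * s) • Φ)}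
      mul_mem' := fun {c d} hc hd s hs => by rw [mul_assoc]; exact hc _ (hd s hs)
      one_mem' := fun s hs => by rwa [one_mul]
      add_mem' := fun {c d} hc hd s hs => by rw [add_mul]; exact hadd _ _ (hc s hs) (hd s hs)
      zero_mem' := fun s _ => by rw [zero_mul]; exact hzero
      neg_mem' := fun {c} hc s hs => by rw [neg_mul]; exact hneg _ (hc s hs) }
  have hR : R = ⊤ := subring_eq_top hr R fun c hc t ht => by
    obtain ⟨hmem, hact⟩ := torus_mem hM ha hc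
    refine unip_pull ht hmem (fun k => ?_) fun x => ?_
    · rw [hact, map_smul, hv, smul_zero, zero_mul, zero_smul, add_zero]
    · rw [hact]
      simp only [LinearMap.comp_apply, down_apply, LinearMap.smul_apply, map_add, map_smul, ha, smul_eq_mul]
      rw [← map_add, ← map_add]
      congr 2
      ring
  have := (hR ▸ Subring.mem_top s : s ∈ R) 1 (by rwa [one_smul])
  rwa [mul_one] at this

/-- One gives all with centre in the kernel. -/
theorem has_all (hM : LinearIn K M) (hr : 2 ≤ Module.finrank F K) (h2 : ∀ v : ι → F, ∃ w, w ∉ Submodule.span K {v})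
    {φ₀ : K →ₗ[F] F} {v : ι → F} {Φ : (ι → F) →ₗ[K] K} (hv : v ≠ 0) (hΦ : Φ ≠ 0) (hΦv : Φ v = 0)
    (h : Has M φ₀ v Φ) {v' : ι → F} {Φ' : (ι → F) →ₗ[K] K} (hΦv' : Φ' v' = 0) : Has M φ₀ v' Φ' := by
  classical
  rcases eq_or_ne v' 0 with rfl | hv'
  · refine ⟨fun c => ?_, 1, M.one_mem, fun x => by rw [smul_zero, add_zero, Units.val_one, Matrix.one_mulVec]⟩
    rw [smul_zero, map_zero]
  obtain ⟨g, hg, hgl, rfl⟩ := exists_transitive hM h2 hv hv'
  have hgl' : ∀ (c : K) (x : ι → F), ((g⁻¹ : GL ι F) : Matrix ι ι F) *ᵥ (c • x) =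
      c • (((g⁻¹ : GL ι F) : Matrix ι ι F) *ᵥ x) := fun c x => mulVec_injective g (by
    simp only [hgl, mulVec_inv_cancel])
  obtain ⟨Φ₂, hΦ₂⟩ : ∃ Φ₂ : (ι → F) →ₗ[K] K, ∀ x, Φ₂ x = Φ (((g⁻¹ : GL ι F) : Matrix ι ι F) *ᵥ x) :=
    ⟨{ toFun := fun x => Φ (((g⁻¹ : GL ι F) : Matrix ι ι F) *ᵥ x)
       map_add' := fun x y => by rw [Matrix.mulVec_add, map_add]
       map_smul' := fun c x => by rw [hgl', map_smul, RingHom.id_apply] }, fun _ => rfl⟩
  have hh : Has M φ₀ ((g : Matrix ι ι F) *ᵥ v) Φ₂ := by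
    unfold Has
    convert unip_push h hg hgl using 1
    ext x
    simp only [LinearMap.comp_apply, down_apply, Matrix.toLin'_apply, hΦ₂]
  have hv2 : Φ₂ ((g : Matrix ι ι F) *ᵥ v) = 0 := by rw [hΦ₂, inv_mulVec_cancel, hΦv]
  have hΦ₂0 : Φ₂ ≠ 0 := fun h0 => hΦ (LinearMap.ext fun x => by
    have := LinearMap.congr_fun h0 ((g : Matrix ι ι F) *ᵥ x)
    rwa [hΦ₂, inv_mulVec_cancel] at this)
  by_cases hdep : ∃ s : K, Φ' = s • Φ₂
  · obtain ⟨s, rfl⟩ := hdep
    exact has_smul hM hr hΦ₂0 hv2 hh s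
  obtain ⟨a₁, ha₁, ha₁'⟩ : ∃ a, Φ₂ a = 0 ∧ Φ' a ≠ 0 := by
    by_contra hc
    push Not at hc
    obtain ⟨x, hx⟩ : ∃ x, Φ₂ x ≠ 0 := by
      by_contra hne
      push Not at hne
      exact hΦ₂0 (LinearMap.ext hne)
    refine hdep ⟨Φ' x / Φ₂ x, LinearMap.ext fun y => ?_⟩
    have h1 := hc (y - (Φ₂ y / Φ₂ x) • x) (by rw [map_sub, map_smul, smul_eq_mul, div_mul_cancel₀ _ hx, sub_self])
    rw [map_sub, map_smul, smul_eq_mul, sub_eq_zero] at h1
    rw [h1, LinearMap.smul_apply, smul_eq_mul]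
    ring
  obtain ⟨x, hx⟩ : ∃ x, Φ₂ x = 1 := by
    obtain ⟨x, hx⟩ : ∃ x, Φ₂ x ≠ 0 := by
      by_contra hne
      push Not at hne
      exact hΦ₂0 (LinearMap.ext hne)
    exact ⟨(Φ₂ x)⁻¹ • x, by rw [map_smul, smul_eq_mul, inv_mul_cancel₀ hx]⟩
  obtain ⟨a, ha⟩ : ∃ a, a = x + ((1 - Φ' x) / Φ' a₁) • a₁ := ⟨_, rfl⟩
  have e1 : Φ₂ a = 1 := by rw [ha, map_add, map_smul, ha₁, smul_zero, add_zero, hx]
  have e2 : Φ' a = 1 := by
    rw [ha, map_add, map_smul, smul_eq_mul, div_mul_cancel₀ _ ha₁', add_sub_cancel]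
  have e3 : (Φ' - Φ₂) a = 0 := by rw [LinearMap.sub_apply, e1, e2, sub_self]
  have hk : ∀ y, (kT (F := F) (Φ' - Φ₂) a : Matrix ι ι F) *ᵥ y = y + (Φ' - Φ₂) y • a := fun y =>
    kT_mulVec (by rw [e3, add_zero]; exact one_ne_zero) y
  refine unip_pull hh (kT_mem_of_eq_zero hM e3) (fun c => ?_) fun y => ?_
  · rw [hk, map_smul, LinearMap.sub_apply, hΦv', hv2, sub_zero, smul_zero, zero_smul, add_zero]
  · rw [hk]
    simp only [LinearMap.comp_apply, down_apply, map_add, map_smul, e1, smul_eq_mul, mul_one, LinearMap.sub_apply]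
    rw [← map_add, ← map_add, add_sub_cancel]

/-- One transvection gives the special linear group. -/
theorem specialLinear_le_of_transvection (hM : LinearIn K M) (hr : 2 ≤ Module.finrank F K)
    (h2 : ∀ v : ι → F, ∃ w, w ∉ Submodule.span K {v}) {v : ι → F} (hv : v ≠ 0) {χ : (ι → F) →ₗ[F] F}
    (hχ : χ ≠ 0) (hχv : ∀ k : K, χ (k • v) = 0) (hmem : transv v (fVec χ) ∈ M) :
    Cfsg.Geo.specialLinear ι F ≤ M := by
  classical
  obtain ⟨φ₀, hφ₀⟩ : ∃ φ : K →ₗ[F] F, φ 1 = 1 := by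
    obtain ⟨l, hl, -⟩ := (⊥ : Submodule F K).exists_dual_map_eq_bot_of_notMem (x := 1) (by simp) inferInstance
    exact ⟨(l 1)⁻¹ • l, by rw [LinearMap.smul_apply, smul_eq_mul, inv_mul_cancel₀ hl]⟩
  have hker : ∀ (Φ : (ι → F) →ₗ[K] K) (w : ι → F), (∀ k : K, down φ₀ Φ (k • w) = 0) → Φ w = 0 := by
    intro Φ w hw
    by_contra hne
    have := hw (Φ w)⁻¹
    rw [down_apply, map_smul, smul_eq_mul, inv_mul_cancel₀ hne, hφ₀] at this
    exact one_ne_zero this
  obtain ⟨Φ, rfl⟩ := down_surjective hφ₀ χ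
  have hΦv := hker Φ v hχv
  have hd0 : fVec (down φ₀ Φ) ⬝ᵥ v = 0 := by rw [fVec_dot, down_apply, hΦv, map_zero]
  have h0 : Has M φ₀ v Φ := by
    refine ⟨fun k => ?_, _, hmem, fun x => ?_⟩
    · rw [LinearMap.comp_apply, hχv, map_zero]
    · rw [transv_mulVec hd0, fVec_dot, LinearMap.comp_apply, Algebra.linearMap_apply, algebraMap_smul]
  have hΦ0 : Φ ≠ 0 := fun h => hχ (by rw [h]; exact LinearMap.ext fun x => map_zero φ₀)
  -- full pairs with centre in the kernel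
  have hfull : ∀ (w : ι → F) (Ψ : (ι → F) →ₗ[K] K), Ψ w = 0 → FullPair M w (fVec (down φ₀ Ψ)) := by
    intro w Ψ hw a
    obtain ⟨-, u, hu, hue⟩ := has_all hM hr h2 hv hΦ0 hΦv h0 (v' := w) (Φ' := (algebraMap F K a) • Ψ)
      (by rw [LinearMap.smul_apply, hw, smul_zero])
    have hd : (a • fVec (down φ₀ Ψ)) ⬝ᵥ w = 0 := by
      rw [smul_dotProduct, fVec_dot, down_apply, hw, map_zero, smul_zero]
    rwa [show transv w (a • fVec (down φ₀ Ψ)) = u from gl_ext fun x => by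
      rw [transv_mulVec hd, hue, smul_dotProduct, fVec_dot, LinearMap.comp_apply, Algebra.linearMap_apply,
        down_apply, down_apply, LinearMap.smul_apply]
      simp only [algebraMap_smul, map_smul]]
  refine specialLinear_le fun w φ hφ => ?_
  obtain ⟨ψ, rfl⟩ : ∃ ψ, fVec ψ = φ := ⟨dotProductEquiv F ι φ, (dotProductEquiv F ι).symm_apply_apply φ⟩
  obtain ⟨Ψ, rfl⟩ := down_surjective hφ₀ ψ
  suffices h : FullPair M w (fVec (down φ₀ Ψ)) by simpa using h 1
  by_cases hΨw : Ψ w = 0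
  · exact hfull w Ψ hΨw
  obtain ⟨w₀, hw₀⟩ := h2 w
  obtain ⟨z, hz⟩ : ∃ z, z = w₀ - (Ψ w₀ / Ψ w) • w := ⟨_, rfl⟩
  have hΨz : Ψ z = 0 := by rw [hz, map_sub, map_smul, smul_eq_mul, div_mul_cancel₀ _ hΨw, sub_self]
  have hzw : z ∉ Submodule.span K {w} := fun h => hw₀ (by
    have := Submodule.add_mem _ h (Submodule.smul_mem _ (Ψ w₀ / Ψ w) (Submodule.mem_span_singleton_self w))
    rwa [hz, sub_add_cancel] at this)
  obtain ⟨Φ₁, hΦ₁, hΦ₁z⟩ := exists_kfun hzw
  have hw1 := hΦ₁ w (Submodule.mem_span_singleton_self w)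
  exact fullPair_comm (v := w) (w := z) (φ := fVec (down φ₀ Φ₁)) (ψ := fVec (down φ₀ Ψ))
    (by rw [fVec_dot, down_apply, hw1, map_zero]) (by rw [fVec_dot, down_apply, hΨz, map_zero]) hφ
    (by rw [fVec_dot, down_apply, hΦ₁z, hφ₀]; exact one_ne_zero) (hfull w Φ₁ hw1) (hfull z Ψ hΨz)

/-- A group containing the linear elements and a non-semilinear one contains the special linear group. -/
theorem specialLinear_le_of_not_semi (hM : LinearIn K M) (hr : (Module.finrank F K).Prime)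
    (h2 : ∀ v : ι → F, ∃ w, w ∉ Submodule.span K {v})
    (h3 : Module.finrank F K = 2 → (∀ c : F, c = 0 ∨ c = 1) → ∀ u v : ι → F, ∃ w, w ∉ Submodule.span K {u} ⊔ Submodule.span K {v})
    {g : GL ι F} (hg : g ∈ M) (hns : ¬ Semi K g) : Cfsg.Geo.specialLinear ι F ≤ M := by
  classical
  obtain ⟨v, k, hvk⟩ : ∃ (v : ι → F) (k : K), ∀ k' : K,
      (g : Matrix ι ι F) *ᵥ (k • v) ≠ k' • ((g : Matrix ι ι F) *ᵥ v) := by
    by_contra hc
    push Not at hc
    exact hns (semi_of_lines h2 hc)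
  have hv : v ≠ 0 := fun h => hvk 0 (by rw [h, smul_zero, Matrix.mulVec_zero, smul_zero])
  obtain ⟨h, hh, hl, he⟩ := exists_transitive hM h2 (mulVec_ne_zero g hv) hv
  have hy : ((h * g : GL ι F) : Matrix ι ι F) *ᵥ v = v := by rw [mul_mulVec, he]
  obtain ⟨χ, hχ0, hχv, hmem⟩ := exists_transvection_of_moving hM hr h2 h3 hv (Module.finrank F K) (h * g)
    (mul_mem hh hg) hy ⟨k, fun hm => by
      obtain ⟨c, hc⟩ := Submodule.mem_span_singleton.1 hm
      refine hvk c (mulVec_injective h ?_)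
      simp only
      rw [← mul_mulVec, ← hc, hl, he]⟩ (Nat.le_add_right _ _)
  exact specialLinear_le_of_transvection hM hr.two_le h2 hv hχ0 hχv hmem

end CfsgLib.Classical22.FieldMax
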