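/-
The semilinear group of the field of four elements in dimension four over the field of two elements.
-/
import Cfsg.Agent.Lib.Classical22.FieldMaxEnd

set_option autoImplicit false

namespace CfsgLib.Classical22.FieldMax

open Matrix CfsgLib.Transvec
open scoped MatrixGroups

/-- The matrix of the first structure. -/
def fourW : Matrix (Fin 4) (Fin 4) (ZMod 2) := !![0, 1, 0, 0; 1, 1, 0, 0; 0, 0, 0, 1; 0, 0, 1, 1]

/-- The matrix of the second structure. -/
def fourW' (a b c : ZMod 2) : Matrix (Fin 4) (Fin 4) (ZMod 2) :=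
  !![0, a, 1, (1 + b) * a + c; 0, b, 0, 1; 1, c, 1, a + b * c; 0, 1, 0, 1 + b]

theorem zmod_two_cases (a : ZMod 2) : a = 0 ∨ a = 1 := by decide +revert

set_option maxRecDepth 4000 in
theorem four_table (a b c : ZMod 2) : ∃ (A B : Matrix (Fin 4) (Fin 4) (ZMod 2)) (v φ : Fin 4 → ZMod 2),
    A * fourW = fourW * A ∧ B * fourW' a b c = fourW' a b c * B ∧ A * B = 1 + vecMulVec v φ ∧
      φ ⬝ᵥ v = 0 ∧ φ ⬝ᵥ (fourW *ᵥ v) = 0 ∧ v ≠ 0 ∧ φ ≠ 0 := by
  rcases zmod_two_cases a with rfl | rfl <;> rcases zmod_two_cases b with rfl | rfl <;>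
    rcases zmod_two_cases c with rfl | rfl
  · exact ⟨!![0, 0, 1, 0; 0, 0, 0, 1; 1, 1, 0, 0; 1, 0, 0, 0], !![0, 1, 1, 1; 0, 1, 0, 1; 1, 1, 1, 0; 0, 1, 0, 0], ![1, 0, 0, 1], ![0, 1, 1, 0], by decide⟩
  · exact ⟨!![0, 0, 1, 1; 0, 0, 1, 0; 1, 1, 0, 0; 1, 0, 0, 0], !![0, 0, 0, 1; 1, 1, 1, 0; 1, 0, 0, 1; 1, 1, 0, 0], ![1, 1, 1, 0], ![1, 1, 0, 1], by decide⟩
  · exact ⟨!![0, 0, 1, 1; 0, 0, 1, 0; 1, 1, 0, 0; 1, 0, 0, 0], !![0, 0, 0, 1; 0, 1, 1, 1; 0, 1, 0, 0; 1, 1, 0, 0], ![0, 0, 1, 0], ![0, 1, 0, 0], by decide⟩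
  · exact ⟨!![1, 1, 1, 1; 1, 0, 1, 0; 1, 1, 0, 0; 1, 0, 0, 0], !![0, 1, 1, 0; 0, 0, 1, 1; 0, 0, 1, 0; 1, 0, 0, 0], ![1, 0, 1, 1], ![0, 1, 1, 1], by decide⟩
  · exact ⟨!![1, 0, 1, 1; 0, 1, 1, 0; 1, 1, 0, 0; 1, 0, 0, 0], !![0, 1, 1, 0; 0, 0, 1, 1; 0, 1, 1, 1; 1, 1, 1, 0], ![1, 0, 1, 1], ![0, 1, 1, 1], by decide⟩
  · exact ⟨!![1, 0, 1, 1; 0, 1, 1, 0; 1, 1, 0, 0; 1, 0, 0, 0], !![0, 1, 0, 1; 0, 0, 1, 1; 0, 1, 1, 1; 1, 0, 1, 0], ![0, 0, 1, 1], ![0, 1, 0, 0], by decide⟩
  · exact ⟨!![0, 0, 1, 1; 0, 0, 1, 0; 1, 1, 0, 0; 1, 0, 0, 0], !![1, 1, 0, 1; 0, 0, 1, 1; 0, 1, 0, 0; 1, 1, 0, 0], ![0, 0, 1, 1], ![1, 1, 0, 0], by decide⟩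
  · exact ⟨!![1, 1, 1, 1; 1, 0, 1, 0; 1, 1, 0, 0; 1, 0, 0, 0], !![0, 0, 0, 1; 1, 1, 1, 0; 1, 0, 0, 0; 0, 0, 1, 0], ![1, 1, 1, 0], ![1, 1, 0, 1], by decide⟩

variable {ι : Type} [Fintype ι] [DecidableEq ι] {F : Type*} [Field F] [Fintype F]
variable {K : Type*} [Field K] [Algebra F K] [Module K (ι → F)] [IsScalarTower F K (ι → F)]
variable [FiniteDimensional F K] {M : Subgroup (GL ι F)}

theorem specialLinear_le_four (hM : LinearIn K M) (hr : Module.finrank F K = 2) (hι : Fintype.card ι = 4)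
    (h2 : ∀ v : ι → F, ∃ w, w ∉ Submodule.span K {v}) (hq : ∀ c : F, c = 0 ∨ c = 1)
    {g : GL ι F} (hg : g ∈ M) (hns : ¬ Semi K g) : Cfsg.Geo.specialLinear ι F ≤ M := by
  classical
  haveI : Finite K := Module.finite_of_finite F
  haveI : Fintype K := Fintype.ofFinite K
  have hF : Fintype.card F = 2 := by
    rw [← Finset.card_univ, show (Finset.univ : Finset F) = {0, 1} by ext c; simpa using hq c]
    simp
  have h20 : (2 : F) = 0 := by
    rw [← Nat.cast_ofNat (R := F), ← hF]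
    exact FiniteField.cast_card_eq_zero F
  haveI : CharP F 2 := CharTwo.of_one_ne_zero_of_two_eq_zero one_ne_zero h20
  have hnegv : ∀ x : ι → F, -x = x := fun x => funext fun i => CharTwo.neg_eq _
  have hxx : ∀ x : ι → F, x + x = 0 := fun x => funext fun i => CharTwo.add_self_eq_zero _
  -- a generator of the extension
  obtain ⟨w, hwF⟩ : ∃ w : K, ∀ c : F, algebraMap F K c ≠ w := by
    by_contra hc
    push Not at hc
    have h1 := Fintype.card_le_of_surjective (algebraMap F K) hc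
    rw [Module.card_eq_pow_finrank (K := F) (V := K), hr, hF] at h1
    norm_num at h1
  have hw : w * w = w + 1 := by
    have hw0 : w ≠ 0 := fun h => hwF 0 (by rw [h, map_zero])
    have hw1 : w - 1 ≠ 0 := sub_ne_zero.2 fun h => hwF 1 (by rw [h, map_one])
    have h3 := FiniteField.pow_card_sub_one_eq_one w hw0
    rw [Module.card_eq_pow_finrank (K := F) (V := K), hr, hF] at h3
    have hK2 : (2 : K) = 0 := by rw [← map_ofNat (algebraMap F K) 2, h20, map_zero]
    have h4 : w * w + w + 1 = 0 := by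
      refine (mul_eq_zero.1 ?_).resolve_left hw1
      norm_num at h3
      linear_combination h3
    linear_combination h4 - (w + 1) * hK2
  have hli : LinearIndependent F ![(1 : K), w] := by
    rw [LinearIndependent.pair_iff' one_ne_zero]
    exact fun c hc => hwF c (by rw [Algebra.algebraMap_eq_smul_one, hc])
  have hdec : ∀ k : K, ∃ c d : F, k = algebraMap F K c + algebraMap F K d * w := fun k => by
    let bK := basisOfLinearIndependentOfCardEqFinrank hli (by rw [Fintype.card_fin, hr])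
    refine ⟨bK.repr k 0, bK.repr k 1, ?_⟩
    conv_lhs => rw [← bK.sum_repr k, Fin.sum_univ_two]
    simp [bK, Algebra.smul_def]
  have hlin : ∀ L : (ι → F) →ₗ[F] (ι → F), (∀ x, L (w • x) = w • L x) → ∀ (k : K) x, L (k • x) = k • L x := by
    intro L hL k x
    obtain ⟨c, d, rfl⟩ := hdec k
    rw [add_smul, add_smul, mul_smul, mul_smul, algebraMap_smul, algebraMap_smul, algebraMap_smul, algebraMap_smul,
      map_add, map_smul, map_smul, hL]
  -- the second structure and the basis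
  obtain ⟨v₀, hv₀⟩ : ∃ v₀ : ι → F, (g : Matrix ι ι F) *ᵥ (w • v₀) ∉ Submodule.span K {(g : Matrix ι ι F) *ᵥ v₀} := by
    by_contra hc
    push Not at hc
    refine hns (semi_of_lines h2 fun v k => ?_)
    obtain ⟨c, d, rfl⟩ := hdec k
    obtain ⟨e, he⟩ := Submodule.mem_span_singleton.1 (hc v)
    exact ⟨algebraMap F K c + algebraMap F K d * e, by
      rw [add_smul, add_smul, mul_smul, mul_smul, he, algebraMap_smul, algebraMap_smul, algebraMap_smul,
        algebraMap_smul, Matrix.mulVec_add, Matrix.mulVec_smul, Matrix.mulVec_smul]⟩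
  obtain ⟨u, hu⟩ : ∃ u, u = (g : Matrix ι ι F) *ᵥ v₀ := ⟨_, rfl⟩
  obtain ⟨W, hW⟩ : ∃ W : (ι → F) →ₗ[F] (ι → F),
      ∀ x, W x = (g : Matrix ι ι F) *ᵥ (w • (((g⁻¹ : GL ι F) : Matrix ι ι F) *ᵥ x)) :=
    ⟨Matrix.toLin' (g : Matrix ι ι F) ∘ₗ ((Algebra.lsmul F F (ι → F) w) : (ι → F) →ₗ[F] (ι → F)) ∘ₗ
      Matrix.toLin' ((g⁻¹ : GL ι F) : Matrix ι ι F), fun _ => rfl⟩
  have hWW : ∀ x, W (W x) = W x + x := fun x => by
    rw [hW, hW, inv_mulVec_cancel, smul_smul, hw, add_smul, one_smul, Matrix.mulVec_add, mulVec_inv_cancel]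
  obtain ⟨z, hz⟩ : ∃ z, z = W u := ⟨_, rfl⟩
  rw [← hu] at hv₀
  have hzu : z ∉ Submodule.span K {u} := by rwa [hz, hW, hu, inv_mulVec_cancel, ← hu]
  have hu0 : u ≠ 0 := fun h => hv₀ (by
    have : v₀ = 0 := mulVec_injective g (by simp only [← hu, h, Matrix.mulVec_zero])
    rw [this, smul_zero, Matrix.mulVec_zero]; exact Submodule.zero_mem _)
  have hKF : ∀ c d : F, algebraMap F K c + algebraMap F K d * w = 0 → c = 0 ∧ d = 0 := fun c d h => by
    refine LinearIndependent.pair_iff.1 hli c d ?_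
    rwa [← Algebra.algebraMap_eq_smul_one, Algebra.smul_def]
  have hli4 : LinearIndependent F ![u, w • u, z, w • z] := by
    rw [Fintype.linearIndependent_iff]
    intro f hf
    simp [Fin.sum_univ_four] at hf
    have h1 : (algebraMap F K (f 0) + algebraMap F K (f 1) * w) • u +
        (algebraMap F K (f 2) + algebraMap F K (f 3) * w) • z = 0 := by
      simp only [add_smul, mul_smul, algebraMap_smul]
      rw [← hf]
      abel
    have hd : algebraMap F K (f 2) + algebraMap F K (f 3) * w = 0 := by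
      by_contra hne
      refine hzu ?_
      have h5 := Submodule.smul_mem (Submodule.span K {u}) (algebraMap F K (f 2) + algebraMap F K (f 3) * w)⁻¹
        (show (algebraMap F K (f 2) + algebraMap F K (f 3) * w) • z ∈ Submodule.span K {u} by
          rw [eq_neg_of_add_eq_zero_right h1]
          exact Submodule.neg_mem _ (Submodule.smul_mem _ _ (Submodule.mem_span_singleton_self u)))
      rwa [inv_smul_smul₀ hne] at h5
    rw [hd, zero_smul, add_zero, smul_eq_zero] at h1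
    obtain ⟨e0, e1⟩ := hKF _ _ (h1.resolve_right hu0)
    obtain ⟨e2, e3⟩ := hKF _ _ hd
    intro i
    fin_cases i <;> assumption
  let bas := basisOfLinearIndependentOfCardEqFinrank hli4 (by rw [Module.finrank_pi, hι, Fintype.card_fin])
  have hbas : ⇑bas = ![u, w • u, z, w • z] := coe_basisOfLinearIndependentOfCardEqFinrank _ _
  let ρ : ZMod 2 →+* F := ZMod.castHom dvd_rfl F
  have hρ : Function.Surjective ρ := fun c => (hq c).elim (fun h => ⟨0, by rw [h, map_zero]⟩) fun h => ⟨1, by rw [h, map_one]⟩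
  let P := bas.equivFun
  have hP : ∀ i, P.symm (Pi.single i 1) = bas i := fun i => by
    rw [LinearEquiv.symm_apply_eq]
    ext j
    rw [Module.Basis.equivFun_self, Pi.single_apply]
    simp only [eq_comm]
  obtain ⟨t, ht⟩ : ∃ t : Matrix (Fin 4) (Fin 4) (ZMod 2) → (ι → F) →ₗ[F] (ι → F),
      ∀ X x, t X x = P.symm (X.map ρ *ᵥ P x) :=
    ⟨fun X => P.symm.toLinearMap ∘ₗ Matrix.toLin' (X.map ρ) ∘ₗ P.toLinearMap, fun _ _ => rfl⟩
  have htm : ∀ X Y x, t (X * Y) x = t X (t Y x) := fun X Y x => by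
    rw [ht, ht, ht, LinearEquiv.apply_symm_apply, Matrix.mulVec_mulVec, Matrix.map_mul]
  have ht1 : ∀ x, t 1 x = x := fun x => by
    rw [ht, Matrix.map_one ρ (map_zero ρ) (map_one ρ), Matrix.one_mulVec, LinearEquiv.symm_apply_apply]
  have hbx : ∀ X j, t X (bas j) = ∑ i, ρ (X i j) • bas i := fun X j => by
    rw [ht, ← hP, LinearEquiv.apply_symm_apply, Matrix.mulVec_single_one, Module.Basis.equivFun_symm_apply]
    rfl
  -- the first structure
  have hT0 : ∀ x, t fourW x = w • x := by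
    have e : t fourW = ((Algebra.lsmul F F (ι → F) w) : (ι → F) →ₗ[F] (ι → F)) := bas.ext fun j => by
      rw [hbx, Algebra.lsmul_coe]
      fin_cases j <;> simp [hbas, fourW, Fin.sum_univ_four, smul_smul, hw, add_smul, add_comm]
    exact fun x => LinearMap.congr_fun e x
  -- the second structure
  obtain ⟨a, b, c, d, hcd⟩ : ∃ a b c d : F, W (w • u) = a • u + b • (w • u) + c • z + d • (w • z) := by
    refine ⟨bas.repr (W (w • u)) 0, bas.repr (W (w • u)) 1, bas.repr (W (w • u)) 2, bas.repr (W (w • u)) 3, ?_⟩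
    conv_lhs => rw [← bas.sum_repr (W (w • u)), Fin.sum_univ_four]
    simp [hbas]
  have hWz : W z = z + u := by rw [hz, hWW]
  have hd : d = 1 := by
    refine (hq d).resolve_left fun hd0 => ?_
    rw [hd0, zero_smul, add_zero] at hcd
    have h1 := congrArg W hcd
    rw [hWW, map_add, map_add, LinearMap.map_smul W a, LinearMap.map_smul W b, LinearMap.map_smul W c, ← hz, hWz, hcd] at h1
    rw [← show bas 1 = w • u by simp [hbas], ← show bas 2 = z by simp [hbas],
      ← show bas 0 = u by simp [hbas]] at h1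
    have h2 := congrArg (fun x => bas.repr x 1) h1
    simp at h2
    rcases hq b with hb | hb <;> subst hb <;> simp [CharTwo.add_self_eq_zero] at h2
  subst hd
  rw [one_smul] at hcd
  obtain ⟨a', rfl⟩ := hρ a
  obtain ⟨b', rfl⟩ := hρ b
  obtain ⟨c', rfl⟩ := hρ c
  have hWwz : W (w • z) = W (w • u) + w • u + ρ a' • z + ρ b' • W (w • u) + ρ c' • (z + u) := by
    have h1 := congrArg W hcd
    rw [hWW, map_add, map_add, map_add, LinearMap.map_smul W (ρ a'), LinearMap.map_smul W (ρ b'), LinearMap.map_smul W (ρ c'), ← hz, hWz] at h1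
    rw [eq_sub_of_add_eq' h1.symm, sub_eq_add_neg, hnegv]
    abel
  have hT1 : ∀ x, t (fourW' a' b' c') x = W x := by
    have e : t (fourW' a' b' c') = W := bas.ext fun j => by
      rw [hbx]
      fin_cases j
      · simp [hbas, fourW', Fin.sum_univ_four, ← hz]
      · simp [hbas, fourW', Fin.sum_univ_four, hcd]
      · simp [hbas, fourW', Fin.sum_univ_four, hWz, add_comm]
      · simp [hbas, fourW', Fin.sum_univ_four, hWwz, hcd, smul_add, add_smul, smul_smul]
        rcases zmod_two_cases a' with ha | ha <;> rcases zmod_two_cases b' with hb | hb <;>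
          rcases zmod_two_cases c' with hc | hc <;> subst ha hb hc <;>
          (funext i; simp only [Pi.add_apply, Pi.smul_apply, Pi.zero_apply, map_zero, map_one, smul_eq_mul,
            add_zero, zero_add, one_smul, zero_smul, mul_one, mul_zero, zero_mul, one_mul]) <;> ring_nf <;>
            simp [h20, show (3 : F) = 1 by linear_combination h20, show (4 : F) = 0 by linear_combination 2 * h20]
    exact fun x => LinearMap.congr_fun e x
  -- the transvection
  obtain ⟨A, B, vv, φ, hA, hB, hAB, hφv, hφw, hv0, hφ0⟩ := four_table a' b' c'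
  have hsq : A * B * (A * B) = 1 := by
    rw [hAB, mul_add, add_mul, add_mul, one_mul, mul_one, one_mul, vecMulVec_mul_vecMulVec]
    simp [hφv]
    ext i j
    simp only [Matrix.add_apply]
    rcases zmod_two_cases (vecMulVec vv φ i j) with h | h <;> rw [h] <;> ring_nf <;> simp [show (2 : ZMod 2) = 0 from rfl]
  have hinj : ∀ X Y : Matrix (Fin 4) (Fin 4) (ZMod 2), Y * X = 1 → Function.Injective (t X) := fun X Y h x y hxy => by
    have := congrArg (t Y) hxy
    rwa [← htm, ← htm, h, ht1, ht1] at this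
  have hAi := hinj A (B * (A * B)) (mul_eq_one_comm.1 (by rwa [← mul_assoc]))
  have hBi := hinj B (A * B * A) (by rwa [mul_assoc (A * B) A B])
  have hsl : ∀ h : GL ι F, h ∈ Cfsg.Geo.specialLinear ι F := fun h => by
    rw [mem_specialLinear_iff]
    exact (hq _).resolve_left ((Matrix.isUnit_iff_isUnit_det _).1 h.isUnit).ne_zero
  have hAM : glOfInjective (t A) hAi ∈ M := by
    refine hM _ (fun k x => ?_) (hsl _)
    rw [glOfInjective_mulVec, glOfInjective_mulVec]
    exact hlin _ (fun y => by rw [← hT0, ← htm, hA, htm, hT0]) k x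
  have hBM : glOfInjective (t B) hBi ∈ M := by
    have h1 : g⁻¹ * glOfInjective (t B) hBi * g ∈ M := by
      refine hM _ (fun k x => ?_) (hsl _)
      have h2 := hlin (Matrix.toLin' ((g⁻¹ : GL ι F) : Matrix ι ι F) ∘ₗ t B ∘ₗ Matrix.toLin' (g : Matrix ι ι F))
        (fun y => by
          simp only [LinearMap.comp_apply, Matrix.toLin'_apply]
          have e : (g : Matrix ι ι F) *ᵥ (w • y) = W ((g : Matrix ι ι F) *ᵥ y) := by rw [hW, inv_mulVec_cancel]
          rw [e, ← hT1, ← htm, hB, htm, hT1, hW, inv_mulVec_cancel]) k x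
      simpa only [mul_mulVec, glOfInjective_mulVec, LinearMap.comp_apply, Matrix.toLin'_apply] using h2
    have := mul_mem (mul_mem hg h1) (inv_mem hg)
    rwa [show g * (g⁻¹ * glOfInjective (t B) hBi * g) * g⁻¹ = glOfInjective (t B) hBi by group] at this
  obtain ⟨χ, hχ⟩ : ∃ χ : (ι → F) →ₗ[F] F, ∀ x, χ x = (ρ ∘ φ) ⬝ᵥ P x :=
    ⟨dotProductEquiv F (Fin 4) (ρ ∘ φ) ∘ₗ P.toLinearMap, fun _ => rfl⟩
  obtain ⟨ctr, hctr⟩ : ∃ ctr, ctr = P.symm (ρ ∘ vv) := ⟨_, rfl⟩
  have hρi : Function.Injective ρ := ρ.injective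
  have hctr0 : ctr ≠ 0 := fun h => hv0 (funext fun i => hρi (by
    have := congrFun ((LinearEquiv.symm_apply_eq P).1 (hctr ▸ h)) i
    simpa using this))
  have hχ0 : χ ≠ 0 := fun h => hφ0 (funext fun i => hρi (by
    have := LinearMap.congr_fun h (P.symm (Pi.single i 1))
    rw [hχ, LinearEquiv.apply_symm_apply] at this
    simpa using this))
  have hχ1 : χ ctr = 0 := by rw [hχ, hctr, LinearEquiv.apply_symm_apply, ← RingHom.map_dotProduct, hφv, map_zero]
  have hχw : χ (w • ctr) = 0 := by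
    rw [← hT0, hχ, ht, hctr, LinearEquiv.apply_symm_apply, LinearEquiv.apply_symm_apply]
    have e : fourW.map ρ *ᵥ (ρ ∘ vv) = ρ ∘ (fourW *ᵥ vv) := funext fun i => (RingHom.map_mulVec ρ _ _ i).symm
    rw [e, ← RingHom.map_dotProduct, hφw, map_zero]
  refine specialLinear_le_of_transvection hM hr.ge h2 hctr0 hχ0 (fun k => ?_) ?_
  · obtain ⟨p, q, rfl⟩ := hdec k
    rw [add_smul, mul_smul, algebraMap_smul, algebraMap_smul, map_add, map_smul, map_smul, hχ1, hχw, smul_zero,
      smul_zero, add_zero]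
  · have hd0 : fVec χ ⬝ᵥ ctr = 0 := by rw [fVec_dot, hχ1]
    rw [show transv ctr (fVec χ) = glOfInjective (t A) hAi * glOfInjective (t B) hBi from gl_ext fun x => by
      rw [transv_mulVec hd0, fVec_dot, hχ, hctr, mul_mulVec, glOfInjective_mulVec, glOfInjective_mulVec, ← htm, hAB, ht,
        Matrix.map_add ρ (map_add ρ), Matrix.map_one ρ (map_zero ρ) (map_one ρ), Matrix.add_mulVec, Matrix.one_mulVec,
        map_add, LinearEquiv.symm_apply_apply,
        show (vecMulVec vv φ).map ρ = vecMulVec (ρ ∘ vv) (ρ ∘ φ) from Matrix.ext fun i j => map_mul ρ _ _,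
        Matrix.vecMulVec_mulVec, op_smul_eq_smul, map_smul]]
    exact mul_mem hAM hBM

end CfsgLib.Classical22.FieldMax
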