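import Cfsg.Prelude.Def_GeometricClasses

set_option autoImplicit false

/-!
# Normalisers of composite-degree field subalgebras are not maximal
-/

namespace CfsgLib.Classical22.FieldNormalizer

open Matrix
open scoped MatrixGroups

variable {F : Type*} [Field F] {n : ℕ}

local notation "Mat" => Matrix (Fin n) (Fin n) F

/-- `1 + N` for `N² = 0`. -/
def uni (N : Mat) (h : N * N = 0) : GL (Fin n) F :=
  ⟨1 + N, 1 - N, by rw [mul_sub, mul_one, add_mul, one_mul, h]; abel, by rw [sub_mul, one_mul, mul_add, mul_one, h]; abel⟩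

theorem uni_mem_SL [Finite F] (N : Mat) (h : N * N = 0) : uni N h ∈ Cfsg.Geo.specialLinear (Fin n) F := by
  obtain ⟨p, hp⟩ := CharP.exists F
  haveI := hp
  haveI : Fact p.Prime := ⟨CharP.char_is_prime F p⟩
  have hpow : ∀ k : ℕ, (1 + N) ^ k = 1 + (k : F) • N := by
    intro k
    induction k with
    | zero => simp
    | succ k ih => rw [pow_succ, ih, add_mul, one_mul, mul_add, mul_one, smul_mul_assoc, h, smul_zero, Nat.cast_succ, add_smul, one_smul]; abel
  have hd : ((1 : Mat) + N).det ^ p = 1 := by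
    rw [← det_pow, hpow, CharP.cast_eq_zero, zero_smul, add_zero, det_one]
  rw [Cfsg.Geo.specialLinear, MonoidHom.mem_ker]
  refine Units.ext ?_
  change ((1 : Mat) + N).det = 1
  have h2 : ((1 : Mat) + N).det ^ p = 1 ^ p := by rw [hd, one_pow]
  exact frobenius_inj F p (by simpa [frobenius_def] using h2)

/-- A unipotent element of small rank does not normalise a field subalgebra of larger degree. -/
theorem uni_not_mem [Finite F] {K : Subalgebra F Mat} {r : ℕ} (hK : Cfsg.Geo.IsFieldSubalgebra r K) {N : Mat}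
    (h : N * N = 0) (hN : N ≠ 0) {m : ℕ} (hrank : Module.finrank F (LinearMap.range N.mulVecLin) ≤ m)
    (hm : 2 * m < n) (hmr : m < r) : uni N h ∉ Cfsg.Geo.subalgebraNormalizer K := by
  intro hmem
  have hcomm : ∀ k ∈ K, N * k - k * N - N * k * N = 0 := by
    intro k hk
    have h1 : (1 + N) * k * (1 - N) ∈ K := (hmem k).mp hk
    have hD : N * k - k * N - N * k * N ∈ K := by
      have e : N * k - k * N - N * k * N = (1 + N) * k * (1 - N) - k := by
        simp only [mul_sub, add_mul, one_mul, mul_one]; abel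
      rw [e]; exact K.sub_mem h1 hk
    by_contra hne
    obtain ⟨y, -, hy⟩ := hK.inv _ hD hne
    have hsurj : Function.Surjective (N * k - k * N - N * k * N).mulVecLin := fun w =>
      ⟨y *ᵥ w, by rw [mulVecLin_apply, mulVec_mulVec, hy, one_mulVec]⟩
    have hle : LinearMap.range (N * k - k * N - N * k * N).mulVecLin ≤
        LinearMap.range N.mulVecLin ⊔ (LinearMap.range N.mulVecLin).map k.mulVecLin := by
      rintro _ ⟨x, rfl⟩
      rw [mulVecLin_apply, sub_mulVec, sub_mulVec, ← mulVec_mulVec, ← mulVec_mulVec, mul_assoc, ← mulVec_mulVec]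
      refine Submodule.sub_mem _ (Submodule.sub_mem _ (Submodule.mem_sup_left ⟨_, rfl⟩)
        (Submodule.mem_sup_right ⟨_, ⟨_, rfl⟩, rfl⟩)) (Submodule.mem_sup_left ⟨_, rfl⟩)
    rw [LinearMap.range_eq_top.mpr hsurj] at hle
    have h2 := Submodule.finrank_mono hle
    rw [finrank_top, Module.finrank_fin_fun] at h2
    have h3 := Submodule.finrank_add_le_finrank_add_finrank (LinearMap.range N.mulVecLin) ((LinearMap.range N.mulVecLin).map k.mulVecLin)
    have h4 := Submodule.finrank_map_le k.mulVecLin (LinearMap.range N.mulVecLin)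
    omega
  obtain ⟨x, hx⟩ : ∃ x, N *ᵥ x ≠ 0 := by
    by_contra hcon
    simp only [not_exists, not_not] at hcon
    exact hN (Matrix.ext_iff_mulVec.mpr fun v => by rw [hcon, zero_mulVec])
  let f : K →ₗ[F] (Fin n → F) :=
    { toFun := fun k => (k : Mat) *ᵥ (N *ᵥ x)
      map_add' := fun a b => by rw [Subalgebra.coe_add, add_mulVec]
      map_smul' := fun c a => by rw [Subalgebra.coe_smul, smul_mulVec, RingHom.id_apply] }
  have hf : Function.Injective f := by
    rw [injective_iff_map_eq_zero]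
    intro k hk
    by_contra hk0
    obtain ⟨y, hy, hy1⟩ := hK.inv _ k.2 (fun h0 => hk0 (Subtype.ext h0))
    apply hx
    have h1 : y *ᵥ ((k : Mat) *ᵥ (N *ᵥ x)) = 0 := by rw [show (k : Mat) *ᵥ (N *ᵥ x) = 0 from hk, mulVec_zero]
    rwa [mulVec_mulVec, hK.comm y hy _ k.2, hy1, one_mulVec] at h1
  have hrange : LinearMap.range f ≤ LinearMap.range N.mulVecLin := by
    rintro _ ⟨k, rfl⟩
    refine ⟨(k : Mat) *ᵥ x - (k : Mat) *ᵥ (N *ᵥ x), ?_⟩
    change _ = (k : Mat) *ᵥ (N *ᵥ x)
    have h1 := congrArg (fun M : Mat => M *ᵥ x) (hcomm _ k.2)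
    simp only [sub_mulVec, zero_mulVec, ← mulVec_mulVec, mul_assoc] at h1
    rw [mulVecLin_apply, mulVec_sub]
    rw [sub_sub, sub_eq_zero] at h1
    rw [h1, add_sub_cancel_right]
  have h5 := Submodule.finrank_mono hrange
  rw [LinearMap.finrank_range_of_inj hf, hK.finrank_eq] at h5
  omega

/-- An intermediate field of `K`. -/
theorem exists_intermediate [Finite F] {K : Subalgebra F Mat} {r : ℕ} (hK : Cfsg.Geo.IsFieldSubalgebra r K)
    (hr1 : 1 < r) (hrp : ¬ r.Prime) :
    ∃ (L : Subalgebra F Mat) (s : ℕ), Cfsg.Geo.IsFieldSubalgebra s L ∧ 1 < s ∧ 2 * s ≤ r ∧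
      Cfsg.Geo.subalgebraNormalizer K ≤ Cfsg.Geo.subalgebraNormalizer L := by
  classical
  haveI : Nontrivial K := Module.nontrivial_of_finrank_pos (R := F) (by rw [hK.finrank_eq]; omega)
  letI : CommRing K := { (inferInstance : Ring K) with mul_comm := fun a b => Subtype.ext (hK.comm _ a.2 _ b.2) }
  have hfield : IsField K :=
    { exists_pair_ne := exists_pair_ne K
      mul_comm := mul_comm
      mul_inv_cancel := fun {a} ha => by
        obtain ⟨y, hy, h⟩ := hK.inv _ a.2 (fun h0 => ha (Subtype.ext h0))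
        exact ⟨⟨y, hy⟩, Subtype.ext h⟩ }
  letI : Field K := hfield.toField
  haveI : Finite K := Module.finite_of_finite F
  have hgal : Nat.card (K ≃ₐ[F] K) = r := (IsGalois.card_aut_eq_finrank F K).trans hK.finrank_eq
  obtain ⟨p, hp, hpr⟩ := Nat.exists_prime_and_dvd (by omega : r ≠ 1)
  haveI := Fact.mk hp
  obtain ⟨σ, hσ⟩ := exists_prime_orderOf_dvd_card' (G := K ≃ₐ[F] K) p (hgal.symm ▸ hpr)
  let E := IntermediateField.fixedField (Subgroup.zpowers σ)
  have hE : Module.finrank E K = p := by rw [IntermediateField.finrank_fixedField_eq_card, Nat.card_zpowers, hσ]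
  have hmul : Module.finrank F E * p = r := by rw [← hE, Module.finrank_mul_finrank, hK.finrank_eq]
  let L : Subalgebra F Mat := E.toSubalgebra.map K.val
  refine ⟨L, Module.finrank F E, ⟨?_, ?_, ?_⟩, ?_, ?_, ?_⟩
  · rintro _ ⟨x, -, rfl⟩ _ ⟨y, -, rfl⟩; exact hK.comm _ x.2 _ y.2
  · rintro _ ⟨x, hx, rfl⟩ hx0
    refine ⟨K.val x⁻¹, ⟨x⁻¹, E.inv_mem hx, rfl⟩, ?_⟩
    exact (map_mul K.val x x⁻¹).symm.trans ((congrArg K.val (mul_inv_cancel₀ (fun h => hx0 (by rw [h]; exact map_zero _)))).trans (map_one _))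
  · exact (Submodule.equivMapOfInjective K.val.toLinearMap Subtype.val_injective E.toSubalgebra.toSubmodule).finrank_eq.symm
  · by_contra h
    have hpos : 0 < Module.finrank F E := Module.finrank_pos
    have : Module.finrank F E = 1 := by omega
    rw [this, one_mul] at hmul
    exact hrp (hmul ▸ hp)
  · rw [← hmul]; nlinarith [hp.two_le]
  · have hhalf : ∀ g ∈ Cfsg.Geo.subalgebraNormalizer K, ∀ k ∈ L, (g : Mat) * k * ((g⁻¹ : GL (Fin n) F) : Mat) ∈ L := by
      rintro g hg _ ⟨x, hx, rfl⟩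
      have hginv : g⁻¹ ∈ Cfsg.Geo.subalgebraNormalizer K := inv_mem hg
      let τ : K ≃ₐ[F] K :=
        { toFun := fun k => ⟨(g : Mat) * k * ((g⁻¹ : GL (Fin n) F) : Mat), (hg k).mp k.2⟩
          invFun := fun k => ⟨((g⁻¹ : GL (Fin n) F) : Mat) * k * (g : Mat), by
            have := (hginv k).mp k.2; rwa [inv_inv] at this⟩
          left_inv := fun k => Subtype.ext (by simp [mul_assoc])
          right_inv := fun k => Subtype.ext (by simp [mul_assoc])
          map_mul' := fun a b => Subtype.ext (by simp [mul_assoc])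
          map_add' := fun a b => Subtype.ext (by simp [mul_add, add_mul])
          commutes' := fun c => Subtype.ext (by
            change (g : Mat) * algebraMap F Mat c * ((g⁻¹ : GL (Fin n) F) : Mat) = algebraMap F Mat c
            rw [← Algebra.commutes, mul_assoc, Units.mul_inv, mul_one]) }
      refine ⟨τ x, ?_, rfl⟩
      rintro ⟨ρ, hρ⟩
      letI : CommGroup (K ≃ₐ[F] K) := IsCyclic.commGroup
      change ρ (τ x) = τ x
      rw [← AlgEquiv.mul_apply, mul_comm ρ τ, AlgEquiv.mul_apply, show ρ x = x from hx ⟨ρ, hρ⟩]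
    intro g hg k
    refine ⟨hhalf g hg k, fun hk => ?_⟩
    have := hhalf g⁻¹ (inv_mem hg) _ hk
    rw [inv_inv] at this
    simpa [mul_assoc] using this

/-- An element of `SL` commuting with `L`, of rank at most `s`. -/
theorem exists_linear_nilpotent [Finite F] {L : Subalgebra F Mat} {s : ℕ} (hL : Cfsg.Geo.IsFieldSubalgebra s L)
    (hs : s < n) : ∃ N : Mat, N * N = 0 ∧ N ≠ 0 ∧ Module.finrank F (LinearMap.range N.mulVecLin) ≤ s ∧
      ∀ k ∈ L, N * k = k * N := by
  classical
  rcases subsingleton_or_nontrivial L with hsub | hnt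
  · exfalso
    have h1 : (⟨1, L.one_mem⟩ : L) = ⟨0, L.zero_mem⟩ := Subsingleton.elim _ _
    have h2 : (1 : Mat) ⟨0, by omega⟩ ⟨0, by omega⟩ = (0 : Mat) ⟨0, by omega⟩ ⟨0, by omega⟩ := by
      rw [show (1 : Mat) = 0 from congrArg Subtype.val h1]
    simp at h2
  letI : CommRing L := { (inferInstance : Ring L) with mul_comm := fun a b => Subtype.ext (hL.comm _ a.2 _ b.2) }
  have hfield : IsField L :=
    { exists_pair_ne := exists_pair_ne L
      mul_comm := mul_comm
      mul_inv_cancel := fun {a} ha => by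
        obtain ⟨y, hy, h⟩ := hL.inv _ a.2 (fun h0 => ha (Subtype.ext h0))
        exact ⟨⟨y, hy⟩, Subtype.ext h⟩ }
  letI : Field L := hfield.toField
  letI : Module L (Fin n → F) := Module.compHom _ (((Matrix.toLinAlgEquiv' : Mat ≃ₐ[F] _).toAlgHom.comp L.val).toRingHom)
  have hsmul : ∀ (a : L) (x : Fin n → F), a • x = (a : Mat) *ᵥ x := fun a x => rfl
  haveI : Nonempty (Fin n) := ⟨⟨0, by omega⟩⟩
  obtain ⟨v, hv⟩ := exists_ne (0 : Fin n → F)
  let j : L →ₗ[F] (Fin n → F) :=
    { toFun := fun a => a • v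
      map_add' := fun a b => add_smul a b v
      map_smul' := fun c a => by simp only [hsmul, Subalgebra.coe_smul, smul_mulVec, RingHom.id_apply] }
  have hj : Module.finrank F (LinearMap.range j) ≤ s := by
    have h := LinearMap.finrank_range_le j
    rwa [hL.finrank_eq] at h
  obtain ⟨u, hu⟩ : ∃ u, u ∉ Submodule.span L {v} := by
    by_contra hcon
    simp only [not_exists, not_not] at hcon
    have htop : LinearMap.range j = ⊤ := eq_top_iff.mpr fun x _ => by
      obtain ⟨a, ha⟩ := Submodule.mem_span_singleton.mp (hcon x)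
      exact ⟨a, ha⟩
    rw [htop, finrank_top, Module.finrank_fin_fun] at hj
    omega
  obtain ⟨ℓ, hℓu, hℓv⟩ := Submodule.exists_dual_map_eq_bot_of_notMem hu inferInstance
  have hℓv' : ℓ v = 0 := by
    have : ℓ v ∈ (Submodule.span L {v}).map ℓ := ⟨v, Submodule.mem_span_singleton_self v, rfl⟩
    rwa [hℓv, Submodule.mem_bot] at this
  let T : (Fin n → F) →ₗ[F] (Fin n → F) :=
    { toFun := fun x => ℓ x • v
      map_add' := fun a b => by
        rw [hsmul, hsmul, hsmul, map_add]
        exact add_mulVec (ℓ a : Mat) (ℓ b : Mat) v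
      map_smul' := fun c a => by
        have e : ∀ x : Fin n → F, c • x = (algebraMap F L c) • x := fun x => by
          rw [hsmul]; change c • x = (algebraMap F Mat c) *ᵥ x
          rw [Algebra.algebraMap_eq_smul_one, smul_mulVec, one_mulVec]
        rw [RingHom.id_apply, e, e, map_smul]
        change ((algebraMap F L c : Mat) * (ℓ a : Mat)) *ᵥ v = (algebraMap F L c : Mat) *ᵥ ((ℓ a : Mat) *ᵥ v)
        rw [mulVec_mulVec] }
  have hN : ∀ x, LinearMap.toMatrix' T *ᵥ x = ℓ x • v := fun x => LinearMap.toMatrix'_mulVec T x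
  refine ⟨LinearMap.toMatrix' T, Matrix.ext_iff_mulVec.mpr fun x => ?_, fun h0 => ?_, ?_, fun k hk => ?_⟩
  · rw [← mulVec_mulVec, hN, hN, map_smul, hℓv', smul_zero, zero_smul, zero_mulVec]
  · have h1 := hN u
    rw [h0, zero_mulVec] at h1
    exact hv ((smul_eq_zero.mp h1.symm).resolve_left hℓu)
  · refine le_trans (Submodule.finrank_mono ?_) hj
    rintro _ ⟨x, rfl⟩
    exact ⟨ℓ x, (hN x).symm⟩
  · refine Matrix.ext_iff_mulVec.mpr fun x => ?_
    rw [← mulVec_mulVec, ← mulVec_mulVec, hN, hN, ← hsmul ⟨k, hk⟩ x, map_smul, smul_eq_mul, mul_smul, hsmul]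

/-- Main result. -/
theorem not_maximal [Finite F] {r : ℕ} (hr1 : 1 < r) (hrp : ¬ r.Prime) (hrn : r ∣ n) (hlt : r < n)
    (K : Subalgebra F Mat) (hK : Cfsg.Geo.IsFieldSubalgebra r K) :
    ¬ IsCoatom (Cfsg.Geo.subalgebraNormalizer K) ∧
      ¬ Cfsg.Geo.IsMaximalIn (Cfsg.Geo.specialLinear (Fin n) F)
        (Cfsg.Geo.subalgebraNormalizer K ⊓ Cfsg.Geo.specialLinear (Fin n) F) := by
  have h2 : 2 * r ≤ n := by
    obtain ⟨c, rfl⟩ := hrn
    have : 2 ≤ c := by by_contra h; interval_cases c <;> omega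
    nlinarith
  obtain ⟨L, s, hL, hs1, hsr, hle⟩ := exists_intermediate hK hr1 hrp
  obtain ⟨N, hN2, hN0, hNr, hNc⟩ := exists_linear_nilpotent hL (show s < n by omega)
  have htK : uni N hN2 ∉ Cfsg.Geo.subalgebraNormalizer K := uni_not_mem hK hN2 hN0 hNr (by omega) (by omega)
  have htL : uni N hN2 ∈ Cfsg.Geo.subalgebraNormalizer L := by
    intro k
    have hinv : ((uni N hN2)⁻¹ : GL (Fin n) F).val = 1 - N := rfl
    rw [hinv, show (uni N hN2 : Mat) = 1 + N from rfl]
    constructor
    · intro hk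
      have e : (1 + N) * k = k * (1 + N) := by rw [add_mul, mul_add, one_mul, mul_one, hNc k hk]
      rw [e, mul_assoc, show (1 + N) * (1 - N) = 1 from (uni N hN2).val_inv, mul_one]
      exact hk
    · intro hk
      have e : (1 + N) * ((1 + N) * k * (1 - N)) = (1 + N) * k * (1 - N) * (1 + N) := by
        rw [add_mul, one_mul, mul_add _ 1 N, mul_one, hNc _ hk]
      rw [mul_assoc _ (1 - N), show (1 - N) * (1 + N) = 1 from (uni N hN2).inv_val, mul_one] at e
      have e2 := congrArg (fun M => (1 - N) * M) e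
      simp only [← mul_assoc, show (1 - N) * (1 + N) = 1 from (uni N hN2).inv_val, one_mul] at e2
      rwa [← e2]
  -- a transvection outside the normaliser of `L`
  let M : Mat := Matrix.single ⟨0, by omega⟩ ⟨1, by omega⟩ 1
  have hM2 : M * M = 0 := Matrix.single_mul_single_of_ne _ _ _ _ (by simp) _
  have hM0 : M ≠ 0 := fun h => one_ne_zero (α := F) (by simpa [M] using congrFun (congrFun h ⟨0, by omega⟩) ⟨1, by omega⟩)
  have hMr : Module.finrank F (LinearMap.range M.mulVecLin) ≤ 1 := by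
    have h : LinearMap.range M.mulVecLin ≤ Submodule.span F {Pi.single (⟨0, by omega⟩ : Fin n) (1 : F)} := by
      rintro _ ⟨x, rfl⟩
      refine Submodule.mem_span_singleton.mpr ⟨x ⟨1, by omega⟩, ?_⟩
      rw [mulVecLin_apply, Matrix.single_mulVec, one_mul]
      funext i
      simp [Pi.single_apply, Function.update_apply]
    refine (Submodule.finrank_mono h).trans ((finrank_span_singleton ?_).le)
    simp
  have htop : uni M hM2 ∉ Cfsg.Geo.subalgebraNormalizer L := uni_not_mem hL hM2 hM0 hMr (by omega) hs1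
  refine ⟨fun hco => ?_, fun hmax => ?_⟩
  · have h := hco.2 _ (lt_of_le_of_ne hle fun e => htK (e ▸ htL))
    exact htop (h ▸ Subgroup.mem_top _)
  · rcases hmax.2 (Cfsg.Geo.subalgebraNormalizer L ⊓ Cfsg.Geo.specialLinear (Fin n) F) (inf_le_inf hle le_rfl) inf_le_right with e | e
    · have h1 : uni N hN2 ∈ Cfsg.Geo.subalgebraNormalizer L ⊓ Cfsg.Geo.specialLinear (Fin n) F := ⟨htL, uni_mem_SL N hN2⟩
      rw [e] at h1
      exact htK h1.1
    · have h1 : uni M hM2 ∈ Cfsg.Geo.specialLinear (Fin n) F := uni_mem_SL M hM2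
      rw [← e] at h1
      exact htop h1.1

end CfsgLib.Classical22.FieldNormalizer
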