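/-
The normaliser of a field subalgebra of prime degree is maximal.
-/
import Cfsg.Agent.Lib.Classical22.FieldMaxFour
import Cfsg.Agent.Lib.Classical22.FieldNormalizer
import Mathlib.FieldTheory.Finite.GaloisField

set_option autoImplicit false

namespace CfsgLib.Classical22.FieldMax

open Matrix CfsgLib.Transvec
open scoped MatrixGroups

variable {F : Type*} [Field F] [Fintype F] {n : ℕ}

local notation "Mat" => Matrix (Fin n) (Fin n) F

theorem maximal_fieldNormalizer {r : ℕ} (hr : r.Prime) (hlt : r < n) (h4 : r = 2 → 4 ≤ n)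
    (K : Subalgebra F Mat) (hK : Cfsg.Geo.IsFieldSubalgebra r K) :
    IsCoatom (Cfsg.Geo.subalgebraNormalizer K) ∧
      Cfsg.Geo.IsMaximalIn (Cfsg.Geo.specialLinear (Fin n) F)
        (Cfsg.Geo.subalgebraNormalizer K ⊓ Cfsg.Geo.specialLinear (Fin n) F) := by
  classical
  haveI : Nontrivial K := Module.nontrivial_of_finrank_pos (R := F) (by rw [hK.finrank_eq]; exact hr.pos)
  letI : CommRing K := { (inferInstance : Ring K) with mul_comm := fun a b => Subtype.ext (hK.comm _ a.2 _ b.2) }
  have hfield : IsField K :=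
    { exists_pair_ne := exists_pair_ne K
      mul_comm := mul_comm
      mul_inv_cancel := fun {a} ha => by
        obtain ⟨y, hy, h⟩ := hK.inv _ a.2 (fun h0 => ha (Subtype.ext h0))
        exact ⟨⟨y, hy⟩, Subtype.ext h⟩ }
  letI : Field K := hfield.toField
  letI modK : Module K (Fin n → F) :=
    Module.compHom _ (((Matrix.toLinAlgEquiv' : Mat ≃ₐ[F] _).toAlgHom.comp K.val).toRingHom)
  letI : SMul K (Fin n → F) := modK.toDistribMulAction.toSMul
  have hsmul : ∀ (a : K) (x : Fin n → F), a • x = (a : Mat) *ᵥ x := fun a x => rfl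
  haveI : IsScalarTower F K (Fin n → F) := IsScalarTower.of_algebraMap_smul fun c x => by
    refine (hsmul _ x).trans ?_
    change (algebraMap F Mat c) *ᵥ x = c • x
    rw [Algebra.algebraMap_eq_smul_one, smul_mulVec, one_mulVec]
  haveI : Finite K := Module.finite_of_finite F
  haveI : FiniteDimensional F K := Module.Finite.of_finite
  have hspan : ∀ u : Fin n → F, Module.finrank F ↥((Submodule.span K {u}).restrictScalars F) ≤ r := fun u => by
    rcases eq_or_ne u 0 with rfl | hu
    · rw [Submodule.span_singleton_eq_bot.2 rfl, Submodule.restrictScalars_bot, finrank_bot]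
      exact Nat.zero_le r
    · exact (finrank_kLine hu).le.trans hK.finrank_eq.le
  have h2 : ∀ v : Fin n → F, ∃ w, w ∉ Submodule.span K {v} := by
    intro v
    by_contra hc
    push Not at hc
    have h := hspan v
    rw [show Submodule.span K {v} = ⊤ from eq_top_iff.2 fun x _ => hc x, Submodule.restrictScalars_top,
      finrank_top, Module.finrank_fin_fun] at h
    omega
  have h3 : r = 2 → 4 < n → ∀ u v : Fin n → F, ∃ w, w ∉ Submodule.span K {u} ⊔ Submodule.span K {v} := by
    intro hr2 h4n u v
    by_contra hc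
    push Not at hc
    have h1 := hspan u
    have h1' := hspan v
    have h := Submodule.finrank_add_le_finrank_add_finrank ((Submodule.span K {u}).restrictScalars F)
      ((Submodule.span K {v}).restrictScalars F)
    rw [show (Submodule.span K {u}).restrictScalars F ⊔ (Submodule.span K {v}).restrictScalars F = ⊤ by
        rw [← Submodule.restrictScalars_sup, eq_top_iff]; exact fun x _ => hc x,
      finrank_top, Module.finrank_fin_fun] at h
    omega
  -- semilinear elements
  have hsemi : ∀ g : GL (Fin n) F, Semi K g → g ∈ Cfsg.Geo.subalgebraNormalizer K := by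
    intro g hg
    choose σ hσ using hg
    have hmat : ∀ k : K, (g : Mat) * (k : Mat) * ((g⁻¹ : GL (Fin n) F) : Mat) = (σ k : Mat) := fun k =>
      Matrix.ext_iff_mulVec.mpr fun x => by
        rw [← mulVec_mulVec, ← mulVec_mulVec, ← hsmul k, hσ k, mulVec_inv_cancel, hsmul]
    intro k
    refine ⟨fun hk => ?_, fun hk => ?_⟩
    · have := hmat ⟨k, hk⟩
      simp only at this
      rw [this]
      exact SetLike.coe_mem _
    · have hinj : Function.Injective σ := fun a b hab => Subtype.ext (by
        have := (hmat a).trans ((congrArg Subtype.val hab).trans (hmat b).symm)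
        exact (Units.mul_right_inj g).1 ((Units.mul_left_inj g⁻¹).1 this))
      obtain ⟨l, hl⟩ := Finite.injective_iff_surjective.1 hinj ⟨_, hk⟩
      have := (hmat l).trans (congrArg Subtype.val hl)
      rw [← (Units.mul_right_inj g).1 ((Units.mul_left_inj g⁻¹).1 this)]
      exact l.2
  have hlinN : ∀ h : GL (Fin n) F,
      (∀ (k : K) (x : Fin n → F), (h : Mat) *ᵥ (k • x) = k • ((h : Mat) *ᵥ x)) →
        h ∈ Cfsg.Geo.subalgebraNormalizer K := fun h hl => hsemi h fun k => ⟨k, hl k⟩
  have main : ∀ M : Subgroup (GL (Fin n) F),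
      Cfsg.Geo.subalgebraNormalizer K ⊓ Cfsg.Geo.specialLinear (Fin n) F ≤ M →
        ¬ M ≤ Cfsg.Geo.subalgebraNormalizer K → Cfsg.Geo.specialLinear (Fin n) F ≤ M := by
    intro M hM hMN
    have hlin : LinearIn K M := fun h hl hs => hM ⟨hlinN h hl, hs⟩
    obtain ⟨g, hg, hgN⟩ := SetLike.not_le_iff_exists.1 hMN
    have hns : ¬ Semi K g := fun h => hgN (hsemi g h)
    by_cases hsmall : r = 2 ∧ n = 4 ∧ ∀ c : F, c = 0 ∨ c = 1
    · exact specialLinear_le_four hlin (hK.finrank_eq.trans hsmall.1) ((Fintype.card_fin n).trans hsmall.2.1) h2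
        hsmall.2.2 hg hns
    · refine specialLinear_le_of_not_semi hlin (hK.finrank_eq.symm ▸ hr) h2 (fun hr2 hq u v => ?_) hg hns
      have hr' : r = 2 := hK.finrank_eq.symm.trans hr2
      refine h3 hr' (lt_of_le_of_ne (h4 hr') fun h => hsmall ⟨hr', h.symm, hq⟩) u v
  -- a transvection outside the normaliser
  have hn2 : 2 < n := by have := hr.two_le; omega
  let T : Mat := Matrix.single ⟨0, by omega⟩ ⟨1, by omega⟩ 1
  have hT2 : T * T = 0 := Matrix.single_mul_single_of_ne _ _ _ _ (by simp) _
  have hT0 : T ≠ 0 := fun h => one_ne_zero (α := F) (by simpa [T] using congrFun (congrFun h ⟨0, by omega⟩) ⟨1, by omega⟩)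
  have hTr : Module.finrank F (LinearMap.range T.mulVecLin) ≤ 1 := by
    have h : LinearMap.range T.mulVecLin ≤ Submodule.span F {Pi.single (⟨0, by omega⟩ : Fin n) (1 : F)} := by
      rintro _ ⟨x, rfl⟩
      refine Submodule.mem_span_singleton.mpr ⟨x ⟨1, by omega⟩, ?_⟩
      rw [mulVecLin_apply, Matrix.single_mulVec, one_mul]
      funext i
      simp [Pi.single_apply, Function.update_apply]
    refine (Submodule.finrank_mono h).trans ((finrank_span_singleton ?_).le)
    simp
  have htop : FieldNormalizer.uni T hT2 ∉ Cfsg.Geo.subalgebraNormalizer K :=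
    FieldNormalizer.uni_not_mem hK hT2 hT0 hTr (by omega) hr.one_lt
  have hTSL := FieldNormalizer.uni_mem_SL T hT2
  refine ⟨⟨fun h => htop (h ▸ Subgroup.mem_top _), fun M hM => ?_⟩,
    lt_of_le_not_ge inf_le_right fun h => htop (h hTSL).1, fun M hM hMS => ?_⟩
  · have hSL := main M (inf_le_left.trans hM.le) hM.not_ge
    refine eq_top_iff.2 fun g _ => ?_
    obtain ⟨c, hc⟩ := FiniteField.norm_surjective F K (g : Mat).det
    have hd0 : (g : Mat).det ≠ 0 := ((Matrix.isUnit_iff_isUnit_det _).1 g.isUnit).ne_zero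
    obtain ⟨v, hv⟩ : ∃ v : Fin n → F, v ≠ 0 := ⟨Pi.single ⟨0, by omega⟩ 1, by simp⟩
    obtain ⟨ψ, -, hψ⟩ := exists_kfun (K := K) (E := (⊥ : Submodule K (Fin n → F))) (u := v) (by simpa using hv)
    have e : 1 + ψ ((c - 1) • v) = c := by rw [map_smul, hψ, smul_eq_mul, mul_one, add_sub_cancel]
    have hc0 : c ≠ 0 := fun h0 => hd0 (by rw [← hc, h0, Algebra.norm_zero])
    have hne : 1 + ψ ((c - 1) • v) ≠ 0 := by rw [e]; exact hc0
    have hh : kT (F := F) ψ ((c - 1) • v) ∈ Cfsg.Geo.subalgebraNormalizer K := hlinN _ fun k x => by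
      rw [kT_mulVec hne, kT_mulVec hne, map_smul, smul_eq_mul]
      exact (congrArg _ (mul_smul k (ψ x) _)).trans (smul_add k x _).symm
    have hdet : (kT (F := F) ψ ((c - 1) • v) : Mat).det = (g : Mat).det := by
      haveI := finiteK (ι := Fin n) (F := F) (K := K)
      have e' : Matrix.toLin' (kT (F := F) ψ ((c - 1) • v) : Mat) =
          (LinearMap.transvection ψ ((c - 1) • v)).restrictScalars F := LinearMap.ext fun x => by
        rw [Matrix.toLin'_apply, kT_mulVec hne, LinearMap.restrictScalars_apply, LinearMap.transvection.apply]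
      rw [← LinearMap.det_toLin', e', LinearMap.det_restrictScalars, LinearMap.transvection.det, e, hc]
    have hs : (kT (F := F) ψ ((c - 1) • v))⁻¹ * g ∈ Cfsg.Geo.specialLinear (Fin n) F := by
      rw [Cfsg.Geo.specialLinear, MonoidHom.mem_ker, map_mul, map_inv, inv_mul_eq_one]
      exact Units.ext hdet
    rw [← mul_inv_cancel_left (kT (F := F) ψ ((c - 1) • v)) g]
    exact mul_mem (hM.le hh) (hSL hs)
  · by_cases hMN : M ≤ Cfsg.Geo.subalgebraNormalizer K
    · exact Or.inl (le_antisymm (le_inf hMN hMS) hM)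
    · exact Or.inr (le_antisymm hMS (main M hM hMN))

end CfsgLib.Classical22.FieldMax
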