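import Mathlib.LinearAlgebra.Matrix.GeneralLinearGroup.Defs
import Mathlib.LinearAlgebra.Matrix.ToLin
import Mathlib.LinearAlgebra.FiniteDimensional.Basic
import Cfsg.Prelude.Def_GeometricClasses

/-!
An abelian normal subgroup of a primitive irreducible linear group acts without fixed vectors.
-/

namespace CfsgLib.Classical22.HomogeneousAbelian

open Matrix

variable {F : Type*} [Field F] {n : ℕ}

local notation "MGL" => Matrix.GeneralLinearGroup (Fin n) F
local notation "Mat" => Matrix (Fin n) (Fin n) F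

/-- The algebra spanned by a subgroup. -/
def alg (A : Subgroup MGL) : Subalgebra F Mat := Algebra.adjoin F (Cfsg.Geo.matrixSet A)

theorem coe_mem_alg {A : Subgroup MGL} {a : MGL} (ha : a ∈ A) : (a : Mat) ∈ alg A :=
  Algebra.subset_adjoin ⟨a, ha, rfl⟩

theorem commute_alg {A : Subgroup MGL} (hA : ∀ a ∈ A, ∀ b ∈ A, a * b = b * a) {r s : Mat}
    (hr : r ∈ alg A) (hs : s ∈ alg A) : Commute r s := by
  have h : ∀ a ∈ A, ∀ s ∈ alg A, Commute (a : Mat) s := by
    intro a ha s hs
    refine Algebra.commute_of_mem_adjoin_of_forall_mem_commute hs ?_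
    rintro _ ⟨b, hb, rfl⟩
    exact congrArg Units.val (hA a ha b hb)
  refine (Algebra.commute_of_mem_adjoin_of_forall_mem_commute hr ?_).symm
  rintro _ ⟨a, ha, rfl⟩
  exact (h a ha s hs).symm

/-- A minimal non-zero invariant subspace. -/
structure IsMin (A : Subgroup MGL) (W : Submodule F (Fin n → F)) : Prop where
  ne_bot : W ≠ ⊥
  inv : ∀ a ∈ A, ∀ w ∈ W, (a : Mat) *ᵥ w ∈ W
  min : ∀ U ≤ W, U ≠ ⊥ → (∀ a ∈ A, ∀ w ∈ U, (a : Mat) *ᵥ w ∈ U) → U = W

theorem exists_isMin (A : Subgroup MGL) (hn : n ≠ 0) :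
    ∃ W : Submodule F (Fin n → F), IsMin A W := by
  classical
  have hex : ∃ k, ∃ W : Submodule F (Fin n → F), Module.finrank F W = k ∧ W ≠ ⊥ ∧
      ∀ a ∈ A, ∀ w ∈ W, (a : Mat) *ᵥ w ∈ W := by
    refine ⟨_, ⊤, rfl, ?_, fun _ _ _ _ => Submodule.mem_top⟩
    haveI : NeZero n := ⟨hn⟩
    exact top_ne_bot
  obtain ⟨W, h1, h2, h3⟩ := Nat.find_spec hex
  refine ⟨W, h2, h3, fun U hU hU0 hUinv => ?_⟩
  refine Submodule.eq_of_le_of_finrank_le hU ?_
  rw [h1]
  exact Nat.find_min' hex ⟨U, rfl, hU0, hUinv⟩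

theorem alg_mulVec_mem {A : Subgroup MGL} {W : Submodule F (Fin n → F)}
    (hW : ∀ a ∈ A, ∀ w ∈ W, (a : Mat) *ᵥ w ∈ W) {r : Mat} (hr : r ∈ alg A) {w : Fin n → F}
    (hw : w ∈ W) : r *ᵥ w ∈ W := by
  revert w
  refine Algebra.adjoin_induction (p := fun r _ => ∀ {w}, w ∈ W → r *ᵥ w ∈ W) ?_ ?_ ?_ ?_ hr
  · rintro _ ⟨a, ha, rfl⟩ w hw
    exact hW a ha w hw
  · intro c w hw
    rw [Algebra.algebraMap_eq_smul_one, Matrix.smul_mulVec, Matrix.one_mulVec]
    exact W.smul_mem c hw
  · intro x y _ _ hx hy w hw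
    rw [Matrix.add_mulVec]
    exact W.add_mem (hx hw) (hy hw)
  · intro x y _ _ hx hy w hw
    rw [← Matrix.mulVec_mulVec]
    exact hx (hy hw)

/-- `r` kills `W`. -/
def Ann (W : Submodule F (Fin n → F)) (r : Mat) : Prop := ∀ w ∈ W, r *ᵥ w = 0

theorem eq_zero_of_not_ann {A : Subgroup MGL} (hA : ∀ a ∈ A, ∀ b ∈ A, a * b = b * a)
    {W : Submodule F (Fin n → F)} (hW : IsMin A W) {r : Mat} (hr : r ∈ alg A) (h : ¬ Ann W r)
    {w : Fin n → F} (hw : w ∈ W) (h0 : r *ᵥ w = 0) : w = 0 := by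
  by_contra hne
  let U : Submodule F (Fin n → F) := W ⊓ LinearMap.ker (Matrix.toLin' r)
  have hUmem : w ∈ U := ⟨hw, by simp [h0]⟩
  have hU := hW.min U inf_le_left (fun hbot => hne (by rw [hbot] at hUmem; exact hUmem)) ?_
  · refine h fun x hx => ?_
    rw [← hU] at hx
    simpa using hx.2
  · rintro a ha x ⟨hx1, hx2⟩
    refine ⟨hW.inv a ha x hx1, ?_⟩
    have hx2' : r *ᵥ x = 0 := by simpa using hx2
    have hc := commute_alg hA hr (coe_mem_alg ha)
    show (a : Mat) *ᵥ x ∈ LinearMap.ker (Matrix.toLin' r)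
    rw [LinearMap.mem_ker, Matrix.toLin'_apply, Matrix.mulVec_mulVec, hc.eq,
      ← Matrix.mulVec_mulVec, hx2', Matrix.mulVec_zero]

theorem exists_inverse [Finite F] {A : Subgroup MGL} (hA : ∀ a ∈ A, ∀ b ∈ A, a * b = b * a)
    {W : Submodule F (Fin n → F)} (hW : IsMin A W) {r : Mat} (hr : r ∈ alg A) (h : ¬ Ann W r) :
    ∃ s ∈ alg A, Ann W (s * r - 1) := by
  haveI : Finite Mat := Module.finite_of_finite F
  obtain ⟨i, j, hij, heq⟩ : ∃ i j, i < j ∧ r ^ i = r ^ j := by
    obtain ⟨i, j, hne, he⟩ := Finite.exists_ne_map_eq_of_infinite (fun k : ℕ => r ^ k)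
    rcases hne.lt_or_gt with h' | h'
    · exact ⟨i, j, h', he⟩
    · exact ⟨j, i, h', he.symm⟩
  obtain ⟨d, rfl⟩ : ∃ d, j = i + (d + 1) := ⟨j - i - 1, by omega⟩
  refine ⟨r ^ d, Subalgebra.pow_mem _ hr d, fun w hw => ?_⟩
  have hkill : ∀ k, ∀ x ∈ W, r ^ k *ᵥ x = 0 → x = 0 := by
    intro k
    induction k with
    | zero => intro x _ hx; simpa using hx
    | succ k ih =>
      intro x hx hx0
      rw [pow_succ, ← Matrix.mulVec_mulVec] at hx0
      exact eq_zero_of_not_ann hA hW hr h hx (ih _ (alg_mulVec_mem hW.inv hr hx) hx0)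
  refine hkill i _ (alg_mulVec_mem hW.inv
    (Subalgebra.sub_mem _ (Subalgebra.mul_mem _ (Subalgebra.pow_mem _ hr d) hr) (one_mem _)) hw) ?_
  rw [Matrix.mulVec_mulVec, mul_sub, mul_one, ← pow_succ, ← pow_add, ← heq, sub_self,
    Matrix.zero_mulVec]

/-- The isotypic component of a minimal invariant subspace. -/
def comp (A : Subgroup MGL) (W : Submodule F (Fin n → F)) : Submodule F (Fin n → F) where
  carrier := {v | ∀ r ∈ alg A, Ann W r → r *ᵥ v = 0}
  zero_mem' := fun r _ _ => Matrix.mulVec_zero r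
  add_mem' := fun {x y} hx hy r hr h => by
    rw [Matrix.mulVec_add, hx r hr h, hy r hr h, add_zero]
  smul_mem' := fun c x hx r hr h => by rw [Matrix.mulVec_smul, hx r hr h, smul_zero]

theorem le_comp (A : Subgroup MGL) (W : Submodule F (Fin n → F)) : W ≤ comp A W :=
  fun w hw _ _ h => h w hw

theorem conj_mem_alg {A : Subgroup MGL} {g : MGL} (hg : ∀ a ∈ A, g * a * g⁻¹ ∈ A) {r : Mat}
    (hr : r ∈ alg A) : (g : Mat) * r * (g⁻¹ : MGL).val ∈ alg A := by
  refine Algebra.adjoin_induction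
    (p := fun r _ => (g : Mat) * r * (g⁻¹ : MGL).val ∈ alg A) ?_ ?_ ?_ ?_ hr
  · rintro _ ⟨a, ha, rfl⟩
    rw [← Units.val_mul, ← Units.val_mul]
    exact coe_mem_alg (hg a ha)
  · intro c
    rw [(Algebra.commutes c (g : Mat)).symm, mul_assoc, ← Units.val_mul, mul_inv_cancel,
      Units.val_one, mul_one]
    exact Subalgebra.algebraMap_mem _ c
  · intro x y _ _ hx hy
    rw [mul_add, add_mul]
    exact Subalgebra.add_mem _ hx hy
  · intro x y _ _ hx hy
    have := Subalgebra.mul_mem _ hx hy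
    rwa [show (g : Mat) * x * (g⁻¹ : MGL).val * ((g : Mat) * y * (g⁻¹ : MGL).val) =
        (g : Mat) * (x * y) * (g⁻¹ : MGL).val by
      simp only [mul_assoc]; rw [← mul_assoc (g⁻¹ : MGL).val (g : Mat), Units.inv_mul, one_mul]] at this

/-- The image of a subspace. -/
abbrev img (g : MGL) (W : Submodule F (Fin n → F)) : Submodule F (Fin n → F) :=
  W.map (Matrix.toLin' (g : Mat))

theorem mem_img {g : MGL} {W : Submodule F (Fin n → F)} {v : Fin n → F} :
    v ∈ img g W ↔ (g⁻¹ : MGL).val *ᵥ v ∈ W := by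
  constructor
  · rintro ⟨w, hw, rfl⟩
    rw [Matrix.toLin'_apply, Matrix.mulVec_mulVec, Units.inv_mul, Matrix.one_mulVec]
    exact hw
  · intro h
    refine ⟨_, h, ?_⟩
    rw [Matrix.toLin'_apply, Matrix.mulVec_mulVec, Units.mul_inv, Matrix.one_mulVec]

theorem img_one (W : Submodule F (Fin n → F)) : img (1 : MGL) W = W := by
  simp [img]

theorem img_img (g h : MGL) (W : Submodule F (Fin n → F)) : img g (img h W) = img (g * h) W := by
  rw [img, img, img, Units.val_mul, Matrix.toLin'_mul, Submodule.map_comp]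

theorem finrank_img (g : MGL) (W : Submodule F (Fin n → F)) :
    Module.finrank F (img g W) = Module.finrank F W := by
  refine (LinearEquiv.finrank_eq (Submodule.equivMapOfInjective _ ?_ W)).symm
  intro x y h
  have := congrArg (fun v => (g⁻¹ : MGL).val *ᵥ v) h
  simpa [Matrix.toLin'_apply, Matrix.mulVec_mulVec] using this

theorem isMin_img {A : Subgroup MGL} {g : MGL} (hg : ∀ a ∈ A, g⁻¹ * a * g ∈ A)
    (hg' : ∀ a ∈ A, g * a * g⁻¹ ∈ A)
    {W : Submodule F (Fin n → F)} (hW : IsMin A W) : IsMin A (img g W) := by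
  refine ⟨?_, ?_, ?_⟩
  · intro h
    apply hW.ne_bot
    have := congrArg (img g⁻¹) h
    rw [img_img, inv_mul_cancel, img_one] at this
    rw [this]
    exact Submodule.map_bot _
  · intro a ha v hv
    rw [mem_img] at hv ⊢
    have := hW.inv _ (hg a ha) _ hv
    rwa [Matrix.mulVec_mulVec, ← Units.val_mul, mul_inv_cancel_right, Units.val_mul,
      ← Matrix.mulVec_mulVec] at this
  · intro U hU hU0 hUinv
    have h1 : img g⁻¹ U ≤ W := by
      intro v hv
      rw [mem_img, inv_inv] at hv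
      have := hU hv
      rwa [mem_img, Matrix.mulVec_mulVec, Units.inv_mul, Matrix.one_mulVec] at this
    have h2 : img g⁻¹ U ≠ ⊥ := by
      intro h
      apply hU0
      have := congrArg (img g) h
      rw [img_img, mul_inv_cancel, img_one] at this
      rw [this]
      exact Submodule.map_bot _
    have := hW.min _ h1 h2 fun a ha v hv => by
      rw [mem_img, inv_inv] at hv ⊢
      have := hUinv _ (hg' a ha) _ hv
      rwa [Matrix.mulVec_mulVec, ← Units.val_mul, inv_mul_cancel_right, Units.val_mul,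
        ← Matrix.mulVec_mulVec] at this
    rw [← this, img_img, mul_inv_cancel, img_one]

theorem img_comp_le {A : Subgroup MGL} {g : MGL} (hg : ∀ a ∈ A, g⁻¹ * a * g ∈ A)
    (W : Submodule F (Fin n → F)) : img g (comp A W) ≤ comp A (img g W) := by
  rintro _ ⟨v, hv, rfl⟩ r hr hann
  have hr' : (g⁻¹ : MGL).val * r * (g : Mat) ∈ alg A := by
    have := conj_mem_alg (g := g⁻¹) (fun a ha => by rw [inv_inv]; exact hg a ha) hr
    rwa [inv_inv] at this
  have h0 : ((g⁻¹ : MGL).val * r * (g : Mat)) *ᵥ v = 0 := by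
    refine hv _ hr' fun w hw => ?_
    rw [← Matrix.mulVec_mulVec, ← Matrix.mulVec_mulVec,
      hann ((g : Mat) *ᵥ w) ⟨w, hw, by simp⟩, Matrix.mulVec_zero]
  rw [Matrix.toLin'_apply]
  have := congrArg (fun x => (g : Mat) *ᵥ x) h0
  simpa [Matrix.mulVec_mulVec, ← mul_assoc] using this

theorem img_comp {A : Subgroup MGL} {g : MGL} (hg : ∀ a ∈ A, g⁻¹ * a * g ∈ A)
    (hg' : ∀ a ∈ A, g * a * g⁻¹ ∈ A)
    (W : Submodule F (Fin n → F)) : img g (comp A W) = comp A (img g W) := by
  refine le_antisymm (img_comp_le hg W) ?_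
  have h := img_comp_le (g := g⁻¹) (A := A) (fun a ha => by rw [inv_inv]; exact hg' a ha) (img g W)
  rw [img_img, inv_mul_cancel, img_one] at h
  have h2 : img g (img g⁻¹ (comp A (img g W))) ≤ img g (comp A W) := Submodule.map_mono h
  rwa [img_img, mul_inv_cancel, img_one] at h2

theorem eq_zero_of_mem_comp [Finite F] {A : Subgroup MGL}
    (hA : ∀ a ∈ A, ∀ b ∈ A, a * b = b * a) {W : Submodule F (Fin n → F)} (hW : IsMin A W)
    {r : Mat} (hr : r ∈ alg A) (h : ¬ Ann W r) {v : Fin n → F} (hv : v ∈ comp A W)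
    (h0 : r *ᵥ v = 0) : v = 0 := by
  obtain ⟨s, hs, hsr⟩ := exists_inverse hA hW hr h
  have := hv _ (Subalgebra.sub_mem _ (Subalgebra.mul_mem _ hs hr) (one_mem _)) hsr
  rwa [Matrix.sub_mulVec, ← Matrix.mulVec_mulVec, h0, Matrix.mulVec_zero, Matrix.one_mulVec,
    zero_sub, neg_eq_zero] at this

theorem exists_ann_not_ann [Finite F] {A : Subgroup MGL}
    (hA : ∀ a ∈ A, ∀ b ∈ A, a * b = b * a) {W W' : Submodule F (Fin n → F)} (hW' : IsMin A W')
    (hW : IsMin A W) (hne : comp A W' ≠ comp A W) :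
    ∃ r ∈ alg A, Ann W' r ∧ ¬ Ann W r := by
  by_contra h
  push_neg at h
  refine hne (SetLike.ext fun v => ⟨fun hv r hr hrW => ?_, fun hv r hr hr' => hv r hr (h r hr hr')⟩)
  by_cases hr' : Ann W' r
  · exact hv r hr hr'
  · exfalso
    obtain ⟨s, hs, hsr⟩ := exists_inverse hA hW' hr hr'
    have h2 := h _ (Subalgebra.sub_mem _ (Subalgebra.mul_mem _ hs hr) (one_mem _)) hsr
    apply hW.ne_bot
    rw [Submodule.eq_bot_iff]
    intro w hw
    have := h2 w hw
    rwa [Matrix.sub_mulVec, ← Matrix.mulVec_mulVec, hrW w hw, Matrix.mulVec_zero, Matrix.one_mulVec,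
      zero_sub, neg_eq_zero] at this

theorem fixedPointFree [Fintype F] (G A : Subgroup MGL)
    (hirr : Cfsg.Geo.ActsIrreducibly (Cfsg.Geo.matrixSet G))
    (hprim : ∀ (m t : ℕ) (D : Fin t → Submodule F (Fin n → F)), 2 ≤ t →
      Cfsg.Geo.IsMDecomposition m D → ¬ G ≤ Cfsg.Geo.decompositionStabilizer D)
    (hA : ∀ a ∈ A, ∀ b ∈ A, a * b = b * a) (hnorm : ∀ g ∈ G, ∀ a ∈ A, g * a * g⁻¹ ∈ A)
    {a : MGL} (ha : a ∈ A) (ha1 : a ≠ 1) {v : Fin n → F} (hv : (a : Mat) *ᵥ v = v) : v = 0 := by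
  classical
  rcases eq_or_ne n 0 with rfl | hn
  · exact funext fun i => i.elim0
  obtain ⟨W, hW⟩ := exists_isMin A hn
  have hnorm' : ∀ g ∈ G, ∀ a ∈ A, g⁻¹ * a * g ∈ A := fun g hg a ha => by
    have := hnorm g⁻¹ (G.inv_mem hg) a ha
    rwa [inv_inv] at this
  let S : Set (Submodule F (Fin n → F)) := {U | ∃ g ∈ G, U = comp A (img g W)}
  haveI : Finite (Submodule F (Fin n → F)) := Finite.of_injective
    (fun U => (U : Set (Fin n → F))) SetLike.coe_injective
  haveI : Fintype S := Fintype.ofFinite _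
  let D : Fin (Fintype.card S) → Submodule F (Fin n → F) := fun i =>
    ((Fintype.equivFin S).symm i).1
  have hDinj : Function.Injective D := fun i j h =>
    (Fintype.equivFin S).symm.injective (Subtype.ext h)
  have hDmem : ∀ i, ∃ g ∈ G, D i = comp A (img g W) := fun i =>
    ((Fintype.equivFin S).symm i).2
  have hDsurj : ∀ g ∈ G, ∃ i, D i = comp A (img g W) := fun g hg =>
    ⟨Fintype.equivFin S ⟨_, g, hg, rfl⟩, by simp [D]⟩
  have hmin : ∀ g ∈ G, IsMin A (img g W) := fun g hg => isMin_img (hnorm' g hg) (hnorm g hg) hW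
  have hstab : G ≤ Cfsg.Geo.decompositionStabilizer D := by
    intro g hg
    have hmap : ∀ i, ∃ j, img g (D i) = D j := fun i => by
      obtain ⟨h, hh, he⟩ := hDmem i
      obtain ⟨j, hj⟩ := hDsurj (g * h) (G.mul_mem hg hh)
      exact ⟨j, by rw [hj, he, img_comp (hnorm' g hg) (hnorm g hg), img_img]⟩
    choose σ hσ using hmap
    have hinj : Function.Injective σ := by
      intro i j hij
      apply hDinj
      have := congrArg (img g⁻¹) ((hσ i).trans ((congrArg D hij).trans (hσ j).symm))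
      rwa [img_img, img_img, inv_mul_cancel, img_one, img_one] at this
    exact ⟨Equiv.ofBijective σ (Finite.injective_iff_bijective.mp hinj), hσ⟩
  -- the components are independent
  have hind : iSupIndep D := by
    intro i
    rw [Submodule.disjoint_def]
    intro x hx hx'
    obtain ⟨g, hg, he⟩ := hDmem i
    have hex : ∀ T : Finset (Fin (Fintype.card S)), i ∉ T → ∃ P ∈ alg A,
        ¬ Ann (img g W) P ∧ ∀ j ∈ T, ∀ y ∈ D j, P *ᵥ y = 0 := by
      intro T
      induction T using Finset.induction_on with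
      | empty =>
        refine fun _ => ⟨1, one_mem _, fun h => (hmin g hg).ne_bot ?_, by simp⟩
        rw [Submodule.eq_bot_iff]
        intro w hw
        simpa using h w hw
      | insert j T hj ih =>
        intro hi
        rw [Finset.mem_insert, not_or] at hi
        obtain ⟨P, hP, hPn, hPk⟩ := ih hi.2
        obtain ⟨h, hh, hej⟩ := hDmem j
        obtain ⟨r, hr, hr1, hr2⟩ := exists_ann_not_ann hA (hmin h hh) (hmin g hg)
          (fun hh' => hi.1 (hDinj (he.trans (hh'.symm.trans hej.symm))))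
        refine ⟨r * P, Subalgebra.mul_mem _ hr hP, fun hann => ?_, ?_⟩
        · apply (hmin g hg).ne_bot
          rw [Submodule.eq_bot_iff]
          intro w hw
          have h1 := hann w hw
          rw [← Matrix.mulVec_mulVec] at h1
          exact eq_zero_of_not_ann hA (hmin g hg) hP hPn hw
            (eq_zero_of_not_ann hA (hmin g hg) hr hr2
              (alg_mulVec_mem (hmin g hg).inv hP hw) h1)
        · intro k hk y hy
          rcases Finset.mem_insert.mp hk with rfl | hk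
          · rw [(commute_alg hA hr hP).eq, ← Matrix.mulVec_mulVec, hej.le hy r hr hr1,
              Matrix.mulVec_zero]
          · rw [← Matrix.mulVec_mulVec, hPk k hk y hy, Matrix.mulVec_zero]
    obtain ⟨P, hP, hPn, hPk⟩ := hex (Finset.univ.erase i) (by simp)
    have hker : ⨆ (j : Fin (Fintype.card S)) (_ : j ≠ i), D j ≤
        LinearMap.ker (Matrix.toLin' P) := iSup₂_le fun j hj y hy => by
      rw [LinearMap.mem_ker, Matrix.toLin'_apply]
      exact hPk j (Finset.mem_erase.mpr ⟨hj, Finset.mem_univ _⟩) y hy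
    have h0 : P *ᵥ x = 0 := by simpa using hker hx'
    exact eq_zero_of_mem_comp hA (hmin g hg) hP hPn (he ▸ hx) h0
  have hsup : iSup D = ⊤ := by
    refine (hirr (iSup D) ?_).resolve_left ?_
    · rintro _ ⟨g, hg, rfl⟩
      rw [Submodule.map_iSup]
      obtain ⟨σ, hσ⟩ := hstab hg
      exact iSup_le fun i => (hσ i).le.trans (le_iSup D (σ i))
    · intro h
      obtain ⟨i, hi⟩ := hDsurj 1 G.one_mem
      apply hW.ne_bot
      rw [eq_bot_iff, ← h]
      exact ((le_comp A W).trans (by rw [hi, img_one])).trans (le_iSup D i)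
  have hdim : ∀ i, Module.finrank F (D i) = Module.finrank F (comp A W) := by
    intro i
    obtain ⟨g, hg, he⟩ := hDmem i
    rw [he, ← img_comp (hnorm' g hg) (hnorm g hg), finrank_img]
  have hle : Fintype.card S ≤ 1 := by
    by_contra h
    refine hprim _ _ D (by omega) ⟨by omega, ?_, hdim, hind, hsup⟩ hstab
    refine Nat.pos_of_ne_zero fun h0 => hW.ne_bot ?_
    rw [eq_bot_iff, ← Submodule.finrank_eq_zero.mp h0]
    exact le_comp A W
  obtain ⟨i, hi⟩ := hDsurj 1 G.one_mem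
  have htop : comp A W = ⊤ := by
    rw [eq_top_iff, ← hsup]
    refine iSup_le fun j => ?_
    rw [Fin.ext (show j.1 = i.1 by omega), hi, img_one]
  have hr : (a : Mat) - 1 ∈ alg A := Subalgebra.sub_mem _ (coe_mem_alg ha) (one_mem _)
  by_cases hann : Ann W ((a : Mat) - 1)
  · exfalso
    apply ha1
    have hall : ∀ x, ((a : Mat) - 1) *ᵥ x = 0 := fun x =>
      (htop ▸ Submodule.mem_top : x ∈ comp A W) _ hr hann
    apply Units.ext
    rw [Units.val_one, ← sub_eq_zero]
    exact Matrix.mulVec_injective (funext fun x => by rw [hall, Matrix.zero_mulVec])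
  · refine eq_zero_of_mem_comp hA hW hr hann (htop ▸ Submodule.mem_top) ?_
    rw [Matrix.sub_mulVec, hv, Matrix.one_mulVec, sub_self]

end CfsgLib.Classical22.HomogeneousAbelian
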