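/-
Two-parts: non-squares of given exponent and roots of minus one in finite fields.
-/
import Mathlib

set_option autoImplicit false

namespace CfsgLib.Classical22.InvolArith

variable {F : Type*} [Field F] [Fintype F] {q : ℕ}

theorem two_part {m : ℕ} (hm : m ≠ 0) : ∃ u, Odd u ∧ m = 2 ^ padicValNat 2 m * u := by
  obtain ⟨a, u, hu, rfl⟩ := Nat.exists_eq_two_pow_mul_odd hm
  refine ⟨u, hu, ?_⟩
  rw [padicValNat.mul (by positivity) (by rcases hu with ⟨k, rfl⟩; omega), padicValNat.prime_pow,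
    padicValNat.eq_zero_of_not_dvd (fun h => (Nat.not_even_iff_odd.2 hu) (even_iff_two_dvd.2 h)), add_zero]

theorem two_ne_zero_of_odd (hq : Fintype.card F = q) (hodd : Odd q) : (2 : F) ≠ 0 :=
  Ring.two_ne_zero fun h => by
    have := FiniteField.even_card_of_char_two h
    rw [hq] at this
    obtain ⟨k, rfl⟩ := hodd
    omega

/-- Setup: a generator and its half power. -/
theorem gen_data (hq : Fintype.card F = q) (hodd : Odd q) :
    ∃ (g : Fˣ) (a u : ℕ), orderOf g = q - 1 ∧ a = padicValNat 2 (q - 1) ∧ Odd u ∧ 1 ≤ a ∧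
      q - 1 = 2 ^ a * u ∧ q / 2 = 2 ^ (a - 1) * u ∧ ((g : F) ^ (q / 2) = -1) := by
  classical
  obtain ⟨g, hg⟩ := IsCyclic.exists_ofOrder_eq_natCard (α := Fˣ)
  rw [Nat.card_units, Nat.card_eq_fintype_card, hq] at hg
  have hq1 : 2 < q := by
    have : 1 < q := hq ▸ Fintype.one_lt_card
    obtain ⟨k, rfl⟩ := hodd
    omega
  obtain ⟨u, hu, he⟩ := two_part (m := q - 1) (by omega)
  obtain ⟨a, ha⟩ : ∃ a, a = padicValNat 2 (q - 1) := ⟨_, rfl⟩
  rw [← ha] at he
  have ha1 : 1 ≤ a := by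
    rcases Nat.eq_zero_or_pos a with h | h
    · rw [h, pow_zero, one_mul] at he
      obtain ⟨k, rfl⟩ := hodd; obtain ⟨l, hl⟩ := hu
      omega
    · exact h
  have hhalf : q / 2 = 2 ^ (a - 1) * u := by
    have : 2 ^ a * u = 2 * (2 ^ (a - 1) * u) := by
      rw [← mul_assoc, ← pow_succ', show a - 1 + 1 = a by omega]
    obtain ⟨k, rfl⟩ := hodd
    omega
  refine ⟨g, a, u, hg, ha, hu, ha1, he, hhalf, ?_⟩
  have h2 : ((g : F) ^ (q / 2)) * ((g : F) ^ (q / 2)) = 1 := by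
    rw [← pow_add, show q / 2 + q / 2 = q - 1 by obtain ⟨k, rfl⟩ := hodd; omega, ← Units.val_pow_eq_pow_val, ← hg,
      pow_orderOf_eq_one, Units.val_one]
  refine (mul_self_eq_one_iff.1 h2).resolve_left fun h => ?_
  have h' : g ^ (q / 2) = 1 := Units.ext (by simpa using h)
  have := Nat.le_of_dvd (by omega) (orderOf_dvd_of_pow_eq_one h')
  omega

theorem nonsquare_root_iff (hq : Fintype.card F = q) (hodd : Odd q) {m : ℕ} (hm : m ≠ 0) :
    (∃ w : F, (∀ s : F, s ^ 2 ≠ w) ∧ w ^ m = 1) ↔ padicValNat 2 (q - 1) ≤ padicValNat 2 m := by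
  obtain ⟨g, a, u, hg, ha, hu, ha1, he, hhalf, hgh⟩ := gen_data hq hodd
  have h2 := two_ne_zero_of_odd hq hodd
  have hne : (-1 : F) ≠ 1 := fun h => h2 (by linear_combination -h)
  have hchar : ringChar F ≠ 2 := fun h => h2 (by
    haveI : CharP F 2 := h ▸ ringChar.charP F
    exact CharTwo.two_eq_zero)
  obtain ⟨v, hv, hmv⟩ := two_part hm
  obtain ⟨b, hb⟩ : ∃ b, b = padicValNat 2 m := ⟨_, rfl⟩
  rw [← hb] at hmv
  rw [← ha, ← hb]
  clear hb
  constructor
  · rintro ⟨w, hw, hwm⟩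
    by_contra hlt
    push Not at hlt
    have hw0 : w ≠ 0 := fun h => hw 0 (by rw [h]; ring)
    have h1 : w ^ (q / 2) = -1 := by
      rw [← hq]
      refine ((FiniteField.pow_dichotomy hchar hw0).resolve_left fun h => ?_)
      obtain ⟨s, hs⟩ := (FiniteField.isSquare_iff hchar hw0).2 h
      exact hw s (by rw [sq, hs])
    have h3 : (w ^ (q / 2)) ^ v = 1 := by
      rw [← pow_mul, hhalf, show 2 ^ (a - 1) * u * v = m * (2 ^ (a - 1 - b) * u) from ?_, pow_mul, hwm,
        one_pow]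
      rw [hmv, show 2 ^ (a - 1) = 2 ^ b * 2 ^ (a - 1 - b) by rw [← pow_add]; congr 1; omega]
      ring
    rw [h1, hv.neg_one_pow] at h3
    exact hne h3
  · intro hle
    refine ⟨(g : F) ^ u, fun s hs => hne ?_, ?_⟩
    · have hs0 : s ≠ 0 := fun h => pow_ne_zero u g.ne_zero (by rw [← hs, h]; ring)
      calc (-1 : F) = (-1) ^ u := hu.neg_one_pow.symm
        _ = ((g : F) ^ u) ^ (q / 2) := by rw [← hgh, ← pow_mul, ← pow_mul, mul_comm]
        _ = s ^ (Fintype.card F - 1) := by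
          rw [← hs, ← pow_mul, hq]; congr 1; obtain ⟨k, rfl⟩ := hodd; omega
        _ = 1 := FiniteField.pow_card_sub_one_eq_one s hs0
    · rw [← pow_mul, ← Units.val_pow_eq_pow_val, orderOf_dvd_iff_pow_eq_one.1 (show orderOf g ∣ u * m from ?_),
        Units.val_one]
      rw [hg, he, mul_comm]
      refine mul_dvd_mul_left _ ?_
      rw [hmv]
      exact dvd_mul_of_dvd_left (pow_dvd_pow 2 hle) _

theorem neg_one_root_iff (hq : Fintype.card F = q) (hodd : Odd q) {m : ℕ} (hm : m ≠ 0) :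
    (∃ s : F, s ^ m = -1) ↔ padicValNat 2 m < padicValNat 2 (q - 1) := by
  obtain ⟨g, a, u, hg, ha, hu, ha1, he, hhalf, hgh⟩ := gen_data hq hodd
  have h2 := two_ne_zero_of_odd hq hodd
  obtain ⟨v, hv, hmv⟩ := two_part hm
  obtain ⟨b, hb⟩ : ∃ b, b = padicValNat 2 m := ⟨_, rfl⟩
  rw [← hb] at hmv
  rw [← ha, ← hb]
  clear hb
  constructor
  · rintro ⟨s, hs⟩
    by_contra hle
    push Not at hle
    have hs0 : s ≠ 0 := fun h => by rw [h, zero_pow hm] at hs; exact one_ne_zero (α := F) (by linear_combination hs)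
    have h1 : (s ^ m) ^ u = 1 := by
      obtain ⟨k, hk⟩ : q - 1 ∣ m * u := by
        rw [he, hmv]
        exact mul_dvd_mul_right (dvd_mul_of_dvd_left (pow_dvd_pow 2 hle) _) _
      rw [← pow_mul, hk, pow_mul, ← hq, FiniteField.pow_card_sub_one_eq_one s hs0, one_pow]
    rw [hs, hu.neg_one_pow] at h1
    exact h2 (by linear_combination -h1)
  · intro hlt
    refine ⟨(g : F) ^ (2 ^ (a - 1 - b) * u), ?_⟩
    rw [← pow_mul]
    rw [hmv, show 2 ^ (a - 1 - b) * u * (2 ^ b * v) = (q / 2) * v from ?_, pow_mul, hgh,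
      hv.neg_one_pow]
    rw [hhalf, show 2 ^ (a - 1) = 2 ^ (a - 1 - b) * 2 ^ b by rw [← pow_add]; congr 1; omega]
    ring

end CfsgLib.Classical22.InvolArith
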