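/-
Fixed-point-free pairings of the coordinates commuting with monomial involutions, and the attached alternating forms.
-/
import Cfsg.Agent.Lib.Classical22.InvolClasses
import Cfsg.Agent.Lib.Classical22.InvolArith
import Cfsg.Agent.Lib.Classical.AltBasis
import Cfsg.Prelude.Def_GeometricClasses

set_option autoImplicit false

namespace CfsgLib.Classical22.InvolPairing

open Matrix CfsgLib.Classical22.Monomial CfsgLib.Classical22.InvolClasses

section Comb

variable {α : Type*} [Fintype α] [DecidableEq α]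

/-- A fixed-point-free involution with a side marking. -/
def Paired (π : Equiv.Perm α) (ε : α → Bool) : Prop := (∀ x, π (π x) = x) ∧ ∀ x, ε (π x) = !ε x

theorem Paired.ne {π : Equiv.Perm α} {ε : α → Bool} (h : Paired π ε) (x : α) : π x ≠ x := fun e => by
  have := h.2 x
  rw [e] at this
  simp at this

theorem Paired.symm_eq {π : Equiv.Perm α} {ε : α → Bool} (h : Paired π ε) : π.symm = π :=
  Equiv.ext fun x => (Equiv.symm_apply_eq π).2 (h.1 x).symm

theorem exists_paired (h : Even (Fintype.card α)) : ∃ π : Equiv.Perm α, ∃ ε, Paired π ε := by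
  obtain ⟨k, hk⟩ := h
  let e : α ≃ Fin k ⊕ Fin k := (Fintype.equivFinOfCardEq hk).trans finSumFinEquiv.symm
  refine ⟨e.symm.permCongr (Equiv.sumComm _ _), fun x => (e x).isLeft, fun x => ?_, fun x => ?_⟩
  · simp [Equiv.permCongr_apply]
  · rcases he : e x with a | a <;> simp [Equiv.permCongr_apply, he]

theorem exists_keep (p : α → Prop) [DecidablePred p] {π₁ : Equiv.Perm {x // p x}} {ε₁ : {x // p x} → Bool}
    (h₁ : Paired π₁ ε₁) {π₂ : Equiv.Perm {x // ¬p x}} {ε₂ : {x // ¬p x} → Bool} (h₂ : Paired π₂ ε₂) :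
    ∃ π : Equiv.Perm α, ∃ ε, Paired π ε ∧ (∀ x, p (π x) ↔ p x) ∧ (∀ x (h : p x), π x = π₁ ⟨x, h⟩) := by
  refine ⟨Equiv.Perm.subtypeCongr π₁ π₂, fun x => if h : p x then ε₁ ⟨x, h⟩ else ε₂ ⟨x, h⟩, ⟨fun x => ?_, fun x => ?_⟩,
    fun x => ?_, fun x h => ?_⟩
  · by_cases h : p x
    · rw [Equiv.Perm.subtypeCongr.left_apply _ _ h, Equiv.Perm.subtypeCongr.left_apply_subtype, h₁.1]
    · rw [Equiv.Perm.subtypeCongr.right_apply _ _ h, Equiv.Perm.subtypeCongr.right_apply_subtype, h₂.1]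
  · by_cases h : p x
    · rw [Equiv.Perm.subtypeCongr.left_apply _ _ h]
      simp [h, (π₁ ⟨x, h⟩).2, h₁.2 ⟨x, h⟩]
    · rw [Equiv.Perm.subtypeCongr.right_apply _ _ h]
      simp [h, (π₂ ⟨x, h⟩).2, h₂.2 ⟨x, h⟩]
  · by_cases h : p x
    · rw [Equiv.Perm.subtypeCongr.left_apply _ _ h]; exact iff_of_true (π₁ ⟨x, h⟩).2 h
    · rw [Equiv.Perm.subtypeCongr.right_apply _ _ h]; exact iff_of_false (π₂ ⟨x, h⟩).2 h
  · exact Equiv.Perm.subtypeCongr.left_apply _ _ h

theorem exists_label_keep (p : α → Prop) [DecidablePred p] (h₁ : Even (Fintype.card {x // p x}))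
    (h₂ : Even (Fintype.card {x // ¬p x})) : ∃ π : Equiv.Perm α, ∃ ε, Paired π ε ∧ ∀ x, p (π x) ↔ p x := by
  obtain ⟨π₁, ε₁, H₁⟩ := exists_paired h₁
  obtain ⟨π₂, ε₂, H₂⟩ := exists_paired h₂
  obtain ⟨π, ε, H, hp, -⟩ := exists_keep p H₁ H₂
  exact ⟨π, ε, H, hp⟩

theorem exists_label_swap (p : α → Prop) [DecidablePred p]
    (h : Fintype.card {x // p x} = Fintype.card {x // ¬p x}) :
    ∃ π : Equiv.Perm α, ∃ ε, Paired π ε ∧ ∀ x, p (π x) ↔ ¬p x := by
  let e := Fintype.equivOfCardEq h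
  let s := (Equiv.sumCompl p)
  obtain ⟨π, hπ⟩ : ∃ π : Equiv.Perm α, π = s.permCongr ((Equiv.sumComm _ _).trans (e.symm.sumCongr e)) := ⟨_, rfl⟩
  have key : ∀ x, (∀ hx : p x, π x = e ⟨x, hx⟩) ∧ ∀ hx : ¬p x, π x = e.symm ⟨x, hx⟩ := fun x =>
    ⟨fun hx => by simp [hπ, s, Equiv.permCongr_apply, Equiv.sumCompl_symm_apply_of_pos hx],
      fun hx => by simp [hπ, s, Equiv.permCongr_apply, Equiv.sumCompl_symm_apply_of_neg hx]⟩
  refine ⟨π, fun x => decide (p x), ⟨fun x => ?_, fun x => ?_⟩, fun x => ?_⟩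
  · by_cases hx : p x
    · rw [(key x).1 hx, (key _).2 (e ⟨x, hx⟩).2]; simp
    · rw [(key x).2 hx, (key _).1 (e.symm ⟨x, hx⟩).2]; simp
  · by_cases hx : p x
    · simp [(key x).1 hx, hx, (e ⟨x, hx⟩).2]
    · simp [(key x).2 hx, hx, (e.symm ⟨x, hx⟩).2]
  · by_cases hx : p x
    · simp [(key x).1 hx, hx, (e ⟨x, hx⟩).2]
    · simp [(key x).2 hx, hx, (e.symm ⟨x, hx⟩).2]

theorem exists_commuting {n : ℕ} (hn : Even n) (σ : Equiv.Perm (Fin n)) (hσ : ∀ x, σ (σ x) = x) :
    ∃ π : Equiv.Perm (Fin n), ∃ ε, Paired π ε ∧ ∀ x, π (σ x) = σ (π x) := by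
  classical
  have hp : ∀ x, σ x ≠ x ↔ σ (σ x) ≠ σ x := fun x => by rw [hσ]; exact ne_comm
  let π₁ : Equiv.Perm {x // σ x ≠ x} :=
    { toFun := fun x => ⟨σ x, (hp x).1 x.2⟩
      invFun := fun x => ⟨σ x, (hp x).1 x.2⟩
      left_inv := fun x => Subtype.ext (hσ x)
      right_inv := fun x => Subtype.ext (hσ x) }
  have H₁ : Paired π₁ (fun x => decide (x.1 < σ x.1)) := by
    refine ⟨fun x => Subtype.ext (hσ x), fun x => ?_⟩
    show decide (σ x.1 < σ (σ x.1)) = !decide (x.1 < σ x.1)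
    rw [hσ]
    rcases lt_trichotomy x.1 (σ x.1) with h | h | h
    · simp [h, h.le]
    · exact absurd h.symm x.2
    · simp [h, h.le]
  have hev : Even (Fintype.card {x // σ x ≠ x}) := by
    have h2 : (Equiv.Perm.support π₁) = Finset.univ := Finset.eq_univ_of_forall fun x =>
      Equiv.Perm.mem_support.2 (H₁.ne x)
    haveI : Fact (Nat.Prime 2) := ⟨Nat.prime_two⟩
    have h := Equiv.Perm.card_compl_support_modEq (p := 2) (n := 1) (σ := π₁)
      (by rw [pow_one, sq]; exact Equiv.ext H₁.1)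
    rw [h2, Finset.compl_univ, Finset.card_empty] at h
    exact Nat.even_iff.2 h.symm
  obtain ⟨π₂, ε₂, H₂⟩ := exists_paired (α := {x // ¬σ x ≠ x}) (by
    have := Fintype.card_subtype_compl (fun x => σ x ≠ x)
    rw [this, Fintype.card_fin]
    exact (Nat.even_sub (by simpa using Fintype.card_subtype_le (fun x => σ x ≠ x))).2 (iff_of_true hn hev))
  obtain ⟨π, ε, H, hkeep, h1⟩ := exists_keep _ H₁ H₂
  refine ⟨π, ε, H, fun x => ?_⟩
  by_cases hx : σ x ≠ x
  · rw [h1 x hx, h1 (σ x) ((hp x).1 hx)]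
    rfl
  · have hπx : ¬σ (π x) ≠ π x := fun h => hx ((hkeep x).1 h)
    push Not at hx hπx
    rw [hx, hπx]

end Comb

section Forms

variable {F : Type*} [Field F] {n : ℕ}

/-- The sign attached to a side. -/
def sgn (F : Type*) [Field F] (b : Bool) : F := if b then 1 else -1

theorem sgn_not (b : Bool) : sgn F (!b) = - sgn F b := by cases b <;> simp [sgn]

theorem sgn_ne (b : Bool) : sgn F b ≠ 0 := by cases b <;> simp [sgn]

/-- The alternating form of a pairing. -/
def pairForm (π : Equiv.Perm (Fin n)) (ε : Fin n → Bool) (u v : Fin n → F) : F :=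
  ∑ i, sgn F (ε i) * u i * v (π i)

theorem pairForm_swap {π : Equiv.Perm (Fin n)} {ε : Fin n → Bool} (h : Paired π ε) (v w : Fin n → F) :
    pairForm π ε v w = - pairForm π ε w v := by
  rw [pairForm, pairForm, ← Equiv.sum_comp π, ← Finset.sum_neg_distrib]
  exact Finset.sum_congr rfl fun i _ => by rw [h.1, h.2, sgn_not]; ring

theorem pairForm_self {π : Equiv.Perm (Fin n)} {ε : Fin n → Bool} (h : Paired π ε) (v : Fin n → F) :
    pairForm π ε v v = 0 :=
  Finset.sum_ninvolution (g := π) (fun i => by rw [h.1, h.2, sgn_not]; ring) (fun i _ => h.ne i)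
    (fun i => Finset.mem_univ _) h.1

theorem pairForm_symplectic {π : Equiv.Perm (Fin n)} {ε : Fin n → Bool} (h : Paired π ε) :
    Cfsg.Geo.IsSymplecticForm (pairForm π ε : (Fin n → F) → (Fin n → F) → F) := by
  refine ⟨⟨?_, ?_, ?_, ?_⟩, pairForm_swap h, pairForm_self h, ?_⟩
  · intro x y v
    simp only [pairForm, Pi.add_apply, mul_add, add_mul, Finset.sum_add_distrib]
  · intro c x v
    simp only [pairForm, Pi.smul_apply, smul_eq_mul, Finset.mul_sum]
    exact Finset.sum_congr rfl fun i _ => by ring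
  · intro v x y
    simp only [pairForm, Pi.add_apply, mul_add, Finset.sum_add_distrib]
  · intro c v x
    simp only [pairForm, Pi.smul_apply, smul_eq_mul, Finset.mul_sum]
    exact Finset.sum_congr rfl fun i _ => by ring
  · intro v hv
    obtain ⟨i, hi⟩ := Function.ne_iff.1 hv
    have h1 : pairForm π ε v (Pi.single (π i) 1) ≠ 0 := by
      rw [pairForm, Finset.sum_eq_single i]
      · rw [Pi.single_eq_same, mul_one]; exact mul_ne_zero (sgn_ne _) hi
      · intro j _ hj; rw [Pi.single_eq_of_ne (π.injective.ne hj), mul_zero]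
      · simp
    exact ⟨⟨Pi.single (π i) 1, fun h0 => h1 (by rw [pairForm_swap h, h0, neg_zero])⟩, ⟨_, h1⟩⟩

theorem mono_similar (π : Equiv.Perm (Fin n)) (ε : Fin n → Bool) (σ : Equiv.Perm (Fin n)) (c : Fin n → Fˣ) {μ : F}
    (hcomm : ∀ j, π (σ j) = σ (π j)) (h : ∀ j, sgn F (ε (σ j)) * (c j * c (π j)) = μ * sgn F (ε j))
    (u v : Fin n → F) :
    pairForm π ε ((mono σ c : Matrix (Fin n) (Fin n) F) *ᵥ u) ((mono σ c : Matrix (Fin n) (Fin n) F) *ᵥ v) =
      μ * pairForm π ε u v := by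
  rw [pairForm, pairForm, ← Equiv.sum_comp σ, Finset.mul_sum]
  refine Finset.sum_congr rfl fun j _ => ?_
  rw [hcomm, mono_mulVec, mono_mulVec]
  linear_combination (u j * v (π j)) * h j

theorem form_equiv {f f' : (Fin n → F) → (Fin n → F) → F} (hf : Cfsg.Geo.IsSymplecticForm f)
    (hf' : Cfsg.Geo.IsSymplecticForm f') :
    ∃ Q : GL (Fin n) F, ∀ u v, f ((Q : Matrix (Fin n) (Fin n) F) *ᵥ u) ((Q : Matrix (Fin n) (Fin n) F) *ᵥ v) = f' u v := by
  have key : ∀ g : (Fin n → F) → (Fin n → F) → F, Cfsg.Geo.IsSymplecticForm g →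
      ∃ m, n = 2 * m ∧ ∃ e : (Fin m ⊕ Fin m → F) ≃ₗ[F] (Fin n → F), ∀ u v, g (e u) (e v) = Cfsg.sympForm m F u v := by
    intro g hg
    obtain ⟨m, hm, e, he⟩ := CfsgLib.Classical.exists_symp_equiv
      (LinearMap.mk₂ F g hg.bilinear.add_left hg.bilinear.smul_left hg.bilinear.add_right hg.bilinear.smul_right)
      hg.alternating (fun v hv => by_contra fun h => by
        obtain ⟨x, hx⟩ := (hg.nondegenerate v h).2
        exact hx (hv x))
    exact ⟨m, by simpa using hm, e, he⟩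
  obtain ⟨m, hm, e, he⟩ := key f hf
  obtain ⟨m', hm', e', he'⟩ := key f' hf'
  obtain rfl : m = m' := by omega
  obtain ⟨T, hT⟩ : ∃ T : (Fin n → F) ≃ₗ[F] (Fin n → F), T = e'.symm.trans e := ⟨_, rfl⟩
  refine ⟨Matrix.GeneralLinearGroup.toLin.symm (LinearMap.GeneralLinearGroup.ofLinearEquiv T), fun u v => ?_⟩
  have hmat : ∀ w, ((Matrix.GeneralLinearGroup.toLin.symm (LinearMap.GeneralLinearGroup.ofLinearEquiv T) :
      GL (Fin n) F) : Matrix (Fin n) (Fin n) F) *ᵥ w = T w := fun w => by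
    rw [← Matrix.toLin'_apply]
    show Matrix.toLin' (LinearMap.toMatrix' (T : (Fin n → F) →ₗ[F] (Fin n → F))) w = T w
    rw [Matrix.toLin'_toMatrix']
    rfl
  rw [hmat, hmat, hT, LinearEquiv.trans_apply, LinearEquiv.trans_apply, he, ← he', LinearEquiv.apply_symm_apply,
    LinearEquiv.apply_symm_apply]

theorem mono_one_sign (c : Fin n → Fˣ) : (mono 1 c : Matrix (Fin n) (Fin n) F).det = ∏ i, (c i : F) := det_diag c

/-- For a diagonal involution of determinant one: pairs inside the eigenspaces, or across them. -/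
theorem diag_pairing [Fintype F] {q : ℕ} (hq : Fintype.card F = q) (hodd : Odd q) (he : Even n) (hn : 0 < n)
    (hcond : n = 2 ∨ padicValNat 2 (q - 1) ≤ padicValNat 2 n) {s : Fˣ} (c : Fin n → Fˣ)
    (hc : ∀ i, c i = s ∨ c i = -s) (hdet : (mono 1 c : Matrix (Fin n) (Fin n) F).det = 1) :
    ∃ π : Equiv.Perm (Fin n), ∃ ε, Paired π ε ∧ ((∀ i, c (π i) = c i) ∨ ∀ i, c (π i) = - c i) := by
  classical
  have hne : -s ≠ s := fun h => InvolArith.two_ne_zero_of_odd hq hodd (by
    have h1 : -(s : F) = s := by rw [← Units.val_neg, h]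
    have : (2 : F) * s = 0 := by linear_combination -h1
    exact (mul_eq_zero.1 this).resolve_right s.ne_zero)
  have hadd := Fintype.card_subtype_compl (fun i => c i = s)
  have hle : Fintype.card {i // c i = s} ≤ n := by simpa using Fintype.card_subtype_le (fun i => c i = s)
  rw [Fintype.card_fin] at hadd
  obtain ⟨B, hB⟩ : ∃ B, Fintype.card {i // ¬c i = s} = B := ⟨_, rfl⟩
  obtain ⟨A, hA⟩ : ∃ A, Fintype.card {i // c i = s} = A := ⟨_, rfl⟩
  rw [hB, hA] at hadd
  rw [hA] at hle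
  by_cases hab : A = B
  · obtain ⟨π, ε, H, hπ⟩ := exists_label_swap (fun i => c i = s) (by rw [hA, hB, hab])
    refine ⟨π, ε, H, Or.inr fun i => ?_⟩
    by_cases hi : c i = s
    · rw [hi, (hc _).resolve_left fun h => (hπ i).1 h hi]
    · rw [(hπ i).2 hi, (hc i).resolve_left hi, neg_neg]
  · have hBe : Even B := by
      by_contra hBo
      rw [Nat.not_even_iff_odd] at hBo
      have hprod : (∏ i, (c i : F)) = (s : F) ^ n * (-1) ^ B := by
        have hterm : ∀ i, (c i : F) = (s : F) * if c i = s then 1 else -1 := fun i => by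
          by_cases hi : c i = s
          · simp [hi]
          · rw [if_neg hi, (hc i).resolve_left hi, Units.val_neg, mul_neg_one]
        rw [Finset.prod_congr rfl fun i _ => hterm i, Finset.prod_mul_distrib, Finset.prod_const, Finset.card_univ,
          Fintype.card_fin, Finset.prod_ite, Finset.prod_const_one, one_mul, Finset.prod_const, ← hB,
          Fintype.card_subtype]
      rw [mono_one_sign, hprod, hBo.neg_one_pow] at hdet
      rcases hcond with h2 | hv
      · have hA1 : A + B = 2 := by omega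
        obtain ⟨j, hj⟩ := hBo
        omega
      · have := (InvolArith.neg_one_root_iff hq hodd (m := n) (by omega)).1 ⟨s, by linear_combination -hdet⟩
        omega
    have hAe : Even A := by
      rw [show A = n - B by omega]
      exact (Nat.even_sub (by omega)).2 (iff_of_true he hBe)
    obtain ⟨π, ε, H, hπ⟩ := exists_label_keep (fun i => c i = s) (hA.symm ▸ hAe) (hB.symm ▸ hBe)
    refine ⟨π, ε, H, Or.inl fun i => ?_⟩
    by_cases hi : c i = s
    · rw [hi, (hπ i).2 hi]
    · rw [(hc i).resolve_left hi, (hc _).resolve_left fun h => hi ((hπ i).1 h)]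

/-- The reflection times a root of minus one. -/
theorem exists_bad [Fintype F] {q : ℕ} (hq : Fintype.card F = q) (hodd : Odd q) (hn : 2 ≤ n)
    (hv : padicValNat 2 n < padicValNat 2 (q - 1)) :
    ∃ (s : Fˣ) (x : SpecialLinearGroup (Fin n) F),
      (x : Matrix (Fin n) (Fin n) F) =
        (s : F) • (1 + vecMulVec (Pi.single ⟨0, by omega⟩ (-2)) (Pi.single ⟨0, by omega⟩ 1)) ∧
      (x : Matrix (Fin n) (Fin n) F) = diagonal (fun i => if i = ⟨0, by omega⟩ then -(s : F) else s) := by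
  obtain ⟨s₀, hs⟩ := (InvolArith.neg_one_root_iff hq hodd (m := n) (by omega)).2 hv
  have hs0 : s₀ ≠ 0 := fun h => by
    rw [h, zero_pow (by omega)] at hs
    exact one_ne_zero (α := F) (by linear_combination hs)
  obtain ⟨i₀, hi₀⟩ : ∃ i : Fin n, i = ⟨0, by omega⟩ := ⟨_, rfl⟩
  have hd : (diagonal fun i => if i = i₀ then -s₀ else s₀).det = 1 := by
    rw [det_diagonal, ← Finset.mul_prod_erase _ _ (Finset.mem_univ i₀), if_pos rfl,
      Finset.prod_congr rfl (fun i hi => if_neg (Finset.ne_of_mem_erase hi)), Finset.prod_const,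
      Finset.card_erase_of_mem (Finset.mem_univ _), Finset.card_univ, Fintype.card_fin, neg_mul, ← pow_succ',
      show n - 1 + 1 = n by omega, hs, neg_neg]
  refine ⟨Units.mk0 s₀ hs0, ⟨_, hd⟩, ?_, ?_⟩
  · rw [← hi₀]
    ext i j
    show diagonal (fun i => if i = i₀ then -s₀ else s₀) i j = _
    rw [Matrix.smul_apply, Matrix.add_apply, vecMulVec_apply, Units.val_mk0, smul_eq_mul]
    by_cases hij : i = j
    · subst hij
      by_cases hi : i = i₀
      · subst hi; simp; ring
      · simp [hi]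
    · by_cases hi : i = i₀
      · subst hi; simp [hij, Ne.symm hij]
      · simp [hi, hij]
  · rw [← hi₀]; rfl

end Forms

end CfsgLib.Classical22.InvolPairing
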