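/-
Involutions of `PSL_n` and normalisers of quadratic extension fields.
-/
import Cfsg.Agent.Lib.Classical22.InvolPairing

set_option autoImplicit false

namespace CfsgLib.Classical22.InvolField

open Matrix CfsgLib.Classical22.Monomial CfsgLib.Classical22.InvolClasses CfsgLib.Classical22.InvolPairing

variable {F : Type*} [Field F] {n : ℕ} {K : Subalgebra F (Matrix (Fin n) (Fin n) F)}

theorem scalar_mem (a : F) : a • (1 : Matrix (Fin n) (Fin n) F) ∈ K := K.smul_mem K.one_mem a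

theorem eq_scalar_of_eigen (hK : Cfsg.Geo.IsFieldSubalgebra 2 K) {k : Matrix (Fin n) (Fin n) F} (hk : k ∈ K)
    {v : Fin n → F} (hv : v ≠ 0) {a : F} (h : k *ᵥ v = a • v) : k = a • 1 := by
  by_contra hne
  obtain ⟨y, hy, hxy⟩ := hK.inv (k - a • 1) (K.sub_mem hk (scalar_mem a)) (sub_ne_zero.2 hne)
  apply hv
  rw [hK.comm _ (K.sub_mem hk (scalar_mem a)) _ hy] at hxy
  have := congrArg (· *ᵥ v) hxy
  simp only [← mulVec_mulVec, sub_mulVec, h, smul_mulVec, one_mulVec, sub_self, mulVec_zero] at this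
  exact this.symm

theorem exists_gen (hK : Cfsg.Geo.IsFieldSubalgebra 2 K) (hn : 0 < n) :
    ∃ k ∈ K, (∀ a : F, k ≠ a • 1) ∧ ∀ y ∈ K, ∃ a b : F, y = a • 1 + b • k := by
  haveI : Nonempty (Fin n) := ⟨⟨0, hn⟩⟩
  haveI : Nontrivial K := ⟨⟨1, 0, fun h => one_ne_zero (α := Matrix (Fin n) (Fin n) F) (congrArg Subtype.val h)⟩⟩
  obtain ⟨k, hk⟩ : ∃ k : K, ∀ a : F, (k : Matrix (Fin n) (Fin n) F) ≠ a • 1 := by
    by_contra! h
    have h1 : Module.finrank F K ≤ 1 := finrank_le_one (⟨1, K.one_mem⟩ : K) fun w => by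
      obtain ⟨a, ha⟩ := h w
      exact ⟨a, Subtype.ext (by simp [ha])⟩
    rw [hK.finrank_eq] at h1
    omega
  refine ⟨k, k.2, hk, fun y hy => ?_⟩
  have hli : LinearIndependent F ![(1 : K), k] := by
    rw [LinearIndependent.pair_iff]
    intro a b hab
    have h' := congrArg Subtype.val hab
    simp at h'
    by_cases hb : b = 0
    · subst hb
      simp at h'
      exact ⟨h', rfl⟩
    · refine absurd ?_ (hk (-(b⁻¹ * a)))
      have h2 := congrArg (b⁻¹ • ·) h'
      simp only [smul_add, smul_smul, inv_mul_cancel₀ hb, one_smul, smul_zero] at h2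
      rw [neg_smul]
      exact eq_neg_of_add_eq_zero_right h2
  have hspan := hli.span_eq_top_of_card_eq_finrank (by rw [hK.finrank_eq]; rfl)
  have hy' : (⟨y, hy⟩ : K) ∈ Submodule.span F ({1, k} : Set K) := by
    rw [show ({1, k} : Set K) = Set.range ![(1 : K), k] by simp [Set.pair_comm], hspan]
    trivial
  obtain ⟨a, b, hab⟩ := Submodule.mem_span_pair.1 hy'
  exact ⟨a, b, by simpa using (congrArg Subtype.val hab).symm⟩

theorem mem_normalizer {g : GL (Fin n) F} {z : F} (hg : (g : Matrix (Fin n) (Fin n) F) * g = z • 1)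
    (hz : z ≠ 0) {ω : Matrix (Fin n) (Fin n) F} (hspan : ∀ y ∈ K, ∃ a b : F, y = a • 1 + b • ω)
    (hω : (g : Matrix (Fin n) (Fin n) F) * ω * ((g⁻¹ : GL (Fin n) F) : Matrix (Fin n) (Fin n) F) ∈ K) :
    g ∈ Cfsg.Geo.subalgebraNormalizer K := by
  have hinv : ((g⁻¹ : GL (Fin n) F) : Matrix (Fin n) (Fin n) F) = z⁻¹ • (g : Matrix (Fin n) (Fin n) F) := by
    have h1 : (g : Matrix (Fin n) (Fin n) F) * (z⁻¹ • (g : Matrix (Fin n) (Fin n) F)) = 1 := by
      rw [mul_smul_comm, hg, smul_smul, inv_mul_cancel₀ hz, one_smul]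
    calc ((g⁻¹ : GL (Fin n) F) : Matrix (Fin n) (Fin n) F)
        = ((g⁻¹ : GL (Fin n) F) : Matrix (Fin n) (Fin n) F) *
          ((g : Matrix (Fin n) (Fin n) F) * (z⁻¹ • (g : Matrix (Fin n) (Fin n) F))) := by rw [h1, mul_one]
      _ = z⁻¹ • (g : Matrix (Fin n) (Fin n) F) := by rw [← mul_assoc, Units.inv_mul, one_mul]
  have hmap : ∀ k ∈ K, (g : Matrix (Fin n) (Fin n) F) * k * ((g⁻¹ : GL (Fin n) F) : Matrix (Fin n) (Fin n) F) ∈ K := by
    intro k hk
    obtain ⟨a, b, rfl⟩ := hspan k hk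
    rw [mul_add, add_mul, mul_smul_comm, mul_one, smul_mul_assoc, Units.mul_inv, mul_smul_comm, smul_mul_assoc]
    exact K.add_mem (scalar_mem a) (K.smul_mem hω b)
  refine fun k => ⟨hmap k, fun hk => ?_⟩
  have h := hmap _ hk
  rw [hinv] at h
  simp only [mul_smul_comm, smul_smul, ← mul_assoc, smul_mul_assoc, hg, one_mul] at h
  rw [mul_assoc _ (g : Matrix (Fin n) (Fin n) F) (g : Matrix (Fin n) (Fin n) F), hg, mul_smul_comm, mul_one,
    smul_smul] at h
  rwa [show z⁻¹ * z⁻¹ * z * z = 1 by field_simp, one_smul] at h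

theorem no_norm (hK : Cfsg.Geo.IsFieldSubalgebra 2 K) (hn : 3 ≤ n) {g : GL (Fin n) F} {a : F} (ha : a ≠ 0)
    {v φ : Fin n → F} (hv : v ≠ 0) (hφ : φ ≠ 0)
    (hg : (g : Matrix (Fin n) (Fin n) F) = a • (1 + vecMulVec v φ)) :
    g ∉ Cfsg.Geo.subalgebraNormalizer K := by
  intro hgN
  obtain ⟨ω, hω, hωs, -⟩ := exists_gen hK (by omega)
  obtain ⟨k, hkd⟩ : ∃ k, k = (g : Matrix (Fin n) (Fin n) F) * ω * ((g⁻¹ : GL (Fin n) F) : Matrix (Fin n) (Fin n) F) :=
    ⟨_, rfl⟩
  have hk : k ∈ K := hkd ▸ (hgN ω).1 hω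
  have hkg : k * (g : Matrix (Fin n) (Fin n) F) = (g : Matrix (Fin n) (Fin n) F) * ω := by
    rw [hkd, mul_assoc, Units.inv_mul, mul_one]
  rw [hg, mul_smul_comm, smul_mul_assoc] at hkg
  have h1 := smul_right_injective _ ha hkg
  rw [mul_add, add_mul, mul_one, one_mul, mul_vecMulVec, vecMulVec_mul] at h1
  have hA : k - ω = vecMulVec v (φ ᵥ* ω) - vecMulVec (k *ᵥ v) φ := by
    rw [← sub_eq_zero] at h1 ⊢
    rw [← h1]; abel
  by_cases h0 : k - ω = 0
  · rw [sub_eq_zero] at h0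
    rw [h0, sub_self, eq_comm, sub_eq_zero] at hA
    obtain ⟨i, hi⟩ := Function.ne_iff.1 hφ
    refine hωs ((φ ᵥ* ω) i / φ i) (eq_scalar_of_eigen hK hω hv (funext fun l => ?_))
    have h := congrFun (congrFun hA l) i
    rw [vecMulVec_apply, vecMulVec_apply] at h
    have hi' : φ i ≠ 0 := hi
    rw [Pi.smul_apply, smul_eq_mul]
    field_simp
    linear_combination -h
  · obtain ⟨y, hy, hxy⟩ := hK.inv _ (K.sub_mem hk hω) h0
    rw [hK.comm _ (K.sub_mem hk hω) _ hy] at hxy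
    obtain ⟨T, hT⟩ : ∃ T : (Fin n → F) →ₗ[F] F × F, ∀ w, T w = (φ ⬝ᵥ w, (φ ᵥ* ω) ⬝ᵥ w) :=
      ⟨(dotProductBilin F F φ).prod (dotProductBilin F F (φ ᵥ* ω)), fun w => rfl⟩
    obtain ⟨w, hw, hw0⟩ := (LinearMap.ker T).exists_mem_ne_zero_of_ne_bot fun h => by
      have := LinearMap.finrank_le_finrank_of_injective (LinearMap.ker_eq_bot.1 h)
      simp at this
      omega
    rw [LinearMap.mem_ker, hT, Prod.mk_eq_zero] at hw
    apply hw0
    have h := congrArg (· *ᵥ w) hxy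
    simp only [← mulVec_mulVec, one_mulVec] at h
    rw [hA, sub_mulVec, vecMulVec_mulVec, vecMulVec_mulVec, hw.1, hw.2] at h
    simpa using h.symm

theorem transport (g P : GL (Fin n) F) {a : F} {v φ : Fin n → F}
    (hg : (g : Matrix (Fin n) (Fin n) F) = a • (1 + vecMulVec v φ)) :
    ((P⁻¹ * g * P : GL (Fin n) F) : Matrix (Fin n) (Fin n) F) =
      a • (1 + vecMulVec (((P⁻¹ : GL (Fin n) F) : Matrix (Fin n) (Fin n) F) *ᵥ v) (φ ᵥ* (P : Matrix (Fin n) (Fin n) F))) := by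
  rw [Units.val_mul, Units.val_mul, hg, mul_smul_comm, smul_mul_assoc, mul_add, add_mul, mul_one, Units.inv_mul,
    mul_vecMulVec, vecMulVec_mul]

variable [Fintype F]

theorem exists_omega {q : ℕ} (hq : Fintype.card F = q) (hodd : Odd q) (hK : Cfsg.Geo.IsFieldSubalgebra 2 K)
    (hn : 0 < n) :
    ∃ (W : GL (Fin n) F) (z : Fˣ), (W : Matrix (Fin n) (Fin n) F) ∈ K ∧
      (W : Matrix (Fin n) (Fin n) F) * W = (z : F) • 1 ∧ (∀ s : F, s ^ 2 ≠ z) ∧
      ∀ y ∈ K, ∃ a b : F, y = a • 1 + b • (W : Matrix (Fin n) (Fin n) F) := by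
  haveI : Nonempty (Fin n) := ⟨⟨0, hn⟩⟩
  have h2 := InvolArith.two_ne_zero_of_odd hq hodd
  obtain ⟨k, hk, hks, hspan⟩ := exists_gen hK hn
  obtain ⟨d, t, hkk⟩ := hspan _ (K.mul_mem hk hk)
  obtain ⟨ω, hω⟩ : ∃ ω, ω = k - (t / 2) • 1 := ⟨_, rfl⟩
  have hωK : ω ∈ K := hω ▸ K.sub_mem hk (scalar_mem _)
  have hωω : ω * ω = (d + t * t / 4) • 1 := by
    have h4 : (4 : F) ≠ 0 := by rw [show (4 : F) = 2 * 2 by norm_num]; exact mul_ne_zero h2 h2
    rw [hω, sub_mul, mul_sub, mul_sub, hkk, smul_mul_assoc, smul_mul_assoc, mul_smul_comm, one_mul, one_mul, mul_one,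
      smul_smul, show (t / 2) * (t / 2) = t * t / 4 by field_simp; ring, add_smul]
    rw [show t • k = (t / 2) • k + (t / 2) • k by rw [← add_smul]; congr 1; field_simp; ring]
    abel
  have hωs : ∀ a : F, ω ≠ a • 1 := fun a h => hks (a + t / 2) (by rw [add_smul, ← h, hω, sub_add_cancel])
  have hsq : ∀ s : F, s ^ 2 ≠ d + t * t / 4 := by
    intro s hs
    obtain ⟨y, hy, hxy⟩ := hK.inv (ω - s • 1) (K.sub_mem hωK (scalar_mem s)) (sub_ne_zero.2 (hωs s))
    refine hωs (-s) ?_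
    rw [neg_smul, eq_neg_iff_add_eq_zero]
    have h : (ω + s • 1) * (ω - s • 1) = 0 := by
      rw [mul_sub, add_mul, add_mul, hωω, ← hs, mul_smul_comm, mul_smul_comm, smul_mul_assoc, mul_one, one_mul,
        mul_one, smul_smul, sq]
      abel
    have h' := congrArg (· * y) h
    simpa [mul_assoc, hxy] using h'
  have hz0 : d + t * t / 4 ≠ 0 := fun h => hsq 0 (by rw [h]; ring)
  obtain ⟨W, hW⟩ : ∃ W : GL (Fin n) F, (W : Matrix (Fin n) (Fin n) F) = ω :=
    ⟨⟨ω, (d + t * t / 4)⁻¹ • ω, by rw [mul_smul_comm, hωω, smul_smul, inv_mul_cancel₀ hz0, one_smul],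
      by rw [smul_mul_assoc, hωω, smul_smul, inv_mul_cancel₀ hz0, one_smul]⟩, rfl⟩
  refine ⟨W, Units.mk0 _ hz0, hW ▸ hωK, by rw [hW, hωω]; rfl, hsq, fun y hy => ?_⟩
  obtain ⟨a, b, hab⟩ := hspan y hy
  refine ⟨a + b * (t / 2), b, ?_⟩
  rw [hab, hW, hω, smul_sub, smul_smul, add_smul]
  abel

omit [Fintype F] in
theorem nonsquare_conj {g g' : GL (Fin n) F} {z : Fˣ} (hz : ∀ s : F, s ^ 2 ≠ z)
    (hg : (g : Matrix (Fin n) (Fin n) F) * g = (z : F) • 1)
    (hg' : (g' : Matrix (Fin n) (Fin n) F) * g' = (z : F) • 1) : ∃ Q : GL (Fin n) F, Q⁻¹ * g * Q = g' := by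
  obtain ⟨m, e, P, hP⟩ := exists_nonsquare hg hz
  obtain ⟨m', e', P', hP'⟩ := exists_nonsquare hg' hz
  obtain rfl : m = m' := by
    have h := Fintype.card_congr (e.trans e'.symm)
    simp at h
    omega
  obtain ⟨τ, hτ⟩ : ∃ τ : Equiv.Perm (Fin n), ∀ p, τ (e p) = e' p := ⟨e.symm.trans e', fun p => by simp⟩
  have hT : mono τ (1 : Fin n → Fˣ) * mono (pairSwap e) (pairCoeff e z) =
      mono (pairSwap e') (pairCoeff e' z) * mono τ (1 : Fin n → Fˣ) := by
    rw [mono_mul, mono_mul]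
    have key : ∀ j, τ (pairSwap e j) = pairSwap e' (τ j) ∧ pairCoeff e z j = pairCoeff e' z (τ j) := fun j => by
      obtain ⟨⟨a, i⟩, rfl⟩ := e.surjective j
      rw [pairSwap_apply, hτ, hτ, pairSwap_apply]
      simp [pairCoeff]
    congr 1
    · exact Equiv.ext fun j => (key j).1
    · funext j; simp [(key j).2]
  refine ⟨P * (mono τ (1 : Fin n → Fˣ))⁻¹ * P'⁻¹, ?_⟩
  calc _ = P' * (mono τ (1 : Fin n → Fˣ) * (P⁻¹ * g * P) * (mono τ (1 : Fin n → Fˣ))⁻¹) * P'⁻¹ := by group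
    _ = P' * mono (pairSwap e') (pairCoeff e' z) * P'⁻¹ := by rw [hP, hT, mul_inv_cancel_right]
    _ = g' := by rw [← hP']; group

/-- In characteristic two and dimension two a non-scalar element with scalar square normalises a quadratic field. -/
theorem two_even (h2 : (2 : F) = 0) {K : Subalgebra F (Matrix (Fin 2) (Fin 2) F)}
    (hK : Cfsg.Geo.IsFieldSubalgebra 2 K) {g : GL (Fin 2) F} {z : F}
    (hg : (g : Matrix (Fin 2) (Fin 2) F) * g = z • 1) (hns : ∀ a : F, (g : Matrix (Fin 2) (Fin 2) F) ≠ a • 1) :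
    ∃ Q : GL (Fin 2) F, Q⁻¹ * g * Q ∈ Cfsg.Geo.subalgebraNormalizer K := by
  haveI : CharP F 2 := CharTwo.of_one_ne_zero_of_two_eq_zero one_ne_zero h2
  obtain ⟨k, hk, hks, hspan⟩ := exists_gen hK two_pos
  obtain ⟨d, t, hkk⟩ := hspan _ (K.mul_mem hk hk)
  have ht : t ≠ 0 := by
    rintro rfl
    obtain ⟨r, hr⟩ := FiniteField.isSquare_of_char_two (ringChar.eq F 2) d
    obtain ⟨y, hy, hxy⟩ := hK.inv (k - r • 1) (K.sub_mem hk (scalar_mem r)) (sub_ne_zero.2 (hks r))
    refine hks r ?_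
    have h : (k - r • 1) * (k - r • 1) = 0 := by
      rw [sub_mul, mul_sub, mul_sub, hkk, smul_mul_assoc, smul_mul_assoc, mul_smul_comm, one_mul, one_mul, mul_one,
        smul_smul, hr, zero_smul, add_zero]
      have : r • k + r • k = 0 := by rw [← two_smul F, smul_smul, h2, zero_mul, zero_smul]
      calc (r * r) • (1 : Matrix (Fin 2) (Fin 2) F) - r • k - (r • k - (r * r) • 1)
          = (r * r) • 1 + (r * r) • 1 - (r • k + r • k) := by abel
        _ = 0 := by rw [this, sub_zero, ← two_smul F, smul_smul, h2, zero_mul, zero_smul]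
    have h' := congrArg (· * y) h
    simp only [mul_assoc, hxy, mul_one, zero_mul] at h'
    exact sub_eq_zero.1 h'
  have hk10 : k 1 0 ≠ 0 := by
    intro h0
    refine hks (k 0 0) (eq_scalar_of_eigen hK hk (v := Pi.single 0 1) (by simp) (funext fun i => ?_))
    fin_cases i <;> simp [h0]
  obtain ⟨R, hR⟩ : ∃ R : GL (Fin 2) F, (R : Matrix (Fin 2) (Fin 2) F) = !![1, k 0 0; 0, k 1 0] :=
    ⟨Matrix.GeneralLinearGroup.mkOfDetNeZero _ (by simp [Matrix.det_fin_two_of, hk10]), rfl⟩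
  obtain ⟨T, hT⟩ : ∃ T : GL (Fin 2) F, (T : Matrix (Fin 2) (Fin 2) F) = !![1, t; 0, 1] :=
    ⟨Matrix.GeneralLinearGroup.mkOfDetNeZero _ (by simp [Matrix.det_fin_two_of]), rfl⟩
  have hkR : k * (R : Matrix (Fin 2) (Fin 2) F) = (R : Matrix (Fin 2) (Fin 2) F) * !![0, d; 1, t] := by
    have e00 := congrFun (congrFun hkk 0) 0
    have e10 := congrFun (congrFun hkk 1) 0
    simp [Matrix.mul_apply, Fin.sum_univ_two] at e00 e10
    rw [hR]
    ext i j
    fin_cases i <;> fin_cases j <;> simp [Matrix.mul_apply, Fin.sum_univ_two] <;>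
      first | linear_combination e00 | linear_combination e10 | ring
  obtain ⟨τ, hτ⟩ : ∃ τ : GL (Fin 2) F, τ = R * T * R⁻¹ := ⟨_, rfl⟩
  have hTT : (T : Matrix (Fin 2) (Fin 2) F) * T = 1 := by
    rw [hT]; ext i j
    fin_cases i <;> fin_cases j <;> simp [CharTwo.add_self_eq_zero]
  have hττ : τ * τ = 1 := by
    have : T * T = 1 := Units.ext hTT
    rw [hτ, show R * T * R⁻¹ * (R * T * R⁻¹) = R * (T * T) * R⁻¹ by group, this]; group
  have hconj : (τ : Matrix (Fin 2) (Fin 2) F) * k * ((τ⁻¹ : GL (Fin 2) F) : Matrix (Fin 2) (Fin 2) F) = k + t • 1 := by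
    have hTC : (T : Matrix (Fin 2) (Fin 2) F) * !![0, d; 1, t] = (!![0, d; 1, t] + t • 1) * T := by
      rw [hT]; ext i j
      fin_cases i <;> fin_cases j <;>
        simp [Matrix.mul_apply, Fin.sum_univ_two, CharTwo.add_self_eq_zero] <;> ring
    have hkC : k = (R : Matrix (Fin 2) (Fin 2) F) * !![0, d; 1, t] * ((R⁻¹ : GL (Fin 2) F) : Matrix (Fin 2) (Fin 2) F) := by
      rw [← hkR, mul_assoc, Units.mul_inv, mul_one]
    rw [hτ, _root_.mul_inv_rev, _root_.mul_inv_rev, inv_inv]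
    simp only [Units.val_mul]
    rw [hkC]
    simp only [mul_assoc, Units.inv_mul_cancel_left]
    rw [← mul_assoc (T : Matrix (Fin 2) (Fin 2) F), hTC, mul_assoc, Units.mul_inv_cancel_left, add_mul, mul_add,
      smul_mul_assoc, one_mul, mul_smul_comm, Units.mul_inv]
  have hτs : ∀ a : F, (τ : Matrix (Fin 2) (Fin 2) F) ≠ a • 1 := by
    intro a h
    have h' : k + t • 1 = k := by
      rw [← hconj, h, smul_mul_assoc, one_mul, smul_mul_assoc, ← mul_smul_comm]
      have e : a • ((τ⁻¹ : GL (Fin 2) F) : Matrix (Fin 2) (Fin 2) F) = 1 := by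
        rw [← one_mul ((τ⁻¹ : GL (Fin 2) F) : Matrix (Fin 2) (Fin 2) F), ← smul_mul_assoc, ← h, Units.mul_inv]
      rw [e, mul_one]
    rw [add_eq_left] at h'
    simpa [ht] using congrFun (congrFun h' 0) 0
  obtain ⟨s, P, σ, hσ, hzs, hP⟩ := exists_char_two h2 two_pos hg
  obtain ⟨y, hy⟩ : ∃ y : GL (Fin 2) F, y = τ * Units.map (Matrix.scalar (Fin 2) : F →+* Matrix (Fin 2) (Fin 2) F).toMonoidHom s :=
    ⟨_, rfl⟩
  have hyv : (y : Matrix (Fin 2) (Fin 2) F) = (s : F) • (τ : Matrix (Fin 2) (Fin 2) F) := by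
    rw [hy, Units.val_mul, show ((Units.map (Matrix.scalar (Fin 2) : F →+* Matrix (Fin 2) (Fin 2) F).toMonoidHom s :
      GL (Fin 2) F) : Matrix (Fin 2) (Fin 2) F) = (s : F) • 1 by rw [Matrix.smul_one_eq_diagonal]; rfl,
      mul_smul_comm, mul_one]
  have hyy : (y : Matrix (Fin 2) (Fin 2) F) * y = z • 1 := by
    rw [hyv, smul_mul_assoc, mul_smul_comm, smul_smul, ← Units.val_mul τ τ, hττ, Units.val_one, hzs, sq]
  have hyN : y ∈ Cfsg.Geo.subalgebraNormalizer K := by
    refine mem_normalizer hyy (by rw [hzs]; exact pow_ne_zero 2 s.ne_zero) hspan ?_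
    have hc : (y : Matrix (Fin 2) (Fin 2) F) * k * ((y⁻¹ : GL (Fin 2) F) : Matrix (Fin 2) (Fin 2) F) = k + t • 1 := by
      have h1 : (τ : Matrix (Fin 2) (Fin 2) F) * k = (k + t • 1) * τ := by
        rw [← hconj, mul_assoc, Units.inv_mul, mul_one]
      rw [hyv, smul_mul_assoc, h1, ← mul_smul_comm, ← hyv, mul_assoc, Units.mul_inv, mul_one]
    rw [hc]
    exact K.add_mem hk (scalar_mem t)
  obtain ⟨s', P', σ', hσ', hzs', hP'⟩ := exists_char_two h2 two_pos hyy
  have hss : s' = s := Units.ext (CharTwo.sq_inj.1 (hzs'.symm.trans hzs))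
  have hswap : ∀ π : Equiv.Perm (Fin 2), π ≠ 1 → π = Equiv.swap 0 1 := by decide
  have hne : ∀ (X P : GL (Fin 2) F) (π : Equiv.Perm (Fin 2)), P⁻¹ * X * P = mono π (fun _ => s) →
      (∀ a : F, (X : Matrix (Fin 2) (Fin 2) F) ≠ a • 1) → π ≠ 1 := by
    rintro X P π hX hXs rfl
    refine hXs s ?_
    have hX' : X = P * mono 1 (fun _ => s) * P⁻¹ := by rw [← hX]; group
    have e : ((mono 1 (fun _ : Fin 2 => s) : GL (Fin 2) F) : Matrix (Fin 2) (Fin 2) F) = (s : F) • 1 := by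
      ext i j; fin_cases i <;> fin_cases j <;> simp [mono_apply]
    rw [hX', Units.val_mul, Units.val_mul, e, mul_smul_comm, mul_one, smul_mul_assoc, Units.mul_inv]
  rw [hss] at hP'
  rw [hswap σ (hne g P σ hP hns)] at hP
  rw [hswap σ' (hne y P' σ' hP' (fun a h => hτs ((s : F)⁻¹ * a) (by
    rw [← smul_smul, ← h, hyv, smul_smul, inv_mul_cancel₀ s.ne_zero, one_smul])))] at hP'
  refine ⟨P * P'⁻¹, ?_⟩
  rw [show (P * P'⁻¹)⁻¹ * g * (P * P'⁻¹) = P' * (P⁻¹ * g * P) * P'⁻¹ by group, hP, ← hP',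
    show P' * (P'⁻¹ * y * P') * P'⁻¹ = y by group]
  exact hyN

theorem involutions_iff {q : ℕ} (hq : Fintype.card F = q) (hn : 2 ≤ n) (he : Even n)
    (hK : Cfsg.Geo.IsFieldSubalgebra 2 K) :
    (∀ x : Matrix.SpecialLinearGroup (Fin n) F,
      (∃ z : F, ((x ^ 2 : Matrix.SpecialLinearGroup (Fin n) F) : Matrix (Fin n) (Fin n) F) =
        z • (1 : Matrix (Fin n) (Fin n) F)) →
      (∀ z : F, (x : Matrix (Fin n) (Fin n) F) ≠ z • (1 : Matrix (Fin n) (Fin n) F)) →
      ∃ P : Matrix.SpecialLinearGroup (Fin n) F, P⁻¹ * x * P ∈ ((Cfsg.Geo.subalgebraNormalizer K).comap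
        (Matrix.SpecialLinearGroup.toGL : Matrix.SpecialLinearGroup (Fin n) F →* GL (Fin n) F))) ↔
    (n = 2 ∨ (Odd q ∧ padicValNat 2 (q - 1) ≤ padicValNat 2 n)) := by
  classical
  have hn0 : 0 < n := by omega
  constructor
  · intro hall
    by_contra hcon
    push Not at hcon
    obtain ⟨h2n, hcon⟩ := hcon
    have hn3 : 3 ≤ n := by omega
    obtain ⟨i₀, hi₀⟩ : ∃ i : Fin n, i = ⟨0, by omega⟩ := ⟨_, rfl⟩
    obtain ⟨x, a, v, φ, ha, hv, hφ, hx, z, hxz⟩ : ∃ (x : SpecialLinearGroup (Fin n) F) (a : F) (v φ : Fin n → F),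
        a ≠ 0 ∧ v ≠ 0 ∧ φ ≠ 0 ∧ (x : Matrix (Fin n) (Fin n) F) = a • (1 + vecMulVec v φ) ∧
          ∃ z : F, (x : Matrix (Fin n) (Fin n) F) * x = z • 1 := by
      by_cases hodd : Odd q
      · obtain ⟨s, x, hx, hx'⟩ := exists_bad hq hodd hn (hcon hodd)
        have h2 := InvolArith.two_ne_zero_of_odd hq hodd
        refine ⟨x, s, _, _, s.ne_zero, by simpa using h2, by simp, hx, (s : F) ^ 2, ?_⟩
        rw [hx', diagonal_mul_diagonal, Matrix.smul_one_eq_diagonal]
        congr 1; funext i; split_ifs <;> ring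
      · obtain ⟨i₁, hi₁⟩ : ∃ i : Fin n, i = ⟨1, by omega⟩ := ⟨_, rfl⟩
        have hne : i₀ ≠ i₁ := by simp [hi₀, hi₁, Fin.ext_iff]
        have hv : vecMulVec (Pi.single i₀ (1 : F)) (Pi.single i₁ 1) = Matrix.single i₀ i₁ 1 := by
          ext i j
          rw [vecMulVec_apply, Matrix.single_apply]
          split_ifs with h
          · simp [← h.1, ← h.2]
          · rcases not_and_or.1 h with h | h <;> simp [Ne.symm h]
        have hd : (Matrix.transvection i₀ i₁ (1 : F)).det = 1 := Matrix.det_transvection_of_ne _ _ hne 1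
        refine ⟨⟨_, hd⟩, 1, Pi.single i₀ 1, Pi.single i₁ 1, one_ne_zero, by simp, by simp, ?_, 1, ?_⟩
        · rw [one_smul, hv]; rfl
        · show Matrix.transvection i₀ i₁ (1 : F) * Matrix.transvection i₀ i₁ 1 = _
          rw [Matrix.transvection_mul_transvection_same i₀ i₁ hne, one_smul]
          have h2 : (1 : F) + 1 = 0 := by
            by_contra h
            refine hodd (hq ▸ Nat.odd_iff.2 (FiniteField.odd_card_of_char_ne_two fun hc => h ?_))
            haveI : CharP F 2 := hc ▸ ringChar.charP F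
            exact CharTwo.add_self_eq_zero 1
          rw [h2, Matrix.transvection_zero]
    obtain ⟨P, hP⟩ := hall x ⟨z, by simp only [pow_two, Matrix.SpecialLinearGroup.coe_mul, hxz]⟩ (fun c hc => by
      obtain ⟨i, hi⟩ := Function.ne_iff.1 hv
      obtain ⟨j, hj⟩ := Function.ne_iff.1 hφ
      rw [hx] at hc
      have hoff : ∀ i' j', i' ≠ j' → v i' * φ j' = 0 := fun i' j' h => by
        have := congrFun (congrFun hc i') j'
        simpa [Matrix.one_apply_ne h, ha, vecMulVec_apply] using this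
      have hij : i = j := by_contra fun h => mul_ne_zero hi hj (hoff i j h)
      obtain ⟨l, hl⟩ : ∃ l : Fin n, l ≠ i := by
        by_cases h : i = i₀
        · exact ⟨⟨1, by omega⟩, by simp [h, hi₀, Fin.ext_iff]⟩
        · exact ⟨i₀, Ne.symm h⟩
      have hl0 : φ l = 0 := (mul_eq_zero.1 (hoff i l (Ne.symm hl))).resolve_left hi
      have h1 := congrFun (congrFun hc i) i
      have h2' := congrFun (congrFun hc l) l
      simp [vecMulVec_apply, hl0] at h1 h2'
      rw [← h2', mul_eq_left₀ ha, add_eq_left, hij] at h1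
      exact mul_ne_zero (hij ▸ hi) hj h1)
    rw [Subgroup.mem_comap, map_mul, map_mul, map_inv] at hP
    refine no_norm hK hn3 ha ?_ ?_ (transport (SpecialLinearGroup.toGL x) (SpecialLinearGroup.toGL P) hx) hP
    · intro h
      apply hv
      have h' := congrArg ((SpecialLinearGroup.toGL P : Matrix (Fin n) (Fin n) F) *ᵥ ·) h
      simpa [mulVec_mulVec, ← Units.val_mul] using h'
    · intro h
      apply hφ
      have h' := congrArg (· ᵥ* (((SpecialLinearGroup.toGL P)⁻¹ : GL (Fin n) F) : Matrix (Fin n) (Fin n) F)) h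
      simp only [vecMul_vecMul, ← Units.val_mul, mul_inv_cancel, Units.val_one, vecMul_one, zero_vecMul] at h'
      exact h'
  · intro hcond x ⟨z, hz⟩ hns
    simp only [pow_two, Matrix.SpecialLinearGroup.coe_mul] at hz
    have fin : ∀ P : GL (Fin n) F, P⁻¹ * SpecialLinearGroup.toGL x * P ∈ Cfsg.Geo.subalgebraNormalizer K →
        ∃ P : Matrix.SpecialLinearGroup (Fin n) F, P⁻¹ * x * P ∈ ((Cfsg.Geo.subalgebraNormalizer K).comap
          (Matrix.SpecialLinearGroup.toGL : Matrix.SpecialLinearGroup (Fin n) F →* GL (Fin n) F)) := by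
      intro P hP
      obtain ⟨P', hP'⟩ := conj_sl hn0 x hz P
      exact ⟨P', by rw [Subgroup.mem_comap, hP']; exact hP⟩
    by_cases h2 : (2 : F) = 0
    · have h2n : n = 2 := hcond.resolve_right fun h => InvolArith.two_ne_zero_of_odd hq h.1 h2
      subst h2n
      obtain ⟨Q, hQ⟩ := two_even h2 hK (g := SpecialLinearGroup.toGL x) hz hns
      exact fin Q hQ
    have hodd : Odd q := hq ▸ Nat.odd_iff.2 (FiniteField.odd_card_of_char_ne_two fun h => h2 (by
      haveI : CharP F 2 := h ▸ ringChar.charP F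
      exact CharTwo.two_eq_zero))
    obtain ⟨W, z₁, hW, hWW, hz₁, hspan⟩ := exists_omega hq hodd hK hn0
    obtain ⟨zu, rfl⟩ : ∃ zu : Fˣ, (zu : F) = z :=
      ⟨Units.mk0 z (sq_ne_zero (g := SpecialLinearGroup.toGL x) hz hn0), rfl⟩
    have norm_of : ∀ (y : GL (Fin n) F), (y : Matrix (Fin n) (Fin n) F) * y = (zu : F) • 1 →
        (y * W = W * y ∨ (y : Matrix (Fin n) (Fin n) F) * W = -((W : Matrix (Fin n) (Fin n) F) * y)) →
        y ∈ Cfsg.Geo.subalgebraNormalizer K := by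
      intro y hy hc
      refine mem_normalizer hy zu.ne_zero hspan ?_
      rcases hc with hc | hc
      · rw [← Units.val_mul, hc, Units.val_mul, mul_assoc, Units.mul_inv, mul_one]; exact hW
      · rw [hc, neg_mul, mul_assoc, Units.mul_inv, mul_one]; exact K.neg_mem hW
    have hsqconj : ∀ P : GL (Fin n) F, ((P⁻¹ * SpecialLinearGroup.toGL x * P : GL (Fin n) F) : Matrix (Fin n) (Fin n) F) *
        ((P⁻¹ * SpecialLinearGroup.toGL x * P : GL (Fin n) F) : Matrix (Fin n) (Fin n) F) = (zu : F) • 1 := by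
      intro P
      rw [← Units.val_mul, show P⁻¹ * SpecialLinearGroup.toGL x * P * (P⁻¹ * SpecialLinearGroup.toGL x * P) =
        P⁻¹ * (SpecialLinearGroup.toGL x * SpecialLinearGroup.toGL x) * P by group, Units.val_mul, Units.val_mul,
        Units.val_mul]
      rw [show (SpecialLinearGroup.toGL x : Matrix (Fin n) (Fin n) F) = x from rfl, hz, mul_smul_comm, mul_one,
        smul_mul_assoc, Units.inv_mul]
    by_cases hsq : ∃ s : F, s ^ 2 = zu
    · obtain ⟨s₀, hs₀⟩ := hsq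
      obtain ⟨s, rfl⟩ : ∃ s : Fˣ, (s : F) = s₀ :=
        ⟨Units.mk0 s₀ (fun h => zu.ne_zero (by rw [← hs₀, h]; ring)), rfl⟩
      obtain ⟨P, c, hP, hc⟩ := exists_diag h2 (g := SpecialLinearGroup.toGL x) (s := s) (by rw [hs₀]; exact hz)
      have hdet : (mono 1 c : Matrix (Fin n) (Fin n) F).det = 1 := by
        rw [← hP, ← Matrix.GeneralLinearGroup.val_det_apply, map_mul, map_mul, map_inv, inv_mul_cancel_comm]
        simp
      obtain ⟨π, ε, H, hcase⟩ := diag_pairing hq hodd he hn0 (hcond.imp_right And.right) c hc hdet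
      obtain ⟨w, hw⟩ : ∃ w : Fin n → Fˣ, ∀ i, w i = if ε i then 1 else z₁ := ⟨_, fun i => rfl⟩
      have hJ : (mono π w : Matrix (Fin n) (Fin n) F) * (mono π w : Matrix (Fin n) (Fin n) F) = (z₁ : F) • 1 := by
        rw [← Units.val_mul, mono_mul, show π * π = 1 from Equiv.ext H.1]
        ext i j
        rw [mono_apply, hw, hw, H.2, Matrix.smul_apply, Matrix.one_apply, Equiv.Perm.one_apply]
        by_cases hij : i = j
        · subst hij; cases ε i <;> simp
        · simp [hij]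
      obtain ⟨Q, hQ⟩ := nonsquare_conj hz₁ hWW hJ
      refine fin (P * Q⁻¹) ?_
      obtain ⟨y, hy⟩ : ∃ y, y = (P * Q⁻¹)⁻¹ * SpecialLinearGroup.toGL x * (P * Q⁻¹) := ⟨_, rfl⟩
      rw [← hy]
      refine norm_of y (hy ▸ hsqconj _) ?_
      have hy' : y = Q * mono 1 c * Q⁻¹ := by rw [hy, ← hP]; group
      have hW' : W = Q * mono π w * Q⁻¹ := by rw [← hQ]; group
      rcases hcase with hk | hk
      · left
        have e : mono 1 c * mono π w = mono π w * mono 1 c := by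
          rw [mono_mul, mono_mul, one_mul, mul_one]
          congr 1
          funext j
          rw [hk, Equiv.Perm.one_apply, mul_comm]
        rw [hy', hW', show Q * mono 1 c * Q⁻¹ * (Q * mono π w * Q⁻¹) = Q * (mono 1 c * mono π w) * Q⁻¹ by group, e]
        group
      · right
        have e : mono 1 c * mono π w = -(mono π w * mono 1 c) := by
          rw [mono_mul, mono_mul, one_mul, mul_one]
          refine Units.ext (Matrix.ext fun i j => ?_)
          rw [Units.val_neg, Matrix.neg_apply, mono_apply, mono_apply]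
          split_ifs <;> simp [hk, mul_comm]
        rw [← Units.val_mul, ← Units.val_mul, ← Units.val_neg]
        congr 1
        rw [hy', hW', show Q * mono 1 c * Q⁻¹ * (Q * mono π w * Q⁻¹) = Q * (mono 1 c * mono π w) * Q⁻¹ by group, e,
          mul_neg, neg_mul, neg_inj]
        group
    · push Not at hsq
      obtain ⟨c, hc⟩ : IsSquare ((zu : F) / z₁) := by
        have hr : ringChar F ≠ 2 := fun h => h2 (by
          haveI : CharP F 2 := h ▸ ringChar.charP F
          exact CharTwo.two_eq_zero)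
        have key : ∀ a : Fˣ, (∀ s : F, s ^ 2 ≠ a) → (a : F) ^ (Fintype.card F / 2) = -1 := fun a ha =>
          (FiniteField.pow_dichotomy hr a.ne_zero).resolve_left fun h => by
            obtain ⟨s, hs⟩ := (FiniteField.isSquare_iff hr a.ne_zero).2 h
            exact ha s (by rw [sq, hs])
        rw [FiniteField.isSquare_iff hr (div_ne_zero zu.ne_zero z₁.ne_zero), div_pow, key _ hsq, key _ hz₁]
        simp
      have hc0 : c ≠ 0 := fun h => div_ne_zero zu.ne_zero z₁.ne_zero (by rw [hc, h, mul_zero])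
      obtain ⟨C, hC⟩ : ∃ C : GL (Fin n) F, (C : Matrix (Fin n) (Fin n) F) = c • (W : Matrix (Fin n) (Fin n) F) :=
        ⟨W * Units.map (Matrix.scalar (Fin n) : F →+* Matrix (Fin n) (Fin n) F).toMonoidHom (Units.mk0 c hc0), by
          rw [Units.val_mul, show ((Units.map (Matrix.scalar (Fin n) : F →+* Matrix (Fin n) (Fin n) F).toMonoidHom
            (Units.mk0 c hc0) : GL (Fin n) F) : Matrix (Fin n) (Fin n) F) = c • 1 by
              rw [Matrix.smul_one_eq_diagonal]; rfl, mul_smul_comm, mul_one]⟩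
      have hCC : (C : Matrix (Fin n) (Fin n) F) * C = (zu : F) • 1 := by
        rw [hC, smul_mul_assoc, mul_smul_comm, hWW, smul_smul, smul_smul, ← hc, div_mul_cancel₀ _ z₁.ne_zero]
      obtain ⟨Q, hQ⟩ := nonsquare_conj hsq (g := SpecialLinearGroup.toGL x) hz hCC
      refine fin Q ?_
      rw [hQ]
      refine norm_of C hCC (Or.inl (Units.ext ?_))
      rw [Units.val_mul, Units.val_mul, hC, smul_mul_assoc, mul_smul_comm]

end CfsgLib.Classical22.InvolField
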