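/-
A symplectic map with scalar square fixes or swaps a pair of complementary Lagrangian subspaces (odd characteristic).
-/
import Mathlib
import Cfsg.Prelude.Def_GeometricClasses

set_option autoImplicit false

namespace CfsgLib.Classical22.InvolLagrangian

variable {F V : Type*} [Field F] [AddCommGroup V] [Module F V] [FiniteDimensional F V]
variable (B : V →ₗ[F] V →ₗ[F] F) (f : V →ₗ[F] V)

/-- A partial pair: totally isotropic `U`, `W` with nondegenerate sum, carried as prescribed by `f`. -/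
def Pair (sw : Prop) (U W : Submodule F V) : Prop :=
  (∀ u ∈ U, ∀ v ∈ U, B u v = 0) ∧ (∀ u ∈ W, ∀ v ∈ W, B u v = 0) ∧ U ⊓ W = ⊥ ∧
    (∀ x ∈ U ⊔ W, (∀ y ∈ U ⊔ W, B x y = 0) → x = 0) ∧
    ((¬ sw ∧ (∀ u ∈ U, f u ∈ U) ∧ ∀ w ∈ W, f w ∈ W) ∨ (sw ∧ (∀ u ∈ U, f u ∈ W) ∧ ∀ w ∈ W, f w ∈ U))

variable {B f}

theorem alt_swap (halt : ∀ v, B v v = 0) (u v : V) : B v u = - B u v := by
  have h := halt (u + v)
  simp only [map_add, LinearMap.add_apply, halt] at h
  linear_combination h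

theorem exists_proj {P : Submodule F V} (hP : ∀ x ∈ P, (∀ y ∈ P, B x y = 0) → x = 0) (w : V) :
    ∃ p ∈ P, ∀ y ∈ P, B (w - p) y = 0 := by
  obtain ⟨φ, hφ⟩ : ∃ φ : V →ₗ[F] (P →ₗ[F] F), ∀ v (y : P), φ v y = B v y :=
    ⟨(LinearMap.lcomp F F P.subtype).comp B, fun v y => rfl⟩
  have hi : Function.Injective (φ.comp P.subtype) := by
    rw [← LinearMap.ker_eq_bot, LinearMap.ker_eq_bot']
    intro x hx
    refine Subtype.ext (hP x x.2 fun y hy => ?_)
    have := LinearMap.congr_fun hx ⟨y, hy⟩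
    simpa [hφ] using this
  obtain ⟨p, hp⟩ := (LinearMap.injective_iff_surjective_of_finrank_eq_finrank
    (by rw [Subspace.dual_finrank_eq])).1 hi (φ w)
  refine ⟨p, p.2, fun y hy => ?_⟩
  have := LinearMap.congr_fun hp ⟨y, hy⟩
  rw [LinearMap.comp_apply, hφ, hφ] at this
  rw [map_sub, LinearMap.sub_apply, sub_eq_zero]
  exact this.symm

theorem pair_extend (halt : ∀ v, B v v = 0) {sw : Prop} {U W : Submodule F V} (h : Pair B f sw U W) {u w : V}
    (hu : ∀ y ∈ U ⊔ W, B u y = 0) (hw : ∀ y ∈ U ⊔ W, B w y = 0) (huw : B u w ≠ 0)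
    (hf : (¬ sw ∧ f u ∈ Submodule.span F {u} ∧ f w ∈ Submodule.span F {w}) ∨
      (sw ∧ f u ∈ Submodule.span F {w} ∧ f w ∈ Submodule.span F {u})) :
    Pair B f sw (U ⊔ Submodule.span F {u}) (W ⊔ Submodule.span F {w}) ∧
      Module.finrank F U < Module.finrank F (U ⊔ Submodule.span F {u} : Submodule F V) := by
  obtain ⟨hU, hW, hd, hn, hfUW⟩ := h
  have key : ∀ (S : Submodule F V) (s : V), (∀ a ∈ S, ∀ b ∈ S, B a b = 0) → (∀ y ∈ S, B s y = 0) →
      ∀ a ∈ S ⊔ Submodule.span F {s}, ∀ b ∈ S ⊔ Submodule.span F {s}, B a b = 0 := by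
    intro S s hS hs a ha b hb
    obtain ⟨a1, ha1, a2, ha2, rfl⟩ := Submodule.mem_sup.1 ha
    obtain ⟨b1, hb1, b2, hb2, rfl⟩ := Submodule.mem_sup.1 hb
    obtain ⟨c, rfl⟩ := Submodule.mem_span_singleton.1 ha2
    obtain ⟨d, rfl⟩ := Submodule.mem_span_singleton.1 hb2
    simp [hS a1 ha1 b1 hb1, hs b1 hb1, alt_swap halt s a1, hs a1 ha1, halt]
  have hP : ∀ x ∈ (U ⊔ Submodule.span F {u}) ⊔ (W ⊔ Submodule.span F {w}),
      ∃ p ∈ U ⊔ W, ∃ a b : F, x = p + a • u + b • w := by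
    intro x hx
    obtain ⟨x1, hx1, x2, hx2, rfl⟩ := Submodule.mem_sup.1 hx
    obtain ⟨y1, hy1, z1, hz1, rfl⟩ := Submodule.mem_sup.1 hx1
    obtain ⟨y2, hy2, z2, hz2, rfl⟩ := Submodule.mem_sup.1 hx2
    obtain ⟨a, rfl⟩ := Submodule.mem_span_singleton.1 hz1
    obtain ⟨b, rfl⟩ := Submodule.mem_span_singleton.1 hz2
    exact ⟨y1 + y2, Submodule.add_mem_sup hy1 hy2, a, b, by abel⟩
  have indep : ∀ p ∈ U ⊔ W, ∀ a b : F, p + a • u + b • w = 0 → p = 0 ∧ a = 0 ∧ b = 0 := by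
    intro p hp a b h0
    have ha : a = 0 := by
      have h1 := congrArg (fun v => B v w) h0
      simp [halt, alt_swap halt w p, hw p hp] at h1
      exact h1.resolve_right huw
    have hb : b = 0 := by
      have h1 := congrArg (fun v => B v u) h0
      simp [halt, alt_swap halt u p, hu p hp, alt_swap halt u w] at h1
      exact h1.resolve_right huw
    exact ⟨by simpa [ha, hb] using h0, ha, hb⟩
  refine ⟨⟨key U u hU fun y hy => hu y (Submodule.mem_sup_left hy),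
    key W w hW fun y hy => hw y (Submodule.mem_sup_right hy), ?_, ?_, ?_⟩, ?_⟩
  · rw [eq_bot_iff]
    intro x hx
    obtain ⟨p1, hp1, a2, ha2, rfl⟩ := Submodule.mem_sup.1 hx.1
    obtain ⟨p2, hp2, b2, hb2, he⟩ := Submodule.mem_sup.1 hx.2
    obtain ⟨a, rfl⟩ := Submodule.mem_span_singleton.1 ha2
    obtain ⟨b, rfl⟩ := Submodule.mem_span_singleton.1 hb2
    obtain ⟨hp, ha, hb⟩ := indep (p1 - p2) (Submodule.sub_mem _ (Submodule.mem_sup_left hp1)
      (Submodule.mem_sup_right hp2)) a (-b) (by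
        rw [show p1 - p2 + a • u + -b • w = (p1 + a • u) - (p2 + b • w) by rw [neg_smul]; abel, he, sub_self])
    rw [sub_eq_zero] at hp
    rw [ha, zero_smul, add_zero, Submodule.mem_bot]
    exact (Submodule.mem_bot F).1 (hd ▸ ⟨hp1, hp ▸ hp2⟩)
  · intro x hx hxy
    obtain ⟨p, hp, a, b, rfl⟩ := hP x hx
    have ha : a = 0 := by
      have h1 := hxy w (Submodule.mem_sup_right (Submodule.mem_sup_right (Submodule.mem_span_singleton_self w)))
      simp [halt, alt_swap halt w p, hw p hp] at h1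
      exact h1.resolve_right huw
    have hb : b = 0 := by
      have h1 := hxy u (Submodule.mem_sup_left (Submodule.mem_sup_right (Submodule.mem_span_singleton_self u)))
      simp [halt, alt_swap halt u p, hu p hp, alt_swap halt u w] at h1
      exact h1.resolve_right huw
    have hp0 : p = 0 := hn p hp fun y hy => by
      have h1 := hxy y (SetLike.le_def.1 (sup_le_sup le_sup_left le_sup_left) hy)
      simpa [ha, hb] using h1
    simp [hp0, ha, hb]
  · have mv : ∀ (S T : Submodule F V) (s t : V), (∀ a ∈ S, f a ∈ T) → f s ∈ Submodule.span F {t} →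
        ∀ a ∈ S ⊔ Submodule.span F {s}, f a ∈ T ⊔ Submodule.span F {t} := by
      intro S T s t hS hs a ha
      obtain ⟨a1, ha1, a2, ha2, rfl⟩ := Submodule.mem_sup.1 ha
      obtain ⟨c, rfl⟩ := Submodule.mem_span_singleton.1 ha2
      rw [map_add, map_smul]
      exact Submodule.add_mem_sup (hS a1 ha1) (Submodule.smul_mem _ _ hs)
    rcases hf with ⟨hs, hfu, hfw⟩ | ⟨hs, hfu, hfw⟩ <;> rcases hfUW with ⟨hs', hU', hW'⟩ | ⟨hs', hU', hW'⟩
    · exact Or.inl ⟨hs, mv U U u u hU' hfu, mv W W w w hW' hfw⟩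
    · exact absurd hs' hs
    · exact absurd hs hs'
    · exact Or.inr ⟨hs, mv U W u w hU' hfu, mv W U w u hW' hfw⟩
  · refine Submodule.finrank_lt_finrank_of_lt (lt_of_le_of_ne le_sup_left fun he => ?_)
    have huU : u ∈ U := by rw [he]; exact Submodule.mem_sup_right (Submodule.mem_span_singleton_self u)
    have h1 := (indep u (Submodule.mem_sup_left huU) (-1) 0 (by rw [neg_one_smul, zero_smul]; abel)).2.1
    exact one_ne_zero (neg_eq_zero.1 h1)

theorem exists_pair (h2 : (2 : F) ≠ 0) (halt : ∀ v, B v v = 0) (hnd : ∀ v, (∀ w, B v w = 0) → v = 0) {z : F}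
    (hz : z = 1 ∨ z = -1) (hf : ∀ v, f (f v) = z • v) (hB : ∀ u v, B (f u) (f v) = B u v) :
    ∃ U W : Submodule F V, IsCompl U W ∧ Pair B f (z = -1) U W := by
  classical
  have h11 : (1 : F) ≠ -1 := fun h => h2 (by linear_combination h)
  obtain ⟨good, hgood⟩ : ∃ good : Set ℕ, good = {k | ∃ U W, Pair B f (z = -1) U W ∧ Module.finrank F U = k} :=
    ⟨_, rfl⟩
  have h0 : 0 ∈ good := by
    rw [hgood]
    refine ⟨⊥, ⊥, ⟨fun u hu v _ => ?_, fun u hu v _ => ?_, by simp, fun x hx _ => by simpa using hx, ?_⟩, finrank_bot F V⟩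
    · simp [(Submodule.mem_bot F).1 hu]
    · simp [(Submodule.mem_bot F).1 hu]
    · by_cases hs : z = -1
      · exact Or.inr ⟨hs, fun u hu => by simp [(Submodule.mem_bot F).1 hu], fun u hu => by simp [(Submodule.mem_bot F).1 hu]⟩
      · exact Or.inl ⟨hs, fun u hu => by simp [(Submodule.mem_bot F).1 hu], fun u hu => by simp [(Submodule.mem_bot F).1 hu]⟩
  have hfin : good.Finite := Set.Finite.subset (Set.finite_Iic (Module.finrank F V)) (by
    rw [hgood]; rintro k ⟨U, W, -, rfl⟩; exact Submodule.finrank_le U)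
  obtain ⟨k, hk, hk'⟩ := hfin.exists_maximal ⟨0, h0⟩
  obtain ⟨U, W, hUW, hUk⟩ : ∃ U W, Pair B f (z = -1) U W ∧ Module.finrank F U = k := by
    rw [hgood] at hk; exact hk
  refine ⟨U, W, ⟨disjoint_iff.2 hUW.2.2.1, codisjoint_iff.2 ?_⟩, hUW⟩
  by_contra htop
  have hsupf : ∀ y ∈ U ⊔ W, f y ∈ U ⊔ W := by
    intro y hy
    obtain ⟨a, ha, b, hb, rfl⟩ := Submodule.mem_sup.1 hy
    rw [map_add]
    rcases hUW.2.2.2.2 with ⟨-, h1, h2⟩ | ⟨-, h1, h2⟩
    · exact Submodule.add_mem_sup (h1 a ha) (h2 b hb)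
    · rw [add_comm]; exact Submodule.add_mem_sup (h2 b hb) (h1 a ha)
  have hperp : ∀ v, (∀ y ∈ U ⊔ W, B v y = 0) → ∀ y ∈ U ⊔ W, B (f v) y = 0 := by
    intro v hv y hy
    have h1 := hB (f v) y
    rw [hf, map_smul, LinearMap.smul_apply, hv _ (hsupf y hy), smul_zero] at h1
    exact h1.symm
  obtain ⟨v₀, hv₀⟩ : ∃ v, v ∉ U ⊔ W := by
    by_contra! hall
    exact htop (eq_top_iff.2 fun v _ => hall v)
  obtain ⟨p, hp, hu₀⟩ := exists_proj hUW.2.2.2.1 v₀
  obtain ⟨u₀, hu0d⟩ : ∃ u, u = v₀ - p := ⟨_, rfl⟩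
  rw [← hu0d] at hu₀
  have hu0 : u₀ ≠ 0 := fun h => hv₀ (by rw [hu0d, sub_eq_zero] at h; rwa [h])
  have partner : ∀ u, u ≠ 0 → (∀ y ∈ U ⊔ W, B u y = 0) → ∃ w, (∀ y ∈ U ⊔ W, B w y = 0) ∧ B u w ≠ 0 := by
    intro u hu hup
    obtain ⟨w, hw⟩ : ∃ w, B u w ≠ 0 := by
      by_contra! h
      exact hu (hnd u h)
    obtain ⟨p, hp, hp'⟩ := exists_proj hUW.2.2.2.1 w
    exact ⟨w - p, hp', by rwa [map_sub, hup p hp, sub_zero]⟩
  obtain ⟨u, w, hu, hw, huw, hfuw⟩ : ∃ u w, (∀ y ∈ U ⊔ W, B u y = 0) ∧ (∀ y ∈ U ⊔ W, B w y = 0) ∧ B u w ≠ 0 ∧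
      ((¬ z = -1 ∧ f u ∈ Submodule.span F {u} ∧ f w ∈ Submodule.span F {w}) ∨
      (z = -1 ∧ f u ∈ Submodule.span F {w} ∧ f w ∈ Submodule.span F {u})) := by
    rcases hz with rfl | rfl
    · obtain ⟨u, hu, hun, ε, hε, hfu⟩ : ∃ u, u ≠ 0 ∧ (∀ y ∈ U ⊔ W, B u y = 0) ∧ ∃ ε : F, (ε = 1 ∨ ε = -1) ∧
          f u = ε • u := by
        by_cases h : u₀ + f u₀ = 0
        · exact ⟨u₀, hu0, hu₀, -1, Or.inr rfl, by rw [neg_one_smul]; exact (neg_eq_of_add_eq_zero_right h).symm⟩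
        · exact ⟨u₀ + f u₀, h, fun y hy => by simp [hu₀ y hy, hperp u₀ hu₀ y hy], 1, Or.inl rfl,
            by rw [map_add, hf, one_smul, one_smul, add_comm]⟩
      obtain ⟨w, hw, huw⟩ := partner u hu hun
      refine ⟨u, w + ε • f w, hun, fun y hy => by simp [hw y hy, hperp w hw y hy], ?_, Or.inl ⟨h11, ?_, ?_⟩⟩
      · have h1 : B u (f w) = ε * B u w := by
          have h := hB (f u) w
          rw [hf, one_smul, hfu, map_smul, LinearMap.smul_apply, smul_eq_mul] at h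
          exact h
        rw [map_add, map_smul, smul_eq_mul, h1, ← mul_assoc,
          show ε * ε = 1 by rcases hε with rfl | rfl <;> norm_num, one_mul, ← two_mul]
        exact mul_ne_zero h2 huw
      · exact Submodule.mem_span_singleton.2 ⟨ε, hfu.symm⟩
      · refine Submodule.mem_span_singleton.2 ⟨ε, ?_⟩
        rw [map_add, map_smul, hf, one_smul, smul_add, smul_smul,
          show ε * ε = 1 by rcases hε with rfl | rfl <;> norm_num, one_smul, add_comm]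
    · obtain ⟨e, he, hee⟩ : ∃ e, (∀ y ∈ U ⊔ W, B e y = 0) ∧ B e (f e) ≠ 0 := by
        by_contra! hall
        obtain ⟨w, hw, huw⟩ := partner u₀ hu0 hu₀
        have hsym : ∀ a b, B a (f b) = B b (f a) := fun a b => by
          rw [← hB a (f b), hf, map_smul, smul_eq_mul, alt_swap halt b (f a)]
          ring
        have h := hall (u₀ + -(f w)) (fun y hy => by simp [hu₀ y hy, hperp w hw y hy])
        rw [show f (u₀ + -(f w)) = f u₀ + w by rw [map_add, map_neg, hf, neg_one_smul, neg_neg]] at h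
        simp only [map_add, map_neg, LinearMap.add_apply, LinearMap.neg_apply] at h
        rw [hall u₀ hu₀, hB] at h
        have hw0 : B (f w) w = 0 := by rw [alt_swap halt w (f w), hall w hw, neg_zero]
        rw [hw0, alt_swap halt u₀ w] at h
        exact huw ((mul_eq_zero.1 (by linear_combination h : (2 : F) * B u₀ w = 0)).resolve_left h2)
      exact ⟨e, f e, he, hperp e he, hee, Or.inr ⟨rfl, Submodule.mem_span_singleton_self _,
        Submodule.mem_span_singleton.2 ⟨-1, (hf e).symm⟩⟩⟩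
  obtain ⟨hext, hlt⟩ := pair_extend halt hUW hu hw huw hfuw
  have hmem : Module.finrank F (U ⊔ Submodule.span F {u} : Submodule F V) ∈ good := by
    rw [hgood]; exact ⟨_, _, hext, rfl⟩
  have := hk' hmem (by omega)
  omega

theorem main {F : Type*} [Field F] [Fintype F] {q : ℕ} (hq : Fintype.card F = q) (hodd : Odd q) (d : ℕ) (hd : 2 ≤ d)
    (x : ↥(Matrix.symplecticGroup (Fin d) F))
    (hx : ∃ z : F, ((x ^ 2 : ↥(Matrix.symplecticGroup (Fin d) F)) : Matrix (Fin d ⊕ Fin d) (Fin d ⊕ Fin d) F) =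
      z • (1 : Matrix (Fin d ⊕ Fin d) (Fin d ⊕ Fin d) F)) :
    ∃ U W : Submodule F (Fin d ⊕ Fin d → F), IsCompl U W ∧ (∀ u ∈ U, ∀ v ∈ U, Cfsg.sympForm d F u v = 0) ∧
      (∀ u ∈ W, ∀ v ∈ W, Cfsg.sympForm d F u v = 0) ∧
      ((U.map (Matrix.toLin' (x : Matrix (Fin d ⊕ Fin d) (Fin d ⊕ Fin d) F)) = U ∧
          W.map (Matrix.toLin' (x : Matrix (Fin d ⊕ Fin d) (Fin d ⊕ Fin d) F)) = W) ∨
       (U.map (Matrix.toLin' (x : Matrix (Fin d ⊕ Fin d) (Fin d ⊕ Fin d) F)) = W ∧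
          W.map (Matrix.toLin' (x : Matrix (Fin d ⊕ Fin d) (Fin d ⊕ Fin d) F)) = U)) := by
  classical
  obtain ⟨X, hX⟩ : ∃ X : Matrix (Fin d ⊕ Fin d) (Fin d ⊕ Fin d) F, X = x := ⟨_, rfl⟩
  rw [← hX]
  obtain ⟨z, hz⟩ := hx
  rw [SubmonoidClass.coe_pow, ← hX, pow_two] at hz
  have h2 : (2 : F) ≠ 0 := Ring.two_ne_zero fun h => by
    have := FiniteField.even_card_of_char_two h
    rw [hq] at this
    obtain ⟨k, hk⟩ := hodd
    omega
  have hJ : X.transpose * Matrix.J (Fin d) F * X = Matrix.J (Fin d) F :=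
    SymplecticGroup.mem_iff'.1 (hX ▸ x.2)
  obtain ⟨B, hB⟩ : ∃ B : (Fin d ⊕ Fin d → F) →ₗ[F] (Fin d ⊕ Fin d → F) →ₗ[F] F,
      ∀ u v, B u v = Cfsg.sympForm d F u v :=
    ⟨Matrix.toLinearMap₂' F (Matrix.J (Fin d) F), fun u v => by rw [Matrix.toLinearMap₂'_apply']; rfl⟩
  have halt : ∀ v, B v v = 0 := fun v => by
    rw [hB]
    simp [Cfsg.sympForm, Matrix.J, Matrix.mulVec, dotProduct, Fintype.sum_sum_type, Matrix.fromBlocks,
      Matrix.one_apply, Finset.sum_add_distrib]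
    rw [neg_add_eq_zero]
    exact Finset.sum_congr rfl fun i _ => mul_comm _ _
  have hnd : ∀ v, (∀ w, B v w = 0) → v = 0 := by
    intro v h
    have hu : IsUnit (Matrix.J (Fin d) F).det := Matrix.isUnit_det_J (Fin d) F
    refine funext fun i => ?_
    have h1 := h ((Matrix.J (Fin d) F)⁻¹.mulVec (Pi.single i 1))
    rw [hB, Cfsg.sympForm, Matrix.mulVec_mulVec, Matrix.mul_nonsing_inv _ hu, Matrix.one_mulVec,
      dotProduct_single, mul_one] at h1
    exact h1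
  have hBf : ∀ u v, B (Matrix.toLin' X u) (Matrix.toLin' X v) = B u v := fun u v => by
    simp only [hB, Cfsg.sympForm, Matrix.toLin'_apply]
    rw [Matrix.mulVec_mulVec, Matrix.dotProduct_mulVec, ← Matrix.vecMul_transpose, Matrix.vecMul_vecMul,
      ← Matrix.mul_assoc, hJ, ← Matrix.dotProduct_mulVec]
  have hf : ∀ v, Matrix.toLin' X (Matrix.toLin' X v) = z • v := fun v => by
    rw [Matrix.toLin'_apply, Matrix.toLin'_apply, Matrix.mulVec_mulVec, hz, Matrix.smul_mulVec, Matrix.one_mulVec]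
  have hzz : z = 1 ∨ z = -1 := by
    obtain ⟨i⟩ : Nonempty (Fin d ⊕ Fin d) := ⟨.inl ⟨0, by omega⟩⟩
    obtain ⟨w, hw⟩ : ∃ w, B (Pi.single i 1) w ≠ 0 := by
      by_contra! h
      simpa using congrFun (hnd _ h) i
    have h := hBf (Matrix.toLin' X (Pi.single i 1)) (Matrix.toLin' X w)
    rw [hf, hf, hBf, map_smul, map_smul, LinearMap.smul_apply, smul_eq_mul, smul_eq_mul, ← mul_assoc] at h
    exact mul_self_eq_one_iff.1 (mul_right_cancel₀ hw (by rw [h, one_mul]))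
  obtain ⟨U, W, hc, h1, h2', -, -, hfUW⟩ := exists_pair h2 halt hnd hzz hf hBf
  refine ⟨U, W, hc, fun u hu v hv => by rw [← hB]; exact h1 u hu v hv,
    fun u hu v hv => by rw [← hB]; exact h2' u hu v hv, ?_⟩
  have hz0 : z ≠ 0 := by rcases hzz with rfl | rfl <;> simp
  have eqmap : ∀ S T : Submodule F (Fin d ⊕ Fin d → F), (∀ a ∈ S, Matrix.toLin' X a ∈ T) →
      (∀ a ∈ T, Matrix.toLin' X a ∈ S) → S.map (Matrix.toLin' X) = T := fun S T hST hTS => by
    refine le_antisymm (Submodule.map_le_iff_le_comap.2 hST) fun t ht => ?_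
    refine ⟨z⁻¹ • Matrix.toLin' X t, S.smul_mem _ (hTS t ht), ?_⟩
    rw [map_smul, hf, smul_smul, inv_mul_cancel₀ hz0, one_smul]
  rcases hfUW with ⟨-, a, b⟩ | ⟨-, a, b⟩
  · exact Or.inl ⟨eqmap U U a a, eqmap W W b b⟩
  · exact Or.inr ⟨eqmap U W a b, eqmap W U b a⟩

end CfsgLib.Classical22.InvolLagrangian
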