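/-
A symplectic map with scalar square permutes the members of some orthogonal decomposition into non-degenerate subspaces.
-/
import Cfsg.Agent.Lib.Classical22.InvolDecomp
import Cfsg.Agent.Lib.Classical.SpBasic

set_option autoImplicit false

namespace CfsgLib.Classical22.InvolSpDecomp

variable {F V : Type*} [Field F] [AddCommGroup V] [Module F V] [FiniteDimensional F V]

/-- Hyperbolic pairs spanning `X`, the planes being permuted by `f`. -/
def Planes (B : V →ₗ[F] V →ₗ[F] F) (f : V →ₗ[F] V) (ι : Type) (v w : ι → V) (π : Equiv.Perm ι) : Prop :=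
  (∀ i, π (π i) = i) ∧ (∀ i, B (v i) (w i) = 1) ∧
    (∀ i j, B (v i) (v j) = 0 ∧ B (w i) (w j) = 0 ∧ (i ≠ j → B (v i) (w j) = 0)) ∧
    ∀ i, f (v i) ∈ Submodule.span F {v (π i), w (π i)} ∧ f (w i) ∈ Submodule.span F {v (π i), w (π i)}

variable {B : V →ₗ[F] V →ₗ[F] F} {f : V →ₗ[F] V}

theorem alt_swap (halt : ∀ v, B v v = 0) (u v : V) : B v u = - B u v := by
  have h := halt (u + v)
  simp only [map_add, LinearMap.add_apply, halt, zero_add, add_zero] at h
  linear_combination h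

theorem exists_piece (halt : ∀ v, B v v = 0) {z : F} (hf : ∀ v, f (f v) = z • v) (hB : ∀ u v, B (f u) (f v) = B u v)
    {X : Submodule F V} (hX : ∀ x ∈ X, f x ∈ X) (hnd : ∀ u ∈ X, (∀ v ∈ X, B u v = 0) → u = 0) (h0 : X ≠ ⊥) :
    ∃ (ι : Type) (_ : Fintype ι) (v w : ι → V) (π : Equiv.Perm ι), Planes B f ι v w π ∧ Nonempty ι ∧
      ∀ i, v i ∈ X ∧ w i ∈ X := by
  have partner : ∀ v ∈ X, v ≠ 0 → ∃ w ∈ X, B v w = 1 := by
    intro v hv hv0
    obtain ⟨u, hu, hu0⟩ : ∃ u ∈ X, B v u ≠ 0 := by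
      by_contra! h
      exact hv0 (hnd v hv h)
    exact ⟨(B v u)⁻¹ • u, X.smul_mem _ hu, by rw [map_smul, smul_eq_mul, inv_mul_cancel₀ hu0]⟩
  by_cases hA : ∃ v ∈ X, B v (f v) ≠ 0
  · obtain ⟨v, hv, hc⟩ := hA
    refine ⟨Unit, inferInstance, fun _ => v, fun _ => (B v (f v))⁻¹ • f v, 1,
      ⟨fun i => rfl, fun i => by rw [map_smul, smul_eq_mul, inv_mul_cancel₀ hc],
        fun i j => ⟨halt v, halt _, fun h => absurd (Subsingleton.elim i j) h⟩, fun i => ⟨?_, ?_⟩⟩,
      ⟨()⟩, fun _ => ⟨hv, X.smul_mem _ (hX v hv)⟩⟩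
    · exact Submodule.mem_span_pair.2 ⟨0, B v (f v), by simp [smul_smul, mul_inv_cancel₀ hc]⟩
    · exact Submodule.mem_span_pair.2 ⟨(B v (f v))⁻¹ * z, 0, by simp [hf, smul_smul]⟩
  push Not at hA
  by_cases hN : ∃ v ∈ X, ∀ c : F, f v ≠ c • v
  · obtain ⟨v, hv, hvf⟩ := hN
    have hv0 : v ≠ 0 := fun h => hvf 0 (by rw [h, map_zero, smul_zero])
    obtain ⟨w₀, hw₀, hw₀1⟩ := partner v hv hv0
    obtain ⟨u, hu, hvu, hfu⟩ : ∃ u ∈ X, B v u = 0 ∧ B (f v) u ≠ 0 := by
      by_contra! h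
      refine hvf (B (f v) w₀) (sub_eq_zero.1 (hnd _ (X.sub_mem (hX v hv) (X.smul_mem _ hv)) fun x hx => ?_))
      have h1 := h (x - B v x • w₀) (X.sub_mem hx (X.smul_mem _ hw₀))
        (by rw [map_sub, map_smul, hw₀1, smul_eq_mul, mul_one, sub_self])
      rw [map_sub, map_smul, smul_eq_mul, sub_eq_zero] at h1
      rw [map_sub, LinearMap.sub_apply, map_smul, LinearMap.smul_apply, smul_eq_mul, h1]
      ring
    obtain ⟨w, hwd⟩ : ∃ w, w = w₀ - (B (f v) w₀ / B (f v) u) • u := ⟨_, rfl⟩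
    have hw : w ∈ X := hwd ▸ X.sub_mem hw₀ (X.smul_mem _ hu)
    have h1 : B v w = 1 := by rw [hwd, map_sub, map_smul, hvu, smul_zero, sub_zero, hw₀1]
    have h2 : B (f v) w = 0 := by rw [hwd, map_sub, map_smul, smul_eq_mul, div_mul_cancel₀ _ hfu, sub_self]
    have h3 : B v (f w) = 0 := by rw [← hB, hf, map_smul, h2, smul_zero]
    have h4 : B w (f v) = 0 := by rw [alt_swap halt (f v) w, h2, neg_zero]
    have h5 : B (f v) v = 0 := by rw [alt_swap halt v (f v), hA v hv, neg_zero]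
    have h6 : B (f w) w = 0 := by rw [alt_swap halt w (f w), hA w hw, neg_zero]
    refine ⟨Bool, inferInstance, fun b => cond b (f v) v, fun b => cond b (f w) w,
      Equiv.swap false true,
      ⟨fun i => by simp, fun i => ?_, fun i j => ?_, fun i => ?_⟩, ⟨true⟩, fun i => ?_⟩
    · cases i <;> simp [h1, hB]
    · cases i <;> cases j <;> simp [halt, hA v hv, hA w hw, h2, h3, h5, h6]
    · cases i
      · rw [Equiv.swap_apply_left]
        exact ⟨Submodule.subset_span (by simp), Submodule.subset_span (by simp)⟩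
      · rw [Equiv.swap_apply_right]
        exact ⟨Submodule.mem_span_pair.2 ⟨z, 0, by simp [hf]⟩, Submodule.mem_span_pair.2 ⟨0, z, by simp [hf]⟩⟩
    · cases i
      · exact ⟨hv, hw⟩
      · exact ⟨hX v hv, hX w hw⟩
  push Not at hN
  obtain ⟨v, hv, hv0⟩ := X.exists_mem_ne_zero_of_ne_bot h0
  obtain ⟨w, hw, hw1⟩ := partner v hv hv0
  obtain ⟨c, hc⟩ := hN v hv
  obtain ⟨d, hd⟩ := hN w hw
  exact ⟨Unit, inferInstance, fun _ => v, fun _ => w, 1,
    ⟨fun i => rfl, fun i => hw1, fun i j => ⟨halt v, halt w, fun h => absurd (Subsingleton.elim i j) h⟩,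
      fun i => ⟨Submodule.mem_span_pair.2 ⟨c, 0, by simp [hc]⟩, Submodule.mem_span_pair.2 ⟨0, d, by simp [hd]⟩⟩⟩,
    ⟨()⟩, fun _ => ⟨hv, hw⟩⟩

theorem exists_planes (halt : ∀ v, B v v = 0) {z : F} (hz : z ≠ 0) (hf : ∀ v, f (f v) = z • v)
    (hB : ∀ u v, B (f u) (f v) = B u v) {X : Submodule F V} (hX : ∀ x ∈ X, f x ∈ X)
    (hnd : ∀ u ∈ X, (∀ v ∈ X, B u v = 0) → u = 0) :
    ∃ (ι : Type) (_ : Fintype ι) (v w : ι → V) (π : Equiv.Perm ι), Planes B f ι v w π ∧
      Submodule.span F (Set.range v ∪ Set.range w) = X := by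
  classical
  obtain ⟨d, hd⟩ : ∃ d, Module.finrank F X = d := ⟨_, rfl⟩
  induction d using Nat.strong_induction_on generalizing X with
  | _ d ih =>
    by_cases h0 : X = ⊥
    · subst h0
      exact ⟨Empty, inferInstance, Empty.elim, Empty.elim, 1,
        ⟨fun i => i.elim, fun i => i.elim, fun i => i.elim, fun i => i.elim⟩, by simp⟩
    obtain ⟨ι, hι, v, w, π, ⟨hπ, h1, h2, h3⟩, ⟨i₀⟩, hmem⟩ := exists_piece halt hf hB hX hnd h0
    obtain ⟨X', hX'⟩ : ∃ X' : Submodule F V, ∀ x, x ∈ X' ↔ x ∈ X ∧ ∀ i, B x (v i) = 0 ∧ B x (w i) = 0 :=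
      ⟨{ carrier := {x | x ∈ X ∧ ∀ i, B x (v i) = 0 ∧ B x (w i) = 0}
         zero_mem' := ⟨X.zero_mem, fun i => by simp⟩
         add_mem' := fun {a b} ha hb => ⟨X.add_mem ha.1 hb.1, fun i => by
           simp [(ha.2 i).1, (ha.2 i).2, (hb.2 i).1, (hb.2 i).2]⟩
         smul_mem' := fun c a ha => ⟨X.smul_mem c ha.1, fun i => by simp [(ha.2 i).1, (ha.2 i).2]⟩ }, fun x => Iff.rfl⟩
    have hplane : ∀ x, x ∈ X' → ∀ i, ∀ y ∈ Submodule.span F {v i, w i}, B x y = 0 := by
      intro x hx i y hy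
      obtain ⟨a, b, rfl⟩ := Submodule.mem_span_pair.1 hy
      rw [map_add, map_smul, map_smul, (((hX' x).1 hx).2 i).1, (((hX' x).1 hx).2 i).2, smul_zero, smul_zero, add_zero]
    have hinv : ∀ x ∈ X', f x ∈ X' := by
      intro x hx
      refine (hX' _).2 ⟨hX x ((hX' x).1 hx).1, fun i => ?_⟩
      have key : ∀ y, f y ∈ Submodule.span F {v (π i), w (π i)} → B (f x) y = 0 := fun y hy => by
        have : y = f (z⁻¹ • f y) := by rw [map_smul, hf, smul_smul, inv_mul_cancel₀ hz, one_smul]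
        rw [this, hB, map_smul, hplane x hx (π i) _ hy, smul_zero]
      exact ⟨key _ (h3 i).1, key _ (h3 i).2⟩
    obtain ⟨pr, hpr⟩ : ∃ pr : V → V, ∀ x, pr x = ∑ i, (B x (w i) • v i - B x (v i) • w i) := ⟨_, fun x => rfl⟩
    have hperp : ∀ x ∈ X, x - pr x ∈ X' := by
      intro x hx
      refine (hX' _).2 ⟨X.sub_mem hx (hpr x ▸ X.sum_mem fun i _ => X.sub_mem (X.smul_mem _ (hmem i).1)
        (X.smul_mem _ (hmem i).2)), fun j => ⟨?_, ?_⟩⟩
      · rw [map_sub, LinearMap.sub_apply, hpr, map_sum, LinearMap.sum_apply, Finset.sum_eq_single j]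
        · simp [(h2 j j).1, alt_swap halt (v j) (w j), h1 j]
        · intro i _ hij
          simp [(h2 i j).1, alt_swap halt (v j) (w i), (h2 j i).2.2 (Ne.symm hij)]
        · simp
      · rw [map_sub, LinearMap.sub_apply, hpr, map_sum, LinearMap.sum_apply, Finset.sum_eq_single j]
        · simp [(h2 j j).2.1, h1 j]
        · intro i _ hij
          simp [(h2 i j).2.1, (h2 i j).2.2 hij]
        · simp
    have hprs : ∀ x, pr x ∈ Submodule.span F (Set.range v ∪ Set.range w) := fun x => by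
      rw [hpr]
      exact Submodule.sum_mem _ fun i _ => Submodule.sub_mem _
        (Submodule.smul_mem _ _ (Submodule.subset_span (Or.inl ⟨i, rfl⟩)))
        (Submodule.smul_mem _ _ (Submodule.subset_span (Or.inr ⟨i, rfl⟩)))
    have hnd' : ∀ u ∈ X', (∀ y ∈ X', B u y = 0) → u = 0 := by
      intro u hu h
      refine hnd u ((hX' u).1 hu).1 fun y hy => ?_
      have h0' := h _ (hperp y hy)
      rw [map_sub, sub_eq_zero] at h0'
      rw [h0', hpr, map_sum]
      exact Finset.sum_eq_zero fun i _ => by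
        simp [(((hX' u).1 hu).2 i).1, (((hX' u).1 hu).2 i).2]
    have hlt : X' < X := by
      refine lt_of_le_of_ne (fun x hx => ((hX' x).1 hx).1) fun h => ?_
      have := ((hX' (v i₀)).1 (h ▸ (hmem i₀).1)).2 i₀
      rw [h1 i₀] at this
      exact one_ne_zero this.2
    obtain ⟨κ, hκ, v', w', π', ⟨hπ', h1', h2', h3'⟩, hspan⟩ :=
      ih _ (hd ▸ Submodule.finrank_lt_finrank_of_lt hlt) hinv hnd' rfl
    have hmem' : ∀ j, v' j ∈ X' ∧ w' j ∈ X' := fun j =>
      ⟨hspan ▸ Submodule.subset_span (Or.inl ⟨j, rfl⟩), hspan ▸ Submodule.subset_span (Or.inr ⟨j, rfl⟩)⟩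
    have hcross : ∀ i j, (B (v i) (v' j) = 0 ∧ B (v i) (w' j) = 0 ∧ B (w i) (v' j) = 0 ∧ B (w i) (w' j) = 0) ∧
        (B (v' j) (v i) = 0 ∧ B (w' j) (v i) = 0 ∧ B (v' j) (w i) = 0 ∧ B (w' j) (w i) = 0) := fun i j => by
      have a := ((hX' _).1 (hmem' j).1).2 i
      have b := ((hX' _).1 (hmem' j).2).2 i
      refine ⟨⟨?_, ?_, ?_, ?_⟩, a.1, b.1, a.2, b.2⟩
      · rw [alt_swap halt (v' j) (v i), a.1, neg_zero]
      · rw [alt_swap halt (w' j) (v i), b.1, neg_zero]
      · rw [alt_swap halt (v' j) (w i), a.2, neg_zero]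
      · rw [alt_swap halt (w' j) (w i), b.2, neg_zero]
    refine ⟨ι ⊕ κ, inferInstance, Sum.elim v v', Sum.elim w w', Equiv.sumCongr π π', ⟨?_, ?_, ?_, ?_⟩, ?_⟩
    · rintro (i | i) <;> simp [hπ, hπ']
    · rintro (i | i) <;> simp [h1, h1']
    · rintro (i | i) (j | j)
      · refine ⟨(h2 i j).1, (h2 i j).2.1, fun h => (h2 i j).2.2 fun e => h (by rw [e])⟩
      · exact ⟨(hcross i j).1.1, (hcross i j).1.2.2.2, fun _ => (hcross i j).1.2.1⟩
      · exact ⟨(hcross j i).2.1, (hcross j i).2.2.2.2, fun _ => (hcross j i).2.2.2.1⟩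
      · refine ⟨(h2' i j).1, (h2' i j).2.1, fun h => (h2' i j).2.2 fun e => h (by rw [e])⟩
    · rintro (i | i)
      · exact h3 i
      · exact h3' i
    · refine le_antisymm (Submodule.span_le.2 ?_) fun x hx => ?_
      · rintro _ (⟨i | i, rfl⟩ | ⟨i | i, rfl⟩)
        exacts [(hmem i).1, ((hX' _).1 (hmem' i).1).1, (hmem i).2, ((hX' _).1 (hmem' i).2).1]
      · rw [← sub_add_cancel x (pr x)]
        refine Submodule.add_mem _ ?_ (Submodule.span_mono ?_ (hprs x))
        · refine Submodule.span_mono ?_ (hspan.symm ▸ hperp x hx : x - pr x ∈ Submodule.span F (Set.range v' ∪ Set.range w'))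
          rintro _ (⟨i, rfl⟩ | ⟨i, rfl⟩)
          exacts [Or.inl ⟨.inr i, rfl⟩, Or.inr ⟨.inr i, rfl⟩]
        · rintro _ (⟨i, rfl⟩ | ⟨i, rfl⟩)
          exacts [Or.inl ⟨.inl i, rfl⟩, Or.inr ⟨.inl i, rfl⟩]

theorem main {F : Type*} [Field F] {d a t : ℕ} (hat : 2 * d = a * t) (ha : 2 ≤ a) (hae : Even a) (ht : 2 ≤ t)
    (x : ↥(Matrix.symplecticGroup (Fin d) F)) {z : F}
    (hx : ((x ^ 2 : ↥(Matrix.symplecticGroup (Fin d) F)) : Matrix (Fin d ⊕ Fin d) (Fin d ⊕ Fin d) F) =
      z • (1 : Matrix (Fin d ⊕ Fin d) (Fin d ⊕ Fin d) F)) :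
    ∃ D : Fin t → Submodule F (Fin d ⊕ Fin d → F), (Cfsg.Geo.IsMDecomposition a D ∧
        (∀ j, ∀ u ∈ D j, u ≠ 0 → ∃ v ∈ D j, Cfsg.sympForm d F u v ≠ 0) ∧
        (∀ j j', j ≠ j' → ∀ u ∈ D j, ∀ v ∈ D j', Cfsg.sympForm d F u v = 0)) ∧
      ∃ σ : Equiv.Perm (Fin t), ∀ j,
        (D j).map (Matrix.toLin' (x : Matrix (Fin d ⊕ Fin d) (Fin d ⊕ Fin d) F)) = D (σ j) := by
  classical
  obtain ⟨B, hBd⟩ : ∃ B, B = Classical.spBilin d F := ⟨_, rfl⟩
  have hBa : ∀ u v, B u v = Cfsg.sympForm d F u v := fun u v => by rw [hBd]; rfl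
  obtain ⟨f, hfd⟩ : ∃ f, f = Matrix.toLin' (x : Matrix (Fin d ⊕ Fin d) (Fin d ⊕ Fin d) F) := ⟨_, rfl⟩
  have hf : ∀ v, f (f v) = z • v := fun v => by
    rw [hfd, Matrix.toLin'_apply, Matrix.toLin'_apply, Matrix.mulVec_mulVec, ← Submonoid.coe_mul, ← pow_two, hx,
      Matrix.smul_mulVec, Matrix.one_mulVec]
  have hinj : Function.Injective f := by
    rw [hfd]; exact Classical.sp_mulVec_injective x
  obtain ⟨k, hk⟩ : ∃ k, d = k + 1 := ⟨d - 1, by
    have : 2 * 2 ≤ a * t := Nat.mul_le_mul ha ht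
    omega⟩
  have hz : z ≠ 0 := by
    intro h
    have h1 : (Pi.single (Sum.inl (⟨0, by omega⟩ : Fin d)) 1 : Fin d ⊕ Fin d → F) = 0 :=
      hinj (hinj (by rw [hf, h, zero_smul, map_zero, map_zero]))
    simpa using congrFun h1 (Sum.inl ⟨0, by omega⟩)
  have hB : ∀ u v, B (f u) (f v) = B u v := fun u v => by rw [hBa, hBa, hfd]; exact Classical.sp_form x u v
  have halt : ∀ v, B v v = 0 := fun v => by rw [hBa]; exact Classical.sympForm_self v
  have hnd : ∀ u, (∀ v, B u v = 0) → u = 0 := fun u h => Classical.sympForm_nondeg fun v => by rw [← hBa]; exact h v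
  obtain ⟨ι, hι, v, w, π, ⟨hπ, h1, h2, h3⟩, hspan⟩ := exists_planes halt hz hf hB (X := ⊤)
    (fun _ _ => Submodule.mem_top) (fun u _ h => hnd u fun v => h v Submodule.mem_top)
  have hind : LinearIndependent F (Sum.elim v w) := by
    rw [Fintype.linearIndependent_iff]
    intro g hg
    simp only [Fintype.sum_sum_type, Sum.elim_inl, Sum.elim_inr] at hg
    rintro (j | j)
    · have h := congrArg (fun y => B y (w j)) hg
      simp only [map_add, LinearMap.add_apply, map_sum, LinearMap.sum_apply, map_smul, LinearMap.smul_apply,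
        (h2 _ _).2.1, smul_zero, Finset.sum_const_zero, add_zero, map_zero, LinearMap.zero_apply] at h
      rw [Finset.sum_eq_single j (fun i _ hi => by rw [(h2 i j).2.2 hi, smul_zero]) (by simp), h1, smul_eq_mul,
        mul_one] at h
      exact h
    · have h := congrArg (fun y => B y (v j)) hg
      simp only [map_add, LinearMap.add_apply, map_sum, LinearMap.sum_apply, map_smul, LinearMap.smul_apply,
        (h2 _ _).1, smul_zero, Finset.sum_const_zero, zero_add, map_zero, LinearMap.zero_apply] at h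
      rw [Finset.sum_eq_single j (fun i _ hi => by
          rw [alt_swap halt (v j) (w i), (h2 j i).2.2 (Ne.symm hi), neg_zero, smul_zero]) (by simp),
        alt_swap halt (v j) (w j), h1, smul_eq_mul, mul_neg, mul_one, neg_eq_zero] at h
      exact h
  obtain ⟨m, hm⟩ := hae
  have hcard : Fintype.card ι = t * m := by
    have hs : Submodule.span F (Set.range (Sum.elim v w)) = ⊤ := by rw [Set.Sum.elim_range]; exact hspan
    have h := Module.finrank_eq_card_basis (Module.Basis.mk hind hs.ge)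
    simp only [Module.finrank_pi, Fintype.card_sum, Fintype.card_fin] at h
    have : 2 * Fintype.card ι = 2 * (t * m) := by
      rw [show 2 * Fintype.card ι = 2 * d by omega, hat, hm]; ring
    omega
  let e₀ : ι ≃ Fin t × Fin m := Fintype.equivOfCardEq (by simp [hcard])
  obtain ⟨u, hu⟩ : ∃ u : Equiv.Perm (Fin t × Fin m), u = (e₀.symm.trans π).trans e₀ := ⟨_, rfl⟩
  have hu2 : ∀ y, u (u y) = y := fun y => by rw [hu]; simp [hπ]
  obtain ⟨l, hl⟩ : ∃ l, Nat.card {y // u y ≠ y} = 2 * l := by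
    haveI : Fact (Nat.Prime 2) := ⟨Nat.prime_two⟩
    have h := Equiv.Perm.card_compl_support_modEq (p := 2) (n := 1) (σ := u)
      (by rw [pow_one, sq]; exact Equiv.ext hu2)
    rw [Finset.card_compl] at h
    have hs : Nat.card {y // u y ≠ y} = u.support.card := by
      rw [Nat.card_eq_fintype_card, Fintype.card_subtype]; rfl
    have hle := Finset.card_le_univ u.support
    unfold Nat.ModEq at h
    exact ⟨u.support.card / 2, by rw [hs]; omega⟩
  obtain ⟨s, hs1, hs2, τ, hτ⟩ := InvolDecomp.good_fin (a := m) t l (by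
    rw [← hl]; exact (Finite.card_subtype_le _).trans (by simp))
  obtain ⟨g, hg⟩ := InvolDecomp.perm_conj hu2 hs1 (hl.trans hs2.symm)
  obtain ⟨E, hE⟩ : ∃ E : ι ≃ Fin t × Fin m, ∀ i, E (π i) = s (E i) :=
    ⟨e₀.trans g, fun i => by
      have h := hg (e₀ i)
      rw [hu] at h
      simpa using h⟩
  obtain ⟨D, hD⟩ : ∃ D : Fin t → Submodule F (Fin d ⊕ Fin d → F),
      ∀ j, D j = Submodule.span F (Set.range fun y : Fin m ⊕ Fin m =>
        Sum.elim (fun k => v (E.symm (j, k))) (fun k => w (E.symm (j, k))) y) := ⟨_, fun j => rfl⟩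
  have hgen : ∀ i, v i ∈ D (E i).1 ∧ w i ∈ D (E i).1 := fun i => by
    rw [hD]
    exact ⟨Submodule.subset_span ⟨.inl (E i).2, by simp⟩, Submodule.subset_span ⟨.inr (E i).2, by simp⟩⟩
  have horth : ∀ j j', j ≠ j' → ∀ a ∈ D j, ∀ b ∈ D j', B a b = 0 := by
    intro j j' hj a ha b hb
    rw [hD] at ha hb
    induction ha using Submodule.span_induction with
    | zero => simp
    | add y y' _ _ h h' => simp [h, h']
    | smul c y _ h => simp [h]
    | mem y hy =>
      induction hb using Submodule.span_induction with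
      | zero => simp
      | add b b' _ _ h h' => simp [h, h']
      | smul c b _ h => simp [h]
      | mem b hb =>
        obtain ⟨y, rfl⟩ := hy
        obtain ⟨b, rfl⟩ := hb
        have hne : ∀ k k', E.symm (j, k) ≠ E.symm (j', k') := fun k k' h => hj (congrArg Prod.fst (E.symm.injective h))
        rcases y with k | k <;> rcases b with k' | k' <;> simp only [Sum.elim_inl, Sum.elim_inr]
        · exact (h2 _ _).1
        · exact (h2 _ _).2.2 (hne k k')
        · rw [alt_swap halt (v (E.symm (j', k'))) (w (E.symm (j, k))), (h2 _ _).2.2 (hne k k').symm, neg_zero]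
        · exact (h2 _ _).2.1
  have htop : iSup D = ⊤ := by
    rw [eq_top_iff, ← hspan, Submodule.span_le]
    rintro _ (⟨i, rfl⟩ | ⟨i, rfl⟩)
    · exact Submodule.mem_iSup_of_mem _ (hgen i).1
    · exact Submodule.mem_iSup_of_mem _ (hgen i).2
  have hrank : ∀ j, Module.finrank F (D j) = a := fun j => by
    rw [hD, finrank_span_eq_card, Fintype.card_sum, Fintype.card_fin, hm]
    have := hind.comp (Sum.map (fun k => E.symm (j, k)) (fun k => E.symm (j, k)))
      (Sum.map_injective.2 ⟨fun k k' h => (Prod.ext_iff.1 (E.symm.injective h)).2,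
        fun k k' h => (Prod.ext_iff.1 (E.symm.injective h)).2⟩)
    rwa [Sum.elim_comp_map] at this
  have hperp : ∀ j, ∀ u ∈ D j, (∀ y ∈ D j, B u y = 0) → u = 0 := by
    intro j u hu h
    refine hnd u fun y => ?_
    have hy : y ∈ iSup D := htop ▸ Submodule.mem_top
    refine Submodule.iSup_induction D (motive := fun y => B u y = 0) hy (fun j' y hy => ?_) (map_zero _)
      (fun a b ha hb => by rw [map_add, ha, hb, add_zero])
    by_cases hj : j = j'
    · exact h y (hj ▸ hy)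
    · exact horth j j' hj u hu y hy
  refine ⟨D, ⟨⟨ht, by omega, hrank, fun j => ?_, htop⟩, fun j u hu hu0 => ?_, fun j j' hj u hu v hv => ?_⟩, τ,
    fun j => ?_⟩
  · rw [disjoint_iff, eq_bot_iff]
    rintro y ⟨hy, hy'⟩
    refine (Submodule.mem_bot F).2 (hperp j y hy fun b hb => ?_)
    rw [alt_swap halt b y]
    rw [SetLike.mem_coe, iSup_subtype'] at hy'
    rw [show B b y = 0 from Submodule.iSup_induction (fun i : {i // i ≠ j} => D i) (motive := fun y => B b y = 0) hy'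
      (fun i y hy => horth j i i.2.symm b hb y hy) (map_zero _) (fun a b ha hb => by rw [map_add, ha, hb, add_zero]),
      neg_zero]
  · by_contra! h
    exact hu0 (hperp j u hu fun y hy => by rw [hBa]; exact h y hy)
  · rw [← hBa]; exact horth j j' hj u hu v hv
  · rw [← hfd]
    refine Submodule.eq_of_le_of_finrank_eq ?_ ?_
    · rw [hD j, Submodule.map_span_le]
      rintro _ ⟨y, rfl⟩
      have hplane : ∀ k, Submodule.span F {v (π (E.symm (j, k))), w (π (E.symm (j, k)))} ≤ D (τ j) := fun k => by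
        rw [Submodule.span_le, Set.insert_subset_iff, Set.singleton_subset_iff]
        have : (E (π (E.symm (j, k)))).1 = τ j := by rw [hE, Equiv.apply_symm_apply, hτ]
        exact this ▸ hgen _
      rcases y with k | k
      · exact hplane k (h3 _).1
      · exact hplane k (h3 _).2
    · rw [hrank (τ j)]
      exact ((Submodule.equivMapOfInjective f hinj (D j)).finrank_eq).symm.trans (hrank j)

end CfsgLib.Classical22.InvolSpDecomp
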