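/-
Involutions of `PSL_n` and subfield subgroups.
-/
import Cfsg.Agent.Lib.Classical22.InvolClasses
import Cfsg.Agent.Lib.Classical22.InvolArith
import Cfsg.Agent.Lib.Classical.GLOrder
import Cfsg.Prelude.Def_GeometricClasses

set_option autoImplicit false

namespace CfsgLib.Classical22.InvolSubfield

open Matrix CfsgLib.Classical22.Monomial CfsgLib.Classical22.InvolClasses

theorem geom_odd {x : ℕ} (hx : Odd x) : ∀ k : ℕ, Odd k → ∃ c, Odd c ∧ x ^ k - 1 = (x - 1) * c := by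
  rintro k ⟨j, rfl⟩
  obtain ⟨y, rfl⟩ : ∃ y, x = y + 1 := ⟨x - 1, by obtain ⟨l, rfl⟩ := hx; omega⟩
  induction j with
  | zero => exact ⟨1, odd_one, by simp⟩
  | succ j ih =>
    obtain ⟨c, hc, he⟩ := ih
    refine ⟨c * (y + 1) ^ 2 + ((y + 1) + 1), (hc.mul hx.pow).add_even hx.add_one, ?_⟩
    have h1 : 1 ≤ (y + 1) ^ (2 * j + 1) := Nat.one_le_pow _ _ (by omega)
    have h2 : (y + 1) ^ (2 * j + 1) = y * c + 1 := by
      rw [Nat.add_sub_cancel] at he; omega
    rw [show 2 * (j + 1) + 1 = (2 * j + 1) + 2 by ring, pow_add, h2, Nat.add_sub_cancel]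
    exact Nat.sub_eq_of_eq_add (by ring)

variable {F : Type*} [Field F] [Fintype F] {n : ℕ}

theorem subfieldSubgroup_one (F₀ : Subfield F) :
    Cfsg.Geo.subfieldSubgroup F₀ (1 : GL (Fin n) F) =
      (Matrix.GeneralLinearGroup.map (F₀.subtype : F₀ →+* F)).range ⊔ Cfsg.Geo.scalars (Fin n) F := by
  ext g
  simp [Cfsg.Geo.subfieldSubgroup]

theorem map_mono (F₀ : Subfield F) (σ : Equiv.Perm (Fin n)) (c : Fin n → F₀ˣ) :
    Matrix.GeneralLinearGroup.map (F₀.subtype : F₀ →+* F) (mono σ c) =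
      mono σ (fun i => Units.map (F₀.subtype : F₀ →+* F).toMonoidHom (c i)) := by
  refine Units.ext (Matrix.ext fun i j => ?_)
  rw [Matrix.GeneralLinearGroup.map_apply, mono_apply, mono_apply]
  split_ifs <;> simp

theorem mono_mem (F₀ : Subfield F) (σ : Equiv.Perm (Fin n)) (s : Fˣ) (c : Fin n → Fˣ)
    (hc : ∀ i, c i = s ∨ c i = -s) : mono σ c ∈ Cfsg.Geo.subfieldSubgroup F₀ (1 : GL (Fin n) F) := by
  classical
  obtain ⟨ε, hε⟩ : ∃ ε : Fin n → F₀ˣ, ∀ i, c i = Units.map (F₀.subtype : F₀ →+* F).toMonoidHom (ε i) * s := by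
    refine ⟨fun i => if c i = s then 1 else -1, fun i => ?_⟩
    by_cases h : c i = s
    · simp [h]
    · dsimp only
      rw [if_neg h, (hc i).resolve_left h]
      exact Units.ext (by simp)
  have : mono σ c = Matrix.GeneralLinearGroup.map (F₀.subtype : F₀ →+* F) (mono σ ε) *
      Units.map (Matrix.scalar (Fin n) : F →+* Matrix (Fin n) (Fin n) F).toMonoidHom s := by
    rw [map_mono]
    refine Units.ext (Matrix.ext fun i j => ?_)
    rw [Units.val_mul]
    simp only [Units.coe_map, RingHom.toMonoidHom_eq_coe, MonoidHom.coe_coe, Matrix.scalar_apply,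
      Matrix.mul_diagonal, mono_apply, hε, Units.val_mul]
    split_ifs <;> simp
  rw [this, subfieldSubgroup_one]
  exact Subgroup.mul_mem_sup ⟨_, rfl⟩ ⟨_, rfl⟩

theorem sq_mem {F₀ : Subfield F} {g : GL (Fin n) F} (hn : 0 < n) {z : F}
    (hg : (g : Matrix (Fin n) (Fin n) F) * g = z • 1) (h : g ∈ Cfsg.Geo.subfieldSubgroup F₀ (1 : GL (Fin n) F)) :
    ∃ w ∈ F₀, ∃ a : F, z = a ^ 2 * w := by
  haveI : (Cfsg.Geo.scalars (Fin n) F).Normal := ⟨by
    rintro _ ⟨a, rfl⟩ b
    have e : Commute b (Units.map (Matrix.scalar (Fin n) : F →+* Matrix (Fin n) (Fin n) F).toMonoidHom a) := by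
      refine Units.ext ?_
      simp only [Units.val_mul, Units.coe_map]
      exact (Matrix.scalar_commute _ (fun r => Commute.all _ r) _).symm.eq
    rw [e.eq, mul_inv_cancel_right]
    exact ⟨a, rfl⟩⟩
  rw [subfieldSubgroup_one, Subgroup.mem_sup_of_normal_right] at h
  obtain ⟨_, ⟨g₀, rfl⟩, _, ⟨a, rfl⟩, rfl⟩ := h
  · refine ⟨(((g₀ * g₀ : GL (Fin n) F₀) : Matrix (Fin n) (Fin n) F₀) ⟨0, hn⟩ ⟨0, hn⟩ : F₀), Subtype.coe_prop _, a, ?_⟩
    simp only [Units.val_mul] at hg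
    have e : ((Units.map (Matrix.scalar (Fin n) : F →+* Matrix (Fin n) (Fin n) F).toMonoidHom a : GL (Fin n) F) :
        Matrix (Fin n) (Fin n) F) = (a : F) • 1 := by
      rw [Matrix.smul_one_eq_diagonal]; rfl
    rw [e, mul_smul_comm, mul_one, smul_mul_assoc, mul_smul_comm, smul_smul,
      ← Units.val_mul (Matrix.GeneralLinearGroup.map (F₀.subtype : F₀ →+* F) g₀), ← map_mul] at hg
    have h' := congrFun (congrFun hg ⟨0, hn⟩) ⟨0, hn⟩
    simp only [Matrix.smul_apply, Matrix.GeneralLinearGroup.map_apply, Matrix.one_apply_eq, smul_eq_mul,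
      mul_one] at h'
    rw [← h', sq]
    rfl

theorem index_odd {q q₀ k : ℕ} (hn : 0 < n) (hq : Fintype.card F = q) (F₀ : Subfield F) (hF₀ : Nat.card F₀ = q₀)
    (hqk : q = q₀ ^ k) (hk : Odd k) (hodd : Odd q) :
    ¬ 2 ∣ ((Cfsg.Geo.subfieldSubgroup F₀ 1).comap
      (Matrix.SpecialLinearGroup.toGL : Matrix.SpecialLinearGroup (Fin n) F →* GL (Fin n) F)).index := by
  classical
  letI := Fintype.ofFinite F₀
  haveI : Nonempty (Fin n) := ⟨⟨0, hn⟩⟩
  rw [Nat.card_eq_fintype_card] at hF₀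
  have hq0 : Odd q₀ := by
    rw [hqk, Nat.odd_pow_iff (by obtain ⟨j, rfl⟩ := hk; omega)] at hodd
    exact hodd
  obtain ⟨O, hO, hOe⟩ : ∃ O, Odd O ∧ Nat.card (GL (Fin n) F) = Nat.card (GL (Fin n) F₀) * O := by
    rw [Matrix.card_GL_field, Matrix.card_GL_field, hq, hF₀]
    have gen : ∀ a m : ℕ, ∃ c, Odd c ∧ q ^ (a + m) - q ^ a = (q₀ ^ (a + m) - q₀ ^ a) * c := by
      intro a m
      obtain ⟨c, hc, he⟩ := geom_odd (hq0.pow (n := m)) k hk
      obtain ⟨l, rfl⟩ : ∃ l, k = l + 1 := ⟨k - 1, by obtain ⟨j, rfl⟩ := hk; omega⟩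
      refine ⟨(q₀ ^ a) ^ l * c, hq0.pow.pow.mul hc, ?_⟩
      rw [hqk, pow_add, ← pow_mul q₀ (l + 1) a, mul_comm (l + 1) a, pow_mul q₀ a, ← pow_mul q₀ (l + 1) m,
        mul_comm (l + 1) m, pow_mul q₀ m, ← Nat.mul_sub_one, he,
        show q₀ ^ (a + m) - q₀ ^ a = q₀ ^ a * (q₀ ^ m - 1) by rw [Nat.mul_sub_one, ← pow_add]]
      ring
    have hterm : ∀ i : Fin n, ∃ c, Odd c ∧ q ^ n - q ^ i.val = (q₀ ^ n - q₀ ^ i.val) * c := fun i => by
      have := gen i.val (n - i.val)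
      rwa [Nat.add_sub_cancel' i.isLt.le] at this
    choose c hc hce using hterm
    refine ⟨∏ i, c i, Finset.prod_induction _ Odd (fun a b ha hb => ha.mul hb) odd_one fun i _ => hc i, ?_⟩
    rw [← Finset.prod_mul_distrib]
    exact Finset.prod_congr rfl fun i _ => hce i
  obtain ⟨O₁, hO₁, hO₁e⟩ := geom_odd hq0 k hk
  rw [← hqk] at hO₁e
  rw [← CfsgLib.Classical.card_units_mul_card_SL, ← CfsgLib.Classical.card_units_mul_card_SL,
    CfsgLib.Classical.card_units_eq hq, CfsgLib.Classical.card_units_eq hF₀, hO₁e] at hOe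
  obtain ⟨H, hH⟩ : ∃ H, H = (Cfsg.Geo.subfieldSubgroup F₀ 1).comap
      (Matrix.SpecialLinearGroup.toGL : Matrix.SpecialLinearGroup (Fin n) F →* GL (Fin n) F) := ⟨_, rfl⟩
  obtain ⟨t, ht⟩ : Nat.card (SpecialLinearGroup (Fin n) F₀) ∣ Nat.card H := by
    have hinj : Function.Injective (SpecialLinearGroup.map (F₀.subtype : F₀ →+* F) :
        SpecialLinearGroup (Fin n) F₀ →* _) := fun a b h => Subtype.ext
      (Matrix.map_injective F₀.subtype.injective (congrArg Subtype.val h))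
    rw [Nat.card_congr (MonoidHom.ofInjective hinj).toEquiv]
    refine Subgroup.card_dvd_of_le ?_
    rintro _ ⟨a, rfl⟩
    rw [hH, Subgroup.mem_comap, subfieldSubgroup_one]
    exact Subgroup.mem_sup_left ⟨SpecialLinearGroup.toGL a, Units.ext rfl⟩
  rw [← hH]
  intro h2
  rw [← Subgroup.index_mul_card H, ht] at hOe
  have hpos : 0 < (q₀ - 1) * Nat.card (SpecialLinearGroup (Fin n) F₀) := by
    refine Nat.mul_pos ?_ Nat.card_pos
    have : 1 < q₀ := hF₀ ▸ Fintype.one_lt_card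
    omega
  have hfin : H.index * t * O₁ = O := by
    refine Nat.eq_of_mul_eq_mul_left hpos ?_
    rw [← hOe]
    ring
  exact (Nat.not_even_iff_odd.2 hO) (hfin ▸ even_iff_two_dvd.2 (dvd_mul_of_dvd_left (dvd_mul_of_dvd_left h2 _) _))

theorem involutions_iff {q q₀ k : ℕ} (hq : Fintype.card F = q) (hn : 2 ≤ n) (F₀ : Subfield F) (hk : k.Prime)
    (hF₀ : Nat.card F₀ = q₀) (hqk : q = q₀ ^ k)
    (hΩ : 2 ∣ ((Cfsg.Geo.subfieldSubgroup F₀ 1).comap
      (Matrix.SpecialLinearGroup.toGL : Matrix.SpecialLinearGroup (Fin n) F →* GL (Fin n) F)).index) :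
    (∀ x : Matrix.SpecialLinearGroup (Fin n) F,
      (∃ z : F, ((x ^ 2 : Matrix.SpecialLinearGroup (Fin n) F) : Matrix (Fin n) (Fin n) F) =
        z • (1 : Matrix (Fin n) (Fin n) F)) →
      (∀ z : F, (x : Matrix (Fin n) (Fin n) F) ≠ z • (1 : Matrix (Fin n) (Fin n) F)) →
      ∃ P : Matrix.SpecialLinearGroup (Fin n) F, P⁻¹ * x * P ∈ ((Cfsg.Geo.subfieldSubgroup F₀ 1).comap
        (Matrix.SpecialLinearGroup.toGL : Matrix.SpecialLinearGroup (Fin n) F →* GL (Fin n) F))) ↔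
    (Odd q → (k = 2 ∧ padicValNat 2 n ≤ padicValNat 2 (q - 1))) := by
  classical
  have hk2 : Odd q → k = 2 := fun hodd => hk.eq_two_or_odd'.resolve_right fun h =>
    index_odd (by omega) hq F₀ hF₀ hqk h hodd hΩ
  have hqmod : Odd q → q % 4 = 1 := fun hodd => by
    have h2 := hk2 hodd
    rw [hqk, h2] at hodd ⊢
    obtain ⟨j, hj⟩ := (Nat.odd_pow_iff (by norm_num)).1 hodd
    rw [hj, show (2 * j + 1) ^ 2 = 1 + 4 * (j * j + j) by ring]
    omega
  have hm1 : Odd q → ∃ r : F, r ^ 2 = -1 := fun hodd => by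
    obtain ⟨r, hr⟩ := FiniteField.isSquare_neg_one_iff.2 (show Fintype.card F % 4 ≠ 3 by rw [hq, hqmod hodd]; omega)
    exact ⟨r, by rw [sq, ← hr]⟩
  constructor
  · intro hall hodd
    refine ⟨hk2 hodd, ?_⟩
    by_contra hlt
    push Not at hlt
    have hn2 : 2 ∣ n := by
      by_contra h
      rw [padicValNat.eq_zero_of_not_dvd h] at hlt
      omega
    obtain ⟨m, rfl⟩ := hn2
    rw [padicValNat.mul (by norm_num) (by omega), padicValNat.self (by norm_num)] at hlt
    obtain ⟨w, hw, hwm⟩ := (InvolArith.nonsquare_root_iff hq hodd (m := m) (by omega)).2 (by omega)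
    obtain ⟨r, hr⟩ := hm1 hodd
    have hw0 : -w ≠ 0 := neg_ne_zero.2 fun h => hw 0 (by rw [h]; ring)
    have hns : ∀ s : F, s ^ 2 ≠ -w := fun s h => hw (r * s) (by rw [mul_pow, hr, h]; ring)
    obtain ⟨z, hz⟩ : ∃ z : Fˣ, (z : F) = -w := ⟨Units.mk0 _ hw0, rfl⟩
    obtain ⟨e, -⟩ : ∃ e : Fin 2 × Fin m ≃ Fin (2 * m), True := ⟨finProdFinEquiv, trivial⟩
    obtain ⟨g, hgd⟩ : ∃ g, g = mono (pairSwap e) (pairCoeff e z) := ⟨_, rfl⟩
    have hdet : (g : Matrix (Fin (2 * m)) (Fin (2 * m)) F).det = 1 := by rw [hgd, det_pair, hz, neg_neg, hwm]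
    obtain ⟨x, hx⟩ : ∃ x : SpecialLinearGroup (Fin (2 * m)) F, SpecialLinearGroup.toGL x = g :=
      ⟨⟨_, hdet⟩, Units.ext rfl⟩
    have hgg : (g : Matrix (Fin (2 * m)) (Fin (2 * m)) F) * g = (z : F) • 1 := by
      rw [hgd, pair_eq_block, Matrix.reindex_apply, Matrix.submatrix_mul_equiv, ← blockDiagonal_mul]
      ext i j
      simp only [Matrix.submatrix_apply, blockDiagonal_apply, Matrix.smul_apply, Matrix.one_apply, smul_eq_mul]
      obtain ⟨⟨a, i⟩, rfl⟩ := e.surjective i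
      obtain ⟨⟨b, j⟩, rfl⟩ := e.surjective j
      by_cases hij : i = j
      · subst hij
        fin_cases a <;> fin_cases b <;> simp
      · simp [hij]
    have hxv : (x : Matrix (Fin (2 * m)) (Fin (2 * m)) F) = g := by rw [← hx]; rfl
    obtain ⟨P, hP⟩ := hall x ⟨z, by simp only [pow_two, Matrix.SpecialLinearGroup.coe_mul, hxv, hgg]⟩ (fun c hc => by
      rw [hxv] at hc
      rw [hc, smul_mul_assoc, one_mul, smul_smul] at hgg
      have h := congrFun (congrFun hgg ⟨0, by omega⟩) ⟨0, by omega⟩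
      simp at h
      exact hns c (by rw [sq, h, hz]))
    rw [Subgroup.mem_comap, map_mul, map_mul, map_inv, hx] at hP
    obtain ⟨v, hv, a, hza⟩ := sq_mem (by omega) (z := (z : F)) (by
      rw [← Units.val_mul,
        show (SpecialLinearGroup.toGL P)⁻¹ * g * SpecialLinearGroup.toGL P *
          ((SpecialLinearGroup.toGL P)⁻¹ * g * SpecialLinearGroup.toGL P) =
          (SpecialLinearGroup.toGL P)⁻¹ * (g * g) * SpecialLinearGroup.toGL P by group, Units.val_mul, Units.val_mul,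
        Units.val_mul, hgg, mul_smul_comm, mul_one, smul_mul_assoc, ← Units.val_mul, inv_mul_cancel,
        Units.val_one]) hP
    -- every element of F₀ is a square
    have hsq : ∃ b : F, b ^ 2 = v := by
      by_cases hv0 : v = 0
      · exact ⟨0, by rw [hv0]; ring⟩
      · have h2 := InvolArith.two_ne_zero_of_odd hq hodd
        letI := Fintype.ofFinite F₀
        have hq0 : q = q₀ ^ 2 := by rw [hqk, hk2 hodd]
        obtain ⟨j, hj⟩ := (Nat.odd_pow_iff (two_ne_zero)).1 (hq0 ▸ hodd)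
        have hv1 : v ^ (q₀ - 1) = 1 := by
          have h := FiniteField.pow_card_sub_one_eq_one (⟨v, hv⟩ : F₀) (fun h => hv0 (congrArg Subtype.val h))
          rw [← Nat.card_eq_fintype_card, hF₀] at h
          simpa using congrArg Subtype.val h
        have hhalf : q / 2 = (q₀ - 1) * (j + 1) := by
          rw [hq0, hj, Nat.add_sub_cancel, show (2 * j + 1) ^ 2 = 2 * (2 * j * (j + 1)) + 1 by ring]
          omega
        obtain ⟨b, hb⟩ := (FiniteField.isSquare_iff (fun h => h2 (by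
          haveI : CharP F 2 := h ▸ ringChar.charP F
          exact CharTwo.two_eq_zero)) hv0).2 (by rw [hq, hhalf, pow_mul, hv1, one_pow])
        exact ⟨b, by rw [sq, ← hb]⟩
    obtain ⟨b, hb⟩ := hsq
    exact hns (a * b) (by rw [mul_pow, hb, ← hza, hz])
  · intro hcond x ⟨z, hz⟩ _
    simp only [pow_two, Matrix.SpecialLinearGroup.coe_mul] at hz
    have hn0 : 0 < n := by omega
    have finish : ∀ (P : GL (Fin n) F) σ (s : Fˣ) (c : Fin n → Fˣ), P⁻¹ * SpecialLinearGroup.toGL x * P = mono σ c →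
        (∀ i, c i = s ∨ c i = -s) → ∃ P : Matrix.SpecialLinearGroup (Fin n) F, P⁻¹ * x * P ∈
          ((Cfsg.Geo.subfieldSubgroup F₀ 1).comap
            (Matrix.SpecialLinearGroup.toGL : Matrix.SpecialLinearGroup (Fin n) F →* GL (Fin n) F)) := by
      intro P σ s c hP hc
      obtain ⟨P', hP'⟩ := conj_sl hn0 x hz P
      exact ⟨P', by rw [Subgroup.mem_comap, hP', hP]; exact mono_mem F₀ σ s c hc⟩
    by_cases h2 : (2 : F) = 0
    · obtain ⟨s, P, σ, -, -, hP⟩ := exists_char_two h2 hn0 (g := SpecialLinearGroup.toGL x) hz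
      exact finish P σ s _ hP fun i => Or.inl rfl
    have hodd : Odd q := hq ▸ Nat.odd_iff.2 (FiniteField.odd_card_of_char_ne_two fun h => h2 (by
      haveI : CharP F 2 := h ▸ ringChar.charP F
      exact CharTwo.two_eq_zero))
    obtain ⟨zu, rfl⟩ : ∃ zu : Fˣ, (zu : F) = z :=
      ⟨Units.mk0 z (sq_ne_zero (g := SpecialLinearGroup.toGL x) hz hn0), rfl⟩
    by_cases hsq : ∃ s : F, s ^ 2 = zu
    · obtain ⟨s₀, hs₀⟩ := hsq
      obtain ⟨s, rfl⟩ : ∃ s : Fˣ, (s : F) = s₀ :=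
        ⟨Units.mk0 s₀ (fun h => zu.ne_zero (by rw [← hs₀, h]; ring)), rfl⟩
      obtain ⟨P, c, hP, hc⟩ := exists_diag h2 (g := SpecialLinearGroup.toGL x) (s := s) (by rw [hs₀]; exact hz)
      exact finish P 1 s c hP hc
    · exfalso
      push Not at hsq
      obtain ⟨m, e, P, hP⟩ := exists_nonsquare (g := SpecialLinearGroup.toGL x) hz hsq
      have hnm : n = 2 * m := by simpa using (Fintype.card_congr e).symm
      have hdet : (-(zu : F)) ^ m = 1 := by
        rw [← det_pair e zu, ← hP, ← Matrix.GeneralLinearGroup.val_det_apply, map_mul, map_mul, map_inv,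
          inv_mul_cancel_comm]
        simp
      obtain ⟨r, hr⟩ := hm1 hodd
      have h := (InvolArith.nonsquare_root_iff hq hodd (m := m) (by omega)).1
        ⟨-(zu : F), fun s hs => hsq (r * s) (by rw [mul_pow, hr, hs]; ring), hdet⟩
      have h' := (hcond hodd).2
      rw [hnm, padicValNat.mul (by norm_num) (by omega), padicValNat.self (by norm_num)] at h'
      omega

end CfsgLib.Classical22.InvolSubfield
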