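/-
Involutions of `PSL_n` and symplectic similitude groups.
-/
import Cfsg.Agent.Lib.Classical22.InvolPairing

set_option autoImplicit false

namespace CfsgLib.Classical22.InvolSymplectic

open Matrix CfsgLib.Classical22.Monomial CfsgLib.Classical22.InvolClasses CfsgLib.Classical22.InvolPairing

variable {F : Type*} [Field F] [Fintype F] {n : ℕ}

theorem finish {f : (Fin n → F) → (Fin n → F) → F} (hf : Cfsg.Geo.IsSymplecticForm f) (hn : 0 < n)
    {x : SpecialLinearGroup (Fin n) F} {z : F} (hz : (x : Matrix (Fin n) (Fin n) F) * x = z • 1)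
    {P : GL (Fin n) F} {σ : Equiv.Perm (Fin n)} {c : Fin n → Fˣ}
    (hP : P⁻¹ * SpecialLinearGroup.toGL x * P = mono σ c)
    {π : Equiv.Perm (Fin n)} {ε : Fin n → Bool} (H : Paired π ε) (hcomm : ∀ j, π (σ j) = σ (π j)) (μ : Fˣ)
    (h : ∀ j, sgn F (ε (σ j)) * (c j * c (π j)) = μ * sgn F (ε j)) :
    ∃ P : SpecialLinearGroup (Fin n) F, P⁻¹ * x * P ∈ (Cfsg.Geo.similarityGroup f).comap
      (SpecialLinearGroup.toGL : SpecialLinearGroup (Fin n) F →* GL (Fin n) F) := by
  obtain ⟨Q, hQ⟩ := form_equiv hf (pairForm_symplectic H)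
  obtain ⟨P', hP'⟩ := conj_sl hn x hz (P * Q⁻¹)
  refine ⟨P', ?_⟩
  rw [Subgroup.mem_comap, hP', show (P * Q⁻¹)⁻¹ * SpecialLinearGroup.toGL x * (P * Q⁻¹) =
    Q * (P⁻¹ * SpecialLinearGroup.toGL x * P) * Q⁻¹ by group, hP]
  refine ⟨μ, fun u v => ?_⟩
  simp only [Units.val_mul, ← mulVec_mulVec]
  rw [hQ, mono_similar π ε σ c hcomm h, ← hQ]
  simp [mulVec_mulVec]

theorem involutions_iff {q : ℕ} (hq : Fintype.card F = q) (hn : 4 ≤ n) (he : Even n)
    (f : (Fin n → F) → (Fin n → F) → F) (hf : Cfsg.Geo.IsSymplecticForm f) :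
    (∀ x : Matrix.SpecialLinearGroup (Fin n) F,
      (∃ z : F, ((x ^ 2 : Matrix.SpecialLinearGroup (Fin n) F) : Matrix (Fin n) (Fin n) F) =
        z • (1 : Matrix (Fin n) (Fin n) F)) →
      (∀ z : F, (x : Matrix (Fin n) (Fin n) F) ≠ z • (1 : Matrix (Fin n) (Fin n) F)) →
      ∃ P : Matrix.SpecialLinearGroup (Fin n) F, P⁻¹ * x * P ∈ ((Cfsg.Geo.similarityGroup f).comap
        (Matrix.SpecialLinearGroup.toGL : Matrix.SpecialLinearGroup (Fin n) F →* GL (Fin n) F))) ↔
    padicValNat 2 (q - 1) ≤ padicValNat 2 n := by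
  classical
  have hn0 : 0 < n := by omega
  constructor
  · intro hall
    by_contra hlt
    push Not at hlt
    have hodd : Odd q := by
      by_contra h
      have h1 : 1 < q := hq ▸ Fintype.one_lt_card
      rw [padicValNat.eq_zero_of_not_dvd (n := q - 1) (fun h2 => h (Nat.odd_iff.2 (by omega)))] at hlt
      omega
    obtain ⟨s, x, -, hx⟩ := exists_bad hq hodd (by omega : 2 ≤ n) hlt
    obtain ⟨i₀, hi₀⟩ : ∃ i : Fin n, i = ⟨0, by omega⟩ := ⟨_, rfl⟩
    rw [← hi₀] at hx
    have h2 := InvolArith.two_ne_zero_of_odd hq hodd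
    obtain ⟨P, c, hPc⟩ := hall x ⟨(s : F) ^ 2, by
      simp only [pow_two, Matrix.SpecialLinearGroup.coe_mul, hx]
      rw [diagonal_mul_diagonal, Matrix.smul_one_eq_diagonal]
      congr 1; funext i; split_ifs <;> ring⟩ (fun z hz => by
        rw [hx, Matrix.smul_one_eq_diagonal] at hz
        have h := diagonal_injective hz
        have h0 := congrFun h i₀
        have h1 := congrFun h ⟨1, by omega⟩
        simp [hi₀, Fin.ext_iff] at h0 h1
        exact h2 ((mul_eq_zero.1 (show (2 : F) * s = 0 by linear_combination h1 - h0)).resolve_right s.ne_zero))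
    rw [map_mul, map_mul, map_inv] at hPc
    obtain ⟨G, hG⟩ : ∃ G : GL (Fin n) F, G = SpecialLinearGroup.toGL P := ⟨_, rfl⟩
    rw [← hG] at hPc
    obtain ⟨w, hw⟩ : ∃ w : Fin n → (Fin n → F), ∀ i, w i = ((G⁻¹ : GL (Fin n) F) : Matrix (Fin n) (Fin n) F) *ᵥ Pi.single i 1 :=
      ⟨_, fun i => rfl⟩
    have heig : ∀ i j, ((if i = i₀ then -(s : F) else s) * (if j = i₀ then -(s : F) else s)) * f (w i) (w j) =
        (c : F) * f (w i) (w j) := by
      intro i j
      rw [← hPc (w i) (w j)]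
      have key : ∀ i, ((G⁻¹ * SpecialLinearGroup.toGL x * G : GL (Fin n) F) : Matrix (Fin n) (Fin n) F) *ᵥ w i =
          (if i = i₀ then -(s : F) else s) • w i := by
        intro i
        rw [hw, mulVec_mulVec, ← Units.val_mul, mul_inv_cancel_right, Units.val_mul, ← mulVec_mulVec,
          show (SpecialLinearGroup.toGL x : Matrix (Fin n) (Fin n) F) = (x : Matrix (Fin n) (Fin n) F) from rfl, hx,
          diagonal_mulVec_single, ← mulVec_smul, ← Pi.single_smul, smul_eq_mul, mul_one]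
      rw [key, key, hf.bilinear.smul_left, hf.bilinear.smul_right, mul_assoc]
    have hrad : ∀ v, (∀ i, f v (w i) = 0) → v = 0 := by
      intro v hv
      by_contra hv0
      obtain ⟨u, hu⟩ := (hf.nondegenerate v hv0).2
      apply hu
      have hu' : u = ∑ i, ((G : Matrix (Fin n) (Fin n) F) *ᵥ u) i • w i := by
        conv_lhs => rw [← one_mulVec u, ← Units.val_one, ← inv_mul_cancel G, Units.val_mul, ← mulVec_mulVec,
          pi_eq_sum_univ' ((G : Matrix (Fin n) (Fin n) F) *ᵥ u)]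
        simp only [mulVec_sum, mulVec_smul, hw]
      obtain ⟨B, hB⟩ : ∃ B : (Fin n → F) →ₗ[F] (Fin n → F) →ₗ[F] F, ∀ a b, B a b = f a b :=
        ⟨LinearMap.mk₂ F f hf.bilinear.add_left hf.bilinear.smul_left hf.bilinear.add_right hf.bilinear.smul_right,
          fun a b => rfl⟩
      rw [hu', ← hB, map_sum]
      exact Finset.sum_eq_zero fun i _ => by rw [map_smul, hB, hv, smul_zero]
    have hwne : ∀ i, w i ≠ 0 := fun i h => by
      have h' := congrArg ((G : Matrix (Fin n) (Fin n) F) *ᵥ ·) h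
      simp only [hw, mulVec_zero, mulVec_mulVec, ← Units.val_mul, mul_inv_cancel, Units.val_one, one_mulVec] at h'
      simpa using congrFun h' i
    have hc : (c : F) = -((s : F) ^ 2) := by
      obtain ⟨j, hj⟩ : ∃ j, f (w i₀) (w j) ≠ 0 := by
        by_contra! h
        exact hwne i₀ (hrad _ h)
      have hne : j ≠ i₀ := fun h => hj (h ▸ hf.alternating _)
      have h := heig i₀ j
      rw [if_pos rfl, if_neg hne] at h
      rw [← mul_right_cancel₀ hj h]; ring
    have hperp : ∀ i j, i ≠ i₀ → j ≠ i₀ → f (w i) (w j) = 0 := fun i j hi hj => by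
      have h := heig i j
      rw [if_neg hi, if_neg hj, hc] at h
      have h' : (2 * (s : F) ^ 2) * f (w i) (w j) = 0 := by linear_combination h
      exact (mul_eq_zero.1 h').resolve_left (mul_ne_zero h2 (pow_ne_zero 2 s.ne_zero))
    obtain ⟨j₁, hj₁⟩ : ∃ j : Fin n, j = ⟨1, by omega⟩ := ⟨_, rfl⟩
    obtain ⟨j₂, hj₂⟩ : ∃ j : Fin n, j = ⟨2, by omega⟩ := ⟨_, rfl⟩
    have n1 : j₁ ≠ i₀ := by simp [hj₁, hi₀, Fin.ext_iff]
    have n2 : j₂ ≠ i₀ := by simp [hj₂, hi₀, Fin.ext_iff]
    have n12 : j₁ ≠ j₂ := by simp [hj₁, hj₂, Fin.ext_iff]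
    have hnz : f (w j₁) (w i₀) ≠ 0 := fun h => hwne j₁ (hrad _ fun i => by
      by_cases hi : i = i₀
      · rw [hi, h]
      · exact hperp _ _ n1 hi)
    have hzero : f (w j₂) (w i₀) • w j₁ - f (w j₁) (w i₀) • w j₂ = 0 := by
      refine hrad _ fun i => ?_
      rw [sub_eq_add_neg, ← neg_smul, hf.bilinear.add_left, hf.bilinear.smul_left, hf.bilinear.smul_left]
      by_cases hi : i = i₀
      · rw [hi]; ring
      · rw [hperp _ _ n1 hi, hperp _ _ n2 hi, mul_zero, mul_zero, add_zero]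
    have h' := congrFun (congrArg ((G : Matrix (Fin n) (Fin n) F) *ᵥ ·) hzero) j₂
    simp only [hw, mulVec_sub, mulVec_smul, mulVec_mulVec, ← Units.val_mul, mul_inv_cancel, Units.val_one, one_mulVec,
      mulVec_zero, Pi.sub_apply, Pi.smul_apply, smul_eq_mul, Pi.zero_apply] at h'
    simp [n12.symm] at h'
    exact hnz (by simpa [hw] using h')
  · intro hcond x ⟨z, hz⟩ _
    simp only [pow_two, Matrix.SpecialLinearGroup.coe_mul] at hz
    by_cases h2 : (2 : F) = 0
    · obtain ⟨s, P, σ, hσ, -, hP⟩ := exists_char_two h2 hn0 (g := SpecialLinearGroup.toGL x) hz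
      obtain ⟨π, ε, H, hcomm⟩ := exists_commuting he σ hσ
      haveI : CharP F 2 := CharTwo.of_one_ne_zero_of_two_eq_zero one_ne_zero h2
      refine finish hf hn0 hz hP H hcomm (s * s) fun j => ?_
      have hone : ∀ b, sgn F b = 1 := fun b => by cases b <;> simp [sgn, CharTwo.neg_eq]
      simp [hone]
    have hodd : Odd q := hq ▸ Nat.odd_iff.2 (FiniteField.odd_card_of_char_ne_two fun h => h2 (by
      haveI : CharP F 2 := h ▸ ringChar.charP F
      exact CharTwo.two_eq_zero))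
    obtain ⟨zu, rfl⟩ : ∃ zu : Fˣ, (zu : F) = z :=
      ⟨Units.mk0 z (sq_ne_zero (g := SpecialLinearGroup.toGL x) hz hn0), rfl⟩
    by_cases hsq : ∃ s : F, s ^ 2 = zu
    · obtain ⟨s₀, hs₀⟩ := hsq
      obtain ⟨s, rfl⟩ : ∃ s : Fˣ, (s : F) = s₀ :=
        ⟨Units.mk0 s₀ (fun h => zu.ne_zero (by rw [← hs₀, h]; ring)), rfl⟩
      obtain ⟨P, c, hP, hc⟩ := exists_diag h2 (g := SpecialLinearGroup.toGL x) (s := s) (by rw [hs₀]; exact hz)
      have hdet : (mono 1 c : Matrix (Fin n) (Fin n) F).det = 1 := by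
        rw [← hP, ← Matrix.GeneralLinearGroup.val_det_apply, map_mul, map_mul, map_inv, inv_mul_cancel_comm]
        simp
      have hcc : ∀ j, (c j : F) * c j = (s : F) ^ 2 := fun j => by
        rcases hc j with h | h <;> rw [h] <;> simp [sq]
      obtain ⟨π, ε, H, hcase⟩ := diag_pairing hq hodd he hn0 (Or.inr hcond) c hc hdet
      rcases hcase with hk | hk
      · refine finish hf hn0 hz hP H (fun j => rfl) (s * s) fun j => ?_
        rw [Equiv.Perm.one_apply, hk, hcc, Units.val_mul, sq]; ring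
      · refine finish hf hn0 hz hP H (fun j => rfl) (-(s * s)) fun j => ?_
        rw [Equiv.Perm.one_apply, hk, Units.val_neg, mul_neg (c j : F), hcc, Units.val_neg, Units.val_mul, sq]; ring
    · push Not at hsq
      obtain ⟨m, e, P, hP⟩ := exists_nonsquare (g := SpecialLinearGroup.toGL x) hz hsq
      refine finish hf hn0 hz hP (π := pairSwap e) (ε := fun i => decide ((e.symm i).1 = 0))
        ⟨pairSwap_pairSwap e, fun i => ?_⟩ (fun j => rfl) (-zu) fun i => ?_
      · obtain ⟨⟨a, j⟩, rfl⟩ := e.surjective i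
        fin_cases a <;> simp [pairSwap_apply]
      · obtain ⟨⟨a, j⟩, rfl⟩ := e.surjective i
        fin_cases a <;> simp [pairSwap_apply, pairCoeff, sgn]

end CfsgLib.Classical22.InvolSymplectic
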