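import Mathlib

set_option autoImplicit false

/-!
# Irredundant bases: equal lengths iff closed under reordering (Cameron–Fon-Der-Flaass)
-/

namespace CfsgLib.Classical22

variable {G Ω : Type*} [Group G] [MulAction G Ω]

/-- `g` fixes every point of the list. -/
def FixesAll (g : G) (l : List Ω) : Prop := ∀ x ∈ l, g • x = x

/-- No point is fixed by the stabiliser of its predecessors, and `pre` records the points already taken. -/
def IrrFrom (G : Type*) [Group G] [MulAction G Ω] : List Ω → List Ω → Prop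
  | pre, [] => ∀ g : G, FixesAll g pre → g = 1
  | pre, x :: l => (∃ g : G, FixesAll g pre ∧ g • x ≠ x) ∧ IrrFrom G (pre ++ [x]) l

/-- An irredundant base, as a list. -/
def IsIrrBase (G : Type*) [Group G] [MulAction G Ω] (l : List Ω) : Prop := IrrFrom G [] l

theorem irrFrom_congr : ∀ (l : List Ω) {p q : List Ω},
    (∀ g : G, FixesAll g p ↔ FixesAll g q) → IrrFrom G p l → IrrFrom G q l
  | [], _, _, h, hp => fun g hg => hp g ((h g).mpr hg)
  | x :: l, _, _, h, ⟨⟨g, hg, hgx⟩, hp⟩ => ⟨⟨g, (h g).mp hg, hgx⟩, irrFrom_congr l (fun k => by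
      simp only [FixesAll, List.forall_mem_append]; exact and_congr (h k) Iff.rfl) hp⟩

theorem irrFrom_append : ∀ (A : List Ω) (p l : List Ω),
    IrrFrom G p (A ++ l) ↔ (∀ i (hi : i < A.length), ∃ g : G, FixesAll g (p ++ A.take i) ∧ g • A[i] ≠ A[i]) ∧
      IrrFrom G (p ++ A) l
  | [], p, l => by simp
  | x :: A, p, l => by
    rw [List.cons_append, IrrFrom, irrFrom_append A, List.append_assoc, List.singleton_append]
    constructor
    · rintro ⟨hx, hA, hl⟩
      refine ⟨fun i hi => ?_, hl⟩
      cases i with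
      | zero => simpa using hx
      | succ i => simpa using hA i (by simpa using hi)
    · rintro ⟨hA, hl⟩
      refine ⟨?_, fun i hi => ?_, hl⟩
      · obtain ⟨g, hg, hgx⟩ := hA 0 (Nat.succ_pos _)
        exact ⟨g, by simpa using hg, hgx⟩
      · obtain ⟨g, hg, hgx⟩ := hA (i + 1) (Nat.succ_lt_succ hi)
        exact ⟨g, by simpa using hg, hgx⟩

theorem isIrrBase_ofFn_iff {t : ℕ} (f : Fin t → Ω) :
    IsIrrBase G (List.ofFn f) ↔ ((∀ g : G, (∀ i : Fin t, g • f i = f i) → g = 1) ∧
      ∀ i : Fin t, ∃ g : G, (∀ j : Fin t, j < i → g • f j = f j) ∧ g • f i ≠ f i) := by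
  rw [IsIrrBase, ← List.append_nil (List.ofFn f), irrFrom_append, and_comm]
  refine and_congr ?_ ?_
  · simp only [IrrFrom, List.nil_append, FixesAll, List.forall_mem_ofFn_iff]
  · have key : ∀ (i : Fin t) (g : G), FixesAll g ([] ++ (List.ofFn f).take i.val) ↔ ∀ j : Fin t, j < i → g • f j = f j := by
      intro i g
      simp only [FixesAll, List.nil_append, List.mem_take_iff_getElem]
      constructor
      · intro h j hj
        exact h _ ⟨j.val, by simpa using Fin.lt_def.mp hj, List.getElem_ofFn _⟩
      · rintro h x ⟨j, hj, rfl⟩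
        rw [List.getElem_ofFn]
        exact h _ (Fin.lt_def.mpr (lt_min_iff.mp hj).1)
    constructor
    · intro h i
      obtain ⟨g, hg, hgi⟩ := h i.val (by simp)
      rw [List.getElem_ofFn] at hgi
      exact ⟨g, (key i g).mp hg, hgi⟩
    · intro h i hi
      rw [List.length_ofFn] at hi
      obtain ⟨g, hg, hgi⟩ := h ⟨i, hi⟩
      exact ⟨g, (key ⟨i, hi⟩ g).mpr hg, by rw [List.getElem_ofFn]; exact hgi⟩

/-- Removing redundant points. -/
theorem exists_prune : ∀ (l p : List Ω), (∀ g : G, FixesAll g (p ++ l) → g = 1) →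
    ∃ l', IrrFrom G p l' ∧ List.Sublist l' l
  | [], p, h => ⟨[], by simpa [IrrFrom] using h, List.Sublist.refl _⟩
  | x :: l, p, h => by
    by_cases hx : ∃ g : G, FixesAll g p ∧ g • x ≠ x
    · obtain ⟨l', h1, h2⟩ := exists_prune l (p ++ [x]) (by simpa using h)
      exact ⟨x :: l', ⟨hx, h1⟩, h2.cons_cons x⟩
    · simp only [not_exists, not_and, not_not] at hx
      obtain ⟨l', h1, h2⟩ := exists_prune l p fun g hg => h g (by
        simp only [FixesAll, List.forall_mem_append, List.forall_mem_cons] at hg ⊢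
        exact ⟨hg.1, hx g hg.1, hg.2⟩)
      exact ⟨l', h1, h2.cons x⟩

/-- All reorderings of irredundant bases are irredundant bases. -/
def PermClosed (G : Type*) (Ω : Type*) [Group G] [MulAction G Ω] : Prop :=
  ∀ l l' : List Ω, l.Perm l' → IsIrrBase G l → IsIrrBase G l'

/-- Exchange one point outside a given prefix. -/
theorem exchange (hP : PermClosed G Ω) {x : Ω} : ∀ (C A : List Ω), IsIrrBase G (A ++ C) →
    (∃ g : G, FixesAll g A ∧ g • x ≠ x) →
    ∃ C', IsIrrBase G (A ++ x :: C') ∧ (x :: C').length = C.length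
  | [], A, hB, ⟨g, hg, hgx⟩ => by
    have := ((irrFrom_append A [] []).mp hB).2 g hg
    exact absurd (by rw [this, one_smul]) hgx
  | y :: C, A, hB, hx => by
    by_cases hy : ∃ g : G, FixesAll g (A ++ [y]) ∧ g • x ≠ x
    · obtain ⟨C', h1, h2⟩ := exchange hP C (A ++ [y]) (by simpa using hB) hy
      refine ⟨y :: C', hP _ _ ?_ h1, by simpa using h2⟩
      simpa using (List.Perm.swap x y C').append_left A
    simp only [not_exists, not_and, not_not] at hy
    obtain ⟨hA, ⟨-, hC⟩⟩ := (irrFrom_append A [] (y :: C)).mp hB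
    simp only [List.nil_append] at hA hC
    have hsame : ∀ g : G, FixesAll g (A ++ [y]) ↔ FixesAll g (A ++ [x]) := by
      intro g
      have hor : FixesAll g (A ++ [y]) → FixesAll g (A ++ [x]) := fun h => by
        have := hy g h
        simp only [FixesAll, List.forall_mem_append, List.forall_mem_cons] at h ⊢
        exact ⟨h.1, this, fun _ hh => absurd hh List.not_mem_nil⟩
      refine ⟨hor, fun h => ?_⟩
      simp only [FixesAll, List.forall_mem_append, List.forall_mem_cons] at h ⊢
      refine ⟨h.1, ?_, fun _ hh => absurd hh List.not_mem_nil⟩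
      by_contra hgy
      -- otherwise `A, x, y, C` is an irredundant base with a redundant reordering
      have hbig : IsIrrBase G (A ++ x :: y :: C) := by
        refine (irrFrom_append A [] _).mpr ⟨hA, hx, ⟨g, ?_, hgy⟩, ?_⟩
        · simp only [FixesAll, List.nil_append, List.forall_mem_append, List.forall_mem_cons]
          exact ⟨h.1, h.2.1, fun _ hh => absurd hh List.not_mem_nil⟩
        · refine irrFrom_congr C (fun k => ?_) hC
          constructor
          · intro hk
            have := hy k hk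
            simp only [FixesAll, List.nil_append, List.forall_mem_append, List.forall_mem_cons] at hk ⊢
            exact ⟨⟨hk.1, this, fun _ hh => absurd hh List.not_mem_nil⟩, hk.2⟩
          · intro hk
            simp only [FixesAll, List.nil_append, List.forall_mem_append, List.forall_mem_cons] at hk ⊢
            exact ⟨hk.1.1, hk.2⟩
      have hbad : IsIrrBase G (A ++ y :: x :: C) := hP _ _ ((List.Perm.swap y x C).append_left A) hbig
      obtain ⟨-, -, ⟨k, hk, hkx⟩, -⟩ := (irrFrom_append A [] _).mp hbad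
      exact hkx (hy k (by simpa using hk))
    refine ⟨C, (irrFrom_append A [] _).mpr ⟨hA, hx, ?_⟩, by simp⟩
    simpa using irrFrom_congr C hsame hC

/-- Any two irredundant bases have the same length. -/
theorem length_eq (hP : PermClosed G Ω) {B D : List Ω} (hB : IsIrrBase G B) (hD : IsIrrBase G D) :
    D.length ≤ B.length := by
  suffices h : ∀ k, k ≤ D.length → ∃ C, IsIrrBase G (D.take k ++ C) ∧ k + C.length = B.length by
    obtain ⟨C, -, h2⟩ := h D.length le_rfl
    omega
  intro k
  induction k with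
  | zero => exact fun _ => ⟨B, by simpa using hB, by simp⟩
  | succ k ih =>
    intro hk
    obtain ⟨C, h1, h2⟩ := ih (Nat.le_of_succ_le hk)
    obtain ⟨g, hg, hgx⟩ := ((irrFrom_append D [] []).mp (by rw [List.append_nil]; exact hD)).1 k hk
    obtain ⟨C', h3, h4⟩ := exchange hP (x := D[k]) C (D.take k) h1 ⟨g, by simpa using hg, hgx⟩
    refine ⟨C', ?_, by simp at h4; omega⟩
    rwa [List.take_add_one, List.getElem?_eq_getElem hk, Option.toList_some, List.append_assoc, List.singleton_append]

theorem irredundantBases_length_iff {G Ω : Type*} [Group G] [MulAction G Ω] :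
    (∀ (t t' : ℕ) (f : Fin t → Ω) (f' : Fin t' → Ω), ((∀ g : G, (∀ i : Fin t, g • f i = f i) → g = 1) ∧ ∀ i : Fin t, ∃ g : G, (∀ j : Fin t, j < i → g • f j = f j) ∧ g • f i ≠ f i) → ((∀ g : G, (∀ i : Fin t', g • f' i = f' i) → g = 1) ∧ ∀ i : Fin t', ∃ g : G, (∀ j : Fin t', j < i → g • f' j = f' j) ∧ g • f' i ≠ f' i) → t = t') ↔
    (∀ (t : ℕ) (f : Fin t → Ω) (σ : Equiv.Perm (Fin t)), ((∀ g : G, (∀ i : Fin t, g • f i = f i) → g = 1) ∧ ∀ i : Fin t, ∃ g : G, (∀ j : Fin t, j < i → g • f j = f j) ∧ g • f i ≠ f i) → ((∀ g : G, (∀ i : Fin t, g • (f ∘ σ) i = (f ∘ σ) i) → g = 1) ∧ ∀ i : Fin t, ∃ g : G, (∀ j : Fin t, j < i → g • (f ∘ σ) j = (f ∘ σ) j) ∧ g • (f ∘ σ) i ≠ (f ∘ σ) i)) := by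
  simp only [← isIrrBase_ofFn_iff]
  constructor
  · intro hlen t f σ hf
    have hbase : ∀ g : G, FixesAll g ([] ++ List.ofFn (f ∘ σ)) → g = 1 := fun g hg => by
      refine ((isIrrBase_ofFn_iff f).mp hf).1 g fun i => ?_
      simp only [FixesAll, List.nil_append, List.forall_mem_ofFn_iff] at hg
      simpa using hg (σ.symm i)
    obtain ⟨l', h1, h2⟩ := exists_prune _ [] hbase
    have hlen' : t = l'.length := hlen t _ f l'.get hf (by rw [List.ofFn_get]; exact h1)
    rwa [← h2.eq_of_length (by rw [List.length_ofFn]; exact hlen'.symm)]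
  · intro hperm t t' f f' hf hf'
    have hP : PermClosed G Ω := by
      intro l l' hll hl
      classical
      have hlen : l.length = l'.length := hll.length_eq
      obtain ⟨σ, hσ⟩ : ∃ σ : Equiv.Perm (Fin l.length), l' = List.ofFn (l.get ∘ σ) := by
        let s : Fin l.length → Fin l.length := fun i => hll.symm.idxBij (Fin.cast hlen i)
        have hs : Function.Bijective s :=
          (Function.bijective_iff_has_inverse.mpr ⟨hll.idxBij, hll.idxBij_leftInverse_idxBij_symm,
            hll.idxBij_rightInverse_idxBij_symm⟩).comp (finCongr hlen).bijective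
        refine ⟨Equiv.ofBijective s hs, List.ext_getElem (by simpa using hlen.symm) fun i h1 h2 => ?_⟩
        rw [List.getElem_ofFn]
        exact (hll.symm.getElem_idxBij_eq_getElem ⟨i, h1⟩).symm
      rw [hσ]
      exact hperm _ l.get σ (by rw [List.ofFn_get]; exact hl)
    have e1 := length_eq hP hf hf'
    have e2 := length_eq hP hf' hf
    rw [List.length_ofFn, List.length_ofFn] at e1 e2
    omega

end CfsgLib.Classical22
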