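/-
The pairs of complementary Lagrangian subspaces of a symplectic space: their number and an element of prime order
fixing none of them.
-/
import Cfsg.Agent.Lib.Classical.SpOrder
import Cfsg.Agent.Lib.KnownSimple.SpSpectrum
import Cfsg.Agent.Lib.Classical22.PrimeOrderMaps

set_option autoImplicit false

namespace CfsgLib.Classical22.LagrangianPairs

open Matrix CfsgLib.Classical

variable {F : Type*} [Field F] {d : ℕ}

/-- A pair of complementary totally isotropic subspaces. -/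
def IsPair (P : Submodule F (Fin d ⊕ Fin d → F) × Submodule F (Fin d ⊕ Fin d → F)) : Prop :=
  IsCompl P.1 P.2 ∧ (∀ u ∈ P.1, ∀ v ∈ P.1, Cfsg.sympForm d F u v = 0) ∧
    ∀ u ∈ P.2, ∀ v ∈ P.2, Cfsg.sympForm d F u v = 0

theorem finrank_le {U W : Submodule F (Fin d ⊕ Fin d → F)} (hc : U ⊔ W = ⊤)
    (hW : ∀ u ∈ W, ∀ v ∈ W, Cfsg.sympForm d F u v = 0) : Module.finrank F W ≤ Module.finrank F U := by
  rw [← Subspace.dual_finrank_eq (K := F) (V := U)]
  refine LinearMap.finrank_le_finrank_of_injective (f := LinearMap.compl₂ ((spBilin d F) ∘ₗ W.subtype) U.subtype) ?_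
  rw [← LinearMap.ker_eq_bot, LinearMap.ker_eq_bot']
  intro w hw
  refine Subtype.ext (sympForm_nondeg fun v => ?_)
  obtain ⟨a, ha, b, hb, rfl⟩ := Submodule.mem_sup.1 (hc ▸ Submodule.mem_top : v ∈ U ⊔ W)
  have h := LinearMap.congr_fun hw ⟨a, ha⟩
  simp only [LinearMap.compl₂_apply, LinearMap.comp_apply, Submodule.subtype_apply, spBilin_apply,
    LinearMap.zero_apply] at h
  rw [sympForm_add_right, hW _ w.2 _ hb, h, add_zero]

theorem finrank_pair {P : Submodule F (Fin d ⊕ Fin d → F) × Submodule F (Fin d ⊕ Fin d → F)} (hP : IsPair P) :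
    Module.finrank F P.1 = d ∧ Module.finrank F P.2 = d := by
  have h1 := finrank_le hP.1.sup_eq_top hP.2.2
  have h2 := finrank_le (by rw [sup_comm]; exact hP.1.sup_eq_top) hP.2.1
  have h3 := Submodule.finrank_add_eq_of_isCompl hP.1
  simp only [Module.finrank_pi, Fintype.card_sum, Fintype.card_fin] at h3
  omega

/-- The first coordinates. -/
def embL (d : ℕ) (F : Type*) [Field F] : (Fin d → F) →ₗ[F] (Fin d ⊕ Fin d → F) where
  toFun a := Sum.elim a 0
  map_add' a b := by funext i; rcases i with i | i <;> simp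
  map_smul' c a := by funext i; rcases i with i | i <;> simp

/-- The second coordinates. -/
def embR (d : ℕ) (F : Type*) [Field F] : (Fin d → F) →ₗ[F] (Fin d ⊕ Fin d → F) where
  toFun a := Sum.elim (0 : Fin d → F) a
  map_add' a b := by funext i; rcases i with i | i <;> simp
  map_smul' c a := by funext i; rcases i with i | i <;> simp

@[simp] theorem embL_apply (a : Fin d → F) : embL d F a = Sum.elim a 0 := rfl
@[simp] theorem embR_apply (a : Fin d → F) : embR d F a = Sum.elim (0 : Fin d → F) a := rfl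

theorem split_vec (v : Fin d ⊕ Fin d → F) : v = embL d F (v ∘ Sum.inl) + embR d F (v ∘ Sum.inr) := by
  funext i; rcases i with i | i <;> simp

theorem form_LR (a b : Fin d → F) : Cfsg.sympForm d F (embL d F a) (embR d F b) = -(a ⬝ᵥ b) := by
  simp [sympForm_eq, dotProduct]

theorem exists_element {P : Submodule F (Fin d ⊕ Fin d → F) × Submodule F (Fin d ⊕ Fin d → F)} (hP : IsPair P)
    (φ : (Fin d → F) ≃ₗ[F] P.1) :
    ∃ g : symplecticGroup (Fin d) F, (∀ a, g.1 *ᵥ embL d F a = φ a) ∧ ∀ b, g.1 *ᵥ embR d F b ∈ P.2 := by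
  classical
  let Λ : P.2 →ₗ[F] (Fin d → F) := LinearMap.pi fun i =>
    -(((spBilin d F) (φ (Pi.single i 1) : Fin d ⊕ Fin d → F)).comp P.2.subtype)
  have hΛ : ∀ (w : P.2) i, Λ w i = -Cfsg.sympForm d F (φ (Pi.single i 1) : Fin d ⊕ Fin d → F) w := fun w i => by
    simp [Λ]
  have key : ∀ a (w : P.2), Cfsg.sympForm d F (φ a : Fin d ⊕ Fin d → F) w = -(a ⬝ᵥ Λ w) := by
    intro a w
    have h : (spBilin d F).flip (w : Fin d ⊕ Fin d → F) ∘ₗ P.1.subtype ∘ₗ φ.toLinearMap =
        -((dotProductBilin F F).flip (Λ w)) := by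
      refine LinearMap.pi_ext' fun i => LinearMap.ext_ring ?_
      simp [hΛ]
    simpa using LinearMap.congr_fun h a
  have hinj : Function.Injective Λ := by
    rw [← LinearMap.ker_eq_bot, LinearMap.ker_eq_bot']
    intro w hw
    refine Subtype.ext (sympForm_nondeg fun v => ?_)
    obtain ⟨a, ha, b, hb, rfl⟩ := Submodule.mem_sup.1 (hP.1.sup_eq_top ▸ Submodule.mem_top : v ∈ P.1 ⊔ P.2)
    have h := key (φ.symm ⟨a, ha⟩) w
    rw [LinearEquiv.apply_symm_apply, hw, dotProduct_zero, neg_zero] at h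
    rw [sympForm_add_right, hP.2.2 _ w.2 _ hb, sympForm_swap, h, neg_zero, add_zero]
  let Ψ : P.2 ≃ₗ[F] (Fin d → F) := Λ.linearEquivOfInjective hinj (by rw [(finrank_pair hP).2]; simp)
  let f : (Fin d ⊕ Fin d → F) →ₗ[F] (Fin d ⊕ Fin d → F) :=
    P.1.subtype ∘ₗ φ.toLinearMap ∘ₗ LinearMap.funLeft F F Sum.inl +
      P.2.subtype ∘ₗ Ψ.symm.toLinearMap ∘ₗ LinearMap.funLeft F F Sum.inr
  have hf : ∀ v, LinearMap.toMatrix' f *ᵥ v =
      (φ (v ∘ Sum.inl) : Fin d ⊕ Fin d → F) + (Ψ.symm (v ∘ Sum.inr) : Fin d ⊕ Fin d → F) := fun v => by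
    rw [← Matrix.toLin'_apply, Matrix.toLin'_toMatrix']; rfl
  have hpsi : ∀ b, Λ (Ψ.symm b) = b := fun b => by
    have h := Ψ.apply_symm_apply b
    rwa [LinearMap.linearEquivOfInjective_apply] at h
  refine ⟨⟨LinearMap.toMatrix' f, mem_sp_iff.2 fun u v => ?_⟩, fun a => ?_, fun b => ?_⟩
  · rw [hf, hf, sympForm_add_left, sympForm_add_right, sympForm_add_right, hP.2.1 _ (φ _).2 _ (φ _).2,
      hP.2.2 _ (Ψ.symm _).2 _ (Ψ.symm _).2, sympForm_swap (φ (v ∘ Sum.inl) : Fin d ⊕ Fin d → F), key, key, hpsi, hpsi,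
      sympForm_eq]
    simp [dotProduct, Finset.sum_sub_distrib, mul_comm]
    ring
  · rw [hf]
    rw [show (embL d F a) ∘ Sum.inr = 0 from funext fun i => by simp, map_zero]
    rw [show (embL d F a) ∘ Sum.inl = a from funext fun i => by simp]
    simp
  · rw [hf]
    rw [show (embR d F b) ∘ Sum.inl = 0 from funext fun i => by simp, map_zero]
    simp

theorem element_unique {P : Submodule F (Fin d ⊕ Fin d → F) × Submodule F (Fin d ⊕ Fin d → F)} (hP : IsPair P)
    {g h : symplecticGroup (Fin d) F} (hl : ∀ a, g.1 *ᵥ embL d F a = h.1 *ᵥ embL d F a)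
    (hg : ∀ b, g.1 *ᵥ embR d F b ∈ P.2) (hh : ∀ b, h.1 *ᵥ embR d F b ∈ P.2) : g = h := by
  have hr : ∀ b, g.1 *ᵥ embR d F b = h.1 *ᵥ embR d F b := by
    intro b
    refine sub_eq_zero.1 (sympForm_nondeg fun v => ?_)
    obtain ⟨x, hx⟩ : ∃ x, v = g.1 *ᵥ x := ⟨g⁻¹.1 *ᵥ v, (sp_mulVec_inv g v).symm⟩
    rw [hx, split_vec x, mulVec_add, sympForm_add_right, hP.2.2 _ (P.2.sub_mem (hg b) (hh b)) _ (hg _), add_zero,
      sympForm_sub_left, sp_form, hl, sp_form, sub_self]
  refine sp_ext fun v => ?_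
  rw [split_vec v, mulVec_add, mulVec_add, hl, hr]

theorem pair_of_element (g : symplecticGroup (Fin d) F) :
    IsPair (LinearMap.range (Matrix.toLin' g.1 ∘ₗ embL d F), LinearMap.range (Matrix.toLin' g.1 ∘ₗ embR d F)) := by
  refine ⟨⟨?_, ?_⟩, ?_, ?_⟩
  · rw [Submodule.disjoint_def]
    rintro _ ⟨a, rfl⟩ ⟨b, hb⟩
    simp only [LinearMap.comp_apply, Matrix.toLin'_apply] at hb ⊢
    have h := sp_mulVec_injective g hb
    have ha : a = 0 := funext fun i => by
      have := congrFun h (Sum.inl i)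
      simpa using this.symm
    simp [ha, show Sum.elim (0 : Fin d → F) (0 : Fin d → F) = 0 from funext fun i => by rcases i with i | i <;> rfl]
  · rw [codisjoint_iff, eq_top_iff]
    intro v _
    rw [← sp_mulVec_inv g v, split_vec (g⁻¹.1 *ᵥ v), mulVec_add]
    exact Submodule.add_mem_sup ⟨(g⁻¹.1 *ᵥ v) ∘ Sum.inl, by simp⟩ ⟨(g⁻¹.1 *ᵥ v) ∘ Sum.inr, by simp⟩
  · rintro _ ⟨a, rfl⟩ _ ⟨b, rfl⟩
    simp only [LinearMap.comp_apply, Matrix.toLin'_apply, sp_form]
    simp [sympForm_eq]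
  · rintro _ ⟨a, rfl⟩ _ ⟨b, rfl⟩
    simp only [LinearMap.comp_apply, Matrix.toLin'_apply, sp_form]
    simp [sympForm_eq]

theorem card_pairs [Fintype F] :
    Nat.card (symplecticGroup (Fin d) F) =
      Nat.card {P : Submodule F (Fin d ⊕ Fin d → F) × Submodule F (Fin d ⊕ Fin d → F) // IsPair P} *
        Nat.card (GL (Fin d) F) := by
  classical
  rw [← Nat.card_prod]
  have hψ : ∀ P : {P : Submodule F (Fin d ⊕ Fin d → F) × Submodule F (Fin d ⊕ Fin d → F) // IsPair P},
      Nonempty ((Fin d → F) ≃ₗ[F] P.1.1) := fun P =>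
    ⟨LinearEquiv.ofFinrankEq _ _ (by rw [(finrank_pair P.2).1]; simp)⟩
  let ψ := fun P => Classical.choice (hψ P)
  choose G hGl hGr using fun (x : {P : Submodule F (Fin d ⊕ Fin d → F) × Submodule F (Fin d ⊕ Fin d → F) // IsPair P} ×
      GL (Fin d) F) => exists_element x.1.2
        ((LinearMap.GeneralLinearGroup.generalLinearEquiv F _ (Matrix.GeneralLinearGroup.toLin x.2)).trans (ψ x.1))
  have hGl' : ∀ x a, (G x).1 *ᵥ embL d F a = (ψ x.1 (x.2.1 *ᵥ a) : Fin d ⊕ Fin d → F) := fun x a => by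
    rw [hGl]; rfl
  refine (Nat.card_eq_of_bijective G ⟨?_, ?_⟩).symm
  · intro x y hxy
    have him : ∀ x, x.1.1.1 = LinearMap.range (Matrix.toLin' (G x).1 ∘ₗ embL d F) ∧
        x.1.1.2 = LinearMap.range (Matrix.toLin' (G x).1 ∘ₗ embR d F) := by
      intro x
      have hp := finrank_pair x.1.2
      have hq := finrank_pair (pair_of_element (G x))
      refine ⟨(Submodule.eq_of_le_of_finrank_eq ?_ (by rw [hq.1, hp.1])).symm,
        (Submodule.eq_of_le_of_finrank_eq ?_ (by rw [hq.2, hp.2])).symm⟩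
      · rintro _ ⟨a, rfl⟩
        simp only [LinearMap.comp_apply, Matrix.toLin'_apply, hGl']
        exact (ψ x.1 _).2
      · rintro _ ⟨a, rfl⟩
        simp only [LinearMap.comp_apply, Matrix.toLin'_apply]
        exact hGr x a
    have h1 : x.1 = y.1 := Subtype.ext (Prod.ext (by rw [(him x).1, (him y).1, hxy]) (by rw [(him x).2, (him y).2, hxy]))
    obtain ⟨P, A⟩ := x
    obtain ⟨P', A'⟩ := y
    simp only at h1
    subst h1
    congr 1
    refine Units.ext (Matrix.ext_of_mulVec_single fun i => ?_)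
    have h := hGl' (P, A) (Pi.single i 1)
    rw [hxy, hGl'] at h
    exact ((ψ P).injective (Subtype.ext h)).symm
  · intro g
    obtain ⟨P, hP⟩ : ∃ P : {P : Submodule F (Fin d ⊕ Fin d → F) × Submodule F (Fin d ⊕ Fin d → F) // IsPair P},
        P.1 = (LinearMap.range (Matrix.toLin' g.1 ∘ₗ embL d F), LinearMap.range (Matrix.toLin' g.1 ∘ₗ embR d F)) :=
      ⟨⟨_, pair_of_element g⟩, rfl⟩
    have hmem : ∀ a, g.1 *ᵥ embL d F a ∈ P.1.1 := fun a => by rw [hP]; exact ⟨a, by simp⟩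
    let T : (Fin d → F) →ₗ[F] (Fin d → F) := (ψ P).symm.toLinearMap ∘ₗ
      (Matrix.toLin' g.1 ∘ₗ embL d F).codRestrict P.1.1 (fun a => by simpa using hmem a)
    have hT : Function.Injective T := fun a b h => by
      have h' := congrArg Subtype.val ((ψ P).symm.injective h)
      simp only [LinearMap.codRestrict_apply, LinearMap.comp_apply, Matrix.toLin'_apply] at h'
      funext i
      simpa using congrFun (sp_mulVec_injective g h') (Sum.inl i)
    obtain ⟨A, hA⟩ : ∃ A : GL (Fin d) F, (A : Matrix (Fin d) (Fin d) F) = LinearMap.toMatrix' T := by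
      refine ⟨(Matrix.mulVec_injective_iff_isUnit.1 (?_ : Function.Injective (LinearMap.toMatrix' T).mulVec)).unit, rfl⟩
      intro a b h
      refine hT ?_
      simpa [← Matrix.toLin'_apply] using h
    refine ⟨(P, A), element_unique P.2 (fun a => ?_) (hGr (P, A)) fun b => ?_⟩
    · rw [hGl', hA, ← Matrix.toLin'_apply (LinearMap.toMatrix' T), Matrix.toLin'_toMatrix']
      simp [T]
    · rw [hP]; exact ⟨b, by simp⟩

theorem exists_exponent [Fintype F] {p q r : ℕ} [Fact p.Prime] [CharP F p] (hq : Fintype.card F = q) (hodd : Odd q)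
    (hr : r.Prime) (hrp : r ≠ p) (hd : 1 ≤ d)
    (hdvd : r ∣ Nat.card {P : Submodule F (Fin d ⊕ Fin d → F) × Submodule F (Fin d ⊕ Fin d → F) // IsPair P} / 2) :
    ∃ i, 1 ≤ i ∧ i ≤ d ∧ r ∣ q ^ i + 1 := by
  have hq0 : q ≠ 0 := by subst hq; exact Fintype.card_ne_zero
  have hq2 : 2 ≤ q := by subst hq; exact Fintype.one_lt_card
  have hrq : ¬ r ∣ q := by
    intro h
    obtain ⟨n, -, hn⟩ := FiniteField.card F p
    rw [hq] at hn
    exact hrp ((Nat.prime_dvd_prime_iff_eq hr Fact.out).1 (hr.dvd_of_dvd_pow (hn ▸ h)))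
  obtain ⟨N, hN⟩ : ∃ N, Nat.card {P : Submodule F (Fin d ⊕ Fin d → F) × Submodule F (Fin d ⊕ Fin d → F) //
    IsPair P} = N := ⟨_, rfl⟩
  rw [hN] at hdvd
  have hGL : Nat.card (GL (Fin d) F) =
      (∏ k ∈ Finset.range d, q ^ k) * ∏ k ∈ Finset.range d, (q ^ (k + 1) - 1) := by
    rw [Matrix.card_GL_field, hq, Fin.prod_univ_eq_prod_range (fun i => q ^ d - q ^ i) d,
      ← Finset.prod_range_reflect (fun k => q ^ (k + 1) - 1) d, ← Finset.prod_mul_distrib]
    refine Finset.prod_congr rfl fun k hk => ?_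
    rw [Finset.mem_range] at hk
    rw [Nat.mul_sub, mul_one, ← pow_add]
    congr 2
    omega
  have hSp := card_pairs (F := F) (d := d)
  rw [hN, card_sp, hq, hGL] at hSp
  have hfac : ∏ k ∈ Finset.range d, (q ^ (2 * (k + 1)) - 1) =
      (∏ k ∈ Finset.range d, (q ^ (k + 1) - 1)) * ∏ k ∈ Finset.range d, (q ^ (k + 1) + 1) := by
    rw [← Finset.prod_mul_distrib]
    refine Finset.prod_congr rfl fun k _ => ?_
    rw [mul_comm (q ^ (k + 1) - 1), ← Nat.sq_sub_sq, one_pow, ← pow_mul, mul_comm (k + 1)]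
  have hC : 0 < ∏ k ∈ Finset.range d, (q ^ (k + 1) - 1) := Finset.prod_pos fun k _ => by
    have : 1 < q ^ (k + 1) := Nat.one_lt_pow (by omega) hq2
    omega
  have hmain : N * ∏ k ∈ Finset.range d, q ^ k = q ^ (d ^ 2) * ∏ k ∈ Finset.range d, (q ^ (k + 1) + 1) := by
    refine Nat.eq_of_mul_eq_mul_right hC ?_
    rw [hfac] at hSp
    linear_combination -hSp
  have hev : Even (N * ∏ k ∈ Finset.range d, q ^ k) := by
    rw [hmain]
    refine Even.mul_left (even_iff_two_dvd.2 (dvd_trans ?_ (Finset.dvd_prod_of_mem _ (Finset.mem_range.2 hd)))) _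
    exact even_iff_two_dvd.1 ((hodd.pow).add_one)
  have hNev : 2 ∣ N := by
    rcases Nat.even_mul.1 hev with h | h
    · exact even_iff_two_dvd.1 h
    · exfalso
      refine Nat.not_even_iff_odd.2 ?_ h
      exact Finset.prod_induction _ Odd (fun a b ha hb => ha.mul hb) odd_one fun k _ => hodd.pow
  have hrN : r ∣ q ^ (d ^ 2) * ∏ k ∈ Finset.range d, (q ^ (k + 1) + 1) := by
    rw [← hmain]
    exact dvd_mul_of_dvd_left (hdvd.trans (Nat.div_dvd_of_dvd hNev)) _
  rcases hr.dvd_mul.1 hrN with h | h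
  · exact absurd (hr.dvd_of_dvd_pow h) hrq
  · obtain ⟨k, hk, hrk⟩ := hr.prime.exists_mem_finset_dvd h
    exact ⟨k + 1, by omega, Finset.mem_range.1 hk, hrk⟩

theorem main [Fintype F] {p q r : ℕ} [Fact p.Prime] [CharP F p] [Fact r.Prime] (hq : Fintype.card F = q)
    (hodd : Odd q) (hd : 1 ≤ d) (hr2 : r ≠ 2) (hrp : r ≠ p)
    (hdvd : r ∣ Nat.card {P : Submodule F (Fin d ⊕ Fin d → F) × Submodule F (Fin d ⊕ Fin d → F) // IsPair P} / 2) :
    ∃ x : symplecticGroup (Fin d) F, x ^ r = 1 ∧ (∀ z : F, x.1 ≠ z • (1 : Matrix _ _ F)) ∧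
      ¬ ∃ U W : Submodule F (Fin d ⊕ Fin d → F), IsPair (U, W) ∧
        ((U.map (Matrix.toLin' x.1) = U ∧ W.map (Matrix.toLin' x.1) = W) ∨
         (U.map (Matrix.toLin' x.1) = W ∧ W.map (Matrix.toLin' x.1) = U)) := by
  classical
  have hr : r.Prime := Fact.out
  have hrF : (r : F) ≠ 0 := fun h =>
    hrp (((Nat.prime_dvd_prime_iff_eq Fact.out hr).1 ((CharP.cast_eq_zero_iff F p r).1 h)).symm)
  have hex : ∃ i, 1 ≤ i ∧ r ∣ q ^ i + 1 := by
    obtain ⟨i, h1, -, h2⟩ := exists_exponent (p := p) hq hodd hr hrp hd hdvd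
    exact ⟨i, h1, h2⟩
  obtain ⟨i, ⟨hi1, hri⟩, hmin⟩ : ∃ i, (1 ≤ i ∧ r ∣ q ^ i + 1) ∧ ∀ j, 1 ≤ j → r ∣ q ^ j + 1 → i ≤ j :=
    ⟨Nat.find hex, Nat.find_spec hex, fun j h1 h2 => Nat.find_min' hex ⟨h1, h2⟩⟩
  have hid : i ≤ d := by
    obtain ⟨j, h1, h2, h3⟩ := exists_exponent (p := p) hq hodd hr hrp hd hdvd
    exact (hmin j h1 h3).trans h2
  have hcast : ∀ j, r ∣ q ^ j + 1 ↔ (q : ZMod r) ^ j = -1 := fun j => by
    rw [← ZMod.natCast_eq_zero_iff, Nat.cast_add, Nat.cast_pow, Nat.cast_one, add_eq_zero_iff_eq_neg]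
  have hne : (-1 : ZMod r) ≠ 1 := by
    haveI : Fact (2 < r) := ⟨lt_of_le_of_ne hr.two_le (Ne.symm hr2)⟩
    exact ZMod.neg_one_ne_one
  have hord : orderOf (q : ZMod r) = 2 * i := by
    obtain ⟨e, he⟩ : ∃ e, orderOf (q : ZMod r) = e := ⟨_, rfl⟩
    have h2i : e ∣ 2 * i := he ▸ orderOf_dvd_of_pow_eq_one (by
      rw [pow_mul', (hcast i).1 hri, neg_one_sq])
    have hni : ¬ e ∣ i := fun h => hne (by rw [← (hcast i).1 hri, orderOf_dvd_iff_pow_eq_one.1 (he ▸ h)])
    rw [he]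
    rcases Nat.even_or_odd e with ⟨j, hj⟩ | ho
    · have hj0 : 1 ≤ j := by
        rcases Nat.eq_zero_or_pos j with rfl | h
        · simp [hj] at h2i; omega
        · exact h
      have h1 : ((q : ZMod r) ^ j) * ((q : ZMod r) ^ j) = 1 := by rw [← pow_add, ← hj, ← he, pow_orderOf_eq_one]
      rcases mul_self_eq_one_iff.1 h1 with h | h
      · have := Nat.le_of_dvd hj0 (he ▸ orderOf_dvd_of_pow_eq_one h)
        omega
      · have := hmin j hj0 ((hcast j).2 h)
        have := Nat.le_of_dvd (by omega) h2i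
        omega
    · exact absurd ((Nat.Coprime.dvd_mul_left (Nat.coprime_two_right.2 ho)).1 h2i) hni
  obtain ⟨Y, hY⟩ := (CfsgLib.KnownSimple.exists_sp_orderOf_torus (F := F) hi1).2
  rw [hq] at hY
  obtain ⟨y, hy⟩ : ∃ y : symplecticGroup (Fin i) F, orderOf y = r :=
    ⟨Y ^ ((q ^ i + 1) / r), by rw [← hY]; exact orderOf_pow_orderOf_div (by rw [hY]; omega) (hY ▸ hri)⟩
  obtain ⟨b, hb⟩ : ∃ b, i + b = d := ⟨d - i, by omega⟩
  obtain ⟨x, hx⟩ : ∃ x, x = CfsgLib.KnownSimple.spSum (F := F) hb (y, 1) := ⟨_, rfl⟩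
  have hxo : orderOf x = r := by
    rw [hx, orderOf_injective _ (CfsgLib.KnownSimple.spSum_injective hb), ← hy, Prod.orderOf_mk, orderOf_one,
      Nat.lcm_one_right]
  have hxr : x ^ r = 1 := hxo ▸ pow_orderOf_eq_one x
  have hx1 : x ≠ 1 := fun h => by rw [h, orderOf_one] at hxo; exact hr.one_lt.ne hxo
  refine ⟨x, hxr, fun z hz => hx1 ?_, ?_⟩
  · obtain ⟨k, rfl⟩ : ∃ k, d = k + 1 := ⟨d - 1, by omega⟩
    have h := sp_form x (Pi.single (Sum.inr 0) 1) (Pi.single (Sum.inl 0) 1)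
    rw [hz, smul_mulVec, one_mulVec, smul_mulVec, one_mulVec, sympForm_smul_left, sympForm_smul_right,
      sympForm_single_inl] at h
    simp at h
    have hz2 : z * z = 1 := h
    have hzr : z ^ r = 1 := by
      have h' := congrFun (congrFun (congrArg Subtype.val hxr) (Sum.inl 0)) (Sum.inl 0)
      rw [SubmonoidClass.coe_pow, hz, _root_.smul_pow, one_pow] at h'
      simpa using h'
    obtain ⟨j, hj⟩ := hr.odd_of_ne_two hr2
    rw [hj, pow_succ, pow_mul, sq, hz2, one_pow, one_mul] at hzr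
    refine Subtype.ext ?_
    rw [hz, hzr, one_smul]
    rfl
  · rintro ⟨U, W, hP, hUW⟩
    obtain ⟨f, hf⟩ : ∃ f : (Fin d ⊕ Fin d → F) →ₗ[F] (Fin d ⊕ Fin d → F), f = Matrix.toLin' x.1 := ⟨_, rfl⟩
    rw [← hf] at hUW
    have hpow : ∀ k v, (f ^ k) v = (x ^ k).1 *ᵥ v := fun k v => by
      rw [SubmonoidClass.coe_pow, ← Matrix.toLin'_apply, Matrix.toLin'_pow, hf]
    have hfr : ∀ v, (f ^ r) v = v := fun v => by rw [hpow, hxr, Submonoid.coe_one, one_mulVec]
    rcases hUW with ⟨hU, hW⟩ | ⟨hU, hW⟩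
    swap
    · obtain ⟨j, hj⟩ := hr.odd_of_ne_two hr2
      have hk : ∀ k, U.map (f ^ (2 * k + 1)) = W := by
        intro k
        induction k with
        | zero => simpa using hU
        | succ k ih =>
          rw [show 2 * (k + 1) + 1 = (2 * k + 1) + 1 + 1 by ring, pow_succ', pow_succ', Module.End.mul_eq_comp,
            Module.End.mul_eq_comp, Submodule.map_comp, Submodule.map_comp, ih, hW, hU]
      have hUW' : U = W := by
        rw [← hk j, ← hj, show f ^ r = LinearMap.id from LinearMap.ext hfr, Submodule.map_id]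
      have hd2 : Module.finrank F U = d := (finrank_pair hP).1
      have hbot : U = ⊥ := by
        have := hP.1.inf_eq_bot
        simp only [← hUW', inf_idem] at this
        exact this
      rw [hbot, finrank_bot] at hd2
      omega
    · obtain ⟨emb, hemb⟩ : ∃ emb : (Fin i ⊕ Fin i → F) →ₗ[F] (Fin d ⊕ Fin d → F),
          ∀ u, emb u ∘ CfsgLib.KnownSimple.spSumEquiv hb ∘ Sum.inl = u ∧
            emb u ∘ CfsgLib.KnownSimple.spSumEquiv hb ∘ Sum.inr = 0 := by
        refine ⟨(LinearMap.funLeft F F (CfsgLib.KnownSimple.spSumEquiv hb).symm).comp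
          ((LinearEquiv.sumArrowLequivProdArrow _ _ F F).symm.toLinearMap.comp (LinearMap.inl F _ _)), fun u => ?_⟩
        constructor <;> funext a <;> simp
      have hblock : ∀ v, (f v - v) ∘ CfsgLib.KnownSimple.spSumEquiv hb ∘ Sum.inr = 0 := by
        intro v
        rw [hf, Matrix.toLin'_apply, hx]
        funext a
        have h : ((Matrix.reindexAlgEquiv F F (CfsgLib.KnownSimple.spSumEquiv hb)
            (fromBlocks y.1 0 0 (1 : symplecticGroup (Fin b) F).1) *ᵥ v) ∘ CfsgLib.KnownSimple.spSumEquiv hb)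
            (Sum.inr a) = v (CfsgLib.KnownSimple.spSumEquiv hb (Sum.inr a)) := by
          rw [Matrix.coe_reindexAlgEquiv, Matrix.reindex_apply, Matrix.submatrix_mulVec_equiv, Equiv.symm_symm,
            Matrix.fromBlocks_mulVec]
          simp [Function.comp_assoc]
        simp only [Function.comp_apply, Pi.sub_apply, Pi.zero_apply, sub_eq_zero] at h ⊢
        exact h
      have hrange : ∀ v, f v - v ∈ LinearMap.range emb := fun v => by
        refine ⟨(f v - v) ∘ CfsgLib.KnownSimple.spSumEquiv hb ∘ Sum.inl, ?_⟩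
        funext a
        obtain ⟨c, rfl⟩ := (CfsgLib.KnownSimple.spSumEquiv hb).surjective a
        rcases c with c | c
        · exact congrFun (hemb _).1 c
        · exact (congrFun (hemb _).2 c).trans (congrFun (hblock v) c).symm
      have hfixed : ∀ S : Submodule F (Fin d ⊕ Fin d → F), (∀ u ∈ S, ∀ v ∈ S, Cfsg.sympForm d F u v = 0) →
          S.map f = S → ∀ u ∈ S, f u = u := by
        intro S hiso hS u hu
        by_contra hfu
        have hSi : PrimeMaps.Inv f S := fun w hw => hS ▸ Submodule.mem_map_of_mem hw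
        obtain ⟨C, hC, hCS, hCi, hCs⟩ := PrimeMaps.exists_compl_in hrF one_ne_zero
          (fun v => by rw [hfr, one_smul]) hSi (W := S ⊓ PrimeMaps.fixed f)
          (fun w hw => ⟨hSi w hw.1, PrimeMaps.mem_fixed.2 (by rw [PrimeMaps.mem_fixed.1 hw.2]; exact PrimeMaps.mem_fixed.1 hw.2)⟩)
          inf_le_left
        have hC0 : C ≠ ⊥ := fun h => hfu (PrimeMaps.mem_fixed.1 ((by
          rw [h, sup_bot_eq] at hCs; rw [← hCs] at hu; exact hu : u ∈ S ⊓ PrimeMaps.fixed f).2))
        obtain ⟨T, hT, hTC, hT0, hTm⟩ := PrimeMaps.exists_simple f hC hC0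
        have hTfix : ∀ w ∈ T, f w = w → w = 0 := fun w hw h =>
          (Submodule.mem_bot F).1 (hCi ▸ ⟨⟨hCS (hTC hw), PrimeMaps.mem_fixed.2 h⟩, hTC hw⟩)
        have hTd := PrimeMaps.simple_dim_order f hfr hT hT0 hTm hrF hTfix
        rw [hq, hord] at hTd
        have hTe : T ≤ LinearMap.range emb := by
          have hsurj : T ≤ T.map (f - 1) := by
            refine (Submodule.eq_of_le_of_finrank_eq ?_ ?_).ge
            · rintro _ ⟨w, hw, rfl⟩
              exact T.sub_mem (hT w hw) hw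
            · have hinj : Function.Injective ((f - 1).comp T.subtype) := fun a c h => by
                refine Subtype.ext (sub_eq_zero.1 (hTfix _ (T.sub_mem a.2 c.2) ?_))
                have h' : f (a : Fin d ⊕ Fin d → F) - a = f (c : Fin d ⊕ Fin d → F) - c := h
                rw [map_sub]
                exact sub_eq_sub_iff_sub_eq_sub.1 h'
              rw [← LinearMap.finrank_range_of_inj hinj, LinearMap.range_comp, Submodule.range_subtype]
          refine hsurj.trans ?_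
          rintro _ ⟨w, -, rfl⟩
          exact hrange w
        have hei : Function.Injective emb := fun a c h => by rw [← (hemb a).1, ← (hemb c).1, h]
        have heq : T = LinearMap.range emb := Submodule.eq_of_le_of_finrank_eq hTe (by
          rw [hTd, LinearMap.finrank_range_of_inj hei]; simp; omega)
        have hone : Cfsg.sympForm i F (Pi.single (Sum.inr ⟨0, hi1⟩) 1) (Pi.single (Sum.inl ⟨0, hi1⟩) 1) = 1 := by
          rw [sympForm_single_inl]; simp
        have hmem : ∀ v, emb v ∈ S := fun v => hCS (hTC (heq ▸ ⟨v, rfl⟩))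
        have h := hiso _ (hmem (Pi.single (Sum.inr ⟨0, hi1⟩) 1)) _ (hmem (Pi.single (Sum.inl ⟨0, hi1⟩) 1))
        rw [CfsgLib.KnownSimple.sympForm_spSumEquiv hb, (hemb _).1, (hemb _).1, (hemb _).2, (hemb _).2,
          sympForm_zero_left, add_zero, hone] at h
        exact one_ne_zero h
      refine hx1 (sp_ext fun v => ?_)
      obtain ⟨a, ha, c, hc, rfl⟩ := Submodule.mem_sup.1 (hP.1.sup_eq_top ▸ Submodule.mem_top : v ∈ U ⊔ W)
      rw [Submonoid.coe_one, one_mulVec, mulVec_add, ← Matrix.toLin'_apply, ← Matrix.toLin'_apply, ← hf,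
        hfixed U hP.2.1 hU a ha, hfixed W hP.2.2 hW c hc]

end CfsgLib.Classical22.LagrangianPairs
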