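import Mathlib

set_option autoImplicit false

/-!
# Minimal degree of primitive groups: the bound of Babai

A primitive group of degree `n` not containing the alternating group has minimal degree at least `(√n - 1)/2`.
-/

namespace CfsgLib.Classical22.MinimalDegree

open MulAction Finset

variable (G : Type*) {Ω : Type*} [Group G] [MulAction G Ω]

/-- Two ordered pairs lie in the same orbital. -/
def SameCol (x y x' y' : Ω) : Prop := ∃ h : G, h • x = x' ∧ h • y = y'

/-- The symmetrised orbital graph through `(a, b)`. -/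
def Adj (a b x y : Ω) : Prop := SameCol G a b x y ∨ SameCol G b a x y

variable {G}

theorem sameCol_refl (x y : Ω) : SameCol G x y x y := ⟨1, one_smul _ _, one_smul _ _⟩

theorem sameCol_symm {x y x' y' : Ω} (h : SameCol G x y x' y') : SameCol G x' y' x y := by
  obtain ⟨h, rfl, rfl⟩ := h
  exact ⟨h⁻¹, inv_smul_smul _ _, inv_smul_smul _ _⟩

theorem sameCol_trans {x y x' y' x'' y'' : Ω} (h : SameCol G x y x' y') (h' : SameCol G x' y' x'' y'') :
    SameCol G x y x'' y'' := by
  obtain ⟨h, rfl, rfl⟩ := h
  obtain ⟨k, rfl, rfl⟩ := h'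
  exact ⟨k * h, mul_smul _ _ _, mul_smul _ _ _⟩

theorem sameCol_swap {x y x' y' : Ω} (h : SameCol G x y x' y') : SameCol G y x y' x' :=
  let ⟨k, h1, h2⟩ := h; ⟨k, h2, h1⟩

theorem sameCol_smul (h : G) (x y : Ω) : SameCol G x y (h • x) (h • y) := ⟨h, rfl, rfl⟩

theorem adj_symm {a b x y : Ω} (h : Adj G a b x y) : Adj G a b y x :=
  h.elim (fun h => Or.inr (sameCol_swap h)) (fun h => Or.inl (sameCol_swap h))

theorem adj_of_sameCol {a b x y x' y' : Ω} (h : Adj G a b x y) (h' : SameCol G x y x' y') : Adj G a b x' y' :=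
  h.elim (fun h => Or.inl (sameCol_trans h h')) (fun h => Or.inr (sameCol_trans h h'))

theorem adj_ne {a b x y : Ω} (hab : a ≠ b) (h : Adj G a b x y) : x ≠ y := by
  rintro rfl
  rcases h with ⟨k, h1, h2⟩ | ⟨k, h1, h2⟩
  · exact hab (smul_left_cancel k (h1.trans h2.symm))
  · exact hab (smul_left_cancel k (h2.trans h1.symm))

variable [Fintype Ω] [DecidableEq Ω]

open scoped Classical in
/-- Points distinguishing `x` and `y`. -/
noncomputable def dset (G : Type*) [Group G] [MulAction G Ω] (x y : Ω) : Finset Ω :=
  univ.filter fun z => ¬ SameCol G z x z y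

open scoped Classical in
/-- Neighbourhood in an orbital graph. -/
noncomputable def nbr (G : Type*) [Group G] [MulAction G Ω] (a b x : Ω) : Finset Ω :=
  univ.filter fun y => Adj G a b x y

theorem mem_dset {x y z : Ω} : z ∈ dset G x y ↔ ¬ SameCol G z x z y := by
  classical simp [dset]

theorem mem_nbr {a b x y : Ω} : y ∈ nbr G a b x ↔ Adj G a b x y := by
  classical simp [nbr]

theorem dset_comm (x y : Ω) : (dset G x y).card = (dset G y x).card := by
  congr 1; ext z; simp only [mem_dset]; exact not_congr ⟨sameCol_symm, sameCol_symm⟩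

theorem dset_triangle (x y z : Ω) : (dset G x z).card ≤ (dset G x y).card + (dset G y z).card := by
  refine (card_le_card fun w hw => ?_).trans (card_union_le _ _)
  rw [mem_union, mem_dset, mem_dset]
  rw [mem_dset] at hw
  by_contra h
  simp only [not_or, not_not] at h
  exact hw (sameCol_trans h.1 h.2)

theorem dset_invariant {x y x' y' : Ω} (h : SameCol G x y x' y') : (dset G x' y').card = (dset G x y).card := by
  obtain ⟨k, rfl, rfl⟩ := h
  refine card_bij' (fun z _ => k⁻¹ • z) (fun z _ => k • z) ?_ ?_ (fun z _ => smul_inv_smul _ _) (fun z _ => inv_smul_smul _ _)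
  · intro z hz
    rw [mem_dset] at hz ⊢
    intro h; apply hz
    have e1 := sameCol_smul k (k⁻¹ • z) x
    have e2 := sameCol_smul k (k⁻¹ • z) y
    rw [smul_inv_smul] at e1 e2
    exact sameCol_trans (sameCol_symm e1) (sameCol_trans h e2)
  · intro z hz
    rw [mem_dset] at hz ⊢
    intro h; apply hz
    exact sameCol_trans (sameCol_smul k z x) (sameCol_trans h (sameCol_symm (sameCol_smul k z y)))

theorem dset_adj {a b x y : Ω} (h : Adj G a b x y) : (dset G x y).card = (dset G a b).card := by
  rcases h with h | h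
  · exact dset_invariant h
  · rw [dset_invariant h, dset_comm]

theorem nbr_card (htr : IsPretransitive G Ω) (a b x : Ω) : (nbr G a b x).card = (nbr G a b a).card := by
  obtain ⟨k, rfl⟩ := exists_smul_eq G a x
  refine card_bij' (fun y _ => k⁻¹ • y) (fun y _ => k • y) ?_ ?_ (fun z _ => smul_inv_smul _ _) (fun z _ => inv_smul_smul _ _)
  · intro y hy
    rw [mem_nbr] at hy ⊢
    have e := sameCol_smul k⁻¹ (k • a) y
    rw [inv_smul_smul] at e
    exact adj_of_sameCol hy e
  · intro y hy
    rw [mem_nbr] at hy ⊢
    exact adj_of_sameCol hy (sameCol_smul k a y)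

/-- Orbital graphs of primitive groups are connected: a closed set is everything. -/
theorem closed_eq_univ (hprim : IsPreprimitive G Ω) {a b : Ω} (hab : a ≠ b) {s : Set Ω} (hs : s.Nonempty)
    (hcl : ∀ x ∈ s, ∀ y, Adj G a b x y → y ∈ s) : s = Set.univ := by
  haveI : IsPretransitive G Ω := hprim.toIsPretransitive
  -- reachability
  let R : Ω → Ω → Prop := Relation.ReflTransGen (Adj G a b)
  have hRs : ∀ {x y}, R x y → R y x := fun h => by
    induction h with
    | refl => exact Relation.ReflTransGen.refl
    | tail _ h2 ih => exact Relation.ReflTransGen.head (adj_symm h2) ih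
  have hRh : ∀ (k : G) {x y}, R x y → R (k • x) (k • y) := fun k {x y} h => by
    induction h with
    | refl => exact Relation.ReflTransGen.refl
    | tail _ h2 ih => exact ih.tail (adj_of_sameCol h2 (sameCol_smul k _ _))
  let B : Set Ω := {y | R a y}
  have hB : IsBlock G B := by
    rw [IsBlock.eq_1]
    intro g₁ g₂ hne
    rw [Set.disjoint_left]
    rintro z ⟨u, hu, rfl⟩ ⟨v, hv, hvu⟩
    apply hne
    have h2 := hRs (hRh g₂ hv)
    rw [show g₂ • v = g₁ • u from hvu] at h2
    have h12 : R (g₁ • a) (g₂ • a) := (hRh g₁ hu).trans h2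
    ext w
    constructor
    · rintro ⟨t, ht, rfl⟩
      refine ⟨g₂⁻¹ • (g₁ • t), ?_, smul_inv_smul _ _⟩
      have := hRh g₂⁻¹ ((hRs h12).trans (hRh g₁ ht))
      rwa [inv_smul_smul] at this
    · rintro ⟨t, ht, rfl⟩
      refine ⟨g₁⁻¹ • (g₂ • t), ?_, smul_inv_smul _ _⟩
      have := hRh g₁⁻¹ (h12.trans (hRh g₂ ht))
      rwa [inv_smul_smul] at this
  rcases hprim.isTrivialBlock_of_isBlock hB with h | h
  · exact absurd (h (Relation.ReflTransGen.refl : R a a) (Relation.ReflTransGen.single (Or.inl (sameCol_refl a b)) : R a b)) hab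
  · obtain ⟨x, hx⟩ := hs
    refine Set.eq_univ_of_forall fun y => ?_
    have hxy : R x y := (hRs (h ▸ Set.mem_univ x :)).trans (h ▸ Set.mem_univ y :)
    have hxy' : Relation.ReflTransGen (Adj G a b) x y := hxy
    clear hxy
    induction hxy' with
    | refl => exact hx
    | tail _ h2 ih => exact hcl _ ih _ h2

/-- `n - 1 ≤ D k` for every orbital graph. -/
theorem card_le_dset_mul (hprim : IsPreprimitive G Ω) {a b : Ω} (hab : a ≠ b) :
    Fintype.card Ω - 1 ≤ (dset G a b).card * (nbr G a b a).card := by
  have hcov : (univ : Finset Ω).erase a ⊆ (nbr G a b a).biUnion fun y => dset G a y := by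
    intro z hz
    rw [mem_biUnion]
    by_contra hcon
    simp only [not_exists, not_and, mem_dset, not_not, mem_nbr] at hcon
    have hne := Finset.ne_of_mem_erase hz
    let s : Set Ω := {w | SameCol G z a z w}
    have hs : s = Set.univ := closed_eq_univ hprim hab ⟨a, sameCol_refl z a⟩ fun x hx y hxy => by
      obtain ⟨k, hk1, hk2⟩ := hx
      have h1 : Adj G a b a (k⁻¹ • y) := adj_of_sameCol hxy ⟨k⁻¹, by rw [← hk2, inv_smul_smul], rfl⟩
      have h2 := hcon _ h1
      refine sameCol_trans h2 ⟨k, hk1, smul_inv_smul _ _⟩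
    obtain ⟨k, hk1, hk2⟩ : SameCol G z a z z := (hs ▸ Set.mem_univ z : z ∈ s)
    exact hne (smul_left_cancel k (hk1.trans hk2.symm))
  have h := (card_le_card hcov).trans (card_biUnion_le_card_mul _ _ (dset G a b).card fun y hy => (dset_adj (mem_nbr.mp hy)).le)
  rw [card_erase_of_mem (mem_univ a), card_univ] at h
  rwa [mul_comm] at h

/-- Points with disjoint neighbourhoods are well distinguished. -/
theorem two_mul_le_dset (htr : IsPretransitive G Ω) {a b x y : Ω} (hdis : ∀ z, Adj G a b x z → ¬ Adj G a b y z) :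
    2 * (nbr G a b a).card ≤ (dset G x y).card := by
  have hd : Disjoint (nbr G a b x) (nbr G a b y) := Finset.disjoint_left.mpr fun z h1 h2 => hdis z (mem_nbr.mp h1) (mem_nbr.mp h2)
  calc 2 * (nbr G a b a).card = (nbr G a b x ∪ nbr G a b y).card := by
        rw [card_union_of_disjoint hd, nbr_card htr a b x, nbr_card htr a b y, two_mul]
    _ ≤ _ := card_le_card fun z hz => by
        rw [mem_dset]
        intro h
        rcases mem_union.mp hz with h' | h' <;> rw [mem_nbr] at h'
        · exact hdis z h' (adj_symm (adj_of_sameCol (adj_symm h') h))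
        · exact hdis z (adj_symm (adj_of_sameCol (adj_symm h') (sameCol_symm h))) h'

/-- Diameter at most two. -/
def Small (G : Type*) [Group G] [MulAction G Ω] (a b : Ω) : Prop :=
  ∀ x y : Ω, x ≠ y → Adj G a b x y ∨ ∃ z, Adj G a b x z ∧ Adj G a b z y

theorem dset_le_two {a b : Ω} (hsm : Small G a b) (x y : Ω) : (dset G x y).card ≤ 2 * (dset G a b).card := by
  rcases eq_or_ne x y with rfl | hne
  · have : dset G x x = ∅ := Finset.eq_empty_of_forall_notMem fun z hz => mem_dset.mp hz (sameCol_refl _ _)
    rw [this]; simp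
  rcases hsm x y hne with h | ⟨z, h1, h2⟩
  · rw [dset_adj h]; omega
  · have := dset_triangle (G := G) x z y
    rw [dset_adj h1, dset_adj h2] at this
    omega

theorem card_le_sq (htr : IsPretransitive G Ω) {a b : Ω} (hsm : Small G a b) :
    Fintype.card Ω - 1 ≤ (nbr G a b a).card * (nbr G a b a).card := by
  have hcov : (univ : Finset Ω).erase a ⊆ (nbr G a b a).biUnion fun y => insert y ((nbr G a b y).erase a) := by
    intro z hz
    rw [mem_biUnion]
    rcases hsm a z (Finset.ne_of_mem_erase hz).symm with h | ⟨y, h1, h2⟩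
    · exact ⟨z, mem_nbr.mpr h, mem_insert_self _ _⟩
    · exact ⟨y, mem_nbr.mpr h1, mem_insert_of_mem (mem_erase.mpr ⟨Finset.ne_of_mem_erase hz, mem_nbr.mpr h2⟩)⟩
  have h := (card_le_card hcov).trans (card_biUnion_le_card_mul _ _ (nbr G a b a).card fun y hy => by
    refine (card_insert_le _ _).trans ?_
    have hmem : a ∈ nbr G a b y := mem_nbr.mpr (adj_symm (mem_nbr.mp hy))
    rw [card_erase_of_mem hmem, ← nbr_card htr a b y]
    have := card_pos.mpr ⟨a, hmem⟩
    omega)
  rwa [card_erase_of_mem (mem_univ a), card_univ] at h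

theorem exists_far (hprim : IsPreprimitive G Ω) {a b : Ω} (hab : a ≠ b) (hbig : ¬ Small G a b) :
    ∃ x y u v, Adj G a b x u ∧ Adj G a b u v ∧ Adj G a b v y ∧ ∀ z, Adj G a b x z → ¬ Adj G a b y z := by
  simp only [Small, not_forall, not_or, not_exists, not_and] at hbig
  obtain ⟨x, y0, hne, h1, h2⟩ := hbig
  by_contra hcon
  simp only [not_exists, not_and, not_forall, not_not] at hcon
  let s : Set Ω := {w | w = x ∨ Adj G a b x w ∨ ∃ z, Adj G a b x z ∧ Adj G a b z w}
  have hs : s = Set.univ := closed_eq_univ hprim hab ⟨x, Or.inl rfl⟩ fun v hv w hvw => by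
    rcases hv with rfl | hv | ⟨u, hu1, hu2⟩
    · exact Or.inr (Or.inl hvw)
    · exact Or.inr (Or.inr ⟨v, hv, hvw⟩)
    · obtain ⟨z, hz1, hz2⟩ := hcon x w u v hu1 hu2 hvw
      exact Or.inr (Or.inr ⟨z, hz1, adj_symm hz2⟩)
  rcases (hs ▸ Set.mem_univ y0 : y0 ∈ s) with h | h | ⟨z, h3, h4⟩
  · exact hne h.symm
  · exact h1 h
  · exact h2 z h3 h4

/-- Groups with at least two orbital graphs. -/
theorem card_le_of_two_classes (hprim : IsPreprimitive G Ω) {a b c d : Ω} (hab : a ≠ b) (hcd : c ≠ d)
    (hother : ¬ Adj G a b c d) : Fintype.card Ω ≤ (2 * (dset G a b).card + 1) ^ 2 := by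
  classical
  have htr : IsPretransitive G Ω := hprim.toIsPretransitive
  haveI := htr
  obtain ⟨D, hD⟩ : ∃ D, D = (dset G a b).card := ⟨_, rfl⟩
  have hn := Fintype.card_pos_iff.mpr ⟨a⟩
  by_cases hsm : Small G a b
  · have hall : ∀ x y, (dset G x y).card ≤ 2 * D := fun x y => hD ▸ dset_le_two hsm x y
    by_cases hallsm : ∀ x y : Ω, x ≠ y → Small G x y
    · -- counting distinguished triples
      obtain ⟨k, hk1, hk2⟩ : ∃ k, Fintype.card Ω - 1 ≤ k * k ∧ ∀ z : Ω, z ≠ a → 1 + k ≤ (univ.filter fun y => ¬ SameCol G z a z y).card := by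
        let S : Finset ℕ := (univ.filter fun p : Ω × Ω => p.1 ≠ p.2).image fun p => (nbr G p.1 p.2 p.1).card
        have hS : S.Nonempty := ⟨_, mem_image.mpr ⟨(a, b), by simp [hab], rfl⟩⟩
        refine ⟨S.min' hS, ?_, fun z hz => ?_⟩
        · obtain ⟨p, hp, hpk⟩ := mem_image.mp (S.min'_mem hS)
          rw [← hpk]
          exact card_le_sq htr (hallsm _ _ (mem_filter.mp hp).2)
        · -- a class other than that of `(z, a)`
          obtain ⟨u, v, huv, hne⟩ : ∃ u v, u ≠ v ∧ ¬ Adj G z a u v := by
            by_cases h1 : Adj G z a a b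
            · refine ⟨c, d, hcd, fun h2 => hother ?_⟩
              rcases h1 with h1 | h1 <;> rcases h2 with h2 | h2
              · exact Or.inl (sameCol_trans (sameCol_symm h1) h2)
              · exact Or.inr (sameCol_trans (sameCol_symm (sameCol_swap h1)) h2)
              · exact Or.inr (sameCol_trans (sameCol_symm (sameCol_swap h1)) h2)
              · exact Or.inl (sameCol_trans (sameCol_symm h1) h2)
            · exact ⟨a, b, hab, h1⟩
          obtain ⟨h, hh⟩ := exists_smul_eq G u z
          have hsub : insert z (nbr G u v z) ⊆ univ.filter fun y => ¬ SameCol G z a z y := by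
            intro y hy
            refine mem_filter.mpr ⟨mem_univ _, fun hs => ?_⟩
            rcases mem_insert.mp hy with rfl | hy'
            · obtain ⟨k, h1, h2⟩ := hs
              exact hz (smul_left_cancel k (h1.trans h2.symm))
            · rcases mem_nbr.mp hy' with h3 | h3
              · exact hne (Or.inl (sameCol_trans hs (sameCol_symm h3)))
              · exact hne (Or.inr (sameCol_trans (sameCol_swap hs) (sameCol_symm (sameCol_swap h3))))
          refine le_trans ?_ (card_le_card hsub)
          rw [card_insert_of_notMem (fun h => adj_ne huv (mem_nbr.mp h) rfl), nbr_card htr, add_comm]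
          exact Nat.add_le_add_right (S.min'_le _ (mem_image.mpr ⟨(u, v), by simp [huv], rfl⟩)) 1
      have hsum : ∑ y : Ω, (dset G a y).card = ∑ z : Ω, (univ.filter fun y => ¬ SameCol G z a z y).card := by
        simp only [dset]
        simp only [card_filter]
        exact Finset.sum_comm
      have hbound : Fintype.card Ω * (1 + k) ≤ Fintype.card Ω * (2 * D) + (1 + k) := by
        calc Fintype.card Ω * (1 + k) = ((univ : Finset Ω).erase a).card * (1 + k) + (1 + k) := by
              rw [card_erase_of_mem (mem_univ a), card_univ, ← Nat.succ_mul]; congr 1; omega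
          _ ≤ ∑ z ∈ (univ : Finset Ω).erase a, (univ.filter fun y => ¬ SameCol G z a z y).card + (1 + k) := by
              refine Nat.add_le_add_right ?_ _
              rw [← smul_eq_mul]
              exact card_nsmul_le_sum _ _ _ fun z hz => hk2 z (Finset.ne_of_mem_erase hz)
          _ ≤ ∑ z : Ω, (univ.filter fun y => ¬ SameCol G z a z y).card + (1 + k) :=
              Nat.add_le_add_right (sum_le_sum_of_subset (erase_subset _ _)) _
          _ ≤ _ := by
              rw [← hsum]
              refine Nat.add_le_add_right ((sum_le_card_nsmul _ _ _ fun y _ => hall a y).trans (le_of_eq ?_)) _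
              rw [card_univ, smul_eq_mul]
      rw [← hD]
      have hk : k ≤ 2 * D := by
        by_contra hlt
        have : Fintype.card Ω * (1 + k) ≥ Fintype.card Ω * (2 * D) + Fintype.card Ω * 2 := by
          rw [← Nat.mul_add]; exact Nat.mul_le_mul_left _ (by omega)
        have h2 : 2 ≤ Fintype.card Ω := by
          have := Fintype.one_lt_card_iff_nontrivial.mpr ⟨a, b, hab⟩; omega
        have hkn : k < Fintype.card Ω := by
          by_contra hk'
          obtain ⟨z, hz⟩ := Fintype.exists_ne_of_one_lt_card (by omega : 1 < Fintype.card Ω) a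
          have := (hk2 z hz).trans (card_le_univ _)
          omega
        omega
      calc Fintype.card Ω ≤ k * k + 1 := by omega
        _ ≤ (2 * D) * (2 * D) + 1 := by have := Nat.mul_le_mul hk hk; omega
        _ ≤ _ := by nlinarith
    · simp only [not_forall] at hallsm
      obtain ⟨x, y, hxy, hbig⟩ := hallsm
      obtain ⟨p, q, u, v, -, -, -, hdis⟩ := exists_far hprim hxy hbig
      have h1 := card_le_dset_mul hprim hxy
      have h2 := (two_mul_le_dset htr hdis).trans (hall p q)
      have h3 := hall x y
      rw [← hD]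
      have h4 := Nat.mul_le_mul h3 (show (nbr G x y x).card ≤ D by omega)
      have : Fintype.card Ω ≤ 2 * D * D + 1 := by omega
      nlinarith
  · obtain ⟨x, y, u, v, h1, h2, h3, hdis⟩ := exists_far hprim hab hsm
    have h4 := two_mul_le_dset htr hdis
    have h5 := card_le_dset_mul hprim hab
    have h6 := (dset_triangle (G := G) x u y).trans (Nat.add_le_add_left (dset_triangle u v y) _)
    rw [dset_adj h1, dset_adj h2, dset_adj h3] at h6
    rw [← hD] at *
    have h7 : (nbr G a b a).card ≤ 2 * D := by omega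
    have h8 := Nat.mul_le_mul_left D h7
    have : Fintype.card Ω ≤ D * (2 * D) + 1 := by omega
    nlinarith

/-- Supports meeting in one point give a three-cycle. -/
theorem isThreeCycle_commutator {s t : Equiv.Perm Ω} {a : Ω} (hs : s a ≠ a) (ht : t a ≠ a)
    (h : ∀ x, s x ≠ x → t x ≠ x → x = a) : (s * t * s⁻¹ * t⁻¹).IsThreeCycle := by
  have hsa : t (s a) = s a := by
    by_contra hne
    exact hs (h (s a) (fun e => hs (s.injective e)) hne)
  have hdis : Equiv.Perm.Disjoint (Equiv.swap a (s a) * s) t := fun x => by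
    by_cases htx : t x = x
    · exact Or.inr htx
    left
    rw [Equiv.Perm.mul_apply]
    by_cases hxa : x = a
    · rw [hxa, Equiv.swap_apply_right]
    · have hsx : s x = x := by
        by_contra hne; exact hxa (h x hne htx)
      rw [hsx, Equiv.swap_apply_of_ne_of_ne hxa (fun e => htx (e.symm ▸ hsa))]
  have hc := hdis.commute.eq
  have hconj : s * t * s⁻¹ = Equiv.swap a (s a) * t * Equiv.swap a (s a) := by
    rw [mul_inv_eq_iff_eq_mul]
    calc s * t = Equiv.swap a (s a) * (Equiv.swap a (s a) * s * t) := by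
          rw [← mul_assoc, ← mul_assoc, Equiv.swap_mul_self, one_mul]
      _ = _ := by rw [hc]; simp only [mul_assoc]
  rw [hconj, mul_assoc, mul_assoc, ← mul_assoc t, ← Equiv.swap_apply_apply, hsa, Equiv.swap_comm a (s a),
    Equiv.swap_comm (t a) (s a)]
  exact Equiv.Perm.isThreeCycle_swap_mul_swap_same hs (fun e => hs (t.injective (hsa.trans e))) ht.symm

/-- Groups with one orbital graph. -/
theorem card_le_of_one_class {G : Type*} [Group G] [Finite G] [MulAction G Ω] (hprim : IsPreprimitive G Ω)
    (hA : ¬ alternatingGroup Ω ≤ (MulAction.toPermHom G Ω).range)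
    {g : G} {a : Ω} (hga : g • a ≠ a) (hall : ∀ x y : Ω, a ≠ x → a ≠ y → Adj G a x a y) :
    Fintype.card Ω ≤ 2 * ((((univ : Finset Ω).filter fun x => g • x ≠ x)).card - 1) ^ 2 + 1 := by
  classical
  haveI := Fintype.ofFinite G
  have htr : IsPretransitive G Ω := hprim.toIsPretransitive
  haveI := htr
  set S := (univ : Finset Ω).filter fun x => g • x ≠ x with hS
  have haS : a ∈ S := by simp [hS, hga]
  -- orbits of the point stabiliser are large
  have horb : ∀ x, a ≠ x → Fintype.card Ω - 1 ≤ 2 * (univ.filter fun y => SameCol G a x a y).card := fun x hx => by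
    have hsub : (univ : Finset Ω).erase a ⊆ (univ.filter fun y => SameCol G a x a y) ∪ univ.filter fun y => SameCol G x a a y := by
      intro y hy
      rw [mem_union, mem_filter, mem_filter]
      rcases hall x y hx (Finset.ne_of_mem_erase hy).symm with h | h
      · exact Or.inl ⟨mem_univ _, h⟩
      · exact Or.inr ⟨mem_univ _, h⟩
    -- in-degree equals out-degree
    have hinout : (univ.filter fun y => SameCol G x a a y).card = (univ.filter fun y => SameCol G a x a y).card := by
      have hout : ∀ z, (univ.filter fun y => SameCol G a x z y).card = (univ.filter fun y => SameCol G a x a y).card := fun z => by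
        obtain ⟨k, rfl⟩ := exists_smul_eq G a z
        refine card_bij' (fun y _ => k⁻¹ • y) (fun y _ => k • y) ?_ ?_ (fun z _ => smul_inv_smul _ _) (fun z _ => inv_smul_smul _ _)
        · intro y hy
          simp only [mem_filter, mem_univ, true_and] at hy ⊢
          exact sameCol_trans hy ⟨k⁻¹, inv_smul_smul _ _, rfl⟩
        · intro y hy
          simp only [mem_filter, mem_univ, true_and] at hy ⊢
          exact sameCol_trans hy (sameCol_smul k a y)
      have hin : ∀ z, (univ.filter fun y => SameCol G a x y z).card = (univ.filter fun y => SameCol G x a a y).card := fun z => by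
        obtain ⟨k, rfl⟩ := exists_smul_eq G a z
        refine card_bij' (fun y _ => k⁻¹ • y) (fun y _ => k • y) ?_ ?_ (fun z _ => smul_inv_smul _ _) (fun z _ => inv_smul_smul _ _)
        · intro y hy
          simp only [mem_filter, mem_univ, true_and] at hy ⊢
          exact sameCol_trans (sameCol_swap hy) ⟨k⁻¹, inv_smul_smul _ _, rfl⟩
        · intro y hy
          simp only [mem_filter, mem_univ, true_and] at hy ⊢
          exact sameCol_swap (sameCol_trans hy (sameCol_smul k a y))
      have h1 : ∑ z : Ω, (univ.filter fun y => SameCol G a x z y).card = ∑ z : Ω, (univ.filter fun y => SameCol G a x y z).card := by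
        simp only [card_filter]; exact Finset.sum_comm
      simp only [hout, hin, sum_const, card_univ, smul_eq_mul] at h1
      exact (Nat.eq_of_mul_eq_mul_left (Fintype.card_pos_iff.mpr ⟨a⟩) h1).symm
    have h := (card_le_card hsub).trans (card_union_le _ _)
    rw [card_erase_of_mem (mem_univ a), card_univ, hinout] at h
    omega
  by_contra hcon
  obtain ⟨μ, hμ⟩ : ∃ μ, μ = S.card - 1 := ⟨_, rfl⟩
  rw [← hμ] at hcon
  -- the point stabiliser
  set T := univ.filter fun h : G => h • a = a
  have hcount : ∀ s ∈ S.erase a, ∀ t ∈ S.erase a,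
      (T.filter fun h => h • s = t).card * (Fintype.card Ω - 1) ≤ 2 * T.card := by
    intro s hs t _
    have has : a ≠ s := (Finset.ne_of_mem_erase hs).symm
    by_cases hne : (T.filter fun h => h • s = t).Nonempty
    swap
    · rw [Finset.not_nonempty_iff_eq_empty.mp hne]; simp
    obtain ⟨h₀, hh₀⟩ := hne
    simp only [T, mem_filter, mem_univ, true_and] at hh₀
    have hcard := card_eq_sum_card_fiberwise (s := T) (t := univ.filter fun y => SameCol G a s a y) (f := fun h => h • s)
      fun h hh => by
        have hh' : h • a = a := (mem_filter.mp (mem_coe.mp hh)).2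
        simp only [coe_filter, mem_univ, true_and, Set.mem_ofPred_eq]
        exact ⟨h, hh', rfl⟩
    have hfib : ∀ y ∈ univ.filter (fun y => SameCol G a s a y),
        (T.filter fun h => h • s = y).card = (T.filter fun h => h • s = t).card := by
      intro y hy
      simp only [mem_filter, mem_univ, true_and] at hy
      obtain ⟨k, hk1, hk2⟩ := hy
      refine card_bij' (fun h _ => h₀ * k⁻¹ * h) (fun h _ => k * h₀⁻¹ * h) ?_ ?_ (fun h _ => by group) (fun h _ => by group)
      · intro h hh
        simp only [T, mem_filter, mem_univ, true_and] at hh ⊢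
        constructor
        · rw [mul_smul, mul_smul, hh.1, inv_smul_eq_iff.mpr hk1.symm, hh₀.1]
        · rw [mul_smul, mul_smul, hh.2, inv_smul_eq_iff.mpr hk2.symm, hh₀.2]
      · intro h hh
        simp only [T, mem_filter, mem_univ, true_and] at hh ⊢
        constructor
        · rw [mul_smul, mul_smul, hh.1, inv_smul_eq_iff.mpr hh₀.1.symm, hk1]
        · rw [mul_smul, mul_smul, hh.2, inv_smul_eq_iff.mpr hh₀.2.symm, hk2]
    rw [sum_congr rfl hfib, sum_const, smul_eq_mul] at hcard
    calc (T.filter fun h => h • s = t).card * (Fintype.card Ω - 1)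
        ≤ (T.filter fun h => h • s = t).card * (2 * (univ.filter fun y => SameCol G a s a y).card) :=
          Nat.mul_le_mul_left _ (horb s has)
      _ = 2 * T.card := by rw [hcard]; ring
  -- some conjugate meets the support in `a` only
  obtain ⟨h, hh, hfree⟩ : ∃ h ∈ T, ∀ s ∈ S.erase a, h • s ∉ S.erase a := by
    by_contra hno
    simp only [not_exists, not_and, not_forall, not_not] at hno
    have hTsub : T ⊆ (S.erase a ×ˢ S.erase a).biUnion fun p => T.filter fun h => h • p.1 = p.2 := fun h hh => by
      obtain ⟨s, hs1, hs2⟩ := hno h hh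
      exact mem_biUnion.mpr ⟨(s, h • s), mem_product.mpr ⟨hs1, hs2⟩, mem_filter.mpr ⟨hh, rfl⟩⟩
    have h1 := (card_le_card hTsub).trans card_biUnion_le
    have h2 : (∑ p ∈ S.erase a ×ˢ S.erase a, (T.filter fun h => h • p.1 = p.2).card) * (Fintype.card Ω - 1) ≤
        (μ * μ) * (2 * T.card) := by
      rw [sum_mul]
      refine (sum_le_card_nsmul _ _ _ fun p hp => hcount p.1 (mem_product.mp hp).1 p.2 (mem_product.mp hp).2).trans (le_of_eq ?_)
      rw [card_product, card_erase_of_mem haS, ← hμ, smul_eq_mul]
    have hTpos : 0 < T.card := card_pos.mpr ⟨1, by simp [T]⟩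
    have h3 := (Nat.mul_le_mul_right (Fintype.card Ω - 1) h1).trans h2
    have h4 : Fintype.card Ω - 1 ≤ 2 * (μ * μ) := Nat.le_of_mul_le_mul_left (h3.trans (le_of_eq (by ring))) hTpos
    rw [sq] at hcon
    omega
  simp only [T, mem_filter, mem_univ, true_and] at hh
  set π := MulAction.toPermHom G Ω
  have hπ : ∀ (k : G) x, π k x = k • x := fun k x => rfl
  have h3c := isThreeCycle_commutator (s := π g) (t := π (h * g * h⁻¹)) (a := a) hga
    (fun e => by
      rw [hπ, mul_smul, mul_smul, inv_smul_eq_iff.mpr hh.symm] at e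
      exact hga (smul_left_cancel h (e.trans hh.symm)))
    fun x h1 h2 => by
      by_contra hxa
      rw [hπ] at h1 h2
      refine hfree (h⁻¹ • x) (mem_erase.mpr ⟨fun e => hxa ?_, mem_filter.mpr ⟨mem_univ _, fun e => h2 ?_⟩⟩) ?_
      · rw [← smul_inv_smul h x, e, hh]
      · rw [mul_smul, mul_smul, e, smul_inv_smul]
      · rw [smul_inv_smul]; exact mem_erase.mpr ⟨hxa, mem_filter.mpr ⟨mem_univ _, h1⟩⟩
  have hprim' : IsPreprimitive π.range Ω := by
    let f : Ω →ₑ[π.rangeRestrict] Ω := { toFun := id, map_smul' := fun _ _ => rfl }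
    exact IsPreprimitive.of_surjective (f := f) Function.surjective_id
  refine hA (Equiv.Perm.alternatingGroup_le_of_isPreprimitive_of_isThreeCycle_mem hprim' h3c ?_)
  exact mul_mem (mul_mem (mul_mem ⟨g, rfl⟩ ⟨_, rfl⟩) (inv_mem ⟨g, rfl⟩)) (inv_mem ⟨_, rfl⟩)

/-- The bound, without square roots. -/
theorem card_le_sq_degree {G : Type*} [Group G] [Finite G] [MulAction G Ω] [FaithfulSMul G Ω] (hprim : IsPreprimitive G Ω)
    (hA : ¬ alternatingGroup Ω ≤ (MulAction.toPermHom G Ω).range) {g : G} (hg : g ≠ 1) :
    Fintype.card Ω ≤ (2 * ((univ : Finset Ω).filter fun x => g • x ≠ x).card + 1) ^ 2 := by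
  classical
  obtain ⟨a, hga⟩ : ∃ a : Ω, g • a ≠ a := by
    by_contra hcon
    simp only [not_exists, not_not] at hcon
    exact hg (eq_of_smul_eq_smul fun x : Ω => by rw [one_smul]; exact hcon x)
  set μ := ((univ : Finset Ω).filter fun x => g • x ≠ x).card with hμ
  have hD : (dset G a (g • a)).card ≤ μ := card_le_card fun z hz => mem_filter.mpr ⟨mem_univ _, fun e => mem_dset.mp hz ⟨g, e, rfl⟩⟩
  by_cases hall : ∀ x y : Ω, a ≠ x → a ≠ y → Adj G a x a y
  · have h := card_le_of_one_class hprim hA hga hall
    rw [← hμ] at h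
    have h2 : (μ - 1) ^ 2 ≤ μ ^ 2 := Nat.pow_le_pow_left (Nat.sub_le _ _) 2
    nlinarith
  simp only [not_forall] at hall
  obtain ⟨x, y, hx, hy, hne⟩ := hall
  have hab : a ≠ g • a := hga.symm
  by_cases h1 : Adj G a (g • a) a x
  · have hother : ¬ Adj G a (g • a) a y := fun h2 => hne (by
      rcases h1 with h1 | h1 <;> rcases h2 with h2 | h2
      · exact Or.inl (sameCol_trans (sameCol_symm h1) h2)
      · exact Or.inr (sameCol_trans (sameCol_symm (sameCol_swap h1)) h2)
      · exact Or.inr (sameCol_trans (sameCol_symm (sameCol_swap h1)) h2)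
      · exact Or.inl (sameCol_trans (sameCol_symm h1) h2))
    exact (card_le_of_two_classes hprim hab hy hother).trans (Nat.pow_le_pow_left (by omega) 2)
  · exact (card_le_of_two_classes hprim hab hx h1).trans (Nat.pow_le_pow_left (by omega) 2)

end CfsgLib.Classical22.MinimalDegree
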