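/-
An Eichler transformation with small support gives the whole Eichler group, for decompositions into planes.
-/
import Cfsg.Agent.Lib.Classical22.OrthDecompStage

set_option autoImplicit false

namespace CfsgLib.Classical22.OrthDecomp

open CfsgLib.Classical

variable {F V : Type*} [Field F] [AddCommGroup V] [Module F V] {Q : QuadraticForm F V}
variable {t : ℕ} {D : Fin t → Submodule F V} {k : ℕ}

/-- An Eichler transformation with centre supported on at most two members and its vector not inside them. -/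
def Short (Q : QuadraticForm F V) {t : ℕ} (D : Fin t → Submodule F V) (M : Subgroup (qAut Q)) : Prop :=
  ∃ (C : Finset (Fin t)) (X Y : V), C.card ≤ 2 ∧ X ≠ 0 ∧ Q X = 0 ∧ QuadraticMap.polar Q X Y = 0 ∧
    (∀ i, i ∉ C → X ∈ qPerp Q (D i)) ∧ eich Q X Y ∈ M ∧ ∃ j, j ∉ C ∧ Y ∉ qPerp Q (D j)

theorem exists_notMem_fin {s : Finset (Fin t)} (h : s.card < t) : ∃ i, i ∉ s := by
  obtain ⟨i, -, hi⟩ := Finset.exists_mem_notMem_of_card_lt_card (s := s) (t := Finset.univ) (by simpa using h)
  exact ⟨i, hi⟩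

variable [FiniteDimensional F V] [Fintype F]

theorem exists_swap_into (hD : Data Q D k) (hQ : PolarNondeg Q) (hn : 5 ≤ Module.finrank F V) (hk : 2 ≤ k)
    {i j : Fin t} (hij : i ≠ j) :
    ∃ g ∈ dStab Q D ⊓ eichGroup Q, (D i).map g.1.toLinearMap = D j ∧
      ∀ l, l ≠ i → l ≠ j → ∀ x ∈ D l, g.1 x = x := by
  obtain ⟨g, hg, hgij, hgfix⟩ := hD.exists_swap hQ hij
  obtain ⟨h, hh, hhb⟩ := exists_correction hQ hn (hD.nd i) (by rw [hD.dim]; exact hk) g
  refine ⟨g * h, ⟨mul_mem hg (hD.mem_dStab_of_supp hQ (hD.nd i) le_rfl hhb), hh⟩,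
    Submodule.eq_of_le_of_finrank_le ?_ (by rw [LinearEquiv.finrank_map_eq, hD.dim, hD.dim]),
    fun l hli hlj x hx => by rw [qAut_mul_apply, hhb x (hD.perp_le hli.symm hx), hgfix l hli hlj x hx]⟩
  rintro _ ⟨y, hy, rfl⟩
  change (g * h).1 y ∈ D j
  rw [qAut_mul_apply]
  refine hgij _ ?_
  rw [← qPerp_qPerp Q hQ (D i), mem_qPerp]
  intro v hv
  rw [← hhb v hv, qAut_polar, QuadraticMap.polar_comm]
  exact hD.polar_eq_zero hy hv

theorem Data.mem_of_parts (hD : Data Q D k) (hQ : PolarNondeg Q) {P : Submodule F V} (s : Finset (Fin t))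
    (hP : ∀ i ∈ s, D i ≤ P) {X : V} (hX : ∀ i, i ∉ s → X ∈ qPerp Q (D i)) : X ∈ P := by
  classical
  choose f hf r hr hsum using fun j => exists_add_qPerp Q hQ (hD.nd j) X
  have hXf : X = ∑ j ∈ s, f j := by
    rw [← sub_eq_zero]
    refine hD.eq_zero_of_perp_all hQ fun i => (mem_qPerp Q).2 fun v hv => ?_
    rw [QuadraticMap.polar_sub_right, show QuadraticMap.polar Q v (∑ j ∈ s, f j) =
      ∑ j ∈ s, QuadraticMap.polar Q v (f j) from map_sum (QuadraticMap.polarBilin Q v) _ _]
    by_cases hi : i ∈ s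
    · rw [Finset.sum_eq_single i (fun j _ hji => hD.orth i j (Ne.symm hji) v hv _ (hf j))
        (fun hni => absurd hi hni)]
      conv_lhs => rw [← hsum i]
      rw [QuadraticMap.polar_add_right, hD.polar_eq_zero hv (hr i), add_zero, sub_self]
    · rw [Finset.sum_eq_zero fun j hj => hD.orth i j (fun he => hi (he ▸ hj)) v hv _ (hf j),
        hD.polar_eq_zero hv (hX i hi), sub_zero]
  rw [hXf]
  exact P.sum_mem fun i hi => hP i hi (hf i)

/-- A short transformation gives the whole Eichler group. -/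
theorem eichGroup_le_of_short (hD : Data Q D 2) (hQ : PolarNondeg Q) (hn : 5 ≤ Module.finrank F V)
    (h2 : (2 : F) ≠ 0) (hq : 5 ≤ Fintype.card F) (ht : 5 ≤ t) {M : Subgroup (qAut Q)}
    (hHM : dStab Q D ⊓ eichGroup Q ≤ M) (hshort : Short Q D M) : eichGroup Q ≤ M := by
  classical
  obtain ⟨C, X, Y, hC, hX0, hQX, hXY, hXC, hmem, j, hjC, hYj⟩ := hshort
  have hdim : ∀ i, 2 ≤ Module.finrank F (D i) := fun i => (hD.dim i).ge
  have hXD : ∀ i, i ∉ C → ∀ x ∈ D i, QuadraticMap.polar Q X x = 0 := fun i hi x hx =>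
    (QuadraticMap.polar_comm Q X x).trans (hD.polar_eq_zero hx (hXC i hi))
  obtain ⟨T, hT⟩ : ∃ T : AddSubgroup V, ∀ x, x ∈ T ↔ QuadraticMap.polar Q X x = 0 ∧ eich Q X x ∈ M := by
    refine ⟨{ carrier := {x | QuadraticMap.polar Q X x = 0 ∧ eich Q X x ∈ M}
              add_mem' := fun {p q} hp hq => ⟨by rw [QuadraticMap.polar_add_right, hp.1, hq.1, add_zero], by
                rw [← eich_mul Q hQX hp.1 hq.1]
                exact mul_mem hp.2 hq.2⟩
              zero_mem' := ⟨QuadraticMap.polar_zero_right Q X, by rw [eich_zero Q hQX]; exact one_mem M⟩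
              neg_mem' := fun {p} hp => ⟨by rw [QuadraticMap.polar_neg_right, hp.1, neg_zero], by
                rw [← eich_inv Q hQX hp.1]
                exact inv_mem hp.2⟩ }, fun x => Iff.rfl⟩
  have hTconj : ∀ g ∈ dStab Q D ⊓ eichGroup Q, g.1 X = X → ∀ x ∈ T, g.1 x ∈ T := by
    intro g hg hgX x hx
    rw [hT] at hx ⊢
    have h1 := mul_mem (mul_mem (hHM hg) hx.2) (inv_mem (hHM hg))
    rw [eich_conj Q g hQX hx.1, hgX] at h1
    have e := qAut_polar g X x
    rw [hgX, hx.1] at e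
    exact ⟨e, h1⟩
  -- a vector of the member `j`
  obtain ⟨yj, hyj, Y', hY', rfl⟩ := exists_add_qPerp Q hQ (hD.nd j) Y
  have hyj0 : yj ≠ 0 := by
    rintro rfl
    rw [zero_add] at hYj
    exact hYj hY'
  obtain ⟨n, hn1, n', hn2, hQn, hQn', hE, hmove⟩ :=
    exists_rotation hQ hn h2 (hD.nd j) (hdim j) (Or.inl hq) hyj hyj0
  obtain ⟨r, hr⟩ : ∃ r, r = qRefl Q hQn * qRefl Q hQn' := ⟨_, rfl⟩
  rw [← hr] at hE hmove
  have hrfix : ∀ x ∈ qPerp Q (D j), r.1 x = x := fun x hx => by
    rw [hr, qAut_mul_apply, qRefl_fix Q hQn' ((QuadraticMap.polar_comm Q x n').trans (hD.polar_eq_zero hn2 hx)),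
      qRefl_fix Q hQn ((QuadraticMap.polar_comm Q x n).trans (hD.polar_eq_zero hn1 hx))]
  obtain ⟨d, hd⟩ : ∃ d, d = r.1 yj - yj := ⟨_, rfl⟩
  have hdj : d ∈ D j := by
    rw [hd, hr, qAut_mul_apply, qRefl_apply, qRefl_apply]
    exact (D j).sub_mem ((D j).sub_mem ((D j).sub_mem hyj ((D j).smul_mem _ hn2)) ((D j).smul_mem _ hn1)) hyj
  have hd0 : d ≠ 0 := fun h => hmove (by rw [hd, sub_eq_zero] at h; exact h)
  have hdT : d ∈ T := by
    have h1 := hTconj r ⟨hr ▸ mul_mem (hD.qRefl_mem_dStab hQ hn1 hQn) (hD.qRefl_mem_dStab hQ hn2 hQn'), hE⟩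
      (hrfix X (hXC j hjC)) _ ((hT _).2 ⟨hXY, hmem⟩)
    have h2' := T.sub_mem h1 ((hT _).2 ⟨hXY, hmem⟩)
    rw [map_add, hrfix Y' hY', add_sub_add_right_eq_sub, ← hd] at h2'
    exact h2'
  obtain ⟨f, hf⟩ := exists_notMem_fin (s := insert j C) (by
    have := Finset.card_insert_le j C
    omega)
  rw [Finset.mem_insert, not_or] at hf
  obtain ⟨Tj, hTj⟩ : ∃ Tj : AddSubgroup V, ∀ x, x ∈ Tj ↔ x ∈ D j ∧ x ∈ T :=
    ⟨(D j).toAddSubgroup ⊓ T, fun x => Iff.rfl⟩
  have hjT : ∀ x ∈ D j, x ∈ T := by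
    refine fun x hx => ((hTj x).1 (le_of_refl_invariant h2 (hD.nd j) (hdim j) (Or.inl hq) Tj
      (fun y hy => ((hTj y).1 hy).1) ?_ ((hTj d).2 ⟨hdj, hdT⟩) hd0 x hx)).2
    intro m hm hQm y hy
    rw [hTj] at hy ⊢
    obtain ⟨g, hg, hgb⟩ := hD.exists_comp hQ hn (hD.nd f) (hdim f) le_rfl (hD.qRefl_mem_dStab hQ hm hQm)
    have hgy : g.1 y = (qRefl Q hQm).1 y := hgb y (hD.perp_le hf.1 hy.1)
    refine ⟨by rw [qRefl_apply]; exact (D j).sub_mem hy.1 ((D j).smul_mem _ hm), hgy ▸ hTconj g hg ?_ y hy.2⟩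
    rw [hgb X (hXC f hf.2), qRefl_fix Q hQm (hXD j hjC m hm)]
  have hRT : ∀ i, i ∉ C → ∀ x ∈ D i, x ∈ T := by
    intro i hi x hx
    rcases eq_or_ne i j with rfl | hij
    · exact hjT x hx
    obtain ⟨g, hg, hmap, hgfix⟩ := exists_swap_into hD hQ hn le_rfl (Ne.symm hij)
    rw [← hmap] at hx
    obtain ⟨y, hy, rfl⟩ := hx
    refine hTconj g hg ?_ y (hjT y hy)
    exact hD.mem_of_parts hQ C (P := LinearMap.eqLocus g.1.toLinearMap LinearMap.id)
      (fun l hl z hz => hgfix l (fun h => hjC (h ▸ hl)) (fun h => hi (h ▸ hl)) z hz) hXC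
  -- two members away from the centre
  obtain ⟨a₀, ha₀⟩ := exists_notMem_fin (s := C) (by omega)
  obtain ⟨b₀, hb₀⟩ := exists_notMem_fin (s := insert a₀ C) (by
    have := Finset.card_insert_le a₀ C
    omega)
  rw [Finset.mem_insert, not_or] at hb₀
  obtain ⟨ι, hι, hιX⟩ : ∃ ι ∈ C, X ∉ qPerp Q (D ι) := by
    by_contra hc
    push Not at hc
    exact hX0 (hD.eq_zero_of_perp_all hQ fun i => if hi : i ∈ C then hc i hi else hXC i hi)
  -- singular points of the two members
  have hTu : ∀ u ∈ D a₀ ⊔ D b₀, Q u = 0 → ∀ i, i ≠ a₀ → i ≠ b₀ → ∀ x ∈ D i,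
      QuadraticMap.polar Q u x = 0 ∧ eich Q u x ∈ M := by
    intro u hu hQu
    obtain ⟨ua, hua, ub, hub, rfl⟩ := Submodule.mem_sup.1 hu
    have hperp : ∀ i, i ≠ a₀ → i ≠ b₀ → ∀ x ∈ D i, QuadraticMap.polar Q (ua + ub) x = 0 := fun i hia hib x hx => by
      rw [QuadraticMap.polar_add_left, hD.orth a₀ i hia.symm ua hua x hx, hD.orth b₀ i hib.symm ub hub x hx,
        add_zero]
    obtain ⟨S, hS⟩ : ∃ S : AddSubgroup V, ∀ x, x ∈ S ↔
        QuadraticMap.polar Q (ua + ub) x = 0 ∧ eich Q (ua + ub) x ∈ M := by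
      refine ⟨{ carrier := {x | QuadraticMap.polar Q (ua + ub) x = 0 ∧ eich Q (ua + ub) x ∈ M}
                add_mem' := fun {p q} hp hq => ⟨by rw [QuadraticMap.polar_add_right, hp.1, hq.1, add_zero], by
                  rw [← eich_mul Q hQu hp.1 hq.1]
                  exact mul_mem hp.2 hq.2⟩
                zero_mem' := ⟨QuadraticMap.polar_zero_right Q _, by rw [eich_zero Q hQu]; exact one_mem M⟩
                neg_mem' := fun {p} hp => ⟨by rw [QuadraticMap.polar_neg_right, hp.1, neg_zero], by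
                  rw [← eich_inv Q hQu hp.1]
                  exact inv_mem hp.2⟩ }, fun x => Iff.rfl⟩
    have hSconj : ∀ g ∈ dStab Q D ⊓ eichGroup Q, g.1 (ua + ub) = ua + ub → ∀ x ∈ S, g.1 x ∈ S := by
      intro g hg hgu x hx
      rw [hS] at hx ⊢
      have h1 := mul_mem (mul_mem (hHM hg) hx.2) (inv_mem (hHM hg))
      rw [eich_conj Q g hQu hx.1, hgu] at h1
      have e := qAut_polar g (ua + ub) x
      rw [hgu, hx.1] at e
      exact ⟨e, h1⟩
    have hXS : ∀ c : F, c • X ∈ S := by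
      intro c
      have hcu : c • (ua + ub) ∈ T := by
        rw [smul_add]
        exact T.add_mem (hRT a₀ ha₀ _ ((D a₀).smul_mem c hua)) (hRT b₀ hb₀.2 _ ((D b₀).smul_mem c hub))
      rw [hT] at hcu
      have hQcu : Q (c • (ua + ub)) = 0 := by rw [quad_smul, hQu, mul_zero]
      have huX : QuadraticMap.polar Q (ua + ub) X = 0 := by
        rw [QuadraticMap.polar_comm, QuadraticMap.polar_add_right, hXD a₀ ha₀ ua hua, hXD b₀ hb₀.2 ub hub, add_zero]
      have h := hcu.2
      rw [eich_antisymm hQX hQcu hcu.1, eich_smul_left Q hQu (by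
        rw [QuadraticMap.polar_neg_right, huX, neg_zero])] at h
      have hneg : -(c • X) ∈ S := (hS _).2 ⟨by
        rw [QuadraticMap.polar_neg_right, QuadraticMap.polar_smul_right, huX, smul_zero, neg_zero], by
        rwa [← smul_neg]⟩
      simpa using S.neg_mem hneg
    obtain ⟨f', hf'⟩ := exists_notMem_fin (s := insert b₀ (insert a₀ C)) (by
      have h1 := Finset.card_insert_le a₀ C
      have h3 := Finset.card_insert_le b₀ (insert a₀ C)
      omega)
    simp only [Finset.mem_insert, not_or] at hf'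
    have hιa : ι ≠ a₀ := fun h => ha₀ (h ▸ hι)
    have hιb : ι ≠ b₀ := fun h => hb₀.2 (h ▸ hι)
    have hιf : ι ≠ f' := fun h => hf'.2.2 (h ▸ hι)
    have hufix : ∀ m ∈ D ι, ∀ hm : Q m ≠ 0, (qRefl Q hm).1 (ua + ub) = ua + ub := fun m hm' hm =>
      qRefl_fix Q hm (hperp ι hιa hιb m hm')
    have huperp : ua + ub ∈ qPerp Q (D f') :=
      (qPerp Q (D f')).add_mem (hD.perp_le hf'.2.1 hua) (hD.perp_le hf'.1 hub)
    have hιS : ∀ x ∈ D ι, x ∈ S := by
      obtain ⟨xι, hxι, X', hX', hXsum⟩ := exists_add_qPerp Q hQ (hD.nd ι) X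
      have hxι0 : xι ≠ 0 := by
        rintro rfl
        rw [zero_add] at hXsum
        exact hιX (hXsum ▸ hX')
      obtain ⟨m, hm, hQm, hxm⟩ := exists_aniso_polar h2 (hD.nd ι) hxι hxι0
      obtain ⟨g, hg, hgb⟩ := hD.exists_comp hQ hn (hD.nd f') (hdim f') le_rfl (hD.qRefl_mem_dStab hQ hm hQm)
      have h1 := S.sub_mem (hXS 1) (hSconj g hg ((hgb _ huperp).trans (hufix m hm hQm)) _ (hXS 1))
      rw [one_smul, hgb X (hXC f' hf'.2.2), qRefl_apply, sub_sub_cancel] at h1
      have hXm : QuadraticMap.polar Q X m = QuadraticMap.polar Q xι m := by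
        rw [← hXsum, QuadraticMap.polar_add_left, QuadraticMap.polar_comm Q X' m, hD.polar_eq_zero hm hX', add_zero]
      rw [hXm] at h1
      have hnz : ((Q m)⁻¹ * QuadraticMap.polar Q xι m) • m ≠ 0 :=
        smul_ne_zero (mul_ne_zero (inv_ne_zero hQm) hxm) fun h => hQm (by rw [h, map_zero])
      obtain ⟨Sι, hSι⟩ : ∃ Sι : AddSubgroup V, ∀ x, x ∈ Sι ↔ x ∈ D ι ∧ x ∈ S :=
        ⟨(D ι).toAddSubgroup ⊓ S, fun x => Iff.rfl⟩
      refine fun x hx => ((hSι x).1 (le_of_refl_invariant h2 (hD.nd ι) (hdim ι) (Or.inl hq) Sι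
        (fun y hy => ((hSι y).1 hy).1) ?_ ((hSι _).2 ⟨(D ι).smul_mem _ hm, h1⟩) hnz x hx)).2
      intro m' hm' hQm' y hy
      rw [hSι] at hy ⊢
      obtain ⟨g', hg', hgb'⟩ := hD.exists_comp hQ hn (hD.nd f') (hdim f') le_rfl (hD.qRefl_mem_dStab hQ hm' hQm')
      refine ⟨by rw [qRefl_apply]; exact (D ι).sub_mem hy.1 ((D ι).smul_mem _ hm'), ?_⟩
      rw [← hgb' y (hD.perp_le hιf.symm hy.1)]
      exact hSconj g' hg' ((hgb' _ huperp).trans (hufix m' hm' hQm')) y hy.2
    intro i hia hib x hx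
    refine ⟨hperp i hia hib x hx, ?_⟩
    rcases eq_or_ne i ι with rfl | hiι
    · exact ((hS x).1 (hιS x hx)).2
    obtain ⟨g, hg, hmap, hgfix⟩ := exists_swap_into hD hQ hn le_rfl (Ne.symm hiι)
    rw [← hmap] at hx
    obtain ⟨y, hy, rfl⟩ := hx
    refine ((hS _).1 (hSconj g hg ?_ y (hιS y hy))).2
    rw [map_add, hgfix a₀ hιa.symm hia.symm ua hua, hgfix b₀ hιb.symm hib.symm ub hub]
  -- an adapted basis of the two members
  obtain ⟨a, haD, hQa⟩ := exists_value_in (hD.nd a₀) (hdim a₀) (one_ne_zero (α := F))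
  obtain ⟨a', ha', hQa'⟩ := exists_aniso_in Q (ndOn_orthIn Q h2 (hD.nd a₀) haD (hQa ▸ one_ne_zero)) (fun h0 => by
    have := finrank_orthIn_ge Q (D a₀) a
    rw [h0, finrank_bot, hD.dim] at this
    omega)
  rw [mem_orthIn] at ha'
  obtain ⟨e, he, hQe⟩ := exists_value_in (hD.nd a₀) (hdim a₀) (neg_ne_zero.2 (one_ne_zero (α := F)))
  obtain ⟨φ, hφ⟩ := hD.isom a₀ b₀
  have hφB : ∀ x y : D a₀, QuadraticMap.polar Q (φ x : V) (φ y) = QuadraticMap.polar Q (x : V) y := fun x y => by
    simp only [QuadraticMap.polar, ← Submodule.coe_add, ← map_add, hφ]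
  -- coordinates of `e`
  obtain ⟨α, β, rfl⟩ : ∃ α β : F, e = α • a + β • a' := by
    have hdiv : ∀ v w : V, Q v ≠ 0 → QuadraticMap.polar Q v
        (w - (QuadraticMap.polar Q v w / (2 * Q v)) • v) = 0 := fun v w hv => by
      rw [QuadraticMap.polar_sub_right, QuadraticMap.polar_smul_right, quad_polar_self, smul_eq_mul,
        div_mul_cancel₀ _ (mul_ne_zero h2 hv), sub_self]
    refine ⟨QuadraticMap.polar Q a e / (2 * Q a), QuadraticMap.polar Q a' e / (2 * Q a'), ?_⟩
    obtain ⟨w, hw⟩ : ∃ w, w = e - (QuadraticMap.polar Q a e / (2 * Q a)) • a -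
        (QuadraticMap.polar Q a' e / (2 * Q a')) • a' := ⟨_, rfl⟩
    have hwD : w ∈ D a₀ := hw ▸ (D a₀).sub_mem ((D a₀).sub_mem he ((D a₀).smul_mem _ haD)) ((D a₀).smul_mem _ ha'.1)
    have hwa : QuadraticMap.polar Q a w = 0 := by
      rw [hw, QuadraticMap.polar_sub_right, hdiv a e (hQa ▸ one_ne_zero), QuadraticMap.polar_smul_right, ha'.2,
        smul_zero, sub_zero]
    have hwa' : QuadraticMap.polar Q a' w = 0 := by
      rw [hw, sub_right_comm, QuadraticMap.polar_sub_right, hdiv a' e hQa', QuadraticMap.polar_smul_right,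
        QuadraticMap.polar_comm Q a' a, ha'.2, smul_zero, sub_zero]
    have hspan : Submodule.span F {a, a'} = D a₀ := by
      refine Submodule.eq_of_le_of_finrank_le (Submodule.span_le.2 ?_) ?_
      · rintro x (rfl | rfl)
        · exact haD
        · exact ha'.1
      · have hli : LinearIndependent F ![a, a'] := by
          rw [LinearIndependent.pair_iff' (fun h => by rw [h, map_zero] at hQa; exact one_ne_zero hQa.symm)]
          intro s hs
          have h := ha'.2
          rw [← hs, QuadraticMap.polar_smul_right, quad_polar_self, hQa, smul_eq_mul, mul_one, mul_eq_zero] at h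
          rcases h with rfl | h
          · rw [zero_smul] at hs
            exact hQa' (by rw [← hs, map_zero])
          · exact h2 h
        have h := finrank_span_eq_card hli
        rw [Matrix.range_cons_cons_empty, Fintype.card_fin] at h
        rw [h, hD.dim]
    have hw0 : w = 0 := hD.nd a₀ w hwD fun y hy => by
      rw [← hspan, Submodule.mem_span_pair] at hy
      obtain ⟨p, q, rfl⟩ := hy
      rw [QuadraticMap.polar_comm, QuadraticMap.polar_add_left, QuadraticMap.polar_smul_left,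
        QuadraticMap.polar_smul_left, hwa, hwa', smul_zero, smul_zero, add_zero]
    rw [← sub_eq_zero, ← hw0, hw]
    abel
  obtain ⟨b, hbD, hQb, b', hb'D, hQb', hbb'⟩ : ∃ b ∈ D b₀, Q b = -1 ∧ ∃ b' ∈ D b₀,
      Q b' = -Q a' ∧ QuadraticMap.polar Q b b' = 0 := by
    refine ⟨(φ ⟨α • a + β • a', he⟩ : V), (φ _).2, by rw [hφ]; exact hQe,
      (φ ⟨(-(β * Q a')) • a + α • a', (D a₀).add_mem ((D a₀).smul_mem _ haD) ((D a₀).smul_mem _ ha'.1)⟩ : V),
      (φ _).2, ?_, ?_⟩
    · rw [hφ]
      change Q ((-(β * Q a')) • a + α • a') = _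
      have he' : Q (α • a + β • a') = -1 := hQe
      rw [quad_add, quad_smul, quad_smul, QuadraticMap.polar_smul_left, QuadraticMap.polar_smul_right, ha'.2,
        hQa] at he' ⊢
      simp only [smul_zero, add_zero, mul_one] at he' ⊢
      linear_combination (Q a') * he'
    · rw [hφB]
      change QuadraticMap.polar Q (α • a + β • a') ((-(β * Q a')) • a + α • a') = 0
      simp only [QuadraticMap.polar_add_left, QuadraticMap.polar_add_right, QuadraticMap.polar_smul_left,
        QuadraticMap.polar_smul_right, quad_polar_self, ha'.2, QuadraticMap.polar_comm Q a' a, hQa, smul_eq_mul]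
      ring
  have hab : ∀ x ∈ D a₀, ∀ y ∈ D b₀, QuadraticMap.polar Q x y = 0 := fun x hx y hy =>
    hD.orth a₀ b₀ (Ne.symm hb₀.1) x hx y hy
  have hsup : D a₀ ⊔ D b₀ = Submodule.span F {a, a'} ⊔ Submodule.span F {b, b'} := by
    have hspan : ∀ (i : Fin t) (x y : V), x ∈ D i → y ∈ D i → Q x ≠ 0 → Q y ≠ 0 →
        QuadraticMap.polar Q x y = 0 → Submodule.span F {x, y} = D i := by
      intro i x y hx hy hQx hQy hxy
      refine Submodule.eq_of_le_of_finrank_le (Submodule.span_le.2 ?_) ?_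
      · rintro z (rfl | rfl)
        · exact hx
        · exact hy
      · have hli : LinearIndependent F ![x, y] := by
          rw [LinearIndependent.pair_iff' (fun h => hQx (by rw [h, map_zero]))]
          intro s hs
          rw [← hs, QuadraticMap.polar_smul_right, quad_polar_self, smul_eq_mul, mul_eq_zero] at hxy
          rcases hxy with rfl | h
          · rw [zero_smul] at hs
            exact hQy (by rw [← hs, map_zero])
          · exact mul_ne_zero h2 hQx h
        have h := finrank_span_eq_card hli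
        rw [Matrix.range_cons_cons_empty, Fintype.card_fin] at h
        rw [h, hD.dim]
    rw [hspan a₀ a a' haD ha'.1 (hQa ▸ one_ne_zero) hQa' ha'.2,
      hspan b₀ b b' hbD hb'D (hQb ▸ neg_ne_zero.2 one_ne_zero) (hQb' ▸ neg_ne_zero.2 hQa') hbb']
  have hsing : ∀ x y, x ∈ D a₀ → y ∈ D b₀ → Q x + Q y = 0 → x + y ∈ D a₀ ⊔ D b₀ ∧ Q (x + y) = 0 :=
    fun x y hx hy h => ⟨Submodule.add_mem_sup hx hy, by rw [quad_add, hab x hx y hy, add_zero, h]⟩
  obtain ⟨c₀, hc₀a, hc₀b⟩ : ∃ c, c ≠ a₀ ∧ c ≠ b₀ := ⟨ι, fun h => ha₀ (h ▸ hι), fun h => hb₀.2 (h ▸ hι)⟩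
  obtain ⟨z, hzD, hQz⟩ := exists_value_in (hD.nd c₀) (hdim c₀) (one_ne_zero (α := F))
  -- full singular points
  have hfull : ∀ s : F, s * s = 1 → EFull Q M (a + s • b) := by
    intro s hs
    obtain ⟨u, hu⟩ : ∃ u, u = a + s • b := ⟨_, rfl⟩
    rw [← hu]
    have hQsb : Q a + Q (s • b) = 0 := by rw [hQa, quad_smul, hs, hQb]; ring
    obtain ⟨huU, hQu⟩ := hu ▸ hsing a (s • b) haD ((D b₀).smul_mem s hbD) hQsb
    have hinside : ∀ v ∈ D a₀ ⊔ D b₀, Q v = 0 → QuadraticMap.polar Q u v = 0 → ∀ c : F,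
        eich Q u (c • v) ∈ M := by
      intro v hv hQv huv
      suffices h : ∀ c : F, eich Q u ((-2 : F) • (c • v)) ∈ M by
        intro c
        have := h ((-2)⁻¹ * c)
        rwa [smul_smul, ← mul_assoc, mul_inv_cancel₀ (neg_ne_zero.2 h2), one_mul] at this
      intro c
      have hQcv : Q (c • v) = 0 := by rw [quad_smul, hQv, mul_zero]
      obtain ⟨huz, hmz⟩ := hTu u huU hQu c₀ hc₀a hc₀b z hzD
      obtain ⟨hvz, hmv⟩ := hTu (c • v) ((D a₀ ⊔ D b₀).smul_mem c hv) hQcv c₀ hc₀a hc₀b z hzD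
      have hucv : QuadraticMap.polar Q u (c • v) = 0 := by rw [QuadraticMap.polar_smul_right, huv, smul_zero]
      have hfix : (eich Q (c • v) z).1 u = u := by
        rw [eich_apply Q hQcv hvz, hucv, huz]
        simp
      have himg : (eich Q (c • v) z).1 z = z + (-2 : F) • (c • v) := by
        rw [eich_apply Q hQcv hvz, QuadraticMap.polar_comm Q z (c • v), hvz, quad_polar_self, hQz]
        simp [sub_eq_add_neg, neg_smul]
      have h1 := mul_mem (mul_mem hmv hmz) (inv_mem hmv)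
      have huv2 : QuadraticMap.polar Q u ((-2 : F) • (c • v)) = 0 := by
        rw [QuadraticMap.polar_smul_right, hucv, smul_zero]
      rw [eich_conj Q _ hQu huz, hfix, himg, ← eich_mul Q hQu huz huv2, Subgroup.mul_mem_cancel_left M hmz] at h1
      exact h1
    intro w hw
    obtain ⟨pa, hpa, w', hw', rfl⟩ := exists_add_qPerp Q hQ (hD.nd a₀) w
    obtain ⟨pb, hpb, w'', hw'', rfl⟩ := exists_add_qPerp Q hQ (hD.nd b₀) w'
    have hw''a : w'' ∈ qPerp Q (D a₀) := by
      have := (qPerp Q (D a₀)).sub_mem hw' (hD.perp_le (Ne.symm hb₀.1) hpb)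
      rwa [add_sub_cancel_left] at this
    -- the part outside
    have hout : eich Q u w'' ∈ M ∧ QuadraticMap.polar Q u w'' = 0 := by
      obtain ⟨S, hS⟩ : ∃ S : Submodule F V, ∀ x, x ∈ S ↔
          ∀ c : F, QuadraticMap.polar Q u (c • x) = 0 ∧ eich Q u (c • x) ∈ M := by
        refine ⟨{ carrier := {x | ∀ c : F, QuadraticMap.polar Q u (c • x) = 0 ∧ eich Q u (c • x) ∈ M}
                  add_mem' := fun {p q} hp hq c => by
                    rw [smul_add]
                    exact ⟨by rw [QuadraticMap.polar_add_right, (hp c).1, (hq c).1, add_zero], by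
                      rw [← eich_mul Q hQu (hp c).1 (hq c).1]
                      exact mul_mem (hp c).2 (hq c).2⟩
                  zero_mem' := fun c => by
                    rw [smul_zero]
                    exact ⟨QuadraticMap.polar_zero_right Q u, by rw [eich_zero Q hQu]; exact one_mem M⟩
                  smul_mem' := fun r p hp c => by rw [smul_smul]; exact hp _ }, fun x => Iff.rfl⟩
      have h : w'' ∈ S := hD.mem_of_parts hQ (Finset.univ.filter fun i => i ≠ a₀ ∧ i ≠ b₀)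
        (fun i hi x hx => (hS x).2 fun c => by
          rw [Finset.mem_filter] at hi
          exact hTu u huU hQu i hi.2.1 hi.2.2 _ ((D i).smul_mem c hx))
        (fun i hi => by
          rw [Finset.mem_filter] at hi
          push Not at hi
          rcases eq_or_ne i a₀ with rfl | hia
          · exact hw''a
          · rw [hi (Finset.mem_univ _) hia]
            exact hw'')
      have h1 := (hS w'').1 h 1
      rw [one_smul] at h1
      exact ⟨h1.2, h1.1⟩
    -- the part inside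
    obtain ⟨p, q, rfl⟩ : ∃ p q : F, p • a + q • a' = pa := by
      have : pa ∈ Submodule.span F {a, a'} ⊔ Submodule.span F {b, b'} := hsup ▸ Submodule.mem_sup_left hpa
      obtain ⟨x, hx, y, hy, hxy⟩ := Submodule.mem_sup.1 this
      have hxD : x ∈ D a₀ := (Submodule.span_le.2 (by rintro z (rfl | rfl); exacts [haD, ha'.1])) hx
      have hyD : y ∈ D b₀ := (Submodule.span_le.2 (by rintro z (rfl | rfl); exacts [hbD, hb'D])) hy
      have hy0 : y = 0 := hD.nd b₀ y hyD fun v hv => by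
        rw [show y = pa - x by rw [← hxy]; abel]
        exact hab _ ((D a₀).sub_mem hpa hxD) v hv
      rw [hy0, add_zero] at hxy
      rw [hxy] at hx
      exact Submodule.mem_span_pair.1 hx
    obtain ⟨p', q', rfl⟩ : ∃ p q : F, p • b + q • b' = pb := by
      have : pb ∈ Submodule.span F {a, a'} ⊔ Submodule.span F {b, b'} := hsup ▸ Submodule.mem_sup_right hpb
      obtain ⟨x, hx, y, hy, hxy⟩ := Submodule.mem_sup.1 this
      have hxD : x ∈ D a₀ := (Submodule.span_le.2 (by rintro z (rfl | rfl); exacts [haD, ha'.1])) hx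
      have hyD : y ∈ D b₀ := (Submodule.span_le.2 (by rintro z (rfl | rfl); exacts [hbD, hb'D])) hy
      have hx0 : x = 0 := hD.nd a₀ x hxD fun v hv => by
        rw [show x = pb - y by rw [← hxy]; abel, QuadraticMap.polar_comm]
        exact hab v hv _ ((D b₀).sub_mem hpb hyD)
      rw [hx0, zero_add] at hxy
      rw [hxy] at hy
      exact Submodule.mem_span_pair.1 hy
    have hua' : QuadraticMap.polar Q u a' = 0 := by
      rw [hu, QuadraticMap.polar_add_left, ha'.2, QuadraticMap.polar_smul_left, QuadraticMap.polar_comm,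
        hab a' ha'.1 b hbD, smul_zero, add_zero]
    have hub' : QuadraticMap.polar Q u b' = 0 := by
      rw [hu, QuadraticMap.polar_add_left, hab a haD b' hb'D, QuadraticMap.polar_smul_left, hbb', smul_zero, add_zero]
    have hps : p' = p * s := by
      have h : QuadraticMap.polar Q u (p • a + q • a' + (p' • b + q' • b' + w'')) = 0 := hw
      simp only [QuadraticMap.polar_add_right, QuadraticMap.polar_smul_right, hua', hub', hout.2, smul_zero,
        add_zero] at h
      simp only [hu, QuadraticMap.polar_add_left, QuadraticMap.polar_smul_left, quad_polar_self,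
        hab a haD b hbD, QuadraticMap.polar_comm Q b a, hQa, hQb, smul_eq_mul, mul_zero, add_zero, zero_add] at h
      have h' : (2 : F) * (p - p' * s) = 0 := by linear_combination h
      have := sub_eq_zero.1 ((mul_eq_zero.1 h').resolve_left h2)
      rw [this, mul_assoc, hs, mul_one]
    have hpm : ∀ c : F, c * c = 1 → eich Q u (((q + c * q') / 2) • (a' + c • b')) ∈ M ∧
        QuadraticMap.polar Q u (((q + c * q') / 2) • (a' + c • b')) = 0 := by
      intro c hc
      obtain ⟨hU', hQ'⟩ := hsing a' (c • b') ha'.1 ((D b₀).smul_mem c hb'D) (by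
        rw [quad_smul, hc, one_mul, hQb', add_neg_cancel])
      have huv : QuadraticMap.polar Q u (a' + c • b') = 0 := by
        rw [QuadraticMap.polar_add_right, hua', QuadraticMap.polar_smul_right, hub', smul_zero, add_zero]
      exact ⟨hinside _ hU' hQ' huv _, by rw [QuadraticMap.polar_smul_right, huv, smul_zero]⟩
    obtain ⟨hp1, hp1'⟩ := hpm 1 (one_mul 1)
    obtain ⟨hm1, hm1'⟩ := hpm (-1) (by ring)
    have huu : QuadraticMap.polar Q u u = 0 := by rw [quad_polar_self, hQu, mul_zero]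
    have hsum : QuadraticMap.polar Q u (((q + 1 * q') / 2) • (a' + (1 : F) • b') +
        ((q + -1 * q') / 2) • (a' + (-1 : F) • b')) = 0 := by
      rw [QuadraticMap.polar_add_right, hp1', hm1', add_zero]
    have hdec : p • a + q • a' + (p' • b + q' • b' + w'') =
        (((q + 1 * q') / 2) • (a' + (1 : F) • b') + ((q + -1 * q') / 2) • (a' + (-1 : F) • b') + w'') + p • u := by
      rw [hps, hu]
      match_scalars <;> field_simp <;> ring
    have hs3 : QuadraticMap.polar Q u (((q + 1 * q') / 2) • (a' + (1 : F) • b') +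
        ((q + -1 * q') / 2) • (a' + (-1 : F) • b') + w'') = 0 := by
      rw [QuadraticMap.polar_add_right, hsum, hout.2, add_zero]
    rw [hdec, eich_add_self Q hQu hs3, ← eich_mul Q hQu hsum hout.2, ← eich_mul Q hQu hp1' hm1']
    exact mul_mem (mul_mem hp1 hm1) hout.1
  have hb0 : QuadraticMap.polar Q a b = 0 := hab a haD b hbD
  refine eichGroup_le_of_full Q hQ (by omega) (u := a + (1 : F) • b) (v := a + (-1 : F) • b) ?_ ?_ ?_
    (hfull 1 (one_mul 1)) (hfull (-1) (by ring))
  · rw [one_smul, quad_add, hQa, hQb, hb0]; ring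
  · rw [quad_add, quad_smul, QuadraticMap.polar_smul_right, hQa, hQb, hb0, smul_zero]; ring
  · simp only [QuadraticMap.polar_add_left, QuadraticMap.polar_add_right, QuadraticMap.polar_smul_left,
      QuadraticMap.polar_smul_right, quad_polar_self, hQa, hQb, hb0, QuadraticMap.polar_comm Q b a, smul_eq_mul]
    rw [show 2 * 1 + 1 * 0 + -1 * (0 + 1 * (2 * -1)) = (2 : F) * 2 by ring]
    exact mul_ne_zero h2 h2

end CfsgLib.Classical22.OrthDecomp
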