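/-
Pairs of reflections in a subgroup: tools for decompositions into planes.
-/
import Cfsg.Agent.Lib.Classical22.OrthDecompTwoShort

set_option autoImplicit false

namespace CfsgLib.Classical22.OrthDecomp

open CfsgLib.Classical

variable {F V : Type*} [Field F] [AddCommGroup V] [Module F V] {Q : QuadraticForm F V}
variable {t : ℕ} {D : Fin t → Submodule F V} {k : ℕ}

/-- Two vectors of equal value whose reflections multiply into `M`. -/
def ReflRel (Q : QuadraticForm F V) (M : Subgroup (qAut Q)) (a b : V) : Prop :=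
  Q a = Q b ∧ ∃ (ha : Q a ≠ 0) (hb : Q b ≠ 0), qRefl Q ha * qRefl Q hb ∈ M

variable {M : Subgroup (qAut Q)}

theorem qRefl_congr {v w : V} (hv : Q v ≠ 0) (hw : Q w ≠ 0) (h : v = w) : qRefl Q hv = qRefl Q hw := by
  subst h
  rfl

theorem ReflRel.symm {a b : V} (h : ReflRel Q M a b) : ReflRel Q M b a := by
  obtain ⟨he, ha, hb, hm⟩ := h
  refine ⟨he.symm, hb, ha, ?_⟩
  have := inv_mem hm
  rwa [mul_inv_rev, qRefl_inv, qRefl_inv] at this

theorem ReflRel.trans {a b c : V} (h : ReflRel Q M a b) (h' : ReflRel Q M b c) : ReflRel Q M a c := by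
  obtain ⟨he, ha, hb, hm⟩ := h
  obtain ⟨he', hb', hc, hm'⟩ := h'
  refine ⟨he.trans he', ha, hc, ?_⟩
  have := mul_mem hm hm'
  rwa [mul_assoc, ← mul_assoc (qRefl Q hb), qRefl_mul_self, one_mul] at this

theorem ReflRel.map {a b : V} (h : ReflRel Q M a b) {g : qAut Q} (hg : g ∈ M) : ReflRel Q M (g.1 a) (g.1 b) := by
  obtain ⟨he, ha, hb, hm⟩ := h
  refine ⟨by rw [qAut_map, qAut_map, he], by rwa [qAut_map], by rwa [qAut_map], ?_⟩
  have e : g * (qRefl Q ha * qRefl Q hb) * g⁻¹ = (g * qRefl Q ha * g⁻¹) * (g * qRefl Q hb * g⁻¹) := by group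
  have := mul_mem (mul_mem hg hm) (inv_mem hg)
  rwa [e, qRefl_conj Q g ha (by rwa [qAut_map]), qRefl_conj Q g hb (by rwa [qAut_map])] at this

/-- An element fixing one of two related vectors relates the other to its image. -/
theorem ReflRel.step {a b : V} (h : ReflRel Q M a b) {g : qAut Q} (hg : g ∈ M) (hga : g.1 a = a) :
    ReflRel Q M b (g.1 b) := by
  have := h.map hg
  rw [hga] at this
  exact h.symm.trans this

/-- Related vectors with a non-singular difference give a pair at the difference. -/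
theorem ReflRel.diff {b b' : V} (h : ReflRel Q M b b') {δ : V} (hδ : δ = b' - b) (hQδ : Q δ ≠ 0) :
    ReflRel Q M (δ - ((Q b)⁻¹ * QuadraticMap.polar Q δ b) • b) δ := by
  subst hδ
  obtain ⟨he, hb, hb', hm⟩ := h
  have hne : Q (b - b') ≠ 0 := by rwa [← neg_sub, QuadraticMap.map_neg]
  have hne' : Q ((qRefl Q hb).1 (b' - b)) ≠ 0 := by rwa [qAut_map]
  rw [← qRefl_apply Q hb]
  refine ⟨qAut_map _ _, hne', hQδ, ?_⟩
  have hflip : qRefl Q hne = qRefl Q hQδ := by
    refine qAut_ext fun x => ?_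
    rw [qRefl_apply, qRefl_apply, ← neg_sub b' b, QuadraticMap.polar_neg_right, QuadraticMap.map_neg]
    simp only [mul_neg, neg_smul, smul_neg, neg_neg]
  have h1 : qRefl Q hb' = qRefl Q hQδ * qRefl Q hb * (qRefl Q hQδ)⁻¹ := by
    rw [← hflip, qRefl_conj Q _ hb (by rwa [qRefl_exchange Q he hne])]
    exact qRefl_congr _ _ (qRefl_exchange Q he hne).symm
  rw [← qRefl_conj Q (qRefl Q hb) hQδ hne', qRefl_inv]
  rw [h1, qRefl_inv] at hm
  simpa only [mul_assoc] using hm

/-- An Eichler transformation as a product of two reflections. -/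
theorem eich_eq_pair {b δ : V} (hQδ : Q δ = 0) (hbδ : QuadraticMap.polar Q b δ = 0) (hb : Q b ≠ 0)
    (hb' : Q (b + δ) ≠ 0) : eich Q δ ((Q b)⁻¹ • b) = qRefl Q hb * qRefl Q hb' := by
  have hw : QuadraticMap.polar Q δ ((Q b)⁻¹ • b) = 0 := by
    rw [QuadraticMap.polar_smul_right, QuadraticMap.polar_comm, hbδ, smul_zero]
  have he : Q b = Q (b + δ) := by rw [quad_add, hQδ, hbδ, add_zero, add_zero]
  refine qAut_ext fun x => ?_
  rw [eich_apply Q hQδ hw, qAut_mul_apply, qRefl_apply, qRefl_apply, ← he]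
  simp only [QuadraticMap.polar_sub_left, QuadraticMap.polar_smul_left, QuadraticMap.polar_smul_right,
    QuadraticMap.polar_add_left, QuadraticMap.polar_add_right, quad_polar_self, QuadraticMap.polar_comm Q δ b,
    hbδ, quad_smul, smul_eq_mul]
  match_scalars <;> field_simp <;> ring

/-- Related vectors with a singular difference give an Eichler transformation. -/
theorem ReflRel.eich_mem {b δ : V} (h : ReflRel Q M b (b + δ)) (hQδ : Q δ = 0) :
    QuadraticMap.polar Q δ ((Q b)⁻¹ • b) = 0 ∧ eich Q δ ((Q b)⁻¹ • b) ∈ M := by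
  obtain ⟨he, hb, hb', hm⟩ := h
  have hbδ : QuadraticMap.polar Q b δ = 0 := by
    rw [quad_add, hQδ, add_zero] at he
    simpa using he
  exact ⟨by rw [QuadraticMap.polar_smul_right, QuadraticMap.polar_comm, hbδ, smul_zero],
    (eich_eq_pair hQδ hbδ hb hb').symm ▸ hm⟩

variable [FiniteDimensional F V] [Fintype F]

theorem qRefl_sq_mem (hQ : PolarNondeg Q) (hn : 5 ≤ Module.finrank F V) {v w : V} (hv : Q v ≠ 0) (hw : Q w ≠ 0)
    (h : IsSquare (Q v / Q w)) : qRefl Q hw * qRefl Q hv ∈ eichGroup Q := by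
  obtain ⟨s, hs⟩ := h
  have hsw : Q (s • w) = Q v := by rw [quad_smul, ← hs, div_mul_cancel₀ _ hw]
  have hsw0 : Q (s • w) ≠ 0 := hsw ▸ hv
  rw [← qRefl_smul Q hw hsw0]
  exact qRefl_mul_mem hQ hn hv hsw0 hsw.symm

theorem reflRel_of_members (hD : Data Q D k) (hQ : PolarNondeg Q) (hn : 5 ≤ Module.finrank F V)
    (hHM : dStab Q D ⊓ eichGroup Q ≤ M) {i j : Fin t} {x y : V} (hx : x ∈ D i) (hy : y ∈ D j) (hQx : Q x ≠ 0)
    (h : Q x = Q y) : ReflRel Q M x y :=
  ⟨h, hQx, h ▸ hQx, hHM ⟨mul_mem (hD.qRefl_mem_dStab hQ hx hQx) (hD.qRefl_mem_dStab hQ hy (h ▸ hQx)),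
    qRefl_mul_mem hQ hn (h ▸ hQx) hQx h.symm⟩⟩

/-- A vector related to a vector of a member is related to all its images. -/
theorem reflRel_images (hD : Data Q D k) (hQ : PolarNondeg Q) (hn : 5 ≤ Module.finrank F V)
    (hHM : dStab Q D ⊓ eichGroup Q ≤ M) {c : Fin t} {n w : V} (hn' : n ∈ D c) (hw : ReflRel Q M w n) :
    ∀ h ∈ dStab Q D ⊓ eichGroup Q, ReflRel Q M w (h.1 w) := by
  intro h hh
  have hQn : Q n ≠ 0 := hw.1 ▸ hw.2.1
  obtain ⟨σ, hσ⟩ := hh.1
  exact (hw.trans (reflRel_of_members hD hQ hn hHM hn'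
    (hσ c ▸ Submodule.mem_map_of_mem (f := h.1.toLinearMap) hn') hQn (qAut_map _ _).symm)).trans
    (hw.map (hHM hh)).symm

/-- Three pairwise independent vectors of a given value in a plane. -/
theorem exists_three_values (h2 : (2 : F) ≠ 0) {N : Submodule F V} (hN : NdOn Q N)
    (hd : 2 ≤ Module.finrank F N)
    (hq : 7 ≤ Fintype.card F ∨ (5 ≤ Fintype.card F ∧ ∀ x ∈ N, Q x = 0 → x = 0))
    {x₁ : V} (hx : x₁ ∈ N) (hQx : Q x₁ ≠ 0) :
    ∃ x₂ ∈ N, ∃ x₃ ∈ N, Q x₂ = Q x₁ ∧ Q x₃ = Q x₁ ∧ (∀ s : F, s • x₁ ≠ x₂) ∧ (∀ s : F, s • x₁ ≠ x₃) ∧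
      (∀ s : F, s • x₂ ≠ x₃) := by
  classical
  obtain ⟨e, he, hQe⟩ := exists_aniso_in Q (ndOn_orthIn Q h2 hN hx hQx) (by
    intro h0
    have := finrank_orthIn_ge Q N x₁
    rw [h0, finrank_bot] at this
    omega)
  rw [mem_orthIn] at he
  have hex : QuadraticMap.polar Q e x₁ = 0 := (QuadraticMap.polar_comm Q e x₁).trans he.2
  have hQm : ∀ s : F, Q (x₁ + s • e) = Q x₁ + s * s * Q e := fun s => by
    rw [quad_add, quad_smul, QuadraticMap.polar_smul_right, he.2, smul_zero, add_zero]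
  have hind : ∀ {u : V} (α β : F), u = α • x₁ + β • e → QuadraticMap.polar Q e u = β * (2 * Q e) :=
    fun α β hu => by
      rw [hu, QuadraticMap.polar_add_right, QuadraticMap.polar_smul_right, QuadraticMap.polar_smul_right, hex,
        quad_polar_self, smul_zero, zero_add, smul_eq_mul]
  have hindx : ∀ {u : V} (α β : F), u = α • x₁ + β • e → QuadraticMap.polar Q x₁ u = α * (2 * Q x₁) :=
    fun α β hu => by
      rw [hu, QuadraticMap.polar_add_right, QuadraticMap.polar_smul_right, QuadraticMap.polar_smul_right, he.2,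
        quad_polar_self, smul_zero, add_zero, smul_eq_mul]
  obtain ⟨R, hR⟩ : ∃ R : Finset F, R = Finset.univ.filter fun s : F => Q x₁ + s * s * Q e = 0 := ⟨_, rfl⟩
  have hR2 : R.card ≤ 2 ∧ (5 ≤ Fintype.card F ∧ (7 ≤ Fintype.card F ∨ R = ∅)) := by
    refine ⟨?_, ?_⟩
    · rcases R.eq_empty_or_nonempty with h | ⟨r, hr⟩
      · simp [h]
      refine (Finset.card_le_card fun x hx => ?_).trans (Finset.card_le_two (a := r) (b := -r))
      rw [hR, Finset.mem_filter] at hr hx
      have h'' : x * x = r * r := mul_right_cancel₀ hQe (by linear_combination hx.2 - hr.2)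
      simpa using mul_self_eq_mul_self_iff.1 h''
    · rcases hq with h | ⟨h, hno⟩
      · exact ⟨by omega, Or.inl h⟩
      · refine ⟨h, Or.inr (Finset.eq_empty_of_forall_notMem fun s hs => ?_)⟩
        rw [hR, Finset.mem_filter, ← hQm] at hs
        have h0 := hno _ (N.add_mem hx (N.smul_mem s he.1)) hs.2
        have h' := congrArg (QuadraticMap.polar Q x₁) h0
        rw [QuadraticMap.polar_add_right, quad_polar_self, QuadraticMap.polar_smul_right, he.2, smul_zero, add_zero,
          QuadraticMap.polar_zero_right] at h'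
        exact mul_ne_zero h2 hQx h'
  have pick : ∀ a b : F, ∃ s, s ∉ R ∧ s ≠ 0 ∧ s ≠ a ∧ s ≠ b := by
    intro a b
    obtain ⟨s, -, hs⟩ := Finset.exists_mem_notMem_of_card_lt_card
      (s := R ∪ ({0, a, b} : Finset F)) (t := Finset.univ) (by
        rw [Finset.card_univ]
        refine lt_of_le_of_lt (Finset.card_union_le _ _) ?_
        have h3 : ({0, a, b} : Finset F).card ≤ 3 := Finset.card_le_three
        rcases hR2.2.2 with h | h
        · have := hR2.1
          omega
        · rw [h, Finset.card_empty]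
          omega)
    simp only [Finset.mem_union, Finset.mem_insert, Finset.mem_singleton, not_or] at hs
    exact ⟨s, hs.1, hs.2.1, hs.2.2.1, hs.2.2.2⟩
  have img : ∀ s, s ∉ R → ∃ (u : V) (l : F), u ∈ N ∧ Q u = Q x₁ ∧ l * (Q x₁ + s * s * Q e) = 2 * Q x₁ ∧
      u = (1 - l) • x₁ + (-(l * s)) • e := by
    intro s hs
    have hm : Q (x₁ + s • e) ≠ 0 := fun h => hs (by
      rw [hR, Finset.mem_filter]
      exact ⟨Finset.mem_univ _, hQm s ▸ h⟩)
    refine ⟨(qRefl Q hm).1 x₁, (Q (x₁ + s • e))⁻¹ * (2 * Q x₁), ?_, qAut_map _ _, ?_, ?_⟩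
    · rw [qRefl_apply]
      exact N.sub_mem hx (N.smul_mem _ (N.add_mem hx (N.smul_mem s he.1)))
    · rw [hQm, mul_comm _ (2 * Q x₁), mul_assoc, inv_mul_cancel₀ (hQm s ▸ hm), mul_one]
    · rw [qRefl_apply, QuadraticMap.polar_add_right, quad_polar_self, QuadraticMap.polar_smul_right, he.2,
        smul_zero, add_zero]
      module
  obtain ⟨s₂, hs₂, hs₂0, -, -⟩ := pick 0 0
  obtain ⟨s₃, hs₃, hs₃0, hne, hneg⟩ := pick s₂ (-(Q x₁ / (Q e * s₂)))
  obtain ⟨x₂, l₂, hx₂, hQ₂, hl₂, he₂⟩ := img s₂ hs₂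
  obtain ⟨x₃, l₃, hx₃, hQ₃, hl₃, he₃⟩ := img s₃ hs₃
  have hl0 : ∀ {l s : F}, l * (Q x₁ + s * s * Q e) = 2 * Q x₁ → l ≠ 0 := fun h h0 => by
    rw [h0, zero_mul] at h
    exact mul_ne_zero h2 hQx h.symm
  have hindep : ∀ {u : V} {l s : F}, u = (1 - l) • x₁ + (-(l * s)) • e → l ≠ 0 → s ≠ 0 →
      ∀ r : F, r • x₁ ≠ u := by
    intro u l s hu hl hs r hr
    have h := hind _ _ hu
    rw [← hr, QuadraticMap.polar_smul_right, hex, smul_zero] at h
    exact mul_ne_zero (neg_ne_zero.2 (mul_ne_zero hl hs)) (mul_ne_zero h2 hQe) h.symm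
  refine ⟨x₂, hx₂, x₃, hx₃, hQ₂, hQ₃, hindep he₂ (hl0 hl₂) hs₂0, hindep he₃ (hl0 hl₃) hs₃0, fun r hr => ?_⟩
  have hr1 : r * r = 1 := by
    have h := congrArg Q hr
    rw [quad_smul, hQ₂, hQ₃] at h
    exact (mul_left_eq_self₀.1 h).resolve_right hQx
  have h1 := hindx _ _ he₃
  have h1' := hind _ _ he₃
  rw [← hr, QuadraticMap.polar_smul_right, hindx _ _ he₂, smul_eq_mul, ← mul_assoc] at h1
  rw [← hr, QuadraticMap.polar_smul_right, hind _ _ he₂, smul_eq_mul, ← mul_assoc] at h1'
  have e1 := mul_right_cancel₀ (mul_ne_zero h2 hQx) h1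
  have e2 := mul_right_cancel₀ (mul_ne_zero h2 hQe) h1'
  rcases mul_self_eq_one_iff.1 hr1 with rfl | rfl
  · have e3 : l₂ = l₃ := by linear_combination -e1
    rw [← e3] at e2
    exact hne (mul_left_cancel₀ (hl0 hl₂) (by linear_combination e2))
  · have e3 : l₂ + l₃ = 2 := by linear_combination e1
    have e4 : l₂ * s₂ + l₃ * s₃ = 0 := by linear_combination e2
    have e5 : (Q x₁ + Q e * s₂ * s₃) * (s₂ + s₃) = 0 := by
      have hmain : (Q x₁ + Q e * s₂ * s₃) * (s₂ + s₃) * (2 * Q x₁) =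
          (l₂ * s₂ + l₃ * s₃) * ((Q x₁ + s₂ * s₂ * Q e) * (Q x₁ + s₃ * s₃ * Q e)) := by
        linear_combination (-(s₂ * (Q x₁ + s₃ * s₃ * Q e))) * hl₂ + (-(s₃ * (Q x₁ + s₂ * s₂ * Q e))) * hl₃
      rw [e4, zero_mul] at hmain
      exact (mul_eq_zero.1 hmain).resolve_right (mul_ne_zero h2 hQx)
    rcases mul_eq_zero.1 e5 with h | h
    · refine hneg ?_
      field_simp
      linear_combination h
    · have hs : s₃ = -s₂ := by linear_combination h
      have hl23 : l₂ = l₃ := by
        refine mul_right_cancel₀ (b := Q x₁ + s₂ * s₂ * Q e) (fun h0 => hs₂ (by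
          rw [hR, Finset.mem_filter]; exact ⟨Finset.mem_univ _, h0⟩)) ?_
        rw [hl₂, ← hl₃, hs]
        ring
      have hl1 : l₂ = 1 := mul_left_cancel₀ h2 (by linear_combination e3 + hl23)
      rw [hl1, one_mul] at hl₂
      refine hneg ?_
      rw [hs]
      field_simp
      linear_combination -hl₂

/-- A map sending members into members lies in the stabiliser. -/
theorem mem_dStab_of_into (hD : Data Q D k) (hk : 1 ≤ k) {g : qAut Q}
    (h : ∀ i, ∃ j, ∀ x ∈ D i, g.1 x ∈ D j) : g ∈ dStab Q D := by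
  choose σ hσ using h
  have hmap : ∀ i, (D i).map g.1.toLinearMap = D (σ i) := fun i =>
    Submodule.eq_of_le_of_finrank_le (by rintro _ ⟨x, hx, rfl⟩; exact hσ i x hx)
      (by rw [LinearEquiv.finrank_map_eq, hD.dim, hD.dim])
  have hinj : Function.Injective σ := fun a b hab => by
    by_contra hne
    obtain ⟨v, hv, hv0⟩ : ∃ v ∈ D a, v ≠ 0 := (Submodule.ne_bot_iff _).1 fun h0 => by
      have := hD.dim a
      rw [h0, finrank_bot] at this
      omega
    obtain ⟨v', hv', hvv⟩ : g.1 v ∈ (D b).map g.1.toLinearMap := by rw [hmap b, ← hab]; exact hσ a v hv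
    have he : v' = v := g.1.injective hvv
    subst he
    exact hv0 (hD.nd a v' hv fun y hy => hD.orth b a (Ne.symm hne) v' hv' y hy)
  exact mem_dStab_of_maps (Equiv.ofBijective σ (Finite.injective_iff_bijective.1 hinj))
    (fun i j => by rw [hD.dim, hD.dim]) hσ

/-- A non-involutory rotation of a plane stabilising the decomposition belongs to a member. -/
theorem plane_le_member (hD : Data Q D 2) (hQ : PolarNondeg Q) {W : Submodule F V} (hWd : Module.finrank F W = 2)
    (hW : NdOn Q W) {a b : V} (ha : a ∈ W) (hb : b ∈ W) (hind : ∀ s : F, s • a ≠ b) (hQa : Q a ≠ 0) (hQb : Q b ≠ 0)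
    (hab : QuadraticMap.polar Q a b ≠ 0) (hσ : qRefl Q hQa * qRefl Q hQb ∈ dStab Q D) : ∃ j, W ≤ D j := by
  obtain ⟨σ, hσe⟩ : ∃ σ, σ = qRefl Q hQa * qRefl Q hQb := ⟨_, rfl⟩
  rw [← hσe] at hσ
  have hdiff : ∀ x, σ.1 x - x ∈ W := fun x => by
    rw [hσe, qAut_mul_apply, qRefl_apply, qRefl_apply]
    have e : ∀ α β : F, x - β • b - α • a - x = -(β • b) - α • a := fun α β => by abel
    rw [e]
    exact W.sub_mem (W.neg_mem (W.smul_mem _ hb)) (W.smul_mem _ ha)
  have hspan : Submodule.span F {a, b} = W := by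
    refine Submodule.eq_of_le_of_finrank_le (Submodule.span_le.2 ?_) ?_
    · rintro z (rfl | rfl)
      · exact ha
      · exact hb
    · have hli : LinearIndependent F ![a, b] := by
        rw [LinearIndependent.pair_iff' (fun h => hQa (by rw [h, map_zero]))]
        exact hind
      have h := finrank_span_eq_card hli
      rw [Matrix.range_cons_cons_empty, Fintype.card_fin] at h
      rw [h, hWd]
  have hfixed : ∀ x, σ.1 x = x → x ∈ qPerp Q W := by
    intro x hx
    obtain ⟨β, hβ⟩ : ∃ β, β = (Q b)⁻¹ * QuadraticMap.polar Q x b := ⟨_, rfl⟩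
    obtain ⟨α, hα⟩ : ∃ α, α = (Q a)⁻¹ * QuadraticMap.polar Q (x - β • b) a := ⟨_, rfl⟩
    rw [hσe, qAut_mul_apply, qRefl_apply, qRefl_apply, ← hβ, ← hα] at hx
    have h0 : α • a + β • b = 0 := by
      have h' : x - (x - β • b - α • a) = 0 := by rw [hx, sub_self]
      rw [← h']
      abel
    have hα0 : α = 0 := by
      by_contra hne
      by_cases hβ0 : β = 0
      · rw [hβ0, zero_smul, add_zero, smul_eq_zero] at h0
        exact h0.elim hne fun h => hQa (by rw [h, map_zero])
      · refine hind (-(β⁻¹ * α)) ?_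
        rw [neg_smul, ← smul_smul, eq_neg_of_add_eq_zero_left h0, smul_neg, neg_neg, smul_smul,
          inv_mul_cancel₀ hβ0, one_smul]
    rw [hα0, zero_smul, zero_add, smul_eq_zero] at h0
    have hβ0 : β = 0 := h0.resolve_right fun h => hQb (by rw [h, map_zero])
    rw [hβ0, zero_smul, sub_zero] at hα
    rw [hα0, eq_comm, mul_eq_zero] at hα
    rw [hβ0, eq_comm, mul_eq_zero] at hβ
    rw [← hspan, mem_qPerp]
    intro w hw
    obtain ⟨p, q, rfl⟩ := Submodule.mem_span_pair.1 hw
    rw [QuadraticMap.polar_add_left, QuadraticMap.polar_smul_left, QuadraticMap.polar_smul_left,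
      QuadraticMap.polar_comm Q a, QuadraticMap.polar_comm Q b, hα.resolve_left (inv_ne_zero hQa),
      hβ.resolve_left (inv_ne_zero hQb), smul_zero, smul_zero, add_zero]
  have hnoneg : ¬ ∀ w ∈ W, σ.1 w = -w := fun h => by
    have h1 := h b hb
    rw [hσe, qAut_mul_apply, qRefl_self, map_neg, qRefl_apply, neg_inj, sub_eq_self, smul_eq_zero] at h1
    rcases h1 with h1 | h1
    · rw [mul_eq_zero, QuadraticMap.polar_comm] at h1
      exact hab (h1.resolve_left (inv_ne_zero hQa))
    · exact hQa (by rw [h1, map_zero])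
  obtain ⟨π, hπ⟩ := hσ
  by_cases hall : ∀ c, π c = c
  · obtain ⟨w, hw, hwσ⟩ : ∃ w ∈ W, σ.1 w ≠ -w := by
      by_contra hc
      push Not at hc
      exact hnoneg hc
    have hinjW : ∀ w ∈ W, σ.1 w = w → w = 0 := fun w hw h =>
      (Submodule.eq_bot_iff _).1 (inf_qPerp_eq_bot Q hW) w ⟨hw, hfixed w h⟩
    have hpart : ∀ c, ∀ x ∈ D c, σ.1 x - x ∈ D c := fun c x hx => (D c).sub_mem
      (by
        have := Submodule.mem_map_of_mem (f := σ.1.toLinearMap) hx
        rwa [hπ c, hall c] at this) hx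
    by_contra hno
    push Not at hno
    -- the parts of the plane inside the members
    have hneg : ∀ c, ∀ u ∈ W, u ∈ D c → σ.1 u = -u := by
      intro c u hu huc
      rcases eq_or_ne u 0 with rfl | hu0
      · simp
      have hline : W ⊓ D c = Submodule.span F {u} := by
        refine (Submodule.eq_of_le_of_finrank_le
          ((Submodule.span_singleton_le_iff_mem _ _).2 (Submodule.mem_inf.2 ⟨hu, huc⟩)) ?_).symm
        rw [finrank_span_singleton hu0]
        by_contra hlt
        refine hno c ?_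
        have hle : W ⊓ D c ≤ W := inf_le_left
        have := Submodule.eq_of_le_of_finrank_le hle (by omega)
        exact this ▸ inf_le_right
      have hσu : σ.1 u - u ∈ W ⊓ D c := ⟨hdiff u, hpart c u huc⟩
      rw [hline, Submodule.mem_span_singleton] at hσu
      obtain ⟨s, hs⟩ := hσu
      by_cases hQu : Q u = 0
      · exfalso
        obtain ⟨z, hz, hQz, huz⟩ := exists_partner Q (hD.nd c) huc hu0 hQu
        have h1 := hdiff z
        have h3 : σ.1 z - z ∈ W ⊓ D c := ⟨h1, hpart c z hz⟩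
        rw [hline, Submodule.mem_span_singleton] at h3
        obtain ⟨r, hr⟩ := h3
        have hσu' : σ.1 u = (s + 1) • u := by rw [add_smul, hs, one_smul, sub_add_cancel]
        have hσz : σ.1 z = z + r • u := by rw [hr]; abel
        have hp := qAut_polar σ u z
        rw [hσu', hσz, QuadraticMap.polar_smul_left, QuadraticMap.polar_add_right, QuadraticMap.polar_smul_right,
          quad_polar_self, hQu, huz] at hp
        simp only [smul_eq_mul, mul_zero, add_zero, mul_one] at hp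
        refine hu0 (hinjW u hu ?_)
        rw [hσu', hp, one_smul]
      · have hσu' : σ.1 u = (s + 1) • u := by rw [add_smul, hs, one_smul, sub_add_cancel]
        have h1 := qAut_map σ u
        rw [hσu', quad_smul] at h1
        rcases mul_self_eq_one_iff.1 ((mul_left_eq_self₀.1 h1).resolve_right hQu) with h | h
        · exact absurd (hinjW u hu (by rw [hσu', h, one_smul])) hu0
        · rw [hσu', h, neg_one_smul]
    have hsub : ∀ x, σ.1 (σ.1 x - x) = -(σ.1 x - x) := fun x => by
      have hx : x ∈ ⨆ i, D i := hD.sup ▸ Submodule.mem_top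
      induction hx using Submodule.iSup_induction' with
      | mem c y hy => exact hneg c _ (hdiff y) (hpart c y hy)
      | zero => simp
      | add y z _ _ hy hz =>
        rw [map_add σ.1 y z, show σ.1 y + σ.1 z - (y + z) = (σ.1 y - y) + (σ.1 z - z) by abel, map_add, hy, hz]
        abel
    -- the differences fill the plane
    obtain ⟨f, hf⟩ : ∃ f : W →ₗ[F] W, ∀ w : W, (f w : V) = σ.1 w - w :=
      ⟨((σ.1.toLinearMap - LinearMap.id).comp W.subtype).codRestrict W (fun w => hdiff w), fun w => rfl⟩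
    have hfi : Function.Injective f := by
      rw [injective_iff_map_eq_zero]
      intro v hv
      have h := congrArg Subtype.val hv
      rw [hf, Submodule.coe_zero, sub_eq_zero] at h
      exact Subtype.ext (hinjW v v.2 h)
    obtain ⟨v, hv⟩ := LinearMap.injective_iff_surjective.1 hfi ⟨w, hw⟩
    have h := congrArg Subtype.val hv
    rw [hf] at h
    exact hwσ (by
      have := hsub v
      simp only [] at h
      rwa [h] at this)
  · push Not at hall
    obtain ⟨c, hc⟩ := hall
    exfalso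
    obtain ⟨i, hi⟩ : ∃ i, i = π c := ⟨_, rfl⟩
    have hci : c ≠ i := fun h => hc (hi ▸ h.symm)
    have himg : ∀ l, ∀ x ∈ D l, σ.1 x ∈ D (π l) := fun l x hx => hπ l ▸ Submodule.mem_map_of_mem hx
    have hne : ∀ l, π l ≠ l → ∀ x ∈ D l, σ.1 x = x → x = 0 := by
      intro l hl x hx hfx
      refine hD.nd l x hx fun y hy => hD.orth (π l) l hl x ?_ y hy
      rw [← hfx]
      exact himg l x hx
    -- every vector of the plane is a difference from a moved member
    have hfill : ∀ l, π l ≠ l → ∀ w ∈ W, ∃ x ∈ D l, σ.1 x - x = w := by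
      intro l hl w hw
      obtain ⟨f, hf⟩ : ∃ f : D l →ₗ[F] W, ∀ x : D l, (f x : V) = σ.1 x - x :=
        ⟨((σ.1.toLinearMap - LinearMap.id).comp (D l).subtype).codRestrict W (fun x => hdiff x), fun x => rfl⟩
      have hfi : Function.Injective f := by
        rw [injective_iff_map_eq_zero]
        intro x hx
        have h := congrArg Subtype.val hx
        rw [hf, Submodule.coe_zero, sub_eq_zero] at h
        exact Subtype.ext (hne l hl x x.2 h)
      obtain ⟨x, hx⟩ := (LinearMap.injective_iff_surjective_of_finrank_eq_finrank (by rw [hD.dim, hWd])).1 hfi ⟨w, hw⟩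
      exact ⟨x, x.2, by rw [← hf, hx]⟩
    have hi' : π i ≠ i := fun h => hci (π.injective (show π c = π i from hi.symm.trans h.symm))
    refine hnoneg fun w hw => ?_
    obtain ⟨x, hx, hxw⟩ := hfill c (fun h => hci (hi ▸ h.symm)) w hw
    have hσx : σ.1 x ∈ D i := hi ▸ himg c x hx
    have h2w : σ.1 (σ.1 x) - σ.1 x ∈ W := hdiff _
    obtain ⟨x', hx', hx'w⟩ := hfill c (fun h => hci (hi ▸ h.symm)) _ h2w
    -- compare the parts in the second member
    have hσx' : σ.1 x' ∈ D i := hi ▸ himg c x' hx'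
    have hσσ : σ.1 (σ.1 x) ∈ D (π i) := himg i _ hσx
    have hzero : σ.1 x' + σ.1 x = σ.1 (σ.1 x) + x' := by
      linear_combination (norm := module) hx'w
    have hx'x : x' = -x := by
      have h : σ.1 (x' + x) = 0 := by
        rw [map_add]
        refine hD.nd i _ ((D i).add_mem hσx' hσx) fun y hy => ?_
        rw [hzero, QuadraticMap.polar_add_left, hD.orth (π i) i hi' _ hσσ y hy, hD.orth c i hci _ hx' y hy,
          add_zero]
      exact eq_neg_of_add_eq_zero_left (σ.1.map_eq_zero_iff.1 h)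
    rw [hx'x, map_neg] at hzero
    have hback : σ.1 (σ.1 x) = x := by
      rw [neg_add_cancel, ← sub_eq_add_neg] at hzero
      exact sub_eq_zero.1 hzero.symm
    rw [← hxw, map_sub, hback]
    abel

end CfsgLib.Classical22.OrthDecomp
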