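/-
Vectors related to members of a decomposition into planes give short Eichler transformations.
-/
import Cfsg.Agent.Lib.Classical22.OrthDecompTwoRel
import Cfsg.Agent.Lib.Classical.FiniteFieldSq

set_option autoImplicit false

namespace CfsgLib.Classical22.OrthDecomp

open CfsgLib.Classical

variable {F V : Type*} [Field F] [AddCommGroup V] [Module F V] {Q : QuadraticForm F V}
variable {t : ℕ} {D : Fin t → Submodule F V} {k : ℕ}

/-- The conditions on the field for decompositions into planes in odd characteristic. -/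
def PlaneField [Fintype F] (Q : QuadraticForm F V) {t : ℕ} (D : Fin t → Submodule F V) : Prop :=
  7 ≤ Fintype.card F ∨ (5 ≤ Fintype.card F ∧ ∀ l, ∀ x ∈ D l, Q x = 0 → x = 0)

theorem PlaneField.five_le [Fintype F] (h : PlaneField Q D) : 5 ≤ Fintype.card F := by
  rcases h with h | h
  · omega
  · exact h.1

theorem exists_coords_plane {P : Submodule F V} (hd : Module.finrank F P = 2) {x y : V} (hx : x ∈ P) (hy : y ∈ P)
    (hx0 : x ≠ 0) (hind : ∀ s : F, s • x ≠ y) {w : V} (hw : w ∈ P) : ∃ α β : F, α • x + β • y = w := by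
  have : Module.Finite F P := Module.finite_of_finrank_eq_succ hd
  have hspan : Submodule.span F {x, y} = P := by
    refine Submodule.eq_of_le_of_finrank_le (Submodule.span_le.2 ?_) ?_
    · rintro z (rfl | rfl)
      · exact hx
      · exact hy
    · have hli : LinearIndependent F ![x, y] := by
        rw [LinearIndependent.pair_iff' hx0]
        exact hind
      have h := finrank_span_eq_card hli
      rw [Matrix.range_cons_cons_empty, Fintype.card_fin] at h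
      rw [h, hd]
  rw [← hspan] at hw
  exact Submodule.mem_span_pair.1 hw

variable [Fintype F]

theorem isSquare_div_of_nonsquare (h2 : (2 : F) ≠ 0) {a b : F} (ha : ¬ IsSquare a) (hb : ¬ IsSquare b) :
    IsSquare (a / b) := by
  classical
  have ha0 : a ≠ 0 := fun h => ha (h ▸ IsSquare.zero)
  have hb0 : b ≠ 0 := fun h => hb (h ▸ IsSquare.zero)
  have h2' : ringChar F ≠ 2 := fun h => h2 (by
    have : CharP F 2 := h ▸ ringChar.charP F
    exact CharTwo.two_eq_zero)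
  rw [← isSquare_inv] at hb
  rw [div_eq_mul_inv, ← quadraticChar_one_iff_isSquare (mul_ne_zero ha0 (inv_ne_zero hb0)), map_mul,
    (quadraticChar_neg_one_iff_not_isSquare).2 ha, (quadraticChar_neg_one_iff_not_isSquare).2 hb]
  norm_num

/-- A non-trivial solution of a diagonal conic. -/
theorem exists_conic (h2 : (2 : F) ≠ 0) {α β a b : F} (hα : α ≠ 0) (hβ : β ≠ 0) (ha : a ≠ 0) (hb : b ≠ 0)
    (h : 7 ≤ Fintype.card F ∨ ∀ s, α + a * s * s ≠ 0) :
    ∃ s s' : F, α + a * s * s ≠ 0 ∧ α + a * s * s + (β + b * s' * s') = 0 := by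
  classical
  obtain ⟨s, s', hs⟩ := exists_mul_sq_add_mul_sq h2 ha hb (-(α + β))
  by_cases hbad : α + a * s * s ≠ 0
  · exact ⟨s, s', hbad, by linear_combination hs⟩
  push Not at hbad
  have hq := h.resolve_right fun h' => h' s hbad
  have hbad' : β + b * s' * s' = 0 := by linear_combination hs - hbad
  have hs0 : s ≠ 0 := fun h0 => hα (by simpa [h0] using hbad)
  have hs'0 : s' ≠ 0 := fun h0 => hβ (by simpa [h0] using hbad')
  obtain ⟨R, hR⟩ : ∃ R : Finset F, R = Finset.univ.filter fun m : F => a + b * m * m = 0 := ⟨_, rfl⟩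
  have hR2 : R.card ≤ 2 := by
    rcases R.eq_empty_or_nonempty with h0 | ⟨r, hr⟩
    · simp [h0]
    refine (Finset.card_le_card fun x hx => ?_).trans (Finset.card_le_two (a := r) (b := -r))
    rw [hR, Finset.mem_filter] at hr hx
    have h'' : x * x = r * r := mul_left_cancel₀ hb (by linear_combination hx.2 - hr.2)
    simpa using mul_self_eq_mul_self_iff.1 h''
  obtain ⟨m, -, hm⟩ := Finset.exists_mem_notMem_of_card_lt_card
    (s := R ∪ ({0, s' / s, -(a * s) / (b * s')} : Finset F)) (t := Finset.univ) (by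
      rw [Finset.card_univ]
      refine lt_of_le_of_lt (Finset.card_union_le _ _) ?_
      have h3 : ({0, s' / s, -(a * s) / (b * s')} : Finset F).card ≤ 3 := Finset.card_le_three
      omega)
  simp only [Finset.mem_union, Finset.mem_insert, Finset.mem_singleton, not_or, hR, Finset.mem_filter,
    Finset.mem_univ, true_and] at hm
  obtain ⟨hden, hm0, hm1, hm2⟩ := hm
  obtain ⟨l, hl⟩ : ∃ l, l = -(2 * (a * s + b * m * s')) / (a + b * m * m) := ⟨_, rfl⟩
  have hl' : l * (a + b * m * m) = -(2 * (a * s + b * m * s')) := by rw [hl, div_mul_cancel₀ _ hden]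
  refine ⟨s + l, s' + m * l, fun h0 => ?_, by linear_combination hbad + hbad' + l * hl'⟩
  have h1 : a * l * (l + 2 * s) = 0 := by linear_combination h0 - hbad
  rcases mul_eq_zero.1 h1 with h1 | h1
  · rcases mul_eq_zero.1 h1 with h1 | h1
    · exact ha h1
    · refine hm2 ?_
      rw [h1, zero_mul] at hl'
      rw [eq_div_iff (mul_ne_zero hb hs'0)]
      exact mul_left_cancel₀ h2 (by linear_combination hl')
  · have hl2 : l = -(2 * s) := by linear_combination h1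
    rw [hl2] at hl'
    have h3 : (2 : F) * (b * m) * (s' - s * m) = 0 := by linear_combination hl'
    refine hm1 ?_
    rw [eq_div_iff hs0]
    have := sub_eq_zero.1 ((mul_eq_zero.1 h3).resolve_left (mul_ne_zero h2 (mul_ne_zero hb hm0)))
    linear_combination -this

variable [FiniteDimensional F V]

/-- The parts of a vector in the members. -/
theorem exists_parts (hD : Data Q D k) (hQ : PolarNondeg Q) (v : V) :
    ∃ p : Fin t → V, ∀ l, p l ∈ D l ∧ v - p l ∈ qPerp Q (D l) ∧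
      (∀ x ∈ D l, QuadraticMap.polar Q v x = QuadraticMap.polar Q (p l) x) ∧
      (p l = 0 ↔ v ∈ qPerp Q (D l)) := by
  choose f hf r hr hsum using fun j => exists_add_qPerp Q hQ (hD.nd j) v
  refine ⟨f, fun l => ⟨hf l, ?_, fun x hx => ?_, fun h => ?_, fun h => ?_⟩⟩
  · rw [show v - f l = r l by rw [sub_eq_iff_eq_add', hsum]]
    exact hr l
  · rw [← hsum l, QuadraticMap.polar_add_left, QuadraticMap.polar_comm Q (r l), hD.polar_eq_zero hx (hr l),
      add_zero]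
  · rw [← hsum l, h, zero_add]
    exact hr l
  · refine hD.nd l _ (hf l) fun y hy => ?_
    have h1 := hD.polar_eq_zero hy h
    rw [← hsum l, QuadraticMap.polar_add_right, hD.polar_eq_zero hy (hr l), add_zero] at h1
    rwa [QuadraticMap.polar_comm]

/-- Two reflection vectors in two members moving a vector by a singular amount. -/
theorem exists_pair (hD : Data Q D 2) (h2 : (2 : F) ≠ 0) (hq : PlaneField Q D) {i j : Fin t} {z z' : V}
    (hz : z ∈ D i) (hz' : z' ∈ D j) (hQz : Q z ≠ 0) (hQz' : Q z' ≠ 0) :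
    ∃ d ∈ D i, ∃ d' ∈ D j, Q d ≠ 0 ∧ Q d' = -Q d ∧
      QuadraticMap.polar Q z d = 1 ∧ QuadraticMap.polar Q z' d' = 1 := by
  have line : ∀ {l : Fin t} {w : V}, w ∈ D l → Q w ≠ 0 → ∃ e : V, e ∈ D l ∧ Q e ≠ 0 ∧ ∀ s : F,
      (2 * Q w)⁻¹ • w + s • e ∈ D l ∧ QuadraticMap.polar Q w ((2 * Q w)⁻¹ • w + s • e) = 1 ∧
      Q ((2 * Q w)⁻¹ • w + s • e) = (2 * (2 * Q w))⁻¹ + Q e * s * s := by
    intro l w hw hQw
    obtain ⟨e, he, hQe⟩ := exists_aniso_in Q (ndOn_orthIn Q h2 (hD.nd l) hw hQw) (fun h0 => by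
      have := finrank_orthIn_ge Q (D l) w
      rw [h0, finrank_bot, hD.dim] at this
      omega)
    rw [mem_orthIn] at he
    refine ⟨e, he.1, hQe, fun s => ⟨(D l).add_mem ((D l).smul_mem _ hw) ((D l).smul_mem _ he.1), ?_, ?_⟩⟩
    · rw [QuadraticMap.polar_add_right, QuadraticMap.polar_smul_right, QuadraticMap.polar_smul_right, he.2,
        quad_polar_self, smul_zero, add_zero, smul_eq_mul, inv_mul_cancel₀ (mul_ne_zero h2 hQw)]
    · rw [quad_add, quad_smul, quad_smul, QuadraticMap.polar_smul_left, QuadraticMap.polar_smul_right, he.2,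
        smul_zero, smul_zero, add_zero]
      field_simp
  obtain ⟨e, -, hQe, hl⟩ := line hz hQz
  obtain ⟨e', -, hQe', hl'⟩ := line hz' hQz'
  have hα : ∀ {c : F}, c ≠ 0 → ((2 : F) * (2 * c))⁻¹ ≠ 0 := fun hc =>
    inv_ne_zero (mul_ne_zero h2 (mul_ne_zero h2 hc))
  obtain ⟨s, s', hs, hs'⟩ := exists_conic h2 (hα hQz) (hα hQz') hQe hQe' (hq.imp id fun hno s h0 => by
    obtain ⟨h1, h3, h4⟩ := hl s
    rw [hno.2 i _ h1 (h4.trans h0), QuadraticMap.polar_zero_right] at h3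
    exact one_ne_zero h3.symm)
  obtain ⟨h1, h3, h4⟩ := hl s
  obtain ⟨h1', h3', h4'⟩ := hl' s'
  refine ⟨_, h1, _, h1', by rwa [h4], ?_, h3, h3'⟩
  rw [h4, h4']
  linear_combination hs'

omit [Fintype F] [FiniteDimensional F V] in
/-- The effect of a pair of reflections on a vector. -/
theorem refl_pair_apply {d d' v : V} (hd : Q d ≠ 0) (hd' : Q d' ≠ 0) (he : Q d' = -Q d)
    (hdd : QuadraticMap.polar Q d d' = 0) (hvd : QuadraticMap.polar Q v d = 1)
    (hvd' : QuadraticMap.polar Q v d' = 1) :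
    (qRefl Q hd * qRefl Q hd').1 v = v + (Q d)⁻¹ • (d' - d) := by
  rw [qAut_mul_apply, qRefl_apply Q hd', hvd', map_sub, map_smul,
    qRefl_fix Q hd (x := d') ((QuadraticMap.polar_comm Q d' d).trans hdd), qRefl_apply, hvd, he, inv_neg, mul_one,
    mul_one]
  module

omit [Fintype F] [FiniteDimensional F V] in
theorem pair_singular (hD : Data Q D k) {i j : Fin t} (hij : i ≠ j) {d d' : V} (hd : d ∈ D i) (hd' : d' ∈ D j)
    (hQd : Q d ≠ 0) (he : Q d' = -Q d) :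
    Q ((Q d)⁻¹ • (d' - d)) = 0 ∧ (QuadraticMap.polar Q ((Q d)⁻¹ • (d' - d)) d = -2) ∧
      (∀ l, l ≠ i → l ≠ j → (Q d)⁻¹ • (d' - d) ∈ qPerp Q (D l)) := by
  have hdd : QuadraticMap.polar Q d' d = 0 := (QuadraticMap.polar_comm Q d' d).trans (hD.orth i j hij d hd d' hd')
  refine ⟨?_, ?_, fun l hli hlj => (qPerp Q (D l)).smul_mem _
    ((qPerp Q (D l)).sub_mem (hD.perp_le hlj hd') (hD.perp_le hli hd))⟩
  · rw [quad_smul, quad_sub, he, hdd]
    simp
  · rw [QuadraticMap.polar_smul_left, QuadraticMap.polar_sub_left, hdd, quad_polar_self, smul_eq_mul, zero_sub]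
    field_simp

variable {M : Subgroup (qAut Q)}

/-- A related pair with a small singular difference. -/
theorem short_of_diff {v δ : V} (h : ReflRel Q M v (v + δ)) (hQv : Q v ≠ 0) (hQδ : Q δ = 0) (hδ : δ ≠ 0)
    (C : Finset (Fin t)) (hC : C.card ≤ 2) (hsupp : ∀ l, l ∉ C → δ ∈ qPerp Q (D l))
    {j : Fin t} (hj : j ∉ C) (hvj : v ∉ qPerp Q (D j)) : Short Q D M := by
  obtain ⟨h1, h3⟩ := h.eich_mem hQδ
  exact ⟨C, δ, _, hC, hδ, hQδ, h1, hsupp, h3, j, hj,
    fun h0 => hvj (((qPerp Q (D j)).smul_mem_iff (inv_ne_zero hQv)).1 h0)⟩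

/-- A singular part. -/
theorem short_of_singular_part (hD : Data Q D 2) (hQ : PolarNondeg Q) (hn : 5 ≤ Module.finrank F V)
    (h2 : (2 : F) ≠ 0) (hq : 5 ≤ Fintype.card F) {v : V} (hQv : Q v ≠ 0) {j l : Fin t} (hlj : l ≠ j)
    (hrel : ∀ h ∈ dStab Q D ⊓ eichGroup Q, (∀ b ∈ qPerp Q (D j), h.1 b = b) → ReflRel Q M v (h.1 v))
    {u : V} (hu : u ∈ D j) (hur : v - u ∈ qPerp Q (D j)) (hu0 : u ≠ 0) (hQu : Q u = 0)
    (hvl : v ∉ qPerp Q (D l)) : Short Q D M := by
  classical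
  obtain ⟨c, h, hc, hh, hhu, hhb⟩ := exists_scale hD hQ hn h2 (Or.inl hq) hu hu0 hQu
  have hhv : h.1 v = v + (c - 1) • u := by
    have e := hhb _ hur
    rw [map_sub, hhu, sub_eq_iff_eq_add] at e
    rw [e, sub_smul, one_smul]
    abel
  refine short_of_diff (hhv ▸ hrel h hh hhb) hQv (by rw [quad_smul, hQu, mul_zero])
    (smul_ne_zero (sub_ne_zero.2 hc) hu0) {j} (by simp) (fun m hm => ?_) (j := l) (by simpa using hlj) hvl
  exact (qPerp Q (D m)).smul_mem _ (hD.perp_le (Finset.notMem_singleton.1 hm) hu)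

/-- Two pairs of reflection vectors move a vector by a singular amount. -/
theorem exists_four_move (hD : Data Q D 2) (hQ : PolarNondeg Q) (hn : 5 ≤ Module.finrank F V) (h2 : (2 : F) ≠ 0)
    (hq : PlaneField Q D) {v : V} {p : Fin t → V}
    (hp : ∀ l, p l ∈ D l ∧ v - p l ∈ qPerp Q (D l) ∧
      (∀ x ∈ D l, QuadraticMap.polar Q v x = QuadraticMap.polar Q (p l) x) ∧
      (p l = 0 ↔ v ∈ qPerp Q (D l)))
    {f : Fin 5 → Fin t} (hf : Function.Injective f) (hUp : ∀ a : Fin 5, a ≠ 4 → Q (p (f a)) ≠ 0)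
    (hrel : ∀ h ∈ dStab Q D ⊓ eichGroup Q, ReflRel Q M v (h.1 v)) :
    ∃ δ d d', d ∈ D (f 0) ∧ d' ∈ D (f 1) ∧ Q d ≠ 0 ∧ Q d' = -Q d ∧ Q δ = 0 ∧ ReflRel Q M v (v + δ) ∧
      δ ∈ qPerp Q (D (f 4)) ∧
      (∀ x ∈ D (f 0), QuadraticMap.polar Q δ x = QuadraticMap.polar Q (-((Q d)⁻¹ • d)) x) ∧
      (∀ x ∈ D (f 1), QuadraticMap.polar Q δ x = QuadraticMap.polar Q ((Q d)⁻¹ • d') x) := by
  classical
  have hne : ∀ a b : Fin 5, a ≠ b → f a ≠ f b := fun a b hab h => hab (hf h)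
  obtain ⟨d, hd, d', hd', hQd, hed, hzd, hzd'⟩ := exists_pair hD h2 hq (hp (f 0)).1 (hp (f 1)).1
    (hUp 0 (by decide)) (hUp 1 (by decide))
  obtain ⟨e, he, e', he', hQe, hee, hze, hze'⟩ := exists_pair hD h2 hq (hp (f 2)).1 (hp (f 3)).1
    (hUp 2 (by decide)) (hUp 3 (by decide))
  have hQd' : Q d' ≠ 0 := hed ▸ neg_ne_zero.2 hQd
  have hQe' : Q e' ≠ 0 := hee ▸ neg_ne_zero.2 hQe
  rw [← (hp _).2.2.1 d hd] at hzd
  rw [← (hp _).2.2.1 d' hd'] at hzd'
  rw [← (hp _).2.2.1 e he] at hze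
  rw [← (hp _).2.2.1 e' he'] at hze'
  obtain ⟨h, hh⟩ : ∃ h, h = qRefl Q hQd * qRefl Q hQd' * (qRefl Q hQe * qRefl Q hQe') := ⟨_, rfl⟩
  have ho : ∀ {a b : Fin 5}, a ≠ b → ∀ {x y : V}, x ∈ D (f a) → y ∈ D (f b) → QuadraticMap.polar Q x y = 0 :=
    fun hab x y hx hy => hD.orth _ _ (hne _ _ hab) x hx y hy
  have hmem : h ∈ dStab Q D ⊓ eichGroup Q := by
    refine ⟨hh ▸ mul_mem (mul_mem (hD.qRefl_mem_dStab hQ hd hQd) (hD.qRefl_mem_dStab hQ hd' hQd'))
      (mul_mem (hD.qRefl_mem_dStab hQ he hQe) (hD.qRefl_mem_dStab hQ he' hQe')), ?_⟩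
    have hcomm : ∀ {x y : V} (hx : Q x ≠ 0) (hy : Q y ≠ 0), QuadraticMap.polar Q x y = 0 →
        qRefl Q hx * qRefl Q hy = qRefl Q hy * qRefl Q hx := fun {x y} hx hy hxy => by
      have e1 : (qRefl Q hx).1 y = y := qRefl_fix Q hx ((QuadraticMap.polar_comm Q y x).trans hxy)
      rw [← mul_inv_eq_iff_eq_mul, qRefl_conj Q _ hy (by rwa [qAut_map])]
      exact qRefl_congr _ _ e1
    by_cases hneg : IsSquare (-1 : F)
    · rw [hh]
      refine mul_mem (qRefl_sq_mem hQ hn hQd' hQd ?_) (qRefl_sq_mem hQ hn hQe' hQe ?_)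
      · rwa [hed, neg_div, div_self hQd]
      · rwa [hee, neg_div, div_self hQe]
    by_cases hde : IsSquare (Q d / Q e)
    · have e1 : h = (qRefl Q hQe * qRefl Q hQd) * (qRefl Q hQe' * qRefl Q hQd') := by
        rw [hh, mul_assoc (qRefl Q hQd), ← mul_assoc (qRefl Q hQd'), hcomm hQd' hQe (ho (by decide) hd' he),
          mul_assoc (qRefl Q hQe), ← mul_assoc (qRefl Q hQd), hcomm hQd hQe (ho (by decide) hd he),
          hcomm hQd' hQe' (ho (by decide) hd' he')]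
      rw [e1]
      exact mul_mem (qRefl_sq_mem hQ hn hQd hQe hde) (qRefl_sq_mem hQ hn hQd' hQe' (by rwa [hed, hee, neg_div_neg_eq]))
    · have hde' : IsSquare (Q d / Q e') := by
        have h3 := isSquare_div_of_nonsquare h2 hde hneg
        rwa [hee, div_neg, ← neg_div, show -Q d / Q e = Q d / Q e / -1 by ring]
      have hed' : IsSquare (Q d' / Q e) := by
        rwa [hed, neg_div, ← div_neg, ← hee]
      have e1 : h = (qRefl Q hQe' * qRefl Q hQd) * (qRefl Q hQe * qRefl Q hQd') := by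
        rw [hh, hcomm hQe hQe' (ho (by decide) he he'), mul_assoc (qRefl Q hQd), ← mul_assoc (qRefl Q hQd'),
          hcomm hQd' hQe' (ho (by decide) hd' he'), mul_assoc (qRefl Q hQe'), ← mul_assoc (qRefl Q hQd),
          hcomm hQd hQe' (ho (by decide) hd he'), hcomm hQd' hQe (ho (by decide) hd' he)]
      rw [e1]
      exact mul_mem (qRefl_sq_mem hQ hn hQd hQe' hde') (qRefl_sq_mem hQ hn hQd' hQe hed')
  obtain ⟨X, hX⟩ : ∃ X, X = (Q d)⁻¹ • (d' - d) := ⟨_, rfl⟩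
  obtain ⟨X', hX'⟩ : ∃ X', X' = (Q e)⁻¹ • (e' - e) := ⟨_, rfl⟩
  obtain ⟨hQX, hXd, hXs⟩ := hX ▸ pair_singular hD (hne 0 1 (by decide)) hd hd' hQd hed
  obtain ⟨hQX', -, hX's⟩ := hX' ▸ pair_singular hD (hne 2 3 (by decide)) he he' hQe hee
  have hX'perp : ∀ a : Fin 5, a ≠ 2 → a ≠ 3 → ∀ y ∈ D (f a), QuadraticMap.polar Q X' y = 0 := fun a ha hb y hy =>
    (QuadraticMap.polar_comm Q X' y).trans (hD.polar_eq_zero hy (hX's _ (hne _ _ ha) (hne _ _ hb)))
  have hfd : (qRefl Q hQd * qRefl Q hQd').1 X' = X' := by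
    rw [qAut_mul_apply, qRefl_fix Q hQd' (hX'perp 1 (by decide) (by decide) d' hd'),
      qRefl_fix Q hQd (hX'perp 0 (by decide) (by decide) d hd)]
  have hv : h.1 v = v + (X + X') := by
    rw [hh, qAut_mul_apply, refl_pair_apply hQe hQe' hee (ho (by decide) he he') hze hze', ← hX', map_add, hfd,
      refl_pair_apply hQd hQd' hed (ho (by decide) hd hd') hzd hzd', ← hX, add_assoc]
  have hXX' : QuadraticMap.polar Q X X' = 0 := by
    rw [QuadraticMap.polar_comm, hX, QuadraticMap.polar_smul_right, QuadraticMap.polar_sub_right,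
      hX'perp 1 (by decide) (by decide) d' hd', hX'perp 0 (by decide) (by decide) d hd, sub_zero, smul_zero]
  refine ⟨X + X', d, d', hd, hd', hQd, hed, by rw [quad_add, hQX, hQX', hXX', add_zero, add_zero],
    hv ▸ hrel h hmem, (qPerp Q (D (f 4))).add_mem (hXs _ (hne _ _ (by decide)) (hne _ _ (by decide)))
      (hX's _ (hne _ _ (by decide)) (hne _ _ (by decide))), fun x hx => ?_, fun x hx => ?_⟩
  · rw [QuadraticMap.polar_add_left, hX'perp 0 (by decide) (by decide) x hx, hX, smul_sub,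
      QuadraticMap.polar_sub_left, QuadraticMap.polar_neg_left, QuadraticMap.polar_smul_left _ _ d',
      ho (show (1 : Fin 5) ≠ 0 by decide) hd' hx]
    simp
  · rw [QuadraticMap.polar_add_left, hX'perp 1 (by decide) (by decide) x hx, hX, smul_sub,
      QuadraticMap.polar_sub_left, QuadraticMap.polar_smul_left _ _ d, ho (show (0 : Fin 5) ≠ 1 by decide) hd hx]
    simp

/-- The products of the values of orthogonal bases agree up to squares. -/
theorem isSquare_orth_values (hD : Data Q D 2) (h2 : (2 : F) ≠ 0) {i j : Fin t} {p w p' w' : V} (hp : p ∈ D i)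
    (hw : w ∈ D i) (hpw : QuadraticMap.polar Q p w = 0) (hQp : Q p ≠ 0) (hQw : Q w ≠ 0) (hp' : p' ∈ D j)
    (hw' : w' ∈ D j) (hpw' : QuadraticMap.polar Q p' w' = 0) :
    IsSquare (Q p' * Q w' / (Q p * Q w)) := by
  obtain ⟨φ, hφ⟩ := hD.isom i j
  have hφB : ∀ x y : D i, QuadraticMap.polar Q (φ x : V) (φ y) = QuadraticMap.polar Q (x : V) y := fun x y => by
    simp only [QuadraticMap.polar, ← Submodule.coe_add, ← map_add, hφ]
  obtain ⟨u, hu⟩ : ∃ u, u = (φ ⟨p, hp⟩ : V) := ⟨_, rfl⟩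
  obtain ⟨u', hu'⟩ : ∃ u, u = (φ ⟨w, hw⟩ : V) := ⟨_, rfl⟩
  have huu : QuadraticMap.polar Q u u' = 0 := by rw [hu, hu', hφB]; exact hpw
  have hQu : Q u = Q p := by rw [hu, hφ]
  have hQu' : Q u' = Q w := by rw [hu', hφ]
  have huD : u ∈ D j := hu ▸ (φ _).2
  have hu'D : u' ∈ D j := hu' ▸ (φ _).2
  have hind : ∀ s : F, s • u ≠ u' := fun s hs => by
    rw [← hs, QuadraticMap.polar_smul_right, quad_polar_self, hQu, smul_eq_mul] at huu
    have h0 := (mul_eq_zero.1 huu).resolve_right (mul_ne_zero h2 hQp)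
    rw [← hs, h0, zero_smul, map_zero] at hQu'
    exact hQw hQu'.symm
  have hu0 : u ≠ 0 := fun h => hQp (by rw [← hQu, h, map_zero])
  obtain ⟨α, β, rfl⟩ := exists_coords_plane (hD.dim j) huD hu'D hu0 hind hp'
  obtain ⟨γ, δ, rfl⟩ := exists_coords_plane (hD.dim j) huD hu'D hu0 hind hw'
  simp only [QuadraticMap.polar_add_left, QuadraticMap.polar_add_right, QuadraticMap.polar_smul_left,
    QuadraticMap.polar_smul_right, quad_polar_self, QuadraticMap.polar_comm Q u' u, huu, hQu, hQu', smul_eq_mul]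
    at hpw'
  refine ⟨α * δ - β * γ, ?_⟩
  simp only [quad_add, quad_smul, QuadraticMap.polar_smul_left, QuadraticMap.polar_smul_right, huu, hQu, hQu',
    smul_eq_mul, mul_zero, add_zero]
  have h' : α * γ * Q p + β * δ * Q w = 0 :=
    (mul_eq_zero.1 (show (2 : F) * (α * γ * Q p + β * δ * Q w) = 0 by linear_combination hpw')).resolve_left h2
  rw [div_eq_iff (mul_ne_zero hQp hQw)]
  linear_combination (α * γ * Q p + β * δ * Q w) * h'

/-- Two parts moved by a singular amount, the spinor norm corrected inside the same members. -/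
theorem short_of_pair (hD : Data Q D 2) (hQ : PolarNondeg Q) (hn : 5 ≤ Module.finrank F V) (h2 : (2 : F) ≠ 0)
    (hq : PlaneField Q D) {v : V} (hQv : Q v ≠ 0) (hrel : ∀ h ∈ dStab Q D ⊓ eichGroup Q, ReflRel Q M v (h.1 v))
    {i j l : Fin t} (hij : i ≠ j) (hil : i ≠ l) (hjl : j ≠ l) {z z' : V} (hz : z ∈ D i) (hz' : z' ∈ D j)
    (hQz : Q z ≠ 0) (hQz' : Q z' ≠ 0) (hzv : ∀ x ∈ D i, QuadraticMap.polar Q v x = QuadraticMap.polar Q z x)
    (hzv' : ∀ x ∈ D j, QuadraticMap.polar Q v x = QuadraticMap.polar Q z' x)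
    (hcl : IsSquare (-1 : F) ∨ ¬ IsSquare (Q z * Q z')) (hl : v ∉ qPerp Q (D l)) : Short Q D M := by
  classical
  obtain ⟨d, hd, d', hd', hQd, hed, hzd, hzd'⟩ := exists_pair hD h2 hq hz hz' hQz hQz'
  have hQd' : Q d' ≠ 0 := hed ▸ neg_ne_zero.2 hQd
  rw [← hzv d hd] at hzd
  rw [← hzv' d' hd'] at hzd'
  obtain ⟨hQX, hXd, hXs⟩ := pair_singular hD hij hd hd' hQd hed
  have hv := refl_pair_apply hQd hQd' hed (hD.orth i j hij d hd d' hd') hzd hzd'
  have hdS : qRefl Q hQd * qRefl Q hQd' ∈ dStab Q D :=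
    mul_mem (hD.qRefl_mem_dStab hQ hd hQd) (hD.qRefl_mem_dStab hQ hd' hQd')
  obtain ⟨h, hh, hhv⟩ : ∃ h ∈ dStab Q D ⊓ eichGroup Q, h.1 v = v + (Q d)⁻¹ • (d' - d) := by
    by_cases hneg : IsSquare (-1 : F)
    · exact ⟨_, ⟨hdS, qRefl_sq_mem hQ hn hQd' hQd (by rwa [hed, neg_div, div_self hQd])⟩, hv⟩
    have hns := hcl.resolve_left hneg
    have norm : ∀ {m : Fin t} {y : V}, y ∈ D m → Q y ≠ 0 →
        ∃ w ∈ D m, Q w ≠ 0 ∧ QuadraticMap.polar Q y w = 0 := fun {m y} hy hQy => by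
      obtain ⟨w, hw, hQw⟩ := exists_aniso_in Q (ndOn_orthIn Q h2 (hD.nd m) hy hQy) (fun h0 => by
        have := finrank_orthIn_ge Q (D m) y
        rw [h0, finrank_bot, hD.dim] at this
        omega)
      rw [mem_orthIn] at hw
      exact ⟨w, hw.1, hQw, hw.2⟩
    obtain ⟨w, hw, hQw, hzw⟩ := norm hz hQz
    obtain ⟨w', hw', hQw', hzw'⟩ := norm hz' hQz'
    have hww : ¬ IsSquare (Q w' / Q w) := fun h => hns <| by
      have e := (((isSquare_orth_values hD h2 hz hw hzw hQz hQw hz' hw' hzw').div h).mul (IsSquare.mul_self (Q z)))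
      rwa [show Q z' * Q w' / (Q z * Q w) / (Q w' / Q w) * (Q z * Q z) = Q z * Q z' by field_simp] at e
    refine ⟨qRefl Q hQd * qRefl Q hQd' * (qRefl Q hQw * qRefl Q hQw'), ⟨mul_mem hdS
      (mul_mem (hD.qRefl_mem_dStab hQ hw hQw) (hD.qRefl_mem_dStab hQ hw' hQw')), ?_⟩, ?_⟩
    · by_cases hdw : IsSquare (Q w / Q d)
      · have e1 : qRefl Q hQd' * qRefl Q hQw = qRefl Q hQw * qRefl Q hQd' := by
          have e : (qRefl Q hQd').1 w = w := qRefl_fix Q hQd' (hD.orth i j hij w hw d' hd')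
          rw [← mul_inv_eq_iff_eq_mul, qRefl_conj Q _ hQw (by rwa [qAut_map])]
          exact qRefl_congr _ _ e
        rw [mul_assoc, ← mul_assoc (qRefl Q hQd'), e1, mul_assoc, ← mul_assoc (qRefl Q hQd)]
        refine mul_mem (qRefl_sq_mem hQ hn hQw hQd hdw) (qRefl_sq_mem hQ hn hQw' hQd' ?_)
        have e := (isSquare_div_of_nonsquare h2 hww hneg).mul hdw
        rwa [show Q w' / Q w / -1 * (Q w / Q d) = Q w' / Q d' by rw [hed]; field_simp] at e
      · have e1 : qRefl Q hQd * qRefl Q hQd' * (qRefl Q hQw * qRefl Q hQw') =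
            qRefl Q hQd * (qRefl Q hQd' * qRefl Q hQw) * (qRefl Q hQd)⁻¹ * (qRefl Q hQd * qRefl Q hQw') := by
          group
        rw [e1]
        refine mul_mem ((eichGroup_normal Q).conj_mem _
          (qRefl_sq_mem hQ hn hQw hQd' ?_) _) (qRefl_sq_mem hQ hn hQw' hQd ?_)
        · have e := isSquare_div_of_nonsquare h2 hdw hneg
          rwa [div_div, mul_neg_one, ← hed] at e
        · have hdw' : ¬ IsSquare (Q d / Q w) := by rwa [← isSquare_inv, inv_div]
          have e := isSquare_div_of_nonsquare h2 hww hdw'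
          rwa [div_div_div_cancel_right₀ hQw] at e
    · rw [qAut_mul_apply, qAut_mul_apply (g := qRefl Q hQw),
        qRefl_fix Q hQw' ((hzv' w' hw').trans hzw'), qRefl_fix Q hQw ((hzv w hw).trans hzw), hv]
  refine short_of_diff (hhv ▸ hrel h hh) hQv hQX (fun h0 => ?_) {i, j} Finset.card_le_two (fun m hm => ?_)
    (j := l) ?_ hl
  · rw [h0, QuadraticMap.polar_zero_left] at hXd
    exact h2 (neg_eq_zero.1 hXd.symm)
  · simp only [Finset.mem_insert, Finset.mem_singleton, not_or] at hm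
    exact hXs m hm.1 hm.2
  · simp only [Finset.mem_insert, Finset.mem_singleton, not_or]
    exact ⟨hil.symm, hjl.symm⟩

/-- A vector with three non-zero parts related to all its images. -/
theorem short_of_three (hD : Data Q D 2) (hQ : PolarNondeg Q) (hn : 5 ≤ Module.finrank F V) (h2 : (2 : F) ≠ 0)
    (hq : PlaneField Q D) (ht : 5 ≤ t) (hHM : dStab Q D ⊓ eichGroup Q ≤ M) {v : V} (hQv : Q v ≠ 0)
    (hrel : ∀ h ∈ dStab Q D ⊓ eichGroup Q, ReflRel Q M v (h.1 v)) {i j l : Fin t} (hij : i ≠ j) (hil : i ≠ l)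
    (hjl : j ≠ l) (hi : v ∉ qPerp Q (D i)) (hj : v ∉ qPerp Q (D j)) (hl : v ∉ qPerp Q (D l)) : Short Q D M := by
  classical
  obtain ⟨p, hp⟩ := exists_parts hD hQ v
  by_cases hsing : ∃ m, p m ≠ 0 ∧ Q (p m) = 0
  · obtain ⟨m, hm0, hQm⟩ := hsing
    obtain ⟨o, hom, hvo⟩ : ∃ o, o ≠ m ∧ v ∉ qPerp Q (D o) := by
      rcases eq_or_ne i m with rfl | h
      · exact ⟨j, hij.symm, hj⟩
      · exact ⟨i, h, hi⟩
    exact short_of_singular_part hD hQ hn h2 hq.five_le hQv hom (fun h hh _ => hrel h hh) (hp m).1 (hp m).2.1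
      hm0 hQm hvo
  push Not at hsing
  obtain ⟨S, hS⟩ : ∃ S : Finset (Fin t), S = Finset.univ.filter fun m => p m ≠ 0 := ⟨_, rfl⟩
  have hSmem : ∀ m, m ∈ S ↔ p m ≠ 0 := fun m => by simp [hS]
  by_cases hS5 : 5 ≤ S.card
  · obtain ⟨e⟩ : Nonempty (Fin 5 ↪ S) := Function.Embedding.nonempty_of_card_le (by simpa using hS5)
    obtain ⟨f, hf⟩ : ∃ f : Fin 5 → Fin t, f = fun a => (e a).1 := ⟨_, rfl⟩
    have hfi : Function.Injective f := hf ▸ fun a b hab => e.injective (Subtype.ext hab)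
    have hfp : ∀ a, p (f a) ≠ 0 := fun a => hf ▸ (hSmem _).1 (e a).2
    have hfe : ∀ {a b : Fin 5}, a ≠ b → f a ≠ f b := fun hab h => hab (hfi h)
    obtain ⟨δ, d, d', hd, hd', hQd, hed, hQδ, hvδ, hδ4, hδ0, hδ1⟩ :=
      exists_four_move hD hQ hn h2 hq hp hfi (fun a _ => hsing _ (hfp a)) hrel
    obtain ⟨n, hn1, n', hn2, hQn, hQn', hE, hmove⟩ :=
      exists_rotation hQ hn h2 (hD.nd (f 4)) (hD.dim _).ge (Or.inl hq.five_le) (hp (f 4)).1 (hfp 4)
    obtain ⟨r, hr⟩ : ∃ r, r = qRefl Q hQn * qRefl Q hQn' := ⟨_, rfl⟩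
    rw [← hr] at hE hmove
    have hrH : r ∈ dStab Q D ⊓ eichGroup Q :=
      ⟨hr ▸ mul_mem (hD.qRefl_mem_dStab hQ hn1 hQn) (hD.qRefl_mem_dStab hQ hn2 hQn'), hE⟩
    have hrfix : ∀ x ∈ qPerp Q (D (f 4)), r.1 x = x := fun x hx => by
      rw [hr, qAut_mul_apply, qRefl_fix Q hQn' ((QuadraticMap.polar_comm Q x n').trans (hD.polar_eq_zero hn2 hx)),
        qRefl_fix Q hQn ((QuadraticMap.polar_comm Q x n).trans (hD.polar_eq_zero hn1 hx))]
    obtain ⟨y, hy⟩ : ∃ y, y = r.1 (p (f 4)) - p (f 4) := ⟨_, rfl⟩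
    have hyD : y ∈ D (f 4) := by
      rw [hy, hr, qAut_mul_apply, qRefl_apply, qRefl_apply]
      exact (D _).sub_mem ((D _).sub_mem ((D _).sub_mem (hp _).1 ((D _).smul_mem _ hn2)) ((D _).smul_mem _ hn1))
        (hp _).1
    have hy0 : y ≠ 0 := fun h => hmove (sub_eq_zero.1 (hy ▸ h))
    have hrv : r.1 v = v + y := by
      have e := hrfix _ (hp (f 4)).2.1
      rw [map_sub, sub_eq_iff_eq_add] at e
      rw [e, hy]
      abel
    have hvδ' := hvδ.map (hHM hrH)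
    rw [map_add, hrfix δ hδ4, hrv] at hvδ'
    obtain ⟨hw₁, hm₁⟩ := hvδ.eich_mem hQδ
    obtain ⟨hw₂, hm₂⟩ := hvδ'.eich_mem hQδ
    rw [← hrv, qAut_map, hrv] at hw₂ hm₂
    have hδy : QuadraticMap.polar Q δ ((Q v)⁻¹ • y) = 0 := by
      rw [QuadraticMap.polar_smul_right, QuadraticMap.polar_comm, hD.polar_eq_zero hyD hδ4, smul_zero]
    have hmy : eich Q δ ((Q v)⁻¹ • y) ∈ M := by
      rw [smul_add, ← eich_mul Q hQδ hw₁ hδy] at hm₂
      exact (M.mul_mem_cancel_left hm₁).1 hm₂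
    have hd0 : QuadraticMap.polar Q δ d = -2 := by
      rw [hδ0 d hd, QuadraticMap.polar_neg_left, QuadraticMap.polar_smul_left, quad_polar_self, smul_eq_mul]
      field_simp
    have hδd : δ ∉ qPerp Q (D (f 0)) := fun h => by
      rw [QuadraticMap.polar_comm, hD.polar_eq_zero hd h] at hd0
      exact h2 (neg_eq_zero.1 hd0.symm)
    by_cases hQy : Q y = 0
    · refine ⟨{f 4}, (Q v)⁻¹ • y, -δ, by simp, smul_ne_zero (inv_ne_zero hQv) hy0,
        by rw [quad_smul, hQy, mul_zero], by rw [QuadraticMap.polar_neg_right, QuadraticMap.polar_comm, hδy, neg_zero],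
        fun m hm => (qPerp Q (D m)).smul_mem _ (hD.perp_le (Finset.notMem_singleton.1 hm) hyD), ?_, f 0,
        by simpa using hfe (show (0 : Fin 5) ≠ 4 by decide), fun h => hδd (by simpa using (qPerp Q _).neg_mem h)⟩
      rw [← eich_antisymm hQδ (by rw [quad_smul, hQy, mul_zero]) hδy]
      exact hmy
    obtain ⟨b, hb⟩ : ∃ b, b = (Q v / Q y) • y := ⟨_, rfl⟩
    have hbD : b ∈ D (f 4) := hb ▸ (D _).smul_mem _ hyD
    have hby : (Q b)⁻¹ • b = (Q v)⁻¹ • y := by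
      rw [hb, quad_smul, smul_smul]
      congr 1
      field_simp
    have hbδ : QuadraticMap.polar Q b δ = 0 := hD.polar_eq_zero hbD hδ4
    have hQb : Q b ≠ 0 := by
      rw [hb, quad_smul]
      exact mul_ne_zero (mul_self_ne_zero.2 (div_ne_zero hQv hQy)) hQy
    have hQb' : Q (b + δ) = Q b := by rw [quad_add, hQδ, hbδ, add_zero, add_zero]
    rw [← hby, eich_eq_pair hQδ hbδ hQb (hQb' ▸ hQb)] at hmy
    have hbrel : ReflRel Q M (b + δ) b := ReflRel.symm ⟨hQb'.symm, hQb, hQb' ▸ hQb, hmy⟩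
    refine short_of_pair hD hQ hn h2 hq (hQb' ▸ hQb) (reflRel_images hD hQ hn hHM hbD hbrel)
      (hfe (show (0 : Fin 5) ≠ 1 by decide)) (hfe (show (0 : Fin 5) ≠ 4 by decide))
      (hfe (show (1 : Fin 5) ≠ 4 by decide)) ((D _).neg_mem ((D _).smul_mem (Q d)⁻¹ hd))
      ((D _).smul_mem (Q d)⁻¹ hd')
      ?_ ?_ ?_ ?_ ?_ ?_
    · rw [QuadraticMap.map_neg, quad_smul]
      exact mul_ne_zero (mul_self_ne_zero.2 (inv_ne_zero hQd)) hQd
    · rw [quad_smul, hed]
      exact mul_ne_zero (mul_self_ne_zero.2 (inv_ne_zero hQd)) (neg_ne_zero.2 hQd)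
    · intro x hx
      rw [QuadraticMap.polar_add_left, hD.orth _ _ (hfe (show (4 : Fin 5) ≠ 0 by decide)) b hbD x hx, zero_add,
        hδ0 x hx]
    · intro x hx
      rw [QuadraticMap.polar_add_left, hD.orth _ _ (hfe (show (4 : Fin 5) ≠ 1 by decide)) b hbD x hx, zero_add,
        hδ1 x hx]
    · refine or_iff_not_imp_left.2 fun hneg hsq => hneg ?_
      rw [QuadraticMap.map_neg, quad_smul, quad_smul, hed] at hsq
      have e := hsq.mul (IsSquare.mul_self (Q d))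
      rwa [show (Q d)⁻¹ * (Q d)⁻¹ * Q d * ((Q d)⁻¹ * (Q d)⁻¹ * -Q d) * (Q d * Q d) = -1 by field_simp] at e
    · intro h
      have h' := hD.polar_eq_zero hbD h
      rw [QuadraticMap.polar_add_right, quad_polar_self, hbδ, add_zero] at h'
      exact mul_ne_zero h2 hQb h'
  obtain ⟨f, hf⟩ := exists_notMem_fin (s := S) (by omega)
  have hvf : v ∈ qPerp Q (D f) := (hp f).2.2.2.1 (by_contra fun h => hf ((hSmem f).2 h))
  have hp0 : ∀ m, v ∉ qPerp Q (D m) → p m ≠ 0 := fun m hm h => hm ((hp m).2.2.2.1 h)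
  obtain ⟨d, hd, d', hd', hQd, hed, hzd, hzd'⟩ := exists_pair hD h2 hq (hp i).1 (hp j).1
    (hsing i (hp0 i hi)) (hsing j (hp0 j hj))
  have hQd' : Q d' ≠ 0 := hed ▸ neg_ne_zero.2 hQd
  rw [← (hp _).2.2.1 d hd] at hzd
  rw [← (hp _).2.2.1 d' hd'] at hzd'
  obtain ⟨h, hh, hhb⟩ := hD.exists_comp hQ hn (hD.nd f) (hD.dim f).ge le_rfl
    (mul_mem (hD.qRefl_mem_dStab hQ hd hQd) (hD.qRefl_mem_dStab hQ hd' hQd'))
  have hv : h.1 v = v + (Q d)⁻¹ • (d' - d) := by
    rw [hhb v hvf, refl_pair_apply hQd hQd' hed (hD.orth i j hij d hd d' hd') hzd hzd']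
  obtain ⟨hQX, hXd, hXs⟩ := pair_singular hD hij hd hd' hQd hed
  refine short_of_diff (hv ▸ hrel h hh) hQv hQX (fun h0 => ?_) {i, j}
    Finset.card_le_two (fun m hm => ?_) (j := l) ?_ hl
  · rw [h0, QuadraticMap.polar_zero_left] at hXd
    exact h2 (neg_eq_zero.1 hXd.symm)
  · simp only [Finset.mem_insert, Finset.mem_singleton, not_or] at hm
    exact hXs m hm.1 hm.2
  · simp only [Finset.mem_insert, Finset.mem_singleton, not_or]
    exact ⟨hil.symm, hjl.symm⟩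

/-- A vector outside the members related to a vector of a member. -/
theorem short_of_outside (hD : Data Q D 2) (hQ : PolarNondeg Q) (hn : 5 ≤ Module.finrank F V) (h2 : (2 : F) ≠ 0)
    (hq : PlaneField Q D) (ht : 5 ≤ t) (hHM : dStab Q D ⊓ eichGroup Q ≤ M) {c : Fin t} {n v : V} (hn' : n ∈ D c)
    (hrel : ReflRel Q M v n) (hout : ∀ l, v ∉ D l) : Short Q D M := by
  classical
  have hQv : Q v ≠ 0 := hrel.2.1
  have hQn : Q n ≠ 0 := hrel.1 ▸ hQv
  have key : ∀ {w : V}, ReflRel Q M w n → ∀ h ∈ dStab Q D ⊓ eichGroup Q, ReflRel Q M w (h.1 w) :=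
    fun hw => reflRel_images hD hQ hn hHM hn' hw
  have two : ∀ {w : V}, w ≠ 0 → (∀ l, w ∉ D l) → ∀ a, ∃ b, b ≠ a ∧ w ∉ qPerp Q (D b) := fun {w} _ hw a => by
    by_contra hc
    push Not at hc
    exact hw a (hD.mem_of_perp_others hQ hc)
  have hv0 : v ≠ 0 := fun h => hQv (by rw [h, map_zero])
  obtain ⟨i, -, hvi⟩ := two hv0 hout c
  obtain ⟨j, hji, hvj⟩ := two hv0 hout i
  by_cases hthree : ∃ l, l ≠ i ∧ l ≠ j ∧ v ∉ qPerp Q (D l)
  · obtain ⟨l, hli, hlj, hvl⟩ := hthree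
    exact short_of_three hD hQ hn h2 hq ht hHM hQv (key hrel) hji.symm hli.symm hlj.symm hvi hvj hvl
  push Not at hthree
  obtain ⟨p, hp⟩ := exists_parts hD hQ v
  have hz0 : p i ≠ 0 := fun h => hvi ((hp i).2.2.2.1 h)
  have hz'0 : p j ≠ 0 := fun h => hvj ((hp j).2.2.2.1 h)
  by_cases hQz : Q (p i) = 0
  · exact short_of_singular_part hD hQ hn h2 hq.five_le hQv hji (fun h hh _ => key hrel h hh) (hp i).1 (hp i).2.1
      hz0 hQz hvj
  have hvsum : v = p i + p j := by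
    rw [← sub_eq_zero]
    refine hD.eq_zero_of_perp_all hQ fun m => ?_
    rcases eq_or_ne m i with rfl | hmi
    · rw [← sub_sub]
      exact (qPerp Q (D m)).sub_mem (hp m).2.1 (hD.perp_le hji.symm (hp j).1)
    rcases eq_or_ne m j with rfl | hmj
    · rw [add_comm, ← sub_sub]
      exact (qPerp Q (D m)).sub_mem (hp m).2.1 (hD.perp_le hji (hp i).1)
    exact (qPerp Q (D m)).sub_mem (hthree m hmi hmj)
      ((qPerp Q (D m)).add_mem (hD.perp_le hmi (hp i).1) (hD.perp_le hmj (hp j).1))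
  obtain ⟨f, hf⟩ := exists_notMem_fin (s := ({i, j} : Finset (Fin t))) (by
    have := Finset.card_le_two (a := i) (b := j)
    omega)
  simp only [Finset.mem_insert, Finset.mem_singleton, not_or] at hf
  -- another vector of the same value in the first plane, not orthogonal to the part
  obtain ⟨x₂, hx₂, x₃, hx₃, hQ₂, hQ₃, hi₂, hi₃, hi₂₃⟩ := exists_three_values h2 (hD.nd i) (hD.dim i).ge
    (hq.imp id fun hh => ⟨hh.1, hh.2 i⟩) (hp i).1 hQz
  obtain ⟨ζ, hζ, hQζ, hindζ, hzζ⟩ : ∃ ζ ∈ D i, Q ζ = Q (p i) ∧ (∀ s : F, s • p i ≠ ζ) ∧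
      QuadraticMap.polar Q ζ (p i) ≠ 0 := by
    by_contra hc
    push Not at hc
    have h2' := hc x₂ hx₂ hQ₂ hi₂
    have h3' := hc x₃ hx₃ hQ₃ hi₃
    have hd1 : Module.finrank F (orthIn Q (D i) (p i)) ≤ 1 := by
      have hlt : orthIn Q (D i) (p i) < D i := lt_of_le_not_ge (fun x hx => ((mem_orthIn Q).1 hx).1) fun hle => by
        have := ((mem_orthIn Q).1 (hle (hp i).1)).2
        rw [quad_polar_self] at this
        exact mul_ne_zero h2 hQz this
      have := Submodule.finrank_lt_finrank_of_lt hlt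
      rw [hD.dim] at this
      omega
    have hx20 : x₂ ≠ 0 := fun h => hQz (by rw [← hQ₂, h, map_zero])
    obtain ⟨b, hb⟩ := (finrank_le_one_iff).1 hd1
    obtain ⟨r₂, hr₂⟩ := hb ⟨x₂, (mem_orthIn Q).2 ⟨hx₂, (QuadraticMap.polar_comm Q _ _).trans h2'⟩⟩
    obtain ⟨r₃, hr₃⟩ := hb ⟨x₃, (mem_orthIn Q).2 ⟨hx₃, (QuadraticMap.polar_comm Q _ _).trans h3'⟩⟩
    have e2 := congrArg Subtype.val hr₂
    have e3 := congrArg Subtype.val hr₃
    simp only [Submodule.coe_smul] at e2 e3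
    refine hi₂₃ (r₃ / r₂) ?_
    rw [← e2, ← e3, smul_smul, div_mul_cancel₀ _ (fun h => hx20 (by rw [← e2, h, zero_smul]))]
  have hdiff : Q (p i - ζ) ≠ 0 := by
    intro h0
    rw [quad_sub, hQζ, QuadraticMap.polar_comm] at h0
    obtain ⟨e, he⟩ : ∃ e, e = ζ - p i := ⟨_, rfl⟩
    have hei : e ∈ D i := he ▸ (D i).sub_mem hζ (hp i).1
    have hpe : QuadraticMap.polar Q (p i) e = 0 := by
      rw [he, QuadraticMap.polar_sub_right, quad_polar_self, QuadraticMap.polar_comm]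
      linear_combination -h0
    have hQe : Q e = 0 := by
      rw [he, quad_sub, hQζ]
      linear_combination h0
    by_cases he0 : e = 0
    · exact hindζ 1 (by rw [one_smul]; exact (sub_eq_zero.1 (he.symm.trans he0)).symm)
    refine he0 ((ndOn_orthIn Q h2 (hD.nd i) (hp i).1 hQz) e ((mem_orthIn Q).2 ⟨hei, hpe⟩) fun y hy => ?_)
    have hd1 : Module.finrank F (orthIn Q (D i) (p i)) ≤ 1 := by
      have hlt : orthIn Q (D i) (p i) < D i := lt_of_le_not_ge (fun x hx => ((mem_orthIn Q).1 hx).1) fun hle => by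
        have := ((mem_orthIn Q).1 (hle (hp i).1)).2
        rw [quad_polar_self] at this
        exact mul_ne_zero h2 hQz this
      have := Submodule.finrank_lt_finrank_of_lt hlt
      rw [hD.dim] at this
      omega
    obtain ⟨b', hb'⟩ := (finrank_le_one_iff).1 hd1
    obtain ⟨r, hr⟩ := hb' ⟨e, (mem_orthIn Q).2 ⟨hei, hpe⟩⟩
    obtain ⟨r', hr'⟩ := hb' ⟨y, hy⟩
    have e1 := congrArg Subtype.val hr
    have e2 := congrArg Subtype.val hr'
    simp only [Submodule.coe_smul] at e1 e2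
    have hr0 : r ≠ 0 := fun h => he0 (by rw [← e1, h, zero_smul])
    rw [← e2, show r' • (b' : V) = (r' / r) • e by rw [← e1, smul_smul, div_mul_cancel₀ _ hr0],
      QuadraticMap.polar_smul_right, quad_polar_self, hQe, mul_zero, smul_zero]
  obtain ⟨σ, hσ, hσmap, hσfix⟩ := exists_swap_into hD hQ hn le_rfl (Ne.symm hf.2)
  obtain ⟨c', hc'⟩ := exists_notMem_fin (s := ({i, j, f} : Finset (Fin t))) (by
    have := Finset.card_le_three (a := i) (b := j) (c := f)
    omega)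
  simp only [Finset.mem_insert, Finset.mem_singleton, not_or] at hc'
  obtain ⟨g, hg, hgb⟩ := hD.exists_comp hQ hn (hD.nd c') (hD.dim c').ge le_rfl
    (hD.qRefl_mem_dStab hQ ((D i).sub_mem (hp i).1 hζ) hdiff)
  have hσz : σ.1 (p j) ∈ D f := hσmap ▸ Submodule.mem_map_of_mem (f := σ.1.toLinearMap) (hp j).1
  have hσz0 : σ.1 (p j) ≠ 0 := fun h => hz'0 (by simpa using h)
  have hhv : (g * σ).1 v = ζ + σ.1 (p j) := by
    rw [qAut_mul_apply, hvsum, map_add, hσfix i hji.symm (Ne.symm hf.1) _ (hp i).1,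
      hgb _ ((qPerp Q (D c')).add_mem (hD.perp_le hc'.1 (hp i).1) (hD.perp_le hc'.2.2 hσz)), map_add,
      qRefl_exchange Q hQζ.symm hdiff, qRefl_fix Q hdiff (hD.orth f i hf.1 _ hσz _ ((D i).sub_mem (hp i).1 hζ))]
  have hrel' : ReflRel Q M v (ζ + σ.1 (p j)) := hhv ▸ key hrel _ (mul_mem hg hσ)
  obtain ⟨μ, hμ⟩ : ∃ μ, μ = (Q v)⁻¹ * QuadraticMap.polar Q (ζ + σ.1 (p j)) v := ⟨_, rfl⟩
  have hμ0 : μ ≠ 0 := by
    rw [hμ, hvsum]
    refine mul_ne_zero (inv_ne_zero (hvsum ▸ hQv)) ?_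
    rw [QuadraticMap.polar_add_left, QuadraticMap.polar_add_right, QuadraticMap.polar_add_right,
      hD.orth i j hji.symm ζ hζ _ (hp j).1, hD.orth f i hf.1 _ hσz _ (hp i).1,
      hD.orth f j hf.2 _ hσz _ (hp j).1]
    simpa using hzζ
  obtain ⟨hQ', hv', hw, hmem⟩ := hrel'
  have hQw' : Q ((qRefl Q hQv).1 (ζ + σ.1 (p j))) ≠ 0 := by rwa [qAut_map]
  have hnew : ReflRel Q M ((qRefl Q hQv).1 (ζ + σ.1 (p j))) n := by
    refine ⟨by rw [qAut_map, ← hQ', hrel.1], hQw', hQn, ?_⟩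
    rw [← qRefl_conj Q (qRefl Q hQv) hw hQw', qRefl_inv, mul_assoc (qRefl Q hQv * qRefl Q hw)]
    exact mul_mem hmem hrel.2.2.2
  have hform : (qRefl Q hQv).1 (ζ + σ.1 (p j)) = (ζ - μ • p i) + ((-μ) • p j + σ.1 (p j)) := by
    rw [qRefl_apply, ← hμ, hvsum, smul_add, neg_smul]
    abel
  have hA : ζ - μ • p i ≠ 0 := fun h => hindζ μ (sub_eq_zero.1 h).symm
  have hAi : ζ - μ • p i ∈ D i := (D i).sub_mem hζ ((D i).smul_mem _ (hp i).1)
  have hBj : (-μ) • p j ∈ D j := (D j).smul_mem _ (hp j).1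
  have part : ∀ {m : Fin t} {x y : V}, x ∈ D m → x ≠ 0 → y ∈ qPerp Q (D m) → x + y ∉ qPerp Q (D m) := by
    intro m x y hx hx0 hy h
    have h' := (qPerp Q (D m)).sub_mem h hy
    rw [add_sub_cancel_right] at h'
    exact hx0 (hD.nd m x hx fun z hz => (QuadraticMap.polar_comm Q x z).trans (hD.polar_eq_zero hz h'))
  refine short_of_three hD hQ hn h2 hq ht hHM hQw' (key hnew) hji.symm (Ne.symm hf.1) (Ne.symm hf.2) ?_ ?_ ?_
  · rw [hform]
    exact part hAi hA ((qPerp Q (D i)).add_mem (hD.perp_le hji.symm hBj) (hD.perp_le (Ne.symm hf.1) hσz))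
  · rw [hform, add_left_comm]
    exact part hBj (smul_ne_zero (neg_ne_zero.2 hμ0) hz'0)
      ((qPerp Q (D j)).add_mem (hD.perp_le hji hAi) (hD.perp_le (Ne.symm hf.2) hσz))
  · rw [hform, ← add_assoc, add_comm]
    exact part hσz hσz0 ((qPerp Q (D f)).add_mem (hD.perp_le hf.1 hAi) (hD.perp_le hf.2 hBj))

end CfsgLib.Classical22.OrthDecomp
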