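/-
Overgroups of the stabiliser of a decomposition into planes in odd characteristic.
-/
import Cfsg.Agent.Lib.Classical22.OrthDecompTwoMove

set_option autoImplicit false

namespace CfsgLib.Classical22.OrthDecomp

open CfsgLib.Classical

variable {F V : Type*} [Field F] [AddCommGroup V] [Module F V] {Q : QuadraticForm F V}
variable {t : ℕ} {D : Fin t → Submodule F V}

variable [Fintype F]

theorem card_quadratic_roots {A B C : F} (h : ¬ (A = 0 ∧ B = 0 ∧ C = 0)) [DecidableEq F] :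
    (Finset.univ.filter fun s : F => A + s * B + s * s * C = 0).card ≤ 2 := by
  by_contra hc
  push Not at hc
  obtain ⟨r₁, r₂, r₃, h₁, h₂, h₃, h12, h13, h23⟩ := Finset.two_lt_card_iff.1 hc
  simp only [Finset.mem_filter, Finset.mem_univ, true_and] at h₁ h₂ h₃
  have e12 : B + (r₁ + r₂) * C = 0 :=
    (mul_eq_zero.1 (show (r₁ - r₂) * (B + (r₁ + r₂) * C) = 0 by linear_combination h₁ - h₂)).resolve_left
      (sub_ne_zero.2 h12)
  have e13 : B + (r₁ + r₃) * C = 0 :=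
    (mul_eq_zero.1 (show (r₁ - r₃) * (B + (r₁ + r₃) * C) = 0 by linear_combination h₁ - h₃)).resolve_left
      (sub_ne_zero.2 h13)
  have hC : C = 0 :=
    (mul_eq_zero.1 (show (r₂ - r₃) * C = 0 by linear_combination e12 - e13)).resolve_left (sub_ne_zero.2 h23)
  have hB : B = 0 := by linear_combination e12 - (r₁ + r₂) * hC
  exact h ⟨by linear_combination h₁ - r₁ * hB - r₁ * r₁ * hC, hB, hC⟩

variable [FiniteDimensional F V] {M : Subgroup (qAut Q)}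

theorem not_eichGroup_le_dStab_plane (hD : Data Q D 2) (hQ : PolarNondeg Q) (ht : 3 ≤ t) :
    ¬ eichGroup Q ≤ dStab Q D := by
  intro hle
  obtain ⟨i, j, l, hij, hil, hjl⟩ : ∃ i j l : Fin t, i ≠ j ∧ i ≠ l ∧ j ≠ l :=
    ⟨⟨0, by omega⟩, ⟨1, by omega⟩, ⟨2, by omega⟩, by simp, by simp, by simp⟩
  obtain ⟨a, ha, hQa⟩ := exists_value_in (hD.nd i) (hD.dim i).ge (one_ne_zero (α := F))
  obtain ⟨b, hb, hQb⟩ := exists_value_in (hD.nd j) (hD.dim j).ge (neg_ne_zero.2 (one_ne_zero (α := F)))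
  obtain ⟨y, hy, hy0⟩ : ∃ y ∈ D l, y ≠ 0 := (Submodule.ne_bot_iff _).1 fun h0 => by
    have := hD.dim l
    rw [h0, finrank_bot] at this
    omega
  obtain ⟨w₀, hw₀, hyw⟩ : ∃ w ∈ D l, QuadraticMap.polar Q y w ≠ 0 := by
    by_contra hc
    push Not at hc
    exact hy0 (hD.nd l y hy hc)
  obtain ⟨w, hw, hwy⟩ : ∃ w ∈ D l, QuadraticMap.polar Q w y = 1 :=
    ⟨(QuadraticMap.polar Q y w₀)⁻¹ • w₀, (D l).smul_mem _ hw₀, by
      rw [QuadraticMap.polar_smul_left, QuadraticMap.polar_comm Q w₀ y, smul_eq_mul, inv_mul_cancel₀ hyw]⟩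
  have hQu : Q (a + b) = 0 := by rw [quad_add, hQa, hQb, hD.orth i j hij a ha b hb]; ring
  have hperp : ∀ x ∈ D l, QuadraticMap.polar Q (a + b) x = 0 := fun x hx => by
    rw [QuadraticMap.polar_add_left, hD.orth i l hil a ha x hx, hD.orth j l hjl b hb x hx, add_zero]
  obtain ⟨σ, hσ⟩ := hle (eich_mem Q hQu (hperp y hy))
  have himg : (eich Q (a + b) y).1 w ∈ D (σ l) := hσ l ▸ Submodule.mem_map_of_mem hw
  rw [eich_apply Q hQu (hperp y hy), QuadraticMap.polar_comm Q w (a + b), hperp w hw, hwy, zero_smul, mul_zero,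
    add_zero, add_zero, one_smul] at himg
  have hl : σ l = l := by
    by_contra hne
    have h := hD.orth (σ l) l hne _ himg y hy
    rw [QuadraticMap.polar_sub_left, hperp y hy, hwy, sub_zero] at h
    exact one_ne_zero h
  rw [hl] at himg
  have h := (D l).sub_mem hw himg
  rw [sub_sub_cancel] at h
  have ha' : a = 0 := hD.nd i a ha fun x hx => by
    have h1 := hD.orth l i hil.symm _ h x hx
    rwa [QuadraticMap.polar_add_left, hD.orth j i hij.symm b hb x hx, add_zero] at h1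
  rw [ha', map_zero] at hQa
  exact one_ne_zero hQa.symm

/-- Vectors of the moved plane meet every member. -/
theorem notMem_qPerp_of_inj (hD : Data Q D 2) {W : Submodule F V} (hWd : Module.finrank F W = 2)
    (hinj : ∀ f, ∀ z ∈ D f, (∀ w ∈ W, QuadraticMap.polar Q w z = 0) → z = 0) :
    ∀ w ∈ W, w ≠ 0 → ∀ f, w ∉ qPerp Q (D f) := by
  intro w hw hw0 f hwf
  obtain ⟨u, hu, hind⟩ : ∃ u ∈ W, ∀ s : F, s • w ≠ u := by
    by_contra hc
    push Not at hc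
    have hle : W ≤ Submodule.span F {w} := fun u hu => Submodule.mem_span_singleton.2 (hc u hu)
    have := Submodule.finrank_mono hle
    rw [finrank_span_singleton hw0, hWd] at this
    omega
  obtain ⟨z, hz, hz0⟩ : ∃ z ∈ orthIn Q (D f) u, z ≠ 0 := (Submodule.ne_bot_iff _).1 fun h0 => by
    have := finrank_orthIn_ge Q (D f) u
    rw [h0, finrank_bot, hD.dim] at this
    omega
  rw [mem_orthIn] at hz
  refine hz0 (hinj f z hz.1 fun w' hw' => ?_)
  obtain ⟨α, β, rfl⟩ := exists_coords_plane hWd hw hu hw0 hind hw'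
  rw [QuadraticMap.polar_add_left, QuadraticMap.polar_smul_left, QuadraticMap.polar_smul_left, hz.2,
    QuadraticMap.polar_comm Q w, hD.polar_eq_zero hz.1 hwf, smul_zero, smul_zero, add_zero]

/-- A vector of the moved plane with three non-singular parts. -/
theorem exists_three_parts {W : Submodule F V} (hD : Data Q D 2) (hQ : PolarNondeg Q) (hq : 5 ≤ Fintype.card F)
    (ht : 5 ≤ t)
    (hq7 : 7 ≤ t ∨ 7 ≤ Fintype.card F ∨ ∀ x ∈ W, Q x = 0 → x = 0)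
    (hW : NdOn Q W) (hWd : Module.finrank F W = 2)
    (hinj : ∀ f, ∀ z ∈ D f, (∀ w ∈ W, QuadraticMap.polar Q w z = 0) → z = 0) :
    ∃ a ∈ W, Q a ≠ 0 ∧ ∃ x : Fin t → V, (∀ f, x f ∈ D f ∧ ∀ y ∈ D f, QuadraticMap.polar Q a y =
      QuadraticMap.polar Q (x f) y) ∧ ∃ c₁ c₂ c₃, Q (x c₁) ≠ 0 ∧ Q (x c₂) ≠ 0 ∧ Q (x c₃) ≠ 0 ∧
        c₁ ≠ c₂ ∧ c₁ ≠ c₃ ∧ c₂ ≠ c₃ := by
  classical
  have hne0 : ∀ {x : V}, Q x ≠ 0 → x ≠ 0 := fun hQx h => hQx (by rw [h, map_zero])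
  have hfull := notMem_qPerp_of_inj hD hWd hinj
  obtain ⟨u₀, hu₀, hQu₀⟩ := exists_aniso_in Q hW (fun h0 => by rw [h0, finrank_bot] at hWd; omega)
  obtain ⟨e₀, he₀, hind₀⟩ : ∃ u ∈ W, ∀ s : F, s • u₀ ≠ u := by
    by_contra hc
    push Not at hc
    have hle : W ≤ Submodule.span F {u₀} := fun u hu => Submodule.mem_span_singleton.2 (hc u hu)
    have := Submodule.finrank_mono hle
    rw [finrank_span_singleton (hne0 hQu₀), hWd] at this
    omega
  have hQs : ∀ s : F, Q (u₀ + s • e₀) = Q u₀ + s * QuadraticMap.polar Q u₀ e₀ + s * s * Q e₀ := fun s => by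
    rw [quad_add, quad_smul, QuadraticMap.polar_smul_right, smul_eq_mul]
    ring
  obtain ⟨p, hp⟩ := exists_parts hD hQ u₀
  obtain ⟨r, hr⟩ := exists_parts hD hQ e₀
  have hrpart : ∀ (s : F) (f : Fin t), ∀ x ∈ D f,
      QuadraticMap.polar Q (u₀ + s • e₀) x = QuadraticMap.polar Q (p f + s • r f) x := fun s f x hx => by
    rw [QuadraticMap.polar_add_left, QuadraticMap.polar_add_left, QuadraticMap.polar_smul_left,
      QuadraticMap.polar_smul_left, (hp f).2.2.1 x hx, (hr f).2.2.1 x hx]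
  have hpoly : ∀ f, (Finset.univ.filter fun s : F => Q (p f + s • r f) = 0).card ≤ 2 := by
    intro f
    have e : ∀ s : F, Q (p f + s • r f) = Q (p f) + s * QuadraticMap.polar Q (p f) (r f) + s * s * Q (r f) :=
      fun s => by
        rw [quad_add, quad_smul, QuadraticMap.polar_smul_right, smul_eq_mul]
        ring
    simp only [e]
    refine card_quadratic_roots fun ⟨hA, hB, hC⟩ => ?_
    obtain ⟨x, hx, hQx⟩ := exists_aniso_in Q (hD.nd f) (fun h0 => by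
      have := hD.dim f
      rw [h0, finrank_bot] at this
      omega)
    have hp0 : p f ≠ 0 := fun h => hfull u₀ hu₀ (hne0 hQu₀) f ((hp f).2.2.2.1 h)
    have hind : ∀ s : F, s • p f ≠ r f := fun s hs => by
      refine hfull (e₀ - s • u₀) (W.sub_mem he₀ (W.smul_mem _ hu₀)) (fun h0 => hind₀ s (sub_eq_zero.1 h0).symm) f ?_
      refine (mem_qPerp Q).2 fun y hy => ?_
      rw [QuadraticMap.polar_comm, QuadraticMap.polar_sub_left, QuadraticMap.polar_smul_left,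
        (hp f).2.2.1 y hy, (hr f).2.2.1 y hy, ← hs, QuadraticMap.polar_smul_left, sub_self]
    obtain ⟨α, β, rfl⟩ := exists_coords_plane (hD.dim f) (hp f).1 (hr f).1 hp0 hind hx
    refine hQx ?_
    rw [quad_add, quad_smul, quad_smul, QuadraticMap.polar_smul_left, QuadraticMap.polar_smul_right, hA, hB, hC]
    simp
  obtain ⟨G, hG⟩ : ∃ G : Finset F, G = Finset.univ.filter fun s : F => Q (u₀ + s • e₀) ≠ 0 := ⟨_, rfl⟩
  have hG4 : 7 ≤ t ∨ 4 ≤ G.card := hq7.imp id fun h => by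
    have h3 := Finset.card_filter_add_card_filter_not (s := (Finset.univ : Finset F))
      (fun s : F => Q (u₀ + s • e₀) = 0)
    rw [Finset.card_univ] at h3
    simp only [← ne_eq, ← hG] at h3
    rcases h with h | h
    · have h1 : (Finset.univ.filter fun s : F => Q (u₀ + s • e₀) = 0).card ≤ 2 := by
        simp only [hQs]
        exact card_quadratic_roots fun h => hQu₀ h.1
      omega
    · rw [Finset.filter_false_of_mem (fun s _ hs => hind₀ (-s⁻¹) ?_), Finset.card_empty] at h3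
      · omega
      have h0 := h _ (W.add_mem hu₀ (W.smul_mem s he₀)) hs
      rcases eq_or_ne s 0 with rfl | hs0
      · rw [zero_smul, add_zero] at h0
        exact absurd h0 (hne0 hQu₀)
      rw [eq_neg_of_add_eq_zero_left h0, neg_smul, smul_neg, neg_neg, smul_smul, inv_mul_cancel₀ hs0, one_smul]
  have hG3 : 3 ≤ G.card := by
    have h1 : (Finset.univ.filter fun s : F => Q (u₀ + s • e₀) = 0).card ≤ 2 := by
      simp only [hQs]
      exact card_quadratic_roots fun h => hQu₀ h.1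
    have h3 := Finset.card_filter_add_card_filter_not (s := (Finset.univ : Finset F))
      (fun s : F => Q (u₀ + s • e₀) = 0)
    rw [Finset.card_univ] at h3
    have := hq
    simp only [← ne_eq, ← hG] at h3
    omega
  obtain ⟨s, hsG, hgood⟩ : ∃ s ∈ G, 2 < (Finset.univ.filter fun f => Q (p f + s • r f) ≠ 0).card := by
    by_contra hc
    push Not at hc
    have h1 : ∀ s ∈ G, t - 2 ≤ ∑ f : Fin t, if Q (p f + s • r f) = 0 then 1 else 0 := fun s hs => by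
      rw [← Finset.card_filter]
      have h3 := Finset.card_filter_add_card_filter_not (s := (Finset.univ : Finset (Fin t)))
        (fun f => Q (p f + s • r f) = 0)
      rw [Finset.card_univ, Fintype.card_fin] at h3
      have := hc s hs
      simp only [← ne_eq] at h3
      omega
    have h4 : G.card * (t - 2) ≤ 2 * t := by
      have h5 := Finset.card_nsmul_le_sum G _ _ h1
      rw [smul_eq_mul] at h5
      refine le_trans h5 ?_
      rw [Finset.sum_comm]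
      refine le_trans (Finset.sum_le_sum (g := fun _ => 2) fun f _ => ?_) (by simp [mul_comm])
      rw [← Finset.card_filter]
      exact le_trans (Finset.card_le_card (Finset.filter_subset_filter _ (Finset.subset_univ G))) (hpoly f)
    rcases hG4 with h7 | h7
    · have : 3 * (t - 2) ≤ 2 * t := le_trans (Nat.mul_le_mul_right _ hG3) h4
      omega
    · have : 4 * (t - 2) ≤ 2 * t := le_trans (Nat.mul_le_mul_right _ h7) h4
      omega
  rw [hG, Finset.mem_filter] at hsG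
  obtain ⟨a, ha⟩ : ∃ a, a = u₀ + s • e₀ := ⟨_, rfl⟩
  have haW : a ∈ W := ha ▸ W.add_mem hu₀ (W.smul_mem _ he₀)
  have hQa : Q a ≠ 0 := ha ▸ hsG.2
  obtain ⟨c₁, c₂, c₃, h₁, h₂, h₃, h12, h13, h23⟩ := Finset.two_lt_card_iff.1 hgood
  simp only [Finset.mem_filter, Finset.mem_univ, true_and] at h₁ h₂ h₃
  exact ⟨a, haW, hQa, fun f => p f + s • r f, fun f => ⟨(D f).add_mem (hp f).1 ((D f).smul_mem _ (hr f).1),
    fun y hy => ha ▸ hrpart s f y hy⟩, c₁, c₂, c₃, h₁, h₂, h₃, h12, h13, h23⟩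

/-- Two reflections fixing a vector of the moved plane. -/
theorem short_of_fixing_pair (hD : Data Q D 2) (hQ : PolarNondeg Q) (hn : 5 ≤ Module.finrank F V) (ht : 5 ≤ t)
    (hHM : dStab Q D ⊓ eichGroup Q ≤ M) {W : Submodule F V} (hWd : Module.finrank F W = 2)
    (hrel : ∀ x ∈ W, ∀ y ∈ W, Q x ≠ 0 → Q x = Q y → ReflRel Q M x y)
    (hinj : ∀ f, ∀ z ∈ D f, (∀ w ∈ W, QuadraticMap.polar Q w z = 0) → z = 0)
    (hmoves : ∀ (q : V) (U : Finset (Fin t)), t ≤ U.card + 2 → Q q ≠ 0 → (∀ l ∈ U, q ∉ qPerp Q (D l)) →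
      (∀ h ∈ dStab Q D ⊓ eichGroup Q, (∀ l, l ∉ U → ∀ x ∈ D l, h.1 x = x) → ReflRel Q M q (h.1 q)) →
      Short Q D M)
    {a b : V} (haW : a ∈ W) (hQa : Q a ≠ 0) (hbW : b ∈ W) (hQb : Q b = Q a) (hind : ∀ s : F, s • a ≠ b)
    {c e : Fin t} (hce : c ≠ e) {n n' : V} (hnc : n ∈ D c) (hne' : n' ∈ D e) (hQn : Q n ≠ 0) (hQn' : Q n' ≠ 0)
    (han : QuadraticMap.polar Q a n = 0) (han' : QuadraticMap.polar Q a n' = 0)
    (hsq : IsSquare (Q n / Q n')) : Short Q D M := by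
  classical
  have hne0 : ∀ {x : V}, Q x ≠ 0 → x ≠ 0 := fun hQx h => hQx (by rw [h, map_zero])
  have hfull := notMem_qPerp_of_inj hD hWd hinj
  obtain ⟨h, hh⟩ : ∃ h, h = qRefl Q hQn' * qRefl Q hQn := ⟨_, rfl⟩
  have hhH : h ∈ dStab Q D ⊓ eichGroup Q := hh ▸
    ⟨mul_mem (hD.qRefl_mem_dStab hQ hne' hQn') (hD.qRefl_mem_dStab hQ hnc hQn), qRefl_sq_mem hQ hn hQn hQn' hsq⟩
  have hha : h.1 a = a := by rw [hh, qAut_mul_apply, qRefl_fix Q hQn han, qRefl_fix Q hQn' han']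
  have hQb0 : Q b ≠ 0 := hQb ▸ hQa
  have hb0 : b ≠ 0 := hne0 hQb0
  have hbn : ∀ {f : Fin t} {m : V}, m ∈ D f → Q m ≠ 0 → QuadraticMap.polar Q a m = 0 →
      QuadraticMap.polar Q b m ≠ 0 := by
    intro f m hm hQm ham hbm
    refine hne0 hQm (hinj f m hm fun w hw => ?_)
    obtain ⟨α, β, rfl⟩ := exists_coords_plane hWd haW hbW (hne0 hQa) hind hw
    rw [QuadraticMap.polar_add_left, QuadraticMap.polar_smul_left, QuadraticMap.polar_smul_left, ham, hbm,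
      smul_zero, smul_zero, add_zero]
  obtain ⟨δ, hδ⟩ : ∃ δ, δ = -(((Q n)⁻¹ * QuadraticMap.polar Q b n) • n +
      ((Q n')⁻¹ * QuadraticMap.polar Q b n') • n') := ⟨_, rfl⟩
  have hnn : QuadraticMap.polar Q n n' = 0 := hD.orth c e hce n hnc n' hne'
  have hhb : h.1 b = b + δ := by
    rw [hh, qAut_mul_apply, qRefl_apply Q hQn, map_sub, map_smul, qRefl_fix Q hQn' hnn, qRefl_apply, hδ]
    abel
  have hδsupp : ∀ l, l ≠ c → l ≠ e → δ ∈ qPerp Q (D l) := fun l hlc hle => hδ ▸ (qPerp Q (D l)).neg_mem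
    ((qPerp Q (D l)).add_mem ((qPerp Q (D l)).smul_mem _ (hD.perp_le hlc hnc))
      ((qPerp Q (D l)).smul_mem _ (hD.perp_le hle hne')))
  have hrab : ReflRel Q M b (b + δ) := hhb ▸ (hrel a haW b hbW hQa hQb.symm).step (hHM hhH) hha
  obtain ⟨o, ho⟩ := exists_notMem_fin (s := ({c, e} : Finset (Fin t))) (by
    have := Finset.card_le_two (a := c) (b := e)
    omega)
  by_cases hQδ : Q δ = 0
  · refine short_of_diff hrab hQb0 hQδ (fun h0 => ?_) {c, e} Finset.card_le_two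
      (fun l hl => ?_) ho (hfull b hbW hb0 o)
    · have h1 : ((Q n)⁻¹ * QuadraticMap.polar Q b n) • n = 0 := by
        have hm : ((Q n)⁻¹ * QuadraticMap.polar Q b n) • n = -(((Q n')⁻¹ * QuadraticMap.polar Q b n') • n') :=
          eq_neg_of_add_eq_zero_left (neg_eq_zero.1 (hδ ▸ h0))
        refine hD.nd c _ ((D c).smul_mem _ hnc) fun y hy => ?_
        rw [hm, QuadraticMap.polar_neg_left, QuadraticMap.polar_smul_left, hD.orth e c hce.symm n' hne' y hy,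
          smul_zero, neg_zero]
      exact (smul_eq_zero.1 h1).elim (mul_ne_zero (inv_ne_zero hQn) (hbn hnc hQn han)) (hne0 hQn)
    · simp only [Finset.mem_insert, Finset.mem_singleton, not_or] at hl
      exact hδsupp l hl.1 hl.2
  obtain ⟨μ, hμ⟩ : ∃ μ, μ = (Q b)⁻¹ * QuadraticMap.polar Q δ b := ⟨_, rfl⟩
  obtain ⟨q, hq'⟩ : ∃ q, q = δ - μ • b := ⟨_, rfl⟩
  have hrq : ReflRel Q M q δ := hq' ▸ hμ ▸ hrab.diff (add_sub_cancel_left b δ).symm hQδ
  have hμ0 : μ ≠ 0 := by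
    have e1 : Q (b + δ) = Q b := hrab.1.symm
    rw [quad_add, add_assoc, add_eq_left] at e1
    rw [hμ, QuadraticMap.polar_comm, eq_neg_of_add_eq_zero_right e1]
    exact mul_ne_zero (inv_ne_zero hQb0) (neg_ne_zero.2 hQδ)
  have hQq : Q q ≠ 0 := hrq.1 ▸ hQδ
  obtain ⟨U, hU⟩ : ∃ U : Finset (Fin t), U = Finset.univ \ {c, e} := ⟨_, rfl⟩
  have hUmem : ∀ l, l ∈ U ↔ l ≠ c ∧ l ≠ e := fun l => by simp [hU]
  have hqU : ∀ l ∈ U, q ∉ qPerp Q (D l) := fun l hl h0 => by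
    rw [hUmem] at hl
    rw [hq', (qPerp Q (D l)).sub_mem_iff_right (hδsupp l hl.1 hl.2), (qPerp Q (D l)).smul_mem_iff hμ0] at h0
    exact hfull b hbW hb0 l h0
  have hUcard : t ≤ U.card + 2 := by
    rw [hU, Finset.card_univ_diff, Fintype.card_fin]
    have := Finset.card_le_two (a := c) (b := e)
    omega
  refine hmoves q U hUcard hQq hqU (fun g hg hgfix => ?_)
  refine hrq.symm.step (hHM hg) ?_
  rw [hδ, map_neg, map_add, map_smul, map_smul, hgfix c (fun h0 => ((hUmem c).1 h0).1 rfl) n hnc,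
    hgfix e (fun h0 => ((hUmem e).1 h0).2 rfl) n' hne']

/-- A member orthogonal at a singular point to the moved plane. -/
theorem short_of_singular_perp (hD : Data Q D 2) (hQ : PolarNondeg Q) (hn : 5 ≤ Module.finrank F V) (hq : 4 ≤ Fintype.card F)
    (hscale : ∀ (j : Fin t) (u : V), u ∈ D j → u ≠ 0 → Q u = 0 → ∃ (c : F) (h : qAut Q), c ≠ 1 ∧
      h ∈ dStab Q D ⊓ eichGroup Q ∧ h.1 u = c • u ∧ ∀ b ∈ qPerp Q (D j), h.1 b = b)
    (hHM : dStab Q D ⊓ eichGroup Q ≤ M) {W : Submodule F V}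
    (hW : NdOn Q W) (hWd : Module.finrank F W = 2)
    (hrel : ∀ x ∈ W, ∀ y ∈ W, Q x ≠ 0 → Q x = Q y → ReflRel Q M x y)
    (hsame : ∀ l ∈ W, Q l ≠ 0 → ∃ b ∈ W, Q b = Q l ∧ ∀ s : F, s • l ≠ b)
    (hII : ∀ f, ∀ n ∈ D f, Q n ≠ 0 → ∃ w ∈ W, QuadraticMap.polar Q w n ≠ 0)
    {f : Fin t} {z : V} (hz : z ∈ D f) (hz0 : z ≠ 0) (hzW : ∀ w ∈ W, QuadraticMap.polar Q w z = 0) :
    Short Q D M := by
  classical
  have hQz : Q z = 0 := by
    by_contra hne
    obtain ⟨w, hw, hwz⟩ := hII f z hz hne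
    exact hwz (hzW w hw)
  obtain ⟨z', hz', hQz', hzz'⟩ := exists_partner Q (hD.nd f) hz hz0 hQz
  have hindz : ∀ s : F, s • z ≠ z' := fun s hs => by
    rw [← hs, QuadraticMap.polar_smul_right, quad_polar_self, hQz, mul_zero, smul_zero] at hzz'
    exact zero_ne_one hzz'
  have hpart : ∀ w ∈ W, w - QuadraticMap.polar Q w z' • z ∈ qPerp Q (D f) := fun w hw => by
    refine (mem_qPerp Q).2 fun x hx => ?_
    obtain ⟨α, β, rfl⟩ := exists_coords_plane (hD.dim f) hz hz' hz0 hindz hx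
    rw [QuadraticMap.polar_comm, QuadraticMap.polar_sub_left, QuadraticMap.polar_smul_left]
    simp only [QuadraticMap.polar_add_right, QuadraticMap.polar_smul_right, hzW w hw, hzz', quad_polar_self, hQz,
      smul_eq_mul]
    ring
  obtain ⟨c, h, hc, hh, hhz, hhb⟩ := hscale f z hz hz0 hQz
  have hhw : ∀ w ∈ W, h.1 w = w + ((c - 1) * QuadraticMap.polar Q w z') • z := fun w hw => by
    have e := hhb _ (hpart w hw)
    rw [map_sub, map_smul, hhz, sub_eq_iff_eq_add] at e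
    rw [e]
    module
  obtain ⟨l, hl, hl0, hlz'⟩ : ∃ l ∈ W, l ≠ 0 ∧ QuadraticMap.polar Q l z' = 0 := by
    obtain ⟨l, hl, hl0⟩ : ∃ l ∈ orthIn Q W z', l ≠ 0 := (Submodule.ne_bot_iff _).1 fun h0 => by
      have := finrank_orthIn_ge Q W z'
      rw [h0, finrank_bot, hWd] at this
      omega
    rw [mem_orthIn] at hl
    exact ⟨l, hl.1, hl0, (QuadraticMap.polar_comm Q l z').trans hl.2⟩
  have hlperp : l ∈ qPerp Q (D f) := by simpa [hlz'] using hpart l hl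
  have hcoef : ∀ u ∈ W, (∀ s : F, s • l ≠ u) → QuadraticMap.polar Q u z' ≠ 0 := by
    intro u hu hind h0
    obtain ⟨n, hn', hQn⟩ := exists_aniso_in Q (hD.nd f) (fun hb => by
      have := hD.dim f
      rw [hb, finrank_bot] at this
      omega)
    obtain ⟨w, hw, hwn⟩ := hII f n hn' hQn
    obtain ⟨α, β, rfl⟩ := exists_coords_plane hWd hl hu hl0 hind hw
    have hu' : u ∈ qPerp Q (D f) := by simpa [h0] using hpart u hu
    refine hwn ?_
    rw [QuadraticMap.polar_add_left, QuadraticMap.polar_smul_left, QuadraticMap.polar_smul_left,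
      QuadraticMap.polar_comm Q l, QuadraticMap.polar_comm Q u, hD.polar_eq_zero hn' hlperp,
      hD.polar_eq_zero hn' hu', smul_zero, smul_zero, add_zero]
  have hhl : h.1 l = l := hhb l hlperp
  have hsupp : ∀ (r : F) (j : Fin t), j ∉ ({f} : Finset (Fin t)) → r • z ∈ qPerp Q (D j) := fun r j hj =>
    (qPerp Q (D j)).smul_mem _ (hD.perp_le (Finset.notMem_singleton.1 hj) hz)
  have hzsmul : ∀ r : F, Q (r • z) = 0 := fun r => by rw [quad_smul, hQz, mul_zero]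
  by_cases hQl : Q l ≠ 0
  · obtain ⟨b, hb, hQb, hind⟩ := hsame l hl hQl
    obtain ⟨j, hjf, hbj⟩ : ∃ j, j ≠ f ∧ b ∉ qPerp Q (D j) := by
      by_contra hc'
      push Not at hc'
      have hbf := hD.mem_of_perp_others hQ hc'
      have h1 : b - QuadraticMap.polar Q b z' • z = 0 := hD.nd f _ ((D f).sub_mem hbf ((D f).smul_mem _ hz))
        fun y hy => (QuadraticMap.polar_comm Q _ y).trans (hD.polar_eq_zero hy (hpart b hb))
      have h3 : Q b = 0 := by rw [sub_eq_zero.1 h1, hzsmul]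
      exact hQl (hQb ▸ h3)
    refine short_of_diff (hhw b hb ▸ (hrel l hl b hb hQl hQb.symm).step (hHM hh) hhl) (hQb ▸ hQl) (hzsmul _)
      (smul_ne_zero (mul_ne_zero (sub_ne_zero.2 hc) (hcoef b hb hind)) hz0) {f} (by simp) (hsupp _) (j := j)
      (by simpa using hjf) hbj
  push Not at hQl
  obtain ⟨l', hl', hQl', hll'⟩ := exists_partner Q hW hl hl0 hQl
  have hl'l : QuadraticMap.polar Q l' l = 1 := (QuadraticMap.polar_comm Q l' l).trans hll'
  have hindl : ∀ s : F, s • l ≠ l' := fun s hs => by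
    rw [← hs, QuadraticMap.polar_smul_right, quad_polar_self, hQl, mul_zero, smul_zero] at hll'
    exact zero_ne_one hll'
  obtain ⟨κ, hκ⟩ : ∃ κ, κ = (c - 1) * QuadraticMap.polar Q l' z' := ⟨_, rfl⟩
  have hκ0 : κ ≠ 0 := hκ ▸ mul_ne_zero (sub_ne_zero.2 hc) (hcoef l' hl' hindl)
  have hlz : ∀ r : F, QuadraticMap.polar Q l (r • z) = 0 := fun r => by
    rw [QuadraticMap.polar_smul_right, hzW l hl, smul_zero]
  obtain ⟨e, he⟩ : ∃ e, e = eich Q l (κ • z) := ⟨_, rfl⟩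
  have hel : e.1 l = l := he ▸ eich_fix Q hQl (hlz κ)
  have hel' : e.1 l' = l' + κ • z := by
    rw [he, eich_apply Q hQl (hlz κ), hl'l, QuadraticMap.polar_smul_right, hzW l' hl', hzsmul]
    simp
  obtain ⟨s, -, hs⟩ := Finset.exists_mem_notMem_of_card_lt_card
    (s := ({0, 1, -1} : Finset F)) (t := Finset.univ) (by
      rw [Finset.card_univ]
      exact lt_of_le_of_lt Finset.card_le_three (by omega))
  simp only [Finset.mem_insert, Finset.mem_singleton, not_or] at hs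
  obtain ⟨a, ha⟩ : ∃ a, a = l + l' := ⟨_, rfl⟩
  obtain ⟨b, hb⟩ : ∃ b, b = s • l + s⁻¹ • l' := ⟨_, rfl⟩
  have haW : a ∈ W := ha ▸ W.add_mem hl hl'
  have hbW : b ∈ W := hb ▸ W.add_mem (W.smul_mem _ hl) (W.smul_mem _ hl')
  have hQa : Q a = 1 := by rw [ha, quad_add, hQl, hQl', hll']; ring
  have hQb : Q b = 1 := by
    rw [hb, quad_add, quad_smul, quad_smul, hQl, hQl', QuadraticMap.polar_smul_left,
      QuadraticMap.polar_smul_right, hll', smul_eq_mul, smul_eq_mul, mul_one, mul_inv_cancel₀ hs.1]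
    ring
  have hea : h.1 a = e.1 a := by rw [ha, map_add, map_add, hhl, hel, hel', hhw l' hl', ← hκ]
  have heb : h.1 b = e.1 b := by
    rw [hb, map_add, map_add, map_smul, map_smul, map_smul, map_smul, hhl, hel, hel', hhw l' hl', ← hκ]
  have hr := hrel a haW b hbW (hQa ▸ one_ne_zero) (hQa.trans hQb.symm)
  have hr' := hr.map (hHM hh)
  rw [hea, heb] at hr'
  obtain ⟨-, ha0, hb0, hm⟩ := hr
  obtain ⟨-, hea0, heb0, hm'⟩ := hr'
  have hσl : (qRefl Q hb0 * qRefl Q ha0).1 l = (s * s) • l := by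
    have e1 : (qRefl Q ha0).1 l = -l' := by
      rw [qRefl_apply, hQa, ha, QuadraticMap.polar_add_right, quad_polar_self, hQl, hll']
      simp
    rw [qAut_mul_apply, e1, map_neg, qRefl_apply, hQb, hb, QuadraticMap.polar_add_right,
      QuadraticMap.polar_smul_right, QuadraticMap.polar_smul_right, hl'l, quad_polar_self, hQl']
    simp only [smul_eq_mul, mul_one, mul_zero, add_zero, inv_one, one_mul, smul_add, smul_smul,
      mul_inv_cancel₀ hs.1, one_smul]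
    abel
  have hσz : (qRefl Q hb0 * qRefl Q ha0).1 (κ • z) = κ • z := by
    rw [qAut_mul_apply, map_smul, qRefl_fix Q ha0 ((QuadraticMap.polar_comm Q z a).trans (hzW a haW)), map_smul,
      qRefl_fix Q hb0 ((QuadraticMap.polar_comm Q z b).trans (hzW b hbW))]
  have key : eich Q l (((s * s) - 1) • (κ • z)) ∈ M := by
    have h1 := mul_mem (inv_mem hm) hm'
    have hA : qRefl Q hea0 = e * qRefl Q ha0 * e⁻¹ := (qRefl_conj Q e ha0 hea0).symm
    have hB : qRefl Q heb0 = e * qRefl Q hb0 * e⁻¹ := (qRefl_conj Q e hb0 heb0).symm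
    have h3 : (qRefl Q ha0 * qRefl Q hb0)⁻¹ * (qRefl Q hea0 * qRefl Q heb0) =
        ((qRefl Q hb0 * qRefl Q ha0) * e * (qRefl Q hb0 * qRefl Q ha0)⁻¹) * e⁻¹ := by
      rw [hA, hB, mul_inv_rev, mul_inv_rev, qRefl_inv, qRefl_inv]
      group
    rw [h3, he, eich_conj Q _ hQl (hlz κ), hσl, hσz, eich_inv Q hQl (hlz κ), eich_smul_left Q hQl (hlz κ),
      ← neg_one_smul F (κ • z), eich_mul Q hQl (by rw [smul_smul]; exact hlz _) (by rw [smul_smul]; exact hlz _),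
      ← add_smul, ← sub_eq_add_neg] at h1
    exact h1
  have hμ0 : (s * s - 1) * κ ≠ 0 := mul_ne_zero (sub_ne_zero.2 fun h1 => by
    rcases mul_self_eq_one_iff.1 h1 with h1 | h1
    · exact hs.2.1 h1
    · exact hs.2.2 h1) hκ0
  rw [smul_smul, eich_antisymm hQl (hzsmul _) (hlz _)] at key
  obtain ⟨j, hjf, hlj⟩ : ∃ j, j ≠ f ∧ l ∉ qPerp Q (D j) := by
    by_contra hc'
    push Not at hc'
    refine hl0 (hD.eq_zero_of_perp_all hQ fun j => ?_)
    rcases eq_or_ne j f with rfl | hj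
    · exact hlperp
    · exact hc' j hj
  exact ⟨{f}, _, -l, by simp, smul_ne_zero hμ0 hz0, hzsmul _, by
    rw [QuadraticMap.polar_neg_right, QuadraticMap.polar_comm, hlz, neg_zero], hsupp _, key, j,
    by simpa using hjf, fun h0 => hlj (by simpa using (qPerp Q (D j)).neg_mem h0)⟩

/-- The moved plane gives a short transformation. -/
theorem short_of_plane (hD : Data Q D 2) (hQ : PolarNondeg Q) (hn : 5 ≤ Module.finrank F V)
    (hHM : dStab Q D ⊓ eichGroup Q ≤ M) (hne : ¬ M ≤ dStab Q D)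
    (hthree : ∀ l, ∀ x ∈ D l, Q x ≠ 0 → ∃ x₂ ∈ D l, ∃ x₃ ∈ D l, Q x₂ = Q x ∧ Q x₃ = Q x ∧
      (∀ s : F, s • x ≠ x₂) ∧ (∀ s : F, s • x ≠ x₃) ∧ (∀ s : F, s • x₂ ≠ x₃) ∧ QuadraticMap.polar Q x x₂ ≠ 0)
    (houtside : ∀ (c : Fin t) (n v : V), n ∈ D c → ReflRel Q M v n → (∀ l, v ∉ D l) → Short Q D M)
    (hperp : ∀ W : Submodule F V, NdOn Q W → Module.finrank F W = 2 →
      (∀ x ∈ W, ∀ y ∈ W, Q x ≠ 0 → Q x = Q y → ReflRel Q M x y) →
      (∀ l ∈ W, Q l ≠ 0 → ∃ b ∈ W, Q b = Q l ∧ ∀ s : F, s • l ≠ b) →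
      (∀ f, ∀ n ∈ D f, Q n ≠ 0 → ∃ w ∈ W, QuadraticMap.polar Q w n ≠ 0) →
      ∀ (f : Fin t) (z : V), z ∈ D f → z ≠ 0 → (∀ w ∈ W, QuadraticMap.polar Q w z = 0) → Short Q D M)
    (hfullrank : ∀ W : Submodule F V, NdOn Q W → Module.finrank F W = 2 →
      (∀ x ∈ W, Q x = 0 → x ≠ 0 → ∃ l, ∃ y ∈ D l, y ≠ 0 ∧ Q y = 0) →
      (∀ x ∈ W, ∀ y ∈ W, Q x ≠ 0 → Q x = Q y → ReflRel Q M x y) →
      (∀ l ∈ W, Q l ≠ 0 → ∃ b ∈ W, Q b = Q l ∧ ∀ s : F, s • l ≠ b) →
      (∀ f, ∀ z ∈ D f, (∀ w ∈ W, QuadraticMap.polar Q w z = 0) → z = 0) → Short Q D M) :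
    Short Q D M := by
  classical
  obtain ⟨g, hgM, hg⟩ := SetLike.not_le_iff_exists.1 hne
  obtain ⟨i, hi⟩ : ∃ i, ∀ j, ¬ (D i).map g.1.toLinearMap ≤ D j := by
    by_contra hc
    push Not at hc
    refine hg (mem_dStab_of_into hD (by omega) fun i => ?_)
    obtain ⟨j, hj⟩ := hc i
    exact ⟨j, fun x hx => hj (Submodule.mem_map_of_mem hx)⟩
  obtain ⟨W, hWe⟩ : ∃ W, W = (D i).map g.1.toLinearMap := ⟨_, rfl⟩
  have hWd : Module.finrank F W = 2 := by rw [hWe, LinearEquiv.finrank_map_eq, hD.dim]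
  have hWmem : ∀ {x}, x ∈ W → ∃ y ∈ D i, g.1 y = x := fun {x} hx => by
    rw [hWe] at hx
    exact hx
  have hW : NdOn Q W := by
    intro x hx hall
    obtain ⟨y, hy, rfl⟩ := hWmem hx
    rw [hD.nd i y hy fun z hz => by
      rw [← qAut_polar g y z]
      exact hall _ (hWe ▸ Submodule.mem_map_of_mem hz), map_zero]
  have hrel : ∀ x ∈ W, ∀ y ∈ W, Q x ≠ 0 → Q x = Q y → ReflRel Q M x y := by
    intro x hx y hy hQx hxy
    obtain ⟨a, ha, rfl⟩ := hWmem hx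
    obtain ⟨b, hb, rfl⟩ := hWmem hy
    rw [qAut_map] at hQx hxy
    rw [qAut_map] at hxy
    exact (reflRel_of_members hD hQ hn hHM ha hb hQx hxy).map hgM
  have hsame : ∀ l ∈ W, Q l ≠ 0 → ∃ b ∈ W, Q b = Q l ∧ ∀ s : F, s • l ≠ b := by
    intro l hl hQl
    obtain ⟨y, hy, rfl⟩ := hWmem hl
    rw [qAut_map] at hQl
    obtain ⟨x₂, hx₂, -, -, hQ₂, -, hi₂, -⟩ := hthree i y hy hQl
    exact ⟨g.1 x₂, hWe ▸ Submodule.mem_map_of_mem hx₂, by rw [qAut_map, qAut_map, hQ₂], fun s hs =>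
      hi₂ s (g.1.injective (by rw [map_smul, hs]))⟩
  by_cases hI : ∃ f, ∃ n ∈ D f, Q n ≠ 0 ∧ ∀ w ∈ W, QuadraticMap.polar Q w n = 0
  · obtain ⟨f, n, hnf, hQn, hnW⟩ := hI
    obtain ⟨a, ha, hQa⟩ := exists_aniso_in Q hW (fun h0 => by rw [h0, finrank_bot] at hWd; omega)
    obtain ⟨y, hy, rfl⟩ := hWmem ha
    rw [qAut_map] at hQa
    obtain ⟨x₂, hx₂, -, -, hQ₂, -, hi₂, -, -, hp₂⟩ := hthree i y hy hQa
    obtain ⟨b, hb, hQb, hindb, hab⟩ : ∃ b ∈ W, Q b = Q (g.1 y) ∧ (∀ s : F, s • g.1 y ≠ b) ∧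
        QuadraticMap.polar Q (g.1 y) b ≠ 0 :=
      ⟨g.1 x₂, hWe ▸ Submodule.mem_map_of_mem hx₂, by rw [qAut_map, qAut_map, hQ₂], fun s hs =>
        hi₂ s (g.1.injective (by rw [map_smul, hs])), by rwa [qAut_polar]⟩
    rw [← qAut_map g y] at hQa
    obtain ⟨a, hae⟩ : ∃ a, a = g.1 y := ⟨_, rfl⟩
    rw [← hae] at ha hQa hQb hindb hab
    have hQb0 : Q b ≠ 0 := hQb ▸ hQa
    obtain ⟨-, ha0, hb0, hm⟩ := hrel a ha b hb hQa hQb.symm
    obtain ⟨σ, hσ⟩ : ∃ σ, σ = qRefl Q ha0 * qRefl Q hb0 := ⟨_, rfl⟩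
    have hσn : σ.1 n = n := by
      rw [hσ, qAut_mul_apply, qRefl_fix Q hb0 ((QuadraticMap.polar_comm Q n b).trans (hnW b hb)),
        qRefl_fix Q ha0 ((QuadraticMap.polar_comm Q n a).trans (hnW a ha))]
    by_cases hout : ∃ l, ∃ x ∈ D l, Q x = Q n ∧ ∀ j, σ.1 x ∉ D j
    · obtain ⟨l, x, hx, hQx, hout⟩ := hout
      have hr := (reflRel_of_members hD hQ hn hHM hnf hx hQn hQx.symm).map (g := σ) (hσ ▸ hm)
      rw [hσn] at hr
      exact houtside f n _ hnf hr.symm hout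
    push Not at hout
    exfalso
    have hinto : ∀ l, ∃ j, ∀ x ∈ D l, σ.1 x ∈ D j := by
      intro l
      obtain ⟨y₁, hy₁, hQy₁⟩ := exists_value_in (hD.nd l) (hD.dim l).ge hQn
      obtain ⟨y₂, hy₂, y₃, hy₃, hQy₂, hQy₃, hj₂, hj₃, hj₂₃, -⟩ := hthree l y₁ hy₁ (hQy₁ ▸ hQn)
      have hy₁0 : y₁ ≠ 0 := fun h => hQn (by rw [← hQy₁, h, map_zero])
      obtain ⟨α, β, hαβ⟩ := exists_coords_plane (hD.dim l) hy₁ hy₂ hy₁0 hj₂ hy₃
      have hα : α ≠ 0 := fun h => hj₂₃ β (by rwa [h, zero_smul, zero_add] at hαβ)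
      have hβ : β ≠ 0 := fun h => hj₃ α (by rwa [h, zero_smul, add_zero] at hαβ)
      obtain ⟨j₁, h₁⟩ := hout l y₁ hy₁ hQy₁
      obtain ⟨j₂, h₂⟩ := hout l y₂ hy₂ (hQy₂.trans hQy₁)
      obtain ⟨j₃, h₃⟩ := hout l y₃ hy₃ (hQy₃.trans hQy₁)
      have hne : ∀ {y : V}, Q y = Q y₁ → σ.1 y ≠ 0 := fun {y} hQy h => by
        have := qAut_map σ y
        rw [h, map_zero, hQy, hQy₁] at this
        exact hQn this.symm
      have hj : j₁ = j₂ := by
        by_contra hne'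
        rw [← hαβ, map_add, map_smul, map_smul] at h₃
        rcases eq_or_ne j₃ j₁ with rfl | h31
        · have h := (D j₃).sub_mem h₃ ((D j₃).smul_mem α h₁)
          rw [add_sub_cancel_left, (D j₃).smul_mem_iff hβ] at h
          exact hne hQy₂ (hD.nd j₂ _ h₂ fun v hv => hD.orth j₃ j₂ hne' _ h v hv)
        · refine hne rfl (hD.nd j₁ _ h₁ fun v hv => ?_)
          have h := hD.orth j₃ j₁ h31 _ h₃ v hv
          rw [QuadraticMap.polar_add_left, QuadraticMap.polar_smul_left, QuadraticMap.polar_smul_left,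
            hD.orth j₂ j₁ (Ne.symm hne') _ h₂ v hv, smul_zero, add_zero] at h
          exact (smul_eq_zero.1 h).resolve_left hα
      refine ⟨j₁, fun x hx => ?_⟩
      obtain ⟨p, r, rfl⟩ := exists_coords_plane (hD.dim l) hy₁ hy₂ hy₁0 hj₂ hx
      rw [map_add, map_smul, map_smul]
      exact (D j₁).add_mem ((D j₁).smul_mem _ h₁) ((D j₁).smul_mem _ (hj ▸ h₂))
    obtain ⟨j, hj⟩ := plane_le_member hD hQ hWd hW ha hb hindb ha0 hb0 hab
      (hσ ▸ mem_dStab_of_into hD (by omega) hinto)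
    exact hi j (hWe ▸ hj)
  push Not at hI
  by_cases hS : ∃ f, ∃ z ∈ D f, z ≠ 0 ∧ ∀ w ∈ W, QuadraticMap.polar Q w z = 0
  · obtain ⟨f, z, hz, hz0, hzW⟩ := hS
    exact hperp W hW hWd hrel hsame hI f z hz hz0 hzW
  push Not at hS
  refine hfullrank W hW hWd (fun x hx hQx hx0 => ?_) hrel hsame fun f z hz hzW => ?_
  · obtain ⟨y, hy, rfl⟩ := hWmem hx
    exact ⟨i, y, hy, fun h => hx0 (by rw [h, map_zero]), by rwa [qAut_map] at hQx⟩
  by_contra hz0
  obtain ⟨w, hw, hwz⟩ := hS f z hz hz0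
  exact hwz (hzW w hw)


/-- Moves supported on three members in odd characteristic. -/
theorem short_of_moves (hD : Data Q D 2) (hQ : PolarNondeg Q) (hn : 5 ≤ Module.finrank F V) (h2 : (2 : F) ≠ 0)
    (hq : PlaneField Q D) (ht : 5 ≤ t) (hHM : dStab Q D ⊓ eichGroup Q ≤ M) (q : V) (U : Finset (Fin t))
    (hU : 3 ≤ U.card) (hQq : Q q ≠ 0) (hqU : ∀ l ∈ U, q ∉ qPerp Q (D l))
    (hrel : ∀ h ∈ dStab Q D ⊓ eichGroup Q, (∀ l, l ∉ U → ∀ x ∈ D l, h.1 x = x) → ReflRel Q M q (h.1 q)) :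
    Short Q D M := by
  classical
  obtain ⟨p, hp⟩ := exists_parts hD hQ q
  obtain ⟨i, j, l, hi, hj, hl, hij, hil, hjl⟩ := Finset.two_lt_card_iff.1 hU
  have hpi : p i ≠ 0 := fun h => hqU i hi ((hp i).2.2.2.1 h)
  obtain ⟨n, hn1, n', hn2, hQn, hQn', hE, hmove⟩ :=
    exists_rotation hQ hn h2 (hD.nd i) (hD.dim _).ge (Or.inl hq.five_le) (hp i).1 hpi
  obtain ⟨r, hr⟩ : ∃ r, r = qRefl Q hQn * qRefl Q hQn' := ⟨_, rfl⟩
  rw [← hr] at hE hmove
  have hrfix : ∀ x ∈ qPerp Q (D i), r.1 x = x := fun x hx => by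
    rw [hr, qAut_mul_apply, qRefl_fix Q hQn' ((QuadraticMap.polar_comm Q x n').trans (hD.polar_eq_zero hn2 hx)),
      qRefl_fix Q hQn ((QuadraticMap.polar_comm Q x n).trans (hD.polar_eq_zero hn1 hx))]
  obtain ⟨d, hd⟩ : ∃ d, d = r.1 (p i) - p i := ⟨_, rfl⟩
  have hdD : d ∈ D i := by
    rw [hd, hr, qAut_mul_apply, qRefl_apply, qRefl_apply]
    exact (D i).sub_mem ((D i).sub_mem ((D i).sub_mem (hp i).1 ((D i).smul_mem _ hn2)) ((D i).smul_mem _ hn1))
      (hp i).1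
  have hd0 : d ≠ 0 := fun h => hmove (sub_eq_zero.1 (hd ▸ h))
  have hrq : r.1 q = q + d := by
    have e := hrfix _ (hp i).2.1
    rw [map_sub, sub_eq_iff_eq_add] at e
    rw [e, hd]
    abel
  have hrel' : ReflRel Q M q (q + d) := hrq ▸ hrel r
    ⟨hr ▸ mul_mem (hD.qRefl_mem_dStab hQ hn1 hQn) (hD.qRefl_mem_dStab hQ hn2 hQn'), hE⟩
    fun m hm x hx => hrfix x (hD.perp_le (i := i) (j := m) (fun h0 => hm (h0 ▸ hi)) hx)
  by_cases hQd : Q d = 0
  · exact short_of_diff hrel' hQq hQd hd0 {i} (by simp)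
      (fun m hm => hD.perp_le (Finset.notMem_singleton.1 hm) hdD) (j := j) (by simpa using hij.symm) (hqU j hj)
  have hμ : (Q q)⁻¹ * QuadraticMap.polar Q d q ≠ 0 := by
    have e1 : Q (q + d) = Q q := hrel'.1.symm
    rw [quad_add, add_assoc, add_eq_left] at e1
    rw [QuadraticMap.polar_comm, eq_neg_of_add_eq_zero_right e1]
    exact mul_ne_zero (inv_ne_zero hQq) (neg_ne_zero.2 hQd)
  refine short_of_outside hD hQ hn h2 hq ht hHM hdD (hrel'.diff (add_sub_cancel_left q d).symm hQd) fun m hm => ?_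
  obtain ⟨o, hoU, hoi, hom⟩ : ∃ o ∈ U, o ≠ i ∧ o ≠ m := by
    rcases eq_or_ne j m with rfl | h
    · exact ⟨l, hl, hil.symm, hjl.symm⟩
    · exact ⟨j, hj, hij.symm, h⟩
  have h := hD.perp_le hom hm
  rw [(qPerp Q (D o)).sub_mem_iff_right (hD.perp_le hoi hdD), (qPerp Q (D o)).smul_mem_iff hμ] at h
  exact hqU o hoU h

/-- The case where every member meets the moved plane's projection fully. -/
theorem short_of_full_rank (hD : Data Q D 2) (hQ : PolarNondeg Q) (hn : 5 ≤ Module.finrank F V) (h2 : (2 : F) ≠ 0)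
    (hq : PlaneField Q D) (ht : 5 ≤ t) (hHM : dStab Q D ⊓ eichGroup Q ≤ M) {W : Submodule F V}
    (hW : NdOn Q W) (hWd : Module.finrank F W = 2)
    (hWs : ∀ x ∈ W, Q x = 0 → x ≠ 0 → ∃ l, ∃ y ∈ D l, y ≠ 0 ∧ Q y = 0)
    (hrel : ∀ x ∈ W, ∀ y ∈ W, Q x ≠ 0 → Q x = Q y → ReflRel Q M x y)
    (hinj : ∀ f, ∀ z ∈ D f, (∀ w ∈ W, QuadraticMap.polar Q w z = 0) → z = 0) : Short Q D M := by
  obtain ⟨a, haW, hQa, x, hx, c₁, c₂, c₃, h₁, h₂, h₃, h12, h13, h23⟩ :=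
    exists_three_parts hD hQ hq.five_le ht (Or.inr (hq.imp id fun hh x hx hQx => by_contra fun hx0 => by
      obtain ⟨l, y, hy, hy0, hQy⟩ := hWs x hx hQx hx0
      exact hy0 (hh.2 l y hy hQy))) hW hWd hinj
  have norm : ∀ {f : Fin t}, Q (x f) ≠ 0 → ∃ n ∈ D f, Q n ≠ 0 ∧ QuadraticMap.polar Q a n = 0 := by
    intro f hf
    obtain ⟨n, hn', hQn⟩ := exists_aniso_in Q (ndOn_orthIn Q h2 (hD.nd f) (hx f).1 hf) (fun h0 => by
      have := finrank_orthIn_ge Q (D f) (x f)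
      rw [h0, finrank_bot, hD.dim] at this
      omega)
    rw [mem_orthIn] at hn'
    exact ⟨n, hn'.1, hQn, by rw [(hx f).2 n hn'.1, hn'.2]⟩
  obtain ⟨n₁, hn₁, hQ₁, ha₁⟩ := norm h₁
  obtain ⟨n₂, hn₂, hQ₂, ha₂⟩ := norm h₂
  obtain ⟨n₃, hn₃, hQ₃, ha₃⟩ := norm h₃
  obtain ⟨c, e, n, n', hce, hnc, hne', hQn, hQn', han, han', hsq⟩ : ∃ c e n n', c ≠ e ∧ n ∈ D c ∧ n' ∈ D e ∧
      Q n ≠ 0 ∧ Q n' ≠ 0 ∧ QuadraticMap.polar Q a n = 0 ∧ QuadraticMap.polar Q a n' = 0 ∧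
      IsSquare (Q n / Q n') := by
    by_cases hs12 : IsSquare (Q n₁ / Q n₂)
    · exact ⟨c₁, c₂, n₁, n₂, h12, hn₁, hn₂, hQ₁, hQ₂, ha₁, ha₂, hs12⟩
    by_cases hs13 : IsSquare (Q n₁ / Q n₃)
    · exact ⟨c₁, c₃, n₁, n₃, h13, hn₁, hn₃, hQ₁, hQ₃, ha₁, ha₃, hs13⟩
    refine ⟨c₃, c₂, n₃, n₂, h23.symm, hn₃, hn₂, hQ₃, hQ₂, ha₃, ha₂, ?_⟩
    have h := isSquare_div_of_nonsquare h2 hs12 hs13
    rwa [div_div_div_cancel_left' _ _ hQ₁] at h
  obtain ⟨b₂, hb₂, b₃, hb₃, hQ₂', hQ₃', hi₂, hi₃, hi₂₃⟩ := exists_three_values h2 hW hWd.ge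
    (hq.imp id fun hh => ⟨hh.1, fun z hz hQz => by_contra fun hz0 => by
      obtain ⟨l, y, hy, hy0, hQy⟩ := hWs z hz hQz hz0
      exact hy0 (hh.2 l y hy hQy)⟩) haW hQa
  refine short_of_fixing_pair hD hQ hn ht hHM hWd hrel hinj (fun q U hU => ?_) haW hQa hb₂ hQ₂' hi₂
    hce hnc hne' hQn hQn' han han' hsq
  exact short_of_moves hD hQ hn h2 hq ht hHM q U (by omega)

/-- Three vectors of one value in a member, two of them not orthogonal. -/
theorem exists_three_members (hD : Data Q D 2) (h2 : (2 : F) ≠ 0) (hq : PlaneField Q D) :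
    ∀ l, ∀ x ∈ D l, Q x ≠ 0 → ∃ x₂ ∈ D l, ∃ x₃ ∈ D l, Q x₂ = Q x ∧ Q x₃ = Q x ∧
      (∀ s : F, s • x ≠ x₂) ∧ (∀ s : F, s • x ≠ x₃) ∧ (∀ s : F, s • x₂ ≠ x₃) ∧
      QuadraticMap.polar Q x x₂ ≠ 0 := by
  intro l x hx hQx
  obtain ⟨x₂, hx₂, x₃, hx₃, hQ₂, hQ₃, hi₂, hi₃, hi₂₃⟩ := exists_three_values h2 (hD.nd l) (hD.dim l).ge
    (hq.imp id fun hh => ⟨hh.1, hh.2 l⟩) hx hQx
  by_cases hp : QuadraticMap.polar Q x x₂ = 0
  · refine ⟨x₃, hx₃, x₂, hx₂, hQ₃, hQ₂, hi₃, hi₂, fun s hs => ?_, fun hp₃ => ?_⟩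
    · rcases eq_or_ne s 0 with rfl | hs0
      · rw [zero_smul] at hs
        rw [← hs, map_zero] at hQ₂
        exact hQx hQ₂.symm
      · exact hi₂₃ s⁻¹ (by rw [← hs, smul_smul, inv_mul_cancel₀ hs0, one_smul])
    obtain ⟨α, β, hαβ⟩ := exists_coords_plane (hD.dim l) hx hx₂ (fun h => hQx (by rw [h, map_zero])) hi₂ hx₃
    rw [← hαβ, QuadraticMap.polar_add_right, QuadraticMap.polar_smul_right, QuadraticMap.polar_smul_right, hp,
      quad_polar_self, smul_zero, add_zero, smul_eq_mul] at hp₃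
    rw [(mul_eq_zero.1 hp₃).resolve_right (mul_ne_zero h2 hQx), zero_smul, zero_add] at hαβ
    exact hi₂₃ β hαβ
  · exact ⟨x₂, hx₂, x₃, hx₃, hQ₂, hQ₃, hi₂, hi₃, hi₂₃, hp⟩

/-- An overgroup of the stabiliser of a decomposition into planes contains the Eichler group. -/
theorem eichGroup_le_of_plane (hD : Data Q D 2) (hQ : PolarNondeg Q) (hn : 5 ≤ Module.finrank F V)
    (h2 : (2 : F) ≠ 0) (hq : PlaneField Q D) (ht : 5 ≤ t) (hHM : dStab Q D ⊓ eichGroup Q ≤ M)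
    (hne : ¬ M ≤ dStab Q D) : eichGroup Q ≤ M := by
  refine eichGroup_le_of_short hD hQ hn h2 hq.five_le ht hHM ?_
  refine short_of_plane hD hQ hn hHM hne (exists_three_members hD h2 hq)
    (fun c n v hn' hr hout => short_of_outside hD hQ hn h2 hq ht hHM hn' hr hout)
    (fun W hW hWd hrel hsame hII f z hz hz0 hzW => short_of_singular_perp hD hQ hn (by have := hq.five_le; omega)
      (fun j u hu hu0 hQu => exists_scale hD hQ hn h2 (Or.inl hq.five_le) hu hu0 hQu) hHM hW hWd hrel hsame hII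
      hz hz0 hzW)
    (fun W hW hWd hWs hrel _ hinj => short_of_full_rank hD hQ hn h2 hq ht hHM hW hWd hWs hrel hinj)

end CfsgLib.Classical22.OrthDecomp
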