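/-
Planes of a quadratic space in characteristic two: values on affine lines and invariant additive groups.
-/
import Cfsg.Agent.Lib.Classical22.OrthDecompTwo

set_option autoImplicit false

namespace CfsgLib.Classical22.OrthDecomp

open CfsgLib.Classical

variable {F V : Type*} [Field F] [AddCommGroup V] [Module F V] {Q : QuadraticForm F V}

/-- The additive map `s ↦ s + a s²`. -/
def artinMap (h2 : (2 : F) = 0) (a : F) : F →+ F where
  toFun s := s + a * s * s
  map_zero' := by ring
  map_add' x y := by linear_combination (a * x * y) * h2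

theorem artinMap_apply (h2 : (2 : F) = 0) (a s : F) : artinMap h2 a s = s + a * s * s := rfl

theorem mem_range_artinMap (h2 : (2 : F) = 0) {a x : F} :
    x ∈ (artinMap h2 a).range ↔ ∃ s, s + a * s * s = x := by
  simp only [AddMonoidHom.mem_range, artinMap_apply]

theorem neg_eq_self_two (h2 : (2 : F) = 0) (x : F) : -x = x := by linear_combination (-x) * h2

variable [Fintype F]

theorem isSquare_of_two (h2 : (2 : F) = 0) (x : F) : IsSquare x := by
  haveI : CharP F 2 := CharTwo.of_one_ne_zero_of_two_eq_zero one_ne_zero h2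
  exact FiniteField.isSquare_of_char_two (ringChar.eq F 2) x

theorem card_range_artinMap (h2 : (2 : F) = 0) {a : F} (ha : a ≠ 0) :
    Nat.card (artinMap h2 a).range * 2 = Nat.card F := by
  have hker : Nat.card (artinMap h2 a).ker = 2 := by
    have e : ((artinMap h2 a).ker : Set F) = {0, a⁻¹} := by
      ext s
      simp only [SetLike.mem_coe, AddMonoidHom.mem_ker, artinMap_apply, Set.mem_insert_iff, Set.mem_singleton_iff]
      constructor
      · intro h
        rcases eq_or_ne s 0 with rfl | hs
        · exact Or.inl rfl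
        · refine Or.inr (eq_inv_of_mul_eq_one_right ?_)
          have : (1 + a * s) * s = 0 := by linear_combination h
          linear_combination ((mul_eq_zero.1 this).resolve_right hs) - h2
      · rintro (rfl | rfl)
        · ring
        · rw [mul_inv_cancel₀ ha, one_mul]
          linear_combination a⁻¹ * h2
    rw [← SetLike.coe_sort_coe, Nat.card_coe_set_eq, e, Set.ncard_pair (inv_ne_zero ha).symm]
  have h := AddSubgroup.card_eq_card_quotient_mul_card_addSubgroup (artinMap h2 a).ker
  rw [Nat.card_congr (QuotientAddGroup.quotientKerEquivRange (artinMap h2 a)).toEquiv, hker] at h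
  exact h.symm

/-- Half-sized subgroups have index two. -/
theorem add_mem_of_half {K : AddSubgroup F} (hK : Nat.card K * 2 = Nat.card F) {x y : F} (hx : x ∉ K) (hy : y ∉ K) :
    x + y ∈ K := by
  classical
  have hidx : K.index = 2 := by
    have h := K.card_mul_index
    rw [← hK] at h
    exact Nat.eq_of_mul_eq_mul_left Nat.card_pos h
  exact (AddSubgroup.add_mem_iff_of_index_two hidx).2 (iff_of_false hx hy)

/-- A non-zero value common to two affine lines. -/
theorem exists_common_value (h2 : (2 : F) = 0) {a a' c c' : F} (ha : a ≠ 0) (ha' : a' ≠ 0)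
    (h : (8 ≤ Fintype.card F ∧ c ∈ (artinMap h2 a).range ∧ c' ∈ (artinMap h2 a').range) ∨
      (c ∉ (artinMap h2 a).range ∧ c' ∉ (artinMap h2 a').range)) :
    ∃ s s', c + s + a * s * s ≠ 0 ∧ c + s + a * s * s = c' + s' + a' * s' * s' := by
  obtain ⟨K, hKe⟩ : ∃ K, K = (artinMap h2 a).range := ⟨_, rfl⟩
  obtain ⟨K', hKe'⟩ : ∃ K, K = (artinMap h2 a').range := ⟨_, rfl⟩
  have hK := hKe ▸ card_range_artinMap h2 ha
  have hK' := hKe' ▸ card_range_artinMap h2 ha'
  rw [← hKe, ← hKe'] at h
  suffices hγ : ∃ γ, γ ≠ 0 ∧ γ - c ∈ K ∧ γ - c' ∈ K' by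
    obtain ⟨γ, hγ0, h1, h1'⟩ := hγ
    rw [hKe, mem_range_artinMap] at h1
    rw [hKe', mem_range_artinMap] at h1'
    obtain ⟨s, hs⟩ := h1
    obtain ⟨s', hs'⟩ := h1'
    have e : c + s + a * s * s = γ := by linear_combination hs
    exact ⟨s, s', e ▸ hγ0, by linear_combination hs - hs'⟩
  rcases h with ⟨hq, hc, hc'⟩ | ⟨hc, hc'⟩
  · by_contra hno
    push Not at hno
    have hinj : Function.Injective fun p : K × K' => (p.1 : F) + (p.2 : F) := by
      rintro ⟨x, x'⟩ ⟨y, y'⟩ hxy
      have hd : (x : F) - y = (y' : F) - x' := by linear_combination (hxy : (x : F) + x' = y + y')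
      have h0 : (x : F) - y = 0 := by
        by_contra hne
        exact hno _ hne (K.sub_mem (K.sub_mem x.2 y.2) hc) (hd ▸ K'.sub_mem (K'.sub_mem y'.2 x'.2) hc')
      have h0' : (x' : F) = y' := by linear_combination hd - h0
      exact Prod.ext (Subtype.ext (sub_eq_zero.1 h0)) (Subtype.ext h0')
    have h1 := Nat.card_le_card_of_injective _ hinj
    rw [Nat.card_prod] at h1
    have hF : Nat.card F = Fintype.card F := Nat.card_eq_fintype_card
    have hKK : Nat.card K = Nat.card K' := by omega
    nlinarith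
  · obtain ⟨γ, hγ, hγ'⟩ : ∃ γ, γ ∉ K ∧ γ ∉ K' := by
      by_cases h1 : c ∈ K'
      · by_cases h1' : c' ∈ K
        · exact ⟨c + c', fun h => hc (by simpa using K.sub_mem h h1'), fun h => hc' (by simpa using K'.sub_mem h h1)⟩
        · exact ⟨c', h1', hc'⟩
      · exact ⟨c, hc, h1⟩
    refine ⟨γ, fun h0 => hγ (h0 ▸ K.zero_mem), ?_, ?_⟩
    · exact (show γ - c = γ + c by linear_combination (-c) * h2) ▸ add_mem_of_half hK hγ hc
    · exact (show γ - c' = γ + c' by linear_combination (-c') * h2) ▸ add_mem_of_half hK' hγ' hc'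

/-- The kind of a plane in characteristic two: hyperbolic over a field with eight or more elements, or anisotropic. -/
def PlaneOK (Q : QuadraticForm F V) (N : Submodule F V) : Prop :=
  (8 ≤ Fintype.card F ∧ ∃ x ∈ N, x ≠ 0 ∧ Q x = 0) ∨ ∀ x ∈ N, Q x = 0 → x = 0

omit [Fintype F] in
theorem exists_dual_in {N : Submodule F V} (hN : NdOn Q N) {z : V} (hz : z ∈ N) (hz0 : z ≠ 0) :
    ∃ e ∈ N, QuadraticMap.polar Q z e = 1 := by
  obtain ⟨y, hy, hy0⟩ : ∃ y ∈ N, QuadraticMap.polar Q z y ≠ 0 := by
    by_contra hc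
    push Not at hc
    exact hz0 (hN z hz hc)
  exact ⟨_, N.smul_mem _ hy, by rw [QuadraticMap.polar_smul_right, smul_eq_mul, inv_mul_cancel₀ hy0]⟩

/-- The values on the line of vectors pairing to one with a given vector. -/
theorem dual_line_range (h2 : (2 : F) = 0) {N : Submodule F V} (hd : Module.finrank F N = 2)
    {z e : V} (hz : z ∈ N) (hQz : Q z ≠ 0) (he : e ∈ N) (hze : QuadraticMap.polar Q z e = 1) :
    (∀ s : F, QuadraticMap.polar Q z (e + s • z) = 1 ∧ Q (e + s • z) = Q e + s + Q z * s * s) ∧
      (Q e ∈ (artinMap h2 (Q z)).range ↔ ∃ x ∈ N, x ≠ 0 ∧ Q x = 0) := by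
  have hline : ∀ s : F, QuadraticMap.polar Q z (e + s • z) = 1 ∧ Q (e + s • z) = Q e + s + Q z * s * s := by
    intro s
    refine ⟨?_, ?_⟩
    · rw [QuadraticMap.polar_add_right, QuadraticMap.polar_smul_right, quad_polar_self, hze, h2, zero_mul, smul_zero,
        add_zero]
    · rw [quad_add, quad_smul, QuadraticMap.polar_smul_right, QuadraticMap.polar_comm, hze, smul_eq_mul]
      ring
  refine ⟨hline, fun hmem => ?_, fun ⟨x, hx, hx0, hQx⟩ => ?_⟩
  · rw [mem_range_artinMap] at hmem
    obtain ⟨s, hs⟩ := hmem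
    refine ⟨_, N.add_mem he (N.smul_mem s hz), fun h0 => ?_,
      by rw [(hline s).2]; linear_combination hs + Q e * h2⟩
    have h1 := (hline s).1
    rw [h0, QuadraticMap.polar_zero_right] at h1
    exact zero_ne_one h1
  · have hz0 : z ≠ 0 := fun h => hQz (by rw [h, map_zero])
    have hind : ∀ s : F, s • z ≠ e := fun s hs => by
      rw [← hs, QuadraticMap.polar_smul_right, quad_polar_self, h2, zero_mul, smul_zero] at hze
      exact zero_ne_one hze
    obtain ⟨α, β, rfl⟩ := exists_coords_plane hd hz he hz0 hind hx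
    rw [quad_add, quad_smul, quad_smul, QuadraticMap.polar_smul_left, QuadraticMap.polar_smul_right, hze, smul_eq_mul,
      smul_eq_mul, mul_one] at hQx
    have hβ : β ≠ 0 := fun h => by
      simp only [h, zero_mul, mul_zero, add_zero, mul_eq_zero, hQz, or_self, or_false] at hQx
      exact hx0 (by simp [h, hQx])
    rw [mem_range_artinMap]
    refine ⟨α / β, ?_⟩
    field_simp
    linear_combination hQx - β * β * Q e * h2

/-- A non-singular vector pairing to one with a given vector. -/
theorem exists_dual_aniso (h2 : (2 : F) = 0) {N : Submodule F V} (hN : NdOn Q N)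
    (hok : PlaneOK Q N) {z : V} (hz : z ∈ N) (hz0 : z ≠ 0) :
    ∃ d ∈ N, QuadraticMap.polar Q z d = 1 ∧ Q d ≠ 0 := by
  classical
  obtain ⟨e, he, hze⟩ := exists_dual_in hN hz hz0
  by_cases hQe : Q e = 0
  swap
  · exact ⟨e, he, hze, hQe⟩
  rcases hok with ⟨hq, -⟩ | hno
  · obtain ⟨s, -, hs⟩ := Finset.exists_mem_notMem_of_card_lt_card
      (s := insert (0 : F) {-(Q z)⁻¹}) (t := Finset.univ) (by
        rw [Finset.card_univ]
        exact lt_of_le_of_lt Finset.card_le_two (by omega))
    simp only [Finset.mem_insert, Finset.mem_singleton, not_or] at hs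
    refine ⟨e + s • z, N.add_mem he (N.smul_mem s hz), ?_, ?_⟩
    · rw [QuadraticMap.polar_add_right, QuadraticMap.polar_smul_right, quad_polar_self, hze, h2, zero_mul, smul_zero,
        add_zero]
    · rw [quad_add, quad_smul, QuadraticMap.polar_smul_right, QuadraticMap.polar_comm, hze, hQe, smul_eq_mul, mul_one,
        zero_add]
      intro h
      have h' : s * (Q z * s + 1) = 0 := by linear_combination h
      have h'' : Q z * s + 1 = 0 := (mul_eq_zero.1 h').resolve_left hs.1
      by_cases hQz : Q z = 0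
      · rw [hQz, zero_mul, zero_add] at h''
        exact one_ne_zero h''
      · refine hs.2 ?_
        field_simp
        linear_combination h''
  · rw [hno e he hQe, QuadraticMap.polar_zero_right] at hze
    exact absurd hze zero_ne_one

/-- An additive group invariant under the reflections of a plane is the whole plane. -/
theorem le_of_refl_invariant_two (h2 : (2 : F) = 0) {N : Submodule F V} (hN : NdOn Q N)
    (hd : Module.finrank F N = 2) (hok : PlaneOK Q N) (A : AddSubgroup V) (hAN : ∀ x ∈ A, x ∈ N)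
    (hinv : ∀ n ∈ N, ∀ hn : Q n ≠ 0, ∀ x ∈ A, (qRefl Q hn).1 x ∈ A) {d : V} (hdA : d ∈ A) (hd0 : d ≠ 0) :
    ∀ x ∈ N, x ∈ A := by
  classical
  obtain ⟨R, hR⟩ : ∃ R : Subring F, ∀ r, r ∈ R ↔ ∀ x ∈ A, r • x ∈ A :=
    ⟨{ carrier := {r | ∀ x ∈ A, r • x ∈ A}
       mul_mem' := fun {r s} hr hs x hx => by rw [← smul_smul]; exact hr _ (hs x hx)
       one_mem' := fun x hx => by rwa [one_smul]
       add_mem' := fun {r s} hr hs x hx => by rw [add_smul]; exact A.add_mem (hr x hx) (hs x hx)
       zero_mem' := fun x _ => by rw [zero_smul]; exact A.zero_mem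
       neg_mem' := fun {r} hr x hx => by rw [neg_smul]; exact A.neg_mem (hr x hx) }, fun r => Iff.rfl⟩
  obtain ⟨a, ha, hQa⟩ := exists_aniso_in Q hN (fun h0 => by rw [h0, finrank_bot] at hd; omega)
  have ha0 : a ≠ 0 := fun h => hQa (by rw [h, map_zero])
  obtain ⟨e, he, hae⟩ := exists_dual_in hN ha ha0
  obtain ⟨hline, hrange⟩ := dual_line_range h2 hd ha hQa he hae
  have hkind : (8 ≤ Fintype.card F ∧ Q e ∈ (artinMap h2 (Q a)).range) ∨ Q e ∉ (artinMap h2 (Q a)).range := by
    rcases hok with ⟨hq, hx⟩ | hno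
    · exact Or.inl ⟨hq, hrange.2 hx⟩
    · exact Or.inr fun h => by
        obtain ⟨x, hx, hx0, hQx⟩ := hrange.1 h
        exact hx0 (hno x hx hQx)
  have haa : QuadraticMap.polar Q a a = 0 := by rw [quad_polar_self, h2, zero_mul]
  have htrace : ∀ s : F, Q (e + s • a) ≠ 0 → (Q a * Q (e + s • a))⁻¹ ∈ R := by
    intro s hs
    rw [hR]
    intro x hx
    obtain ⟨b, hb⟩ : ∃ b, b = e + s • a := ⟨_, rfl⟩
    rw [← hb] at hs ⊢
    have hab : QuadraticMap.polar Q a b = 1 := hb ▸ (hline s).1
    have hba : QuadraticMap.polar Q b a = 1 := (QuadraticMap.polar_comm Q b a).trans hab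
    have hbN : b ∈ N := hb ▸ N.add_mem he (N.smul_mem s ha)
    have hind : ∀ r : F, r • a ≠ b := fun r hr => by
      rw [← hr, QuadraticMap.polar_smul_right, haa, smul_zero] at hab
      exact zero_ne_one hab
    have hbb : QuadraticMap.polar Q b b = 0 := by rw [quad_polar_self, h2, zero_mul]
    obtain ⟨p, q, rfl⟩ := exists_coords_plane hd ha hbN ha0 hind (hAN x hx)
    have h1 := A.add_mem (hinv a ha hQa _ (hinv b hbN hs _ hx)) (hinv b hbN hs _ (hinv a ha hQa _ hx))
    convert h1 using 1
    simp only [qRefl_apply, map_add, map_smul, QuadraticMap.polar_add_left, QuadraticMap.polar_smul_left,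
      QuadraticMap.polar_sub_left, haa, hbb, hab, hba, smul_eq_mul]
    match_scalars <;> field_simp
    · linear_combination (-(p * Q a * Q b - q * Q b)) * h2
    · linear_combination (-(q * Q a * Q b - p * Q a)) * h2
  -- the scalars fill more than half of the field
  obtain ⟨K, hKe⟩ : ∃ K, K = (artinMap h2 (Q a)).range := ⟨_, rfl⟩
  have hK := hKe ▸ card_range_artinMap h2 hQa
  have hinj : ∀ k ∈ K, k ≠ Q e → (Q a * (Q e + k))⁻¹ ∈ R ∧ (Q a * (Q e + k))⁻¹ ≠ 0 := by
    intro k hk hne
    rw [hKe, mem_range_artinMap] at hk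
    obtain ⟨s, rfl⟩ := hk
    have hs : Q (e + s • a) = Q e + (s + Q a * s * s) := by rw [(hline s).2]; ring
    have hs0 : Q (e + s • a) ≠ 0 := by
      rw [hs]
      intro h0
      exact hne (by linear_combination h0 - Q e * h2)
    exact ⟨hs ▸ htrace s hs0, inv_ne_zero (mul_ne_zero hQa (hs ▸ hs0))⟩
  have htop : ∀ r : F, r ∈ R := by
    by_contra hc
    push Not at hc
    obtain ⟨x, hx⟩ := hc
    have hRlt : Nat.card R.toAddSubgroup * 2 ≤ Nat.card F := by
      have hdvd := AddSubgroup.card_addSubgroup_dvd_card R.toAddSubgroup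
      obtain ⟨m, hm⟩ := hdvd
      rw [hm]
      refine Nat.mul_le_mul_left _ (Nat.two_le_iff m |>.2 ⟨?_, ?_⟩)
      · rintro rfl
        simp at hm
      · rintro rfl
        rw [mul_one] at hm
        have := AddSubgroup.eq_top_of_card_eq R.toAddSubgroup hm.symm
        exact hx (show x ∈ R.toAddSubgroup by rw [this]; trivial)
    have hge : Nat.card K ≤ Nat.card R.toAddSubgroup := by
      refine Nat.card_le_card_of_injective
        (fun k : K => if h : (k : F) = Q e then (⟨0, R.zero_mem⟩ : R.toAddSubgroup)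
          else ⟨(Q a * (Q e + k))⁻¹, (hinj k k.2 h).1⟩) ?_
      intro k l hkl
      have hv := congrArg Subtype.val hkl
      by_cases hk : (k : F) = Q e <;> by_cases hl : (l : F) = Q e <;> simp only [hk, hl, dite_true, dite_false] at hv
      · exact Subtype.ext (hk.trans hl.symm)
      · exact absurd hv.symm (hinj l l.2 hl).2
      · exact absurd hv (hinj k k.2 hk).2
      · exact Subtype.ext (add_left_cancel (mul_left_cancel₀ hQa (inv_injective hv)))
    rcases hkind with ⟨hq, -⟩ | hno
    · have hdec : Function.Injective fun p : R × R => (p.1 : F) + x * p.2 := by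
        rintro ⟨r, r'⟩ ⟨u, u'⟩ hru
        have he' : x * ((r' : F) - u') = u - r := by linear_combination (hru : (r : F) + x * r' = u + x * u')
        have h0 : (r' : F) - u' = 0 := by
          by_contra hne
          refine hx ?_
          have hinvR : ((r' : F) - u')⁻¹ ∈ R := by
            have hq2 : 2 ≤ Fintype.card F := Fintype.one_lt_card
            rw [inv_eq_of_mul_eq_one_right (b := ((r' : F) - u') ^ (Fintype.card F - 2))]
            · exact R.pow_mem (R.sub_mem r'.2 u'.2) _
            · rw [← pow_succ', show Fintype.card F - 2 + 1 = Fintype.card F - 1 by omega,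
                FiniteField.pow_card_sub_one_eq_one _ hne]
          have := R.mul_mem (R.sub_mem u.2 r.2) hinvR
          rwa [← he', mul_assoc, mul_inv_cancel₀ hne, mul_one] at this
        refine Prod.ext (Subtype.ext ?_) (Subtype.ext (sub_eq_zero.1 h0))
        rw [h0, mul_zero] at he'
        exact (sub_eq_zero.1 he'.symm).symm
      have h1 := Nat.card_le_card_of_injective _ hdec
      rw [Nat.card_prod] at h1
      have hF : Nat.card F = Fintype.card F := Nat.card_eq_fintype_card
      have e : Nat.card R = Nat.card R.toAddSubgroup := rfl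
      nlinarith
    · rw [← hKe] at hno
      have hgt : Nat.card K + 1 ≤ Nat.card R.toAddSubgroup := by
        have hKne : ∀ k : K, (k : F) ≠ Q e := fun k h => hno (h ▸ k.2)
        refine le_trans (le_of_eq (by rw [Nat.card_eq_fintype_card, Nat.card_eq_fintype_card, Fintype.card_option]))
          (Nat.card_le_card_of_injective
            (fun k : Option K => k.elim (⟨0, R.zero_mem⟩ : R.toAddSubgroup)
              (fun k => ⟨(Q a * (Q e + k))⁻¹, (hinj k k.2 (hKne k)).1⟩)) ?_)
        rintro (_ | k) (_ | l) hkl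
        · rfl
        · exact absurd (congrArg Subtype.val hkl).symm (hinj l l.2 (hKne l)).2
        · exact absurd (congrArg Subtype.val hkl) (hinj k k.2 (hKne k)).2
        · exact congrArg some (Subtype.ext (add_left_cancel (mul_left_cancel₀ hQa
            (inv_injective (congrArg Subtype.val hkl)))))
      omega
  -- a line and a vector off it
  obtain ⟨m, hm, hdm, hQm⟩ := exists_dual_aniso h2 hN hok (hAN d hdA) hd0
  have hmA : m ∈ A := by
    have h1 := A.sub_mem hdA (hinv m hm hQm d hdA)
    rw [qRefl_apply, sub_sub_cancel, hdm, mul_one] at h1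
    have h3 := (hR (Q m)).1 (htop _) _ h1
    rwa [smul_smul, mul_inv_cancel₀ hQm, one_smul] at h3
  intro x hxN
  obtain ⟨p, q, rfl⟩ := exists_coords_plane hd (hAN d hdA) hm hd0 (fun s hs => by
    rw [← hs, QuadraticMap.polar_smul_right, quad_polar_self, h2, zero_mul, smul_zero] at hdm
    exact zero_ne_one hdm) hxN
  exact A.add_mem ((hR p).1 (htop p) _ hdA) ((hR q).1 (htop q) _ hmA)

end CfsgLib.Classical22.OrthDecomp
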