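/-
A short Eichler transformation gives the whole Eichler group: planes in characteristic two.
-/
import Cfsg.Agent.Lib.Classical22.OrthDecompTwoField

set_option autoImplicit false

namespace CfsgLib.Classical22.OrthDecomp

open CfsgLib.Classical

variable {F V : Type*} [Field F] [AddCommGroup V] [Module F V] {Q : QuadraticForm F V}
variable {t : ℕ} {D : Fin t → Submodule F V} [FiniteDimensional F V] [Fintype F]

theorem exists_scale_two (hD : Data Q D 2) (hQ : PolarNondeg Q) (hn : 5 ≤ Module.finrank F V) (h2 : (2 : F) = 0)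
    (hq : 3 ≤ Fintype.card F) {j : Fin t} {u : V} (hu : u ∈ D j) (hu0 : u ≠ 0) (hQu : Q u = 0) :
    ∃ (c : F) (h : qAut Q), c ≠ 1 ∧ h ∈ dStab Q D ⊓ eichGroup Q ∧ h.1 u = c • u ∧
      ∀ b ∈ qPerp Q (D j), h.1 b = b := by
  classical
  obtain ⟨s, -, hs⟩ := Finset.exists_mem_notMem_of_card_lt_card
    (s := ({0, 1} : Finset F)) (t := Finset.univ) (by
      rw [Finset.card_univ]
      exact lt_of_le_of_lt Finset.card_le_two (by omega))
  simp only [Finset.mem_insert, Finset.mem_singleton, not_or] at hs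
  obtain ⟨z, hz, hQz, huz⟩ := exists_partner Q (hD.nd j) hu hu0 hQu
  have hzu : QuadraticMap.polar Q z u = 1 := by rw [QuadraticMap.polar_comm, huz]
  obtain ⟨a, ha⟩ : ∃ a, a = s • u + s⁻¹ • z := ⟨_, rfl⟩
  have hQa : Q a = 1 := by
    rw [ha, quad_add, quad_smul, quad_smul, hQu, hQz, QuadraticMap.polar_smul_left,
      QuadraticMap.polar_smul_right, huz, smul_eq_mul, smul_eq_mul, mul_one, mul_inv_cancel₀ hs.1]
    ring
  have hQb : Q (u + z) = 1 := by rw [quad_add, hQu, hQz, huz]; ring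
  have hQa0 : Q a ≠ 0 := hQa ▸ one_ne_zero
  have hQb0 : Q (u + z) ≠ 0 := hQb ▸ one_ne_zero
  have haj : a ∈ D j := ha ▸ (D j).add_mem ((D j).smul_mem _ hu) ((D j).smul_mem _ hz)
  have hbj : u + z ∈ D j := (D j).add_mem hu hz
  refine ⟨s * s, qRefl Q hQa0 * qRefl Q hQb0, ?_, ⟨mul_mem (hD.qRefl_mem_dStab hQ haj hQa0)
    (hD.qRefl_mem_dStab hQ hbj hQb0), qRefl_mul_mem hQ hn hQb0 hQa0 (hQb.trans hQa.symm)⟩, ?_, fun b hb => ?_⟩
  · intro h1
    rcases mul_self_eq_one_iff.1 h1 with h | h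
    · exact hs.2 h
    · exact hs.2 (h.trans (neg_eq_self_two h2 1))
  · rw [qAut_mul_apply, qRefl_apply Q hQb0, hQb, QuadraticMap.polar_add_right, quad_polar_self, hQu, huz,
      inv_one, one_mul, mul_zero, zero_add, one_smul, show u - (u + z) = -z by abel, map_neg, qRefl_apply, hQa,
      ha, QuadraticMap.polar_add_right, QuadraticMap.polar_smul_right, QuadraticMap.polar_smul_right,
      quad_polar_self, hQz, hzu, inv_one, one_mul, mul_zero, smul_zero, add_zero, smul_eq_mul, mul_one,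
      smul_add, smul_smul, smul_smul, mul_inv_cancel₀ hs.1, one_smul]
    abel
  · rw [qAut_mul_apply, qRefl_fix Q hQb0 ((QuadraticMap.polar_comm Q b _).trans (hD.polar_eq_zero hbj hb)),
      qRefl_fix Q hQa0 ((QuadraticMap.polar_comm Q b a).trans (hD.polar_eq_zero haj hb))]

/-- A transformation inside one member moving a given vector of it. -/
theorem exists_move_two (hD : Data Q D 2) (hQ : PolarNondeg Q) (hn : 5 ≤ Module.finrank F V) (h2 : (2 : F) = 0)
    {j : Fin t} (hok : PlaneOK Q (D j)) {y : V} (hy : y ∈ D j) (hy0 : y ≠ 0) :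
    ∃ r ∈ dStab Q D ⊓ eichGroup Q, r.1 y ∈ D j ∧ r.1 y ≠ y ∧ ∀ b ∈ qPerp Q (D j), r.1 b = b := by
  by_cases hQy : Q y = 0
  · rcases hok with ⟨hq, -⟩ | hno
    · obtain ⟨c, h, hc, hh, hhy, hhb⟩ := exists_scale_two hD hQ hn h2 (by omega) hy hy0 hQy
      refine ⟨h, hh, hhy ▸ (D j).smul_mem c hy, fun h0 => hc ?_, hhb⟩
      rw [hhy] at h0
      exact smul_left_injective F hy0 (h0.trans (one_smul F y).symm)
    · exact absurd (hno y hy hQy) hy0
  obtain ⟨n, hn', hyn, hQn⟩ := exists_dual_aniso h2 (hD.nd j) hok hy hy0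
  refine ⟨qRefl Q hQn * qRefl Q hQy, ⟨mul_mem (hD.qRefl_mem_dStab hQ hn' hQn) (hD.qRefl_mem_dStab hQ hy hQy),
    qRefl_sq_mem hQ hn hQy hQn (isSquare_of_two h2 _)⟩, ?_, ?_, fun b hb => ?_⟩
  · rw [qAut_mul_apply, qRefl_self, map_neg, qRefl_apply]
    exact (D j).neg_mem ((D j).sub_mem hy ((D j).smul_mem _ hn'))
  · rw [qAut_mul_apply, qRefl_self, map_neg, qRefl_apply, hyn, mul_one]
    intro h0
    have h1 : (Q n)⁻¹ • n = 0 := by
      linear_combination (norm := module) h0 + h2 • y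
    exact hQn (by rw [(smul_eq_zero.1 h1).resolve_left (inv_ne_zero hQn), map_zero])
  · rw [qAut_mul_apply, qRefl_fix Q hQy ((QuadraticMap.polar_comm Q b y).trans (hD.polar_eq_zero hy hb)),
      qRefl_fix Q hQn ((QuadraticMap.polar_comm Q b n).trans (hD.polar_eq_zero hn' hb))]

/-- A short transformation gives the whole Eichler group. -/
theorem eichGroup_le_of_short_two (hD : Data Q D 2) (hQ : PolarNondeg Q) (hn : 5 ≤ Module.finrank F V)
    (h2 : (2 : F) = 0) (hok : ∀ l, PlaneOK Q (D l)) (ht : 5 ≤ t) {M : Subgroup (qAut Q)}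
    (hHM : dStab Q D ⊓ eichGroup Q ≤ M) (hshort : Short Q D M) : eichGroup Q ≤ M := by
  classical
  obtain ⟨C, X, Y, hC, hX0, hQX, hXY, hXC, hmem, j, hjC, hYj⟩ := hshort
  have hdim : ∀ i, 2 ≤ Module.finrank F (D i) := fun i => (hD.dim i).ge
  have hXD : ∀ i, i ∉ C → ∀ x ∈ D i, QuadraticMap.polar Q X x = 0 := fun i hi x hx =>
    (QuadraticMap.polar_comm Q X x).trans (hD.polar_eq_zero hx (hXC i hi))
  obtain ⟨T, hT⟩ : ∃ T : AddSubgroup V, ∀ x, x ∈ T ↔ QuadraticMap.polar Q X x = 0 ∧ eich Q X x ∈ M := by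
    refine ⟨{ carrier := {x | QuadraticMap.polar Q X x = 0 ∧ eich Q X x ∈ M}
              add_mem' := fun {p q} hp hq => ⟨by rw [QuadraticMap.polar_add_right, hp.1, hq.1, add_zero], by
                rw [← eich_mul Q hQX hp.1 hq.1]
                exact mul_mem hp.2 hq.2⟩
              zero_mem' := ⟨QuadraticMap.polar_zero_right Q X, by rw [eich_zero Q hQX]; exact one_mem M⟩
              neg_mem' := fun {p} hp => ⟨by rw [QuadraticMap.polar_neg_right, hp.1, neg_zero], by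
                rw [← eich_inv Q hQX hp.1]
                exact inv_mem hp.2⟩ }, fun x => Iff.rfl⟩
  have hTconj : ∀ g ∈ dStab Q D ⊓ eichGroup Q, g.1 X = X → ∀ x ∈ T, g.1 x ∈ T := by
    intro g hg hgX x hx
    rw [hT] at hx ⊢
    have h1 := mul_mem (mul_mem (hHM hg) hx.2) (inv_mem (hHM hg))
    rw [eich_conj Q g hQX hx.1, hgX] at h1
    have e := qAut_polar g X x
    rw [hgX, hx.1] at e
    exact ⟨e, h1⟩
  -- a vector of the member `j`
  obtain ⟨yj, hyj, Y', hY', rfl⟩ := exists_add_qPerp Q hQ (hD.nd j) Y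
  have hyj0 : yj ≠ 0 := by
    rintro rfl
    rw [zero_add] at hYj
    exact hYj hY'
  obtain ⟨r, hrH, hrj, hmove, hrfix⟩ := exists_move_two hD hQ hn h2 (hok j) hyj hyj0
  obtain ⟨d, hd⟩ : ∃ d, d = r.1 yj - yj := ⟨_, rfl⟩
  have hdj : d ∈ D j := hd ▸ (D j).sub_mem hrj hyj
  have hd0 : d ≠ 0 := fun h => hmove (by rw [hd, sub_eq_zero] at h; exact h)
  have hdT : d ∈ T := by
    have h1 := hTconj r hrH (hrfix X (hXC j hjC)) _ ((hT _).2 ⟨hXY, hmem⟩)
    have h2' := T.sub_mem h1 ((hT _).2 ⟨hXY, hmem⟩)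
    rw [map_add, hrfix Y' hY', add_sub_add_right_eq_sub, ← hd] at h2'
    exact h2'
  obtain ⟨f, hf⟩ := exists_notMem_fin (s := insert j C) (by
    have := Finset.card_insert_le j C
    omega)
  rw [Finset.mem_insert, not_or] at hf
  obtain ⟨Tj, hTj⟩ : ∃ Tj : AddSubgroup V, ∀ x, x ∈ Tj ↔ x ∈ D j ∧ x ∈ T :=
    ⟨(D j).toAddSubgroup ⊓ T, fun x => Iff.rfl⟩
  have hjT : ∀ x ∈ D j, x ∈ T := by
    refine fun x hx => ((hTj x).1 (le_of_refl_invariant_two h2 (hD.nd j) (hD.dim j) (hok j) Tj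
      (fun y hy => ((hTj y).1 hy).1) ?_ ((hTj d).2 ⟨hdj, hdT⟩) hd0 x hx)).2
    intro m hm hQm y hy
    rw [hTj] at hy ⊢
    obtain ⟨g, hg, hgb⟩ := hD.exists_comp hQ hn (hD.nd f) (hdim f) le_rfl (hD.qRefl_mem_dStab hQ hm hQm)
    have hgy : g.1 y = (qRefl Q hQm).1 y := hgb y (hD.perp_le hf.1 hy.1)
    refine ⟨by rw [qRefl_apply]; exact (D j).sub_mem hy.1 ((D j).smul_mem _ hm), hgy ▸ hTconj g hg ?_ y hy.2⟩
    rw [hgb X (hXC f hf.2), qRefl_fix Q hQm (hXD j hjC m hm)]
  have hRT : ∀ i, i ∉ C → ∀ x ∈ D i, x ∈ T := by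
    intro i hi x hx
    rcases eq_or_ne i j with rfl | hij
    · exact hjT x hx
    obtain ⟨g, hg, hmap, hgfix⟩ := exists_swap_into hD hQ hn le_rfl (Ne.symm hij)
    rw [← hmap] at hx
    obtain ⟨y, hy, rfl⟩ := hx
    refine hTconj g hg ?_ y (hjT y hy)
    exact hD.mem_of_parts hQ C (P := LinearMap.eqLocus g.1.toLinearMap LinearMap.id)
      (fun l hl z hz => hgfix l (fun h => hjC (h ▸ hl)) (fun h => hi (h ▸ hl)) z hz) hXC
  -- two members away from the centre
  obtain ⟨a₀, ha₀⟩ := exists_notMem_fin (s := C) (by omega)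
  obtain ⟨b₀, hb₀⟩ := exists_notMem_fin (s := insert a₀ C) (by
    have := Finset.card_insert_le a₀ C
    omega)
  rw [Finset.mem_insert, not_or] at hb₀
  obtain ⟨ι, hι, hιX⟩ : ∃ ι ∈ C, X ∉ qPerp Q (D ι) := by
    by_contra hc
    push Not at hc
    exact hX0 (hD.eq_zero_of_perp_all hQ fun i => if hi : i ∈ C then hc i hi else hXC i hi)
  -- singular points of the two members
  have hTu : ∀ u ∈ D a₀ ⊔ D b₀, Q u = 0 → ∀ i, i ≠ a₀ → i ≠ b₀ → ∀ x ∈ D i,
      QuadraticMap.polar Q u x = 0 ∧ eich Q u x ∈ M := by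
    intro u hu hQu
    obtain ⟨ua, hua, ub, hub, rfl⟩ := Submodule.mem_sup.1 hu
    have hperp : ∀ i, i ≠ a₀ → i ≠ b₀ → ∀ x ∈ D i, QuadraticMap.polar Q (ua + ub) x = 0 := fun i hia hib x hx => by
      rw [QuadraticMap.polar_add_left, hD.orth a₀ i hia.symm ua hua x hx, hD.orth b₀ i hib.symm ub hub x hx,
        add_zero]
    obtain ⟨S, hS⟩ : ∃ S : AddSubgroup V, ∀ x, x ∈ S ↔
        QuadraticMap.polar Q (ua + ub) x = 0 ∧ eich Q (ua + ub) x ∈ M := by
      refine ⟨{ carrier := {x | QuadraticMap.polar Q (ua + ub) x = 0 ∧ eich Q (ua + ub) x ∈ M}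
                add_mem' := fun {p q} hp hq => ⟨by rw [QuadraticMap.polar_add_right, hp.1, hq.1, add_zero], by
                  rw [← eich_mul Q hQu hp.1 hq.1]
                  exact mul_mem hp.2 hq.2⟩
                zero_mem' := ⟨QuadraticMap.polar_zero_right Q _, by rw [eich_zero Q hQu]; exact one_mem M⟩
                neg_mem' := fun {p} hp => ⟨by rw [QuadraticMap.polar_neg_right, hp.1, neg_zero], by
                  rw [← eich_inv Q hQu hp.1]
                  exact inv_mem hp.2⟩ }, fun x => Iff.rfl⟩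
    have hSconj : ∀ g ∈ dStab Q D ⊓ eichGroup Q, g.1 (ua + ub) = ua + ub → ∀ x ∈ S, g.1 x ∈ S := by
      intro g hg hgu x hx
      rw [hS] at hx ⊢
      have h1 := mul_mem (mul_mem (hHM hg) hx.2) (inv_mem (hHM hg))
      rw [eich_conj Q g hQu hx.1, hgu] at h1
      have e := qAut_polar g (ua + ub) x
      rw [hgu, hx.1] at e
      exact ⟨e, h1⟩
    have hXS : X ∈ S := by
      have hcu : ua + ub ∈ T := T.add_mem (hRT a₀ ha₀ _ hua) (hRT b₀ hb₀.2 _ hub)
      rw [hT] at hcu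
      have huX : QuadraticMap.polar Q (ua + ub) X = 0 := by
        rw [QuadraticMap.polar_comm, QuadraticMap.polar_add_right, hXD a₀ ha₀ ua hua, hXD b₀ hb₀.2 ub hub, add_zero]
      have h := hcu.2
      rw [eich_antisymm hQX hQu hcu.1] at h
      simpa using S.neg_mem ((hS (-X)).2 ⟨by rw [QuadraticMap.polar_neg_right, huX, neg_zero], h⟩)
    obtain ⟨f', hf'⟩ := exists_notMem_fin (s := insert b₀ (insert a₀ C)) (by
      have h1 := Finset.card_insert_le a₀ C
      have h3 := Finset.card_insert_le b₀ (insert a₀ C)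
      omega)
    simp only [Finset.mem_insert, not_or] at hf'
    have hιa : ι ≠ a₀ := fun h => ha₀ (h ▸ hι)
    have hιb : ι ≠ b₀ := fun h => hb₀.2 (h ▸ hι)
    have hιf : ι ≠ f' := fun h => hf'.2.2 (h ▸ hι)
    have hufix : ∀ m ∈ D ι, ∀ hm : Q m ≠ 0, (qRefl Q hm).1 (ua + ub) = ua + ub := fun m hm' hm =>
      qRefl_fix Q hm (hperp ι hιa hιb m hm')
    have huperp : ua + ub ∈ qPerp Q (D f') :=
      (qPerp Q (D f')).add_mem (hD.perp_le hf'.2.1 hua) (hD.perp_le hf'.1 hub)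
    have hιS : ∀ x ∈ D ι, x ∈ S := by
      obtain ⟨xι, hxι, X', hX', hXsum⟩ := exists_add_qPerp Q hQ (hD.nd ι) X
      have hxι0 : xι ≠ 0 := by
        rintro rfl
        rw [zero_add] at hXsum
        exact hιX (hXsum ▸ hX')
      obtain ⟨m, hm, hxm, hQm⟩ := exists_dual_aniso h2 (hD.nd ι) (hok ι) hxι hxι0
      obtain ⟨g, hg, hgb⟩ := hD.exists_comp hQ hn (hD.nd f') (hdim f') le_rfl (hD.qRefl_mem_dStab hQ hm hQm)
      have h1 := S.sub_mem hXS (hSconj g hg ((hgb _ huperp).trans (hufix m hm hQm)) _ hXS)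
      rw [hgb X (hXC f' hf'.2.2), qRefl_apply, sub_sub_cancel] at h1
      have hXm : QuadraticMap.polar Q X m = 1 := by
        rw [← hXsum, QuadraticMap.polar_add_left, QuadraticMap.polar_comm Q X' m, hD.polar_eq_zero hm hX', add_zero,
          hxm]
      rw [hXm, mul_one] at h1
      have hnz : (Q m)⁻¹ • m ≠ 0 := smul_ne_zero (inv_ne_zero hQm) fun h => hQm (by rw [h, map_zero])
      obtain ⟨Sι, hSι⟩ : ∃ Sι : AddSubgroup V, ∀ x, x ∈ Sι ↔ x ∈ D ι ∧ x ∈ S :=
        ⟨(D ι).toAddSubgroup ⊓ S, fun x => Iff.rfl⟩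
      refine fun x hx => ((hSι x).1 (le_of_refl_invariant_two h2 (hD.nd ι) (hD.dim ι) (hok ι) Sι
        (fun y hy => ((hSι y).1 hy).1) ?_ ((hSι _).2 ⟨(D ι).smul_mem _ hm, h1⟩) hnz x hx)).2
      intro m' hm' hQm' y hy
      rw [hSι] at hy ⊢
      obtain ⟨g', hg', hgb'⟩ := hD.exists_comp hQ hn (hD.nd f') (hdim f') le_rfl (hD.qRefl_mem_dStab hQ hm' hQm')
      refine ⟨by rw [qRefl_apply]; exact (D ι).sub_mem hy.1 ((D ι).smul_mem _ hm'), ?_⟩
      rw [← hgb' y (hD.perp_le hιf.symm hy.1)]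
      exact hSconj g' hg' ((hgb' _ huperp).trans (hufix m' hm' hQm')) y hy.2
    intro i hia hib x hx
    refine ⟨hperp i hia hib x hx, ?_⟩
    rcases eq_or_ne i ι with rfl | hiι
    · exact ((hS x).1 (hιS x hx)).2
    obtain ⟨g, hg, hmap, hgfix⟩ := exists_swap_into hD hQ hn le_rfl (Ne.symm hiι)
    rw [← hmap] at hx
    obtain ⟨y, hy, rfl⟩ := hx
    refine ((hS _).1 (hSconj g hg ?_ y (hιS y hy))).2
    rw [map_add, hgfix a₀ hιa.symm hia.symm ua hua, hgfix b₀ hιb.symm hib.symm ub hub]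
  -- a third member
  obtain ⟨c₀, hc₀a, hc₀b⟩ : ∃ c, c ≠ a₀ ∧ c ≠ b₀ := ⟨ι, fun h => ha₀ (h ▸ hι), fun h => hb₀.2 (h ▸ hι)⟩
  obtain ⟨z, hzD, hz0⟩ : ∃ z ∈ D c₀, z ≠ 0 := (Submodule.ne_bot_iff _).1 fun h0 => by
    have := hdim c₀
    rw [h0, finrank_bot] at this
    omega
  obtain ⟨z', hz'D, hzz'⟩ := exists_dual_in (hD.nd c₀) hzD hz0
  have hinside : ∀ u ∈ D a₀ ⊔ D b₀, Q u = 0 → ∀ v ∈ D a₀ ⊔ D b₀, Q v = 0 → QuadraticMap.polar Q u v = 0 →
      ∀ c : F, eich Q u (c • v) ∈ M := by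
    intro u hu hQu v hv hQv huv c
    have hQcv : Q (c • v) = 0 := by rw [quad_smul, hQv, mul_zero]
    obtain ⟨huz, hmz⟩ := hTu u hu hQu c₀ hc₀a hc₀b z hzD
    obtain ⟨hvz, -⟩ := hTu (c • v) ((D a₀ ⊔ D b₀).smul_mem c hv) hQcv c₀ hc₀a hc₀b z hzD
    obtain ⟨hvy, hmy⟩ := hTu (c • v) ((D a₀ ⊔ D b₀).smul_mem c hv) hQcv c₀ hc₀a hc₀b z' hz'D
    obtain ⟨huy, -⟩ := hTu u hu hQu c₀ hc₀a hc₀b z' hz'D
    have hucv : QuadraticMap.polar Q u (c • v) = 0 := by rw [QuadraticMap.polar_smul_right, huv, smul_zero]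
    have hfix : (eich Q (c • v) z').1 u = u := by
      rw [eich_apply Q hQcv hvy, hucv, huy]
      simp
    have himg : (eich Q (c • v) z').1 z = z + -(c • v) := by
      rw [eich_apply Q hQcv hvy, QuadraticMap.polar_comm Q z (c • v), hvz, hzz']
      simp [sub_eq_add_neg]
    have h1 := mul_mem (mul_mem hmy hmz) (inv_mem hmy)
    have huv2 : QuadraticMap.polar Q u (-(c • v)) = 0 := by rw [QuadraticMap.polar_neg_right, hucv, neg_zero]
    rw [eich_conj Q _ hQu huz, hfix, himg, ← eich_mul Q hQu huz huv2, Subgroup.mul_mem_cancel_left M hmz] at h1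
    rw [← eich_inv Q hQu hucv] at h1
    simpa using inv_mem h1
  -- the graph of an isometry between the two members
  obtain ⟨a, haD, hQa⟩ := exists_aniso_in Q (hD.nd a₀) (fun h0 => by
    have := hdim a₀
    rw [h0, finrank_bot] at this
    omega)
  have ha0 : a ≠ 0 := fun h => hQa (by rw [h, map_zero])
  obtain ⟨a', ha'D, haa'⟩ := exists_dual_in (hD.nd a₀) haD ha0
  obtain ⟨φ, hφ⟩ := hD.isom a₀ b₀
  obtain ⟨G, hG⟩ : ∃ G : D a₀ →ₗ[F] V, ∀ x, G x = (φ x : V) :=
    ⟨(D b₀).subtype ∘ₗ φ.toLinearMap, fun x => rfl⟩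
  obtain ⟨b, hb⟩ : ∃ b, b = G ⟨a, haD⟩ := ⟨_, rfl⟩
  obtain ⟨b', hb'⟩ : ∃ b', b' = G ⟨a', ha'D⟩ := ⟨_, rfl⟩
  have hbD : b ∈ D b₀ := by rw [hb, hG]; exact (φ _).2
  have hb'D : b' ∈ D b₀ := by rw [hb', hG]; exact (φ _).2
  have hQb : Q b = Q a := by rw [hb, hG, hφ]
  have hQb' : Q b' = Q a' := by rw [hb', hG, hφ]
  have hbb' : QuadraticMap.polar Q b b' = 1 := by
    rw [← haa', hb, hb']
    simp only [QuadraticMap.polar, hG]
    rw [← Submodule.coe_add, ← map_add, hφ, hφ, hφ]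
    rfl
  have hab : ∀ x ∈ D a₀, ∀ y ∈ D b₀, QuadraticMap.polar Q x y = 0 := fun x hx y hy =>
    hD.orth a₀ b₀ (Ne.symm hb₀.1) x hx y hy
  have hself : ∀ x : V, QuadraticMap.polar Q x x = 0 := fun x => by rw [quad_polar_self, h2, zero_mul]
  obtain ⟨u, hu⟩ : ∃ u, u = a + b := ⟨_, rfl⟩
  obtain ⟨v₁, hv₁⟩ : ∃ v, v = a' + b' := ⟨_, rfl⟩
  obtain ⟨v₂, hv₂⟩ : ∃ v, v = a' + (b' + (Q a)⁻¹ • b) := ⟨_, rfl⟩
  have huU : u ∈ D a₀ ⊔ D b₀ := hu ▸ Submodule.add_mem_sup haD hbD
  have hv₁U : v₁ ∈ D a₀ ⊔ D b₀ := hv₁ ▸ Submodule.add_mem_sup ha'D hb'D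
  have hv₂U : v₂ ∈ D a₀ ⊔ D b₀ :=
    hv₂ ▸ Submodule.add_mem_sup ha'D ((D b₀).add_mem hb'D ((D b₀).smul_mem _ hbD))
  have hQu : Q u = 0 := by
    rw [hu, quad_add, hQb, hab a haD b hbD]
    linear_combination Q a * h2
  have hQv₁ : Q v₁ = 0 := by
    rw [hv₁, quad_add, hQb', hab a' ha'D b' hb'D]
    linear_combination Q a' * h2
  have hQv₂ : Q v₂ = 0 := by
    rw [hv₂, quad_add, quad_add, hQb', quad_smul, hQb, QuadraticMap.polar_smul_right,
      QuadraticMap.polar_comm Q b' b, hbb', QuadraticMap.polar_add_right, hab a' ha'D b' hb'D,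
      QuadraticMap.polar_smul_right, hab a' ha'D b hbD]
    simp only [smul_eq_mul, mul_zero, mul_one, add_zero]
    field_simp
    linear_combination (Q a * Q a' + 1) * h2
  have huv₁ : QuadraticMap.polar Q u v₁ = 0 := by
    rw [hu, hv₁, QuadraticMap.polar_add_left, QuadraticMap.polar_add_right, QuadraticMap.polar_add_right, haa', hbb',
      hab a haD b' hb'D, QuadraticMap.polar_comm Q b a', hab a' ha'D b hbD]
    linear_combination h2
  have huv₂ : QuadraticMap.polar Q u v₂ = 0 := by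
    rw [hu, hv₂, QuadraticMap.polar_add_left, QuadraticMap.polar_add_right, QuadraticMap.polar_add_right,
      QuadraticMap.polar_add_right, QuadraticMap.polar_add_right, haa', hbb', hab a haD b' hb'D,
      QuadraticMap.polar_smul_right, QuadraticMap.polar_smul_right, hself b, hab a haD b hbD,
      QuadraticMap.polar_comm Q b a', hab a' ha'D b hbD]
    simp only [smul_eq_mul, mul_zero, add_zero, zero_add]
    linear_combination h2
  have hinda : ∀ s : F, s • a ≠ a' := fun s hs => by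
    rw [← hs, QuadraticMap.polar_smul_right, hself, smul_zero] at haa'
    exact zero_ne_one haa'
  have hindb : ∀ s : F, s • b ≠ b' := fun s hs => by
    rw [← hs, QuadraticMap.polar_smul_right, hself, smul_zero] at hbb'
    exact zero_ne_one hbb'
  have hb0 : b ≠ 0 := fun h => hQa (by rw [← hQb, h, map_zero])
  have hfull : EFull Q M u := by
    intro w hw
    obtain ⟨pa, hpa, w', hw', rfl⟩ := exists_add_qPerp Q hQ (hD.nd a₀) w
    obtain ⟨pb, hpb, w'', hw'', rfl⟩ := exists_add_qPerp Q hQ (hD.nd b₀) w'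
    have hw''a : w'' ∈ qPerp Q (D a₀) := by
      have := (qPerp Q (D a₀)).sub_mem hw' (hD.perp_le (Ne.symm hb₀.1) hpb)
      rwa [add_sub_cancel_left] at this
    -- the part outside
    have hout : eich Q u w'' ∈ M ∧ QuadraticMap.polar Q u w'' = 0 := by
      obtain ⟨S, hS⟩ : ∃ S : Submodule F V, ∀ x, x ∈ S ↔
          ∀ c : F, QuadraticMap.polar Q u (c • x) = 0 ∧ eich Q u (c • x) ∈ M := by
        refine ⟨{ carrier := {x | ∀ c : F, QuadraticMap.polar Q u (c • x) = 0 ∧ eich Q u (c • x) ∈ M}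
                  add_mem' := fun {p q} hp hq c => by
                    rw [smul_add]
                    exact ⟨by rw [QuadraticMap.polar_add_right, (hp c).1, (hq c).1, add_zero], by
                      rw [← eich_mul Q hQu (hp c).1 (hq c).1]
                      exact mul_mem (hp c).2 (hq c).2⟩
                  zero_mem' := fun c => by
                    rw [smul_zero]
                    exact ⟨QuadraticMap.polar_zero_right Q u, by rw [eich_zero Q hQu]; exact one_mem M⟩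
                  smul_mem' := fun r p hp c => by rw [smul_smul]; exact hp _ }, fun x => Iff.rfl⟩
      have h : w'' ∈ S := hD.mem_of_parts hQ (Finset.univ.filter fun i => i ≠ a₀ ∧ i ≠ b₀)
        (fun i hi x hx => (hS x).2 fun c => by
          rw [Finset.mem_filter] at hi
          exact hTu u huU hQu i hi.2.1 hi.2.2 _ ((D i).smul_mem c hx))
        (fun i hi => by
          rw [Finset.mem_filter] at hi
          push Not at hi
          rcases eq_or_ne i a₀ with rfl | hia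
          · exact hw''a
          · rw [hi (Finset.mem_univ _) hia]
            exact hw'')
      have h1 := (hS w'').1 h 1
      rw [one_smul] at h1
      exact ⟨h1.2, h1.1⟩
    obtain ⟨p, q, rfl⟩ := exists_coords_plane (hD.dim a₀) haD ha'D ha0 hinda hpa
    obtain ⟨p', q', rfl⟩ := exists_coords_plane (hD.dim b₀) hbD hb'D hb0 hindb hpb
    have hqq : q + q' = 0 := by
      have h : QuadraticMap.polar Q u (p • a + q • a' + (p' • b + q' • b' + w'')) = 0 := hw
      simp only [hu, QuadraticMap.polar_add_right, QuadraticMap.polar_add_left, QuadraticMap.polar_smul_right,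
        hself, haa', hbb', hab a haD b hbD, hab a haD b' hb'D, QuadraticMap.polar_comm Q b a,
        QuadraticMap.polar_comm Q b a', hab a' ha'D b hbD, smul_eq_mul, mul_zero, mul_one, add_zero, zero_add] at h
      have h' := hout.2
      rw [hu, QuadraticMap.polar_add_left] at h'
      linear_combination h - h'
    obtain ⟨β, hβ⟩ : ∃ β, β = (p' - p) * Q a := ⟨_, rfl⟩
    have hdec : p • a + q • a' + (p' • b + q' • b' + w'') = ((q - β) • v₁ + β • v₂ + w'') + p • u := by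
      rw [hv₁, hv₂, hu, hβ]
      match_scalars <;> field_simp <;> first | linear_combination hqq - q * h2 | ring
    have h1 := hinside u huU hQu v₁ hv₁U hQv₁ huv₁ (q - β)
    have h3 := hinside u huU hQu v₂ hv₂U hQv₂ huv₂ β
    have hp1 : QuadraticMap.polar Q u ((q - β) • v₁) = 0 := by rw [QuadraticMap.polar_smul_right, huv₁, smul_zero]
    have hp2 : QuadraticMap.polar Q u (β • v₂) = 0 := by rw [QuadraticMap.polar_smul_right, huv₂, smul_zero]
    have hp3 : QuadraticMap.polar Q u ((q - β) • v₁ + β • v₂) = 0 := by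
      rw [QuadraticMap.polar_add_right, hp1, hp2, add_zero]
    rw [hdec, eich_add_self Q hQu (by rw [QuadraticMap.polar_add_right, hp3, hout.2, add_zero]),
      ← eich_mul Q hQu hp3 hout.2, ← eich_mul Q hQu hp1 hp2]
    exact mul_mem (mul_mem h1 h3) hout.1
  -- a conjugate point
  obtain ⟨m, hm, ham, hQm⟩ := exists_dual_aniso h2 (hD.nd a₀) (hok a₀) haD ha0
  obtain ⟨g, hg, hgb⟩ := hD.exists_comp hQ hn (hD.nd c₀) (hdim c₀) le_rfl (hD.qRefl_mem_dStab hQ hm hQm)
  have hgu : g.1 u = u - (Q m)⁻¹ • m := by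
    rw [hgb u (hu ▸ (qPerp Q (D c₀)).add_mem (hD.perp_le hc₀a haD) (hD.perp_le hc₀b hbD)), qRefl_apply, hu,
      QuadraticMap.polar_add_left, ham, QuadraticMap.polar_comm Q b m, hab m hm b hbD, add_zero, mul_one]
  refine eichGroup_le_of_full Q hQ (by omega) (u := u) (v := g.1 u) hQu (by rw [qAut_map, hQu]) ?_ hfull
    (efull_conj Q (hHM hg) hQu hfull)
  rw [hgu, QuadraticMap.polar_sub_right, hself, QuadraticMap.polar_smul_right, hu, QuadraticMap.polar_add_left,
    ham, QuadraticMap.polar_comm Q b m, hab m hm b hbD, add_zero, smul_eq_mul, mul_one, zero_sub]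
  exact neg_ne_zero.2 (inv_ne_zero hQm)

end CfsgLib.Classical22.OrthDecomp
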