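/-
Overgroups of the stabiliser of a decomposition into planes in characteristic two.
-/
import Cfsg.Agent.Lib.Classical22.OrthDecompTwoEvenShort

set_option autoImplicit false

namespace CfsgLib.Classical22.OrthDecomp

open CfsgLib.Classical

variable {F V : Type*} [Field F] [AddCommGroup V] [Module F V] {Q : QuadraticForm F V}
variable {t : ℕ} {D : Fin t → Submodule F V} [FiniteDimensional F V] [Fintype F] {M : Subgroup (qAut Q)}

/-- Two reflection vectors of equal value in two members. -/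
theorem exists_pair_two (hD : Data Q D 2) (h2 : (2 : F) = 0) (hok : ∀ l, PlaneOK Q (D l)) {i j : Fin t} {z z' : V}
    (hz : z ∈ D i) (hz' : z' ∈ D j) (hQz : Q z ≠ 0) (hQz' : Q z' ≠ 0) :
    ∃ d ∈ D i, ∃ d' ∈ D j, Q d ≠ 0 ∧ Q d' = -Q d ∧
      QuadraticMap.polar Q z d = 1 ∧ QuadraticMap.polar Q z' d' = 1 := by
  have hne : ∀ {w : V}, Q w ≠ 0 → w ≠ 0 := fun hQw h => hQw (by rw [h, map_zero])
  obtain ⟨e, he, hze⟩ := exists_dual_in (hD.nd i) hz (hne hQz)
  obtain ⟨e', he', hze'⟩ := exists_dual_in (hD.nd j) hz' (hne hQz')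
  obtain ⟨hline, hr⟩ := dual_line_range h2 (hD.dim i) hz hQz he hze
  obtain ⟨hline', hr'⟩ := dual_line_range h2 (hD.dim j) hz' hQz' he' hze'
  have htrans : ∀ l m : Fin t, (∃ x ∈ D l, x ≠ 0 ∧ Q x = 0) → ∃ x ∈ D m, x ≠ 0 ∧ Q x = 0 := by
    rintro l m ⟨x, hx, hx0, hQx⟩
    rcases eq_or_ne l m with rfl | _
    · exact ⟨x, hx, hx0, hQx⟩
    obtain ⟨φ, hφ⟩ := hD.isom l m
    refine ⟨(φ ⟨x, hx⟩ : V), (φ _).2, fun h0 => hx0 ?_, by rw [hφ]; exact hQx⟩
    have h1 : φ ⟨x, hx⟩ = 0 := Subtype.ext h0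
    exact congrArg Subtype.val ((map_eq_zero_iff φ φ.injective).1 h1)
  obtain ⟨s, s', hs, hss⟩ := exists_common_value h2 (c := Q e) (c' := Q e') hQz hQz' (by
    by_cases h : Q e ∈ (artinMap h2 (Q z)).range
    · obtain ⟨x, hx, hx0, hQx⟩ := hr.1 h
      refine Or.inl ⟨(hok i).elim (fun hh => hh.1) (fun hno => absurd (hno x hx hQx) hx0), h,
        hr'.2 (htrans i j ⟨x, hx, hx0, hQx⟩)⟩
    · exact Or.inr ⟨h, fun h' => h (hr.2 (htrans j i (hr'.1 h')))⟩)
  refine ⟨_, (D i).add_mem he ((D i).smul_mem s hz), _, (D j).add_mem he' ((D j).smul_mem s' hz'),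
    by rwa [(hline s).2], ?_, (hline s).1, (hline' s').1⟩
  rw [(hline s).2, (hline' s').2, ← hss, neg_eq_self_two h2]

/-- A vector with three parts in a set on which moves are allowed. -/
theorem short_of_moves_two (hD : Data Q D 2) (hQ : PolarNondeg Q) (hn : 5 ≤ Module.finrank F V) (h2 : (2 : F) = 0)
    (hok : ∀ l, PlaneOK Q (D l)) (q : V) (U : Finset (Fin t)) (hU : 3 ≤ U.card) (hQq : Q q ≠ 0)
    (hqU : ∀ l ∈ U, q ∉ qPerp Q (D l))
    (hrel : ∀ h ∈ dStab Q D ⊓ eichGroup Q, (∀ l, l ∉ U → ∀ x ∈ D l, h.1 x = x) → ReflRel Q M q (h.1 q)) :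
    Short Q D M := by
  classical
  obtain ⟨p, hp⟩ := exists_parts hD hQ q
  have hp0 : ∀ l ∈ U, p l ≠ 0 := fun l hl h0 => hqU l hl ((hp l).2.2.2.1 h0)
  by_cases hsing : ∃ l ∈ U, Q (p l) = 0
  · obtain ⟨l, hl, hQl⟩ := hsing
    obtain ⟨o, ho, hol⟩ := Finset.exists_mem_ne (show 1 < U.card by omega) l
    have hq : 3 ≤ Fintype.card F :=
      (hok l).elim (fun h => le_trans (by omega) h.1) (fun hno => absurd (hno _ (hp l).1 hQl) (hp0 l hl))
    obtain ⟨c, h, hc, hh, hhu, hhb⟩ := exists_scale_two hD hQ hn h2 hq (hp l).1 (hp0 l hl) hQl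
    have hhv : h.1 q = q + (c - 1) • p l := by
      have e := hhb _ (hp l).2.1
      rw [map_sub, hhu, sub_eq_iff_eq_add] at e
      rw [e, sub_smul, one_smul]
      abel
    refine short_of_diff (hhv ▸ hrel h hh fun m hm x hx =>
      hhb x (hD.perp_le (i := l) (j := m) (fun h0 => hm (h0 ▸ hl)) hx)) hQq (by rw [quad_smul, hQl, mul_zero])
      (smul_ne_zero (sub_ne_zero.2 hc) (hp0 l hl)) {l} (by simp) (fun m hm => ?_) (j := o) (by simpa using hol)
      (hqU o ho)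
    exact (qPerp Q (D m)).smul_mem _ (hD.perp_le (Finset.notMem_singleton.1 hm) (hp l).1)
  push Not at hsing
  obtain ⟨i, j, l, hi, hj, hl, hij, hil, hjl⟩ := Finset.two_lt_card_iff.1 hU
  obtain ⟨d, hd, d', hd', hQd, hed, hzd, hzd'⟩ := exists_pair_two hD h2 hok (hp i).1 (hp j).1
    (hsing i hi) (hsing j hj)
  have hQd' : Q d' ≠ 0 := hed ▸ neg_ne_zero.2 hQd
  rw [← (hp _).2.2.1 d hd] at hzd
  rw [← (hp _).2.2.1 d' hd'] at hzd'
  obtain ⟨hQX, -, hXs⟩ := pair_singular hD hij hd hd' hQd hed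
  have hsupp : ∀ m, m ∉ U → ∀ x ∈ D m, (qRefl Q hQd * qRefl Q hQd').1 x = x := fun m hm x hx => by
    rw [qAut_mul_apply, qRefl_fix Q hQd' (hD.orth m j (fun h0 => hm (h0 ▸ hj)) x hx d' hd'),
      qRefl_fix Q hQd (hD.orth m i (fun h0 => hm (h0 ▸ hi)) x hx d hd)]
  have hr := hrel _ ⟨mul_mem (hD.qRefl_mem_dStab hQ hd hQd) (hD.qRefl_mem_dStab hQ hd' hQd'),
    qRefl_sq_mem hQ hn hQd' hQd (isSquare_of_two h2 _)⟩ hsupp
  rw [refl_pair_apply hQd hQd' hed (hD.orth i j hij d hd d' hd') hzd hzd'] at hr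
  refine short_of_diff hr hQq hQX (fun h0 => ?_) {i, j}
    Finset.card_le_two (fun m hm => ?_) (j := l) ?_ (hqU l hl)
  · rw [smul_eq_zero, sub_eq_zero] at h0
    rcases h0 with h0 | h0
    · exact inv_ne_zero hQd h0
    · have hd0 : d = 0 := hD.nd i d hd fun y hy => hD.orth j i hij.symm d (h0 ▸ hd') y hy
      exact hQd (by rw [hd0, map_zero])
  · simp only [Finset.mem_insert, Finset.mem_singleton, not_or] at hm
    exact hXs m hm.1 hm.2
  · simp only [Finset.mem_insert, Finset.mem_singleton, not_or]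
    exact ⟨hil.symm, hjl.symm⟩

/-- Two further vectors of a given value in a plane, pairing non-trivially with it. -/
theorem exists_three_members_two (hD : Data Q D 2) (h2 : (2 : F) = 0) (hok : ∀ l, PlaneOK Q (D l)) :
    ∀ l, ∀ x ∈ D l, Q x ≠ 0 → ∃ x₂ ∈ D l, ∃ x₃ ∈ D l, Q x₂ = Q x ∧ Q x₃ = Q x ∧
      (∀ s : F, s • x ≠ x₂) ∧ (∀ s : F, s • x ≠ x₃) ∧ (∀ s : F, s • x₂ ≠ x₃) ∧
      QuadraticMap.polar Q x x₂ ≠ 0 := by
  classical
  intro l x hx hQx
  have hx0 : x ≠ 0 := fun h => hQx (by rw [h, map_zero])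
  obtain ⟨d, hd, hxd, hQd⟩ := exists_dual_aniso h2 (hD.nd l) (hok l) hx hx0
  have hxx : QuadraticMap.polar Q x x = 0 := by rw [quad_polar_self, h2, zero_mul]
  -- a second line
  obtain ⟨s, hs0, hs⟩ : ∃ s : F, s ≠ 0 ∧ Q (d + s • x) ≠ 0 := by
    rcases hok l with ⟨hq, -⟩ | hno
    · obtain ⟨s, -, hs⟩ := Finset.exists_mem_notMem_of_card_lt_card
        (s := insert (0 : F) (Finset.univ.filter fun s : F => Q d + s * 1 + s * s * Q x = 0)) (t := Finset.univ) (by
          rw [Finset.card_univ]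
          refine lt_of_le_of_lt (Finset.card_insert_le _ _) ?_
          have := card_quadratic_roots (A := Q d) (B := 1) (C := Q x) (fun h => hQd h.1)
          omega)
      simp only [Finset.mem_insert, Finset.mem_filter, Finset.mem_univ, true_and, not_or] at hs
      refine ⟨s, hs.1, fun h0 => hs.2 ?_⟩
      rw [quad_add, quad_smul, QuadraticMap.polar_smul_right, QuadraticMap.polar_comm, hxd, smul_eq_mul] at h0
      linear_combination h0
    · refine ⟨1, one_ne_zero, fun h0 => ?_⟩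
      have h := hno _ ((D l).add_mem hd ((D l).smul_mem 1 hx)) h0
      have h1 := congrArg (fun y => QuadraticMap.polar Q x y) h
      rw [QuadraticMap.polar_add_right, QuadraticMap.polar_smul_right, hxd, hxx, smul_zero, add_zero,
        QuadraticMap.polar_zero_right] at h1
      exact one_ne_zero h1
  have img : ∀ e, e ∈ D l → QuadraticMap.polar Q x e = 1 → ∀ hQe : Q e ≠ 0,
      x - (Q e)⁻¹ • e ∈ D l ∧ Q (x - (Q e)⁻¹ • e) = Q x ∧ QuadraticMap.polar Q x (x - (Q e)⁻¹ • e) = -(Q e)⁻¹ := by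
    intro e he hxe hQe
    refine ⟨(D l).sub_mem hx ((D l).smul_mem _ he), ?_, ?_⟩
    · have := qAut_map (qRefl Q hQe) x
      rwa [qRefl_apply, hxe, mul_one] at this
    · rw [QuadraticMap.polar_sub_right, hxx, QuadraticMap.polar_smul_right, hxe, smul_eq_mul, mul_one, zero_sub]
  have hxds : QuadraticMap.polar Q x (d + s • x) = 1 := by
    rw [QuadraticMap.polar_add_right, QuadraticMap.polar_smul_right, hxd, hxx, smul_zero, add_zero]
  obtain ⟨h2m, h2q, h2p⟩ := img d hd hxd hQd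
  obtain ⟨h3m, h3q, h3p⟩ := img _ ((D l).add_mem hd ((D l).smul_mem s hx)) hxds hs
  have hne : ∀ {y : V}, QuadraticMap.polar Q x y ≠ 0 → ∀ r : F, r • x ≠ y := fun hy r hr => hy (by
    rw [← hr, QuadraticMap.polar_smul_right, hxx, smul_zero])
  refine ⟨_, h2m, _, h3m, h2q, h3q, hne (h2p ▸ neg_ne_zero.2 (inv_ne_zero hQd)),
    hne (h3p ▸ neg_ne_zero.2 (inv_ne_zero hs)), fun r hr => ?_, h2p ▸ neg_ne_zero.2 (inv_ne_zero hQd)⟩
  have h1 := congrArg Q hr
  rw [quad_smul, h2q, h3q] at h1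
  have hr1 : r = 1 := by
    rcases mul_self_eq_one_iff.1 ((mul_left_eq_self₀.1 h1).resolve_right hQx) with h | h
    · exact h
    · exact h.trans (neg_eq_self_two h2 1)
  rw [hr1, one_smul, sub_right_inj] at hr
  have h3 := congrArg (QuadraticMap.polar Q x) hr
  rw [QuadraticMap.polar_smul_right, QuadraticMap.polar_smul_right, hxd, hxds, smul_eq_mul, smul_eq_mul, mul_one,
    mul_one] at h3
  rw [← h3, smul_right_inj (inv_ne_zero hQd), left_eq_add, smul_eq_zero] at hr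
  exact hr.elim hs0 hx0

/-- A vector outside the members related to a vector of a member. -/
theorem short_of_outside_two (hD : Data Q D 2) (hQ : PolarNondeg Q) (hn : 5 ≤ Module.finrank F V)
    (h2 : (2 : F) = 0) (hok : ∀ l, PlaneOK Q (D l)) (ht : 5 ≤ t) (hHM : dStab Q D ⊓ eichGroup Q ≤ M) {c : Fin t}
    {n v : V} (hn' : n ∈ D c) (hrel : ReflRel Q M v n) (hout : ∀ l, v ∉ D l) : Short Q D M := by
  classical
  have hQv : Q v ≠ 0 := hrel.2.1
  have hQn : Q n ≠ 0 := hrel.1 ▸ hQv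
  have key : ∀ {w : V}, ReflRel Q M w n → ∀ h ∈ dStab Q D ⊓ eichGroup Q, ReflRel Q M w (h.1 w) := by
    intro w hw h hh
    obtain ⟨σ, hσ⟩ := hh.1
    exact (hw.trans (reflRel_of_members hD hQ hn hHM hn'
      (hσ c ▸ Submodule.mem_map_of_mem (f := h.1.toLinearMap) hn') hQn (qAut_map _ _).symm)).trans
      (hw.map (hHM hh)).symm
  have two : ∀ a, ∃ b, b ≠ a ∧ v ∉ qPerp Q (D b) := fun a => by
    by_contra hc
    push Not at hc
    exact hout a (hD.mem_of_perp_others hQ hc)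
  obtain ⟨i, -, hvi⟩ := two c
  obtain ⟨j, hji, hvj⟩ := two i
  have three : ∀ {w : V}, Q w ≠ 0 → ReflRel Q M w n → ∀ {a b l : Fin t}, a ≠ b → a ≠ l → b ≠ l →
      w ∉ qPerp Q (D a) → w ∉ qPerp Q (D b) → w ∉ qPerp Q (D l) → Short Q D M := by
    intro w hQw hw a b l hab hal hbl ha hb hl
    refine short_of_moves_two hD hQ hn h2 hok w {a, b, l} (le_of_eq ?_) hQw ?_ (fun h hh _ => key hw h hh)
    · rw [Finset.card_insert_of_notMem (by simp [hab, hal]), Finset.card_pair hbl]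
    · intro m hm
      simp only [Finset.mem_insert, Finset.mem_singleton] at hm
      rcases hm with rfl | rfl | rfl <;> assumption
  by_cases hthree : ∃ l, l ≠ i ∧ l ≠ j ∧ v ∉ qPerp Q (D l)
  · obtain ⟨l, hli, hlj, hvl⟩ := hthree
    exact three hQv hrel hji.symm hli.symm hlj.symm hvi hvj hvl
  push Not at hthree
  obtain ⟨p, hp⟩ := exists_parts hD hQ v
  have hz0 : p i ≠ 0 := fun h => hvi ((hp i).2.2.2.1 h)
  have hz'0 : p j ≠ 0 := fun h => hvj ((hp j).2.2.2.1 h)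
  by_cases hQz : Q (p i) = 0
  · have hq : 3 ≤ Fintype.card F :=
      (hok i).elim (fun h => le_trans (by omega) h.1) (fun hno => absurd (hno _ (hp i).1 hQz) hz0)
    obtain ⟨s, h, hs, hh, hhu, hhb⟩ := exists_scale_two hD hQ hn h2 hq (hp i).1 hz0 hQz
    have hhv : h.1 v = v + (s - 1) • p i := by
      have e := hhb _ (hp i).2.1
      rw [map_sub, hhu, sub_eq_iff_eq_add] at e
      rw [e, sub_smul, one_smul]
      abel
    refine short_of_diff (hhv ▸ key hrel h hh) hQv (by rw [quad_smul, hQz, mul_zero])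
      (smul_ne_zero (sub_ne_zero.2 hs) hz0) {i} (by simp) (fun m hm => ?_) (j := j) (by simpa using hji) hvj
    exact (qPerp Q (D m)).smul_mem _ (hD.perp_le (Finset.notMem_singleton.1 hm) (hp i).1)
  obtain ⟨d, hd, hzd, hQd⟩ := exists_dual_aniso h2 (hD.nd i) (hok i) (hp i).1 hz0
  have hvsum : v = p i + p j := by
    rw [← sub_eq_zero]
    refine hD.eq_zero_of_perp_all hQ fun m => ?_
    rcases eq_or_ne m i with rfl | hmi
    · rw [← sub_sub]
      exact (qPerp Q (D m)).sub_mem (hp m).2.1 (hD.perp_le hji.symm (hp j).1)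
    rcases eq_or_ne m j with rfl | hmj
    · rw [add_comm, ← sub_sub]
      exact (qPerp Q (D m)).sub_mem (hp m).2.1 (hD.perp_le hji (hp i).1)
    exact (qPerp Q (D m)).sub_mem (hthree m hmi hmj)
      ((qPerp Q (D m)).add_mem (hD.perp_le hmi (hp i).1) (hD.perp_le hmj (hp j).1))
  obtain ⟨f, hf⟩ := exists_notMem_fin (s := ({i, j} : Finset (Fin t))) (by
    have := Finset.card_le_two (a := i) (b := j)
    omega)
  simp only [Finset.mem_insert, Finset.mem_singleton, not_or] at hf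
  obtain ⟨σ, hσ, hσmap, hσfix⟩ := exists_swap_into hD hQ hn le_rfl (Ne.symm hf.2)
  obtain ⟨c', hc'⟩ := exists_notMem_fin (s := ({i, j, f} : Finset (Fin t))) (by
    have := Finset.card_le_three (a := i) (b := j) (c := f)
    omega)
  simp only [Finset.mem_insert, Finset.mem_singleton, not_or] at hc'
  obtain ⟨g, hg, hgb⟩ := hD.exists_comp hQ hn (hD.nd c') (hD.dim c').ge le_rfl (hD.qRefl_mem_dStab hQ hd hQd)
  have hσz : σ.1 (p j) ∈ D f := hσmap ▸ Submodule.mem_map_of_mem (f := σ.1.toLinearMap) (hp j).1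
  have hσz0 : σ.1 (p j) ≠ 0 := fun h => hz'0 (by simpa using h)
  obtain ⟨ζ, hζ⟩ : ∃ ζ, ζ = p i - (Q d)⁻¹ • d := ⟨_, rfl⟩
  have hζi : ζ ∈ D i := hζ ▸ (D i).sub_mem (hp i).1 ((D i).smul_mem _ hd)
  have hhv : (g * σ).1 v = ζ + σ.1 (p j) := by
    rw [qAut_mul_apply, hvsum, map_add, hσfix i hji.symm (Ne.symm hf.1) _ (hp i).1,
      hgb _ ((qPerp Q (D c')).add_mem (hD.perp_le hc'.1 (hp i).1) (hD.perp_le hc'.2.2 hσz)), map_add,
      qRefl_fix Q hQd (hD.orth f i hf.1 _ hσz d hd), qRefl_apply, hzd, mul_one, hζ]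
  have hrel' : ReflRel Q M v (ζ + σ.1 (p j)) := hhv ▸ key hrel _ (mul_mem hg hσ)
  obtain ⟨μ, hμ⟩ : ∃ μ, μ = (Q v)⁻¹ * QuadraticMap.polar Q (ζ + σ.1 (p j)) v := ⟨_, rfl⟩
  have hzz : QuadraticMap.polar Q (p i) (p i) = 0 := by rw [quad_polar_self, h2, zero_mul]
  have hζz : QuadraticMap.polar Q ζ (p i) ≠ 0 := by
    rw [hζ, QuadraticMap.polar_sub_left, hzz, QuadraticMap.polar_smul_left, QuadraticMap.polar_comm Q d, hzd,
      smul_eq_mul, mul_one, zero_sub]
    exact neg_ne_zero.2 (inv_ne_zero hQd)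
  have hμ0 : μ ≠ 0 := by
    rw [hμ, hvsum]
    refine mul_ne_zero (inv_ne_zero (hvsum ▸ hQv)) ?_
    rw [QuadraticMap.polar_add_left, QuadraticMap.polar_add_right, QuadraticMap.polar_add_right,
      hD.orth i j hji.symm ζ hζi _ (hp j).1, hD.orth f i hf.1 _ hσz _ (hp i).1,
      hD.orth f j hf.2 _ hσz _ (hp j).1]
    simpa using hζz
  obtain ⟨hQ', hv', hw, hmem⟩ := hrel'
  have hQw' : Q ((qRefl Q hQv).1 (ζ + σ.1 (p j))) ≠ 0 := by rwa [qAut_map]
  have hnew : ReflRel Q M ((qRefl Q hQv).1 (ζ + σ.1 (p j))) n := by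
    refine ⟨by rw [qAut_map, ← hQ', hrel.1], hQw', hQn, ?_⟩
    rw [← qRefl_conj Q (qRefl Q hQv) hw hQw', qRefl_inv, mul_assoc (qRefl Q hQv * qRefl Q hw)]
    exact mul_mem hmem hrel.2.2.2
  have hform : (qRefl Q hQv).1 (ζ + σ.1 (p j)) = (ζ - μ • p i) + ((-μ) • p j + σ.1 (p j)) := by
    rw [qRefl_apply, ← hμ, hvsum, smul_add, neg_smul]
    abel
  have hA : ζ - μ • p i ≠ 0 := fun h => hζz (by
    rw [sub_eq_zero.1 h, QuadraticMap.polar_smul_left, hzz, smul_zero])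
  have hAi : ζ - μ • p i ∈ D i := (D i).sub_mem hζi ((D i).smul_mem _ (hp i).1)
  have hBj : (-μ) • p j ∈ D j := (D j).smul_mem _ (hp j).1
  have part : ∀ {m : Fin t} {x y : V}, x ∈ D m → x ≠ 0 → y ∈ qPerp Q (D m) → x + y ∉ qPerp Q (D m) := by
    intro m x y hx hx0 hy h
    have h' := (qPerp Q (D m)).sub_mem h hy
    rw [add_sub_cancel_right] at h'
    exact hx0 (hD.nd m x hx fun z hz => (QuadraticMap.polar_comm Q x z).trans (hD.polar_eq_zero hz h'))
  refine three hQw' hnew hji.symm (Ne.symm hf.1) (Ne.symm hf.2) ?_ ?_ ?_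
  · rw [hform]
    exact part hAi hA ((qPerp Q (D i)).add_mem (hD.perp_le hji.symm hBj) (hD.perp_le (Ne.symm hf.1) hσz))
  · rw [hform, add_left_comm]
    exact part hBj (smul_ne_zero (neg_ne_zero.2 hμ0) hz'0)
      ((qPerp Q (D j)).add_mem (hD.perp_le hji hAi) (hD.perp_le (Ne.symm hf.2) hσz))
  · rw [hform, ← add_assoc, add_comm]
    exact part hσz hσz0 ((qPerp Q (D f)).add_mem (hD.perp_le hf.1 hAi) (hD.perp_le hf.2 hBj))

/-- An overgroup of the stabiliser of a decomposition into planes contains the Eichler group. -/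
theorem eichGroup_le_of_plane_two (hD : Data Q D 2) (hQ : PolarNondeg Q) (hn : 5 ≤ Module.finrank F V)
    (h2 : (2 : F) = 0) (hok : ∀ l, PlaneOK Q (D l)) (ht : 5 ≤ t) (hHM : dStab Q D ⊓ eichGroup Q ≤ M)
    (hne : ¬ M ≤ dStab Q D) : eichGroup Q ≤ M := by
  classical
  refine eichGroup_le_of_short_two hD hQ hn h2 hok ht hHM ?_
  refine short_of_plane hD hQ hn hHM hne (exists_three_members_two hD h2 hok)
    (fun c n v hn' hr hout => short_of_outside_two hD hQ hn h2 hok ht hHM hn' hr hout) ?_ ?_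
  · intro W hW hWd hrel hsame hII f z hz hz0 hzW
    have hQz : Q z = 0 := by
      by_contra hne
      obtain ⟨w, hw, hwz⟩ := hII f z hz hne
      exact hwz (hzW w hw)
    have hq : 8 ≤ Fintype.card F := (hok f).elim (fun h => h.1) (fun hno => absurd (hno z hz hQz) hz0)
    exact short_of_singular_perp hD hQ hn (by omega)
      (fun j u hu hu0 hQu => exists_scale_two hD hQ hn h2 (by omega) hu hu0 hQu) hHM hW hWd hrel hsame hII hz hz0 hzW
  intro W hW hWd _ hrel hsame hinj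
  obtain ⟨a, haW, hQa, x, hx, c₁, c₂, h₁, h₂, h12⟩ : ∃ a ∈ W, Q a ≠ 0 ∧ ∃ x : Fin t → V,
      (∀ f, x f ∈ D f ∧ ∀ y ∈ D f, QuadraticMap.polar Q a y = QuadraticMap.polar Q (x f) y) ∧
      ∃ c₁ c₂, Q (x c₁) ≠ 0 ∧ Q (x c₂) ≠ 0 ∧ c₁ ≠ c₂ := by
    by_cases hno : ∀ l, ∀ x ∈ D l, Q x = 0 → x = 0
    · obtain ⟨a, ha, hQa⟩ := exists_aniso_in Q hW (fun h0 => by rw [h0, finrank_bot] at hWd; omega)
      obtain ⟨p, hp⟩ := exists_parts hD hQ a
      have hpne : ∀ f, Q (p f) ≠ 0 := fun f h0 =>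
        notMem_qPerp_of_inj hD hWd hinj a ha (fun h => hQa (by rw [h, map_zero])) f
          ((hp f).2.2.2.1 (hno f _ (hp f).1 h0))
      exact ⟨a, ha, hQa, p, fun f => ⟨(hp f).1, (hp f).2.2.1⟩, ⟨0, by omega⟩, ⟨1, by omega⟩, hpne _, hpne _,
        by simp⟩
    · push Not at hno
      obtain ⟨l, x, hx, hQx, hx0⟩ := hno
      have hq : 5 ≤ Fintype.card F :=
        (hok l).elim (fun h => le_trans (by omega) h.1) (fun h => absurd (h x hx hQx) hx0)
      obtain ⟨a, ha, hQa, y, hy, c₁, c₂, -, h₁, h₂, -, h12, -, -⟩ := exists_three_parts hD hQ hq ht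
        (Or.inr (Or.inl ((hok l).elim (fun h => le_trans (by omega) h.1) fun h => absurd (h x hx hQx) hx0))) hW hWd hinj
      exact ⟨a, ha, hQa, y, hy, c₁, c₂, h₁, h₂, h12⟩
  obtain ⟨b, hbW, hQb, hind⟩ := hsame a haW hQa
  have hperp : ∀ f, QuadraticMap.polar Q a (x f) = 0 := fun f => by
    rw [(hx f).2 _ (hx f).1, quad_polar_self, h2, zero_mul]
  exact short_of_fixing_pair hD hQ hn ht hHM hWd hrel hinj
    (fun q U hU => short_of_moves_two hD hQ hn h2 hok q U (by omega))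
    haW hQa hbW hQb hind h12 (hx c₁).1 (hx c₂).1 h₁ h₂ (hperp c₁) (hperp c₂) (isSquare_of_two h2 _)

end CfsgLib.Classical22.OrthDecomp
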