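/-
Stabilisers of decompositions into planes: the matrix statement.
-/
import Cfsg.Agent.Lib.Classical22.OrthDecompTwoEven
import Cfsg.Agent.Lib.Classical22.OrthDecompMax

set_option autoImplicit false

namespace CfsgLib.Classical22.OrthDecomp

open CfsgLib.Classical Cfsg
open scoped MatrixGroups Matrix

variable {F : Type*} [Field F] [Fintype F] {ι : Type} [Fintype ι] [DecidableEq ι]

/-- A plane with a singular vector is of plus type. -/
theorem isPlusTypeOn_of_singular (q : QuadraticForm F (ι → F)) {P : Submodule F (ι → F)}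
    (hd : Module.finrank F P = 2) {x : ι → F} (hx : x ∈ P) (hx0 : x ≠ 0) (hQx : q x = 0) :
    Cfsg.Geo.IsPlusTypeOn ⇑q P := by
  refine ⟨Submodule.span F {x}, (Submodule.span_singleton_le_iff_mem _ _).2 hx, fun y hy => ?_, ?_⟩
  · obtain ⟨r, rfl⟩ := Submodule.mem_span_singleton.1 hy
    rw [quad_smul, hQx, mul_zero]
  · rw [finrank_span_singleton hx0, hd]

/-- Maximality of the stabiliser of a decomposition into planes in odd characteristic. -/
theorem isMaximalIn_decomp_plane (h2 : (2 : F) ≠ 0) (q : QuadraticForm F (ι → F)) (hQ : PolarNondeg q)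
    (hn : 10 ≤ Fintype.card ι) {t : ℕ} {D : Fin t → Submodule F (ι → F)}
    (hD : Cfsg.Geo.IsOrthogonalMDecomposition ⇑q 2 D)
    (hq : 7 ≤ Fintype.card F ∨ (5 ≤ Fintype.card F ∧ ∀ i, ¬ Cfsg.Geo.IsPlusTypeOn ⇑q (D i))) :
    Cfsg.Geo.IsMaximalIn (Cfsg.Geo.omegaGL ⇑q)
      (Cfsg.Geo.decompositionStabilizer D ⊓ Cfsg.Geo.omegaGL ⇑q) := by
  have hV : Module.finrank F (ι → F) = Fintype.card ι := Module.finrank_pi F
  have hc := card_eq_mul hD.decomp.decomp
  have hd := data_of_decomp q hD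
  have hf : PlaneField q D := hq.imp id fun h => ⟨h.1, fun i x hx hQx => by
    by_contra hx0
    exact h.2 i (isPlusTypeOn_of_singular q (hd.dim i) hx hx0 hQx)⟩
  refine isMaximalIn_omegaGL q hQ (by omega) (comap_decompositionStabilizer q D)
    (not_eichGroup_le_dStab_plane hd hQ (by omega)) fun M hHM _ hne => ?_
  exact eichGroup_le_of_plane hd hQ (by omega) h2 hf (by omega) hHM hne

/-- Maximality of the stabiliser of a decomposition into planes in characteristic two. -/
theorem isMaximalIn_decomp_plane_two (h2 : (2 : F) = 0) (q : QuadraticForm F (ι → F)) (hQ : PolarNondeg q)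
    (hn : 10 ≤ Fintype.card ι) {t : ℕ} {D : Fin t → Submodule F (ι → F)}
    (hD : Cfsg.Geo.IsOrthogonalMDecomposition ⇑q 2 D)
    (hq : 8 ≤ Fintype.card F ∨ ∀ i, ¬ Cfsg.Geo.IsPlusTypeOn ⇑q (D i)) :
    Cfsg.Geo.IsMaximalIn (Cfsg.Geo.omegaGL ⇑q)
      (Cfsg.Geo.decompositionStabilizer D ⊓ Cfsg.Geo.omegaGL ⇑q) := by
  have hV : Module.finrank F (ι → F) = Fintype.card ι := Module.finrank_pi F
  have hc := card_eq_mul hD.decomp.decomp
  have hd := data_of_decomp q hD
  have hok : ∀ i, PlaneOK q (D i) := fun i => by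
    by_cases h : ∀ x ∈ D i, q x = 0 → x = 0
    · exact Or.inr h
    push Not at h
    obtain ⟨x, hx, hQx, hx0⟩ := h
    exact Or.inl ⟨hq.resolve_right fun hh => hh i (isPlusTypeOn_of_singular q (hd.dim i) hx hx0 hQx),
      x, hx, hx0, hQx⟩
  refine isMaximalIn_omegaGL q hQ (by omega) (comap_decompositionStabilizer q D)
    (not_eichGroup_le_dStab_plane hd hQ (by omega)) fun M hHM _ hne => ?_
  exact eichGroup_le_of_plane_two hd hQ (by omega) h2 hok (by omega) hHM hne

/-- Being of plus type passes between isometric members. -/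
theorem isPlusTypeOn_of_data (q : QuadraticForm F (ι → F)) {t k : ℕ} {D : Fin t → Submodule F (ι → F)}
    (hD : Data q D k) {i : Fin t} (h : Cfsg.Geo.IsPlusTypeOn ⇑q (D i)) (j : Fin t) :
    Cfsg.Geo.IsPlusTypeOn ⇑q (D j) := by
  obtain ⟨U, hU, hUs, hUd⟩ := h
  obtain ⟨φ, hφ⟩ := hD.isom i j
  obtain ⟨L, hL⟩ : ∃ L : U →ₗ[F] (ι → F), ∀ x : U, L x = (φ (Submodule.inclusion hU x) : ι → F) :=
    ⟨(D j).subtype ∘ₗ φ.toLinearMap ∘ₗ Submodule.inclusion hU, fun x => rfl⟩
  have hLi : Function.Injective L := fun x y hxy => by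
    rw [hL, hL] at hxy
    exact Submodule.inclusion_injective hU (φ.injective (Subtype.ext hxy))
  refine ⟨LinearMap.range L, ?_, fun y hy => ?_, ?_⟩
  · rintro _ ⟨x, rfl⟩
    rw [hL]
    exact (φ _).2
  · obtain ⟨x, rfl⟩ := hy
    rw [hL, hφ]
    exact hUs _ x.2
  · rw [LinearMap.finrank_range_of_inj hLi, hUd, hD.dim, hD.dim]

end CfsgLib.Classical22.OrthDecomp
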