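/-
Symplectic short root elements, and alternating forms that are traces of skew multiples of hermitian forms.
-/
import Cfsg.Agent.Lib.Classical22.UnitOverSpace
import Cfsg.Agent.Lib.Transvec.Symplectic
import Cfsg.Agent.Lib.Transvec.SympSpaces

set_option autoImplicit false

namespace CfsgLib.Classical22.UnitOver

open Matrix CfsgLib.Transvec
open scoped MatrixGroups

variable {ι : Type} [Fintype ι] [DecidableEq ι] {F : Type*} [Field F]
variable {K : Type*} [Field K] [Algebra F K] [Module K (ι → F)] [IsScalarTower F K (ι → F)]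

/-- The product `x ↦ x + f(x,p) w + f(x,w) p` of three transvections. -/
noncomputable def sS (f : (ι → F) → (ι → F) → F) (p w : ι → F) : GL ι F :=
  sT f (p + w) 1 * sT f p (-1) * sT f w (-1)

section Siegel

variable {f : (ι → F) → (ι → F) → F} (hf : Cfsg.Geo.IsSymplecticForm f)
include hf

theorem sS_mulVec {p w : ι → F} (hpw : f p w = 0) (x : ι → F) :
    (sS f p w : Matrix ι ι F) *ᵥ x = x + f x p • w + f x w • p := by
  have hwp : f w p = 0 := by rw [hf.skew, hpw, neg_zero]
  simp only [sS, Transvec.mul_mulVec, sT_mulVec hf, Transvec.add_left' hf, Transvec.add_right' hf,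
    Transvec.smul_left' hf, hpw, hwp, hf.alternating]
  module

theorem sS_symm {p w : ι → F} (hpw : f p w = 0) : sS f p w = sS f w p := gl_ext fun x => by
  rw [sS_mulVec hf hpw, sS_mulVec hf (show f w p = 0 by rw [hf.skew, hpw, neg_zero])]
  abel

theorem sS_conj {g : GL ι F} (hg : Iso f g) (p w : ι → F) :
    g * sS f p w * g⁻¹ = sS f ((g : Matrix ι ι F) *ᵥ p) ((g : Matrix ι ι F) *ᵥ w) := by
  simp only [sS, ← mulVec_add, ← conj_sT_iso hf hg]
  group

theorem sS_mul {p w w' : ι → F} (hw : f p w = 0) (hw' : f p w' = 0) :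
    sS f p w * sS f p w' = sS f p (w + w') * sT f p (f w' w) := gl_ext fun x => by
  have h1 : f p (w + w') = 0 := by rw [Transvec.add_right' hf, hw, hw', add_zero]
  have h2 : f w' p = 0 := by rw [hf.skew, hw', neg_zero]
  simp only [Transvec.mul_mulVec, sS_mulVec hf hw, sS_mulVec hf hw', sS_mulVec hf h1, sT_mulVec hf,
    Transvec.add_left' hf, Transvec.smul_left' hf, Transvec.add_right' hf, hw, hw', h2, hf.alternating]
  module

theorem sS_zero {p : ι → F} : sS f p 0 = 1 := gl_ext fun x => by
  rw [sS_mulVec hf (Transvec.zero_right' hf p)]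
  simp [Transvec.zero_right' hf]

theorem sS_comm_mem {M : Subgroup (GL ι F)} {p w w' : ι → F} (hw : f p w = 0) (hw' : f p w' = 0)
    (hm : sS f p w ∈ M) (hm' : sS f p w' ∈ M) : sT f p (2 * f w' w) ∈ M := by
  have h := M.mul_mem (M.inv_mem (M.mul_mem hm' hm)) (M.mul_mem hm hm')
  rw [sS_mul hf hw hw', sS_mul hf hw' hw, add_comm w' w] at h
  rw [_root_.mul_inv_rev, mul_assoc, inv_mul_cancel_left, sT_inv hf, sT_mul hf] at h
  rwa [two_mul, show f w' w + f w' w = -f w w' + f w' w by rw [← hf.skew w' w]]

end Siegel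

/-- An alternating form that is the trace of a skew multiple of a hermitian form. -/
structure Symp (σ : K ≃+* K) (h : (ι → F) → (ι → F) → K) (δ : K) (f : (ι → F) → (ι → F) → F) : Prop where
  symp : Cfsg.Geo.IsSymplecticForm f
  herm : Herm σ h
  base : ∀ c : F, σ (algebraMap F K c) = algebraMap F K c
  fixed : ∀ k, σ k = k → ∃ c : F, k = algebraMap F K c
  skew_ne : δ ≠ 0
  skew : σ δ = -δ
  two : (2 : F) ≠ 0
  form : ∀ x y, algebraMap F K (f x y) = δ * h x y + σ (δ * h x y)

variable {σ : K ≃+* K} {h : (ι → F) → (ι → F) → K} {δ : K} {f : (ι → F) → (ι → F) → F}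

namespace Symp

variable (E : Symp σ h δ f)
include E

omit [Fintype ι] [DecidableEq ι] [IsScalarTower F K (ι → F)] in
theorem two' : (2 : K) ≠ 0 := by
  rw [← map_ofNat (algebraMap F K) 2, ne_eq, map_eq_zero_iff _ (algebraMap F K).injective]
  exact E.two

omit [Fintype ι] [DecidableEq ι] [IsScalarTower F K (ι → F)] in
theorem form_zero {x y : ι → F} (hxy : h x y = 0) : f x y = 0 :=
  (algebraMap F K).injective (by rw [E.form, hxy, mul_zero, map_zero, add_zero, map_zero])

end Symp

end CfsgLib.Classical22.UnitOver
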