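/-
A group of symplectic maps containing a unitary group over a quadratic extension, in hermitian dimension at least
three: it keeps isotropic lines or contains every transvection, and maps keeping isotropic lines are semilinear.
-/
import Cfsg.Agent.Lib.Classical22.UnitOverSymp

set_option autoImplicit false
set_option linter.all false

namespace CfsgLib.Classical22.UnitOver

open Matrix CfsgLib.Transvec
open scoped MatrixGroups

variable {ι : Type} [Fintype ι] [DecidableEq ι] {F : Type*} [Field F]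
variable {K : Type*} [Field K] [Algebra F K] [Module K (ι → F)] [IsScalarTower F K (ι → F)]
variable {σ : K ≃+* K} {h : (ι → F) → (ι → F) → K} {δ : K} {f : (ι → F) → (ι → F) → F}

namespace Symp

variable (E : Symp σ h δ f)
include E

lemma smul_base (c : F) (x y : ι → F) : h (c • x) y = algebraMap F K c * h x y := by
  rw [← algebraMap_smul K c x, E.herm.smul_left]

lemma smul_base' (c : F) (x y : ι → F) : h x (c • y) = algebraMap F K c * h x y := by
  rw [← algebraMap_smul K c y, E.herm.smul_right, E.base]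

lemma form_fixed {x y : ι → F} (hs : σ (h x y) = h x y) : f x y = 0 :=
  (algebraMap F K).injective (by rw [E.form, map_mul, E.skew, hs, map_zero]; ring)

lemma form_ne {x y : ι → F} (hs : σ (h x y) ≠ h x y) : f x y ≠ 0 := fun e => hs (by
  have h1 := congrArg (algebraMap F K) e
  rw [E.form, map_zero, map_mul, E.skew] at h1
  exact (sub_eq_zero.1 ((mul_eq_zero.1 (show δ * (h x y - σ (h x y)) = 0 by linear_combination h1)).resolve_left
    E.skew_ne)).symm)

lemma skew_sq : σ (δ * δ) = δ * δ := by rw [map_mul, E.skew]; ring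

lemma one_add_ne : (1 : K) + δ ≠ 0 := fun e => E.two' (by
  have := congrArg σ e
  rw [map_add, map_one, E.skew, map_zero] at this
  linear_combination e + this)

lemma one_sub_ne : (1 : K) - δ ≠ 0 := fun e => E.two' (by
  have := congrArg σ e
  rw [map_sub, map_one, E.skew, map_zero] at this
  linear_combination e + this)

/-- A scalar of non-real norm defect: the rotation coefficient. -/
lemma exists_rot {c : ι → F} (hc : h c c ≠ 0) : ∃ μ, μ + σ μ + μ * σ μ * h c c = 0 ∧ σ μ ≠ μ := by
  obtain ⟨μ, hμ⟩ : ∃ μ, μ = 2 * δ / ((1 - δ) * h c c) := ⟨_, rfl⟩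
  have hσ : σ μ = -(2 * δ) / ((1 + δ) * h c c) := by
    rw [hμ]
    simp [map_div₀, E.skew, E.herm.self_fixed, map_ofNat, sub_neg_eq_add]
  have h1 := E.one_sub_ne
  have h2 := E.one_add_ne
  refine ⟨μ, ?_, fun e => ?_⟩
  · rw [hσ, hμ]; field_simp; ring
  · rw [hσ, hμ, div_eq_div_iff (mul_ne_zero h2 hc) (mul_ne_zero h1 hc)] at e
    have e' : δ * h c c * (2 * 2) = 0 := by linear_combination -e
    exact mul_ne_zero (mul_ne_zero E.skew_ne hc) (mul_ne_zero E.two' E.two') e'

/-- Polarisation of a sum with an anisotropic or isotropic vector. -/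
lemma exists_aniso_perp [Finite K] [FiniteDimensional K (ι → F)] {P : Submodule K (ι → F)} {x : ι → F}
    (hx : ∀ p ∈ P, h x p = 0) (hxP : x ∉ P) : ∃ c, (∀ p ∈ P, h c p = 0) ∧ h c c ≠ 0 := by
  by_cases h1 : h x x = 0
  swap
  · exact ⟨x, hx, h1⟩
  obtain ⟨r, hr, hrx⟩ := E.herm.exists_sep hxP
  by_cases h2 : h r r = 0
  swap
  · exact ⟨r, hr, h2⟩
  refine ⟨x + r, fun p hp => by rw [E.herm.add_left, hx p hp, hr p hp, add_zero], ?_⟩
  rw [E.herm.add_left, E.herm.add_right, E.herm.add_right, h1, h2, hrx, E.herm.herm x r, hrx, map_one]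
  intro e
  exact E.two' (by linear_combination e)

variable [Finite K] [FiniteDimensional K (ι → F)] (hd : 3 ≤ Module.finrank K (ι → F))
include hd

/-- An anisotropic vector orthogonal to one vector and not to a second one. -/
lemma exists_aniso_ne {a b : ι → F} (hb : b ∉ Submodule.span K {a}) :
    ∃ c, h c c ≠ 0 ∧ h c a = 0 ∧ h b c ≠ 0 := by
  have ha : a ∈ Submodule.span K {a} := Submodule.mem_span_singleton_self a
  obtain ⟨r, hr, hrb⟩ := E.herm.exists_sep hb
  have hbr : h b r ≠ 0 := fun e => by rw [E.herm.zero_comm.1 e] at hrb; exact zero_ne_one hrb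
  by_cases h1 : h r r = 0
  swap
  · exact ⟨r, h1, hr a ha, hbr⟩
  obtain ⟨x, hx, hxP⟩ : ∃ x, x ∈ E.herm.perp (Submodule.span K {a}) ∧ x ∉ Submodule.span K {a} := by
    refine SetLike.not_le_iff_exists.1 fun hle => ?_
    have h2 := Submodule.finrank_mono hle
    have h3 := E.herm.finrank_le_perp (Submodule.span K {a})
    have h4 : Module.finrank K (Submodule.span K ({a} : Set (ι → F))) ≤ 1 :=
      (finrank_span_le_card _).trans (by simp)
    omega
  obtain ⟨c, hc, hcc⟩ := E.exists_aniso_perp hx hxP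
  by_cases h2 : h b c = 0
  swap
  · exact ⟨c, hcc, hc a ha, h2⟩
  by_cases h3 : h (r + c) (r + c) = 0
  swap
  · exact ⟨r + c, h3, by rw [E.herm.add_left, hr a ha, hc a ha, add_zero],
      by rw [E.herm.add_right, h2, add_zero]; exact hbr⟩
  refine ⟨r - c, fun h4 => ?_, by rw [E.herm.sub_left, hr a ha, hc a ha, sub_zero],
    by rw [E.herm.sub_right, h2, sub_zero]; exact hbr⟩
  rw [E.herm.add_left, E.herm.add_right, E.herm.add_right, h1] at h3
  rw [E.herm.sub_left, E.herm.sub_right, E.herm.sub_right, h1] at h4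
  exact mul_ne_zero E.two' hcc (by linear_combination h3 + h4)

variable {M : Subgroup (GL ι F)}
  (hM : ∀ g : GL ι F, Iso f g →
    (∀ (k : K) x, (g : Matrix ι ι F) *ᵥ (k • x) = k • ((g : Matrix ι ι F) *ᵥ x)) → g ∈ M)
include hM

omit [Finite K] [FiniteDimensional K (ι → F)] hd in
/-- A quasi-reflection of the unitary group. -/
lemma exists_qref {c : ι → F} {μ : K} (hμ : μ + σ μ + μ * σ μ * h c c = 0) :
    ∃ R ∈ M, Iso f R ∧ ∀ x, (R : Matrix ι ι F) *ᵥ x = x + (μ * h x c) • c := by
  obtain ⟨L, hL⟩ : ∃ L : (ι → F) →ₗ[K] (ι → F), ∀ x, L x = x + (μ * h x c) • c :=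
    ⟨LinearMap.id + (μ • E.herm.lin c).smulRight c, fun x => rfl⟩
  have hh : ∀ x y, h (L x) (L y) = h x y := fun x y => by
    rw [hL, hL, E.herm.add_left, E.herm.add_right, E.herm.add_right, E.herm.smul_left, E.herm.smul_left,
      E.herm.smul_right, E.herm.smul_right, map_mul, E.herm.herm c y]
    linear_combination (h x c * σ (h y c)) * hμ
  have hiso : ∀ x y, f (L.restrictScalars F x) (L.restrictScalars F y) = f x y := fun x y =>
    (algebraMap F K).injective (by rw [E.form, E.form]; simp only [LinearMap.restrictScalars_apply, hh])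
  obtain ⟨R, hR⟩ : ∃ R, R = glOfInjective (L.restrictScalars F) (injective_of_isometric E.symp hiso) := ⟨_, rfl⟩
  have hRx : ∀ x, (R : Matrix ι ι F) *ᵥ x = L x := fun x => by rw [hR, glOfInjective_mulVec]; rfl
  have hRi : Iso f R := fun x y => by rw [hRx, hRx]; exact hiso x y
  exact ⟨R, hM R hRi fun k x => by rw [hRx, hRx, map_smul], hRi, fun x => by rw [hRx, hL]⟩

omit [Finite K] [FiniteDimensional K (ι → F)] hd in
/-- Short root elements along an anisotropic vector give all transvections at their centre. -/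
lemma full_short {m w : ι → F} (hw : h w w ≠ 0) (hmw : h m w = 0)
    (hm : ∀ t : F, sS f m (t • w) ∈ M) : Full f M m := by
  obtain ⟨μ, hμ, hμ'⟩ := E.exists_rot hw
  obtain ⟨R, hRM, hRi, hR⟩ := E.exists_qref hM hμ
  have hRm : (R : Matrix ι ι F) *ᵥ m = m := by rw [hR, hmw, mul_zero, zero_smul, add_zero]
  obtain ⟨w', hw'⟩ : ∃ w', w' = (R : Matrix ι ι F) *ᵥ w := ⟨_, rfl⟩
  have hw'm : ∀ t : F, sS f m (t • w') ∈ M := fun t => by
    have := M.mul_mem (M.mul_mem hRM (hm t)) (M.inv_mem hRM)
    rwa [sS_conj E.symp hRi, hRm, mulVec_smul, ← hw'] at this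
  have hne : f w' w ≠ 0 := E.form_ne (by
    rw [hw', hR, E.herm.add_left, E.herm.smul_left, map_add, map_mul, map_mul, E.herm.self_fixed]
    intro e
    exact hμ' (mul_right_cancel₀ (mul_ne_zero hw hw) (by linear_combination e)))
  have hfm : f m w = 0 := E.form_zero hmw
  have hfm' : f m w' = 0 := by
    rw [hw']
    nth_rewrite 1 [← hRm]
    rw [hRi, hfm]
  intro s
  have h1 := sS_comm_mem E.symp (p := m) (w := (1 : F) • w) (w' := (s / (2 * f w' w)) • w')
    (by rw [one_smul, hfm]) (by rw [Transvec.smul_right' E.symp, hfm', mul_zero]) (hm 1) (hw'm _)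
  rwa [one_smul, Transvec.smul_left' E.symp, show (2 : F) * (s / (2 * f w' w) * f w' w) = s by
    have := E.two; field_simp] at h1

variable (h2 : ∀ θ : K, (∀ c : F, θ ≠ algebraMap F K c) → ∀ k, ∃ a b : F, k = algebraMap F K a + algebraMap F K b * θ)
include h2

omit [Finite K] [FiniteDimensional K (ι → F)] hd in
/-- A full vector makes the anisotropic lines not orthogonal to it full. -/
lemma full_line {m c : ι → F} (hm : Full f M m) (hc : h c c ≠ 0) (hmc : h m c ≠ 0) (k : K) :
    Full f M (k • c) := by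
  obtain ⟨μ, hμ, hμ'⟩ := E.exists_rot hc
  have hμ0 : μ ≠ 0 := fun e => hμ' (by rw [e, map_zero])
  obtain ⟨R, hRM, hRi, hR⟩ := E.exists_qref hM hμ
  have hy := full_conj E.symp hRM hRi hm
  have hne : f ((R : Matrix ι ι F) *ᵥ m) m ≠ 0 := E.form_ne (by
    rw [hR, E.herm.add_left, E.herm.smul_left, E.herm.herm c m, map_add, map_mul, map_mul, E.herm.self_fixed,
      E.herm.invol]
    intro e
    exact hμ' (mul_right_cancel₀ (mul_ne_zero hmc ((map_ne_zero_iff _ σ.injective).2 hmc))
      (by linear_combination e)))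
  obtain ⟨w, hw⟩ : ∃ w, w = (μ * h m c) • c := ⟨_, rfl⟩
  have hfw : Full f M w := by
    have h1 := full_add_smul E.symp hy hm hne (-1)
    rwa [hR, neg_one_smul, add_neg_cancel_comm, ← hw] at h1
  obtain ⟨l, hl⟩ : ∃ l, l = 1 + μ * h c c := ⟨_, rfl⟩
  have hlw : Full f M (l • w) := by
    have := full_conj E.symp hRM hRi hfw
    rwa [hR, show w + (μ * h w c) • c = l • w by rw [hl, hw, E.herm.smul_left]; module] at this
  have hls : σ l ≠ l := fun e => hμ' (mul_right_cancel₀ hc (by
    rw [hl, map_add, map_one, map_mul, E.herm.self_fixed] at e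
    linear_combination e))
  have hww : h w w ≠ 0 := by
    rw [hw, E.herm.smul_left, E.herm.smul_right]
    exact mul_ne_zero (mul_ne_zero hμ0 hmc)
      (mul_ne_zero ((map_ne_zero_iff _ σ.injective).2 (mul_ne_zero hμ0 hmc)) hc)
  have hne' : f w (l • w) ≠ 0 := E.form_ne (by
    rw [E.herm.smul_right, map_mul, E.herm.invol, E.herm.self_fixed]
    exact fun e => hls (mul_right_cancel₀ hww e).symm)
  obtain ⟨α, γ, hk⟩ := h2 l (fun d e => hls (by rw [e, E.base])) (k / (μ * h m c))
  have e : k • c = α • w + γ • (l • w) := by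
    rw [← algebraMap_smul K α w, ← algebraMap_smul K γ (l • w), smul_smul, ← add_smul, ← hk, hw, smul_smul,
      div_mul_cancel₀ _ (mul_ne_zero hμ0 hmc)]
  rw [e]
  by_cases hα : α = 0
  · rw [hα, zero_smul, zero_add]
    exact full_smul E.symp hlw γ
  · exact full_add_smul E.symp (full_smul E.symp hfw α) hlw
      (by rw [Transvec.smul_left' E.symp]; exact mul_ne_zero hα hne') γ

/-- One full vector gives all of them. -/
theorem full_spread {m : ι → F} (hm0 : m ≠ 0) (hm : Full f M m) (u : ι → F) : Full f M u := by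
  have hbot : ∀ {x : ι → F}, x ≠ 0 → ∃ c, h c c ≠ 0 ∧ h x c ≠ 0 := fun {x} hx => by
    obtain ⟨c, hc, -, hxc⟩ := E.exists_aniso_ne hd (a := 0) (b := x) (by
      rwa [Submodule.span_singleton_eq_bot.2 rfl, Submodule.mem_bot])
    exact ⟨c, hc, hxc⟩
  have hall : ∀ c : ι → F, h c c ≠ 0 → ∀ k : K, Full f M (k • c) := by
    intro c hc k
    by_cases hmc : h m c = 0
    swap
    · exact E.full_line hM h2 hm hc hmc k
    obtain ⟨d, hd', hmd⟩ := hbot hm0
    have hd1 : Full f M d := by have := E.full_line hM h2 hm hd' hmd 1; rwa [one_smul] at this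
    by_cases hdc : h d c = 0
    swap
    · exact E.full_line hM h2 hd1 hc hdc k
    obtain ⟨t, ht0, hdt⟩ : ∃ t : K, t ≠ 0 ∧ h (d + t • c) (d + t • c) ≠ 0 := by
      by_contra hcon
      simp only [not_exists, not_and, not_not] at hcon
      have e1 := hcon 1 one_ne_zero
      have e2 := hcon (1 + δ) E.one_add_ne
      simp only [E.herm.add_left, E.herm.add_right, E.herm.smul_left, E.herm.smul_right, map_add, map_one, E.skew,
        hdc, E.herm.zero_comm.1 hdc, mul_zero, add_zero, zero_add] at e1 e2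
      exact mul_ne_zero (mul_ne_zero E.skew_ne E.skew_ne) hc (by linear_combination e1 - e2)
    have hd2 : Full f M ((1 : K) • (d + t • c)) := E.full_line hM h2 hm hdt (by
      rw [E.herm.add_right, E.herm.smul_right, hmc, mul_zero, add_zero]; exact hmd) 1
    rw [one_smul] at hd2
    refine E.full_line hM h2 hd2 hc ?_ k
    rw [E.herm.add_left, E.herm.smul_left, hdc, zero_add]
    exact mul_ne_zero ht0 hc
  have hone : ∀ c : ι → F, h c c ≠ 0 → Full f M c := fun c hc => by
    have := hall c hc 1; rwa [one_smul] at this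
  rcases eq_or_ne u 0 with rfl | hu0
  · exact full_zero E.symp
  obtain ⟨c, hc, huc⟩ := hbot hu0
  have huc' : σ (h u c) ≠ 0 := (map_ne_zero_iff _ σ.injective).2 huc
  obtain ⟨k, hk⟩ : ∃ k : K → K, ∀ j, k j = σ j / h c u := ⟨_, fun _ => rfl⟩
  have hhk : ∀ j, h u (k j • c) = j ∧ h (k j • c) u = σ j := fun j => by
    have e : h (k j • c) u = σ j := by
      rw [E.herm.smul_left, hk, div_mul_cancel₀]
      rw [E.herm.herm c u]; exact huc'
    exact ⟨by rw [E.herm.herm, e, E.herm.invol], e⟩
  obtain ⟨j, hj, hju⟩ : ∃ j, σ j ≠ j ∧ h (u - k j • c) (u - k j • c) ≠ 0 := by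
    by_contra hcon
    simp only [not_exists, not_and, not_not] at hcon
    have hs : ∀ s : K, σ s = s → σ (s + δ) ≠ s + δ := fun s hs e => by
      rw [map_add, hs, E.skew] at e
      exact mul_ne_zero E.two' E.skew_ne (by linear_combination -e)
    have e1 := hcon (1 + δ) (hs 1 (map_one σ))
    have e2 := hcon (-1 + δ) (hs (-1) (by rw [map_neg, map_one]))
    simp only [E.herm.sub_left, E.herm.sub_right, (hhk _).1, (hhk _).2] at e1 e2
    simp only [E.herm.smul_left, E.herm.smul_right, hk, map_div₀, E.herm.invol, map_add, map_neg, map_one,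
      E.skew] at e1 e2
    exact mul_ne_zero E.two' E.two' (by linear_combination e2 - e1)
  have hkj : k j ≠ 0 := fun e => hj (by
    have := (hhk j).1
    rw [e, zero_smul, E.herm.zero_right] at this
    rw [← this, map_zero])
  have hne : f (k j • c) (u - k j • c) ≠ 0 := by
    rw [Transvec.sub_right' E.symp, E.symp.alternating, sub_zero]
    refine E.form_ne ?_
    rw [(hhk j).2, E.herm.invol]
    exact fun e => hj e.symm
  have := full_add_smul E.symp (hall c hc (k j)) (hone _ hju) hne 1
  rwa [one_smul, add_sub_cancel] at this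

/-- The conjugate of a long root subgroup gives every transvection once a suitable reflection exists. -/
theorem full_of_reflection (hMi : ∀ g ∈ M, Iso f g) {g : GL ι F} (hg : g ∈ M) {v c : ι → F} (hv : h v v = 0)
    (hc : h c c ≠ 0) (hca : h c ((g : Matrix ι ι F) *ᵥ v) = 0) (hbc : h ((g : Matrix ι ι F) *ᵥ (δ • v)) c ≠ 0)
    (hbm : (g : Matrix ι ι F) *ᵥ (δ • v) ∉ Submodule.span K {c}) (u : ι → F) : Full f M u := by
  obtain ⟨a, ha⟩ : ∃ a, a = (g : Matrix ι ι F) *ᵥ v := ⟨_, rfl⟩
  obtain ⟨b, hb⟩ : ∃ b, b = (g : Matrix ι ι F) *ᵥ (δ • v) := ⟨_, rfl⟩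
  rw [← ha] at hca
  rw [← hb] at hbc hbm
  obtain ⟨ν, hν⟩ := E.fixed (δ * δ) E.skew_sq
  obtain ⟨e, he⟩ : ∃ e : F, algebraMap F K e = -(δ * δ)⁻¹ := ⟨-ν⁻¹, by rw [map_neg, map_inv₀, hν]⟩
  have he0 : e ≠ 0 := fun e0 => by
    rw [e0, map_zero, eq_comm, neg_eq_zero, inv_eq_zero] at he
    exact mul_ne_zero E.skew_ne E.skew_ne he
  have hvd : f v (δ • v) = 0 := E.form_zero (by rw [E.herm.smul_right, hv, mul_zero])
  have hdv : f (δ • v) v = 0 := E.form_zero (by rw [E.herm.smul_left, hv, mul_zero])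
  have hi := hMi g hg
  have hY : ∀ t : F, sT f a t * sT f b (t * e) ∈ M := fun t => by
    obtain ⟨T, hT⟩ : ∃ T, T = sT f v t * sT f (δ • v) (t * e) := ⟨_, rfl⟩
    have hTx : ∀ x, (T : Matrix ι ι F) *ᵥ x = x + (algebraMap F K t * (2 * (δ * h x v))) • v := by
      intro x
      rw [hT, Transvec.mul_mulVec, sT_mulVec E.symp, sT_mulVec E.symp, Transvec.add_left' E.symp,
        Transvec.smul_left' E.symp, hdv, mul_zero, add_zero, ← algebraMap_smul K (t * f x v),
        ← algebraMap_smul K (t * e * f x (δ • v)), smul_smul, add_assoc, ← add_smul, map_mul, map_mul, map_mul, he,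
        E.form, E.form, E.herm.smul_right, E.skew]
      congr 2
      simp only [map_mul, map_neg, E.skew]
      have hd := E.skew_ne
      field_simp
      ring
    have hTM : T ∈ M := hM T (hT ▸ (iso_sT E.symp _ _).mul (iso_sT E.symp _ _)) fun k x => by
      rw [hTx, hTx, E.herm.smul_left]; module
    have hY := M.mul_mem (M.mul_mem hg hTM) (M.inv_mem hg)
    rwa [hT, show g * (sT f v t * sT f (δ • v) (t * e)) * g⁻¹ =
        g * sT f v t * g⁻¹ * (g * sT f (δ • v) (t * e) * g⁻¹) by group,
      conj_sT_iso E.symp hi, conj_sT_iso E.symp hi, ← ha, ← hb] at hY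
  obtain ⟨μ, hμ⟩ : ∃ μ, μ = -2 / h c c := ⟨_, rfl⟩
  have hμσ : σ μ = μ := by rw [hμ, map_div₀, map_neg, map_ofNat, E.herm.self_fixed]
  have hμ' : μ + σ μ + μ * σ μ * h c c = 0 := by rw [hμσ, hμ]; field_simp; ring
  obtain ⟨R, hRM, hRi, hR⟩ := E.exists_qref hM hμ'
  obtain ⟨w, hw⟩ : ∃ w, w = (μ * h b c) • c := ⟨_, rfl⟩
  obtain ⟨m, hm⟩ : ∃ m, m = b + (2⁻¹ : F) • w := ⟨_, rfl⟩
  have hRa : (R : Matrix ι ι F) *ᵥ a = a := by
    rw [hR, E.herm.zero_comm.1 hca, mul_zero, zero_smul, add_zero]
  have hRb : (R : Matrix ι ι F) *ᵥ b = b + w := by rw [hR, hw]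
  have hab : f a b = 0 := by rw [ha, hb, hi]; exact hvd
  have hba : f b a = 0 := by rw [ha, hb, hi]; exact hdv
  have hwa : f w a = 0 := E.form_zero (by rw [hw, E.herm.smul_left, hca, mul_zero])
  have haw : f a w = 0 := by rw [E.symp.skew, hwa, neg_zero]
  have hbw : f b w = 0 := E.form_fixed (by
    rw [hw, E.herm.smul_right]; simp only [map_mul, hμσ, E.herm.invol]; ring)
  have hwb : f w b = 0 := by rw [E.symp.skew, hbw, neg_zero]
  have hmw : h m w = 0 := by
    rw [hm, hw, E.herm.add_left, E.smul_base, E.herm.smul_right, E.herm.smul_left, E.herm.smul_right, map_inv₀,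
      map_ofNat, hμ]
    have := E.two'
    field_simp
    ring
  have hμ0 : μ ≠ 0 := by rw [hμ]; exact div_ne_zero (neg_ne_zero.2 E.two') hc
  have hww : h w w ≠ 0 := by
    rw [hw, E.herm.smul_left, E.herm.smul_right]
    exact mul_ne_zero (mul_ne_zero hμ0 hbc)
      (mul_ne_zero ((map_ne_zero_iff _ σ.injective).2 (mul_ne_zero hμ0 hbc)) hc)
  have hm0 : m ≠ 0 := fun e0 => hbm (by
    rw [show b = -((2⁻¹ : F) • w) by rw [hm] at e0; exact eq_neg_of_add_eq_zero_left e0, hw,
      ← algebraMap_smul K (2⁻¹ : F), smul_smul]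
    exact Submodule.neg_mem _ (Submodule.smul_mem _ _ (Submodule.mem_span_singleton_self c)))
  have hfmw : f m w = 0 := E.form_zero hmw
  have hfull : Full f M m := E.full_short hM hww hmw fun t => by
    have h1 := M.mul_mem (M.mul_mem (M.mul_mem hRM (hY (t / e))) (M.inv_mem hRM)) (M.inv_mem (hY (t / e)))
    rw [show R * (sT f a (t / e) * sT f b (t / e * e)) * R⁻¹ * (sT f a (t / e) * sT f b (t / e * e))⁻¹ =
        R * sT f a (t / e) * R⁻¹ * (R * sT f b (t / e * e) * R⁻¹) * (sT f b (t / e * e))⁻¹ * (sT f a (t / e))⁻¹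
        by group,
      conj_sT_iso E.symp hRi, conj_sT_iso E.symp hRi, hRa, hRb, sT_inv E.symp, sT_inv E.symp,
      div_mul_cancel₀ _ he0] at h1
    convert h1 using 1
    refine gl_ext fun x => ?_
    have h20 : (2 : F) ≠ 0 := E.two
    rw [sS_mulVec E.symp (by rw [Transvec.smul_right' E.symp, hfmw, mul_zero]), hm]
    simp only [Transvec.mul_mulVec, sT_mulVec E.symp, Transvec.add_left' E.symp, Transvec.add_right' E.symp,
      Transvec.smul_left' E.symp, Transvec.smul_right' E.symp, hab, hba, hwa, haw, hbw, hwb, E.symp.alternating]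
    match_scalars <;> field_simp <;> ring
  exact E.full_spread hd hM h2 hm0 hfull u

/-- Either every transvection or isotropic lines are kept. -/
theorem full_or_lines_three (hMi : ∀ g ∈ M, Iso f g) :
    (∀ u, Full f M u) ∨ ∀ g ∈ M, ∀ v, h v v = 0 → ∀ k : K, ∃ k' : K,
      (g : Matrix ι ι F) *ᵥ (k • v) = k' • ((g : Matrix ι ι F) *ᵥ v) := by
  by_cases hfull : ∀ u, Full f M u
  · exact Or.inl hfull
  refine Or.inr fun g hg v hv k => ?_
  suffices key : ∃ t : K, (g : Matrix ι ι F) *ᵥ (δ • v) = t • ((g : Matrix ι ι F) *ᵥ v) by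
    obtain ⟨t, ht⟩ := key
    obtain ⟨α, γ, hk⟩ := h2 δ (fun c e => mul_ne_zero E.two' E.skew_ne (by
      have := E.skew
      rw [e, E.base] at this
      rw [e]
      linear_combination this)) k
    refine ⟨algebraMap F K α + algebraMap F K γ * t, ?_⟩
    rw [hk, add_smul, add_smul, mul_smul, mul_smul, mulVec_add, algebraMap_smul, algebraMap_smul, mulVec_smul,
      mulVec_smul, ht, algebraMap_smul, algebraMap_smul]
  by_contra hne
  refine hfull fun u => ?_
  have pair : ∀ v', h v' v' = 0 →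
      (g : Matrix ι ι F) *ᵥ (δ • v') ∉ Submodule.span K {(g : Matrix ι ι F) *ᵥ v'} →
      h ((g : Matrix ι ι F) *ᵥ v') ((g : Matrix ι ι F) *ᵥ (δ • v')) ≠ 0 → Full f M u := by
    intro v' hv' hnm hab
    obtain ⟨c, hc, hca, hbc⟩ := E.exists_aniso_ne hd hnm
    refine E.full_of_reflection hd hM h2 hMi hg hv' hc hca hbc (fun hm => ?_) u
    obtain ⟨s, hs⟩ := Submodule.mem_span_singleton.1 hm
    exact hab (E.herm.zero_comm.1 (by rw [← hs, E.herm.smul_left, hca, mul_zero]))
  obtain ⟨a, ha⟩ : ∃ a, a = (g : Matrix ι ι F) *ᵥ v := ⟨_, rfl⟩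
  obtain ⟨b, hb⟩ : ∃ b, b = (g : Matrix ι ι F) *ᵥ (δ • v) := ⟨_, rfl⟩
  rw [← ha, ← hb] at hne
  have hnm : b ∉ Submodule.span K {a} := fun hm => hne (by
    obtain ⟨s, hs⟩ := Submodule.mem_span_singleton.1 hm; exact ⟨s, hs.symm⟩)
  by_cases hab : h a b = 0
  swap
  · exact pair v hv (by rw [← ha, ← hb]; exact hnm) (by rw [← ha, ← hb]; exact hab)
  have hba := E.herm.zero_comm.1 hab
  obtain ⟨ν, hν⟩ := E.fixed (δ * δ) E.skew_sq
  obtain ⟨v', hv'⟩ : ∃ v', v' = (1 + δ) • v := ⟨_, rfl⟩
  have ha' : (g : Matrix ι ι F) *ᵥ v' = a + b := by rw [hv', add_smul, one_smul, mulVec_add, ← ha, ← hb]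
  have hb' : (g : Matrix ι ι F) *ᵥ (δ • v') = b + ν • a := by
    rw [hv', smul_smul, mul_add, mul_one, hν, add_smul, algebraMap_smul, mulVec_add, mulVec_smul, ← ha, ← hb]
  by_cases hN : algebraMap F K ν * h a a + h b b = 0
  swap
  · refine pair v' (by rw [hv', E.herm.smul_left, E.herm.smul_right, hv, mul_zero, mul_zero]) ?_ ?_
    · rw [ha', hb']
      intro hm
      obtain ⟨s, hs⟩ := Submodule.mem_span_singleton.1 hm
      have e : (1 - s) • b + (algebraMap F K ν - s) • a = 0 := by
        rw [sub_smul, sub_smul, one_smul, algebraMap_smul]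
        linear_combination (norm := module) -hs
      by_cases hs1 : (1 : K) - s = 0
      · rw [hs1, zero_smul, zero_add, smul_eq_zero, ← hν, show s = 1 from (sub_eq_zero.1 hs1).symm] at e
        rcases e with e | e
        · have h1 : δ * δ = 1 := sub_eq_zero.1 e
          rcases mul_self_eq_one_iff.1 h1 with h' | h'
          · exact E.one_sub_ne (by rw [h', sub_self])
          · exact E.one_add_ne (by rw [h', add_neg_cancel])
        · have hv0 : v = 0 := mulVec_injective g (show (g : Matrix ι ι F) *ᵥ v = (g : Matrix ι ι F) *ᵥ 0 by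
            rw [mulVec_zero, ← ha, e])
          exact hne ⟨0, by rw [hb, hv0, smul_zero, mulVec_zero, zero_smul]⟩
      · refine hnm ((Submodule.smul_mem_iff _ hs1).1 ?_)
        rw [eq_neg_of_add_eq_zero_left e]
        exact Submodule.neg_mem _ (Submodule.smul_mem _ _ (Submodule.mem_span_singleton_self a))
    · rw [ha', hb', E.herm.add_left, E.herm.add_right, E.herm.add_right, E.smul_base', E.smul_base', hab, hba,
        mul_zero, zero_add, add_zero]
      exact hN
  -- the image is orthogonal for the two products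
  by_cases hbb : h b b = 0
  · obtain ⟨c, hc, hca, hbc⟩ := E.exists_aniso_ne hd hnm
    refine E.full_of_reflection hd hM h2 hMi hg hv hc (by rw [← ha]; exact hca) (by rw [← hb]; exact hbc) ?_ u
    rw [← hb]
    intro hm
    obtain ⟨s, hs⟩ := Submodule.mem_span_singleton.1 hm
    rw [← hs, E.herm.smul_left, E.herm.smul_right, mul_eq_zero, mul_eq_zero, map_eq_zero_iff _ σ.injective] at hbb
    have hs0 : s = 0 := hbb.elim id fun h' => h'.elim id fun h'' => absurd h'' hc
    exact hbc (by rw [← hs, hs0, zero_smul, E.herm.zero_left])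
  have haa : h a a ≠ 0 := fun e => hbb (by rwa [e, mul_zero, zero_add] at hN)
  obtain ⟨x, hx, hxP⟩ : ∃ x, x ∈ E.herm.perp (Submodule.span K {a, b}) ∧ x ∉ Submodule.span K {a, b} := by
    obtain ⟨x, hx, hx0⟩ := Submodule.exists_mem_ne_zero_of_ne_bot
      (p := E.herm.perp (Submodule.span K {a, b})) fun e => by
        have h1 := E.herm.finrank_le_perp (Submodule.span K ({a, b} : Set (ι → F)))
        have h3 := Herm.finrank_pair_le (K := K) a b
        rw [e, finrank_bot] at h1
        omega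
    refine ⟨x, hx, fun hm => hx0 ?_⟩
    obtain ⟨s, t, rfl⟩ := Submodule.mem_span_pair.1 hm
    have h1 := hx a (Submodule.subset_span (by simp))
    have h3 := hx b (Submodule.subset_span (by simp))
    rw [E.herm.add_left, E.herm.smul_left, E.herm.smul_left, hba, mul_zero, add_zero, mul_eq_zero] at h1
    rw [E.herm.add_left, E.herm.smul_left, E.herm.smul_left, hab, mul_zero, zero_add, mul_eq_zero] at h3
    rw [h1.resolve_right haa, h3.resolve_right hbb, zero_smul, zero_smul, add_zero]
  obtain ⟨c₁, hc₁, hcc₁⟩ := E.exists_aniso_perp hx hxP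
  have hc₁a := hc₁ a (Submodule.subset_span (by simp))
  have hc₁b := hc₁ b (Submodule.subset_span (by simp))
  obtain ⟨t, ht0, hcc⟩ : ∃ t : K, t ≠ 0 ∧ h (b + t • c₁) (b + t • c₁) ≠ 0 := by
    by_contra hcon
    simp only [not_exists, not_and, not_not] at hcon
    have e1 := hcon 1 one_ne_zero
    have e2 := hcon (1 + δ) E.one_add_ne
    simp only [E.herm.add_left, E.herm.add_right, E.herm.smul_left, E.herm.smul_right, map_add, map_one, E.skew,
      hc₁b, E.herm.zero_comm.1 hc₁b, mul_zero, add_zero, zero_add] at e1 e2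
    exact mul_ne_zero (mul_ne_zero E.skew_ne E.skew_ne) hcc₁ (by linear_combination e1 - e2)
  refine E.full_of_reflection hd hM h2 hMi hg hv hcc ?_ ?_ ?_ u
  · rw [← ha, E.herm.add_left, E.herm.smul_left, hba, hc₁a, mul_zero, add_zero]
  · rw [← hb, E.herm.add_right, E.herm.smul_right, E.herm.zero_comm.1 hc₁b, mul_zero, add_zero]
    exact hbb
  · rw [← hb]
    intro hm
    obtain ⟨s, hs⟩ := Submodule.mem_span_singleton.1 hm
    have e1 := congrArg (fun z => h z b) hs
    have e2 := congrArg (fun z => h z c₁) hs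
    simp only [E.herm.smul_left, E.herm.add_left, hc₁b, E.herm.zero_comm.1 hc₁b, mul_zero, add_zero, zero_add,
      mul_eq_zero, ht0, hcc₁, false_or, or_false] at e1 e2
    rw [e2, zero_mul] at e1
    exact hbb e1.symm

omit hM in
/-- An injective linear map carrying isotropic lines into lines is semilinear. -/
theorem semilinear_three {g : (ι → F) →ₗ[F] (ι → F)} (hg : Function.Injective g)
    (hline : ∀ v, h v v = 0 → ∀ k : K, ∃ k' : K, g (k • v) = k' • g v) (k : K) :
    ∃ k' : K, ∀ x, g (k • x) = k' • g x := by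
  have H := E.herm
  choose φ hφ using hline
  have hφ1 : ∀ {u : ι → F} (hu : h u u = 0), u ≠ 0 → φ u hu 1 = 1 := fun {u} hu hu0 => by
    refine smul_left_injective K (fun e => hu0 (hg (e.trans (map_zero g).symm))) ?_
    simp only [one_smul]
    rw [← hφ u hu, one_smul]
  have hind : ∀ {u w : ι → F} (hu : h u u = 0), u ≠ 0 → w ∉ Submodule.span K {u} → ∀ s t : K,
      s • g u + t • g w = 0 → t = 0 := by
    intro u w hu hu0 hw s t he
    by_contra ht
    have h1 : g w = (-t⁻¹ * s) • g u := by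
      rw [← inv_smul_smul₀ ht (g w), eq_neg_of_add_eq_zero_right he, smul_neg, smul_smul, neg_mul, neg_smul]
    have hinj : Function.Injective (φ u hu) := fun a b e => smul_left_injective K hu0 (hg (by simp only [hφ u hu, e]))
    obtain ⟨l, hl⟩ := (Finite.injective_iff_surjective.1 hinj) (-t⁻¹ * s)
    exact hw (Submodule.mem_span_singleton.2 ⟨l, hg (by rw [hφ u hu, hl, h1])⟩)
  -- isotropic vectors with a skew product
  have hskew : ∀ {u w : ι → F} (hu : h u u = 0) (hw : h w w = 0), u ≠ 0 → w ∉ Submodule.span K {u} →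
      σ (h u w) = -h u w → φ u hu = φ w hw := by
    intro u w hu hw hu0 hwu huw
    funext l
    have hs : h (u + w) (u + w) = 0 := by
      rw [H.add_left, H.add_right, H.add_right, hu, hw, H.herm w u, huw]; ring
    have hu0' : g u ≠ 0 := fun e => hu0 (hg (e.trans (map_zero g).symm))
    have h1 := hφ (u + w) hs l
    rw [smul_add, map_add, map_add, hφ u hu, hφ w hw, smul_add] at h1
    have h3 := hind hu hu0 hwu (φ u hu l - φ (u + w) hs l) (φ w hw l - φ (u + w) hs l)
      (by rw [sub_smul, sub_smul]; linear_combination (norm := module) h1)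
    rw [← sub_eq_zero.1 h3, add_left_inj] at h1
    exact smul_left_injective K hu0' h1
  have hnotmem : ∀ {u w : ι → F}, h u u = 0 → h u w ≠ 0 → w ∉ Submodule.span K {u} := fun {u w} hu hne hm => by
    obtain ⟨s, rfl⟩ := Submodule.mem_span_singleton.1 hm
    exact hne (by rw [H.smul_right, hu, mul_zero])
  have hsmul : ∀ {z : ι → F} (s : K), h z z = 0 → h (s • z) (s • z) = 0 := fun s hz => by
    rw [H.smul_left, H.smul_right, hz, mul_zero, mul_zero]
  -- multiplicativity
  have hmult : ∀ {u : ι → F} (hu : h u u = 0), u ≠ 0 → ∀ a c, φ u hu (a * c) = φ u hu a * φ u hu c := by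
    intro u hu hu0
    obtain ⟨w₀, -, hw₀, hw₀u, -⟩ : ∃ w₀ ∈ (⊤ : Submodule K (ι → F)), h w₀ w₀ = 0 ∧ h w₀ u = 1 ∧ h u w₀ = 1 := by
      obtain ⟨r, -, hr⟩ := H.exists_sep (P := (⊥ : Submodule K (ι → F))) (u := u) (by simpa using hu0)
      exact H.exists_partner (S := ⊤) trivial trivial hu (r := r) (by rw [hr]; exact one_ne_zero)
    obtain ⟨w, hw⟩ : ∃ w, w = (-δ) • w₀ := ⟨_, rfl⟩
    have hww : h w w = 0 := hw ▸ hsmul _ hw₀
    have huw : h u w = δ := by
      rw [hw, H.smul_right, H.herm u w₀, hw₀u, map_one, mul_one, map_neg, E.skew, neg_neg]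
    have hwu : h w u = -δ := by rw [H.herm w u, huw, E.skew]
    obtain ⟨x, hx, hx0⟩ := Submodule.exists_mem_ne_zero_of_ne_bot
      (p := H.perp (Submodule.span K {u, w})) fun e => by
        have h1 := H.finrank_le_perp (Submodule.span K ({u, w} : Set (ι → F)))
        have h3 := Herm.finrank_pair_le (K := K) u w
        rw [e, finrank_bot] at h1
        omega
    obtain ⟨c, hc, hcc⟩ := E.exists_aniso_perp hx fun hm => hx0 (by
      obtain ⟨s, t, rfl⟩ := Submodule.mem_span_pair.1 hm
      have h1 := hx u (Submodule.subset_span (by simp))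
      have h3 := hx w (Submodule.subset_span (by simp))
      rw [H.add_left, H.smul_left, H.smul_left, hu, hwu, mul_zero, zero_add, mul_eq_zero, neg_eq_zero] at h1
      rw [H.add_left, H.smul_left, H.smul_left, hww, huw, mul_zero, add_zero, mul_eq_zero] at h3
      rw [h1.resolve_right E.skew_ne, h3.resolve_right E.skew_ne, zero_smul, zero_smul, add_zero])
    have hcu := hc u (Submodule.subset_span (by simp))
    have hcw := hc w (Submodule.subset_span (by simp))
    obtain ⟨β, hβ⟩ := Transvec.Unitary.exists_norm_eq H.ne_refl H.invol (b := -(2 * (δ * δ)) / h c c)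
      (by rw [map_div₀, map_neg, map_mul, map_ofNat, E.skew_sq, H.self_fixed])
    rw [eq_div_iff hcc] at hβ
    obtain ⟨z, hz⟩ : ∃ z, z = w + δ • u + β • c := ⟨_, rfl⟩
    have huz : h u z = δ := by
      rw [hz, H.add_right, H.add_right, huw, H.smul_right, H.smul_right, hu, H.zero_comm.1 hcu, mul_zero, mul_zero,
        add_zero, add_zero]
    have hwz : h w z = δ * δ := by
      rw [hz, H.add_right, H.add_right, hww, H.smul_right, H.smul_right, hwu, H.zero_comm.1 hcw, E.skew]; ring
    have hzz : h z z = 0 := by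
      simp only [hz, H.add_left, H.add_right, H.smul_left, H.smul_right, hu, hww, huw, hwu, hcu, hcw,
        H.zero_comm.1 hcu, H.zero_comm.1 hcw, E.skew]
      linear_combination hβ
    have hz0 : z ≠ 0 := fun e => E.skew_ne (by rw [← huz, e, H.zero_right])
    have h1 : φ u hu = φ z hzz := hskew hu hzz hu0 (hnotmem hu (by rw [huz]; exact E.skew_ne))
      (by rw [huz, E.skew])
    have h3 : φ u hu = φ w hww := hskew hu hww hu0 (hnotmem hu (by rw [huw]; exact E.skew_ne))
      (by rw [huw, E.skew])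
    have hw0 : w ≠ 0 := fun e => E.skew_ne (by rw [← huw, e, H.zero_right])
    have hhw : h w (δ • z) = -(δ * (δ * δ)) := by rw [H.smul_right, hwz, E.skew]; ring
    have h4 : φ w hww = φ (δ • z) (hsmul δ hzz) := hskew hww (hsmul δ hzz) hw0
      (hnotmem hww (by rw [hhw, neg_ne_zero]; exact mul_ne_zero E.skew_ne (mul_ne_zero E.skew_ne E.skew_ne)))
      (by rw [hhw, map_neg, map_mul, E.skew_sq, E.skew]; ring)
    obtain ⟨p, hp, hpδ⟩ : ∃ p : K → K, p = φ z hzz ∧ ∀ a, φ (δ • z) (hsmul δ hzz) a = p a :=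
      ⟨_, rfl, fun a => by rw [← h4, ← h3, h1]⟩
    rw [h1, ← hp]
    have hgz : g z ≠ 0 := fun e => hz0 (hg (e.trans (map_zero g).symm))
    have hpz : ∀ a, g (a • z) = p a • g z := fun a => hp ▸ hφ z hzz a
    have hadd : ∀ a c, p (a + c) = p a + p c := fun a c => smul_left_injective K hgz (by
      simp only [add_smul, ← hpz, map_add])
    have hd' : ∀ a, p (a * δ) = p a * p δ := fun a => smul_left_injective K hgz (by
      show p (a * δ) • g z = (p a * p δ) • g z
      rw [← hpz, mul_smul a δ z, hφ (δ • z) (hsmul δ hzz), hpδ, mul_smul, hpz])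
    have hF : ∀ (s : F) (a : K), p (algebraMap F K s * a) = algebraMap F K s * p a := fun s a =>
      smul_left_injective K hgz (by
        simp only [mul_smul, ← hpz, algebraMap_smul]
        exact map_smul g s (a • z))
    intro a c
    obtain ⟨s, t, rfl⟩ := h2 δ (fun c e => mul_ne_zero E.two' E.skew_ne (by
      have := E.skew
      rw [e, E.base] at this
      rw [e]
      linear_combination this)) c
    rw [mul_add, hadd, hadd, mul_comm a (algebraMap F K s), hF, mul_left_comm, hF, hd', hF]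
    have : p (algebraMap F K s) = algebraMap F K s * p 1 := by rw [← hF, mul_one]
    rw [this, hp, hφ1 hzz hz0]
    ring
  have hscale : ∀ {u : ι → F} (hu : h u u = 0), u ≠ 0 → ∀ s : K, s ≠ 0 → φ (s • u) (hsmul s hu) = φ u hu := by
    intro u hu hu0 s hs
    funext l
    refine smul_left_injective K (M := ι → F)
      (fun e => smul_ne_zero hs hu0 (hg (e.trans (map_zero g).symm))) ?_
    simp only
    rw [← hφ (s • u) (hsmul s hu), smul_smul, hφ u hu, hmult hu hu0, mul_smul, ← hφ u hu]
  have hconst : ∀ {u w : ι → F} (hu : h u u = 0) (hw : h w w = 0), u ≠ 0 → w ≠ 0 → φ u hu = φ w hw := by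
    intro u w hu hw hu0 hw0
    by_cases hm : w ∈ Submodule.span K {u}
    · obtain ⟨s, rfl⟩ := Submodule.mem_span_singleton.1 hm
      exact (hscale hu hu0 s fun e => hw0 (by rw [e, zero_smul])).symm
    by_cases huw : h u w = 0
    · exact hskew hu hw hu0 hm (by rw [huw, map_zero, neg_zero])
    obtain ⟨s, hs⟩ : ∃ s, s = σ (δ / h u w) := ⟨_, rfl⟩
    have e : h u (s • w) = δ := by rw [H.smul_right, hs, H.invol, div_mul_cancel₀ _ huw]
    have hs0 : s ≠ 0 := fun e0 => E.skew_ne (by rw [← e, e0, zero_smul, H.zero_right])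
    rw [← hscale hw hw0 s hs0]
    exact hskew hu (hsmul s hw) hu0 (hnotmem hu (by rw [e]; exact E.skew_ne)) (by rw [e, E.skew])
  obtain ⟨u, -, hu0, hu⟩ := H.exists_iso_two (S := (⊤ : Submodule K (ι → F))) (by rw [finrank_top]; omega)
  obtain ⟨r, -, hr⟩ := H.exists_sep (P := (⊥ : Submodule K (ι → F))) (u := u) (by simpa using hu0)
  obtain ⟨z, -, hzz, hzu, -⟩ := H.exists_partner (S := ⊤) trivial trivial hu (r := r) (by rw [hr]; exact one_ne_zero)
  refine ⟨φ u hu k, fun x => ?_⟩
  suffices key : ∀ c : K, g (k • c • x) = φ u hu k • g (c • x) by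
    have := key 1; rwa [one_smul] at this
  induction H.mem_span_paired (S := ⊤) trivial trivial hu hzz hzu (a := x) trivial using Submodule.span_induction with
  | mem s hs =>
    intro c
    rcases eq_or_ne (c • s) 0 with e | e
    · rw [e, smul_zero, map_zero, smul_zero]
    rw [hφ _ (hsmul c hs.2), hconst (hsmul c hs.2) hu e hu0]
  | zero => intro c; simp
  | add a b _ _ ha hb => intro c; rw [smul_add, smul_add, map_add, map_add, ha, hb, smul_add]
  | smul t a _ ha => intro c; rw [smul_smul c t a]; exact ha _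

end Symp

end CfsgLib.Classical22.UnitOver
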