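/-
The normalisers of adjoint-closed, not self-adjoint quadratic field subalgebras are maximal.
-/
import Cfsg.Agent.Lib.Classical22.UnitOverSetup
import Cfsg.Agent.Lib.Classical22.UnitOverOrth
import Cfsg.Agent.Lib.Classical22.UnitOverSmall
import Cfsg.Agent.Lib.Classical22.OrthMaxMatrix

set_option autoImplicit false

namespace CfsgLib.Classical22.UnitOver

open Matrix Cfsg CfsgLib.Classical CfsgLib.Transvec
open scoped MatrixGroups

variable {ι : Type} [Fintype ι] [DecidableEq ι] {F : Type*} [Field F] [Fintype F]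
variable {A : Subalgebra F (Matrix ι ι F)}

theorem mem_normalizer_of_semi {g : GL ι F}
    (hg : ∀ k ∈ A, ∃ k' ∈ A, ∀ x, (g : Matrix ι ι F) *ᵥ (k *ᵥ x) = k' *ᵥ ((g : Matrix ι ι F) *ᵥ x)) :
    g ∈ Cfsg.Geo.subalgebraNormalizer A := by
  choose s hs hσ using hg
  have hmat : ∀ k (hk : k ∈ A),
      (g : Matrix ι ι F) * k * ((g⁻¹ : GL ι F) : Matrix ι ι F) = s k hk := fun k hk =>
    Matrix.ext_iff_mulVec.mpr fun x => by
      rw [← mulVec_mulVec, ← mulVec_mulVec, hσ k hk, Transvec.mulVec_inv_cancel]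
  intro k
  refine ⟨fun hk => by rw [hmat k hk]; exact hs k hk, fun hk => ?_⟩
  have hinj : Function.Injective fun a : A => (⟨s a.1 a.2, hs a.1 a.2⟩ : A) := fun a b hab => Subtype.ext (by
    have := (hmat a.1 a.2).trans ((congrArg Subtype.val hab).trans (hmat b.1 b.2).symm)
    exact (Units.mul_right_inj g).1 ((Units.mul_left_inj g⁻¹).1 this))
  haveI : Finite A := Finite.of_injective _ Subtype.val_injective
  obtain ⟨l, hl⟩ := Finite.injective_iff_surjective.1 hinj ⟨_, hk⟩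
  have := (hmat l.1 l.2).trans (congrArg Subtype.val hl)
  rw [← (Units.mul_right_inj g).1 ((Units.mul_left_inj g⁻¹).1 this)]
  exact l.2

omit [Fintype F] in
theorem semi_of_mem_normalizer {g : GL ι F} (hg : g ∈ Cfsg.Geo.subalgebraNormalizer A) {k : Matrix ι ι F}
    (hk : k ∈ A) : ∃ k' ∈ A, ∀ x, (g : Matrix ι ι F) *ᵥ (k *ᵥ x) = k' *ᵥ ((g : Matrix ι ι F) *ᵥ x) :=
  ⟨_, (hg k).1 hk, fun x => by rw [← mulVec_mulVec, ← mulVec_mulVec, Transvec.inv_mulVec_cancel]⟩

variable {K : Type*} [Field K] [Algebra F K] [Module K (ι → F)] [IsScalarTower F K (ι → F)]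

theorem orth_core (q : QuadraticForm F (ι → F)) (hQ : PolarNondeg q) (hn : 10 ≤ Fintype.card ι)
    (hK2 : Module.finrank F K = 2) (hac : ∀ k : K, ∃ k' : K, ∀ x y,
      QuadraticMap.polar q (k • x) y = QuadraticMap.polar q x (k' • y))
    (hnsa : ∃ (k : K) (x y : ι → F), QuadraticMap.polar q (k • x) y ≠ QuadraticMap.polar q x (k • y))
    (hsc : ∀ k : K, ∃ c : F, ∀ v, q (k • v) = c * q v)
    {S : Subgroup (GL ι F)}
    (hlin : ∀ g : GL ι F, (∀ k : K, ∃ k' : K, ∀ x : ι → F,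
      (g : Matrix ι ι F) *ᵥ (k • x) = k' • ((g : Matrix ι ι F) *ᵥ x)) → g ∈ S)
    (hsemi : ∀ g ∈ S, ∀ k : K, ∃ k' : K, ∀ x : ι → F,
      (g : Matrix ι ι F) *ᵥ (k • x) = k' • ((g : Matrix ι ι F) *ᵥ x)) :
    Cfsg.Geo.IsMaximalIn (Cfsg.Geo.omegaGL ⇑q) (S ⊓ Cfsg.Geo.omegaGL ⇑q) := by
  haveI : Nonempty ι := Fintype.card_pos_iff.1 (by omega)
  have hb : Cfsg.Geo.IsBilinearForm (QuadraticMap.polar ⇑q) :=
    ⟨QuadraticMap.polar_add_left q, fun c x v => by rw [QuadraticMap.polar_smul_left, smul_eq_mul],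
      QuadraticMap.polar_add_right q, fun c v x => by rw [QuadraticMap.polar_smul_right, smul_eq_mul]⟩
  have hnd : Cfsg.Geo.IsNondegenerateForm (QuadraticMap.polar ⇑q) := fun v hv => by
    obtain ⟨x, hx⟩ : ∃ x, QuadraticMap.polar q v x ≠ 0 := by
      by_contra hcon
      push Not at hcon
      exact hv (hQ v hcon)
    exact ⟨⟨x, by rwa [QuadraticMap.polar_comm]⟩, x, hx⟩
  have hsymm : ∀ u v, QuadraticMap.polar ⇑q u v = QuadraticMap.polar ⇑q v u := QuadraticMap.polar_comm q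
  obtain ⟨σ, C⟩ := exists_conj hb hnd hK2 (ε := 1) (fun u v => by rw [one_mul]; exact hsymm u v) (one_mul 1)
    hac hnsa
  obtain ⟨h, H, hpol⟩ := exists_herm_symm hb hnd C hK2 hsymm
  obtain ⟨hfin, hhalf⟩ := finrank_eq_half (ι := ι) (K := K) hK2
  haveI := hfin
  haveI : Finite K := by
    haveI : FiniteDimensional F K := Module.finite_of_finrank_pos (by rw [hK2]; norm_num)
    exact Module.finite_of_finite F
  rw [Module.finrank_pi] at hhalf
  have hdim : 5 ≤ Module.finrank K (ι → F) := by omega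
  have hquad : ∀ v, algebraMap F K (q v) = h v v := by
    intro v
    obtain ⟨c, hc⟩ : ∃ c, h v v = algebraMap F K c := C.fixed _ (H.self_fixed v)
    rw [hc]
    congr 1
    obtain ⟨θ, hθ⟩ : ∃ θ, σ θ ≠ θ := by
      by_contra hcon
      simp only [not_exists, not_not] at hcon
      exact C.ne_refl (RingEquiv.ext hcon)
    obtain ⟨k, hk⟩ : ∃ k : K, k + σ k ≠ 0 := Transvec.Unitary.exists_trace_ne_zero C.ne_refl
    obtain ⟨t, ht⟩ := C.exists_trace_base k
    have ht0 : t ≠ 0 := fun e => hk (by rw [ht, e, map_zero])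
    obtain ⟨ck, hck⟩ := hsc k
    obtain ⟨c1, hc1⟩ := hsc (k + 1)
    have hN : ∀ (l : K) (cl : F), (∀ w, q (l • w) = cl * q w) → algebraMap F K cl = l * σ l := by
      intro l cl hl
      have hscale : ∀ x y, QuadraticMap.polar q (l • x) (l • y) = cl * QuadraticMap.polar q x y := fun x y => by
        simp only [QuadraticMap.polar, ← smul_add, hl]; ring
      obtain ⟨v₀, hv₀⟩ := exists_ne (0 : ι → F)
      by_contra hne
      obtain ⟨x, hx⟩ := (hnd ((σ l * l - algebraMap F K cl) • v₀) (smul_ne_zero (fun e => hne (by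
        rw [sub_eq_zero] at e; rw [← e, mul_comm]) ) hv₀)).1
      refine hx ?_
      rw [sub_smul, mul_smul, algebraMap_smul, QuadraticMap.polar_sub_right, ← C.adj, hscale,
        QuadraticMap.polar_smul_right, smul_eq_mul, sub_self]
    have e0 : algebraMap F K c1 = algebraMap F K (ck + 1 + t) := by
      rw [hN _ _ hc1, map_add (algebraMap F K), map_add (algebraMap F K), map_one, hN _ _ hck, ← ht, map_add σ,
        map_one]
      ring
    have e1 : c1 = ck + 1 + t := (algebraMap F K).injective e0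
    have e2 : QuadraticMap.polar q (k • v) v = t * q v := by
      simp only [QuadraticMap.polar]
      rw [show k • v + v = (k + 1) • v by rw [add_smul, one_smul], hc1, hck, e1]
      ring
    have e3 : t * q v = t * c := (algebraMap F K).injective (by
      rw [← e2, hpol, H.smul_left, hc, map_mul σ, C.base, map_mul (algebraMap F K) t c, ← ht]; ring)
    exact mul_left_cancel₀ ht0 e3
  have E : Orth σ h q := ⟨H, C.base, C.fixed, hpol, hquad⟩
  refine isMaximalIn_omegaGL q hQ (by omega) rfl ?_ fun M hHM hME hMS => ?_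
  · intro hle
    obtain ⟨a, ha0, ha, -⟩ := H.exists_iso_notMem (P := (⊥ : Submodule K (ι → F))) (P' := ⊥)
      (by rw [finrank_bot]; omega)
    obtain ⟨w, hw0, -, hwa, hwm⟩ := H.exists_iso_off hdim a
    obtain ⟨r, hra, hrw⟩ := H.exists_sep hwm
    obtain ⟨θ, hθ⟩ : ∃ θ, σ θ ≠ θ := by
      by_contra hcon
      simp only [not_exists, not_not] at hcon
      exact C.ne_refl (RingEquiv.ext hcon)
    obtain ⟨e, he⟩ := Transvec.Unitary.exists_trace_eq H.ne_refl H.invol (b := (1 : K)) (map_one σ)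
    have hQa : q a = 0 := E.sing.2 ha
    have hfaw : QuadraticMap.polar q a w = 0 := E.polar_zero (H.zero_comm.1 hwa)
    obtain ⟨t, ht⟩ := hsemi _ (hle (eich_mem q hQa hfaw)) θ
    have happ : ∀ x, h x a = 0 → (eich q a w).1 x = x - QuadraticMap.polar q x w • a := fun x hx => by
      rw [eich_apply q hQa hfaw, E.polar_zero hx]; simp
    have h1 := ht a
    rw [qHom_mulVec, qHom_mulVec, happ a ha, happ _ (by rw [H.smul_left, ha, mul_zero]), hfaw,
      E.polar_zero (x := θ • a) (y := w) (by rw [H.smul_left, H.zero_comm.1 hwa, mul_zero]),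
      zero_smul, sub_zero, sub_zero] at h1
    have htθ : θ = t := smul_left_injective K ha0 h1
    subst htθ
    obtain ⟨x, hx⟩ : ∃ x, x = e • r := ⟨_, rfl⟩
    have hxa : h x a = 0 := by rw [hx, H.smul_left, hra a (Submodule.mem_span_singleton_self a), mul_zero]
    have h2 := ht x
    rw [qHom_mulVec, qHom_mulVec, happ x hxa, happ _ (by rw [H.smul_left, hxa, mul_zero]), smul_sub,
      sub_right_inj, ← algebraMap_smul K (QuadraticMap.polar q x w), ← algebraMap_smul K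
      (QuadraticMap.polar q (θ • x) w), smul_smul] at h2
    have h3 := smul_left_injective K ha0 h2
    rw [E.polar, E.polar, H.smul_left, hx, H.smul_left, hrw, mul_one, map_mul] at h3
    have h4 : (σ θ - θ) * σ e = 0 := by linear_combination h3
    rcases mul_eq_zero.1 h4 with h5 | h5
    · exact hθ (sub_eq_zero.1 h5)
    · rw [map_eq_zero_iff _ σ.injective] at h5
      rw [h5, map_zero, add_zero] at he
      exact zero_ne_one he
  have hM : ∀ g ∈ eichGroup q, (∀ (k : K) x, g.1 (k • x) = k • g.1 x) → g ∈ M := fun g hg hgl =>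
    hHM ⟨hlin _ fun k => ⟨k, fun x => by rw [qHom_mulVec, qHom_mulVec]; exact hgl k x⟩, hg⟩
  haveI : FiniteDimensional F (ι → F) := inferInstance
  rcases E.eichGroup_le_or_lines hdim hM hQ (by rw [Module.finrank_pi]; omega)
    (fun θ hθ k => exists_coord hK2 hθ k) with hfull | hlines
  · exact hfull
  refine absurd (fun g hg => ?_) hMS
  refine hlin _ fun k => ?_
  obtain ⟨k', hk'⟩ := H.semilinear_of_lines hdim (g := g.1.toLinearMap.toAddMonoidHom) g.1.injective
    (hlines g hg) k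
  exact ⟨k', fun x => by rw [qHom_mulVec, qHom_mulVec]; exact hk' x⟩

theorem symp_core (m : ℕ) [Module K (Fin m ⊕ Fin m → F)] [IsScalarTower F K (Fin m ⊕ Fin m → F)] (hm : 3 ≤ m)
    (h2 : (2 : F) ≠ 0) (hK2 : Module.finrank F K = 2)
    (hac : ∀ k : K, ∃ k' : K, ∀ x y,
      Cfsg.sympForm m F (k • x) y = Cfsg.sympForm m F x (k' • y))
    (hnsa : ∃ (k : K) (x y : Fin m ⊕ Fin m → F), Cfsg.sympForm m F (k • x) y ≠ Cfsg.sympForm m F x (k • y))
    {S : Subgroup (GL (Fin m ⊕ Fin m) F)}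
    (hlin : ∀ g : GL (Fin m ⊕ Fin m) F, (∀ k : K, ∃ k' : K, ∀ x : Fin m ⊕ Fin m → F,
      (g : Matrix (Fin m ⊕ Fin m) (Fin m ⊕ Fin m) F) *ᵥ (k • x) = k' • ((g : Matrix (Fin m ⊕ Fin m) (Fin m ⊕ Fin m) F) *ᵥ x)) → g ∈ S)
    (hsemi : ∀ g ∈ S, ∀ k : K, ∃ k' : K, ∀ x : Fin m ⊕ Fin m → F,
      (g : Matrix (Fin m ⊕ Fin m) (Fin m ⊕ Fin m) F) *ᵥ (k • x) = k' • ((g : Matrix (Fin m ⊕ Fin m) (Fin m ⊕ Fin m) F) *ᵥ x)) :
    Cfsg.Geo.IsMaximalIn (Cfsg.spGL m F) (S ⊓ Cfsg.spGL m F) := by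
  haveI : Nonempty (Fin m ⊕ Fin m) := ⟨.inl ⟨0, by omega⟩⟩
  have hf := Transvec.isSymplecticForm_sympForm (F := F) m
  obtain ⟨σ, C⟩ := exists_conj hf.bilinear hf.nondegenerate hK2 (ε := -1)
    (fun u v => by rw [neg_one_mul]; exact hf.skew u v) (by ring) hac hnsa
  obtain ⟨δ, h, hδ0, hδ, H, hform⟩ := exists_herm_skew hf.bilinear hf.nondegenerate C hK2 hf.skew
  have E : Symp σ h δ (Cfsg.sympForm m F) := ⟨hf, H, C.base, C.fixed, hδ0, hδ, h2, hform⟩
  obtain ⟨hfin, hhalf⟩ := finrank_eq_half (ι := Fin m ⊕ Fin m) (K := K) hK2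
  haveI := hfin
  haveI : Finite K := by
    haveI : FiniteDimensional F K := Module.finite_of_finrank_pos (by rw [hK2]; norm_num)
    exact Module.finite_of_finite F
  rw [Module.finrank_pi, Fintype.card_sum, Fintype.card_fin] at hhalf
  have hdim : 3 ≤ Module.finrank K (Fin m ⊕ Fin m → F) := by omega
  refine ⟨lt_of_le_not_ge inf_le_right fun hle => ?_, fun M hHM hMK => ?_⟩
  · obtain ⟨p, hp0, hp, -⟩ := H.exists_iso_notMem (P := (⊥ : Submodule K (Fin m ⊕ Fin m → F))) (P' := ⊥)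
      (by rw [finrank_bot]; omega)
    obtain ⟨t, ht⟩ := hsemi _ (hle (Transvec.sT_mem_spGL m p 1)).1 δ
    have h1 := ht p
    rw [sT_mulVec hf, sT_mulVec hf, hf.alternating, one_mul, mul_zero, zero_smul, add_zero,
      E.form_zero (x := δ • p) (y := p) (by rw [H.smul_left, hp, mul_zero]), zero_smul, add_zero] at h1
    have htθ : δ = t := smul_left_injective K hp0 h1
    subst htθ
    obtain ⟨r, -, hr⟩ := H.exists_sep (P := (⊥ : Submodule K (Fin m ⊕ Fin m → F))) (u := p) (by simpa using hp0)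
    have h3 := ht r
    rw [sT_mulVec hf, sT_mulVec hf, one_mul, one_mul, smul_add, add_right_inj,
      ← algebraMap_smul K (Cfsg.sympForm m F (δ • r) p), ← algebraMap_smul K (Cfsg.sympForm m F r p),
      smul_smul] at h3
    have h4 := smul_left_injective K hp0 h3
    simp only [hform, H.smul_left, hr, mul_one, map_mul, hδ] at h4
    exact mul_ne_zero E.two' (mul_ne_zero hδ0 hδ0) (by linear_combination h4)
  by_cases hMS : M ≤ S
  · exact Or.inl (le_antisymm (le_inf hMS hMK) hHM)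
  right
  have hM : ∀ g : GL (Fin m ⊕ Fin m) F, Transvec.Iso (Cfsg.sympForm m F) g →
      (∀ (k : K) x, (g : Matrix (Fin m ⊕ Fin m) (Fin m ⊕ Fin m) F) *ᵥ (k • x) = k • ((g : Matrix (Fin m ⊕ Fin m) (Fin m ⊕ Fin m) F) *ᵥ x)) → g ∈ M := fun g hgi hgl =>
    hHM ⟨hlin g fun k => ⟨k, hgl k⟩, hgi⟩
  rcases E.full_or_lines_three hdim hM (fun θ hθ k => exists_coord hK2 hθ k) (fun g hg => hMK hg) with hfull | hlines
  · exact le_antisymm hMK (Transvec.spGL_le_of_full hfull)
  refine absurd (fun g hg => ?_) hMS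
  refine hlin _ fun k => ?_
  exact E.semilinear_three hdim (fun θ hθ k => exists_coord hK2 hθ k)
    (g := Matrix.toLin' (g : Matrix (Fin m ⊕ Fin m) (Fin m ⊕ Fin m) F))
    (fun x y e => Transvec.mulVec_injective g e) (hlines g hg) k

/-- Orthogonal case. -/
theorem isMaximalIn_orth {n : ℕ} (hn : 10 ≤ n) (Q : (Fin n → F) → F)
    (hQ : Cfsg.Geo.IsNondegenerateQuadraticForm Q) (A : Subalgebra F (Matrix (Fin n) (Fin n) F))
    (hA : Cfsg.Geo.IsFieldSubalgebra 2 A) (hac : Cfsg.Geo.IsAdjointClosedFor (QuadraticMap.polar Q) A)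
    (hnsa : ¬ Cfsg.Geo.IsSelfAdjointFor (QuadraticMap.polar Q) A)
    (hsc : ∀ k ∈ A, ∃ c : F, ∀ v, Q (k *ᵥ v) = c * Q v) :
    Cfsg.Geo.IsMaximalIn (Cfsg.Geo.omegaGL Q) (Cfsg.Geo.subalgebraNormalizer A ⊓ Cfsg.Geo.omegaGL Q) := by
  obtain ⟨q, hq, hQ'⟩ := exists_quadraticForm hQ
  subst hq
  classical
  haveI : Nontrivial A := Module.nontrivial_of_finrank_pos (R := F) (by rw [hA.finrank_eq]; norm_num)
  letI : CommRing A := { (inferInstance : Ring A) with mul_comm := fun a b => Subtype.ext (hA.comm _ a.2 _ b.2) }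
  have hfield : IsField A :=
    { exists_pair_ne := exists_pair_ne A
      mul_comm := mul_comm
      mul_inv_cancel := fun {a} ha => by
        obtain ⟨y, hy, h⟩ := hA.inv _ a.2 (fun h0 => ha (Subtype.ext h0))
        exact ⟨⟨y, hy⟩, Subtype.ext h⟩ }
  letI : Field A := hfield.toField
  letI modA : Module A (Fin n → F) :=
    Module.compHom _ (((Matrix.toLinAlgEquiv' : Matrix (Fin n) (Fin n) F ≃ₐ[F] _).toAlgHom.comp A.val).toRingHom)
  letI : SMul A (Fin n → F) := modA.toDistribMulAction.toSMul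
  have hsmul : ∀ (a : A) (x : Fin n → F), a • x = (a : Matrix (Fin n) (Fin n) F) *ᵥ x := fun a x => rfl
  haveI : IsScalarTower F A (Fin n → F) := IsScalarTower.of_algebraMap_smul fun c x => by
    refine (hsmul _ x).trans ?_
    change (algebraMap F (Matrix (Fin n) (Fin n) F) c) *ᵥ x = c • x
    rw [Algebra.algebraMap_eq_smul_one, smul_mulVec, one_mulVec]
  have hK2 : Module.finrank F A = 2 := hA.finrank_eq
  refine orth_core (K := A) q hQ' (by simpa using hn) hK2 (fun k => ?_) ?_ (fun k => ?_) (fun g hg => ?_)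
    (fun g hg k => ?_)
  · obtain ⟨k', hk', h'⟩ := hac k k.2
    exact ⟨⟨k', hk'⟩, fun x y => by rw [hsmul, hsmul]; exact h' x y⟩
  · simp only [Cfsg.Geo.IsSelfAdjointFor, not_forall] at hnsa
    obtain ⟨k, hk, x, y, h'⟩ := hnsa
    exact ⟨⟨k, hk⟩, x, y, by rw [hsmul, hsmul]; exact h'⟩
  · obtain ⟨c, hc⟩ := hsc k k.2
    exact ⟨c, fun v => by rw [hsmul]; exact hc v⟩
  · refine mem_normalizer_of_semi fun k hk => ?_
    obtain ⟨k', hk'⟩ := hg ⟨k, hk⟩
    exact ⟨k', k'.2, fun x => by simpa [hsmul] using hk' x⟩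
  · obtain ⟨k', hk', h'⟩ := semi_of_mem_normalizer hg k.2
    exact ⟨⟨k', hk'⟩, fun x => by simpa [hsmul] using h' x⟩

/-- Symplectic case. -/
theorem isMaximalIn_symp (m : ℕ) (hm : 3 ≤ m) (h2 : (2 : F) ≠ 0)
    (A : Subalgebra F (Matrix (Fin m ⊕ Fin m) (Fin m ⊕ Fin m) F)) (hA : Cfsg.Geo.IsFieldSubalgebra 2 A)
    (hac : Cfsg.Geo.IsAdjointClosedFor (Cfsg.sympForm m F) A)
    (hnsa : ¬ Cfsg.Geo.IsSelfAdjointFor (Cfsg.sympForm m F) A) :
    Cfsg.Geo.IsMaximalIn (Cfsg.spGL m F) (Cfsg.Geo.subalgebraNormalizer A ⊓ Cfsg.spGL m F) := by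
  classical
  haveI : Nontrivial A := Module.nontrivial_of_finrank_pos (R := F) (by rw [hA.finrank_eq]; norm_num)
  letI : CommRing A := { (inferInstance : Ring A) with mul_comm := fun a b => Subtype.ext (hA.comm _ a.2 _ b.2) }
  have hfield : IsField A :=
    { exists_pair_ne := exists_pair_ne A
      mul_comm := mul_comm
      mul_inv_cancel := fun {a} ha => by
        obtain ⟨y, hy, h⟩ := hA.inv _ a.2 (fun h0 => ha (Subtype.ext h0))
        exact ⟨⟨y, hy⟩, Subtype.ext h⟩ }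
  letI : Field A := hfield.toField
  letI modA : Module A (Fin m ⊕ Fin m → F) :=
    Module.compHom _ (((Matrix.toLinAlgEquiv' : Matrix (Fin m ⊕ Fin m) (Fin m ⊕ Fin m) F ≃ₐ[F] _).toAlgHom.comp A.val).toRingHom)
  letI : SMul A (Fin m ⊕ Fin m → F) := modA.toDistribMulAction.toSMul
  have hsmul : ∀ (a : A) (x : Fin m ⊕ Fin m → F), a • x = (a : Matrix (Fin m ⊕ Fin m) (Fin m ⊕ Fin m) F) *ᵥ x := fun a x => rfl
  haveI : IsScalarTower F A (Fin m ⊕ Fin m → F) := IsScalarTower.of_algebraMap_smul fun c x => by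
    refine (hsmul _ x).trans ?_
    change (algebraMap F (Matrix (Fin m ⊕ Fin m) (Fin m ⊕ Fin m) F) c) *ᵥ x = c • x
    rw [Algebra.algebraMap_eq_smul_one, smul_mulVec, one_mulVec]
  have hK2 : Module.finrank F A = 2 := hA.finrank_eq
  refine symp_core (K := A) m hm h2 hK2 (fun k => ?_) ?_ (fun g hg => ?_) (fun g hg k => ?_)
  · obtain ⟨k', hk', h'⟩ := hac k k.2
    exact ⟨⟨k', hk'⟩, fun x y => by rw [hsmul, hsmul]; exact h' x y⟩
  · simp only [Cfsg.Geo.IsSelfAdjointFor, not_forall] at hnsa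
    obtain ⟨k, hk, x, y, h'⟩ := hnsa
    exact ⟨⟨k, hk⟩, x, y, by rw [hsmul, hsmul]; exact h'⟩
  · refine mem_normalizer_of_semi fun k hk => ?_
    obtain ⟨k', hk'⟩ := hg ⟨k, hk⟩
    exact ⟨k', k'.2, fun x => by simpa [hsmul] using hk' x⟩
  · obtain ⟨k', hk', h'⟩ := semi_of_mem_normalizer hg k.2
    exact ⟨⟨k', hk'⟩, fun x => by simpa [hsmul] using h' x⟩

end CfsgLib.Classical22.UnitOver
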