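/-
Signs of finite quadratic spaces: existence, sums, scaling, and singular halves.
-/
import Cfsg.Agent.Lib.Classical.QuadSign
import Cfsg.Agent.Lib.Classical.QuadPOmega
import Cfsg.Agent.Lib.Classical.WittBound
import Cfsg.Agent.Lib.Classical.SpOrthPrimeClasses

set_option autoImplicit false

namespace CfsgLib.Classical22.OrthType

open CfsgLib.Classical CfsgLib.Classical.QuadSign Module

universe u

variable {F : Type u} [Field F]
variable {V W X Y : Type u} [AddCommGroup V] [Module F V] [AddCommGroup W] [Module F W]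
  [AddCommGroup X] [Module F X] [AddCommGroup Y] [Module F Y]

/-- The two forms are isometric. -/
def Isom (Q : QuadraticForm F V) (R : QuadraticForm F W) : Prop := ∃ e : V ≃ₗ[F] W, ∀ v, R (e v) = Q v

theorem isom_refl (Q : QuadraticForm F V) : Isom Q Q := ⟨LinearEquiv.refl F V, fun _ => rfl⟩

theorem Isom.symm' {Q : QuadraticForm F V} {R : QuadraticForm F W} (h : Isom Q R) : Isom R Q := by
  obtain ⟨e, he⟩ := h
  exact ⟨e.symm, fun w => by rw [← he, e.apply_symm_apply]⟩

theorem Isom.trans' {Q : QuadraticForm F V} {R : QuadraticForm F W} {S : QuadraticForm F X} (h : Isom Q R)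
    (h' : Isom R S) : Isom Q S := by
  obtain ⟨e, he⟩ := h
  obtain ⟨e', he'⟩ := h'
  exact ⟨e.trans e', fun v => by rw [LinearEquiv.trans_apply, he', he]⟩

theorem Isom.prod_congr {Q : QuadraticForm F V} {R : QuadraticForm F W} {S : QuadraticForm F X}
    {T : QuadraticForm F Y} (h : Isom Q R) (h' : Isom S T) : Isom (Q.prod S) (R.prod T) := by
  obtain ⟨e, he⟩ := h
  obtain ⟨e', he'⟩ := h'
  exact ⟨e.prodCongr e', fun v => by simp [he, he']⟩

theorem Isom.smul' {Q : QuadraticForm F V} {R : QuadraticForm F W} (h : Isom Q R) (c : F) : Isom (c • Q) (c • R) := by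
  obtain ⟨e, he⟩ := h
  exact ⟨e, fun v => by simp [he]⟩

theorem Isom.finrank_eq {Q : QuadraticForm F V} {R : QuadraticForm F W} (h : Isom Q R) :
    finrank F V = finrank F W := h.choose.finrank_eq

theorem polarNondeg_smul {Q : QuadraticForm F V} (hQ : PolarNondeg Q) {c : F} (hc : c ≠ 0) : PolarNondeg (c • Q) :=
  fun v hv => hQ v fun w => by
    have h := hv w
    rw [show QuadraticMap.polar (c • Q) v w = c * QuadraticMap.polar Q v w by
      simp [QuadraticMap.polar]; ring] at h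
    exact (mul_eq_zero.1 h).resolve_left hc

theorem polarNondeg_of_isom {Q : QuadraticForm F V} {R : QuadraticForm F W} (h : Isom Q R) (hQ : PolarNondeg Q) :
    PolarNondeg R := by
  obtain ⟨e, he⟩ := h
  intro w hw
  rw [← e.map_eq_zero_iff (x := e.symm w) |>.2 (hQ _ fun v => ?_), e.apply_symm_apply]
  have h1 := hw (e v)
  simp only [QuadraticMap.polar] at h1 ⊢
  rw [← he, ← he, ← he, map_add, e.apply_symm_apply]
  exact h1

theorem exists_binAniso [Fintype F] : ∃ a b : F, BinAniso a b := by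
  classical
  obtain ⟨t, ht⟩ : ∃ t : F, ∀ x : F, x * x + x ≠ t := by
    by_contra hc
    push Not at hc
    have hs : Function.Surjective fun x : F => x * x + x := fun t => hc t
    have := (Finite.injective_iff_surjective.2 hs) (show (0 : F) * 0 + 0 = (-1) * (-1) + -1 by ring)
    exact one_ne_zero (neg_eq_zero.1 this.symm)
  refine ⟨1, -t, fun z₁ z₂ h => ?_⟩
  rcases eq_or_ne z₂ 0 with rfl | h2
  · simp at h; exact ⟨h, rfl⟩
  · refine absurd ?_ (ht (z₁ / z₂))
    field_simp
    linear_combination h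

variable [Fintype F]

/-- The space has even dimension and sign `ε`. -/
def Sg (Q : QuadraticForm F V) (ε : ℤ) : Prop := ∃ k, finrank F V = 2 * k ∧ HasSign Q k ε

theorem Sg.even {Q : QuadraticForm F V} {ε : ℤ} (h : Sg Q ε) : Even (finrank F V) := by
  obtain ⟨k, hk, -⟩ := h
  exact ⟨k, by omega⟩

theorem sg_unique {Q : QuadraticForm F V} {ε ε' : ℤ} (h : Sg Q ε) (h' : Sg Q ε') : ε = ε' := by
  obtain ⟨k, hk, hs⟩ := h
  obtain ⟨l, hl, hs'⟩ := h'
  obtain rfl : k = l := by omega
  exact hasSign_unique hs hs'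

theorem Sg.congr {Q : QuadraticForm F V} {R : QuadraticForm F W} {ε : ℤ} (h : Isom Q R) (hs : Sg Q ε) : Sg R ε := by
  obtain ⟨k, hk, hs⟩ := hs
  obtain ⟨e, he⟩ := h
  exact ⟨k, by rw [← e.finrank_eq, hk], hasSign_congr e he hs⟩

variable [FiniteDimensional F V] [FiniteDimensional F W]

theorem sg_cases {Q : QuadraticForm F V} (hQ : PolarNondeg Q) (he : Even (finrank F V)) :
    ∃ ε : ℤ, (ε = 1 ∨ ε = -1) ∧ Sg Q ε := by
  obtain ⟨k, hk⟩ := he
  obtain ⟨ε, hε, hs⟩ := exists_hasSign k Q hQ (by omega)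
  exact ⟨ε, hε, k, by omega, hs⟩

theorem Sg.cases {Q : QuadraticForm F V} {ε : ℤ} (hs : Sg Q ε) (hQ : PolarNondeg Q) : ε = 1 ∨ ε = -1 := by
  obtain ⟨ε', h, hs'⟩ := sg_cases hQ hs.even
  rwa [sg_unique hs hs']

theorem Sg.prod {Q : QuadraticForm F V} {R : QuadraticForm F W} {ε ε' : ℤ} (h : Sg Q ε) (h' : Sg R ε') :
    Sg (Q.prod R) (ε * ε') := by
  haveI : Finite V := Module.finite_of_finite F
  haveI : Finite W := Module.finite_of_finite F
  obtain ⟨k, hk, hs⟩ := h
  obtain ⟨l, hl, hs'⟩ := h'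
  exact ⟨k + l, by rw [Module.finrank_prod]; omega, hasSign_prod hs hs'⟩

theorem Sg.isom {Q : QuadraticForm F V} {R : QuadraticForm F W} {ε : ℤ} (h : Sg Q ε) (h' : Sg R ε)
    (hQ : PolarNondeg Q) (hR : PolarNondeg R) (hd : finrank F V = finrank F W) : Isom Q R := by
  obtain ⟨k, hk, hs⟩ := h
  obtain ⟨l, hl, hs'⟩ := h'
  obtain rfl : k = l := by omega
  exact exists_isometry_of_hasSign k Q R ε hQ hR hk hl hs hs'

theorem sg_subsingleton (Q : QuadraticForm F V) (h : finrank F V = 0) : Sg Q 1 := by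
  haveI : Subsingleton V := Module.finrank_zero_iff.1 h
  exact ⟨0, h, hasSign_zero Q⟩

omit [FiniteDimensional F V] [FiniteDimensional F W] in
theorem sg_qPlus (k : ℕ) : Sg (qPlus k F) 1 := ⟨k, by simp; omega, hasSign_qPlus k⟩

/-- Sign `+1` means a singular half. -/
theorem sg_one_iff {Q : QuadraticForm F V} (hQ : PolarNondeg Q) (he : Even (finrank F V)) :
    Sg Q 1 ↔ ∃ U : Submodule F V, (∀ u ∈ U, Q u = 0) ∧ 2 * finrank F U = finrank F V := by
  obtain ⟨k, hk⟩ := he
  constructor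
  · intro h
    obtain ⟨e, he⟩ := (sg_qPlus (F := F) k).isom h (polarNondeg_qPlus k) hQ (by simp; omega)
    obtain ⟨j, hj⟩ : ∃ j : (Fin k → F) →ₗ[F] (Fin k ⊕ Fin k → F), ∀ a, j a = Sum.elim a 0 :=
      ⟨{ toFun := fun a => Sum.elim a 0
         map_add' := fun a b => funext fun i => by rcases i with i | i <;> simp
         map_smul' := fun c a => funext fun i => by rcases i with i | i <;> simp }, fun a => rfl⟩
    refine ⟨LinearMap.range (e.toLinearMap ∘ₗ j), ?_, ?_⟩
    · rintro _ ⟨a, rfl⟩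
      rw [LinearMap.comp_apply, LinearEquiv.coe_coe, he, hj, coe_qPlus]
      simp [Cfsg.quadFormPlus]
    · rw [LinearMap.finrank_range_of_inj, Module.finrank_fin_fun]
      · omega
      · intro a b h
        have h1 := e.injective h
        rw [hj, hj] at h1
        exact funext fun i => by simpa using congrFun h1 (Sum.inl i)
  · rintro ⟨U, hU, hUd⟩
    obtain ⟨ε, hε, hs⟩ := exists_hasSign k Q hQ (by omega)
    rcases hε with rfl | rfl
    · exact ⟨k, by omega, hs⟩
    exfalso
    obtain ⟨a, b, hab⟩ := exists_binAniso (F := F)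
    rcases k with _ | l
    · haveI : Subsingleton V := Module.finrank_zero_iff.1 (by omega)
      have := hasSign_unique hs (hasSign_zero Q)
      norm_num at this
    have hn : finrank F ((Fin l ⊕ Fin l) ⊕ Fin 2 → F) = 2 * (l + 1) := by simp; omega
    obtain ⟨e, he⟩ := exists_isometry_of_hasSign (l + 1) Q (qExt l (qBin a b)) (-1) hQ
      (polarNondeg_qExt (polarNondeg_qBin hab) l) (by omega) hn hs (hasSign_qExt_qBin hab l)
    have h1 := finrank_le_of_singular (qBin a b) (fun z hz => funext fun i => by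
      rw [qBin_apply] at hz
      obtain ⟨h0, h1⟩ := hab _ _ hz
      fin_cases i <;> assumption) (U := U.map e.toLinearMap) (by
        rintro _ ⟨u, hu, rfl⟩
        exact (he u).trans (hU u hu))
    rw [LinearEquiv.finrank_map_eq] at h1
    omega

/-- Scaling does not change the sign. -/
theorem Sg.smul {Q : QuadraticForm F V} {ε : ℤ} (h : Sg Q ε) (hQ : PolarNondeg Q) {c : F} (hc : c ≠ 0) :
    Sg (c • Q) ε := by
  have key : ∀ R : QuadraticForm F V, PolarNondeg R → ∀ d : F, d ≠ 0 → Sg R 1 → Sg (d • R) 1 := by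
    intro R hR d hd hs
    obtain ⟨U, hU, hUd⟩ := (sg_one_iff hR hs.even).1 hs
    exact (sg_one_iff (polarNondeg_smul hR hd) hs.even).2 ⟨U, fun u hu => by simp [hU u hu], hUd⟩
  obtain ⟨ε', hε', hs'⟩ := sg_cases (polarNondeg_smul hQ hc) h.even
  rcases h.cases hQ with rfl | rfl
  · exact key Q hQ c hc h
  · rcases hε' with rfl | rfl
    · have h2 := key _ (polarNondeg_smul hQ hc) c⁻¹ (inv_ne_zero hc) hs'
      rw [smul_smul, inv_mul_cancel₀ hc, one_smul] at h2
      exact absurd (sg_unique h h2) (by norm_num)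
    · exact hs'

/-- A quadratic space. -/
structure Space (F : Type u) [Field F] where
  carrier : Type u
  [addCommGroup : AddCommGroup carrier]
  [module : Module F carrier]
  [finite : FiniteDimensional F carrier]
  form : QuadraticForm F carrier
  nondeg : PolarNondeg form

attribute [instance] Space.addCommGroup Space.module Space.finite

omit [FiniteDimensional F V] [FiniteDimensional F W] in
theorem exists_space_even (k : ℕ) {ε : ℤ} (hε : ε = 1 ∨ ε = -1) (hk : k = 0 → ε = 1) :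
    ∃ S : Space F, finrank F S.carrier = 2 * k ∧ Sg S.form ε := by
  rcases hε with rfl | rfl
  · exact ⟨⟨Fin k ⊕ Fin k → F, qPlus k F, polarNondeg_qPlus k⟩, by simp; omega, sg_qPlus k⟩
  · obtain ⟨a, b, hab⟩ := exists_binAniso (F := F)
    obtain ⟨l, rfl⟩ : ∃ l, k = l + 1 := ⟨k - 1, by rcases k with _ | l; exacts [absurd (hk rfl) (by norm_num), rfl]⟩
    have hn : finrank F ((Fin l ⊕ Fin l) ⊕ Fin 2 → F) = 2 * (l + 1) := by simp; omega
    exact ⟨⟨(Fin l ⊕ Fin l) ⊕ Fin 2 → F, qExt l (qBin a b), polarNondeg_qExt (polarNondeg_qBin hab) l⟩, hn,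
      l + 1, hn, hasSign_qExt_qBin hab l⟩

omit [FiniteDimensional F V] [FiniteDimensional F W] in
theorem exists_space (h2 : (2 : F) ≠ 0) (n : ℕ) : ∃ S : Space F, finrank F S.carrier = n := by
  obtain ⟨k, rfl | rfl⟩ := Nat.even_or_odd' n
  · obtain ⟨S, hS, -⟩ := exists_space_even (F := F) k (Or.inl rfl) fun _ => rfl
    exact ⟨S, hS⟩
  · exact ⟨⟨(Fin k ⊕ Fin k) ⊕ Unit → F, qExt k (qLine F), polarNondeg_qExt (polarNondeg_qLine h2) k⟩, by simp; omega⟩

/-- Odd-dimensional spaces are similar. -/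
theorem exists_similar (h2 : (2 : F) ≠ 0) {Q : QuadraticForm F V} {R : QuadraticForm F W} (hQ : PolarNondeg Q)
    (hR : PolarNondeg R) (hd : finrank F V = finrank F W) (ho : Odd (finrank F V)) :
    ∃ c : F, c ≠ 0 ∧ Isom Q (c • R) := by
  obtain ⟨k, hk⟩ := ho
  obtain ⟨c, e, hc, he⟩ := exists_similar_line h2 k Q hQ hk
  obtain ⟨c', e', hc', he'⟩ := exists_similar_line h2 k R hR (by omega)
  refine ⟨c * c'⁻¹, mul_ne_zero hc (inv_ne_zero hc'), e.symm.trans e', fun v => ?_⟩
  obtain ⟨x, rfl⟩ := e.surjective v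
  rw [LinearEquiv.trans_apply, LinearEquiv.symm_apply_apply, QuadraticMap.smul_apply, he', he, smul_eq_mul,
    ← mul_assoc, mul_assoc c, inv_mul_cancel₀ hc', mul_one]

/-- An odd-dimensional space is a plus space and a line. -/
theorem exists_plus_line (h2 : (2 : F) ≠ 0) {Q : QuadraticForm F V} (hQ : PolarNondeg Q) {k : ℕ}
    (hk : finrank F V = 2 * k + 1) : ∃ c : F, c ≠ 0 ∧ Isom Q ((c • qPlus k F).prod (c • qLine F)) := by
  obtain ⟨c, e, hc, he⟩ := exists_similar_line h2 k Q hQ hk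
  refine ⟨c, hc, e.symm.trans (LinearEquiv.sumArrowLequivProdArrow (Fin k ⊕ Fin k) Unit F F), fun v => ?_⟩
  obtain ⟨x, rfl⟩ := e.surjective v
  rw [LinearEquiv.trans_apply, LinearEquiv.symm_apply_apply, he, QuadraticMap.prod_apply, QuadraticMap.smul_apply,
    QuadraticMap.smul_apply, coe_qPlus, qExt_apply, smul_eq_mul, smul_eq_mul, ← mul_add]
  rfl

/-- Two odd-dimensional spaces combine to either sign. -/
theorem exists_odd_pair (h2 : (2 : F) ≠ 0) {Q : QuadraticForm F V} {R : QuadraticForm F W} (hQ : PolarNondeg Q)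
    (hR : PolarNondeg R) (hV : Odd (finrank F V)) (hW : Odd (finrank F W)) {ε : ℤ} (hε : ε = 1 ∨ ε = -1) :
    ∃ c : F, c ≠ 0 ∧ Sg (Q.prod (c • R)) ε := by
  obtain ⟨k, hk⟩ := hV
  obtain ⟨l, hl⟩ := hW
  obtain ⟨a, ha, hQi⟩ := exists_plus_line h2 hQ hk
  obtain ⟨b, hb, hRi⟩ := exists_plus_line h2 hR hl
  obtain ⟨ν, hν⟩ := FiniteField.exists_nonsquare (F := F) (fun h => h2 (by
    haveI := ringChar.charP F; rw [h] at *; exact CharP.cast_eq_zero F 2))
  have hν0 : ν ≠ 0 := fun h => hν (h ▸ ⟨0, by simp⟩)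
  obtain ⟨w, hw⟩ : ∃ w, w = if ε = 1 then (1 : F) else ν := ⟨_, rfl⟩
  have hw0 : w ≠ 0 := by rw [hw]; split_ifs; exacts [one_ne_zero, hν0]
  obtain ⟨c, hc⟩ : ∃ c, c = -(a * w) / b := ⟨_, rfl⟩
  have hc0 : c ≠ 0 := hc ▸ div_ne_zero (neg_ne_zero.2 (mul_ne_zero ha hw0)) hb
  refine ⟨c, hc0, ?_⟩
  obtain ⟨L, hL⟩ : ∃ L, L = (a • qLine F).prod (c • (b • qLine F)) := ⟨_, rfl⟩
  have hLn : PolarNondeg L := hL ▸ SpOPrime.polar_prod (polarNondeg_smul (polarNondeg_qLine h2) ha)
    (polarNondeg_smul (polarNondeg_smul (polarNondeg_qLine h2) hb) hc0)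
  have hLd : finrank F ((Unit → F) × (Unit → F)) = 2 := by simp [Module.finrank_prod]
  have hLv : ∀ x : (Unit → F) × (Unit → F), L x = a * (x.1 () * x.1 () - w * (x.2 () * x.2 ())) := fun x => by
    rw [hL, hc]
    simp [qLine]
    field_simp
    ring
  obtain ⟨η, hη, hLs⟩ := sg_cases hLn (by rw [hLd]; exact even_two)
  have hηε : η = ε := by
    rcases hε with rfl | rfl
    · refine sg_unique hLs ((sg_one_iff hLn (by rw [hLd]; exact even_two)).2
        ⟨Submodule.span F {((fun _ => 1, fun _ => 1) : (Unit → F) × (Unit → F))}, ?_, ?_⟩)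
      · intro u hu
        obtain ⟨t, rfl⟩ := Submodule.mem_span_singleton.1 hu
        rw [hLv, hw, if_pos rfl]
        simp
      · rw [finrank_span_singleton (fun h => one_ne_zero (α := F) (congrFun (congrArg Prod.fst h) ())), hLd]
    · refine hη.resolve_left fun h1 => ?_
      subst h1
      obtain ⟨U, hU, hUd⟩ := (sg_one_iff hLn (by rw [hLd]; exact even_two)).1 hLs
      obtain ⟨u, hu, hu0⟩ := U.exists_mem_ne_zero_of_ne_bot fun h => by rw [h, finrank_bot, hLd] at hUd; omega
      have h := hU u hu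
      rw [hLv, hw, if_neg (by norm_num), mul_eq_zero, or_iff_right ha, sub_eq_zero] at h
      by_cases h20 : u.2 () = 0
      · rw [h20, mul_zero, mul_zero, mul_self_eq_zero] at h
        exact hu0 (Prod.ext (funext fun _ => h) (funext fun _ => h20))
      · exact hν ⟨u.1 () / u.2 (), by field_simp; linear_combination -h⟩
  subst hηε
  have hP : Sg ((a • qPlus k F).prod (c • (b • qPlus l F))) (1 * 1) :=
    ((sg_qPlus k).smul (polarNondeg_qPlus k) ha).prod
      (((sg_qPlus l).smul (polarNondeg_qPlus l) hb).smul (polarNondeg_smul (polarNondeg_qPlus l) hb) hc0)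
  have h := hP.prod hLs
  rw [one_mul, one_mul] at h
  refine Sg.congr (Isom.trans' ?_ (Isom.prod_congr hQi.symm' (hRi.symm'.smul' c))) h
  subst hL
  refine ⟨LinearEquiv.prodProdProdComm F _ _ _ _, fun x => ?_⟩
  simp
  ring

end CfsgLib.Classical22.OrthType
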