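/-
Restrictions of quadratic forms, orthogonal splittings and embeddings of smaller spaces.
-/
import Cfsg.Agent.Lib.Classical22.OrthTypeSigns

set_option autoImplicit false

namespace CfsgLib.Classical22.OrthType

open CfsgLib.Classical CfsgLib.Classical.QuadSign Module

universe u

variable {F : Type u} [Field F]
variable {V W X : Type u} [AddCommGroup V] [Module F V] [AddCommGroup W] [Module F W]
  [AddCommGroup X] [Module F X]

/-- The restriction of a form to a subspace. -/
abbrev res (Q : QuadraticForm F V) (U : Submodule F V) : QuadraticForm F U := Q.comp U.subtype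

/-- The orthogonal subspace. -/
def perp (Q : QuadraticForm F V) (U : Submodule F V) : Submodule F V :=
  LinearMap.BilinForm.orthogonal (QuadraticMap.polarBilin Q) U

theorem mem_perp {Q : QuadraticForm F V} {U : Submodule F V} {v : V} :
    v ∈ perp Q U ↔ ∀ u ∈ U, QuadraticMap.polar Q u v = 0 := Iff.rfl

theorem polar_res (Q : QuadraticForm F V) (U : Submodule F V) (x y : U) :
    QuadraticMap.polar (res Q U) x y = QuadraticMap.polar Q (x : V) (y : V) := by
  simp [QuadraticMap.polar]

theorem polar_smul_form (Q : QuadraticForm F V) (c : F) (x y : V) :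
    QuadraticMap.polar (c • Q) x y = c * QuadraticMap.polar Q x y := by
  simp [QuadraticMap.polar]; ring

theorem isom_smul_prod (Q : QuadraticForm F V) (R : QuadraticForm F W) (c : F) :
    Isom (c • Q.prod R) ((c • Q).prod (c • R)) :=
  ⟨LinearEquiv.refl F _, fun v => by simp [mul_add]⟩

theorem isom_smul_smul (Q : QuadraticForm F V) (a c : F) : Isom (a • (c • Q)) ((a * c) • Q) :=
  ⟨LinearEquiv.refl F _, fun v => by simp [mul_assoc]⟩

theorem isom_one_smul (Q : QuadraticForm F V) : Isom ((1 : F) • Q) Q :=
  ⟨LinearEquiv.refl F _, fun v => by simp⟩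

theorem isom_prod_assoc (Q : QuadraticForm F V) (R : QuadraticForm F W) (S : QuadraticForm F X) :
    Isom ((Q.prod R).prod S) (Q.prod (R.prod S)) :=
  ⟨LinearEquiv.prodAssoc F V W X, fun v => by simp [add_assoc]⟩

theorem isom_prod_comm (Q : QuadraticForm F V) (R : QuadraticForm F W) : Isom (Q.prod R) (R.prod Q) :=
  ⟨LinearEquiv.prodComm F V W, fun v => by simp [add_comm]⟩

theorem res_nondeg_of_isom {Q : QuadraticForm F V} {U : Submodule F V} {R : QuadraticForm F W}
    (h : Isom R (res Q U)) (hR : PolarNondeg R) : PolarNondeg (res Q U) := polarNondeg_of_isom h hR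

variable [FiniteDimensional F V]

/-- A non-degenerate subspace splits off. -/
theorem split_res {Q : QuadraticForm F V} (hQ : PolarNondeg Q) {U : Submodule F V} (hU : PolarNondeg (res Q U)) :
    IsCompl U (perp Q U) ∧ PolarNondeg (res Q (perp Q U)) ∧ Isom ((res Q U).prod (res Q (perp Q U))) Q := by
  have hc : IsCompl U (perp Q U) := by
    refine LinearMap.BilinForm.isCompl_orthogonal_of_restrict_nondegenerate
      (B := QuadraticMap.polarBilin Q) (fun x y h => by simpa [QuadraticMap.polar_comm] using h)
      ⟨fun x hx => hU x fun y => ?_, fun x hx => hU x fun y => ?_⟩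
    · rw [polar_res]; exact hx y
    · rw [polar_res, QuadraticMap.polar_comm]; exact hx y
  refine ⟨hc, fun x hx => Subtype.ext (hQ _ fun w => ?_), U.prodEquivOfIsCompl _ hc, fun x => ?_⟩
  · obtain ⟨a, ha, b, hb, rfl⟩ := Submodule.mem_sup.1 (hc.sup_eq_top ▸ Submodule.mem_top : w ∈ U ⊔ perp Q U)
    have h1 := hx ⟨b, hb⟩
    rw [polar_res] at h1
    rw [QuadraticMap.polar_add_right, h1, QuadraticMap.polar_comm, (mem_perp.1 x.2) a ha, add_zero]
  · have h := (mem_perp.1 x.2.2) x.1 x.1.2
    rw [Submodule.coe_prodEquivOfIsCompl', QuadraticMap.prod_apply]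
    show Q ((x.1 : V) + (x.2 : V)) = Q (x.1 : V) + Q (x.2 : V)
    simp only [QuadraticMap.polar] at h
    linear_combination h

theorem finrank_perp {Q : QuadraticForm F V} (hQ : PolarNondeg Q) (U : Submodule F V) :
    finrank F (perp Q U) + finrank F U = finrank F V := by
  have := Submodule.finrank_le U
  rw [perp, LinearMap.BilinForm.finrank_orthogonal (PolarNondeg.nondegenerate hQ)]
  omega

/-- A totally singular subspace has at most half the dimension. -/
theorem ts_le_half {Q : QuadraticForm F V} (hQ : PolarNondeg Q) {U : Submodule F V} (hU : ∀ u ∈ U, Q u = 0) :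
    2 * finrank F U ≤ finrank F V := by
  have hle : U ≤ perp Q U := fun v hv => mem_perp.2 fun u hu => by
    simp [QuadraticMap.polar, hU _ hu, hU _ hv, hU _ (U.add_mem hu hv)]
  have := Submodule.finrank_mono hle
  have := finrank_perp hQ U
  omega

variable [Fintype F] [FiniteDimensional F W]

/-- A smaller space is an orthogonal summand. -/
theorem exists_embed {Q : QuadraticForm F V} (hQ : PolarNondeg Q) {R : QuadraticForm F W} (hR : PolarNondeg R)
    (h2 : (2 : F) ≠ 0 ∨ Even (finrank F V) ∧ Even (finrank F W)) (hlt : finrank F W < finrank F V) :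
    ∃ T : Space F, Isom (R.prod T.form) Q := by
  have key : ∀ {W' : Type u} [AddCommGroup W'] [Module F W'] [FiniteDimensional F W'] (R' : QuadraticForm F W'),
      PolarNondeg R' → Even (finrank F W') → finrank F W' < finrank F V →
      ∃ T : Space F, Isom (R'.prod T.form) Q := by
    intro W' _ _ _ R' hR' he hlt'
    obtain ⟨η, hη, hs⟩ := sg_cases hR' he
    rcases Nat.even_or_odd (finrank F V) with hV | hV
    · obtain ⟨ε, hε, hQs⟩ := sg_cases hQ hV
      obtain ⟨a, ha⟩ := he
      obtain ⟨b, hb⟩ := hV
      obtain ⟨T, hT, hTs⟩ := exists_space_even (F := F) (b - a) (ε := ε * η)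
        (by rcases hε with rfl | rfl <;> rcases hη with rfl | rfl <;> norm_num) (fun h => by omega)
      refine ⟨T, (hs.prod hTs).isom ?_ (SpOPrime.polar_prod hR' T.nondeg) hQ (by rw [Module.finrank_prod, hT]; omega)⟩
      have : η * (ε * η) = ε := by rcases hη with rfl | rfl <;> ring
      rwa [this]
    · have h20 : (2 : F) ≠ 0 := h2.resolve_right fun h => Nat.not_even_iff_odd.2 hV h.1
      obtain ⟨T, hT⟩ := exists_space h20 (finrank F V - finrank F W')
      obtain ⟨c, hc, hi⟩ := exists_similar h20 hQ (SpOPrime.polar_prod hR' T.nondeg)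
        (by rw [Module.finrank_prod, hT]; omega) hV
      refine ⟨⟨T.carrier, c • T.form, polarNondeg_smul T.nondeg hc⟩, ?_⟩
      refine Isom.trans' ?_ hi.symm'
      refine Isom.trans' (Isom.prod_congr ?_ (isom_refl _)) (isom_smul_prod R' T.form c).symm'
      exact hs.isom (hs.smul hR' hc) hR' (polarNondeg_smul hR' hc) rfl
  rcases Nat.even_or_odd (finrank F W) with he | ho
  · exact key R hR he hlt
  have h20 : (2 : F) ≠ 0 := h2.resolve_right fun h => Nat.not_even_iff_odd.2 ho h.2
  rcases Nat.even_or_odd (finrank F V) with hV | hV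
  · obtain ⟨ε, hε, hQs⟩ := sg_cases hQ hV
    obtain ⟨T, hT⟩ := exists_space h20 (finrank F V - finrank F W)
    have hTo : Odd (finrank F T.carrier) := by rw [hT]; exact Nat.Even.sub_odd hlt.le hV ho
    obtain ⟨c, hc, hs⟩ := exists_odd_pair h20 hR T.nondeg ho hTo hε
    exact ⟨⟨T.carrier, c • T.form, polarNondeg_smul T.nondeg hc⟩, hs.isom hQs
      (SpOPrime.polar_prod hR (polarNondeg_smul T.nondeg hc)) hQ (by rw [Module.finrank_prod, hT]; omega)⟩
  · obtain ⟨L, hL⟩ := exists_space h20 1
    obtain ⟨T, hT⟩ := key (R.prod L.form) (SpOPrime.polar_prod hR L.nondeg)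
      (by rw [Module.finrank_prod, hL]; exact ho.add_odd odd_one) (by
        rw [Module.finrank_prod, hL]
        obtain ⟨a, ha⟩ := ho
        obtain ⟨b, hb⟩ := hV
        omega)
    exact ⟨⟨L.carrier × T.carrier, L.form.prod T.form, SpOPrime.polar_prod L.nondeg T.nondeg⟩,
      (isom_prod_assoc R L.form T.form).symm'.trans' hT⟩

omit [Fintype F] [FiniteDimensional F V] [FiniteDimensional F W] in
/-- The image of a summand. -/
theorem isom_res_fst {Q : QuadraticForm F V} {R : QuadraticForm F W} {S : QuadraticForm F X} (e : (W × X) ≃ₗ[F] V)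
    (he : ∀ v, Q (e v) = (R.prod S) v) :
    Isom R (res Q (LinearMap.range (e.toLinearMap ∘ₗ LinearMap.inl F W X))) :=
  ⟨LinearEquiv.ofInjective (e.toLinearMap ∘ₗ LinearMap.inl F W X) fun a b h => by simpa using h,
    fun w => (he (w, 0)).trans (by simp)⟩

/-- A smaller space occurs as a subspace. -/
theorem exists_sub {Q : QuadraticForm F V} (hQ : PolarNondeg Q) {R : QuadraticForm F W} (hR : PolarNondeg R)
    (h2 : (2 : F) ≠ 0 ∨ Even (finrank F V) ∧ Even (finrank F W)) (hlt : finrank F W < finrank F V) :
    ∃ U : Submodule F V, Isom R (res Q U) ∧ PolarNondeg (res Q U) := by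
  obtain ⟨T, e, he⟩ := exists_embed hQ hR h2 hlt
  have h := isom_res_fst (R := R) (S := T.form) e he
  exact ⟨_, h, polarNondeg_of_isom h hR⟩

end CfsgLib.Classical22.OrthType
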