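/-
Which involutions, and which square roots of `-1`, lie in the commutator subgroup of an orthogonal group.
-/
import Cfsg.Agent.Lib.Classical22.OrthTypeEmbed
import Cfsg.Agent.Lib.Classical.SpinorCriterion
import Cfsg.Agent.Lib.Classical.QuadReflect

set_option autoImplicit false

namespace CfsgLib.Classical22.OrthType

open CfsgLib.Classical Module

universe u

variable {F : Type u} [Field F] [Fintype F]

/-- The square class of a scalar as an integer. -/
noncomputable def chi (x : F) : ℤ := ((Spin.sqSign x : ℤˣ) : ℤ)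

theorem chi_mul {x y : F} (hx : x ≠ 0) (hy : y ≠ 0) : chi (x * y) = chi x * chi y := by
  rw [chi, chi, chi, Spin.sqSign_mul hx hy, Units.val_mul]

theorem chi_eq_one {x : F} : chi x = 1 ↔ IsSquare x := by
  rw [chi, Units.val_eq_one, Spin.sqSign_eq_one]

theorem chi_pm (x : F) : chi x = 1 ∨ chi x = -1 := by
  rcases Int.units_eq_one_or (Spin.sqSign x) with h | h <;> simp [chi, h]

theorem chi_sq (x : F) : chi (x * x) = 1 := chi_eq_one.2 ⟨x, rfl⟩

theorem chi_one : chi (1 : F) = 1 := chi_eq_one.2 IsSquare.one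

/-- The sign of the plane `x² + y²`. -/
noncomputable def eta (F : Type u) [Field F] [Fintype F] : ℤ := chi (-1 : F)

theorem eta_pm : eta F = 1 ∨ eta F = -1 := chi_pm _

theorem eta_eq_one_iff : eta F = 1 ↔ Fintype.card F % 4 ≠ 3 := by
  rw [eta, chi_eq_one, FiniteField.isSquare_neg_one_iff]

theorem chi_pow {x : F} (hx : x ≠ 0) (k : ℕ) : chi (x ^ k) = chi x ^ k := by
  induction k with
  | zero => rw [pow_zero, pow_zero, chi_one]
  | succ k ih => rw [pow_succ, pow_succ, chi_mul (pow_ne_zero _ hx) hx, ih]

variable {V : Type u} [AddCommGroup V] [Module F V] [FiniteDimensional F V] {Q : QuadraticForm F V}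

/-- Orthogonal anisotropic vectors span a plane. -/
theorem plane_data (h2 : (2 : F) ≠ 0) {v w : V} (hv : Q v ≠ 0) (hw : Q w ≠ 0)
    (hvw : QuadraticMap.polar Q v w = 0) :
    finrank F (Submodule.span F {v, w}) = 2 ∧ PolarNondeg (res Q (Submodule.span F {v, w})) ∧
      Sg (res Q (Submodule.span F {v, w})) (chi (-(Q v * Q w))) := by
  have hp : ∀ a b : F, QuadraticMap.polar Q (a • v + b • w) v = a * (2 * Q v) ∧
      QuadraticMap.polar Q (a • v + b • w) w = b * (2 * Q w) := fun a b => by
    simp only [QuadraticMap.polar_add_left, QuadraticMap.polar_smul_left, smul_eq_mul, hvw,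
      QuadraticMap.polar_comm Q w v, quad_polar_self]
    constructor <;> ring
  have hne : ∀ a b : F, a • v + b • w = 0 → a = 0 ∧ b = 0 := fun a b h => by
    have h1 := (hp a b).1
    have h1' := (hp a b).2
    rw [h, QuadraticMap.polar_zero_left] at h1 h1'
    exact ⟨(mul_eq_zero.1 h1.symm).resolve_right (mul_ne_zero h2 hv),
      (mul_eq_zero.1 h1'.symm).resolve_right (mul_ne_zero h2 hw)⟩
  have hd : finrank F (Submodule.span F {v, w}) = 2 := by
    rw [show ({v, w} : Set V) = Set.range ![v, w] by simp [Set.pair_comm], finrank_span_eq_card, Fintype.card_fin]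
    rw [LinearIndependent.pair_iff]
    exact hne
  have hnd : PolarNondeg (res Q (Submodule.span F {v, w})) := fun x hx => by
    obtain ⟨a, b, hab⟩ := Submodule.mem_span_pair.1 x.2
    have h1 := hx ⟨v, Submodule.subset_span (by simp)⟩
    have h1' := hx ⟨w, Submodule.subset_span (by simp)⟩
    rw [polar_res, ← hab] at h1 h1'
    rw [(hp a b).1] at h1
    rw [(hp a b).2] at h1'
    apply Subtype.ext
    rw [← hab, (mul_eq_zero.1 h1).resolve_right (mul_ne_zero h2 hv),
      (mul_eq_zero.1 h1').resolve_right (mul_ne_zero h2 hw), zero_smul, zero_smul, add_zero]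
    rfl
  have hQ : ∀ a b : F, Q (a • v + b • w) = a * a * Q v + b * b * Q w := fun a b => by
    rw [quad_add, quad_smul, quad_smul, QuadraticMap.polar_smul_left, QuadraticMap.polar_smul_right, hvw]
    simp
  refine ⟨hd, hnd, ?_⟩
  have he : Even (finrank F (Submodule.span F {v, w})) := by rw [hd]; exact even_two
  obtain ⟨η, hη, hs⟩ := sg_cases hnd he
  suffices η = chi (-(Q v * Q w)) by rwa [this] at hs
  by_cases hsq : IsSquare (-(Q v * Q w))
  · rw [chi_eq_one.2 hsq]
    obtain ⟨s, hs'⟩ := hsq
    refine sg_unique hs ((sg_one_iff hnd he).2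
      ⟨Submodule.span F {(⟨s • v + Q v • w, Submodule.mem_span_pair.2 ⟨_, _, rfl⟩⟩ : Submodule.span F {v, w})}, ?_, ?_⟩)
    · intro u hu
      obtain ⟨t, rfl⟩ := Submodule.mem_span_singleton.1 hu
      show Q (t • (s • v + Q v • w)) = 0
      rw [quad_smul, hQ, show s * s * Q v + Q v * Q v * Q w = (s * s + Q v * Q w) * Q v by ring, ← hs']
      ring
    · rw [hd, finrank_span_singleton]
      intro h
      exact hv (hne _ _ (congrArg Subtype.val h)).2
  · rw [show chi (-(Q v * Q w)) = -1 from (chi_pm _).resolve_left fun h => hsq (chi_eq_one.1 h)]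
    refine hη.resolve_left fun h1 => hsq ?_
    subst h1
    obtain ⟨U, hU, hUd⟩ := (sg_one_iff hnd he).1 hs
    obtain ⟨u, hu, hu0⟩ := U.exists_mem_ne_zero_of_ne_bot fun h => by rw [h, finrank_bot, hd] at hUd; omega
    obtain ⟨a, b, hab⟩ := Submodule.mem_span_pair.1 u.2
    have h := hU u hu
    rw [show (res Q (Submodule.span F {v, w})) u = Q (u : V) from rfl, ← hab, hQ] at h
    have hb : b ≠ 0 := by
      rintro rfl
      rw [mul_zero, zero_mul, add_zero, mul_eq_zero, or_iff_left hv, mul_self_eq_zero] at h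
      subst h
      rw [zero_smul, zero_smul, add_zero] at hab
      exact hu0 (Subtype.ext hab.symm)
    exact ⟨a * Q v / b, by field_simp; linear_combination -h⟩

/-- A product of reflections in orthogonal families, in or out of the commutator subgroup. -/
theorem refl_families_iff (hQ : PolarNondeg Q) (hex : Fintype.card F ≠ 2 ∨ finrank F V ≠ 4) {κ κ' : Type}
    [Fintype κ] [DecidableEq κ] [Fintype κ'] [DecidableEq κ'] (e : κ → V) (he : ∀ a, Q (e a) ≠ 0)
    (horth : ∀ a b, a ≠ b → QuadraticMap.polar Q (e a) (e b) = 0) (e' : κ' → V) (he' : ∀ a, Q (e' a) ≠ 0)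
    (horth' : ∀ a b, a ≠ b → QuadraticMap.polar Q (e' a) (e' b) = 0) :
    ∃ h h' : qAut Q, (∀ x, h.1 x = x - ∑ a, ((Q (e a))⁻¹ * QuadraticMap.polar Q x (e a)) • e a) ∧
      (∀ x, h'.1 x = x - ∑ a, ((Q (e' a))⁻¹ * QuadraticMap.polar Q x (e' a)) • e' a) ∧
      (h' * h ∈ commutator (qAut Q) ↔
        Even (Fintype.card κ' + Fintype.card κ) ∧ IsSquare ((∏ a, Q (e' a)) * ∏ a, Q (e a))) := by
  obtain ⟨h, hh, hψ⟩ := Spin.exists_refl_family Q Abelianization.of e he horth Finset.univ
  obtain ⟨h', hh', hψ'⟩ := Spin.exists_refl_family Q Abelianization.of e' he' horth' Finset.univ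
  refine ⟨h, h', hh, hh', ?_⟩
  obtain ⟨vs, hvs⟩ : ∃ vs : List {v : V // Q v ≠ 0},
      vs = (Finset.univ.toList.map fun a => ⟨e' a, he' a⟩) ++ (Finset.univ.toList.map fun a => ⟨e a, he a⟩) := ⟨_, rfl⟩
  have hab : Abelianization.of (h' * h) = Abelianization.of (vs.map fun v => qRefl Q v.2).prod := by
    rw [map_mul, hψ, hψ', hvs, List.map_append, List.prod_append, map_mul, List.map_map, List.map_map,
      map_list_prod, map_list_prod, List.map_map, List.map_map, ← Finset.prod_map_toList, ← Finset.prod_map_toList]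
    rfl
  have hmem : ∀ g : qAut Q, g ∈ commutator (qAut Q) ↔ Abelianization.of g = 1 := fun g =>
    ((QuotientGroup.eq_one_iff g)).symm
  rw [hmem, hab, ← hmem, Spin.mem_commutator_prod_iff Q hQ hex, hvs]
  simp [List.map_map, Function.comp_def, Finset.prod_map_toList]

/-- An orthogonal basis with the sign of the space. -/
theorem exists_orth_family (h2 : (2 : F) ≠ 0) : ∀ (s : ℕ) {W : Type u} [AddCommGroup W] [Module F W]
    [FiniteDimensional F W] (R : QuadraticForm F W), PolarNondeg R → finrank F W = 2 * s →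
    ∃ e : Fin s × Fin 2 → W, (∀ a, R (e a) ≠ 0) ∧ (∀ a b, a ≠ b → QuadraticMap.polar R (e a) (e b) = 0) ∧
      (∀ y, (∀ a, QuadraticMap.polar R y (e a) = 0) → y = 0) ∧ Sg R (eta F ^ s * chi (∏ a, R (e a))) := by
  intro s
  induction s with
  | zero =>
    intro W _ _ _ R _ hd
    haveI : Subsingleton W := Module.finrank_zero_iff.1 hd
    exact ⟨fun _ => 0, fun a => a.1.elim0, fun a => a.1.elim0, fun y _ => Subsingleton.elim _ _,
      by simpa [chi_one] using sg_subsingleton R hd⟩
  | succ s ih =>
    intro W _ _ _ R hR hd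
    obtain ⟨v, hv⟩ := exists_value R hR (by omega) one_ne_zero
    have hv0 : R v ≠ 0 := by rw [hv]; exact one_ne_zero
    have hL : PolarNondeg (res R (Submodule.span F {v})) := fun x hx => by
      obtain ⟨a, ha⟩ := Submodule.mem_span_singleton.1 x.2
      have h := hx ⟨v, Submodule.mem_span_singleton_self v⟩
      rw [polar_res, ← ha, QuadraticMap.polar_smul_left, quad_polar_self, smul_eq_mul, mul_eq_zero] at h
      exact Subtype.ext (by rw [← ha, h.resolve_right (mul_ne_zero h2 hv0), zero_smul]; rfl)
    obtain ⟨-, hLn, -⟩ := split_res hR hL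
    have hv1 : v ≠ 0 := by rintro rfl; simp at hv0
    have hLd := finrank_perp hR (Submodule.span F {v})
    rw [finrank_span_singleton hv1] at hLd
    obtain ⟨w, hw0⟩ : ∃ w : perp R (Submodule.span F {v}), R (w : W) ≠ 0 := by
      by_contra hcon
      push Not at hcon
      haveI : Nontrivial (perp R (Submodule.span F {v})) := Module.nontrivial_of_finrank_pos (R := F) (by omega)
      obtain ⟨w, hw⟩ := exists_ne (0 : perp R (Submodule.span F {v}))
      refine hw (hLn w fun y => ?_)
      rw [polar_res, QuadraticMap.polar, hcon w, hcon y, ← Submodule.coe_add, hcon]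
      simp
    have hvw : QuadraticMap.polar R v w = 0 := mem_perp.1 w.2 v (Submodule.mem_span_singleton_self v)
    obtain ⟨hPd, hPn, hPs⟩ := plane_data h2 hv0 hw0 hvw
    obtain ⟨hc, hpn, hiso⟩ := split_res hR hPn
    have hpd := finrank_perp hR (Submodule.span F {v, (w : W)})
    obtain ⟨f, hf, hfo, hff, hfs⟩ := ih (res R (perp R (Submodule.span F {v, (w : W)}))) hpn (by omega)
    obtain ⟨e, he⟩ : ∃ e : Fin (s + 1) × Fin 2 → W,
        e = fun a => Fin.cases (if a.2 = 0 then v else (w : W)) (fun j => (f (j, a.2) : W)) a.1 := ⟨_, rfl⟩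
    have hP : ∀ k : Fin 2, e (0, k) ∈ Submodule.span F {v, (w : W)} := fun k => by
      rw [he]; refine Submodule.subset_span ?_
      simp only [Fin.cases_zero]
      split_ifs <;> simp
    have hsucc : ∀ j k, e (Fin.succ j, k) = (f (j, k) : W) := fun j k => by rw [he]; simp
    refine ⟨e, ?_, ?_, ?_, ?_⟩
    · rintro ⟨a, k⟩
      induction a using Fin.cases with
      | zero => rw [he]; simp only [Fin.cases_zero]; split_ifs <;> assumption
      | succ j => rw [hsucc]; exact hf (j, k)
    · rintro ⟨a, k⟩ ⟨b, l⟩ hne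
      induction a using Fin.cases with
      | zero =>
        induction b using Fin.cases with
        | zero =>
          have hkl : k ≠ l := fun h => hne (by rw [h])
          have e0 : e (0, 0) = v := by rw [he]; rfl
          have e1 : e (0, 1) = (w : W) := by rw [he]; rfl
          rcases (show (k = 0 ∧ l = 1) ∨ (k = 1 ∧ l = 0) by
            clear hne; revert hkl; revert k l; decide) with ⟨rfl, rfl⟩ | ⟨rfl, rfl⟩
          · rw [e0, e1]; exact hvw
          · rw [e0, e1, QuadraticMap.polar_comm]; exact hvw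
        | succ j => rw [hsucc]; exact mem_perp.1 (f (j, l)).2 _ (hP k)
      | succ i =>
        induction b using Fin.cases with
        | zero => rw [hsucc, QuadraticMap.polar_comm]; exact mem_perp.1 (f (i, k)).2 _ (hP l)
        | succ j =>
          rw [hsucc, hsucc, ← polar_res]
          exact hfo _ _ fun h => hne (by simp [Prod.ext_iff] at h; rw [h.1, h.2])
    · intro y hy
      have h1 : y ∈ perp R (Submodule.span F {v, (w : W)}) := mem_perp.2 fun u hu => by
        obtain ⟨a, b, rfl⟩ := Submodule.mem_span_pair.1 hu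
        have e0 := hy (0, 0)
        have e1 := hy (0, 1)
        rw [he] at e0 e1
        simp only [Fin.cases_zero, if_true, one_ne_zero, if_false] at e0 e1
        rw [QuadraticMap.polar_comm]
        simp [QuadraticMap.polar_add_right, QuadraticMap.polar_smul_right, e0, e1]
      have h2' := hff ⟨y, h1⟩ fun a => by
        rw [polar_res, ← hsucc]; exact hy _
      exact congrArg Subtype.val h2'
    · have hsg := (hPs.prod hfs).congr hiso
      have hprod : ∏ a, R (e a) = R v * R (w : W) * ∏ a, R (f a : W) := by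
        rw [Fintype.prod_prod_type, Fin.prod_univ_succ, Fintype.prod_prod_type, Fin.prod_univ_two]
        congr 1
        · rw [he]; simp
        · exact Finset.prod_congr rfl fun j _ => Finset.prod_congr rfl fun k _ => by rw [hsucc]
      have hne : ∏ a, R (f a : W) ≠ 0 := Finset.prod_ne_zero_iff.2 fun a _ => hf a
      rw [hprod, chi_mul (mul_ne_zero hv0 hw0) hne, pow_succ]
      rw [show -(R v * R (w : W)) = (-1) * (R v * R (w : W)) by ring, chi_mul (by norm_num) (mul_ne_zero hv0 hw0)] at hsg
      have : eta F ^ s * eta F * (chi (R v * R (w : W)) * chi (∏ a, R (f a : W))) =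
          chi (-1 : F) * chi (R v * R (w : W)) * (eta F ^ s * chi (∏ a, R (f a : W))) := by rw [eta]; ring
      rw [this]
      exact hsg

/-- An involution with eigenspaces `E`, `E⊥` lies in the commutator subgroup exactly when `E` has even dimension and
the sign of a sum of planes `x² + y²`. -/
theorem invol_mem_iff (h2 : (2 : F) ≠ 0) (hQ : PolarNondeg Q) (hex : Fintype.card F ≠ 2 ∨ finrank F V ≠ 4) (g : qAut Q)
    {E : Submodule F V} (hE : PolarNondeg (res Q E)) (hgE : ∀ v ∈ E, g.1 v = -v)
    (hgF : ∀ v ∈ perp Q E, g.1 v = v) {s : ℕ} (hs : finrank F E = 2 * s) :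
    g ∈ commutator (qAut Q) ↔ Sg (res Q E) (eta F ^ s) := by
  obtain ⟨f, hf, hfo, hff, hfs⟩ := exists_orth_family h2 s (res Q E) hE hs
  obtain ⟨h, h', hh, hh', hiff⟩ := refl_families_iff hQ hex (fun a => (f a : V)) hf
    (fun a b hab => by rw [← polar_res Q E]; exact hfo a b hab) (fun a : Fin 0 => (0 : V)) (fun a => a.elim0) (fun a => a.elim0)
  have hh'1 : h' = 1 := qAut_ext fun x => by rw [hh']; simp
  have hg : g = h' * h := by
    rw [hh'1, one_mul]
    obtain ⟨hc, -, -⟩ := split_res hQ hE
    refine qAut_ext fun x => ?_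
    obtain ⟨a, ha, b, hb, rfl⟩ := Submodule.mem_sup.1 (hc.sup_eq_top ▸ Submodule.mem_top : x ∈ E ⊔ perp Q E)
    rw [map_add, map_add, hgE a ha, hgF b hb]
    have hb' : h.1 b = b := by
      rw [hh, Finset.sum_eq_zero fun c _ => ?_, sub_zero]
      rw [QuadraticMap.polar_comm, mem_perp.1 hb _ (f c).2, mul_zero, zero_smul]
    rw [hb']
    congr 1
    have hmem : h.1 a + a ∈ E := by
      refine E.add_mem ?_ ha
      rw [hh]
      exact E.sub_mem ha (E.sum_mem fun c _ => E.smul_mem _ (f c).2)
    have h0 := hff ⟨_, hmem⟩ fun c => by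
      rw [polar_res]
      show QuadraticMap.polar Q (h.1 a + a) (f c : V) = 0
      have hfc : h.1 (f c : V) = -(f c : V) := by
        have hc0 : Q (f c : V) ≠ 0 := hf c
        rw [hh, Finset.sum_eq_single c (fun d _ hd => by
          rw [← polar_res Q E, hfo c d hd.symm, mul_zero, zero_smul]) (fun h => absurd (Finset.mem_univ _) h),
          quad_polar_self, show (Q (f c : V))⁻¹ * (2 * Q (f c : V)) = 2 by field_simp, two_smul]
        abel
      have h3 := qAut_polar h a (f c : V)
      rw [hfc, QuadraticMap.polar_neg_right] at h3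
      rw [QuadraticMap.polar_add_left]
      linear_combination -h3
    exact (eq_neg_of_add_eq_zero_left (congrArg Subtype.val h0)).symm
  rw [hg, hiff]
  simp only [Fintype.card_prod, Fintype.card_fin, Finset.univ_eq_empty, Finset.prod_empty, one_mul, zero_add]
  have hp : ∏ a, Q (f a : V) = ∏ a, (res Q E) (f a) := rfl
  rw [hp, ← chi_eq_one]
  refine ⟨fun hh => ?_, fun hh => ⟨⟨s, by ring⟩, ?_⟩⟩
  · rwa [hh.2, mul_one] at hfs
  · have := sg_unique hfs hh
    rcases eta_pm (F := F) with h | h <;> rw [h] at this <;>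
      rcases chi_pm (∏ a, (res Q E) (f a)) with h' | h' <;> rw [h'] at this ⊢ <;>
      rcases Nat.even_or_odd s with hs' | hs' <;> simp [hs'.neg_one_pow] at this ⊢

/-- A square root of `-1` moves orthonormal-type planes. -/
theorem exists_rot_family (h2 : (2 : F) ≠ 0) : ∀ (n : ℕ) {W : Type u} [AddCommGroup W] [Module F W]
    [FiniteDimensional F W] (R : QuadraticForm F W), PolarNondeg R → finrank F W = n → ∀ g : Module.End F W,
    (∀ v, g (g v) = -v) → (∀ v, R (g v) = R v) →
    ∃ (j : ℕ) (u : Fin j → W), n = 2 * j ∧ (∀ a, R (u a) ≠ 0) ∧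
      (∀ a b, a ≠ b → QuadraticMap.polar R (u a) (u b) = 0 ∧ QuadraticMap.polar R (u a) (g (u b)) = 0) ∧
      (∀ y, (∀ a, QuadraticMap.polar R y (u a) = 0 ∧ QuadraticMap.polar R y (g (u a)) = 0) → y = 0) ∧
      Sg R (eta F ^ j) := by
  intro n
  induction n using Nat.strong_induction_on with
  | _ n ih =>
    intro W _ _ _ R hR hn g hg hgR
    rcases Nat.eq_zero_or_pos n with rfl | hn0
    · haveI : Subsingleton W := Module.finrank_zero_iff.1 hn
      exact ⟨0, fun a => a.elim0, rfl, fun a => a.elim0, fun a => a.elim0, fun y _ => Subsingleton.elim _ _,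
        by simpa using sg_subsingleton R hn⟩
    obtain ⟨v, hv⟩ : ∃ v, R v ≠ 0 := by
      by_contra hc
      push Not at hc
      haveI : Nontrivial W := Module.nontrivial_of_finrank_pos (R := F) (by omega)
      obtain ⟨v, hv⟩ := exists_ne (0 : W)
      exact hv (hR v fun w => by simp [QuadraticMap.polar, hc])
    have hgg : ∀ a b, QuadraticMap.polar R (g a) (g b) = QuadraticMap.polar R a b := fun a b => by
      simp only [QuadraticMap.polar, ← map_add, hgR]
    have hskew : ∀ a b, QuadraticMap.polar R (g a) b = -QuadraticMap.polar R a (g b) := fun a b => by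
      rw [← hgg (g a) b, hg, QuadraticMap.polar_neg_left]
    have hvw : QuadraticMap.polar R v (g v) = 0 := by
      have h := hskew v v
      rw [QuadraticMap.polar_comm] at h
      have h' : (2 : F) * QuadraticMap.polar R v (g v) = 0 := by linear_combination h
      exact (mul_eq_zero.1 h').resolve_left h2
    have hgv : R (g v) ≠ 0 := by rwa [hgR]
    obtain ⟨hPd, hPn, hPs⟩ := plane_data h2 hv hgv hvw
    obtain ⟨P, hP⟩ : ∃ P, P = Submodule.span F {v, g v} := ⟨_, rfl⟩
    rw [← hP] at hPd hPn hPs
    have hPinv : ∀ x ∈ perp R P, g x ∈ perp R P := fun x hx => mem_perp.2 fun u hu => by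
      have hgu : g u ∈ P := by
        rw [hP] at hu ⊢
        obtain ⟨a, b, rfl⟩ := Submodule.mem_span_pair.1 hu
        rw [map_add, map_smul, map_smul, hg]
        exact Submodule.mem_span_pair.2 ⟨-b, a, by rw [smul_neg, neg_smul]; abel⟩
      rw [show QuadraticMap.polar R u (g x) = -QuadraticMap.polar R (g u) x by rw [hskew, neg_neg],
        mem_perp.1 hx _ hgu, neg_zero]
    obtain ⟨hc, hpn, hiso⟩ := split_res hR hPn
    have hpd := finrank_perp hR P
    obtain ⟨j, u, hj, hu, huo, huf, hus⟩ := ih (n - 2) (by omega) (res R (perp R P)) hpn (by omega)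
      (g.restrict hPinv) (fun x => Subtype.ext (hg x)) (fun x => hgR x)
    obtain ⟨u', hu'⟩ : ∃ u' : Fin (j + 1) → W, u' = fun a => Fin.cases v (fun b => (u b : W)) a := ⟨_, rfl⟩
    have h0 : u' 0 = v := by rw [hu']; rfl
    have hs : ∀ b, u' (Fin.succ b) = (u b : W) := fun b => by rw [hu']; simp
    have hvP : v ∈ P ∧ g v ∈ P := by
      rw [hP]; exact ⟨Submodule.subset_span (by simp), Submodule.subset_span (by simp)⟩
    refine ⟨j + 1, u', by omega, fun a => ?_, fun a b hab => ?_, fun y hy => ?_, ?_⟩
    · induction a using Fin.cases with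
      | zero => rw [h0]; exact hv
      | succ b => rw [hs]; exact hu b
    · induction a using Fin.cases with
      | zero =>
        induction b using Fin.cases with
        | zero => exact absurd rfl hab
        | succ b => rw [h0, hs]; exact ⟨mem_perp.1 (u b).2 v hvP.1, mem_perp.1 (hPinv _ (u b).2) v hvP.1⟩
      | succ a =>
        induction b using Fin.cases with
        | zero =>
          rw [h0, hs, QuadraticMap.polar_comm, QuadraticMap.polar_comm _ (u a : W)]
          exact ⟨mem_perp.1 (u a).2 v hvP.1, mem_perp.1 (u a).2 (g v) hvP.2⟩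
        | succ b =>
          rw [hs, hs]
          have h := huo a b fun e => hab (by rw [e])
          rw [polar_res, polar_res, LinearMap.restrict_coe_apply] at h
          exact h
    · have h1 : y ∈ perp R P := mem_perp.2 fun x hx => by
        rw [hP] at hx
        obtain ⟨a, b, rfl⟩ := Submodule.mem_span_pair.1 hx
        have e := hy 0
        rw [h0] at e
        rw [QuadraticMap.polar_comm]
        simp [QuadraticMap.polar_add_right, QuadraticMap.polar_smul_right, e.1, e.2]
      exact congrArg Subtype.val (huf ⟨y, h1⟩ fun a => by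
        rw [polar_res, polar_res, LinearMap.restrict_coe_apply, ← hs]
        exact hy _)
    · have h := (hPs.prod hus).congr hiso
      have e : chi (-(R v * R (g v))) = eta F := by
        rw [hgR, show -(R v * R v) = (-1) * (R v * R v) by ring, chi_mul (by norm_num) (mul_ne_zero hv hv), chi_sq,
          mul_one, eta]
      rw [e] at h
      rwa [pow_succ']

/-- Square roots of `-1` in the commutator subgroup. -/
theorem rot_mem_iff (h2 : (2 : F) ≠ 0) (hQ : PolarNondeg Q) (hex : Fintype.card F ≠ 2 ∨ finrank F V ≠ 4) (g : qAut Q)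
    (hg : ∀ v, g.1 (g.1 v) = -v) {j : ℕ} (hj : finrank F V = 2 * j) :
    g ∈ commutator (qAut Q) ↔ (Even j ∨ IsSquare (2 : F)) := by
  obtain ⟨j', u, hn, hu, huo, huf, -⟩ := exists_rot_family h2 _ Q hQ rfl (g.1.toLinearMap : Module.End F V) hg (fun v => qAut_map g v)
  obtain rfl : j' = j := by omega
  simp only [LinearEquiv.coe_coe] at huo huf
  have hgg : ∀ a b, QuadraticMap.polar Q (g.1 a) (g.1 b) = QuadraticMap.polar Q a b := fun a b => qAut_polar g a b
  have hskew : ∀ a, QuadraticMap.polar Q (g.1 a) a = 0 := fun a => by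
    have h := hgg (g.1 a) a
    rw [hg, QuadraticMap.polar_neg_left, QuadraticMap.polar_comm] at h
    have h' : (2 : F) * QuadraticMap.polar Q (g.1 a) a = 0 := by linear_combination -h
    exact (mul_eq_zero.1 h').resolve_left h2
  have hv : ∀ a, Q (u a + g.1 (u a)) = 2 * Q (u a) := fun a => by
    rw [quad_add, qAut_map, QuadraticMap.polar_comm, hskew]; ring
  obtain ⟨h, h', hh, hh', hiff⟩ := refl_families_iff hQ hex u hu (fun a b hab => (huo a b hab).1)
    (fun a => u a + g.1 (u a)) (fun a => by rw [hv]; exact mul_ne_zero h2 (hu a)) (fun a b hab => by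
      simp only [QuadraticMap.polar_add_left, QuadraticMap.polar_add_right, hgg, (huo a b hab).1, (huo a b hab).2,
        QuadraticMap.polar_comm Q (g.1 (u a)) (u b), (huo b a (Ne.symm hab)).2, add_zero])
  obtain ⟨k, hk⟩ : ∃ k, k = h' * h := ⟨_, rfl⟩
  have hka : ∀ a, k.1 (u a) = g.1 (u a) ∧ k.1 (g.1 (u a)) = -u a := fun a => by
    have hne := hu a
    have e1 : h.1 (u a) = -u a := by
      rw [hh, Finset.sum_eq_single a (fun c _ hc => by rw [(huo a c hc.symm).1, mul_zero, zero_smul])
        (fun h => absurd (Finset.mem_univ _) h), quad_polar_self,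
        show (Q (u a))⁻¹ * (2 * Q (u a)) = 2 by field_simp, two_smul]
      abel
    have e2 : h.1 (g.1 (u a)) = g.1 (u a) := by
      rw [hh, Finset.sum_eq_zero fun c _ => ?_, sub_zero]
      rcases eq_or_ne c a with rfl | hca
      · rw [hskew, mul_zero, zero_smul]
      · rw [QuadraticMap.polar_comm, (huo c a hca).2, mul_zero, zero_smul]
    have e3 : ∀ x, (x = u a ∨ x = g.1 (u a)) → h'.1 x = x - (u a + g.1 (u a)) := fun x hx => by
      rw [hh', Finset.sum_eq_single a (fun c _ hc => ?_) (fun h => absurd (Finset.mem_univ _) h)]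
      · have hp : QuadraticMap.polar Q x (u a + g.1 (u a)) = 2 * Q (u a) := by
          rcases hx with rfl | rfl
          · rw [QuadraticMap.polar_add_right, quad_polar_self, QuadraticMap.polar_comm, hskew, add_zero]
          · rw [QuadraticMap.polar_add_right, quad_polar_self, hskew, qAut_map, zero_add]
        rw [hp, hv, inv_mul_cancel₀ (mul_ne_zero h2 hne), one_smul]
      · have hp : QuadraticMap.polar Q x (u c + g.1 (u c)) = 0 := by
          rcases hx with rfl | rfl
          · rw [QuadraticMap.polar_add_right, (huo a c hc.symm).1, (huo a c hc.symm).2, add_zero]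
          · rw [QuadraticMap.polar_add_right, hgg, (huo a c hc.symm).1, QuadraticMap.polar_comm, (huo c a hc).2, add_zero]
        rw [hp, mul_zero, zero_smul]
    constructor
    · rw [hk, qAut_mul_apply, e1, map_neg, e3 _ (Or.inl rfl)]; abel
    · rw [hk, qAut_mul_apply, e2, e3 _ (Or.inr rfl)]; abel
  have hgk : g = k := qAut_ext fun y => sub_eq_zero.1 (huf _ fun a => by
    constructor
    · rw [QuadraticMap.polar_sub_left]
      have e1 := qAut_polar k y (g.1 (u a))
      rw [(hka a).2, QuadraticMap.polar_neg_right] at e1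
      have e2 := hgg y (g.1 (u a))
      rw [hg, QuadraticMap.polar_neg_right] at e2
      linear_combination -e2 + e1
    · rw [QuadraticMap.polar_sub_left, hgg]
      have e1 := qAut_polar k y (u a)
      rw [(hka a).1] at e1
      rw [e1, sub_self])
  rw [hgk, hk, hiff]
  simp only [hv, Finset.prod_mul_distrib, Finset.prod_const, Finset.card_univ, Fintype.card_fin]
  rw [mul_assoc, ← chi_eq_one, chi_mul (pow_ne_zero _ h2) (by
      exact mul_ne_zero (Finset.prod_ne_zero_iff.2 fun a _ => hu a) (Finset.prod_ne_zero_iff.2 fun a _ => hu a)),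
    chi_sq, mul_one, chi_pow h2]
  refine ⟨fun hh => ?_, fun hh => ⟨⟨j', rfl⟩, ?_⟩⟩
  · rcases Nat.even_or_odd j' with he | ho
    · exact Or.inl he
    · right
      refine chi_eq_one.1 ((chi_pm _).resolve_right fun e => ?_)
      have h2' := hh.2
      rw [e, ho.neg_one_pow] at h2'
      norm_num at h2'
  · rcases hh with he | hs
    · rcases chi_pm (2 : F) with e | e <;> rw [e]
      · rw [one_pow]
      · rw [he.neg_one_pow]
    · rw [chi_eq_one.2 hs, one_pow]

end CfsgLib.Classical22.OrthType
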