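/-
Isometries of odd prime order: tuples of multiplicities, models and transfers.
-/
import Cfsg.Agent.Lib.Classical22.OrthTypeEmbed
import Cfsg.Agent.Lib.Classical.SpOrthPrimeCounts

set_option autoImplicit false

namespace CfsgLib.Classical22.OrthType

open CfsgLib.Classical CfsgLib.Classical.QuadSign CfsgLib.Classical.SDBlock Module Polynomial

universe u

variable {F : Type u} [Field F]
variable {V W : Type u} [AddCommGroup V] [Module F V] [AddCommGroup W] [Module F W]

/-- The data of an odd prime `r` prime to the characteristic. -/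
structure Ctx (F : Type u) [Field F] [Fintype F] (r : ℕ) where
  t : ℕ
  i : ℕ
  P : Option (Fin t) → F[X]
  δ : Option (Fin t) → Option (Fin t)
  δ' : Fin t → Fin t
  pos : 0 < i
  ord : orderOf (Fintype.card F : ZMod r) = i
  data : InvIdx.Data F r i t P
  inv_spec : ∀ l o, P o ∣ (P l).comp (Polynomial.X ^ (r - 1)) ↔ o = δ l
  inv_inv : ∀ o, δ (δ o) = o
  inv_some : ∀ j, δ (some j) = some (δ' j)
  fixed : ∀ j, δ' j = j ↔ Even i
  count : t * i = r - 1

/-- The sign of a sum of `e` elementary blocks. -/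
def sgn (i e : ℕ) : ℤ := if Even i then (-1) ^ e else 1

theorem sgn_add (i a b : ℕ) : sgn i (a + b) = sgn i a * sgn i b := by
  unfold sgn; split_ifs <;> simp [pow_add]

theorem sgn_pm (i e : ℕ) : sgn i e = 1 ∨ sgn i e = -1 := by
  unfold sgn
  split_ifs
  · rcases Nat.even_or_odd e with h | h
    · exact Or.inl h.neg_one_pow
    · exact Or.inr h.neg_one_pow
  · exact Or.inl rfl

theorem sgn_zero (i : ℕ) : sgn i 0 = 1 := by simp [sgn]

theorem sgn_mul_self (i e : ℕ) : sgn i e * sgn i e = 1 := by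
  rcases sgn_pm i e with h | h <;> simp [h]

/-- An isometry of exponent `r`. -/
def Act (Q : QuadraticForm F V) (r : ℕ) (f : Module.End F V) : Prop := f ^ r = 1 ∧ ∀ v, Q (f v) = Q v

variable [Fintype F] {r : ℕ} (C : Ctx F r)

/-- The multiplicity of the `j`th factor. -/
noncomputable def tup (f : Module.End F V) (j : Fin C.t) : ℕ := kd C.P f (some j) / C.i

/-- The dimension of the fixed space. -/
noncomputable def fx (f : Module.End F V) : ℕ := kd C.P f none

/-- The sum of the multiplicities. -/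
noncomputable def tot (f : Module.End F V) : ℕ := ∑ j, tup C f j

variable {C}

theorem inv' (j : Fin C.t) : C.δ' (C.δ' j) = j :=
  SpOPrime.prime_invol C.δ C.inv_inv C.δ' C.inv_some j

theorem sum_comp (b : Fin C.t → ℕ) : ∑ j, b (C.δ' j) = ∑ j, b j :=
  Equiv.sum_comp (⟨C.δ', C.δ', inv', inv'⟩ : Fin C.t ≃ Fin C.t) b

/-- Without self-dual factors a symmetric tuple has even sum. -/
theorem even_sum (hi : Odd C.i) {b : Fin C.t → ℕ} (hb : ∀ j, b (C.δ' j) = b j) : Even (∑ j, b j) := by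
  refine SpOPrime.tuple_induction C.δ' inv' (fun b => Even (∑ j, b j)) (by simp)
    (fun a b ha hb => by simp only [Pi.add_apply, Finset.sum_add_distrib]; exact ha.add hb)
    (fun j _ => by simp [Finset.sum_add_distrib])
    (fun j hj => absurd ((C.fixed j).1 hj) (Nat.not_even_iff_odd.2 hi)) b hb

theorem tup_of_intertwine (f : Module.End F V) (g : Module.End F W) (e : V ≃ₗ[F] W) (he : ∀ x, e (f x) = g (e x)) :
    tup C f = tup C g ∧ fx C f = fx C g :=
  ⟨funext fun j => by rw [tup, tup, kd_of_intertwine f g e he], kd_of_intertwine f g e he _⟩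

variable [FiniteDimensional F V] [FiniteDimensional F W]

theorem mul_tup (f : Module.End F V) (j : Fin C.t) : C.i * tup C f j = kd C.P f (some j) :=
  Nat.mul_div_cancel' (SpOPrime.dvd_kd C.data f j)

theorem fx_add (f : Module.End F V) (hf : f ^ r = 1) : fx C f + C.i * tot C f = finrank F V := by
  rw [tot, Finset.mul_sum, Finset.sum_congr rfl fun j _ => mul_tup f j]
  exact SpOPrime.kd_sum C.data hf

theorem tup_prod (f : Module.End F V) (g : Module.End F W) :
    tup C (f.prodMap g) = tup C f + tup C g ∧ fx C (f.prodMap g) = fx C f + fx C g := by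
  refine ⟨funext fun j => ?_, kd_prodMap f g _⟩
  rw [Pi.add_apply, tup, kd_prodMap, tup, tup, Nat.add_div_of_dvd_right (SpOPrime.dvd_kd C.data f j)]

theorem tot_prod (f : Module.End F V) (g : Module.End F W) : tot C (f.prodMap g) = tot C f + tot C g := by
  simp only [tot, (tup_prod f g).1, Pi.add_apply, Finset.sum_add_distrib]

theorem tup_one : tup C (1 : Module.End F V) = 0 ∧ fx C (1 : Module.End F V) = finrank F V := by
  refine ⟨funext fun j => by rw [tup, SpOPrime.kd_one C.data, Nat.zero_div, Pi.zero_apply], ?_⟩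
  have h := fx_add (C := C) (1 : Module.End F V) (one_pow r)
  rw [tot, Finset.sum_eq_zero fun j _ => by rw [tup, SpOPrime.kd_one C.data, Nat.zero_div], mul_zero, add_zero] at h
  exact h

theorem tup_sym {Q : QuadraticForm F V} (hQ : PolarNondeg Q) {f : Module.End F V} (hf : Act Q r f) (j : Fin C.t) :
    tup C f (C.δ' j) = tup C f j := by
  rw [tup, tup, ← C.inv_some, ← kd_symm C.data C.δ C.inv_spec hf.1 (QuadraticMap.polarBilin Q)
    (SpOCount.qAut_polar_end hf.2) hQ]

/-- A non-trivial element moves something. -/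
theorem tot_pos {f : Module.End F V} (hf : f ^ r = 1) (h1 : f ≠ 1) : 0 < tot C f := by
  rw [Nat.pos_iff_ne_zero]
  intro h0
  rw [tot, Finset.sum_eq_zero_iff] at h0
  obtain ⟨e, he⟩ := SpOPrime.similar_of_kd C.data hf (one_pow r) fun j => by
    rw [← mul_tup, h0 j (Finset.mem_univ _), mul_zero, SpOPrime.kd_one C.data]
  exact h1 (LinearMap.ext fun v => e.injective (he v))

/-- An isometry of exponent `r` as an automorphism. -/
theorem exists_qAut (hr : r.Prime) {Q : QuadraticForm F V} {f : Module.End F V} (hf : Act Q r f) :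
    ∃ g : qAut Q, g ^ r = 1 ∧ ∀ v, g.1 v = f v := by
  have hinv : ∀ x, f ((f ^ (r - 1)) x) = x := SDBlock.inv_apply hr.pos hf.1
  have hinv' : ∀ x, (f ^ (r - 1)) (f x) = x := fun x => by
    rw [← Module.End.mul_apply, ← pow_succ, Nat.sub_add_cancel hr.one_le, hf.1]; rfl
  obtain ⟨g, hg⟩ : ∃ g : qAut Q, ∀ v, g.1 v = f v :=
    ⟨⟨LinearEquiv.ofLinear f (f ^ (r - 1)) (LinearMap.ext hinv) (LinearMap.ext hinv'), hf.2⟩, fun v => rfl⟩
  refine ⟨g, qAut_ext fun v => ?_, hg⟩
  have h : ∀ n : ℕ, (g ^ n).1 v = (f ^ n) v := fun n => by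
    induction n with
    | zero => rfl
    | succ n ih => rw [pow_succ', pow_succ', Subgroup.coe_mul, LinearEquiv.mul_apply, ih, hg]; rfl
  rw [h, hf.1]; rfl

/-- Isometries with the same tuple on isometric spaces are conjugate. -/
theorem exists_equivariant {Q : QuadraticForm F V} (hQ : PolarNondeg Q) {R : QuadraticForm F W}
    {f : Module.End F V} (hf : Act Q r f) {g : Module.End F W} (hg : Act R r g) (hi : Isom R Q)
    (ht : tup C g = tup C f) : ∃ e : W ≃ₗ[F] V, (∀ w, Q (e w) = R w) ∧ ∀ w, e (g w) = f (e w) := by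
  obtain ⟨e₀, he₀⟩ := hi
  obtain ⟨g', hg'⟩ : ∃ g' : Module.End F V, g' = e₀.conj g := ⟨_, rfl⟩
  have hg'e : ∀ w, e₀ (g w) = g' (e₀ w) := fun w => by simp [hg', LinearEquiv.conj_apply]
  have hgr : g' ^ r = 1 := by
    rw [hg', show e₀.conj g = e₀.conjAlgEquiv F g from rfl, ← map_pow, hg.1, map_one]
  have hgQ : ∀ v, Q (g' v) = Q v := fun v => by
    obtain ⟨w, rfl⟩ := e₀.surjective v
    rw [← hg'e, he₀, he₀, hg.2]
  obtain ⟨A, hAr, hA⟩ := exists_qAut C.data.prime (Q := Q) (f := g') ⟨hgr, hgQ⟩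
  obtain ⟨B, -, hB⟩ := exists_qAut C.data.prime hf
  obtain ⟨P, hP⟩ := SpOPrime.similar_of_kd C.data hgr hf.1 fun j => by
    rw [← mul_tup, ← mul_tup, ← ((tup_of_intertwine g g' e₀ hg'e).1), ht]
  have hA1 : (A.1.toLinearMap : Module.End F V) = g' := LinearMap.ext hA
  obtain ⟨k, hkQ, hk⟩ := SemiConj.exists_quad_intertwine Q hQ C.data.cast_ne
    (C.data.prime.odd_of_ne_two C.data.ne_two) A.1 B.1 P (fun v => by rw [hA, hB, hP]) (by rw [hA1, hgr])
    (fun v => A.2 v) (fun v => B.2 v)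
  refine ⟨e₀.trans k, fun w => ?_, fun w => ?_⟩
  · rw [LinearEquiv.trans_apply, hkQ, he₀]
  · rw [LinearEquiv.trans_apply, LinearEquiv.trans_apply, hg'e, ← hA, hk, hB]

/-- A quadratic space with an isometry of exponent `r`. -/
structure Obj (F : Type u) [Field F] (r : ℕ) where
  sp : Space F
  f : Module.End F sp.carrier
  act : Act sp.form r f

/-- The orthogonal sum. -/
def Obj.prod (A B : Obj F r) : Obj F r where
  sp := ⟨A.sp.carrier × B.sp.carrier, A.sp.form.prod B.sp.form, SpOPrime.polar_prod A.sp.nondeg B.sp.nondeg⟩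
  f := A.f.prodMap B.f
  act := ⟨by
    show (A.f.prodMap B.f) ^ r = 1
    rw [prodMap_pow, A.act.1, B.act.1]; rfl, fun v => by simp [A.act.2, B.act.2]⟩

/-- Multiplying the form by a scalar. -/
def Obj.scale (A : Obj F r) {c : F} (hc : c ≠ 0) : Obj F r where
  sp := ⟨A.sp.carrier, c • A.sp.form, polarNondeg_smul A.sp.nondeg hc⟩
  f := A.f
  act := ⟨A.act.1, fun v => by simp [A.act.2]⟩

/-- A space with trivial action. -/
def Obj.trivial' (S : Space F) : Obj F r where
  sp := S
  f := 1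
  act := ⟨one_pow r, fun _ => rfl⟩

omit [FiniteDimensional F V] [FiniteDimensional F W] in
/-- Models without fixed vectors. -/
theorem exists_moving {b : Fin C.t → ℕ} (hb : ∀ j, b (C.δ' j) = b j) :
    ∃ A : Obj F r, tup C A.f = b ∧ fx C A.f = 0 ∧ finrank F A.sp.carrier = C.i * ∑ j, b j ∧
      Sg A.sp.form (sgn C.i (∑ j, b j)) := by
  obtain ⟨W, _, _, _, A, Q, k, hA, hW, hs, hk, hQA, hQ, hsg⟩ :=
    SpOPrime.exists_quad_model C.data C.δ C.inv_spec C.inv_inv C.δ' C.inv_some C.pos rfl C.ord b hb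
  have ht : tup C A = b := funext fun j => by rw [tup, hk, Nat.mul_div_cancel_left _ C.pos]
  refine ⟨⟨⟨W, Q, hQ⟩, A, hA, hQA⟩, ht, ?_, hW.trans hs.symm, k, hW, ?_⟩
  · have := fx_add (C := C) A hA
    rw [tot, ht] at this
    show fx C A = 0
    omega
  · exact hsg

/-- Without fixed vectors the tuple determines the sign. -/
theorem sg_fpf {Q : QuadraticForm F V} (hQ : PolarNondeg Q) {f : Module.End F V} (hf : Act Q r f) (h0 : fx C f = 0) :
    Sg Q (sgn C.i (tot C f)) := by
  obtain ⟨A, hA, hA0, hAd, hAs⟩ := exists_moving (C := C) (tup_sym hQ hf)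
  have hd : finrank F A.sp.carrier = finrank F V := by
    have := fx_add (C := C) f hf.1
    have h' : C.i * tot C f = C.i * ∑ j, tup C f j := rfl
    omega
  obtain ⟨g', hg'⟩ : ∃ g' : Module.End F V, g' = (LinearEquiv.ofFinrankEq _ _ hd).conj A.f := ⟨_, rfl⟩
  obtain ⟨e₀, he₀⟩ : ∃ e₀ : A.sp.carrier ≃ₗ[F] V, ∀ w, e₀ (A.f w) = g' (e₀ w) :=
    ⟨LinearEquiv.ofFinrankEq _ _ hd, fun w => by rw [hg']; simp [LinearEquiv.conj_apply]⟩
  have hg'r : g' ^ r = 1 := by
    rw [hg', show ∀ e : A.sp.carrier ≃ₗ[F] V, e.conj A.f = e.conjAlgEquiv F A.f from fun e => rfl, ← map_pow,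
      A.act.1, map_one]
  obtain ⟨P, hP⟩ := SpOPrime.similar_of_kd C.data hf.1 hg'r fun j => by
    rw [← mul_tup, ← mul_tup, ← ((tup_of_intertwine A.f g' e₀ he₀).1), hA]
  obtain ⟨φ, hφ⟩ : ∃ φ : V ≃ₗ[F] A.sp.carrier, φ = P.trans e₀.symm := ⟨_, rfl⟩
  have hφf : ∀ v, φ (f v) = A.f (φ v) := fun v => e₀.injective (by
    rw [he₀, hφ]; simp [hP])
  obtain ⟨z, hz⟩ := SpOCount.isometric_of_fpf C.data Q (A.sp.form.comp φ.toLinearMap) hQ
    (polarNondeg_congr φ.symm (fun w => by simp) A.sp.nondeg) f hf.1 h0 hf.2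
    (fun v => by simp [hφf, A.act.2])
  refine hAs.congr ⟨φ.symm.trans z, fun w => ?_⟩
  rw [LinearEquiv.trans_apply, hz]
  simp

/-- A model with the same tuple gives an invariant summand. -/
theorem exists_summand {Q : QuadraticForm F V} (hQ : PolarNondeg Q) {f : Module.End F V} (hf : Act Q r f)
    (A B : Obj F r) (hi : Isom (A.sp.form.prod B.sp.form) Q) (ht : tup C A.f + tup C B.f = tup C f) :
    ∃ U : Submodule F V, Isom A.sp.form (res Q U) ∧ PolarNondeg (res Q U) ∧ ∀ u ∈ U, f u ∈ U := by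
  obtain ⟨e, heQ, hef⟩ := exists_equivariant (C := C) hQ hf (A.prod B).act hi
    ((tup_prod A.f B.f).1.trans ht)
  have h := isom_res_fst (R := A.sp.form) (S := B.sp.form) e heQ
  refine ⟨_, h, polarNondeg_of_isom h A.sp.nondeg, ?_⟩
  rintro _ ⟨a, rfl⟩
  refine ⟨A.f a, ?_⟩
  show e (A.f a, 0) = f (e (a, 0))
  refine Eq.trans ?_ (hef (a, 0))
  exact congrArg e (Prod.ext rfl (map_zero B.f).symm : ((A.f a, 0) : A.sp.carrier × B.sp.carrier) = (A.f.prodMap B.f) (a, 0))

/-- An invariant pair of complements. -/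
theorem tup_compl (f : Module.End F V) {U U' : Submodule F V} (hc : IsCompl U U') (hU : ∀ u ∈ U, f u ∈ U)
    (hU' : ∀ u ∈ U', f u ∈ U') :
    tup C f = tup C (f.restrict hU) + tup C (f.restrict hU') ∧ fx C f = fx C (f.restrict hU) + fx C (f.restrict hU') := by
  obtain ⟨h1, h2⟩ := tup_of_intertwine (C := C) ((f.restrict hU).prodMap (f.restrict hU')) f
    (U.prodEquivOfIsCompl U' hc) (fun x => by simp)
  rw [← h1, ← h2]
  exact tup_prod _ _

omit [FiniteDimensional F V] [FiniteDimensional F W] in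
theorem act_restrict {Q : QuadraticForm F V} {f : Module.End F V} (hf : Act Q r f) {U : Submodule F V}
    (hU : ∀ u ∈ U, f u ∈ U) : Act (res Q U) r (f.restrict hU) :=
  ⟨LinearMap.ext fun x => Subtype.ext (by rw [Module.End.pow_restrict, LinearMap.restrict_coe_apply, hf.1]; rfl),
    fun v => hf.2 (v : V)⟩

omit [FiniteDimensional F V] [FiniteDimensional F W] in
theorem perp_inv {Q : QuadraticForm F V} {f : Module.End F V} (hr : 0 < r) (hf : Act Q r f) {U : Submodule F V}
    (hU : ∀ u ∈ U, f u ∈ U) : ∀ v ∈ perp Q U, f v ∈ perp Q U := by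
  intro v hv
  rw [mem_perp] at hv ⊢
  intro u hu
  obtain ⟨s, hs⟩ : ∃ s, r = s + 1 := ⟨r - 1, by omega⟩
  have hpow : ∀ n : ℕ, ∀ w ∈ U, (f ^ n) w ∈ U := fun n => by
    induction n with
    | zero => exact fun w hw => hw
    | succ n ih => exact fun w hw => by rw [pow_succ', Module.End.mul_apply]; exact hU _ (ih w hw)
  have h1 : f ((f ^ s) u) = u := by rw [← Module.End.mul_apply, ← pow_succ', ← hs, hf.1]; rfl
  have h2 := hv _ (hpow s u hu)
  rw [← h1]
  simp only [QuadraticMap.polar] at h2 ⊢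
  rw [← map_add, hf.2, hf.2, hf.2]
  exact h2

end CfsgLib.Classical22.OrthType
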