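/-
Non-degenerate invariant subspaces of isometries of odd prime order.
-/
import Cfsg.Agent.Lib.Classical22.OrthTypePieces

set_option autoImplicit false

namespace CfsgLib.Classical22.OrthType

open CfsgLib.Classical Module

universe u

variable {F : Type u} [Field F] [Fintype F] {r : ℕ} {C : Ctx F r}

/-- Sub-tuples of any smaller sum. -/
theorem exists_le_sum {ι : Type} [Fintype ι] [DecidableEq ι] (b : ι → ℕ) :
    ∀ S, S ≤ ∑ j, b j → ∃ s : ι → ℕ, (∀ j, s j ≤ b j) ∧ ∑ j, s j = S := by
  intro S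
  induction S with
  | zero => exact fun _ => ⟨0, fun j => Nat.zero_le _, by simp⟩
  | succ S ih =>
    intro hS
    obtain ⟨s, hs, hsum⟩ := ih (by omega)
    obtain ⟨j, hj⟩ : ∃ j, s j < b j := by
      by_contra hc
      push Not at hc
      have := Finset.sum_le_sum fun j (_ : j ∈ Finset.univ) => hc j
      omega
    refine ⟨s + Pi.single j 1, fun k => ?_, by simp [Finset.sum_add_distrib, hsum]⟩
    rcases eq_or_ne k j with rfl | hk
    · simp; omega
    · simpa [hk] using hs k

/-- Without self-dual factors a symmetric tuple is the double of a half. -/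
theorem exists_half (hi : Odd C.i) {b : Fin C.t → ℕ} (hb : ∀ j, b (C.δ' j) = b j) :
    ∃ v : Fin C.t → ℕ, ∀ j, v j + v (C.δ' j) = b j := by
  refine SpOPrime.tuple_induction C.δ' inv' (fun b => ∃ v : Fin C.t → ℕ, ∀ j, v j + v (C.δ' j) = b j)
    ⟨0, fun j => rfl⟩ (fun a b ⟨v, hv⟩ ⟨w, hw⟩ => ⟨v + w, fun j => ?_⟩) (fun j _ => ⟨Pi.single j 1, fun k => ?_⟩)
    (fun j hj => absurd ((C.fixed j).1 hj) (Nat.not_even_iff_odd.2 hi)) b hb
  · simp only [Pi.add_apply, ← hv j, ← hw j]; ring
  · have h : C.δ' k = j ↔ k = C.δ' j := ⟨fun e => by rw [← e, inv'], fun e => by rw [e, inv']⟩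
    simp only [Pi.add_apply, Pi.single_apply, h]

/-- Symmetric sub-tuples. -/
theorem exists_sym_le {b : Fin C.t → ℕ} (hb : ∀ j, b (C.δ' j) = b j) {S : ℕ} (hS : S ≤ ∑ j, b j)
    (hpar : Odd C.i → Even S) :
    ∃ s : Fin C.t → ℕ, (∀ j, s (C.δ' j) = s j) ∧ (∀ j, s j ≤ b j) ∧ ∑ j, s j = S := by
  classical
  rcases Nat.even_or_odd C.i with he | ho
  · obtain ⟨s, hs, hsum⟩ := exists_le_sum b S hS
    exact ⟨s, fun j => by rw [(C.fixed j).2 he], hs, hsum⟩
  · obtain ⟨v, hv⟩ := exists_half ho hb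
    obtain ⟨k, rfl⟩ := hpar ho
    have hsum : ∑ j, b j = 2 * ∑ j, v j := by
      simp only [← hv, Finset.sum_add_distrib, sum_comp]; ring
    obtain ⟨w, hw, hwk⟩ := exists_le_sum v k (by omega)
    refine ⟨fun j => w j + w (C.δ' j), fun j => ?_, fun j => ?_, ?_⟩
    · simp only [inv']; rw [add_comm]
    · rw [← hv j]; exact add_le_add (hw _) (hw _)
    · simp only [Finset.sum_add_distrib, sum_comp, hwk]

theorem t_pos (C : Ctx F r) : 0 < C.t := by
  have h := C.count
  have := C.data.prime.two_le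
  rcases Nat.eq_zero_or_pos C.t with h0 | h0
  · rw [h0, zero_mul] at h; omega
  · exact h0

/-- Symmetric tuples of every admissible sum. -/
theorem exists_sym_sum (C : Ctx F r) {E : ℕ} (hpar : Odd C.i → Even E) :
    ∃ b : Fin C.t → ℕ, (∀ j, b (C.δ' j) = b j) ∧ ∑ j, b j = E := by
  obtain ⟨s, hs, -, hsum⟩ := exists_sym_le (C := C) (b := fun _ => E) (fun _ => rfl) (S := E) (by
    simp only [Finset.sum_const, Finset.card_univ, Fintype.card_fin, smul_eq_mul]
    exact Nat.le_mul_of_pos_left _ (t_pos C)) hpar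
  exact ⟨s, hs, hsum⟩

variable {V : Type u} [AddCommGroup V] [Module F V] [FiniteDimensional F V]

theorem tot_parity {Q : QuadraticForm F V} (hQ : PolarNondeg Q) {f : Module.End F V} (hf : Act Q r f)
    (hi : Odd C.i) : Even (tot C f) := even_sum hi (tup_sym hQ hf)

theorem even_mul_of_parity (C : Ctx F r) {S : ℕ} (h : Odd C.i → Even S) : Even (C.i * S) := by
  rcases Nat.even_or_odd C.i with he | ho
  · exact he.mul_right _
  · exact (h ho).mul_left _

/-- What an invariant non-degenerate subspace gives. -/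
theorem nd_necessary {Q : QuadraticForm F V} (hQ : PolarNondeg Q) {f : Module.End F V} (hf : Act Q r f)
    {U : Submodule F V} (hU : ∀ u ∈ U, f u ∈ U) (hUn : PolarNondeg (res Q U)) :
    ∃ S D, S + D = tot C f ∧ (Odd C.i → Even S) ∧ C.i * S ≤ finrank F U ∧
      (C.i * S = finrank F U → Sg (res Q U) (sgn C.i S)) ∧ C.i * D + finrank F U ≤ finrank F V ∧
      (C.i * D + finrank F U = finrank F V → ∀ η, Sg (res Q U) η → Sg Q (η * sgn C.i D)) := by
  obtain ⟨hc, hpn, hiso⟩ := split_res hQ hUn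
  have hU' := perp_inv C.data.prime.pos hf hU
  have h1 := act_restrict hf hU
  have h2 := act_restrict hf hU'
  obtain ⟨ht, hfx⟩ := tup_compl (C := C) f hc hU hU'
  have hd := Submodule.finrank_add_eq_of_isCompl hc
  have e1 := fx_add (C := C) _ h1.1
  have e2 := fx_add (C := C) _ h2.1
  refine ⟨tot C (f.restrict hU), tot C (f.restrict hU'), ?_, fun ho => tot_parity hUn h1 ho, by omega,
    fun h => sg_fpf hUn h1 (by omega), by omega, fun h η hη => ?_⟩
  · simp only [tot, ht, Pi.add_apply, Finset.sum_add_distrib]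
  · exact (hη.prod (sg_fpf hpn h2 (by omega))).congr hiso

/-- The model with prescribed moving and fixed parts. -/
theorem exists_piece (C : Ctx F r) {s : Fin C.t → ℕ} (hs : ∀ j, s (C.δ' j) = s j) (T : Space F) :
    ∃ A : Obj F r, tup C A.f = s ∧ finrank F A.sp.carrier = C.i * (∑ j, s j) + finrank F T.carrier ∧
      ∀ η, Sg T.form η → Sg A.sp.form (sgn C.i (∑ j, s j) * η) := by
  obtain ⟨M, hM, -, hMd, hMs⟩ := exists_moving (C := C) hs
  refine ⟨M.prod (Obj.trivial' T), ?_, ?_, fun η hη => hMs.prod hη⟩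
  · show tup C (M.f.prodMap (1 : Module.End F T.carrier)) = s
    rw [(tup_prod M.f 1).1, hM, tup_one.1, add_zero]
  · show finrank F (M.sp.carrier × T.carrier) = _
    rw [Module.finrank_prod, hMd]

/-- A space of given even dimension, with given sign unless it is zero. -/
theorem exists_fixed {a : ℕ} (ha : Even a) {η : ℤ} (hη : η = 1 ∨ η = -1) :
    ∃ T : Space F, finrank F T.carrier = a ∧ Sg T.form (if a = 0 then 1 else η) := by
  obtain ⟨k, rfl⟩ := ha
  split_ifs with h
  · obtain ⟨T, hT, hTs⟩ := exists_space_even (F := F) k (ε := 1) (Or.inl rfl) fun _ => rfl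
    exact ⟨T, by omega, hTs⟩
  · obtain ⟨T, hT, hTs⟩ := exists_space_even (F := F) k hη (fun hk => absurd (by omega) h)
    exact ⟨T, by omega, hTs⟩

/-- Invariant subspaces of even dimension and given sign. -/
theorem nd_even {Q : QuadraticForm F V} (hQ : PolarNondeg Q) {f : Module.End F V} (hf : Act Q r f)
    (h2 : Odd (finrank F V) → (2 : F) ≠ 0) {ε : ℤ} (hε : Even (finrank F V) → Sg Q ε)
    {m : ℕ} (hm : Even m) {εW : ℤ} (hεW : εW = 1 ∨ εW = -1) :
    (∃ U : Submodule F V, (∀ u ∈ U, f u ∈ U) ∧ finrank F U = m ∧ PolarNondeg (res Q U) ∧ Sg (res Q U) εW) ↔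
    ∃ S D, S + D = tot C f ∧ (Odd C.i → Even S) ∧ C.i * S ≤ m ∧ (C.i * S = m → sgn C.i S = εW) ∧
      C.i * D + m ≤ finrank F V ∧
      (C.i * D + m = finrank F V → Even (finrank F V) → ε = εW * sgn C.i D) := by
  constructor
  · rintro ⟨U, hU, rfl, hUn, hUs⟩
    obtain ⟨S, D, h1, h2', h3, h4, h5, h6⟩ := nd_necessary (C := C) hQ hf hU hUn
    exact ⟨S, D, h1, h2', h3, fun h => sg_unique (h4 h) hUs, h5, fun h he => sg_unique (hε he) (h6 h εW hUs)⟩
  · rintro ⟨S, D, hSD, hS, hSm, hSs, hDn, hDs⟩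
    obtain ⟨s, hs, hsb, hsS⟩ := exists_sym_le (C := C) (tup_sym hQ hf) (S := S) (show S ≤ tot C f by omega) hS
    obtain ⟨d, hd⟩ : ∃ d : Fin C.t → ℕ, d = fun j => tup C f j - s j := ⟨_, rfl⟩
    have hdd : ∀ j, d (C.δ' j) = d j := fun j => by rw [hd]; simp only [hs, tup_sym hQ hf]
    have hsd : s + d = tup C f := funext fun j => by rw [hd]; simp only [Pi.add_apply]; have := hsb j; omega
    have hdD : ∑ j, d j = D := by
      have := congrArg (fun b : Fin C.t → ℕ => ∑ j, b j) hsd
      simp only [Pi.add_apply, Finset.sum_add_distrib, hsS] at this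
      change _ = tot C f at this
      omega
    have haE : Even (m - C.i * S) := Even.tsub hm (even_mul_of_parity C hS)
    obtain ⟨T₁, hT₁, hT₁s⟩ := exists_fixed (F := F) haE (η := εW * sgn C.i S)
      (by rcases hεW with rfl | rfl <;> rcases sgn_pm C.i S with h | h <;> simp [h])
    obtain ⟨A, hA, hAd, hAs⟩ := exists_piece C hs T₁
    rw [hsS] at hAd hAs
    have hAsg : Sg A.sp.form εW := by
      have h := hAs _ hT₁s
      split_ifs at h with h0
      · rwa [mul_one, hSs (by omega)] at h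
      · rwa [mul_left_comm, sgn_mul_self, mul_one] at h
    rcases Nat.even_or_odd (finrank F V) with hn | hn
    · have hDp : Odd C.i → Even D := fun ho => by
        have := tot_parity (C := C) hQ hf ho
        rw [← hSD] at this
        exact (Nat.even_add.1 this).1 (hS ho)
      obtain ⟨ε', hε', hε's⟩ := sg_cases hQ hn
      obtain rfl : ε' = ε := sg_unique hε's (hε hn)
      obtain ⟨T₂, hT₂, hT₂s⟩ := exists_fixed (F := F)
        (show Even (finrank F V - (C.i * D + m)) from
          (Even.tsub hn ((even_mul_of_parity C hDp).add hm)))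
        (η := ε' * (εW * sgn C.i D))
        (by rcases hεW with rfl | rfl <;> rcases sgn_pm C.i D with h | h <;> rcases hε' with rfl | rfl <;> simp [h])
      obtain ⟨B, hB, hBd, hBs⟩ := exists_piece C hdd T₂
      rw [hdD] at hBd hBs
      have hBsg : Sg B.sp.form (ε' * εW) := by
        have h := hBs _ hT₂s
        split_ifs at h with h0
        · rw [mul_one] at h
          rw [hDs (by omega) hn, mul_comm εW, mul_assoc]
          rcases hεW with rfl | rfl <;> simpa using h
        · have e : sgn C.i D * (ε' * (εW * sgn C.i D)) = ε' * εW := by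
            linear_combination ε' * εW * sgn_mul_self C.i D
          rwa [e] at h
      have hAB := hAsg.prod hBsg
      have e : εW * (ε' * εW) = ε' := by rcases hεW with rfl | rfl <;> ring
      rw [e] at hAB
      obtain ⟨U, hUi, hUn, hUinv⟩ := exists_summand (C := C) hQ hf A B
        (hAB.isom hε's (SpOPrime.polar_prod A.sp.nondeg B.sp.nondeg) hQ (by
          rw [Module.finrank_prod, hAd, hBd, hT₁, hT₂]; omega)) (by rw [hA, hB, hsd])
      exact ⟨U, hUinv, by rw [← hUi.finrank_eq, hAd, hT₁]; omega, hUn, hAsg.congr hUi⟩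
    · obtain ⟨T₂, hT₂⟩ := exists_space (h2 hn) (finrank F V - (C.i * D + m))
      obtain ⟨B, hB, hBd, -⟩ := exists_piece C hdd T₂
      rw [hdD] at hBd
      obtain ⟨c, hc, hci⟩ := exists_similar (h2 hn) hQ (SpOPrime.polar_prod A.sp.nondeg B.sp.nondeg)
        (by rw [Module.finrank_prod, hAd, hBd, hT₁, hT₂]; omega) hn
      obtain ⟨U, hUi, hUn, hUinv⟩ := exists_summand (C := C) hQ hf (A.scale hc) (B.scale hc)
        ((isom_smul_prod A.sp.form B.sp.form c).symm'.trans' hci.symm') (by
          show tup C A.f + tup C B.f = _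
          rw [hA, hB, hsd])
      refine ⟨U, hUinv, ?_, hUn, (hAsg.smul A.sp.nondeg hc).congr hUi⟩
      rw [← hUi.finrank_eq]
      show finrank F A.sp.carrier = m
      rw [hAd, hT₁]; omega

/-- Invariant subspaces of odd dimension in a given class. -/
theorem nd_odd {Q : QuadraticForm F V} (hQ : PolarNondeg Q) {f : Module.End F V} (hf : Act Q r f)
    (h2 : (2 : F) ≠ 0) (hn : Even (finrank F V)) {W : Type u} [AddCommGroup W] [Module F W] [FiniteDimensional F W]
    {R : QuadraticForm F W} (hR : PolarNondeg R) (hm : Odd (finrank F W)) :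
    (∃ U : Submodule F V, (∀ u ∈ U, f u ∈ U) ∧ Isom R (res Q U)) ↔
    ∃ S D, S + D = tot C f ∧ (Odd C.i → Even S) ∧ C.i * S ≤ finrank F W ∧
      C.i * D + finrank F W ≤ finrank F V := by
  constructor
  · rintro ⟨U, hU, hUi⟩
    obtain ⟨S, D, h1, h2', h3, -, h5, -⟩ := nd_necessary (C := C) hQ hf hU (polarNondeg_of_isom hUi hR)
    rw [← hUi.finrank_eq] at h3 h5
    exact ⟨S, D, h1, h2', h3, h5⟩
  · rintro ⟨S, D, hSD, hS, hSm, hDn⟩
    obtain ⟨s, hs, hsb, hsS⟩ := exists_sym_le (C := C) (tup_sym hQ hf) (S := S) (show S ≤ tot C f by omega) hS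
    obtain ⟨d, hd⟩ : ∃ d : Fin C.t → ℕ, d = fun j => tup C f j - s j := ⟨_, rfl⟩
    have hdd : ∀ j, d (C.δ' j) = d j := fun j => by rw [hd]; simp only [hs, tup_sym hQ hf]
    have hsd : s + d = tup C f := funext fun j => by rw [hd]; simp only [Pi.add_apply]; have := hsb j; omega
    have hdD : ∑ j, d j = D := by
      have := congrArg (fun b : Fin C.t → ℕ => ∑ j, b j) hsd
      simp only [Pi.add_apply, Finset.sum_add_distrib, hsS] at this
      change _ = tot C f at this
      omega
    obtain ⟨T₁, hT₁⟩ := exists_space h2 (finrank F W - C.i * S)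
    obtain ⟨A, hA, hAd, -⟩ := exists_piece C hs T₁
    rw [hsS] at hAd
    have hAd' : finrank F A.sp.carrier = finrank F W := by rw [hAd, hT₁]; omega
    obtain ⟨a, ha, hai⟩ := exists_similar h2 hR A.sp.nondeg hAd'.symm hm
    obtain ⟨T₂, hT₂⟩ := exists_space h2 (finrank F V - (C.i * D + finrank F W))
    obtain ⟨B, hB, hBd, -⟩ := exists_piece C hdd T₂
    rw [hdD] at hBd
    obtain ⟨ε, hε, hεs⟩ := sg_cases hQ hn
    have hBo : Odd (finrank F B.sp.carrier) := by
      rw [hBd, hT₂, show C.i * D + (finrank F V - (C.i * D + finrank F W)) = finrank F V - finrank F W by omega]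
      exact Nat.Even.sub_odd (by omega) hn hm
    obtain ⟨c, hc, hcs⟩ := exists_odd_pair h2 (polarNondeg_smul A.sp.nondeg ha) B.sp.nondeg
      (by rwa [hAd']) hBo hε
    obtain ⟨U, hUi, -, hUinv⟩ := exists_summand (C := C) hQ hf (A.scale ha) (B.scale hc)
      (hcs.isom hεs (SpOPrime.polar_prod (A.scale ha).sp.nondeg (B.scale hc).sp.nondeg) hQ (by
        rw [Module.finrank_prod, hBd, hT₂, hAd']; omega)) (by
        show tup C A.f + tup C B.f = _
        rw [hA, hB, hsd])
    exact ⟨U, hUinv, hai.trans' hUi⟩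

end CfsgLib.Classical22.OrthType
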