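/-
Totally singular invariant subspaces of isometries of odd prime order.
-/
import Cfsg.Agent.Lib.Classical22.OrthTypeNondeg
import Mathlib.LinearAlgebra.Semisimple

set_option autoImplicit false

namespace CfsgLib.Classical22.OrthType

open CfsgLib.Classical CfsgLib.Classical.SDBlock Module Polynomial

universe u

variable {F : Type u} [Field F]
variable {V : Type u} [AddCommGroup V] [Module F V] [FiniteDimensional F V]

omit [FiniteDimensional F V] in
/-- An invariant subspace has an invariant complement. -/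
theorem exists_inv_compl {f : Module.End F V} {r : ℕ} (hrF : (r : F) ≠ 0) (hf : f ^ r = 1) {U : Submodule F V}
    (hU : ∀ u ∈ U, f u ∈ U) : ∃ K : Submodule F V, (∀ u ∈ K, f u ∈ K) ∧ IsCompl U K := by
  have hs : f.IsSemisimple := by
    refine Module.End.isSemisimple_of_squarefree_aeval_eq_zero (p := (Polynomial.X : F[X]) ^ r - 1) ?_ ?_
    · have h := (Polynomial.separable_X_pow_sub_C (1 : F) hrF one_ne_zero).squarefree
      rwa [map_one] at h
    · simp [hf]
  obtain ⟨K, hK, hc⟩ := Module.End.isSemisimple_iff.1 hs U ((Module.End.mem_invtSubmodule_iff_forall_mem_of_mem f).2 hU)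
  exact ⟨K, (Module.End.mem_invtSubmodule_iff_forall_mem_of_mem f).1 hK, hc⟩

theorem sgn_two_mul (i v : ℕ) : sgn i (2 * v) = 1 := by rw [two_mul, sgn_add, sgn_mul_self]

theorem sgn_sub_two (i : ℕ) {E v : ℕ} (h : 2 * v ≤ E) : sgn i (E - 2 * v) = sgn i E := by
  conv_rhs => rw [← Nat.sub_add_cancel h, sgn_add, sgn_two_mul, mul_one]

/-- A totally singular subspace and a complement of its orthogonal span a non-degenerate space. -/
theorem exists_pair_sup {Q : QuadraticForm F V} (hQ : PolarNondeg Q) {U K : Submodule F V}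
    (hU : ∀ u ∈ U, Q u = 0) (hK : IsCompl (perp Q U) K) :
    IsCompl (U.comap (U ⊔ K).subtype) (K.comap (U ⊔ K).subtype) ∧ PolarNondeg (res Q (U ⊔ K)) ∧
      finrank F K = finrank F U ∧ finrank F (U ⊔ K : Submodule F V) = finrank F U + finrank F U := by
  have hUp : U ≤ perp Q U := fun v hv => mem_perp.2 fun u hu => by
    simp [QuadraticMap.polar, hU _ hu, hU _ hv, hU _ (U.add_mem hu hv)]
  have hd : finrank F K = finrank F U := by
    have := Submodule.finrank_add_eq_of_isCompl hK
    have := finrank_perp hQ U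
    omega
  have hbot : U ⊓ K = ⊥ := eq_bot_iff.2 ((inf_le_inf_right K hUp).trans hK.inf_eq_bot.le)
  refine ⟨⟨disjoint_iff.2 ?_, codisjoint_iff.2 ?_⟩, fun x hx => ?_, hd, ?_⟩
  · rw [← Submodule.comap_inf, hbot, Submodule.comap_bot, Submodule.ker_subtype]
  · rw [Submodule.eq_top_iff']
    intro x
    obtain ⟨a, ha, b, hb, hab⟩ := Submodule.mem_sup.1 x.2
    exact Submodule.mem_sup.2 ⟨⟨a, le_sup_left (b := K) ha⟩, ha, ⟨b, le_sup_right (a := U) hb⟩, hb, Subtype.ext hab⟩
  · obtain ⟨a, ha, b, hb, hab⟩ := Submodule.mem_sup.1 x.2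
    have h1 : b ∈ perp Q U := mem_perp.2 fun u hu => by
      have h := hx ⟨u, le_sup_left (b := K) hu⟩
      rw [polar_res, ← hab, QuadraticMap.polar_comm, QuadraticMap.polar_add_right,
        QuadraticMap.polar_comm _ u a, show QuadraticMap.polar Q a u = 0 from mem_perp.1 (hUp hu) a ha, zero_add] at h
      exact h
    have hb0 : b = 0 := by
      have : b ∈ perp Q U ⊓ K := ⟨h1, hb⟩
      rw [hK.inf_eq_bot] at this
      exact this
    refine Subtype.ext (hQ _ fun w => ?_)
    rw [← hab, hb0, add_zero]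
    obtain ⟨w1, hw1, w2, hw2, rfl⟩ := Submodule.mem_sup.1 (hK.sup_eq_top ▸ Submodule.mem_top : w ∈ perp Q U ⊔ K)
    have h := hx ⟨w2, le_sup_right (a := U) hw2⟩
    rw [polar_res, ← hab, hb0, add_zero] at h
    rw [QuadraticMap.polar_add_right, mem_perp.1 hw1 a ha, h, zero_add]
  · have := Submodule.finrank_sup_add_finrank_inf_eq U K
    rw [hbot, finrank_bot, add_zero] at this
    omega

variable [Fintype F] {r : ℕ} {C : Ctx F r}

theorem delta_none (C : Ctx F r) : C.δ none = none := by
  rcases h : C.δ none with _ | k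
  · rfl
  · have := congrArg C.δ h
    rw [C.inv_inv, C.inv_some] at this
    cases this

/-- What a totally singular invariant subspace gives. -/
theorem ts_necessary {Q : QuadraticForm F V} (hQ : PolarNondeg Q) {f : Module.End F V} (hf : Act Q r f)
    {U : Submodule F V} (hU : ∀ u ∈ U, f u ∈ U) (hUs : ∀ u ∈ U, Q u = 0) :
    ∃ v : Fin C.t → ℕ, (∀ j, v j + v (C.δ' j) ≤ tup C f j) ∧ C.i * (∑ j, v j) ≤ finrank F U ∧
      C.i * (tot C f - 2 * ∑ j, v j) + 2 * finrank F U ≤ finrank F V ∧
      (C.i * (tot C f - 2 * ∑ j, v j) + 2 * finrank F U = finrank F V → Sg Q (sgn C.i (tot C f))) := by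
  obtain ⟨K, hK, hKc⟩ := exists_inv_compl C.data.cast_ne hf.1 (perp_inv C.data.prime.pos hf hU)
  obtain ⟨hc, hXn, hKd, hXd⟩ := exists_pair_sup hQ hUs hKc
  obtain ⟨X, hX⟩ : ∃ X, X = U ⊔ K := ⟨_, rfl⟩
  rw [← hX] at hc hXn hXd
  have hXi : ∀ x ∈ X, f x ∈ X := fun x hx => by
    rw [hX] at hx ⊢
    obtain ⟨a, ha, b, hb, rfl⟩ := Submodule.mem_sup.1 hx
    rw [map_add]
    exact Submodule.add_mem_sup (hU a ha) (hK b hb)
  obtain ⟨hXc, hXp, hXiso⟩ := split_res hQ hXn
  have hX' := perp_inv C.data.prime.pos hf hXi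
  obtain ⟨htV, hfV⟩ := tup_compl (C := C) f hXc hXi hX'
  obtain ⟨htX, hfX⟩ := tup_compl (C := C) (f.restrict hXi) hc (fun x hx => hU _ hx) (fun x hx => hK _ hx)
  obtain ⟨tU, tU'⟩ := tup_of_intertwine (C := C) ((f.restrict hXi).restrict (p := U.comap X.subtype) fun x hx => hU _ hx)
    (f.restrict hU) (Submodule.comapSubtypeEquivOfLe (hX ▸ le_sup_left)) (fun x => Subtype.ext rfl)
  obtain ⟨tK, tK'⟩ := tup_of_intertwine (C := C) ((f.restrict hXi).restrict (p := K.comap X.subtype) fun x hx => hK _ hx)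
    (f.restrict hK) (Submodule.comapSubtypeEquivOfLe (hX ▸ le_sup_right)) (fun x => Subtype.ext rfl)
  have hUf := act_restrict hf hU
  have hKf := act_restrict hf hK
  obtain ⟨ψ, hψ⟩ : ∃ ψ : K →ₗ[F] Module.Dual F U, ∀ k u, ψ k u = QuadraticMap.polar Q (k : V) (u : V) :=
    ⟨(QuadraticMap.polarBilin Q).compl₁₂ K.subtype U.subtype, fun k u => rfl⟩
  have hψi : Function.Injective ψ := (injective_iff_map_eq_zero ψ).2 fun k hk => Subtype.ext (by
    have h1 : (k : V) ∈ perp Q U := mem_perp.2 fun u hu => by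
      rw [QuadraticMap.polar_comm, ← hψ k ⟨u, hu⟩, hk, LinearMap.zero_apply]
    have : (k : V) ∈ perp Q U ⊓ K := ⟨h1, k.2⟩
    rw [hKc.inf_eq_bot] at this
    exact this)
  obtain ⟨ψe, hψe⟩ : ∃ ψe : K ≃ₗ[F] Module.Dual F U, ∀ k, ψe k = ψ k :=
    ⟨LinearEquiv.ofBijective ψ ⟨hψi, (LinearMap.injective_iff_surjective_of_finrank_eq_finrank
      (by rw [Subspace.dual_finrank_eq, hKd])).1 hψi⟩, fun k => rfl⟩
  have hdual : ∀ o, kd C.P (f.restrict hK) o = kd C.P (f.restrict hU) (C.δ o) := by
    intro o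
    rw [kd_of_intertwine (f.restrict hK) _ ψe (fun k => LinearMap.ext fun u => ?_) o,
      kd_dual C.data C.δ C.inv_spec hUf.1]
    show ψe (f.restrict hK k) u = ψe k (((f.restrict hU) ^ (r - 1)) u)
    rw [hψe, hψe, hψ, hψ]
    have e : (u : V) = f ((((f.restrict hU) ^ (r - 1)) u : U) : V) :=
      congrArg Subtype.val (inv_apply C.data.prime.pos hUf.1 u).symm
    rw [LinearMap.restrict_coe_apply]
    conv_lhs => rw [e]
    simp only [QuadraticMap.polar, ← map_add, hf.2]
  have hv : ∀ j, tup C f j = tup C (f.restrict hU) j + tup C (f.restrict hU) (C.δ' j) +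
      tup C (f.restrict hX') j := fun j => by
    rw [htV, htX, tU, tK, Pi.add_apply, Pi.add_apply]
    congr 2
    rw [tup, tup, hdual, C.inv_some]
  have hsum : tot C f = 2 * tot C (f.restrict hU) + tot C (f.restrict hX') := by
    simp only [tot, hv, Finset.sum_add_distrib, sum_comp]; ring
  have hh : fx C f = 2 * fx C (f.restrict hU) + fx C (f.restrict hX') := by
    rw [hfV, hfX, tU', tK']
    have : fx C (f.restrict hK) = fx C (f.restrict hU) := by rw [fx, fx, hdual, delta_none]
    omega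
  have e1 := fx_add (C := C) f hf.1
  have e2 := fx_add (C := C) _ hUf.1
  rw [hsum] at e1
  rw [Nat.mul_add, ← mul_assoc, mul_comm C.i 2, mul_assoc] at e1
  refine ⟨tup C (f.restrict hU), fun j => le_of_le_of_eq (Nat.le_add_right _ _) (hv j).symm, ?_, ?_, fun h => ?_⟩
  · show C.i * tot C _ ≤ _
    omega
  · show C.i * (tot C f - 2 * tot C _) + _ ≤ _
    rw [hsum, Nat.add_sub_cancel_left]
    omega
  · change C.i * (tot C f - 2 * tot C _) + _ = _ at h
    rw [hsum, Nat.add_sub_cancel_left] at h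
    rw [hsum, sgn_add, sgn_two_mul]
    have hXe : Even (finrank F X) := ⟨_, hXd⟩
    refine (Sg.prod ?_ (sg_fpf hXp (act_restrict hf hX') ?_)).congr hXiso
    · refine (sg_one_iff hXn hXe).2 ⟨U.comap X.subtype, fun u hu => hUs _ hu, ?_⟩
      rw [(Submodule.comapSubtypeEquivOfLe (show U ≤ X from hX ▸ le_sup_left)).finrank_eq, hXd, two_mul]
    · omega

/-- Totally singular invariant subspaces. -/
theorem ts_iff {Q : QuadraticForm F V} (hQ : PolarNondeg Q) {f : Module.End F V} (hf : Act Q r f)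
    (h2 : Odd (finrank F V) → (2 : F) ≠ 0) {ε : ℤ} (hε : Even (finrank F V) → Sg Q ε) {m : ℕ} :
    (∃ U : Submodule F V, (∀ u ∈ U, f u ∈ U) ∧ finrank F U = m ∧ ∀ u ∈ U, Q u = 0) ↔
    ∃ v : Fin C.t → ℕ, (∀ j, v j + v (C.δ' j) ≤ tup C f j) ∧ C.i * (∑ j, v j) ≤ m ∧
      C.i * (tot C f - 2 * ∑ j, v j) + 2 * m ≤ finrank F V ∧
      (C.i * (tot C f - 2 * ∑ j, v j) + 2 * m = finrank F V → Even (finrank F V) → ε = sgn C.i (tot C f)) := by
  constructor
  · rintro ⟨U, hU, rfl, hUs⟩
    obtain ⟨v, h1, h2', h3, h4⟩ := ts_necessary (C := C) hQ hf hU hUs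
    exact ⟨v, h1, h2', h3, fun h he => sg_unique (hε he) (h4 h)⟩
  · rintro ⟨v, hv, hvm, hvn, hvs⟩
    haveI : ∀ o, Fact (Irreducible (C.P o)) := fun o => ⟨C.data.irred o⟩
    obtain ⟨g, hg, hgk⟩ := Primary.exists_of_mult (V := Fin m → F) C.P C.data.coprime
      (fun o => o.elim (m - C.i * ∑ j, v j) v) (by
        rw [Fintype.sum_option, Module.finrank_fin_fun]
        simp only [Option.elim, C.data.zero, C.data.deg]
        rw [Polynomial.natDegree_sub_eq_left_of_natDegree_lt (by simp), Polynomial.natDegree_X, mul_one,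
          ← Finset.sum_mul, mul_comm (∑ j, v j)]
        omega)
    have hgr : g ^ r = 1 := by rwa [C.data.prod, map_sub, map_pow, aeval_X, map_one, sub_eq_zero] at hg
    have htg : tup C g = v := funext fun j => by
      rw [tup, kd, hgk (some j)]
      simp only [Option.elim, C.data.deg]
      rw [Nat.mul_div_cancel _ C.pos]
    obtain ⟨g', hg'⟩ : ∃ g' : Module.End F ((Fin m → F) × Module.Dual F (Fin m → F)),
        g' = g.prodMap (g ^ (r - 1)).dualMap := ⟨_, rfl⟩
    obtain ⟨H, hH⟩ : ∃ H : QuadraticForm F ((Fin m → F) × Module.Dual F (Fin m → F)), ∀ x, H x = x.2 x.1 :=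
      ⟨LinearMap.BilinMap.toQuadraticMap ((LinearMap.id (R := F)).compl₁₂
        (LinearMap.snd F (Fin m → F) (Module.Dual F (Fin m → F))) (LinearMap.fst F (Fin m → F) _)), fun x => rfl⟩
    have hg'r : g' ^ r = 1 := by
      rw [hg', prodMap_pow, hgr, dualMap_pow, ← pow_mul, mul_comm, pow_mul, hgr, one_pow]
      exact LinearMap.ext fun x => rfl
    have hg'H : ∀ x, H (g' x) = H x := fun x => by
      rw [hH, hH, hg']
      show x.2 ((g ^ (r - 1)) (g x.1)) = _
      rw [← Module.End.mul_apply, ← pow_succ, Nat.sub_add_cancel C.data.prime.one_le, hgr]; rfl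
    have hHn : PolarNondeg H := fun x hx => by
      have h1 : x.2 = 0 := LinearMap.ext fun w => by simpa [QuadraticMap.polar, hH] using hx (w, 0)
      refine Prod.ext ((Module.forall_dual_apply_eq_zero_iff F x.1).1 fun φ => ?_) h1
      simpa [QuadraticMap.polar, hH, h1] using hx (0, φ)
    have hHd : finrank F ((Fin m → F) × Module.Dual F (Fin m → F)) = m + m := by
      rw [Module.finrank_prod, Subspace.dual_finrank_eq, Module.finrank_fin_fun]
    have hHs : Sg H 1 := (sg_one_iff hHn ⟨m, hHd⟩).2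
      ⟨LinearMap.range (LinearMap.inl F (Fin m → F) (Module.Dual F (Fin m → F))), by
        rintro _ ⟨w, rfl⟩
        rw [hH]; simp,
      by rw [LinearMap.finrank_range_of_inj LinearMap.inl_injective, hHd, Module.finrank_fin_fun, two_mul]⟩
    let A : Obj F r := ⟨⟨(Fin m → F) × Module.Dual F (Fin m → F), H, hHn⟩, g', hg'r, hg'H⟩
    have hAt : tup C A.f = fun j => v j + v (C.δ' j) := funext fun j => by
      show tup C g' j = _
      rw [hg', (tup_prod g (g ^ (r - 1)).dualMap).1, Pi.add_apply, htg]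
      congr 1
      rw [tup, kd_dual C.data C.δ C.inv_spec hgr, C.inv_some]
      exact congrFun htg _
    obtain ⟨d, hd⟩ : ∃ d : Fin C.t → ℕ, d = fun j => tup C f j - (v j + v (C.δ' j)) := ⟨_, rfl⟩
    have hdd : ∀ j, d (C.δ' j) = d j := fun j => by
      rw [hd]; simp only [tup_sym hQ hf, inv']; rw [add_comm (v (C.δ' j))]
    have hsd : tup C A.f + d = tup C f := funext fun j => by
      rw [hAt, hd]; simp only [Pi.add_apply]; have := hv j; omega
    have hdD : ∑ j, d j = tot C f - 2 * ∑ j, v j := by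
      have := congrArg (fun b : Fin C.t → ℕ => ∑ j, b j) hsd
      simp only [hAt, Pi.add_apply, Finset.sum_add_distrib, sum_comp] at this
      change _ = tot C f at this
      omega
    have hle : 2 * ∑ j, v j ≤ tot C f := by
      have := Finset.sum_le_sum fun j (_ : j ∈ Finset.univ) => hv j
      simp only [Finset.sum_add_distrib, sum_comp] at this
      change _ ≤ tot C f at this
      omega
    obtain ⟨B, e, heQ, hef⟩ : ∃ (B : Obj F r) (e : (A.sp.carrier × B.sp.carrier) ≃ₗ[F] V),
        (∃ c : F, ∀ x, Q (e (x, 0)) = c * H x) ∧ ∀ x, e (A.f x, 0) = f (e (x, 0)) := by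
      rcases Nat.even_or_odd (finrank F V) with hn | hn
      · have hp : Odd C.i → Even (tot C f - 2 * ∑ j, v j) := fun ho =>
          Even.tsub (tot_parity hQ hf ho) (even_two_mul _)
        obtain ⟨ε', hε', hε's⟩ := sg_cases hQ hn
        obtain rfl : ε' = ε := sg_unique hε's (hε hn)
        obtain ⟨T, hT, hTs⟩ := exists_fixed (F := F)
          (show Even (finrank F V - (C.i * (tot C f - 2 * ∑ j, v j) + 2 * m)) from
            Even.tsub hn ((even_mul_of_parity C hp).add (even_two_mul m)))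
          (η := ε' * sgn C.i (tot C f))
          (by rcases sgn_pm C.i (tot C f) with h | h <;> rcases hε' with rfl | rfl <;> simp [h])
        obtain ⟨B, hB, hBd, hBs⟩ := exists_piece C hdd T
        rw [hdD] at hBd hBs
        have hBsg : Sg B.sp.form ε' := by
          have h := hBs _ hTs
          rw [sgn_sub_two C.i hle] at h
          split_ifs at h with h0
          · rw [mul_one] at h
            rwa [hvs (by omega) hn]
          · rwa [mul_left_comm, sgn_mul_self, mul_one] at h
        have hAB := hHs.prod hBsg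
        rw [one_mul] at hAB
        obtain ⟨e, heQ, hef⟩ := exists_equivariant (C := C) hQ hf (A.prod B).act
          (hAB.isom hε's (SpOPrime.polar_prod hHn B.sp.nondeg) hQ (by
            rw [Module.finrank_prod, hHd, hBd, hT]; omega))
          ((tup_prod A.f B.f).1.trans (by rw [hB, hsd]))
        refine ⟨B, e, ⟨1, fun x => ?_⟩, fun x => ?_⟩
        · refine (heQ (x, 0)).trans ?_
          show H x + B.sp.form 0 = _
          simp
        · refine Eq.trans ?_ (hef (x, 0))
          exact congrArg e (Prod.ext rfl (map_zero B.f).symm :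
            ((A.f x, 0) : A.sp.carrier × B.sp.carrier) = (A.f.prodMap B.f) (x, 0))
      · obtain ⟨T, hT⟩ := exists_space (h2 hn) (finrank F V - (C.i * (tot C f - 2 * ∑ j, v j) + 2 * m))
        obtain ⟨B, hB, hBd, -⟩ := exists_piece C hdd T
        rw [hdD] at hBd
        obtain ⟨c, hc, hci⟩ := exists_similar (h2 hn) hQ (SpOPrime.polar_prod hHn B.sp.nondeg)
          (by rw [Module.finrank_prod, hHd, hBd, hT]; omega) hn
        obtain ⟨e, heQ, hef⟩ := exists_equivariant (C := C) hQ hf ((A.prod B).scale hc).act hci.symm'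
          ((tup_prod A.f B.f).1.trans (by rw [hB, hsd]))
        refine ⟨B, e, ⟨c, fun x => ?_⟩, fun x => ?_⟩
        · refine (heQ (x, 0)).trans ?_
          show c * (H x + B.sp.form 0) = _
          simp
        · refine Eq.trans ?_ (hef (x, 0))
          exact congrArg e (Prod.ext rfl (map_zero B.f).symm :
            ((A.f x, 0) : A.sp.carrier × B.sp.carrier) = (A.f.prodMap B.f) (x, 0))
    obtain ⟨c, hcQ⟩ := heQ
    obtain ⟨φ, hφ⟩ : ∃ φ : (Fin m → F) →ₗ[F] V, ∀ w, φ w = e ((w, 0), 0) :=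
      ⟨e.toLinearMap ∘ₗ LinearMap.inl F _ _ ∘ₗ LinearMap.inl F _ _, fun w => rfl⟩
    refine ⟨LinearMap.range φ, ?_, ?_, ?_⟩
    · rintro _ ⟨w, rfl⟩
      refine ⟨g w, ?_⟩
      rw [hφ, hφ, ← hef]
      have h0 : g' ((w, 0) : (Fin m → F) × Module.Dual F (Fin m → F)) = (g w, 0) := by
        rw [hg', LinearMap.prodMap_apply, map_zero]
      exact congrArg (fun x => e (x, (0 : B.sp.carrier))) h0.symm
    · rw [LinearMap.finrank_range_of_inj (fun a b h => by
        rw [hφ, hφ] at h
        exact congrArg Prod.fst (congrArg Prod.fst (e.injective h))), Module.finrank_fin_fun]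
    · rintro _ ⟨w, rfl⟩
      rw [hφ, hcQ, hH]
      simp

end CfsgLib.Classical22.OrthType
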