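/-
When every isometry of odd prime order leaves some subspace of a given type invariant.
-/
import Cfsg.Agent.Lib.Classical22.OrthTypeSingular

set_option autoImplicit false

namespace CfsgLib.Classical22.OrthType

open CfsgLib.Classical Module

universe u

/-- The dimension of a smallest symmetric block. -/
def blk (i : ℕ) : ℕ := if Even i then i else 2 * i

/-- The number of elementary blocks in a symmetric block. -/
def mult (i : ℕ) : ℕ := if Even i then 1 else 2

theorem mul_mult (i e : ℕ) : i * (mult i * e) = blk i * e := by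
  unfold mult blk; split_ifs <;> ring

theorem sgn_mult (i e : ℕ) : sgn i (mult i * e) = sgn i e := by
  unfold mult sgn; split_ifs with h
  · rw [one_mul]
  · rfl

theorem blk_pos {i : ℕ} (hi : 0 < i) : 0 < blk i := by unfold blk; split_ifs <;> omega

theorem even_blk (i : ℕ) : Even (blk i) := by
  unfold blk; split_ifs with h
  · exact h
  · exact even_two_mul i

/-- The largest number of blocks in dimension `n` and sign `ε`. -/
def cap (i n : ℕ) (ε : ℤ) : ℕ := n / blk i - if n % blk i = 0 ∧ sgn i (n / blk i) ≠ ε then 1 else 0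

theorem le_cap_iff {i n : ℕ} {ε : ℤ} (hi : 0 < i) (hn : 0 < n) (e : ℕ) :
    e ≤ cap i n ε ↔ blk i * e ≤ n ∧ (blk i * e = n → sgn i e = ε) := by
  have hb := blk_pos hi
  have h1 : ∀ e, blk i * e ≤ n ↔ e ≤ n / blk i := fun e => by
    rw [Nat.le_div_iff_mul_le hb, mul_comm]
  have h2 : ∀ e, blk i * e = n ↔ (n % blk i = 0 ∧ e = n / blk i) := fun e => by
    constructor
    · rintro rfl
      exact ⟨Nat.mul_mod_right _ _, (Nat.mul_div_cancel_left _ hb).symm⟩
    · rintro ⟨h, rfl⟩
      exact Nat.mul_div_cancel' (Nat.dvd_of_mod_eq_zero h)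
  rw [h1, h2, cap]
  split_ifs with h
  · have hpos : 0 < n / blk i := Nat.div_pos (Nat.le_of_dvd hn (Nat.dvd_of_mod_eq_zero h.1)) hb
    refine ⟨fun he => ⟨by omega, fun hh => by omega⟩, fun ⟨he, hs⟩ => ?_⟩
    by_contra hc
    obtain rfl : e = n / blk i := by omega
    exact h.2 (hs ⟨h.1, rfl⟩)
  · rw [Nat.sub_zero]
    push Not at h
    exact ⟨fun he => ⟨he, fun hh => by rw [hh.2]; exact h hh.1⟩, fun hh => hh.1⟩

variable {F : Type u} [Field F] [Fintype F] {r : ℕ} {C : Ctx F r}
variable {V : Type u} [AddCommGroup V] [Module F V] [FiniteDimensional F V]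

/-- The number of symmetric blocks moved by an element. -/
theorem exists_blocks {Q : QuadraticForm F V} (hQ : PolarNondeg Q) {f : Module.End F V} (hf : Act Q r f)
    {ε : ℤ} (hε : Even (finrank F V) → Sg Q ε) (hn : 0 < finrank F V) :
    ∃ e, tot C f = mult C.i * e ∧ e ≤ cap C.i (finrank F V) ε := by
  obtain ⟨e, he⟩ : ∃ e, tot C f = mult C.i * e := by
    rcases Nat.even_or_odd C.i with h | h
    · exact ⟨tot C f, by rw [mult, if_pos h, one_mul]⟩
    · obtain ⟨k, hk⟩ := tot_parity hQ hf h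
      exact ⟨k, by rw [mult, if_neg (Nat.not_even_iff_odd.2 h)]; omega⟩
  refine ⟨e, he, (le_cap_iff C.pos hn e).2 ?_⟩
  have h1 := fx_add (C := C) f hf.1
  rw [he, mul_mult] at h1
  refine ⟨by omega, fun h => ?_⟩
  have h2 := sg_fpf (C := C) hQ hf (by omega)
  rw [he, sgn_mult] at h2
  exact sg_unique h2 (hε h2.even)

omit [FiniteDimensional F V] in
/-- Elements with a given tuple. -/
theorem exists_act [FiniteDimensional F V] {Q : QuadraticForm F V} (hQ : PolarNondeg Q)
    (h2 : Odd (finrank F V) → (2 : F) ≠ 0) {ε : ℤ} (hε : Even (finrank F V) → Sg Q ε)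
    {b : Fin C.t → ℕ} (hb : ∀ j, b (C.δ' j) = b j) {e : ℕ} (hbe : ∑ j, b j = mult C.i * e) (he0 : 0 < e)
    (he : e ≤ cap C.i (finrank F V) ε) :
    ∃ f : Module.End F V, Act Q r f ∧ f ≠ 1 ∧ tup C f = b := by
  have hn : 0 < finrank F V := by
    by_contra hc
    obtain hz : finrank F V = 0 := by omega
    rw [cap, hz, Nat.zero_div, Nat.zero_sub] at he
    omega
  obtain ⟨hle, heq⟩ := (le_cap_iff C.pos hn e).1 he
  obtain ⟨B, hB, hiso⟩ : ∃ B : Obj F r, tup C B.f = b ∧ Isom B.sp.form Q := by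
    rcases Nat.even_or_odd (finrank F V) with hV | hV
    · obtain ⟨ε', hε', hε's⟩ := sg_cases hQ hV
      obtain rfl : ε' = ε := sg_unique hε's (hε hV)
      obtain ⟨T, hT, hTs⟩ := exists_fixed (F := F) (show Even (finrank F V - blk C.i * e) from
        Even.tsub hV ((even_blk _).mul_right _)) (η := ε' * sgn C.i e)
        (by rcases sgn_pm C.i e with h | h <;> rcases hε' with rfl | rfl <;> simp [h])
      obtain ⟨B, hB, hBd, hBs⟩ := exists_piece C hb T
      rw [hbe, mul_mult] at hBd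
      have h := hBs _ hTs
      rw [hbe, sgn_mult] at h
      have hBsg : Sg B.sp.form ε' := by
        split_ifs at h with h0
        · rwa [mul_one, heq (by omega)] at h
        · rwa [mul_left_comm, sgn_mul_self, mul_one] at h
      exact ⟨B, hB, hBsg.isom hε's B.sp.nondeg hQ (by rw [hBd, hT]; omega)⟩
    · obtain ⟨T, hT⟩ := exists_space (h2 hV) (finrank F V - blk C.i * e)
      obtain ⟨B, hB, hBd, -⟩ := exists_piece C hb T
      rw [hbe, mul_mult] at hBd
      obtain ⟨c, hc, hci⟩ := exists_similar (h2 hV) hQ B.sp.nondeg (by rw [hBd, hT]; omega) hV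
      exact ⟨B.scale hc, hB, hci.symm'⟩
  obtain ⟨φ, hφ⟩ := hiso
  obtain ⟨f, hf⟩ : ∃ f : Module.End F V, f = φ.conj B.f := ⟨_, rfl⟩
  have hfr : f ^ r = 1 := by
    rw [hf, show φ.conj B.f = φ.conjAlgEquiv F B.f from rfl, ← map_pow, B.act.1, map_one]
  have hfe : ∀ w, φ (B.f w) = f (φ w) := fun w => by simp [hf, LinearEquiv.conj_apply]
  have htf : tup C f = b := by rw [← hB]; exact (tup_of_intertwine B.f f φ hfe).1.symm
  refine ⟨f, ⟨hfr, fun v => ?_⟩, fun h => ?_, htf⟩
  · obtain ⟨w, rfl⟩ := φ.surjective v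
    rw [← hfe, hφ, hφ, B.act.2]
  · rw [h, tup_one.1] at htf
    rw [← htf] at hbe
    simp only [Pi.zero_apply, Finset.sum_const_zero] at hbe
    rcases Nat.mul_eq_zero.1 hbe.symm with h' | h'
    · rw [mult] at h'; split_ifs at h'
    · omega

theorem exists_act_sum {Q : QuadraticForm F V} (hQ : PolarNondeg Q) (h2 : Odd (finrank F V) → (2 : F) ≠ 0) {ε : ℤ}
    (hε : Even (finrank F V) → Sg Q ε) {e : ℕ} (he0 : 0 < e) (he : e ≤ cap C.i (finrank F V) ε) :
    ∃ f : Module.End F V, Act Q r f ∧ f ≠ 1 ∧ tot C f = mult C.i * e := by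
  obtain ⟨b, hb, hsum⟩ := exists_sym_sum C (E := mult C.i * e) fun ho => by
    rw [mult, if_neg (Nat.not_even_iff_odd.2 ho)]; exact even_two_mul e
  obtain ⟨f, hf, h1, ht⟩ := exists_act (C := C) hQ h2 hε hb hsum he0 he
  exact ⟨f, hf, h1, by rw [tot, ht, hsum]⟩

theorem exists_mult_div {E : ℕ} (h : Odd C.i → Even E) : ∃ s, E = mult C.i * s := by
  rcases Nat.even_or_odd C.i with hi | hi
  · exact ⟨E, by rw [mult, if_pos hi, one_mul]⟩
  · obtain ⟨k, hk⟩ := h hi
    exact ⟨k, by rw [mult, if_neg (Nat.not_even_iff_odd.2 hi)]; omega⟩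

/-- Every element fixes a non-degenerate subspace of dimension `m` and sign `εW`. -/
theorem nd_even_all {Q : QuadraticForm F V} (hQ : PolarNondeg Q) (h2 : Odd (finrank F V) → (2 : F) ≠ 0) {ε : ℤ}
    (hε : Even (finrank F V) → Sg Q ε) {m : ℕ} (hm : Even m) (hm0 : 0 < m) (hmn : m < finrank F V) {εW : ℤ}
    (hεW : εW = 1 ∨ εW = -1) :
    (∀ f : Module.End F V, Act Q r f → f ≠ 1 →
      ∃ U : Submodule F V, (∀ u ∈ U, f u ∈ U) ∧ finrank F U = m ∧ PolarNondeg (res Q U) ∧ Sg (res Q U) εW) ↔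
    cap C.i (finrank F V) ε ≤ cap C.i m εW + cap C.i (finrank F V - m) (εW * ε) := by
  have hn : 0 < finrank F V := by omega
  have hn' : 0 < finrank F V - m := by omega
  have hflag : ∀ D, blk C.i * D = finrank F V - m → Even (finrank F V) := fun D hD => by
    have h1 := (even_blk C.i).mul_right D
    rw [hD] at h1
    have := h1.add hm
    rwa [Nat.sub_add_cancel hmn.le] at this
  constructor
  · intro h
    by_contra hc
    obtain ⟨f, hf, hf1, htot⟩ := exists_act_sum (C := C) hQ h2 hε (e := cap C.i (finrank F V) ε) (by omega) le_rfl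
    obtain ⟨S, D, hSD, hS, h1, h1', h2', h2''⟩ := (nd_even (C := C) hQ hf h2 hε hm hεW).1 (h f hf hf1)
    obtain ⟨s, rfl⟩ := exists_mult_div (C := C) hS
    obtain ⟨k, hk⟩ : ∃ k, D = mult C.i * k := exists_mult_div (C := C) fun ho => by
      have he := tot_parity (C := C) hQ hf ho
      rw [← hSD] at he
      exact (Nat.even_add.1 he).1 (hS ho)
    subst hk
    rw [htot, ← mul_add] at hSD
    have he := Nat.eq_of_mul_eq_mul_left (by rw [mult]; split_ifs <;> omega) hSD
    rw [mul_mult] at h1 h1' h2' h2''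
    rw [sgn_mult] at h1' h2''
    have hs : s ≤ cap C.i m εW := (le_cap_iff C.pos hm0 s).2 ⟨h1, h1'⟩
    have hk : k ≤ cap C.i (finrank F V - m) (εW * ε) := (le_cap_iff C.pos hn' k).2 ⟨by omega, fun hh => by
      rw [h2'' (by omega) (hflag k hh), ← mul_assoc]
      rcases hεW with rfl | rfl <;> simp⟩
    omega
  · intro h f hf _
    obtain ⟨e, he, hec⟩ := exists_blocks (C := C) hQ hf hε hn
    obtain ⟨s, hs⟩ : ∃ s, s = min e (cap C.i m εW) := ⟨_, rfl⟩
    obtain ⟨hs1, hs2⟩ := (le_cap_iff C.pos hm0 s).1 (show s ≤ cap C.i m εW by omega)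
    obtain ⟨hd1, hd2⟩ := (le_cap_iff C.pos hn' (e - s)).1
      (show e - s ≤ cap C.i (finrank F V - m) (εW * ε) by omega)
    refine (nd_even (C := C) hQ hf h2 hε hm hεW).2 ⟨mult C.i * s, mult C.i * (e - s), ?_, fun ho => ?_, ?_,
      fun hh => ?_, ?_, fun hh _ => ?_⟩
    · rw [he, ← mul_add]; congr 1; omega
    · rw [mult, if_neg (Nat.not_even_iff_odd.2 ho)]; exact even_two_mul _
    · rwa [mul_mult]
    · rw [mul_mult] at hh
      rw [sgn_mult]
      exact hs2 hh
    · rw [mul_mult]; omega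
    · rw [mul_mult] at hh
      rw [sgn_mult, hd2 (by omega), ← mul_assoc]
      rcases hεW with rfl | rfl <;> simp

/-- Every element fixes a subspace in a given odd-dimensional class. -/
theorem nd_odd_all {Q : QuadraticForm F V} (hQ : PolarNondeg Q) (h2 : (2 : F) ≠ 0) (hn : Even (finrank F V)) {ε : ℤ}
    (hε : Sg Q ε) {W : Type u} [AddCommGroup W] [Module F W] [FiniteDimensional F W] {R : QuadraticForm F W}
    (hR : PolarNondeg R) (hm : Odd (finrank F W)) (hmn : finrank F W < finrank F V) (η η' : ℤ) :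
    (∀ f : Module.End F V, Act Q r f → f ≠ 1 →
      ∃ U : Submodule F V, (∀ u ∈ U, f u ∈ U) ∧ Isom R (res Q U)) ↔
    cap C.i (finrank F V) ε ≤ cap C.i (finrank F W) η + cap C.i (finrank F V - finrank F W) η' := by
  have hm0 : 0 < finrank F W := hm.pos
  have hn' : 0 < finrank F V - finrank F W := by omega
  have hne : ∀ D, blk C.i * D ≠ finrank F W ∧ blk C.i * D ≠ finrank F V - finrank F W := fun D => by
    have h1 := (even_blk C.i).mul_right D
    constructor <;> intro hD <;> rw [hD] at h1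
    · exact Nat.not_even_iff_odd.2 hm h1
    · exact Nat.not_even_iff_odd.2 (Nat.Even.sub_odd hmn.le hn hm) h1
  constructor
  · intro h
    by_contra hc
    obtain ⟨f, hf, hf1, htot⟩ := exists_act_sum (C := C) hQ (fun _ => h2) (fun _ => hε)
      (e := cap C.i (finrank F V) ε) (by omega) le_rfl
    obtain ⟨S, D, hSD, hS, h1, h2'⟩ := (nd_odd (C := C) hQ hf h2 hn hR hm).1 (h f hf hf1)
    obtain ⟨s, rfl⟩ := exists_mult_div (C := C) hS
    obtain ⟨k, hk⟩ : ∃ k, D = mult C.i * k := exists_mult_div (C := C) fun ho => by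
      have he := tot_parity (C := C) hQ hf ho
      rw [← hSD] at he
      exact (Nat.even_add.1 he).1 (hS ho)
    subst hk
    rw [htot, ← mul_add] at hSD
    have he := Nat.eq_of_mul_eq_mul_left (by rw [mult]; split_ifs <;> omega) hSD
    rw [mul_mult] at h1 h2'
    have hs : s ≤ cap C.i (finrank F W) η := (le_cap_iff C.pos hm0 s).2 ⟨h1, fun hh => absurd hh (hne s).1⟩
    have hk : k ≤ cap C.i (finrank F V - finrank F W) η' :=
      (le_cap_iff C.pos hn' k).2 ⟨by omega, fun hh => absurd hh (hne k).2⟩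
    omega
  · intro h f hf _
    obtain ⟨e, he, hec⟩ := exists_blocks (C := C) hQ hf (fun _ => hε) (by omega)
    obtain ⟨s, hs⟩ : ∃ s, s = min e (cap C.i (finrank F W) η) := ⟨_, rfl⟩
    obtain ⟨hs1, -⟩ := (le_cap_iff C.pos hm0 s).1 (show s ≤ cap C.i (finrank F W) η by omega)
    obtain ⟨hd1, -⟩ := (le_cap_iff C.pos hn' (e - s)).1
      (show e - s ≤ cap C.i (finrank F V - finrank F W) η' by omega)
    refine (nd_odd (C := C) hQ hf h2 hn hR hm).2 ⟨mult C.i * s, mult C.i * (e - s), ?_, fun ho => ?_, ?_, ?_⟩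
    · rw [he, ← mul_add]; congr 1; omega
    · rw [mult, if_neg (Nat.not_even_iff_odd.2 ho)]; exact even_two_mul _
    · rwa [mul_mult]
    · rw [mul_mult]; omega

/-- Every element fixes a totally singular subspace: no factor is self-dual. -/
theorem ts_all_odd {Q : QuadraticForm F V} (hQ : PolarNondeg Q) (h2 : Odd (finrank F V) → (2 : F) ≠ 0) {ε : ℤ}
    (hε : Even (finrank F V) → Sg Q ε) {m : ℕ} (hmn : 2 * m < finrank F V) (hi : Odd C.i) :
    (∀ f : Module.End F V, Act Q r f → f ≠ 1 →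
      ∃ U : Submodule F V, (∀ u ∈ U, f u ∈ U) ∧ finrank F U = m ∧ ∀ u ∈ U, Q u = 0) ↔
    cap C.i (finrank F V) ε ≤ m / C.i + cap C.i (finrank F V - 2 * m) ε := by
  have hn : 0 < finrank F V := by omega
  have hn' : 0 < finrank F V - 2 * m := by omega
  have hmu : mult C.i = 2 := by rw [mult, if_neg (Nat.not_even_iff_odd.2 hi)]
  have hsub : ∀ a b, C.i * (mult C.i * a - 2 * b) = blk C.i * (a - b) := fun a b => by
    rw [← mul_mult, Nat.mul_sub (mult C.i), hmu]
  obtain ⟨M, hM⟩ : ∃ M, M = m / C.i := ⟨_, rfl⟩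
  rw [← hM]
  constructor
  · intro h
    by_contra hc
    obtain ⟨f, hf, hf1, htot⟩ := exists_act_sum (C := C) hQ h2 hε (e := cap C.i (finrank F V) ε) (by omega) le_rfl
    obtain ⟨v, hv, hvm, hvn, hvs⟩ := (ts_iff (C := C) hQ hf h2 hε).1 (h f hf hf1)
    rw [htot, hsub] at hvn hvs
    have hu : ∑ j, v j ≤ M := hM ▸ (Nat.le_div_iff_mul_le C.pos).2 (by rwa [mul_comm])
    have hk : cap C.i (finrank F V) ε - ∑ j, v j ≤ cap C.i (finrank F V - 2 * m) ε :=
      (le_cap_iff C.pos hn' _).2 ⟨by omega, fun hh => by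
        have hev : Even (finrank F V) := by
          have h1 := (even_blk C.i).mul_right (cap C.i (finrank F V) ε - ∑ j, v j)
          rw [hh] at h1
          have := h1.add (even_two_mul m)
          rwa [Nat.sub_add_cancel hmn.le] at this
        rw [hvs (by omega) hev, hmu, sgn_two_mul, sgn, if_neg (Nat.not_even_iff_odd.2 hi)]⟩
    omega
  · intro h f hf _
    obtain ⟨e, he, hec⟩ := exists_blocks (C := C) hQ hf hε hn
    obtain ⟨v, hv⟩ := exists_half hi (tup_sym (C := C) hQ hf)
    have hsum : ∑ j, v j = e := by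
      have h1 := Finset.sum_congr rfl fun j (_ : j ∈ Finset.univ) => hv j
      simp only [Finset.sum_add_distrib, sum_comp] at h1
      change _ = tot C f at h1
      rw [he, hmu] at h1
      omega
    obtain ⟨w, hw, hwu⟩ := exists_le_sum v (min e M) (by omega)
    obtain ⟨hd1, hd2⟩ := (le_cap_iff C.pos hn' (e - min e M)).1
      (show e - min e M ≤ cap C.i (finrank F V - 2 * m) ε by omega)
    refine (ts_iff (C := C) hQ hf h2 hε).2 ⟨w, fun j => le_of_le_of_eq (add_le_add (hw j) (hw _)) (hv j), ?_, ?_,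
      fun hh _ => ?_⟩
    · rw [hwu]
      calc C.i * min e M ≤ C.i * (m / C.i) := hM ▸ Nat.mul_le_mul_left _ (min_le_right _ _)
        _ ≤ m := Nat.mul_div_le m C.i
    · rw [hwu, he, hsub]; omega
    · rw [hwu, he, hsub] at hh
      rw [← hd2 (by omega), he, sgn_mult, sgn, sgn, if_neg (Nat.not_even_iff_odd.2 hi),
        if_neg (Nat.not_even_iff_odd.2 hi)]

/-- Every element fixes a totally singular subspace: all factors are self-dual. -/
theorem ts_all_even {Q : QuadraticForm F V} (hQ : PolarNondeg Q) (h2 : Odd (finrank F V) → (2 : F) ≠ 0) {ε : ℤ}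
    (hε : Even (finrank F V) → Sg Q ε) {m : ℕ} (hmn : 2 * m < finrank F V) (hi : Even C.i) :
    (∀ f : Module.End F V, Act Q r f → f ≠ 1 →
      ∃ U : Submodule F V, (∀ u ∈ U, f u ∈ U) ∧ finrank F U = m ∧ ∀ u ∈ U, Q u = 0) ↔
    cap C.i (finrank F V) ε ≤ 2 * (m / C.i) + cap C.i (finrank F V - 2 * m) ε ∧
      min C.t (cap C.i (finrank F V) ε) ≤ cap C.i (finrank F V - 2 * m) ε := by
  have hn : 0 < finrank F V := by omega
  have hn' : 0 < finrank F V - 2 * m := by omega
  have hmu : mult C.i = 1 := by rw [mult, if_pos hi]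
  have hblk : blk C.i = C.i := by rw [blk, if_pos hi]
  have key : ∀ f : Module.End F V, Act Q r f →
      (∃ U : Submodule F V, (∀ u ∈ U, f u ∈ U) ∧ finrank F U = m ∧ ∀ u ∈ U, Q u = 0) →
      ∃ v : Fin C.t → ℕ, (∀ j, 2 * v j ≤ tup C f j) ∧ ∑ j, v j ≤ m / C.i ∧
        tot C f - 2 * ∑ j, v j ≤ cap C.i (finrank F V - 2 * m) ε := by
    intro f hf hU
    obtain ⟨v, hv, hvm, hvn, hvs⟩ := (ts_iff (C := C) hQ hf h2 hε).1 hU
    refine ⟨v, fun j => ?_, (Nat.le_div_iff_mul_le C.pos).2 (by rwa [mul_comm]),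
      (le_cap_iff C.pos hn' _).2 ⟨by rw [hblk]; omega, fun hh => ?_⟩⟩
    · have := hv j
      rw [(C.fixed j).2 hi] at this
      omega
    · rw [hblk] at hh
      have hev : Even (finrank F V) := by
        have h1 := hi.mul_right (tot C f - 2 * ∑ j, v j)
        rw [hh] at h1
        have := h1.add (even_two_mul m)
        rwa [Nat.sub_add_cancel hmn.le] at this
      rw [sgn_sub_two _ ?_, hvs (by omega) hev]
      have := Finset.sum_le_sum fun j (_ : j ∈ Finset.univ) => hv j
      simp only [Finset.sum_add_distrib, sum_comp] at this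
      change _ ≤ tot C f at this
      omega
  obtain ⟨M, hMdef⟩ : ∃ M, M = m / C.i := ⟨_, rfl⟩
  rw [← hMdef] at key ⊢
  constructor
  · intro h
    constructor
    · by_contra hc
      obtain ⟨f, hf, hf1, htot⟩ := exists_act_sum (C := C) hQ h2 hε (e := cap C.i (finrank F V) ε) (by omega) le_rfl
      obtain ⟨v, -, hvm, hvn⟩ := key f hf (h f hf hf1)
      rw [htot, hmu, one_mul] at hvn
      omega
    · by_contra hc
      obtain ⟨b, hb, hbsum⟩ := exists_le_sum (fun _ : Fin C.t => 1) (cap C.i (finrank F V - 2 * m) ε + 1) (by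
        simp only [Finset.sum_const, Finset.card_univ, Fintype.card_fin, smul_eq_mul, mul_one]; omega)
      obtain ⟨f, hf, hf1, htf⟩ := exists_act (C := C) hQ h2 hε (b := b)
        (fun j => by rw [(C.fixed j).2 hi]) (e := cap C.i (finrank F V - 2 * m) ε + 1)
        (by rw [hbsum, hmu, one_mul]) (by omega) (by omega)
      obtain ⟨v, hv, -, hvn⟩ := key f hf (h f hf hf1)
      have hv0 : ∑ j, v j = 0 := Finset.sum_eq_zero fun j _ => by
        have h1 := hv j
        rw [htf] at h1
        have := hb j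
        beta_reduce at this
        omega
      rw [tot, htf, hbsum, hv0] at hvn
      omega
  · rintro ⟨hM, ht⟩ f hf _
    obtain ⟨e, he, hec⟩ := exists_blocks (C := C) hQ hf hε hn
    rw [hmu, one_mul] at he
    obtain ⟨v, hv⟩ : ∃ v : Fin C.t → ℕ, v = fun j => tup C f j / 2 := ⟨_, rfl⟩
    have h2v : 2 * ∑ j, v j ≤ e ∧ e ≤ 2 * ∑ j, v j + C.t := by
      rw [← he, tot, Finset.mul_sum]
      constructor
      · exact Finset.sum_le_sum fun j _ => by rw [hv]; simp only; omega
      · calc ∑ j, tup C f j ≤ ∑ j, (2 * v j + 1) := Finset.sum_le_sum fun j _ => by rw [hv]; simp only; omega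
          _ = _ := by simp [Finset.sum_add_distrib]
    obtain ⟨w, hw, hwu⟩ := exists_le_sum v (min (∑ j, v j) M) (min_le_left _ _)
    obtain ⟨hd1, hd2⟩ := (le_cap_iff C.pos hn' (e - 2 * min (∑ j, v j) M)).1
      (show e - 2 * min (∑ j, v j) M ≤ cap C.i (finrank F V - 2 * m) ε by omega)
    rw [hblk] at hd1 hd2
    refine (ts_iff (C := C) hQ hf h2 hε).2 ⟨w, fun j => ?_, ?_, ?_, fun hh _ => ?_⟩
    · rw [(C.fixed j).2 hi]
      have := hw j
      rw [hv] at this
      simp only at this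
      omega
    · rw [hwu]
      calc C.i * min (∑ j, v j) M ≤ C.i * (m / C.i) := hMdef ▸ Nat.mul_le_mul_left _ (min_le_right _ _)
        _ ≤ m := Nat.mul_div_le m C.i
    · rw [hwu, he]; omega
    · rw [hwu, he] at hh
      rw [← hd2 (by omega), sgn_sub_two _ (by omega), he]

end CfsgLib.Classical22.OrthType
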