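/-
The arithmetic of the block capacities.
-/
import Cfsg.Agent.Lib.Classical22.OrthTypeCriteria

set_option autoImplicit false

namespace CfsgLib.Classical22.OrthType

theorem sgn_ne_one_iff {i e : ℕ} (hi : Even i) : sgn i e ≠ 1 ↔ e % 2 = 1 := by
  rw [sgn, if_pos hi]
  rcases Nat.even_or_odd e with h | h
  · rw [h.neg_one_pow]; have := Nat.even_iff.1 h; simp; omega
  · rw [h.neg_one_pow]; have := Nat.odd_iff.1 h; simp [this]

theorem sgn_ne_neg_one_iff {i e : ℕ} (hi : Even i) : sgn i e ≠ -1 ↔ e % 2 = 0 := by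
  rw [sgn, if_pos hi]
  rcases Nat.even_or_odd e with h | h
  · rw [h.neg_one_pow]; have := Nat.even_iff.1 h; simp [this]
  · rw [h.neg_one_pow]; have := Nat.odd_iff.1 h; simp; omega

theorem sgn_odd {i e : ℕ} (hi : Odd i) : sgn i e = 1 := by rw [sgn, if_neg (Nat.not_even_iff_odd.2 hi)]

theorem cap_plus_even {i : ℕ} (hi : Even i) (n : ℕ) :
    cap i n 1 = n / i - (if n % i = 0 ∧ n / i % 2 = 1 then 1 else 0) := by
  simp only [cap, blk, if_pos hi, sgn_ne_one_iff hi]

theorem cap_minus_even {i : ℕ} (hi : Even i) (n : ℕ) :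
    cap i n (-1) = n / i - (if n % i = 0 ∧ n / i % 2 = 0 then 1 else 0) := by
  simp only [cap, blk, if_pos hi, sgn_ne_neg_one_iff hi]

theorem cap_plus_odd {i : ℕ} (hi : Odd i) (n : ℕ) : cap i n 1 = n / (2 * i) := by
  simp [cap, blk, if_neg (Nat.not_even_iff_odd.2 hi), sgn_odd hi]

theorem cap_minus_odd {i : ℕ} (hi : Odd i) (n : ℕ) :
    cap i n (-1) = n / (2 * i) - (if n % (2 * i) = 0 then 1 else 0) := by
  simp [cap, blk, if_neg (Nat.not_even_iff_odd.2 hi), sgn_odd hi]

theorem cap_odd_dim {i n : ℕ} (hn : Odd n) (ε : ℤ) : cap i n ε = n / blk i := by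
  rw [cap, if_neg, Nat.sub_zero]
  rintro ⟨h, -⟩
  have h1 : Even n := by
    rw [← Nat.div_add_mod n (blk i), h, add_zero]
    exact (even_blk i).mul_right _
  exact Nat.not_even_iff_odd.2 hn h1

/-- Division of a difference. -/
theorem sub_div_cases {n m c : ℕ} (hc : 0 < c) (hmn : m ≤ n) :
    (m % c ≤ n % c ∧ (n - m) / c + m / c = n / c ∧ (n - m) % c + m % c = n % c) ∨
    (n % c < m % c ∧ (n - m) / c + m / c + 1 = n / c ∧ (n - m) % c + m % c = n % c + c) := by
  have h1 := Nat.div_add_mod (n - m) c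
  have h2 := Nat.div_add_mod m c
  have h3 := Nat.div_add_mod n c
  have b1 := Nat.mod_lt (n - m) hc
  have b2 := Nat.mod_lt m hc
  have b3 := Nat.mod_lt n hc
  obtain ⟨A, hA⟩ : ∃ A, A = (n - m) / c := ⟨_, rfl⟩
  obtain ⟨B, hB⟩ : ∃ B, B = m / c := ⟨_, rfl⟩
  obtain ⟨N, hN⟩ : ∃ N, N = n / c := ⟨_, rfl⟩
  rw [← hA] at h1 ⊢; rw [← hB] at h2 ⊢; rw [← hN] at h3 ⊢
  have e : c * N + n % c = c * (A + B) + ((n - m) % c + m % c) := by rw [mul_add]; omega
  rcases Nat.lt_or_ge ((n - m) % c + m % c) c with h | h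
  · left
    have hdiv : N = A + B := by
      have := congrArg (· / c) e
      simpa [Nat.mul_add_div hc, Nat.div_eq_of_lt h, Nat.div_eq_of_lt b3] using this
    subst hdiv
    omega
  · right
    have hlt : (n - m) % c + m % c - c < c := by omega
    have e' : c * N + n % c = c * (A + B + 1) + ((n - m) % c + m % c - c) := by
      rw [e, mul_add c (A + B) 1, mul_one]; omega
    have hdiv : N = A + B + 1 := by
      have := congrArg (· / c) e'
      simpa [Nat.mul_add_div hc, Nat.div_eq_of_lt hlt, Nat.div_eq_of_lt b3] using this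
    subst hdiv
    omega

theorem div_pos_iff' {m c : ℕ} (hc : 0 < c) : c ≤ m ↔ 0 < m / c := (Nat.div_pos_iff.trans ⟨And.right, fun h => ⟨hc, h⟩⟩).symm

/-- Division of the difference with a double, by an even block. -/
theorem sub_two_div_even {n m i : ℕ} (hi : 0 < i) (hmn : 2 * m ≤ n) :
    (2 * (m % i) ≤ n % i ∧ (n - 2 * m) / i + 2 * (m / i) = n / i ∧ (n - 2 * m) % i + 2 * (m % i) = n % i) ∨
    (n % i < 2 * (m % i) ∧ 2 * (m % i) ≤ n % i + i ∧ (n - 2 * m) / i + 2 * (m / i) + 1 = n / i ∧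
      (n - 2 * m) % i + 2 * (m % i) = n % i + i) ∨
    (n % i + i < 2 * (m % i) ∧ (n - 2 * m) / i + 2 * (m / i) + 2 = n / i ∧
      (n - 2 * m) % i + 2 * (m % i) = n % i + 2 * i) := by
  have b := Nat.mod_lt (n - 2 * m) hi
  have b' := Nat.mod_lt n hi
  have b'' := Nat.mod_lt m hi
  obtain ⟨g1, g2, g3⟩ | ⟨g1, g2, g3⟩ := sub_div_cases hi (show m ≤ n by omega) <;>
    obtain ⟨f1, f2, f3⟩ | ⟨f1, f2, f3⟩ := sub_div_cases hi (show m ≤ n - m by omega) <;>
    rw [show n - m - m = n - 2 * m by omega] at f2 f3 <;> omega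

/-- Division of the difference with a double, by a doubled block. -/
theorem sub_two_div_odd {n m i : ℕ} (hi : 0 < i) (hmn : 2 * m ≤ n) :
    (2 * (m % i) ≤ n % (2 * i) ∧ (n - 2 * m) / (2 * i) + m / i = n / (2 * i) ∧
      (n - 2 * m) % (2 * i) + 2 * (m % i) = n % (2 * i)) ∨
    (n % (2 * i) < 2 * (m % i) ∧ (n - 2 * m) / (2 * i) + m / i + 1 = n / (2 * i) ∧
      (n - 2 * m) % (2 * i) + 2 * (m % i) = n % (2 * i) + 2 * i) := by
  have h := sub_div_cases (show 0 < 2 * i by omega) hmn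
  rwa [Nat.mul_mod_mul_left, Nat.mul_div_mul_left _ _ (by norm_num : 0 < 2)] at h

theorem bounds {c : ℕ} (hc : 0 < c) (a b e : ℕ) :
    0 ≤ a / c ∧ 0 ≤ b / c ∧ 0 ≤ e / c ∧ 0 ≤ a % c ∧ 0 ≤ b % c ∧ 0 ≤ e % c ∧ a % c < c ∧ b % c < c ∧ e % c < c :=
  ⟨Nat.zero_le _, Nat.zero_le _, Nat.zero_le _, Nat.zero_le _, Nat.zero_le _, Nat.zero_le _, Nat.mod_lt _ hc, Nat.mod_lt _ hc,
    Nat.mod_lt _ hc⟩

theorem pos_div_mod {x c : ℕ} (h : 0 < x) : 0 < x / c ∨ 0 < x % c := by
  rcases Nat.eq_zero_or_pos (x / c) with e | e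
  · right
    have := Nat.div_add_mod x c
    rw [e, mul_zero, zero_add] at this
    omega
  · exact Or.inl e

/-- Non-degenerate subspaces in odd dimension, plus type. -/
theorem arith_odd_plus {i c d m : ℕ} (η : ℤ) (hi : 0 < i) (hc : c = if Even i then i else 2 * i)
    (hm : Even m) (hmn : m ≤ 2 * d) (hwin : cap i (2 * d + 1 - m) η < cap i (2 * d + 1) η) :
    cap i (2 * d + 1) η ≤ cap i m 1 + cap i (2 * d + 1 - m) η ↔
      ((Odd i ∧ c ≤ m ∧ (m % c = 0 ∨ (0 < m % c ∧ m % c < (2 * d + 1) % c))) ∨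
       (Even i ∧ i ≤ m ∧ m % c < (2 * d + 1) % c ∧ (0 < m % c ∨ Even (m / i)))) := by
  have hn : Odd (2 * d + 1) := odd_two_mul_add_one d
  have hn' : Odd (2 * d + 1 - m) := Nat.Odd.sub_even (by omega) hn hm
  rw [cap_odd_dim hn, cap_odd_dim hn'] at hwin ⊢
  rcases Nat.even_or_odd i with he | ho
  · rw [if_pos he] at hc
    subst c
    rw [blk, if_pos he] at hwin ⊢
    rw [cap_plus_even he, Nat.even_iff (n := m / i), div_pos_iff' hi]
    simp only [he, Nat.not_odd_iff_even.2 he, false_and, false_or, true_and]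
    have hl : m % i % 2 = 0 := by rw [Nat.mod_mod_of_dvd _ he.two_dvd]; exact Nat.even_iff.1 hm
    have hk : (2 * d + 1) % i % 2 = 1 := by
      rw [Nat.mod_mod_of_dvd _ he.two_dvd]; omega
    have hp := pos_div_mod (c := i) (show 0 < ((2 * d + 1) - m) by omega)
    have hp2 := pos_div_mod (c := 2 * i) (show 0 < ((2 * d + 1) - m) by omega)
    have hbd := bounds hi (2 * d + 1) m ((2 * d + 1) - m)
    have hbd2 := bounds (show 0 < 2 * i by omega) (2 * d + 1) m ((2 * d + 1) - m)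
    obtain ⟨g1, g2, g3⟩ | ⟨g1, g2, g3⟩ := sub_div_cases hi (show m ≤ 2 * d + 1 by omega) <;> split_ifs <;> (generalize (2 * d + 1) / i = v0 at *; generalize ((2 * d + 1) - m) / i = v1 at *; generalize m / i = v2 at *; generalize (2 * d + 1) % i = v3 at *; generalize ((2 * d + 1) - m) % i = v4 at *; generalize m % i = v5 at *; omega)
  · rw [if_neg (Nat.not_even_iff_odd.2 ho)] at hc
    subst c
    rw [blk, if_neg (Nat.not_even_iff_odd.2 ho)] at hwin ⊢
    have hl : m % (2 * i) % 2 = 0 := by rw [Nat.mod_mod_of_dvd _ (dvd_mul_right 2 i)]; exact Nat.even_iff.1 hm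
    have hk : (2 * d + 1) % (2 * i) % 2 = 1 := by
      rw [Nat.mod_mod_of_dvd _ (dvd_mul_right 2 i)]; omega
    rw [cap_plus_odd ho, div_pos_iff' (show 0 < 2 * i by omega)]
    simp only [ho, Nat.not_even_iff_odd.2 ho, false_and, or_false, true_and]
    have hp := pos_div_mod (c := i) (show 0 < ((2 * d + 1) - m) by omega)
    have hp2 := pos_div_mod (c := 2 * i) (show 0 < ((2 * d + 1) - m) by omega)
    have hbd := bounds hi (2 * d + 1) m ((2 * d + 1) - m)
    have hbd2 := bounds (show 0 < 2 * i by omega) (2 * d + 1) m ((2 * d + 1) - m)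
    obtain ⟨g1, g2, g3⟩ | ⟨g1, g2, g3⟩ := sub_div_cases (show 0 < 2 * i by omega) (show m ≤ 2 * d + 1 by omega) <;> (generalize (2 * d + 1) / (2 * i) = v0 at *; generalize ((2 * d + 1) - m) / (2 * i) = v1 at *; generalize m / (2 * i) = v2 at *; generalize (2 * d + 1) % (2 * i) = v3 at *; generalize ((2 * d + 1) - m) % (2 * i) = v4 at *; generalize m % (2 * i) = v5 at *; omega)

/-- Non-degenerate subspaces in odd dimension, minus type. -/
theorem arith_odd_minus {i c d m : ℕ} (η : ℤ) (hi : 0 < i) (hc : c = if Even i then i else 2 * i)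
    (hm : Even m) (hmn : m ≤ 2 * d) (hwin : cap i (2 * d + 1 - m) η < cap i (2 * d + 1) η) :
    cap i (2 * d + 1) η ≤ cap i m (-1) + cap i (2 * d + 1 - m) η ↔
      ((Odd i ∧ c ≤ m ∧ 0 < m % c ∧ m % c < (2 * d + 1) % c) ∨
       (Even i ∧ i ≤ m ∧ m % c < (2 * d + 1) % c ∧ (0 < m % c ∨ Odd (m / i)))) := by
  have hn : Odd (2 * d + 1) := odd_two_mul_add_one d
  have hn' : Odd (2 * d + 1 - m) := Nat.Odd.sub_even (by omega) hn hm
  rw [cap_odd_dim hn, cap_odd_dim hn'] at hwin ⊢
  rcases Nat.even_or_odd i with he | ho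
  · rw [if_pos he] at hc
    subst c
    rw [blk, if_pos he] at hwin ⊢
    rw [cap_minus_even he, Nat.odd_iff (n := m / i), div_pos_iff' hi]
    simp only [he, Nat.not_odd_iff_even.2 he, false_and, false_or, true_and]
    have hl : m % i % 2 = 0 := by rw [Nat.mod_mod_of_dvd _ he.two_dvd]; exact Nat.even_iff.1 hm
    have hk : (2 * d + 1) % i % 2 = 1 := by
      rw [Nat.mod_mod_of_dvd _ he.two_dvd]; omega
    have hp := pos_div_mod (c := i) (show 0 < ((2 * d + 1) - m) by omega)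
    have hp2 := pos_div_mod (c := 2 * i) (show 0 < ((2 * d + 1) - m) by omega)
    have hbd := bounds hi (2 * d + 1) m ((2 * d + 1) - m)
    have hbd2 := bounds (show 0 < 2 * i by omega) (2 * d + 1) m ((2 * d + 1) - m)
    obtain ⟨g1, g2, g3⟩ | ⟨g1, g2, g3⟩ := sub_div_cases hi (show m ≤ 2 * d + 1 by omega) <;> split_ifs <;> (generalize (2 * d + 1) / i = v0 at *; generalize ((2 * d + 1) - m) / i = v1 at *; generalize m / i = v2 at *; generalize (2 * d + 1) % i = v3 at *; generalize ((2 * d + 1) - m) % i = v4 at *; generalize m % i = v5 at *; omega)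
  · rw [if_neg (Nat.not_even_iff_odd.2 ho)] at hc
    subst c
    rw [blk, if_neg (Nat.not_even_iff_odd.2 ho)] at hwin ⊢
    have hl : m % (2 * i) % 2 = 0 := by rw [Nat.mod_mod_of_dvd _ (dvd_mul_right 2 i)]; exact Nat.even_iff.1 hm
    have hk : (2 * d + 1) % (2 * i) % 2 = 1 := by
      rw [Nat.mod_mod_of_dvd _ (dvd_mul_right 2 i)]; omega
    rw [cap_minus_odd ho, div_pos_iff' (show 0 < 2 * i by omega)]
    simp only [ho, Nat.not_even_iff_odd.2 ho, false_and, or_false, true_and]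
    have hp := pos_div_mod (c := i) (show 0 < ((2 * d + 1) - m) by omega)
    have hp2 := pos_div_mod (c := 2 * i) (show 0 < ((2 * d + 1) - m) by omega)
    have hbd := bounds hi (2 * d + 1) m ((2 * d + 1) - m)
    have hbd2 := bounds (show 0 < 2 * i by omega) (2 * d + 1) m ((2 * d + 1) - m)
    obtain ⟨g1, g2, g3⟩ | ⟨g1, g2, g3⟩ := sub_div_cases (show 0 < 2 * i by omega) (show m ≤ 2 * d + 1 by omega) <;>
      split_ifs <;> (generalize (2 * d + 1) / (2 * i) = v0 at *; generalize ((2 * d + 1) - m) / (2 * i) = v1 at *; generalize m / (2 * i) = v2 at *; generalize (2 * d + 1) % (2 * i) = v3 at *; generalize ((2 * d + 1) - m) % (2 * i) = v4 at *; generalize m % (2 * i) = v5 at *; omega)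

/-- Totally singular subspaces in odd dimension. -/
theorem arith_ts_odd_dim {i c t d m : ℕ} (η : ℤ) (hi : 0 < i) (ht : 0 < t) (hc : c = if Even i then i else 2 * i)
    (hmd : m ≤ d) (hwin : cap i (2 * d + 1 - 2 * m) η < cap i (2 * d + 1) η) :
    ((Odd i ∧ cap i (2 * d + 1) η ≤ m / i + cap i (2 * d + 1 - 2 * m) η) ∨
     (Even i ∧ cap i (2 * d + 1) η ≤ 2 * (m / i) + cap i (2 * d + 1 - 2 * m) η ∧
       min t (cap i (2 * d + 1) η) ≤ cap i (2 * d + 1 - 2 * m) η)) ↔
      (i ≤ m ∧ 2 * (m % i) < (2 * d + 1) % c ∧ (Odd i ∨ t + 2 * (m / i) ≤ (2 * d + 1) / i)) := by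
  have hn : Odd (2 * d + 1) := odd_two_mul_add_one d
  have hn' : Odd (2 * d + 1 - 2 * m) := Nat.Odd.sub_even (by omega) hn (even_two_mul m)
  rw [cap_odd_dim hn, cap_odd_dim hn'] at hwin ⊢
  rcases Nat.even_or_odd i with he | ho
  · rw [if_pos he] at hc
    subst c
    rw [blk, if_pos he] at hwin ⊢
    rw [div_pos_iff' hi]
    simp only [he, Nat.not_odd_iff_even.2 he, false_and, false_or, true_and]
    have hk : (2 * d + 1) % i % 2 = 1 := by
      rw [Nat.mod_mod_of_dvd _ he.two_dvd]; omega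
    have hp := pos_div_mod (c := i) (show 0 < ((2 * d + 1) - 2 * m) by omega)
    have hp2 := pos_div_mod (c := 2 * i) (show 0 < ((2 * d + 1) - 2 * m) by omega)
    have hbd := bounds hi (2 * d + 1) m ((2 * d + 1) - 2 * m)
    have hbd2 := bounds (show 0 < 2 * i by omega) (2 * d + 1) m ((2 * d + 1) - 2 * m)
    obtain ⟨g1, g2, g3⟩ | ⟨g1, g1', g2, g3⟩ | ⟨g1, g2, g3⟩ := sub_two_div_even hi (show 2 * m ≤ 2 * d + 1 by omega) <;> (generalize (2 * d + 1) / i = v0 at *; generalize ((2 * d + 1) - 2 * m) / i = v1 at *; generalize m / i = v2 at *; generalize (2 * d + 1) % i = v3 at *; generalize ((2 * d + 1) - 2 * m) % i = v4 at *; generalize m % i = v5 at *; omega)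
  · rw [if_neg (Nat.not_even_iff_odd.2 ho)] at hc
    subst c
    rw [blk, if_neg (Nat.not_even_iff_odd.2 ho)] at hwin ⊢
    rw [div_pos_iff' hi]
    simp only [ho, Nat.not_even_iff_odd.2 ho, false_and, or_false, true_and, true_or, and_true]
    have hk : (2 * d + 1) % (2 * i) % 2 = 1 := by
      rw [Nat.mod_mod_of_dvd _ (dvd_mul_right 2 i)]; omega
    have hp := pos_div_mod (c := i) (show 0 < ((2 * d + 1) - 2 * m) by omega)
    have hp2 := pos_div_mod (c := 2 * i) (show 0 < ((2 * d + 1) - 2 * m) by omega)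
    have hbd := bounds hi (2 * d + 1) m ((2 * d + 1) - 2 * m)
    have hbd2 := bounds (show 0 < 2 * i by omega) (2 * d + 1) m ((2 * d + 1) - 2 * m)
    obtain ⟨g1, g2, g3⟩ | ⟨g1, g2, g3⟩ := sub_two_div_odd hi (show 2 * m ≤ 2 * d + 1 by omega) <;> (generalize (2 * d + 1) / (2 * i) = v0 at *; generalize ((2 * d + 1) - 2 * m) / (2 * i) = v1 at *; generalize m / i = v2 at *; generalize (2 * d + 1) % (2 * i) = v3 at *; generalize ((2 * d + 1) - 2 * m) % (2 * i) = v4 at *; generalize m % i = v5 at *; omega)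

/-- Totally singular subspaces, plus type. -/
theorem arith_ts_plus {i c t d m : ℕ} (hi : 0 < i) (ht : 0 < t) (hc : c = if Even i then i else 2 * i)
    (hmd : m < d) (hwin : cap i (2 * d - 2 * m) 1 < cap i (2 * d) 1) :
    ((Odd i ∧ cap i (2 * d) 1 ≤ m / i + cap i (2 * d - 2 * m) 1) ∨
     (Even i ∧ cap i (2 * d) 1 ≤ 2 * (m / i) + cap i (2 * d - 2 * m) 1 ∧
       min t (cap i (2 * d) 1) ≤ cap i (2 * d - 2 * m) 1)) ↔
      ((Odd i ∧ i ≤ m ∧ 2 * (m % i) ≤ (2 * d) % c) ∨
       (Even i ∧ i ≤ m ∧ t + 2 * (m / i) ≤ (2 * d) / i ∧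
         ((2 * (m % i) ≤ i ∧ (2 * d) % c = 0 ∧ Odd ((2 * d) / i) ∧ t + 2 * (m / i) < (2 * d) / i) ∨
          (2 * (m % i) ≤ (2 * d) % c ∧ Even ((2 * d) / i)) ∨
          (2 * (m % i) < (2 * d) % c ∧ Odd ((2 * d) / i))))) := by
  rcases Nat.even_or_odd i with he | ho
  · rw [if_pos he] at hc
    subst c
    rw [cap_plus_even he, cap_plus_even he] at hwin ⊢
    rw [div_pos_iff' hi, Nat.odd_iff (n := 2 * d / i), Nat.even_iff (n := 2 * d / i)]
    simp only [he, Nat.not_odd_iff_even.2 he, false_and, false_or, true_and]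
    have := Nat.mod_lt m hi
    have hp := pos_div_mod (c := i) (show 0 < ((2 * d) - 2 * m) by omega)
    have hp2 := pos_div_mod (c := 2 * i) (show 0 < ((2 * d) - 2 * m) by omega)
    have hbd := bounds hi (2 * d) m ((2 * d) - 2 * m)
    have hbd2 := bounds (show 0 < 2 * i by omega) (2 * d) m ((2 * d) - 2 * m)
    obtain ⟨g1, g2, g3⟩ | ⟨g1, g1', g2, g3⟩ | ⟨g1, g2, g3⟩ := sub_two_div_even hi (show 2 * m ≤ 2 * d by omega) <;>
      split_ifs at hwin ⊢ <;> (generalize (2 * d) / i = v0 at *; generalize ((2 * d) - 2 * m) / i = v1 at *; generalize m / i = v2 at *; generalize (2 * d) % i = v3 at *; generalize ((2 * d) - 2 * m) % i = v4 at *; generalize m % i = v5 at *; omega)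
  · rw [if_neg (Nat.not_even_iff_odd.2 ho)] at hc
    subst c
    rw [cap_plus_odd ho, cap_plus_odd ho] at hwin ⊢
    rw [div_pos_iff' hi]
    simp only [ho, Nat.not_even_iff_odd.2 ho, false_and, or_false, true_and]
    have hp := pos_div_mod (c := i) (show 0 < ((2 * d) - 2 * m) by omega)
    have hp2 := pos_div_mod (c := 2 * i) (show 0 < ((2 * d) - 2 * m) by omega)
    have hbd := bounds hi (2 * d) m ((2 * d) - 2 * m)
    have hbd2 := bounds (show 0 < 2 * i by omega) (2 * d) m ((2 * d) - 2 * m)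
    obtain ⟨g1, g2, g3⟩ | ⟨g1, g2, g3⟩ := sub_two_div_odd hi (show 2 * m ≤ 2 * d by omega) <;> (generalize (2 * d) / (2 * i) = v0 at *; generalize ((2 * d) - 2 * m) / (2 * i) = v1 at *; generalize m / i = v2 at *; generalize (2 * d) % (2 * i) = v3 at *; generalize ((2 * d) - 2 * m) % (2 * i) = v4 at *; generalize m % i = v5 at *; omega)

/-- Totally singular subspaces, minus type. -/
theorem arith_ts_minus {i c t d m : ℕ} (hi : 0 < i) (ht : 0 < t) (hc : c = if Even i then i else 2 * i)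
    (hmd : m < d) (hwin : cap i (2 * d - 2 * m) (-1) < cap i (2 * d) (-1)) :
    ((Odd i ∧ cap i (2 * d) (-1) ≤ m / i + cap i (2 * d - 2 * m) (-1)) ∨
     (Even i ∧ cap i (2 * d) (-1) ≤ 2 * (m / i) + cap i (2 * d - 2 * m) (-1) ∧
       min t (cap i (2 * d) (-1)) ≤ cap i (2 * d - 2 * m) (-1))) ↔
      ((Odd i ∧ i ≤ m ∧ ((2 * d) % c = 0 ∨ 2 * (m % i) < (2 * d) % c)) ∨
       (Even i ∧ i ≤ m ∧ t + 2 * (m / i) ≤ (2 * d) / i ∧
         ((2 * (m % i) ≤ i ∧ (2 * d) % c = 0 ∧ Even ((2 * d) / i) ∧ t + 2 * (m / i) < (2 * d) / i) ∨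
          (2 * (m % i) ≤ (2 * d) % c ∧ Odd ((2 * d) / i)) ∨
          (2 * (m % i) < (2 * d) % c ∧ Even ((2 * d) / i))))) := by
  rcases Nat.even_or_odd i with he | ho
  · rw [if_pos he] at hc
    subst c
    rw [cap_minus_even he, cap_minus_even he] at hwin ⊢
    rw [div_pos_iff' hi, Nat.odd_iff (n := 2 * d / i), Nat.even_iff (n := 2 * d / i)]
    simp only [he, Nat.not_odd_iff_even.2 he, false_and, false_or, true_and]
    have := Nat.mod_lt m hi
    have hp := pos_div_mod (c := i) (show 0 < ((2 * d) - 2 * m) by omega)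
    have hp2 := pos_div_mod (c := 2 * i) (show 0 < ((2 * d) - 2 * m) by omega)
    have hbd := bounds hi (2 * d) m ((2 * d) - 2 * m)
    have hbd2 := bounds (show 0 < 2 * i by omega) (2 * d) m ((2 * d) - 2 * m)
    obtain ⟨g1, g2, g3⟩ | ⟨g1, g1', g2, g3⟩ | ⟨g1, g2, g3⟩ := sub_two_div_even hi (show 2 * m ≤ 2 * d by omega) <;>
      split_ifs at hwin ⊢ <;> (generalize (2 * d) / i = v0 at *; generalize ((2 * d) - 2 * m) / i = v1 at *; generalize m / i = v2 at *; generalize (2 * d) % i = v3 at *; generalize ((2 * d) - 2 * m) % i = v4 at *; generalize m % i = v5 at *; omega)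
  · rw [if_neg (Nat.not_even_iff_odd.2 ho)] at hc
    subst c
    rw [cap_minus_odd ho, cap_minus_odd ho] at hwin ⊢
    rw [div_pos_iff' hi]
    simp only [ho, Nat.not_even_iff_odd.2 ho, false_and, or_false, true_and]
    have := Nat.mod_lt m hi
    have hp := pos_div_mod (c := i) (show 0 < ((2 * d) - 2 * m) by omega)
    have hp2 := pos_div_mod (c := 2 * i) (show 0 < ((2 * d) - 2 * m) by omega)
    have hbd := bounds hi (2 * d) m ((2 * d) - 2 * m)
    have hbd2 := bounds (show 0 < 2 * i by omega) (2 * d) m ((2 * d) - 2 * m)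
    obtain ⟨g1, g2, g3⟩ | ⟨g1, g2, g3⟩ := sub_two_div_odd hi (show 2 * m ≤ 2 * d by omega) <;>
      split_ifs at hwin ⊢ <;> (generalize (2 * d) / (2 * i) = v0 at *; generalize ((2 * d) - 2 * m) / (2 * i) = v1 at *; generalize m / i = v2 at *; generalize (2 * d) % (2 * i) = v3 at *; generalize ((2 * d) - 2 * m) % (2 * i) = v4 at *; generalize m % i = v5 at *; omega)

theorem even_div_shift {i n m k : ℕ} (hn : n % i = k) (hm : m % i = k) :
    (n + m - 2 * k) / i % 2 = (n / i + m / i) % 2 := by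
  rcases Nat.eq_zero_or_pos i with rfl | hi
  · simp
  have h1 := Nat.div_add_mod n i
  have h2 := Nat.div_add_mod m i
  rw [hn] at h1
  rw [hm] at h2
  have : n + m - 2 * k = i * (n / i + m / i) := by rw [mul_add]; omega
  rw [this, Nat.mul_div_cancel_left _ hi]

/-- Hyperbolic subspaces, plus type. -/
theorem arith_plus_plus {i c d m : ℕ} (hi : 0 < i) (hc : c = if Even i then i else 2 * i) (hmd : m < 2 * d)
    (hwin : cap i (2 * d - m) 1 < cap i (2 * d) 1) :
    cap i (2 * d) 1 ≤ cap i m 1 + cap i (2 * d - m) 1 ↔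
      ((Odd i ∧ c ≤ m ∧ m % c ≤ (2 * d) % c) ∨
       (Even i ∧ (((2 * d) % c = 0 ∧ (Odd ((2 * d) / i) ∨ (m % c = 0 ∧ Even (m / i)))) ∨
        (i ≤ m ∧ ((m % c < (2 * d) % c ∧ 0 < m % c) ∨
          ((2 * d) % c = m % c ∧ 0 < m % c ∧ Even ((2 * d + m - 2 * ((2 * d) % c)) / i)) ∨
          (0 < (2 * d) % c ∧ m % c = 0 ∧ Even (m / i))))))) := by
  rcases Nat.even_or_odd i with he | ho
  · rw [if_pos he] at hc
    subst c
    rw [cap_plus_even he, cap_plus_even he] at hwin
    rw [cap_plus_even he, cap_plus_even he, cap_plus_even he, div_pos_iff' hi, Nat.odd_iff (n := 2 * d / i),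
      Nat.even_iff (n := m / i), Nat.even_iff (n := (2 * d + m - 2 * (2 * d % i)) / i)]
    simp only [he, Nat.not_odd_iff_even.2 he, false_and, false_or, true_and]
    have := Nat.mod_lt m hi
    by_cases hkl : m % i = 2 * d % i
    · rw [even_div_shift rfl hkl]
      have hp := pos_div_mod (c := i) (show 0 < ((2 * d) - m) by omega)
      have hp2 := pos_div_mod (c := 2 * i) (show 0 < ((2 * d) - m) by omega)
      have hbd := bounds hi (2 * d) m ((2 * d) - m)
      have hbd2 := bounds (show 0 < 2 * i by omega) (2 * d) m ((2 * d) - m)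
      obtain ⟨g1, g2, g3⟩ | ⟨g1, g2, g3⟩ := sub_div_cases hi hmd.le <;> split_ifs at hwin ⊢ <;> (generalize (2 * d) / i = v0 at *; generalize ((2 * d) - m) / i = v1 at *; generalize m / i = v2 at *; generalize (2 * d) % i = v3 at *; generalize ((2 * d) - m) % i = v4 at *; generalize m % i = v5 at *; omega)
    · have hp := pos_div_mod (c := i) (show 0 < ((2 * d) - m) by omega)
      have hbd := bounds hi (2 * d) m ((2 * d) - m)
      obtain ⟨g1, g2, g3⟩ | ⟨g1, g2, g3⟩ := sub_div_cases hi hmd.le <;> split_ifs at hwin ⊢ <;> (generalize (2 * d) / i = v0 at *; generalize ((2 * d) - m) / i = v1 at *; generalize m / i = v2 at *; generalize (2 * d) % i = v3 at *; generalize ((2 * d) - m) % i = v4 at *; generalize m % i = v5 at *; omega)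
  · rw [if_neg (Nat.not_even_iff_odd.2 ho)] at hc
    subst c
    rw [cap_plus_odd ho, cap_plus_odd ho] at hwin
    rw [cap_plus_odd ho, cap_plus_odd ho, cap_plus_odd ho, div_pos_iff' (show 0 < 2 * i by omega)]
    simp only [ho, Nat.not_even_iff_odd.2 ho, false_and, or_false, true_and]
    have hp := pos_div_mod (c := i) (show 0 < ((2 * d) - m) by omega)
    have hp2 := pos_div_mod (c := 2 * i) (show 0 < ((2 * d) - m) by omega)
    have hbd := bounds hi (2 * d) m ((2 * d) - m)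
    have hbd2 := bounds (show 0 < 2 * i by omega) (2 * d) m ((2 * d) - m)
    obtain ⟨g1, g2, g3⟩ | ⟨g1, g2, g3⟩ := sub_div_cases (show 0 < 2 * i by omega) hmd.le <;> (generalize (2 * d) / (2 * i) = v0 at *; generalize ((2 * d) - m) / (2 * i) = v1 at *; generalize m / (2 * i) = v2 at *; generalize (2 * d) % (2 * i) = v3 at *; generalize ((2 * d) - m) % (2 * i) = v4 at *; generalize m % (2 * i) = v5 at *; omega)

/-- Elliptic subspaces, plus type. -/
theorem arith_plus_minus {i c d m : ℕ} (hi : 0 < i) (hc : c = if Even i then i else 2 * i) (hmd : m < 2 * d)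
    (hwin : cap i (2 * d - m) (-1) < cap i (2 * d) 1) :
    cap i (2 * d) 1 ≤ cap i m (-1) + cap i (2 * d - m) (-1) ↔
      ((Odd i ∧ c ≤ m ∧ 0 < m % c ∧ m % c < (2 * d) % c) ∨
       (Even i ∧ (((2 * d) % c = 0 ∧ (Odd ((2 * d) / i) ∨ (m % c = 0 ∧ Odd (m / i)))) ∨
        (i ≤ m ∧ ((0 < m % c ∧ m % c < (2 * d) % c) ∨
          (0 < m % c ∧ m % c = (2 * d) % c ∧ Odd ((2 * d + m - 2 * ((2 * d) % c)) / i)) ∨
          (m % c = 0 ∧ 0 < (2 * d) % c ∧ Odd (m / i))))))) := by
  rcases Nat.even_or_odd i with he | ho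
  · rw [if_pos he] at hc
    subst c
    rw [cap_plus_even he, cap_minus_even he] at hwin
    rw [cap_plus_even he, cap_minus_even he, cap_minus_even he, div_pos_iff' hi, Nat.odd_iff (n := 2 * d / i),
      Nat.odd_iff (n := m / i), Nat.odd_iff (n := (2 * d + m - 2 * (2 * d % i)) / i)]
    simp only [he, Nat.not_odd_iff_even.2 he, false_and, false_or, true_and]
    have := Nat.mod_lt m hi
    by_cases hkl : m % i = 2 * d % i
    · rw [even_div_shift rfl hkl]
      have hp := pos_div_mod (c := i) (show 0 < ((2 * d) - m) by omega)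
      have hp2 := pos_div_mod (c := 2 * i) (show 0 < ((2 * d) - m) by omega)
      have hbd := bounds hi (2 * d) m ((2 * d) - m)
      have hbd2 := bounds (show 0 < 2 * i by omega) (2 * d) m ((2 * d) - m)
      obtain ⟨g1, g2, g3⟩ | ⟨g1, g2, g3⟩ := sub_div_cases hi hmd.le <;> split_ifs at hwin ⊢ <;> (generalize (2 * d) / i = v0 at *; generalize ((2 * d) - m) / i = v1 at *; generalize m / i = v2 at *; generalize (2 * d) % i = v3 at *; generalize ((2 * d) - m) % i = v4 at *; generalize m % i = v5 at *; omega)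
    · have hp := pos_div_mod (c := i) (show 0 < ((2 * d) - m) by omega)
      have hbd := bounds hi (2 * d) m ((2 * d) - m)
      obtain ⟨g1, g2, g3⟩ | ⟨g1, g2, g3⟩ := sub_div_cases hi hmd.le <;> split_ifs at hwin ⊢ <;> (generalize (2 * d) / i = v0 at *; generalize ((2 * d) - m) / i = v1 at *; generalize m / i = v2 at *; generalize (2 * d) % i = v3 at *; generalize ((2 * d) - m) % i = v4 at *; generalize m % i = v5 at *; omega)
  · rw [if_neg (Nat.not_even_iff_odd.2 ho)] at hc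
    subst c
    rw [cap_plus_odd ho, cap_minus_odd ho] at hwin
    rw [cap_plus_odd ho, cap_minus_odd ho, cap_minus_odd ho, div_pos_iff' (show 0 < 2 * i by omega)]
    simp only [ho, Nat.not_even_iff_odd.2 ho, false_and, or_false, true_and]
    have hp := pos_div_mod (c := i) (show 0 < ((2 * d) - m) by omega)
    have hp2 := pos_div_mod (c := 2 * i) (show 0 < ((2 * d) - m) by omega)
    have hbd := bounds hi (2 * d) m ((2 * d) - m)
    have hbd2 := bounds (show 0 < 2 * i by omega) (2 * d) m ((2 * d) - m)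
    obtain ⟨g1, g2, g3⟩ | ⟨g1, g2, g3⟩ := sub_div_cases (show 0 < 2 * i by omega) hmd.le <;>
      split_ifs at hwin ⊢ <;> (generalize (2 * d) / (2 * i) = v0 at *; generalize ((2 * d) - m) / (2 * i) = v1 at *; generalize m / (2 * i) = v2 at *; generalize (2 * d) % (2 * i) = v3 at *; generalize ((2 * d) - m) % (2 * i) = v4 at *; generalize m % (2 * i) = v5 at *; omega)

/-- Elliptic subspaces, minus type. -/
theorem arith_minus_minus {i c d m : ℕ} (hi : 0 < i) (hc : c = if Even i then i else 2 * i) (hmd : m < 2 * d)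
    (hwin : cap i (2 * d - m) 1 < cap i (2 * d) (-1)) :
    cap i (2 * d) (-1) ≤ cap i m (-1) + cap i (2 * d - m) 1 ↔
      ((Odd i ∧ ((2 * d) % c = 0 ∨ (c ≤ m ∧ 0 < m % c ∧ m % c ≤ (2 * d) % c))) ∨
       (Even i ∧ (((2 * d) % c = 0 ∧ (Even ((2 * d) / i) ∨ (m % c = 0 ∧ Odd (m / i)))) ∨
        (0 < (2 * d) % c ∧ i ≤ m ∧ ((0 < m % c ∧ m % c < (2 * d) % c) ∨ (m % c = 0 ∧ Odd (m / i)) ∨
          (m % c = (2 * d) % c ∧ Even ((2 * d + m - 2 * ((2 * d) % c)) / i))))))) := by
  rcases Nat.even_or_odd i with he | ho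
  · rw [if_pos he] at hc
    subst c
    rw [cap_minus_even he, cap_plus_even he] at hwin
    rw [cap_minus_even he, cap_minus_even he, cap_plus_even he, div_pos_iff' hi, Nat.even_iff (n := 2 * d / i),
      Nat.odd_iff (n := m / i), Nat.even_iff (n := (2 * d + m - 2 * (2 * d % i)) / i)]
    simp only [he, Nat.not_odd_iff_even.2 he, false_and, false_or, true_and]
    have := Nat.mod_lt m hi
    by_cases hkl : m % i = 2 * d % i
    · rw [even_div_shift rfl hkl]
      have hp := pos_div_mod (c := i) (show 0 < ((2 * d) - m) by omega)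
      have hp2 := pos_div_mod (c := 2 * i) (show 0 < ((2 * d) - m) by omega)
      have hbd := bounds hi (2 * d) m ((2 * d) - m)
      have hbd2 := bounds (show 0 < 2 * i by omega) (2 * d) m ((2 * d) - m)
      obtain ⟨g1, g2, g3⟩ | ⟨g1, g2, g3⟩ := sub_div_cases hi hmd.le <;> split_ifs at hwin ⊢ <;> (generalize (2 * d) / i = v0 at *; generalize ((2 * d) - m) / i = v1 at *; generalize m / i = v2 at *; generalize (2 * d) % i = v3 at *; generalize ((2 * d) - m) % i = v4 at *; generalize m % i = v5 at *; omega)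
    · have hp := pos_div_mod (c := i) (show 0 < ((2 * d) - m) by omega)
      have hbd := bounds hi (2 * d) m ((2 * d) - m)
      obtain ⟨g1, g2, g3⟩ | ⟨g1, g2, g3⟩ := sub_div_cases hi hmd.le <;> split_ifs at hwin ⊢ <;> (generalize (2 * d) / i = v0 at *; generalize ((2 * d) - m) / i = v1 at *; generalize m / i = v2 at *; generalize (2 * d) % i = v3 at *; generalize ((2 * d) - m) % i = v4 at *; generalize m % i = v5 at *; omega)
  · rw [if_neg (Nat.not_even_iff_odd.2 ho)] at hc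
    subst c
    rw [cap_minus_odd ho, cap_plus_odd ho] at hwin
    rw [cap_minus_odd ho, cap_minus_odd ho, cap_plus_odd ho, div_pos_iff' (show 0 < 2 * i by omega)]
    simp only [ho, Nat.not_even_iff_odd.2 ho, false_and, or_false, true_and]
    have hp := pos_div_mod (c := i) (show 0 < ((2 * d) - m) by omega)
    have hp2 := pos_div_mod (c := 2 * i) (show 0 < ((2 * d) - m) by omega)
    have hbd := bounds hi (2 * d) m ((2 * d) - m)
    have hbd2 := bounds (show 0 < 2 * i by omega) (2 * d) m ((2 * d) - m)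
    obtain ⟨g1, g2, g3⟩ | ⟨g1, g2, g3⟩ := sub_div_cases (show 0 < 2 * i by omega) hmd.le <;>
      split_ifs at hwin ⊢ <;> (generalize (2 * d) / (2 * i) = v0 at *; generalize ((2 * d) - m) / (2 * i) = v1 at *; generalize m / (2 * i) = v2 at *; generalize (2 * d) % (2 * i) = v3 at *; generalize ((2 * d) - m) % (2 * i) = v4 at *; generalize m % (2 * i) = v5 at *; omega)

/-- Odd-dimensional subspaces, plus type. -/
theorem arith_parab_plus {i c d m : ℕ} (η : ℤ) (hi : 0 < i) (hc : c = if Even i then i else 2 * i) (hm : Odd m)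
    (hmd : m < 2 * d) (hwin : cap i (2 * d - m) η < cap i (2 * d) 1) :
    cap i (2 * d) 1 ≤ cap i m η + cap i (2 * d - m) η ↔
      ((Odd i ∧ c ≤ m ∧ 0 < m % c ∧ m % c < (2 * d) % c) ∨
       (Even i ∧ (((2 * d) % c = 0 ∧ Odd ((2 * d) / i)) ∨ (i ≤ m ∧ 0 < m % c ∧ m % c < (2 * d) % c)))) := by
  have hn' : Odd (2 * d - m) := Nat.Even.sub_odd hmd.le (even_two_mul d) hm
  rw [cap_odd_dim hn'] at hwin
  rw [cap_odd_dim hm, cap_odd_dim hn']
  rcases Nat.even_or_odd i with he | ho
  · rw [if_pos he] at hc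
    subst c
    rw [blk, if_pos he] at hwin ⊢
    rw [cap_plus_even he] at hwin ⊢
    rw [div_pos_iff' hi, Nat.odd_iff (n := 2 * d / i)]
    simp only [he, Nat.not_odd_iff_even.2 he, false_and, false_or, true_and]
    have hl : m % i % 2 = 1 := by rw [Nat.mod_mod_of_dvd _ he.two_dvd]; exact Nat.odd_iff.1 hm
    have hk : 2 * d % i % 2 = 0 := by rw [Nat.mod_mod_of_dvd _ he.two_dvd]; omega
    have hp := pos_div_mod (c := i) (show 0 < ((2 * d) - m) by omega)
    have hp2 := pos_div_mod (c := 2 * i) (show 0 < ((2 * d) - m) by omega)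
    have hbd := bounds hi (2 * d) m ((2 * d) - m)
    have hbd2 := bounds (show 0 < 2 * i by omega) (2 * d) m ((2 * d) - m)
    obtain ⟨g1, g2, g3⟩ | ⟨g1, g2, g3⟩ := sub_div_cases hi hmd.le <;> split_ifs at hwin ⊢ <;> (generalize (2 * d) / i = v0 at *; generalize ((2 * d) - m) / i = v1 at *; generalize m / i = v2 at *; generalize (2 * d) % i = v3 at *; generalize ((2 * d) - m) % i = v4 at *; generalize m % i = v5 at *; omega)
  · rw [if_neg (Nat.not_even_iff_odd.2 ho)] at hc
    subst c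
    rw [blk, if_neg (Nat.not_even_iff_odd.2 ho)] at hwin ⊢
    rw [cap_plus_odd ho] at hwin ⊢
    rw [div_pos_iff' (show 0 < 2 * i by omega)]
    simp only [ho, Nat.not_even_iff_odd.2 ho, false_and, or_false, true_and]
    have hl : m % (2 * i) % 2 = 1 := by rw [Nat.mod_mod_of_dvd _ (dvd_mul_right 2 i)]; exact Nat.odd_iff.1 hm
    have hk : 2 * d % (2 * i) % 2 = 0 := by rw [Nat.mod_mod_of_dvd _ (dvd_mul_right 2 i)]; omega
    have hp := pos_div_mod (c := i) (show 0 < ((2 * d) - m) by omega)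
    have hp2 := pos_div_mod (c := 2 * i) (show 0 < ((2 * d) - m) by omega)
    have hbd := bounds hi (2 * d) m ((2 * d) - m)
    have hbd2 := bounds (show 0 < 2 * i by omega) (2 * d) m ((2 * d) - m)
    obtain ⟨g1, g2, g3⟩ | ⟨g1, g2, g3⟩ := sub_div_cases (show 0 < 2 * i by omega) hmd.le <;> (generalize (2 * d) / (2 * i) = v0 at *; generalize ((2 * d) - m) / (2 * i) = v1 at *; generalize m / (2 * i) = v2 at *; generalize (2 * d) % (2 * i) = v3 at *; generalize ((2 * d) - m) % (2 * i) = v4 at *; generalize m % (2 * i) = v5 at *; omega)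

/-- Odd-dimensional subspaces, minus type. -/
theorem arith_parab_minus {i c d m : ℕ} (η : ℤ) (hi : 0 < i) (hc : c = if Even i then i else 2 * i) (hm : Odd m)
    (hmd : m < 2 * d) (hwin : cap i (2 * d - m) η < cap i (2 * d) (-1)) :
    cap i (2 * d) (-1) ≤ cap i m η + cap i (2 * d - m) η ↔
      ((Odd i ∧ ((2 * d) % c = 0 ∨ (c ≤ m ∧ 0 < m % c ∧ m % c < (2 * d) % c))) ∨
       (Even i ∧ (((2 * d) % c = 0 ∧ Even ((2 * d) / i)) ∨
         (0 < (2 * d) % c ∧ i ≤ m ∧ 0 < m % c ∧ m % c < (2 * d) % c)))) := by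
  have hn' : Odd (2 * d - m) := Nat.Even.sub_odd hmd.le (even_two_mul d) hm
  rw [cap_odd_dim hn'] at hwin
  rw [cap_odd_dim hm, cap_odd_dim hn']
  rcases Nat.even_or_odd i with he | ho
  · rw [if_pos he] at hc
    subst c
    rw [blk, if_pos he] at hwin ⊢
    rw [cap_minus_even he] at hwin ⊢
    rw [div_pos_iff' hi, Nat.even_iff (n := 2 * d / i)]
    simp only [he, Nat.not_odd_iff_even.2 he, false_and, false_or, true_and]
    have hl : m % i % 2 = 1 := by rw [Nat.mod_mod_of_dvd _ he.two_dvd]; exact Nat.odd_iff.1 hm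
    have hk : 2 * d % i % 2 = 0 := by rw [Nat.mod_mod_of_dvd _ he.two_dvd]; omega
    have hp := pos_div_mod (c := i) (show 0 < ((2 * d) - m) by omega)
    have hp2 := pos_div_mod (c := 2 * i) (show 0 < ((2 * d) - m) by omega)
    have hbd := bounds hi (2 * d) m ((2 * d) - m)
    have hbd2 := bounds (show 0 < 2 * i by omega) (2 * d) m ((2 * d) - m)
    obtain ⟨g1, g2, g3⟩ | ⟨g1, g2, g3⟩ := sub_div_cases hi hmd.le <;> split_ifs at hwin ⊢ <;> (generalize (2 * d) / i = v0 at *; generalize ((2 * d) - m) / i = v1 at *; generalize m / i = v2 at *; generalize (2 * d) % i = v3 at *; generalize ((2 * d) - m) % i = v4 at *; generalize m % i = v5 at *; omega)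
  · rw [if_neg (Nat.not_even_iff_odd.2 ho)] at hc
    subst c
    rw [blk, if_neg (Nat.not_even_iff_odd.2 ho)] at hwin ⊢
    rw [cap_minus_odd ho] at hwin ⊢
    rw [div_pos_iff' (show 0 < 2 * i by omega)]
    simp only [ho, Nat.not_even_iff_odd.2 ho, false_and, or_false, true_and]
    have hl : m % (2 * i) % 2 = 1 := by rw [Nat.mod_mod_of_dvd _ (dvd_mul_right 2 i)]; exact Nat.odd_iff.1 hm
    have hk : 2 * d % (2 * i) % 2 = 0 := by rw [Nat.mod_mod_of_dvd _ (dvd_mul_right 2 i)]; omega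
    have hp := pos_div_mod (c := i) (show 0 < ((2 * d) - m) by omega)
    have hp2 := pos_div_mod (c := 2 * i) (show 0 < ((2 * d) - m) by omega)
    have hbd := bounds hi (2 * d) m ((2 * d) - m)
    have hbd2 := bounds (show 0 < 2 * i by omega) (2 * d) m ((2 * d) - m)
    obtain ⟨g1, g2, g3⟩ | ⟨g1, g2, g3⟩ := sub_div_cases (show 0 < 2 * i by omega) hmd.le <;>
      split_ifs at hwin ⊢ <;> (generalize (2 * d) / (2 * i) = v0 at *; generalize ((2 * d) - m) / (2 * i) = v1 at *; generalize m / (2 * i) = v2 at *; generalize (2 * d) % (2 * i) = v3 at *; generalize ((2 * d) - m) % (2 * i) = v4 at *; generalize m % (2 * i) = v5 at *; omega)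

end CfsgLib.Classical22.OrthType
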