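/-
What a prime dividing the number of subspaces of one type says about the dimensions.
-/
import Cfsg.Agent.Lib.Classical22.OrthTypeCriteria
import Cfsg.Agent.Lib.Classical.Witt

set_option autoImplicit false

namespace CfsgLib.Classical22.OrthType

open CfsgLib.Classical CfsgLib.Classical.QuadSign Module

universe u

variable {F : Type u} [Field F]

section Orbit

variable {V : Type u} [AddCommGroup V] [Module F V] [FiniteDimensional F V]

omit [FiniteDimensional F V] in
theorem isom_res_map (Q : QuadraticForm F V) (g : qAut Q) (U : Submodule F V) :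
    Isom (res Q U) (res Q (U.map (g.1 : V →ₗ[F] V))) :=
  ⟨Submodule.equivMapOfInjective _ g.1.injective U, fun u => qAut_map g (u : V)⟩

/-- Extending isometries of a summand by the identity. -/
theorem exists_extend {Q : QuadraticForm F V} (hQ : PolarNondeg Q) {X : Submodule F V} (hX : PolarNondeg (res Q X)) :
    ∃ φ : qAut (res Q (perp Q X)) →* qAut Q, Function.Injective φ ∧ ∀ h, ∀ x ∈ X, (φ h).1 x = x := by
  obtain ⟨hc, -, -⟩ := split_res hQ hX
  obtain ⟨e, he⟩ : ∃ e : (X × perp Q X) ≃ₗ[F] V, ∀ x, e x = (x.1 : V) + (x.2 : V) :=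
    ⟨X.prodEquivOfIsCompl _ hc, fun x => by simp⟩
  have hQe : ∀ x, Q (e x) = Q (x.1 : V) + Q (x.2 : V) := fun x => by
    have h := (mem_perp.1 x.2.2) x.1 x.1.2
    rw [he]
    simp only [QuadraticMap.polar] at h
    linear_combination h
  obtain ⟨φ, hφ⟩ : ∃ φ : qAut (res Q (perp Q X)) →* qAut Q, ∀ h x, (φ h).1 (e x) = e (x.1, h.1 x.2) := by
    refine ⟨MonoidHom.mk' (fun h => ⟨e.symm.trans (((LinearEquiv.refl F X).prodCongr h.1).trans e), fun v => ?_⟩)
      fun g h => qAut_ext fun v => ?_, fun h x => ?_⟩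
    · obtain ⟨x, rfl⟩ := e.surjective v
      show Q (e (_ : X × perp Q X)) = _
      simp only [LinearEquiv.coe_coe, LinearEquiv.symm_apply_apply]
      rw [hQe, hQe]
      congr 1
      exact qAut_map h x.2
    · simp [LinearEquiv.mul_apply]
    · simp [MonoidHom.mk'_apply]
  refine ⟨φ, (injective_iff_map_eq_one φ).2 fun h hh => qAut_ext fun y => ?_, fun h x hx => ?_⟩
  · have h1 := hφ h (0, y)
    rw [hh] at h1
    exact (congrArg Prod.snd (e.injective h1)).symm
  · have h1 := hφ h (⟨x, hx⟩, 0)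
    rw [map_zero, he] at h1
    simpa using h1

/-- The number of subspaces in a class times the isometries of a summand fixing one of them. -/
theorem count_dvd [Fintype F] {Q : QuadraticForm F V} (hQ : PolarNondeg Q) {X U₀ : Submodule F V}
    (hX : PolarNondeg (res Q X)) (hU : U₀ ≤ X) :
    Nat.card {U : Submodule F V // Isom (res Q U₀) (res Q U)} * Nat.card (qAut (res Q (perp Q X))) ∣
      Nat.card (qAut Q) := by
  haveI : Finite V := Module.finite_of_finite F
  haveI : Finite (qAut Q) := finite_qAut Q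
  letI : MulAction (qAut Q) (Submodule F V) :=
    { smul := fun g U => U.map (g.1 : V →ₗ[F] V)
      one_smul := fun U => Submodule.map_id U
      mul_smul := fun g k U => by
        show U.map ((g * k).1 : V →ₗ[F] V) = (U.map (k.1 : V →ₗ[F] V)).map (g.1 : V →ₗ[F] V)
        rw [← Submodule.map_comp]; rfl }
  have horb : MulAction.orbit (qAut Q) U₀ = {U | Isom (res Q U₀) (res Q U)} := by
    ext U
    constructor
    · rintro ⟨g, rfl⟩
      exact isom_res_map Q g U₀
    · rintro ⟨e, he⟩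
      obtain ⟨g, hg, hge⟩ := witt_quad Q hQ U₀ (U.subtype ∘ₗ e.toLinearMap)
        (U.injective_subtype.comp e.injective) fun a => he a
      refine ⟨⟨g, hg⟩, ?_⟩
      ext v
      constructor
      · rintro ⟨a, ha, rfl⟩
        show g a ∈ U
        rw [hge ⟨a, ha⟩]
        exact (e ⟨a, ha⟩).2
      · intro hv
        obtain ⟨a, ha⟩ := e.surjective ⟨v, hv⟩
        refine ⟨a, a.2, ?_⟩
        show g (a : V) = v
        rw [hge a]
        exact congrArg Subtype.val ha
  obtain ⟨φ, hφi, hφ⟩ := exists_extend hQ hX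
  have hrange : φ.range ≤ MulAction.stabilizer (qAut Q) U₀ := by
    rintro _ ⟨h, rfl⟩
    show U₀.map ((φ h).1 : V →ₗ[F] V) = U₀
    ext v
    constructor
    · rintro ⟨a, ha, rfl⟩
      show (φ h).1 a ∈ U₀
      rwa [hφ h a (hU ha)]
    · exact fun hv => ⟨v, hv, hφ h v (hU hv)⟩
  have hd := Subgroup.card_dvd_of_le hrange
  rw [← Nat.card_congr (φ.ofInjective hφi).toEquiv] at hd
  rw [show Nat.card {U : Submodule F V // Isom (res Q U₀) (res Q U)} = Nat.card (MulAction.orbit (qAut Q) U₀) by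
    rw [horb]; rfl, ← Nat.card_congr (MulAction.orbitProdStabilizerEquivGroup (qAut Q) U₀), Nat.card_prod]
  exact mul_dvd_mul_left _ hd

omit [FiniteDimensional F V] in
theorem isom_ts_iff {Q : QuadraticForm F V} [FiniteDimensional F V] {U₀ : Submodule F V} (h₀ : ∀ u ∈ U₀, Q u = 0)
    (U : Submodule F V) : Isom (res Q U₀) (res Q U) ↔ finrank F U = finrank F U₀ ∧ ∀ u ∈ U, Q u = 0 := by
  constructor
  · intro h
    obtain ⟨e, he⟩ := id h
    refine ⟨h.finrank_eq.symm, fun u hu => ?_⟩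
    obtain ⟨a, ha⟩ := e.surjective ⟨u, hu⟩
    have := he a
    rw [ha] at this
    exact this.trans (h₀ a a.2)
  · rintro ⟨hd, hU⟩
    exact ⟨LinearEquiv.ofFinrankEq _ _ hd.symm, fun a => (hU _ (Subtype.mem _)).trans (h₀ a a.2).symm⟩

end Orbit

section Order

variable [Fintype F]

/-- `∏ (q^(2j) - 1)`. -/
def phi (q a : ℕ) : ℕ := ∏ j ∈ Finset.range a, (q ^ (2 * (j + 1)) - 1)

/-- The factor missing from the order of the orthogonal group of dimension `n`. -/
def xf (q n : ℕ) (ε : ℤ) : ℕ := if Even n then (if ε = 1 then q ^ (n / 2) + 1 else q ^ (n / 2) - 1) else 1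

theorem qAut_smul {V : Type u} [AddCommGroup V] [Module F V] (Q : QuadraticForm F V) {c : F} (hc : c ≠ 0) :
    Nat.card (qAut (c • Q)) = Nat.card (qAut Q) :=
  Nat.card_congr
    { toFun := fun g => ⟨g.1, fun v => mul_left_cancel₀ hc (by simpa using g.2 v)⟩
      invFun := fun g => ⟨g.1, fun v => by simp [g.2 v]⟩
      left_inv := fun g => rfl
      right_inv := fun g => rfl }

theorem card_qAut_isom {V W : Type u} [AddCommGroup V] [Module F V] [AddCommGroup W] [Module F W]
    {Q : QuadraticForm F V} {R : QuadraticForm F W} (h : Isom Q R) : Nat.card (qAut Q) = Nat.card (qAut R) := by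
  obtain ⟨e, he⟩ := h
  exact Nat.card_congr (qAutCongr e he).toEquiv

/-- The order of an orthogonal group, uniformly. -/
theorem card_qAut_xf {V : Type u} [AddCommGroup V] [Module F V] [FiniteDimensional F V] {Q : QuadraticForm F V}
    (hQ : PolarNondeg Q) (h2 : Odd (finrank F V) → (2 : F) ≠ 0) {ε : ℤ} (hε : Even (finrank F V) → Sg Q ε) :
    ∃ e, Nat.card (qAut Q) * xf (Fintype.card F) (finrank F V) ε =
      2 * Fintype.card F ^ e * phi (Fintype.card F) (finrank F V / 2) := by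
  obtain ⟨k, hk | hk⟩ := Nat.even_or_odd' (finrank F V)
  · have hev : Even (finrank F V) := ⟨k, by omega⟩
    have hdiv : finrank F V / 2 = k := by omega
    rw [xf, if_pos hev, hdiv]
    rcases k with _ | a
    · haveI : Subsingleton V := Module.finrank_zero_iff.1 hk
      have h1 : ε = 1 := sg_unique (hε hev) (sg_subsingleton Q hk)
      haveI : Subsingleton (qAut Q) := ⟨fun g h => qAut_ext fun v => Subsingleton.elim _ _⟩
      exact ⟨0, by simp [h1, Nat.card_unique, phi]⟩
    have hpr : ∀ b : ℕ, phi (Fintype.card F) (b + 1) =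
        (∏ i ∈ Finset.range b, (Fintype.card F ^ (2 * (i + 1)) - 1)) * (Fintype.card F ^ (2 * (b + 1)) - 1) :=
      fun b => Finset.prod_range_succ _ _
    have hsq : Fintype.card F ^ (2 * (a + 1)) - 1 = (Fintype.card F ^ (a + 1) - 1) * (Fintype.card F ^ (a + 1) + 1) := by
      rw [mul_comm (Fintype.card F ^ (a + 1) - 1), ← Nat.sq_sub_sq, one_pow, ← pow_mul, mul_comm (a + 1) 2]
    refine ⟨(a + 1) * a, ?_⟩
    rcases (hε hev).cases hQ with rfl | rfl
    · rw [if_pos rfl, card_qAut_isom ((sg_qPlus (F := F) (a + 1)).isom (hε hev) (polarNondeg_qPlus _) hQ (by simp; omega)).symm',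
        ← Nat.card_congr (qAutCongr (plusLin (a + 1) F) (qPlus_plusLin (F := F) (a + 1))).toEquiv, card_qAut_plus, hpr, hsq]
      ring
    · obtain ⟨b₀, b₁, hab⟩ := exists_binAniso (F := F)
      have hn : finrank F ((Fin a ⊕ Fin a) ⊕ Fin 2 → F) = 2 * (a + 1) := by simp; omega
      rw [if_neg (by norm_num), card_qAut_isom (Sg.isom (Q := qExt a (qBin b₀ b₁)) (ε := -1) ⟨a + 1, hn, hasSign_qExt_qBin hab a⟩
        (hε hev) (polarNondeg_qExt (polarNondeg_qBin hab) a) hQ (by omega)).symm', card_qAut_minus hab, hpr, hsq]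
      ring
  · have hodd : Odd (finrank F V) := ⟨k, hk⟩
    obtain ⟨c, e, hc, he⟩ := exists_similar_line (h2 hodd) k Q hQ hk
    rw [xf, if_neg (Nat.not_even_iff_odd.2 hodd), mul_one, show finrank F V / 2 = k by omega]
    refine ⟨k ^ 2, ?_⟩
    rw [card_qAut_isom (show Isom Q (c • qExt k (qLine F)) from ⟨e.symm, fun v => by
        obtain ⟨x, rfl⟩ := e.surjective v
        rw [LinearEquiv.symm_apply_apply, he]; rfl⟩), qAut_smul _ hc, card_qAut_line (h2 hodd), phi]

end Order

section Window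

variable {r i q : ℕ}

theorem dvd_pow_sub_one_iff [Fact r.Prime] (hi : i = orderOf (q : ZMod r)) (hq : 0 < q) (j : ℕ) :
    r ∣ q ^ j - 1 ↔ i ∣ j := by
  rw [hi, orderOf_dvd_iff_pow_eq_one, ← ZMod.natCast_eq_zero_iff, Nat.cast_sub (Nat.one_le_pow _ _ hq), sub_eq_zero,
    Nat.cast_pow, Nat.cast_one]

theorem blk_dvd_iff (i : ℕ) {k : ℕ} : blk i ∣ 2 * k ↔ i ∣ 2 * k := by
  unfold blk
  split_ifs with h
  · rfl
  · refine ⟨fun h' => (dvd_mul_left i 2).trans h', fun h' => mul_dvd_mul_left 2 ?_⟩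
    exact (Nat.coprime_two_right.2 (Nat.not_even_iff_odd.1 h)).dvd_of_dvd_mul_left h'

/-- When `r` divides the missing factor. -/
theorem not_dvd_xf [hr : Fact r.Prime] (hr2 : r ≠ 2) (hi : i = orderOf (q : ZMod r)) (hi0 : 0 < i) (hq : 0 < q) {n : ℕ}
    {ε : ℤ} (hε : ε = 1 ∨ ε = -1) (hflag : n % blk i = 0 → sgn i (n / blk i) = ε) : ¬ r ∣ xf q n ε := by
  intro hd
  rw [xf] at hd
  split_ifs at hd with hn he
  pick_goal 3
  · exact hr.out.one_lt.ne' (Nat.dvd_one.1 hd)
  all_goals
    obtain ⟨a, rfl⟩ := hn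
    rw [show (a + a) / 2 = a by omega] at hd
    have h2 : (2 : ZMod r) ≠ 0 := by
      intro h
      rw [show (2 : ZMod r) = ((2 : ℕ) : ZMod r) by norm_num, ZMod.natCast_eq_zero_iff] at h
      exact hr2 ((Nat.prime_dvd_prime_iff_eq hr.out Nat.prime_two).1 h)
    have hsq : r ∣ q ^ (2 * a) - 1 := by
      rw [show q ^ (2 * a) - 1 = (q ^ a - 1) * (q ^ a + 1) by
        rw [mul_comm (q ^ a - 1), ← Nat.sq_sub_sq, one_pow, ← pow_mul, mul_comm a 2]]
      first
      | exact dvd_mul_of_dvd_right hd _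
      | exact dvd_mul_of_dvd_left hd _
    have hb : blk i ∣ 2 * a := (blk_dvd_iff i).2 ((dvd_pow_sub_one_iff hi hq _).1 hsq)
    have hz : (a + a) % blk i = 0 := Nat.mod_eq_zero_of_dvd (by rwa [← two_mul])
    obtain ⟨k, hk⟩ := hb
    have hsg := hflag hz
    rw [← two_mul, hk, Nat.mul_div_cancel_left _ (blk_pos hi0), sgn] at hsg
    have hqa : (q : ZMod r) ^ a = if Even i then (-1) ^ k else 1 := by
      unfold blk at hk
      split_ifs at hk ⊢ with hev
      · obtain ⟨b, hb'⟩ := hev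
        have : a = b * k := by rw [hb'] at hk; linarith
        have hhalf : (q : ZMod r) ^ b = -1 := by
          have h1 : ((q : ZMod r) ^ b) ^ 2 = 1 := by
            rw [← pow_mul, show b * 2 = i by omega, hi, pow_orderOf_eq_one]
          rcases sq_eq_one_iff.1 h1 with h | h
          · have hd' := orderOf_dvd_of_pow_eq_one h
            rw [← hi] at hd'
            have := Nat.le_of_dvd (by omega) hd'
            omega
          · exact h
        rw [this, pow_mul, hhalf]
      · have : a = i * k := by linarith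
        rw [this, pow_mul, hi, pow_orderOf_eq_one, one_pow]
  · -- `q ^ a + 1`
    rw [he] at hsg
    rw [← ZMod.natCast_eq_zero_iff, Nat.cast_add, Nat.cast_pow, Nat.cast_one, hqa] at hd
    split_ifs at hd hsg with hev
    · rcases Nat.even_or_odd k with hk' | hk'
      · rw [hk'.neg_one_pow] at hd; exact h2 (by linear_combination hd)
      · rw [hk'.neg_one_pow] at hsg; norm_num at hsg
    · exact h2 (by linear_combination hd)
  · -- `q ^ a - 1`
    obtain rfl : ε = -1 := hε.resolve_left he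
    rw [← ZMod.natCast_eq_zero_iff, Nat.cast_sub (Nat.one_le_pow _ _ hq), Nat.cast_pow, Nat.cast_one, hqa] at hd
    split_ifs at hd hsg with hev
    · rcases Nat.even_or_odd k with hk' | hk'
      · rw [hk'.neg_one_pow] at hsg; norm_num at hsg
      · rw [hk'.neg_one_pow] at hd; exact h2 (by linear_combination -hd)

/-- The arithmetic consequence of a divisible index. -/
theorem cap_lt_of_dvd [hr : Fact r.Prime] (hr2 : r ≠ 2) (hrq : ¬ r ∣ q) (hq : 1 < q) (hi : i = orderOf (q : ZMod r))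
    (hi0 : 0 < i) {n n' : ℕ} (hn' : 0 < n') (hlt : n' < n) {ε ε' : ℤ} (hε : ε = 1 ∨ ε = -1) (hε' : ε' = 1 ∨ ε' = -1)
    {A A' N e e' : ℕ} (hA : A * xf q n ε = 2 * q ^ e * phi q (n / 2))
    (hA' : A' * xf q n' ε' = 2 * q ^ e' * phi q (n' / 2)) (hN : r ∣ N) (hdvd : N * A' ∣ A) :
    cap i n' ε' < cap i n ε := by
  by_contra hc
  have hb := blk_pos hi0
  have hrA : r * A' ∣ A := (mul_dvd_mul_right hN A').trans hdvd
  have hphi : phi q (n / 2) = phi q (n' / 2) * ∏ j ∈ Finset.Ico (n' / 2) (n / 2), (q ^ (2 * (j + 1)) - 1) :=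
    (Finset.prod_range_mul_prod_Ico _ (by omega)).symm
  have hpos : 0 < phi q (n' / 2) := Finset.prod_pos fun j _ => Nat.sub_pos_of_lt (Nat.one_lt_pow (by omega) hq)
  have h1 : r * (q ^ e' * xf q n ε) ∣ q ^ e * xf q n' ε' * ∏ j ∈ Finset.Ico (n' / 2) (n / 2), (q ^ (2 * (j + 1)) - 1) := by
    have h := mul_dvd_mul hrA (dvd_refl (xf q n' ε' * xf q n ε))
    rw [show r * A' * (xf q n' ε' * xf q n ε) = r * (A' * xf q n' ε') * xf q n ε by ring,
      show A * (xf q n' ε' * xf q n ε) = (A * xf q n ε) * xf q n' ε' by ring, hA, hA', hphi] at h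
    refine (Nat.mul_dvd_mul_iff_left (show 0 < 2 * phi q (n' / 2) by omega)).1 ?_
    refine dvd_trans (dvd_of_eq ?_) (h.trans (dvd_of_eq ?_)) <;> ring
  have hrp := hr.out.prime
  have hq0 : 0 < q := by omega
  have hqe : ∀ k, ¬ r ∣ q ^ k := fun k h => hrq (hr.out.dvd_of_dvd_pow h)
  have hfac : ∀ j, r ∣ q ^ (2 * (j + 1)) - 1 → ∃ k, blk i * k = 2 * (j + 1) := fun j h => by
    obtain ⟨k, hk⟩ := (blk_dvd_iff i).2 ((dvd_pow_sub_one_iff hi hq0 _).1 h)
    exact ⟨k, hk.symm⟩
  rcases Nat.lt_or_ge (n' / blk i) (n / blk i) with hN' | hN'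
  · -- the only multiple is `n`
    obtain ⟨hflag, hflag'⟩ : (n % blk i = 0 ∧ sgn i (n / blk i) ≠ ε) ∧ ¬ (n' % blk i = 0 ∧ sgn i (n' / blk i) ≠ ε') := by
      have hp' : n' % blk i = 0 → 0 < n' / blk i := fun h =>
        Nat.div_pos (Nat.le_of_dvd hn' (Nat.dvd_of_mod_eq_zero h)) hb
      obtain ⟨K, hK⟩ : ∃ K, K = n / blk i := ⟨_, rfl⟩
      obtain ⟨K', hK'⟩ : ∃ K', K' = n' / blk i := ⟨_, rfl⟩
      rw [cap, cap, ← hK, ← hK'] at hc
      rw [← hK'] at hp'
      rw [← hK, ← hK'] at hN' ⊢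
      split_ifs at hc with a1 a2 <;> first
        | exact ⟨a2, a1⟩
        | (have := hp' a1.1; omega)
        | omega
    have hNeq : n / blk i = n' / blk i + 1 := by
      rw [cap, cap, if_pos hflag, if_neg hflag'] at hc
      obtain ⟨K, hK⟩ : ∃ K, K = n / blk i := ⟨_, rfl⟩
      obtain ⟨K', hK'⟩ : ∃ K', K' = n' / blk i := ⟨_, rfl⟩
      rw [← hK, ← hK'] at hc hN' ⊢
      omega
    push Not at hflag'
    have hev : Even n := by
      rw [← Nat.div_add_mod n (blk i), hflag.1, add_zero]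
      exact (even_blk i).mul_right _
    obtain ⟨a, rfl⟩ := hev
    obtain ⟨b, rfl⟩ : ∃ b, a = b + 1 := ⟨a - 1, by omega⟩
    rw [show (b + 1 + (b + 1)) / 2 = b + 1 by omega, Finset.prod_Ico_succ_top (by omega)] at h1
    have hsplit : ∃ Y, q ^ (2 * (b + 1)) - 1 = Y * xf q (b + 1 + (b + 1)) ε ∧ ¬ r ∣ Y := by
      refine ⟨xf q (b + 1 + (b + 1)) (-ε), ?_, not_dvd_xf hr2 hi hi0 hq0 (by omega) fun _ => ?_⟩
      · have hsq : q ^ (2 * (b + 1)) - 1 = (q ^ (b + 1) - 1) * (q ^ (b + 1) + 1) := by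
          rw [mul_comm (q ^ (b + 1) - 1), ← Nat.sq_sub_sq, one_pow, ← pow_mul, mul_comm (b + 1) 2]
        have hev2 : Even (b + 1 + (b + 1)) := ⟨b + 1, rfl⟩
        rw [xf, xf, if_pos hev2, if_pos hev2, show (b + 1 + (b + 1)) / 2 = b + 1 by omega, hsq]
        rcases hε with rfl | rfl
        · rw [if_neg (by norm_num : ¬ (-1 : ℤ) = 1), if_pos rfl]
        · rw [if_pos (by norm_num : (-(-1) : ℤ) = 1), if_neg (by norm_num : ¬ (-1 : ℤ) = 1), mul_comm]
      · rcases sgn_pm i ((b + 1 + (b + 1)) / blk i) with h | h <;> rcases hε with rfl | rfl <;>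
          first
            | exact absurd h hflag.2
            | simp [h]
    obtain ⟨Y, hY, hYr⟩ := hsplit
    rw [hY, ← mul_assoc, ← mul_assoc, ← mul_assoc] at h1
    have hX0 : 0 < xf q (b + 1 + (b + 1)) ε := by
      rw [xf, if_pos ⟨b + 1, rfl⟩]
      have := Nat.one_lt_pow (show (b + 1 + (b + 1)) / 2 ≠ 0 by omega) hq
      split_ifs <;> omega
    have h2 := Nat.dvd_of_mul_dvd_mul_right hX0 h1
    rcases hrp.dvd_or_dvd ((dvd_mul_right r _).trans h2) with h | h
    · rcases hrp.dvd_or_dvd h with h | h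
      · rcases hrp.dvd_or_dvd h with h | h
        · exact hqe _ h
        · exact not_dvd_xf hr2 hi hi0 hq0 hε' hflag' h
      · obtain ⟨j, hj, hjd⟩ := (Prime.dvd_finset_prod_iff hrp _).1 h
        rw [Finset.mem_Ico] at hj
        obtain ⟨k, hk⟩ := hfac j hjd
        have hk1 : n' / blk i < k := (Nat.div_lt_iff_lt_mul hb).2 (by rw [mul_comm, hk]; omega)
        have hk2 : k < (b + 1 + (b + 1)) / blk i := by
          refine lt_of_mul_lt_mul_left ?_ (Nat.zero_le (blk i))
          rw [hk, Nat.mul_div_cancel' (Nat.dvd_of_mod_eq_zero hflag.1)]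
          omega
        omega
    · exact hYr h
  · have hNe : n / blk i = n' / blk i := le_antisymm hN' (Nat.div_le_div_right hlt.le)
    have hflag : ¬ (n % blk i = 0 ∧ sgn i (n / blk i) ≠ ε) := fun h => by
      have h3 : n' / blk i < n / blk i :=
        (Nat.div_lt_iff_lt_mul hb).2 (by rwa [Nat.div_mul_cancel (Nat.dvd_of_mod_eq_zero h.1)])
      omega
    have hflag' : ¬ (n' % blk i = 0 ∧ sgn i (n' / blk i) ≠ ε') := fun h => by
      have : 0 < n' / blk i := Nat.div_pos (Nat.le_of_dvd hn' (Nat.dvd_of_mod_eq_zero h.1)) hb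
      rw [cap, cap, if_neg hflag, if_pos h] at hc
      omega
    push Not at hflag'
    rcases hrp.dvd_or_dvd ((dvd_mul_right r _).trans h1) with h | h
    · rcases hrp.dvd_or_dvd h with h | h
      · exact hqe _ h
      · exact not_dvd_xf hr2 hi hi0 hq0 hε' hflag' h
    · obtain ⟨j, hj, hjd⟩ := (Prime.dvd_finset_prod_iff hrp _).1 h
      rw [Finset.mem_Ico] at hj
      obtain ⟨k, hk⟩ := hfac j hjd
      have hk1 : n' / blk i < k := (Nat.div_lt_iff_lt_mul hb).2 (by rw [mul_comm, hk]; omega)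
      have hk2 : k ≤ n / blk i := (Nat.le_div_iff_mul_le hb).2 (by rw [mul_comm, hk]; omega)
      omega

end Window

end CfsgLib.Classical22.OrthType
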