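/-
From matrices in `Ω` to isometries of exponent `r`; the vocabulary of subspace types.
-/
import Cfsg.Agent.Lib.Classical22.OrthTypeWindow
import Cfsg.Agent.Lib.Classical.SpinorCriterion
import Cfsg.Agent.Lib.Classical.OmegaOdd
import Cfsg.Prelude.Def_GeometricClasses

set_option autoImplicit false

namespace CfsgLib.Classical22.OrthType

open CfsgLib.Classical Module Matrix

universe u

variable {F : Type u} [Field F]

section Matrices

variable {ι : Type} [Fintype ι] [DecidableEq ι] {Q : QuadraticForm F (ι → F)} {r : ℕ}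

theorem mulVec_mem_of_map {x : GL ι F} {W : Submodule F (ι → F)}
    (h : W.map (Matrix.toLin' (x : Matrix ι ι F)) ≤ W) : ∀ w ∈ W, (x : Matrix ι ι F) *ᵥ w ∈ W :=
  fun w hw => h ⟨w, hw, Matrix.toLin'_apply _ _⟩

theorem map_le_of_mulVec {x : GL ι F} {W : Submodule F (ι → F)}
    (h : ∀ w ∈ W, (x : Matrix ι ι F) *ᵥ w ∈ W) : W.map (Matrix.toLin' (x : Matrix ι ι F)) ≤ W := by
  rintro _ ⟨w, hw, rfl⟩
  rw [Matrix.toLin'_apply]
  exact h w hw

theorem isoEquiv_mulVec (g : Cfsg.isometryGroup F ⇑Q) (v : ι → F) :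
    (isoEquiv Q g).1 v = ((g : GL ι F) : Matrix ι ι F) *ᵥ v := rfl

theorem isoEquiv_pow_mulVec (g : Cfsg.isometryGroup F ⇑Q) (n : ℕ) (v : ι → F) :
    (isoEquiv Q g ^ n).1 v = (((g : GL ι F) ^ n : GL ι F) : Matrix ι ι F) *ᵥ v := by
  rw [← map_pow, isoEquiv_mulVec, Subgroup.coe_pow]

theorem scalar_matrix_iff (M : Matrix ι ι F) (z : F) : M = z • (1 : Matrix ι ι F) ↔ ∀ v, M *ᵥ v = z • v := by
  refine ⟨fun h v => by rw [h, smul_mulVec, one_mulVec], fun h => Matrix.ext_of_mulVec_single fun j => ?_⟩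
  rw [h, smul_mulVec, one_mulVec]

/-- Elements modulo scalars. -/
theorem bridge_scalar (P : Submodule F (ι → F) → Prop) :
    (∀ x : GL ι F, x ∈ Cfsg.Geo.omegaGL ⇑Q →
      (∃ z : F, ((x ^ r : GL ι F) : Matrix ι ι F) = z • (1 : Matrix ι ι F)) →
      (∀ z : F, (x : Matrix ι ι F) ≠ z • (1 : Matrix ι ι F)) →
      ∃ W : Submodule F (ι → F), P W ∧ W.map (Matrix.toLin' (x : Matrix ι ι F)) ≤ W) ↔
    (∀ g : qAut Q, g ∈ commutator (qAut Q) → (∃ z : F, ∀ v, (g ^ r).1 v = z • v) →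
      (∀ z : F, ∃ v, g.1 v ≠ z • v) → ∃ W : Submodule F (ι → F), P W ∧ ∀ w ∈ W, g.1 w ∈ W) := by
  constructor
  · intro h g hg ⟨z, hz⟩ hns
    obtain ⟨g, rfl⟩ := (isoEquiv Q).surjective g
    obtain ⟨W, hW, hWx⟩ := h (g : GL ι F)
      (Subgroup.mem_map_of_mem (Cfsg.isometryGroup F ⇑Q).subtype ((mem_Omega_iff Q).2 hg))
      ⟨z, (scalar_matrix_iff _ z).2 fun v => (isoEquiv_pow_mulVec g r v).symm.trans (hz v)⟩
      fun w hw => by
        obtain ⟨v, hv⟩ := hns w
        exact hv ((isoEquiv_mulVec g v).trans ((scalar_matrix_iff _ w).1 hw v))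
    exact ⟨W, hW, fun w hw => by rw [isoEquiv_mulVec]; exact mulVec_mem_of_map hWx w hw⟩
  · intro h x hx ⟨z, hz⟩ hns
    obtain ⟨g, hg, rfl⟩ := hx
    obtain ⟨W, hW, hWx⟩ := h (isoEquiv Q g) ((mem_Omega_iff Q).1 hg)
      ⟨z, fun v => (isoEquiv_pow_mulVec g r v).trans ((scalar_matrix_iff _ z).1 hz v)⟩
      fun w => by
        by_contra hc
        push Not at hc
        exact hns w ((scalar_matrix_iff _ w).2 fun v => (isoEquiv_mulVec g v).symm.trans (hc v))
    exact ⟨W, hW, map_le_of_mulVec hWx⟩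

/-- Elements of order `r`. -/
theorem bridge_order [hr : Fact r.Prime] (P : Submodule F (ι → F) → Prop) :
    (∀ x : GL ι F, x ∈ Cfsg.Geo.omegaGL ⇑Q → orderOf x = r →
      ∃ W : Submodule F (ι → F), P W ∧ W.map (Matrix.toLin' (x : Matrix ι ι F)) ≤ W) ↔
    (∀ g : qAut Q, g ∈ commutator (qAut Q) → g ^ r = 1 → g ≠ 1 →
      ∃ W : Submodule F (ι → F), P W ∧ ∀ w ∈ W, g.1 w ∈ W) := by
  have hord : ∀ g : Cfsg.isometryGroup F ⇑Q,
      orderOf (g : GL ι F) = r ↔ isoEquiv Q g ^ r = 1 ∧ isoEquiv Q g ≠ 1 := fun g => by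
    rw [Subgroup.orderOf_coe, ← MulEquiv.orderOf_eq (isoEquiv Q) g]
    exact ⟨fun h => ⟨h ▸ pow_orderOf_eq_one _, fun h1 => by rw [h1, orderOf_one] at h; exact hr.out.ne_one h.symm⟩,
      fun h => orderOf_eq_prime h.1 h.2⟩
  constructor
  · intro h g hg hgr hg1
    obtain ⟨g, rfl⟩ := (isoEquiv Q).surjective g
    obtain ⟨W, hW, hWx⟩ := h (g : GL ι F)
      (Subgroup.mem_map_of_mem (Cfsg.isometryGroup F ⇑Q).subtype ((mem_Omega_iff Q).2 hg))
      ((hord g).2 ⟨hgr, hg1⟩)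
    exact ⟨W, hW, fun w hw => by rw [isoEquiv_mulVec]; exact mulVec_mem_of_map hWx w hw⟩
  · intro h x hx ho
    obtain ⟨g, hg, rfl⟩ := hx
    obtain ⟨W, hW, hWx⟩ := h (isoEquiv Q g) ((mem_Omega_iff Q).1 hg) ((hord g).1 ho).1 ((hord g).1 ho).2
    exact ⟨W, hW, map_le_of_mulVec hWx⟩

end Matrices

section OddOrder

variable [Fintype F] {V : Type u} [AddCommGroup V] [Module F V] [FiniteDimensional F V] {Q : QuadraticForm F V} {r : ℕ}

omit [Fintype F] [FiniteDimensional F V] in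
theorem pow_toLinearMap (g : qAut Q) (n : ℕ) :
    ((g ^ n).1.toLinearMap : Module.End F V) = (g.1.toLinearMap : Module.End F V) ^ n := by
  induction n with
  | zero => rfl
  | succ n ih => rw [pow_succ, pow_succ, ← ih]; rfl

omit [Fintype F] [FiniteDimensional F V] in
/-- A scalar isometry is `±1`. -/
theorem scalar_sq [Nontrivial V] (hQ : PolarNondeg Q) {z : F} (h : ∀ v, Q (z • v) = Q v) : z * z = 1 := by
  obtain ⟨v, hv⟩ : ∃ v, Q v ≠ 0 := by
    by_contra hc
    push Not at hc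
    obtain ⟨v, hv⟩ := exists_ne (0 : V)
    exact hv (hQ v fun w => by simp [QuadraticMap.polar, hc])
  have h' := h v
  rw [quad_smul] at h'
  exact mul_right_cancel₀ hv (by rw [h', one_mul])

omit [Fintype F] [FiniteDimensional F V] in
/-- Elements of odd order are commutators. -/
theorem mem_commutator_of_pow [Fintype F] [FiniteDimensional F V] (hQ : PolarNondeg Q)
    (hex : Fintype.card F ≠ 2 ∨ finrank F V ≠ 4) (hodd : Odd r) {g : qAut Q} (hg : g ^ r = 1) :
    g ∈ commutator (qAut Q) := by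
  obtain ⟨k, hk⟩ := hodd
  have h : g = g ^ (k + 1) * g ^ (k + 1) := by
    rw [← pow_add, show k + 1 + (k + 1) = r + 1 by omega, pow_succ, hg, one_mul]
  rw [h]
  exact Spin.sq_mem_commutator Q hQ hex _

/-- Odd prime order modulo scalars. -/
theorem reduce_scalar (hQ : PolarNondeg Q) (hn : 5 ≤ finrank F V) [hr : Fact r.Prime] (hr2 : r ≠ 2)
    (P : Submodule F V → Prop) :
    (∀ g : qAut Q, g ∈ commutator (qAut Q) → (∃ z : F, ∀ v, (g ^ r).1 v = z • v) →
      (∀ z : F, ∃ v, g.1 v ≠ z • v) → ∃ W : Submodule F V, P W ∧ ∀ w ∈ W, g.1 w ∈ W) ↔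
    (∀ f : Module.End F V, Act Q r f → f ≠ 1 → ∃ W : Submodule F V, P W ∧ ∀ w ∈ W, f w ∈ W) := by
  haveI : Nontrivial V := Module.nontrivial_of_finrank_pos (R := F) (by omega)
  have hex : Fintype.card F ≠ 2 ∨ finrank F V ≠ 4 := Or.inr (by omega)
  have hodd : Odd r := hr.out.odd_of_ne_two hr2
  constructor
  · intro h f hf hf1
    obtain ⟨g, hg, hgf⟩ := exists_qAut hr.out hf
    obtain ⟨W, hW, hWi⟩ := h g (mem_commutator_of_pow hQ hex hodd hg) ⟨1, fun v => by rw [hg, one_smul]; rfl⟩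
      fun z => by
        by_contra hc
        push Not at hc
        have hz := scalar_sq hQ (z := z) fun v => by rw [← hc, qAut_map]
        have hzr : ∀ (n : ℕ) v, (g ^ n).1 v = z ^ n • v := fun n => by
          induction n with
          | zero => intro v; rw [pow_zero, pow_zero, one_smul]; rfl
          | succ n ih => intro v; rw [pow_succ, Subgroup.coe_mul, LinearEquiv.mul_apply, hc, map_smul, ih, smul_smul, pow_succ']
        obtain ⟨v, hv⟩ := exists_ne (0 : V)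
        have h1 : z ^ r • v = (1 : F) • v := by rw [← hzr, hg, one_smul]; rfl
        have h2 := smul_left_injective F hv h1
        obtain ⟨k, hk⟩ := hodd
        rw [hk, pow_succ, pow_mul, sq, hz, one_pow, one_mul] at h2
        exact hf1 (LinearMap.ext fun w => by rw [← hgf, hc, h2, one_smul]; rfl)
    exact ⟨W, hW, fun w hw => by rw [← hgf]; exact hWi w hw⟩
  · intro h g hg ⟨z, hz⟩ hns
    have hz2 := scalar_sq hQ (z := z) fun v => by rw [← hz, qAut_map]
    obtain ⟨g', hg'⟩ : ∃ g' : qAut Q, g' = g ^ (r + 1) := ⟨_, rfl⟩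
    have hg'v : ∀ v, g'.1 v = z • g.1 v := fun v => by
      rw [hg', pow_succ, Subgroup.coe_mul, LinearEquiv.mul_apply, hz]
    have hg'r : g' ^ r = 1 := by
      obtain ⟨k, hk⟩ := hodd
      rw [hg', ← pow_mul, show (r + 1) * r = r * (2 * (k + 1)) by rw [hk]; ring, pow_mul, pow_mul]
      have h2 : (g ^ r) ^ 2 = 1 := qAut_ext fun v => by
        rw [sq, Subgroup.coe_mul, LinearEquiv.mul_apply, hz, hz, smul_smul, hz2, one_smul]; rfl
      rw [h2, one_pow]
    obtain ⟨W, hW, hWi⟩ := h (g'.1.toLinearMap : Module.End F V)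
      ⟨by rw [← pow_toLinearMap, hg'r]; rfl, fun v => qAut_map g' v⟩ fun h1 => by
        obtain ⟨v, hv⟩ := hns z
        refine hv ?_
        have h2 : z • g.1 v = v := (hg'v v).symm.trans (congrArg (fun f : Module.End F V => f v) h1)
        calc g.1 v = (z * z) • g.1 v := by rw [hz2, one_smul]
          _ = z • v := by rw [mul_smul, h2]
    refine ⟨W, hW, fun w hw => ?_⟩
    have h1 : z • g.1 w ∈ W := by rw [← hg'v]; exact hWi w hw
    have h2 := W.smul_mem z h1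
    rwa [smul_smul, hz2, one_smul] at h2

/-- Odd prime order. -/
theorem reduce_order (hQ : PolarNondeg Q) (hn : 5 ≤ finrank F V) [hr : Fact r.Prime] (hr2 : r ≠ 2)
    (P : Submodule F V → Prop) :
    (∀ g : qAut Q, g ∈ commutator (qAut Q) → g ^ r = 1 → g ≠ 1 →
      ∃ W : Submodule F V, P W ∧ ∀ w ∈ W, g.1 w ∈ W) ↔
    (∀ f : Module.End F V, Act Q r f → f ≠ 1 → ∃ W : Submodule F V, P W ∧ ∀ w ∈ W, f w ∈ W) := by
  constructor
  · intro h f hf hf1
    obtain ⟨g, hg, hgf⟩ := exists_qAut hr.out hf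
    obtain ⟨W, hW, hWi⟩ := h g (mem_commutator_of_pow hQ (Or.inr (by omega)) (hr.out.odd_of_ne_two hr2) hg) hg
      fun h1 => hf1 (LinearMap.ext fun v => by rw [← hgf, h1]; rfl)
    exact ⟨W, hW, fun w hw => by rw [← hgf]; exact hWi w hw⟩
  · intro h g _ hgr hg1
    obtain ⟨W, hW, hWi⟩ := h (g.1.toLinearMap : Module.End F V)
      ⟨by rw [← pow_toLinearMap, hgr]; rfl, fun v => qAut_map g v⟩
      fun h1 => hg1 (qAut_ext fun v => congrArg (fun f : Module.End F V => f v) h1)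
    exact ⟨W, hW, hWi⟩

end OddOrder

section Vocabulary

variable [Fintype F] {ι : Type} [Fintype ι] [DecidableEq ι] {Q : QuadraticForm F (ι → F)}

omit [Fintype F] [Fintype ι] [DecidableEq ι] in
theorem nd_forall_iff {W : Submodule F (ι → F)} :
    (∀ u ∈ W, u ≠ 0 → ∃ v ∈ W, QuadraticMap.polar Q u v ≠ 0) ↔ PolarNondeg (res Q W) := by
  constructor
  · intro h x hx
    by_contra hx0
    obtain ⟨v, hv, hv0⟩ := h x x.2 fun e => hx0 (Subtype.ext e)
    exact hv0 (by rw [← polar_res Q W x ⟨v, hv⟩]; exact hx _)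
  · intro h u hu hu0
    by_contra hc
    push Not at hc
    exact hu0 (congrArg Subtype.val (h ⟨u, hu⟩ fun y => by rw [polar_res]; exact hc y y.2))

omit [Fintype F] [Fintype ι] [DecidableEq ι] in
theorem isNondegenerateOn_iff {W : Submodule F (ι → F)} :
    Cfsg.Geo.IsNondegenerateOn (QuadraticMap.polar Q) W ↔ PolarNondeg (res Q W) := by
  rw [← nd_forall_iff]
  exact ⟨fun h u hu hu0 => (h u hu hu0).2, fun h u hu hu0 => by
    obtain ⟨v, hv, hv0⟩ := h u hu hu0
    exact ⟨⟨v, hv, by rwa [QuadraticMap.polar_comm]⟩, v, hv, hv0⟩⟩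

omit [DecidableEq ι] in
theorem plus_iff {W : Submodule F (ι → F)} (hW : PolarNondeg (res Q W)) (he : Even (finrank F W)) :
    (∃ U : Submodule F (ι → F), U ≤ W ∧ (∀ u ∈ U, Q u = 0) ∧ 2 * finrank F U = finrank F W) ↔
      Sg (res Q W) 1 := by
  rw [sg_one_iff hW he]
  constructor
  · rintro ⟨U, hU, hUs, hUd⟩
    refine ⟨U.comap W.subtype, fun u hu => hUs _ hu, ?_⟩
    rwa [(Submodule.comapSubtypeEquivOfLe hU).finrank_eq]
  · rintro ⟨U, hUs, hUd⟩
    refine ⟨U.map W.subtype, Submodule.map_subtype_le W U, ?_, ?_⟩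
    · rintro _ ⟨u, hu, rfl⟩
      exact hUs u hu
    · rwa [← (Submodule.equivMapOfInjective _ W.injective_subtype U).finrank_eq]

omit [DecidableEq ι] in
theorem hyperbolic_iff {W : Submodule F (ι → F)} {m : ℕ} (hm : Even m) :
    (finrank F W = m ∧ Cfsg.Geo.IsNondegenerateOn (QuadraticMap.polar Q) W ∧ Cfsg.Geo.IsPlusTypeOn ⇑Q W) ↔
      (finrank F W = m ∧ PolarNondeg (res Q W) ∧ Sg (res Q W) 1) := by
  rw [isNondegenerateOn_iff]
  exact and_congr_right fun hd => and_congr_right fun hW => plus_iff hW (by rwa [hd])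

omit [DecidableEq ι] in
theorem elliptic_iff {W : Submodule F (ι → F)} {m : ℕ} (hm : Even m) :
    (finrank F W = m ∧ Cfsg.Geo.IsNondegenerateOn (QuadraticMap.polar Q) W ∧ ¬ Cfsg.Geo.IsPlusTypeOn ⇑Q W) ↔
      (finrank F W = m ∧ PolarNondeg (res Q W) ∧ Sg (res Q W) (-1)) := by
  rw [isNondegenerateOn_iff]
  refine and_congr_right fun hd => and_congr_right fun hW => ?_
  rw [show Cfsg.Geo.IsPlusTypeOn ⇑Q W ↔ _ from plus_iff hW (by rwa [hd])]
  obtain ⟨ε, hε, hs⟩ := sg_cases hW (by rwa [hd])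
  refine ⟨fun h => ?_, fun h h' => by simpa using sg_unique h h'⟩
  rcases hε with rfl | rfl
  · exact absurd hs h
  · exact hs

omit [Fintype F] [Fintype ι] [DecidableEq ι] in
theorem areIsometric_iff {W W₀ : Submodule F (ι → F)} :
    Cfsg.Geo.AreIsometricFor ⇑Q W W₀ ↔ Isom (res Q W₀) (res Q W) :=
  ⟨fun ⟨e, he⟩ => (show Isom (res Q W) (res Q W₀) from ⟨e, he⟩).symm', fun h => by
    obtain ⟨e, he⟩ := h.symm'
    exact ⟨e, he⟩⟩

end Vocabulary

section Spaces

variable [Fintype F]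

theorem finrank_qOdd (d : ℕ) : finrank F (Unit ⊕ (Fin d ⊕ Fin d) → F) = 2 * d + 1 := by simp; omega

theorem finrank_qPlus (d : ℕ) : finrank F (Fin d ⊕ Fin d → F) = 2 * d := by simp; omega

theorem finrank_qMinus {d : ℕ} (hd : 1 ≤ d) : finrank F ((Fin (d - 1) ⊕ Fin (d - 1)) ⊕ Fin 2 → F) = 2 * d := by
  simp; omega

theorem polarNondeg_qOdd' (h2 : (2 : F) ≠ 0) (d : ℕ) : PolarNondeg (qOdd d F) :=
  polarNondeg_congr (oddLin d F) (qOdd_oddLin d) (polarNondeg_qExt (polarNondeg_qLine h2) d)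

theorem sg_qMinus {d : ℕ} (hd : 1 ≤ d) {a b : F} (hab : BinAniso a b) : Sg (qExt (d - 1) (qBin a b)) (-1) :=
  ⟨d, finrank_qMinus hd, by
    have := QuadSign.hasSign_qExt_qBin hab (d - 1)
    rwa [Nat.sub_add_cancel hd] at this⟩

theorem two_ne_zero_of_odd {q : ℕ} (hq : Fintype.card F = q) (hodd : Odd q) : (2 : F) ≠ 0 := fun h => by
  haveI : CharP F 2 := CharTwo.of_one_ne_zero_of_two_eq_zero one_ne_zero h
  have h1 := FiniteField.even_card_of_char_two (F := F) (ringChar.eq F 2)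
  rw [hq] at h1
  exact Nat.not_even_iff_odd.2 hodd (Nat.even_iff.2 h1)

/-- The data for an odd prime prime to the characteristic. -/
theorem exists_ctx {p q r i : ℕ} [Fact p.Prime] [CharP F p] [hr : Fact r.Prime] (hq : Fintype.card F = q)
    (hr2 : r ≠ 2) (hrp : r ≠ p) (hi : i = orderOf (q : ZMod r)) :
    ∃ C : Ctx F r, C.i = i ∧ C.t = (r - 1) / i ∧ ¬ r ∣ q := by
  have hrq : ¬ r ∣ q := by
    obtain ⟨k, hp, hk⟩ := FiniteField.card F p
    rw [← hq, hk]
    exact fun h => hrp ((Nat.prime_dvd_prime_iff_eq hr.out hp).1 (hr.out.dvd_of_dvd_pow h))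
  have hdvd : i ∣ r - 1 := by
    rw [hi]
    exact orderOf_dvd_of_pow_eq_one (ZMod.pow_card_sub_one_eq_one (by rwa [ne_eq, ZMod.natCast_eq_zero_iff]))
  obtain ⟨hi0, P, δ, δ', hD, hδ, hδ0, hδ', -, hfix⟩ :=
    SpOCount.exists_setup (r := r) (t := (r - 1) / i) hq hr.out hr2 hrp hi (Nat.div_mul_cancel hdvd)
  exact ⟨⟨(r - 1) / i, i, P, δ, δ', hi0, by rw [hq]; exact hi.symm, hD, hδ, hδ0, hδ', hfix,
    Nat.div_mul_cancel hdvd⟩, rfl, rfl, hrq⟩

end Spaces

end CfsgLib.Classical22.OrthType
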