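/-
When elements of odd prime order prime to the characteristic all fix a subspace of one type, given that `r` divides the
number of such subspaces.
-/
import Cfsg.Agent.Lib.Classical22.OrthTypeBridge
import Cfsg.Agent.Lib.Classical22.OrthTypeArith

set_option autoImplicit false

namespace CfsgLib.Classical22.OrthType

open CfsgLib.Classical CfsgLib.Classical.QuadSign Module

universe u

variable {F : Type u} [Field F] [Fintype F] {V : Type u} [AddCommGroup V] [Module F V] [FiniteDimensional F V]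
  {Q : QuadraticForm F V} {r : ℕ} {C : Ctx F r}

/-- A divisible number of subspaces and a fixed summand. -/
theorem window_of_count [hr : Fact r.Prime] (hrq : ¬ r ∣ Fintype.card F) (hQ : PolarNondeg Q)
    (h2 : Odd (finrank F V) → (2 : F) ≠ 0) {ε : ℤ} (hε : Even (finrank F V) → Sg Q ε) (hεpm : ε = 1 ∨ ε = -1)
    {X U₀ : Submodule F V} (hX : PolarNondeg (res Q X)) (hU : U₀ ≤ X) (hpos : 0 < finrank F X)
    (hlt : finrank F X < finrank F V)
    (hd : r ∣ Nat.card {U : Submodule F V // Isom (res Q U₀) (res Q U)})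
    (h2' : Odd (finrank F V - finrank F X) → (2 : F) ≠ 0) {ε' : ℤ} (hε'pm : ε' = 1 ∨ ε' = -1)
    (hε' : Even (finrank F V - finrank F X) → Sg (res Q (perp Q X)) ε') :
    cap C.i (finrank F V - finrank F X) ε' < cap C.i (finrank F V) ε := by
  obtain ⟨-, hpn, -⟩ := split_res hQ hX
  have hd' := finrank_perp hQ X
  have hpd : finrank F (perp Q X) = finrank F V - finrank F X := by omega
  obtain ⟨e, he⟩ := card_qAut_xf hQ h2 hε
  obtain ⟨e', he'⟩ := card_qAut_xf hpn (by rwa [hpd]) (ε := ε') (by rwa [hpd])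
  rw [hpd] at he'
  exact cap_lt_of_dvd C.data.ne_two hrq Fintype.one_lt_card C.ord.symm C.pos (by omega) (by omega) hεpm hε'pm he he'
    hd (count_dvd hQ hX hU)

/-- Non-degenerate subspaces of even dimension. -/
theorem nd_window [Fact r.Prime] (hrq : ¬ r ∣ Fintype.card F) (hQ : PolarNondeg Q)
    (h2 : Odd (finrank F V) → (2 : F) ≠ 0) {ε : ℤ} (hε : Even (finrank F V) → Sg Q ε) (hεpm : ε = 1 ∨ ε = -1)
    {m : ℕ} (hm : Even m) (hm0 : 0 < m) (hmn : m < finrank F V) {εW : ℤ} (hεW : εW = 1 ∨ εW = -1)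
    (hd : r ∣ Nat.card {U : Submodule F V // finrank F U = m ∧ PolarNondeg (res Q U) ∧ Sg (res Q U) εW}) :
    cap C.i (finrank F V - m) (εW * ε) < cap C.i (finrank F V) ε := by
  obtain ⟨k, hk⟩ := hm
  obtain ⟨S, hS, hSs⟩ := exists_space_even (F := F) k hεW fun h => by omega
  obtain ⟨U₀, hi, hUn⟩ := exists_sub hQ S.nondeg (by
    rcases Nat.even_or_odd (finrank F V) with h | h
    · exact Or.inr ⟨h, ⟨k, by omega⟩⟩
    · exact Or.inl (h2 h)) (by omega)
  have hUd : finrank F U₀ = m := by rw [← hi.finrank_eq]; omega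
  have hUs : Sg (res Q U₀) εW := hSs.congr hi
  have hset : ∀ U : Submodule F V, (finrank F U = m ∧ PolarNondeg (res Q U) ∧ Sg (res Q U) εW) ↔
      Isom (res Q U₀) (res Q U) :=
    fun U => ⟨fun ⟨h1, h2, h3⟩ => hUs.isom h3 hUn h2 (hUd.trans h1.symm), fun h =>
      ⟨by rw [← h.finrank_eq, hUd], polarNondeg_of_isom h hUn, hUs.congr h⟩⟩
  rw [Nat.card_congr (Equiv.subtypeEquivRight hset)] at hd
  have h := window_of_count (C := C) hrq hQ h2 hε hεpm hUn le_rfl (by omega) (by omega) hd
    (fun h => h2 (by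
      rw [hUd] at h
      have h' := h.add_even (show Even m from ⟨k, hk⟩)
      rwa [Nat.sub_add_cancel hmn.le] at h'))
    (ε' := εW * ε) (by rcases hεW with rfl | rfl <;> rcases hεpm with rfl | rfl <;> simp)
    (fun he => by
      obtain ⟨-, hpn, hsum⟩ := split_res hQ hUn
      have hd' := finrank_perp hQ U₀
      obtain ⟨η, hη, hηs⟩ := sg_cases hpn (by rwa [show finrank F (perp Q U₀) = finrank F V - finrank F U₀ by omega])
      have hev : Even (finrank F V) := by
        rw [hUd] at he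
        have := he.add (show Even m from ⟨k, hk⟩)
        rwa [Nat.sub_add_cancel hmn.le] at this
      have h1 := sg_unique ((hUs.prod hηs).congr hsum) (hε hev)
      have : η = εW * ε := by
        rw [← h1]
        rcases hεW with rfl | rfl <;> simp
      rwa [this] at hηs)
  rwa [hUd] at h

/-- Non-degenerate subspaces in one odd-dimensional class. -/
theorem nd_odd_window [Fact r.Prime] (hrq : ¬ r ∣ Fintype.card F) (hQ : PolarNondeg Q) (h2 : (2 : F) ≠ 0)
    (hn : Even (finrank F V)) {ε : ℤ} (hε : Sg Q ε) {U₀ : Submodule F V} (hUn : PolarNondeg (res Q U₀))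
    (hm : Odd (finrank F U₀)) (hmn : finrank F U₀ < finrank F V)
    (hd : r ∣ Nat.card {U : Submodule F V // Isom (res Q U₀) (res Q U)}) :
    cap C.i (finrank F V - finrank F U₀) 1 < cap C.i (finrank F V) ε :=
  window_of_count (C := C) hrq hQ (fun _ => h2) (fun _ => hε) (hε.cases hQ) hUn le_rfl hm.pos hmn hd (fun _ => h2)
    (Or.inl rfl) fun he => absurd he (Nat.not_even_iff_odd.2 (Nat.Even.sub_odd hmn.le hn hm))

/-- Totally singular subspaces occur below half the dimension. -/
theorem exists_ts (hQ : PolarNondeg Q) (h2 : Odd (finrank F V) → (2 : F) ≠ 0) {m : ℕ} (hmn : 2 * m < finrank F V) :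
    ∃ X U₀ : Submodule F V, PolarNondeg (res Q X) ∧ U₀ ≤ X ∧ finrank F X = 2 * m ∧ Sg (res Q X) 1 ∧
      finrank F U₀ = m ∧ ∀ u ∈ U₀, Q u = 0 := by
  obtain ⟨S, hS, hSs⟩ := exists_space_even (F := F) m (ε := 1) (Or.inl rfl) fun _ => rfl
  obtain ⟨X, hi, hXn⟩ := exists_sub hQ S.nondeg (by
    rcases Nat.even_or_odd (finrank F V) with h | h
    · exact Or.inr ⟨h, by rw [hS]; exact even_two_mul m⟩
    · exact Or.inl (h2 h)) (by omega)
  have hXd : finrank F X = 2 * m := by rw [← hi.finrank_eq]; omega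
  obtain ⟨U, hU, hUd⟩ := (sg_one_iff hXn (by rw [hXd]; exact even_two_mul m)).1 (hSs.congr hi)
  refine ⟨X, U.map X.subtype, hXn, Submodule.map_subtype_le X U, hXd, hSs.congr hi, ?_, ?_⟩
  · rw [← (Submodule.equivMapOfInjective _ X.injective_subtype U).finrank_eq]; omega
  · rintro _ ⟨u, hu, rfl⟩
    exact hU u hu

/-- Totally singular subspaces. -/
theorem ts_window [Fact r.Prime] (hrq : ¬ r ∣ Fintype.card F) (hQ : PolarNondeg Q)
    (h2 : Odd (finrank F V) → (2 : F) ≠ 0) {ε : ℤ} (hε : Even (finrank F V) → Sg Q ε) (hεpm : ε = 1 ∨ ε = -1)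
    {m : ℕ} (hm0 : 0 < m) (hmn : 2 * m < finrank F V)
    (hd : r ∣ Nat.card {U : Submodule F V // finrank F U = m ∧ ∀ u ∈ U, Q u = 0}) :
    cap C.i (finrank F V - 2 * m) ε < cap C.i (finrank F V) ε := by
  obtain ⟨X, U₀, hXn, hUX, hXd, hXs, hUd, hUs⟩ := exists_ts hQ h2 hmn
  have hset : ∀ U : Submodule F V, (finrank F U = m ∧ ∀ u ∈ U, Q u = 0) ↔ Isom (res Q U₀) (res Q U) := fun U => by
    rw [isom_ts_iff hUs, hUd]
  rw [Nat.card_congr (Equiv.subtypeEquivRight hset)] at hd
  have h := window_of_count (C := C) hrq hQ h2 hε hεpm hXn hUX (by omega) (by omega) hd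
    (fun h => h2 (by
      rw [hXd] at h
      have h' := h.add_even (even_two_mul m)
      rwa [Nat.sub_add_cancel hmn.le] at h'))
    (ε' := ε) hεpm (fun he => by
      obtain ⟨-, hpn, hsum⟩ := split_res hQ hXn
      have hd' := finrank_perp hQ X
      obtain ⟨η, hη, hηs⟩ := sg_cases hpn (by rwa [show finrank F (perp Q X) = finrank F V - finrank F X by omega])
      have hev : Even (finrank F V) := by
        rw [hXd] at he
        have := he.add (even_two_mul m)
        rwa [Nat.sub_add_cancel hmn.le] at this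
      have h1 := sg_unique ((hXs.prod hηs).congr hsum) (hε hev)
      rw [one_mul] at h1
      rwa [← h1])
  rwa [hXd] at h

/-- The two criteria for totally singular subspaces together. -/
theorem ts_all {Q : QuadraticForm F V} (hQ : PolarNondeg Q) (h2 : Odd (finrank F V) → (2 : F) ≠ 0) {ε : ℤ}
    (hε : Even (finrank F V) → Sg Q ε) {m : ℕ} (hmn : 2 * m < finrank F V) :
    (∀ f : Module.End F V, Act Q r f → f ≠ 1 →
      ∃ U : Submodule F V, (finrank F U = m ∧ ∀ u ∈ U, Q u = 0) ∧ ∀ u ∈ U, f u ∈ U) ↔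
    ((Odd C.i ∧ cap C.i (finrank F V) ε ≤ m / C.i + cap C.i (finrank F V - 2 * m) ε) ∨
     (Even C.i ∧ cap C.i (finrank F V) ε ≤ 2 * (m / C.i) + cap C.i (finrank F V - 2 * m) ε ∧
       min C.t (cap C.i (finrank F V) ε) ≤ cap C.i (finrank F V - 2 * m) ε)) := by
  simp only [and_comm (b := ∀ u ∈ _, _ ∈ _)]
  rcases Nat.even_or_odd C.i with hi | hi
  · rw [ts_all_even (C := C) hQ h2 hε hmn hi]
    simp only [hi, Nat.not_odd_iff_even.2 hi, false_and, false_or, true_and]
  · rw [ts_all_odd (C := C) hQ h2 hε hmn hi]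
    simp only [hi, Nat.not_even_iff_odd.2 hi, false_and, or_false, true_and]

/-- Non-degenerate subspaces of even dimension, reordered. -/
theorem nd_all {Q : QuadraticForm F V} (hQ : PolarNondeg Q) (h2 : Odd (finrank F V) → (2 : F) ≠ 0) {ε : ℤ}
    (hε : Even (finrank F V) → Sg Q ε) {m : ℕ} (hm : Even m) (hm0 : 0 < m) (hmn : m < finrank F V) {εW : ℤ}
    (hεW : εW = 1 ∨ εW = -1) :
    (∀ f : Module.End F V, Act Q r f → f ≠ 1 →
      ∃ U : Submodule F V, (finrank F U = m ∧ PolarNondeg (res Q U) ∧ Sg (res Q U) εW) ∧ ∀ u ∈ U, f u ∈ U) ↔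
    cap C.i (finrank F V) ε ≤ cap C.i m εW + cap C.i (finrank F V - m) (εW * ε) := by
  rw [← nd_even_all (C := C) hQ h2 hε hm hm0 hmn hεW]
  exact forall_congr' fun f => imp_congr_right fun _ => imp_congr_right fun _ => exists_congr fun U => and_comm

/-- An odd-dimensional class, reordered. -/
theorem parab_all {Q : QuadraticForm F V} (hQ : PolarNondeg Q) (h2 : (2 : F) ≠ 0) (hn : Even (finrank F V)) {ε : ℤ}
    (hε : Sg Q ε) {U₀ : Submodule F V} (hU₀ : PolarNondeg (res Q U₀)) (hm : Odd (finrank F U₀))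
    (hmn : finrank F U₀ < finrank F V) :
    (∀ f : Module.End F V, Act Q r f → f ≠ 1 →
      ∃ U : Submodule F V, Isom (res Q U₀) (res Q U) ∧ ∀ u ∈ U, f u ∈ U) ↔
    cap C.i (finrank F V) ε ≤ cap C.i (finrank F U₀) 1 + cap C.i (finrank F V - finrank F U₀) 1 := by
  rw [← nd_odd_all (C := C) hQ h2 hn hε hU₀ hm hmn 1 1]
  exact forall_congr' fun f => imp_congr_right fun _ => imp_congr_right fun _ => exists_congr fun U => and_comm

end CfsgLib.Classical22.OrthType
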