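/-
Subspaces fixed by involutions and by square roots of `-1` in orthogonal groups, odd characteristic.
-/
import Cfsg.Agent.Lib.Classical22.OrthTypeReflections
import Cfsg.Agent.Lib.Classical22.OrthTypeSemisimple

set_option autoImplicit false

namespace CfsgLib.Classical22.OrthType

open CfsgLib.Classical Module

universe u

variable {F : Type u} [Field F]
variable {V : Type u} [AddCommGroup V] [Module F V] [FiniteDimensional F V] {Q : QuadraticForm F V}

omit [FiniteDimensional F V] in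
/-- Subspaces of a pair of orthogonal complements add up. -/
theorem isom_sup {E U₁ U₂ : Submodule F V} (hd : Disjoint E (perp Q E)) (h₁ : U₁ ≤ E) (h₂ : U₂ ≤ perp Q E) :
    Isom ((res Q U₁).prod (res Q U₂)) (res Q (U₁ ⊔ U₂)) := by
  refine ⟨LinearEquiv.ofBijective ((Submodule.inclusion (le_sup_left (b := U₂))).coprod
    (Submodule.inclusion (le_sup_right (a := U₁)))) ⟨?_, ?_⟩, fun x => ?_⟩
  · refine (injective_iff_map_eq_zero _).2 fun x hx => ?_
    have h : (x.1 : V) + (x.2 : V) = 0 := congrArg Subtype.val hx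
    have h' : (x.1 : V) = 0 := by
      refine Submodule.disjoint_def.1 hd _ (h₁ x.1.2) ?_
      rw [eq_neg_of_add_eq_zero_left h]
      exact Submodule.neg_mem _ (h₂ x.2.2)
    refine Prod.ext (Subtype.ext h') (Subtype.ext ?_)
    rwa [h', zero_add] at h
  · intro y
    obtain ⟨a, ha, b, hb, hab⟩ := Submodule.mem_sup.1 y.2
    exact ⟨(⟨a, ha⟩, ⟨b, hb⟩), Subtype.ext hab⟩
  · show Q ((x.1 : V) + (x.2 : V)) = Q (x.1 : V) + Q (x.2 : V)
    have h := mem_perp.1 (h₂ x.2.2) _ (h₁ x.1.2)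
    simp only [QuadraticMap.polar] at h
    linear_combination h

omit [FiniteDimensional F V] in
/-- A space inside a subspace. -/
theorem isom_map_subtype (E : Submodule F V) (U : Submodule F E) :
    Isom (res (res Q E) U) (res Q (U.map E.subtype)) :=
  ⟨Submodule.equivMapOfInjective E.subtype E.injective_subtype U, fun _ => rfl⟩

variable [Fintype F]

/-- Subspaces of a given isometry type inside a subspace. -/
theorem exists_sub_in {E : Submodule F V} (hE : PolarNondeg (res Q E)) {W : Type u} [AddCommGroup W] [Module F W]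
    [FiniteDimensional F W] {R : QuadraticForm F W} (hR : PolarNondeg R)
    (h2 : (2 : F) ≠ 0 ∨ Even (finrank F E) ∧ Even (finrank F W)) (hlt : finrank F W < finrank F E) :
    ∃ U, U ≤ E ∧ Isom R (res Q U) := by
  obtain ⟨U, hU, -⟩ := exists_sub hE hR h2 hlt
  exact ⟨U.map E.subtype, Submodule.map_subtype_le E U, hU.trans' (isom_map_subtype E U)⟩

/-- Totally singular subspaces inside a subspace. -/
theorem exists_ts_le {E : Submodule F V} (hE : PolarNondeg (res Q E)) (h2 : (2 : F) ≠ 0) {a : ℕ}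
    (ha : 2 * a < finrank F E ∨ (2 * a = finrank F E ∧ Sg (res Q E) 1)) :
    ∃ U, U ≤ E ∧ finrank F U = a ∧ ∀ u ∈ U, Q u = 0 := by
  obtain ⟨U, hUd, hU⟩ : ∃ U : Submodule F E, finrank F U = a ∧ ∀ u ∈ U, res Q E u = 0 := by
    rcases ha with ha | ⟨ha, hs⟩
    · obtain ⟨X, U, -, -, -, -, hUd, hU⟩ := exists_ts hE (fun _ => h2) ha
      exact ⟨U, hUd, hU⟩
    · obtain ⟨U, hU, hUd⟩ := (sg_one_iff hE hs.even).1 hs
      exact ⟨U, by omega, hU⟩
  refine ⟨U.map E.subtype, Submodule.map_subtype_le E U, ?_, ?_⟩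
  · rw [← (Submodule.equivMapOfInjective _ E.injective_subtype U).finrank_eq, hUd]
  · rintro _ ⟨u, hu, rfl⟩
    exact hU u hu

section Invol

variable {g : qAut Q}

/-- An involution in the commutator subgroup: its eigenspaces. -/
theorem invol_data (h2 : (2 : F) ≠ 0) (hQ : PolarNondeg Q) (hex : Fintype.card F ≠ 2 ∨ finrank F V ≠ 4)
    (hg : g ∈ commutator (qAut Q)) (hgg : ∀ v, g.1 (g.1 v) = v) :
    ∃ (E : Submodule F V) (s : ℕ), PolarNondeg (res Q E) ∧ (∀ v ∈ E, g.1 v = -v) ∧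
      (∀ v ∈ perp Q E, g.1 v = v) ∧ finrank F E = 2 * s ∧ Sg (res Q E) (eta F ^ s) := by
  obtain ⟨E, hE⟩ : ∃ E : Submodule F V, ∀ v, v ∈ E ↔ g.1 v = -v :=
    ⟨LinearMap.ker ((g.1 : V →ₗ[F] V) + LinearMap.id), fun v => by simp [eq_neg_iff_add_eq_zero]⟩
  have hgE : ∀ v ∈ E, g.1 v = -v := fun v hv => (hE v).1 hv
  have hfix : ∀ v, g.1 v = v → v ∈ perp Q E := fun v hv => mem_perp.2 fun u hu => by
    have h := qAut_polar g u v
    rw [hgE u hu, hv, QuadraticMap.polar_neg_left] at h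
    have h' : (2 : F) * QuadraticMap.polar Q u v = 0 := by linear_combination -h
    exact (mul_eq_zero.1 h').resolve_left h2
  have hdec : ∀ v : V, ∃ a b, a ∈ E ∧ g.1 b = b ∧ v = a + b := fun v =>
    ⟨(2 : F)⁻¹ • (v - g.1 v), (2 : F)⁻¹ • (v + g.1 v), (hE _).2 (by rw [map_smul, map_sub, hgg, ← smul_neg, neg_sub]),
      by rw [map_smul, map_add, hgg, add_comm], by
        rw [← smul_add, show v - g.1 v + (v + g.1 v) = (2 : F) • v by rw [two_smul]; abel, smul_smul,
          inv_mul_cancel₀ h2, one_smul]⟩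
  have hnd : PolarNondeg (res Q E) := fun x hx => Subtype.ext (hQ _ fun w => by
    obtain ⟨a, b, ha, hb, rfl⟩ := hdec w
    have h1 := hx ⟨a, ha⟩
    rw [polar_res] at h1
    rw [QuadraticMap.polar_add_right, h1, mem_perp.1 (hfix b hb) x x.2, add_zero])
  obtain ⟨hc, -, -⟩ := split_res hQ hnd
  have hgF : ∀ v ∈ perp Q E, g.1 v = v := fun v hv => by
    obtain ⟨a, b, ha, hb, rfl⟩ := hdec v
    have ha0 : a = 0 := Submodule.disjoint_def.1 hc.disjoint a ha
      (by simpa using (perp Q E).sub_mem hv (hfix b hb))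
    rw [ha0, zero_add, hb]
  have hdet : (-1 : F) ^ finrank F E = 1 := by
    have h1 : LinearEquiv.det g.1 = 1 := by
      have hker : commutator (qAut Q) ≤ (LinearEquiv.det.comp (qAut Q).subtype).ker :=
        Abelianization.commutator_subset_ker _
      exact hker hg
    have h2' : LinearMap.det (g.1 : V →ₗ[F] V) = 1 := by
      rw [← LinearEquiv.coe_det, h1, Units.val_one]
    obtain ⟨e, he⟩ : ∃ e : (E × perp Q E) ≃ₗ[F] V, ∀ x, e x = (x.1 : V) + (x.2 : V) :=
      ⟨E.prodEquivOfIsCompl _ hc, fun x => by simp⟩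
    have hconj : (g.1 : V →ₗ[F] V) = e.conj ((-LinearMap.id).prodMap LinearMap.id) := LinearMap.ext fun v => by
      obtain ⟨x, rfl⟩ := e.surjective v
      show g.1 (e x) = e ((LinearMap.prodMap (-LinearMap.id) LinearMap.id) (e.symm (e x)))
      rw [LinearEquiv.symm_apply_apply, he, he, map_add, hgE _ x.1.2, hgF _ x.2.2]
      simp
    rw [hconj, LinearEquiv.conj_apply, LinearMap.comp_assoc, LinearMap.det_conj, LinearMap.det_prodMap,
      show (-LinearMap.id : E →ₗ[F] E) = (-1 : F) • LinearMap.id by ext x; simp, LinearMap.det_smul,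
      LinearMap.det_id, LinearMap.det_id, mul_one, mul_one] at h2'
    exact h2'
  obtain ⟨s, hs⟩ : ∃ s, finrank F E = 2 * s := by
    rcases Nat.even_or_odd (finrank F E) with ⟨s, hs⟩ | ho
    · exact ⟨s, by omega⟩
    · rw [ho.neg_one_pow] at hdet
      exact absurd (by linear_combination -hdet : (2 : F) = 0) h2
  exact ⟨E, s, hnd, hgE, hgF, hs, (invol_mem_iff h2 hQ hex g hnd hgE hgF hs).1 hg⟩

omit [FiniteDimensional F V] [Fintype F] in
theorem inv_sup_eigen {E U₁ U₂ : Submodule F V} (hgE : ∀ v ∈ E, g.1 v = -v) (hgF : ∀ v ∈ perp Q E, g.1 v = v)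
    (h₁ : U₁ ≤ E) (h₂ : U₂ ≤ perp Q E) : ∀ u ∈ U₁ ⊔ U₂, g.1 u ∈ U₁ ⊔ U₂ := by
  intro u hu
  obtain ⟨a, ha, b, hb, rfl⟩ := Submodule.mem_sup.1 hu
  rw [map_add, hgE a (h₁ ha), hgF b (h₂ hb)]
  exact Submodule.add_mem_sup (U₁.neg_mem ha) hb

/-- An involution fixes subspaces of both signs. -/
theorem invol_nd_even (h2 : (2 : F) ≠ 0) (hQ : PolarNondeg Q) {E : Submodule F V} (hE : PolarNondeg (res Q E))
    (hgE : ∀ v ∈ E, g.1 v = -v) (hgF : ∀ v ∈ perp Q E, g.1 v = v) {s : ℕ} (hs : finrank F E = 2 * s) (hs0 : 0 < s)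
    (hsn : 2 * s < finrank F V) {m : ℕ} (hm : Even m) (hm2 : 2 ≤ m) (hmn : m < finrank F V) {εW : ℤ}
    (hεW : εW = 1 ∨ εW = -1) :
    ∃ U : Submodule F V, (∀ u ∈ U, g.1 u ∈ U) ∧ finrank F U = m ∧ PolarNondeg (res Q U) ∧ Sg (res Q U) εW := by
  obtain ⟨hc, hFn, -⟩ := split_res hQ hE
  have hFd := finrank_perp hQ E
  obtain ⟨l, hl⟩ := hm
  -- an odd dimension for the part in `perp Q E`
  obtain ⟨b, hbo, hbm, hbF, ham⟩ : ∃ b, Odd b ∧ b < m ∧ b ≤ finrank F (perp Q E) ∧ m - b < 2 * s := by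
    obtain ⟨f, hf⟩ : ∃ f, f = finrank F (perp Q E) := ⟨_, rfl⟩
    rw [← hf] at hFd ⊢
    obtain ⟨φ, rfl | rfl⟩ := Nat.even_or_odd' f
    · by_cases h : m ≤ 2 * φ
      · exact ⟨m - 1, ⟨l - 1, by omega⟩, by omega, by omega, by omega⟩
      · exact ⟨2 * φ - 1, ⟨φ - 1, by omega⟩, by omega, by omega, by omega⟩
    · by_cases h : m ≤ 2 * φ + 1
      · exact ⟨m - 1, ⟨l - 1, by omega⟩, by omega, by omega, by omega⟩
      · exact ⟨2 * φ + 1, odd_two_mul_add_one φ, by omega, le_rfl, by omega⟩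
  obtain ⟨U₂, hU₂, hU₂d, hU₂n⟩ : ∃ U₂, U₂ ≤ perp Q E ∧ finrank F U₂ = b ∧ PolarNondeg (res Q U₂) := by
    rcases hbF.lt_or_eq with h | h
    · obtain ⟨T, hT⟩ := exists_space h2 b
      obtain ⟨U, hU, hUi⟩ := exists_sub_in hFn T.nondeg (Or.inl h2) (by omega)
      exact ⟨U, hU, by rw [← hUi.finrank_eq, hT], polarNondeg_of_isom hUi T.nondeg⟩
    · exact ⟨perp Q E, le_rfl, h.symm, hFn⟩
  obtain ⟨T, hT⟩ := exists_space h2 (m - b)
  have hTo : Odd (finrank F T.carrier) := by rw [hT]; exact Nat.Even.sub_odd hbm.le ⟨l, hl⟩ hbo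
  obtain ⟨c, hc0, hcs⟩ := exists_odd_pair h2 hU₂n T.nondeg (by rwa [hU₂d]) hTo hεW
  obtain ⟨U₁, hU₁, hU₁i⟩ := exists_sub_in hE (polarNondeg_smul T.nondeg hc0) (Or.inl h2) (by omega)
  have hsum := isom_sup hc.disjoint hU₁ hU₂
  have hU₁n := polarNondeg_of_isom hU₁i (polarNondeg_smul T.nondeg hc0)
  refine ⟨U₁ ⊔ U₂, inv_sup_eigen hgE hgF hU₁ hU₂, ?_, polarNondeg_of_isom hsum (SpOPrime.polar_prod hU₁n hU₂n), ?_⟩
  · rw [← hsum.finrank_eq, Module.finrank_prod, ← hU₁i.finrank_eq, hT, hU₂d]; omega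
  · exact hcs.congr ((isom_prod_comm _ _).trans' ((Isom.prod_congr hU₁i (isom_refl _)).trans' hsum))

/-- An involution fixes subspaces of any odd-dimensional class below half the dimension. -/
theorem invol_nd_odd (h2 : (2 : F) ≠ 0) (hQ : PolarNondeg Q) {E : Submodule F V} (hE : PolarNondeg (res Q E))
    (hgE : ∀ v ∈ E, g.1 v = -v) (hgF : ∀ v ∈ perp Q E, g.1 v = v) {U₀ : Submodule F V} (hU₀ : PolarNondeg (res Q U₀))
    (hm : 2 * finrank F U₀ < finrank F V) :
    ∃ U : Submodule F V, (∀ u ∈ U, g.1 u ∈ U) ∧ Isom (res Q U₀) (res Q U) := by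
  obtain ⟨hc, hFn, -⟩ := split_res hQ hE
  have hFd := finrank_perp hQ E
  by_cases h : finrank F U₀ < finrank F E
  · obtain ⟨U, hU, hUi⟩ := exists_sub_in hE hU₀ (Or.inl h2) h
    exact ⟨U, fun u hu => by rw [hgE u (hU hu)]; exact U.neg_mem hu, hUi⟩
  · obtain ⟨U, hU, hUi⟩ := exists_sub_in hFn hU₀ (Or.inl h2) (by omega)
    exact ⟨U, fun u hu => by rw [hgF u (hU hu)]; exact hu, hUi⟩

/-- Totally singular subspaces fixed by an involution. -/
theorem invol_ts (h2 : (2 : F) ≠ 0) (hQ : PolarNondeg Q) {E : Submodule F V} (hE : PolarNondeg (res Q E))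
    (hgE : ∀ v ∈ E, g.1 v = -v) (hgF : ∀ v ∈ perp Q E, g.1 v = v) {m a b : ℕ} (hab : a + b = m)
    (ha : 2 * a < finrank F E ∨ (2 * a = finrank F E ∧ Sg (res Q E) 1))
    (hb : 2 * b < finrank F (perp Q E) ∨ (2 * b = finrank F (perp Q E) ∧ Sg (res Q (perp Q E)) 1)) :
    ∃ U : Submodule F V, (finrank F U = m ∧ ∀ u ∈ U, Q u = 0) ∧ ∀ u ∈ U, g.1 u ∈ U := by
  obtain ⟨hc, hFn, -⟩ := split_res hQ hE
  obtain ⟨U₁, hU₁, hU₁d, hU₁s⟩ := exists_ts_le hE h2 ha
  obtain ⟨U₂, hU₂, hU₂d, hU₂s⟩ := exists_ts_le hFn h2 hb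
  have hsum := isom_sup hc.disjoint hU₁ hU₂
  refine ⟨U₁ ⊔ U₂, ⟨by rw [← hsum.finrank_eq, Module.finrank_prod, hU₁d, hU₂d, hab], fun u hu => ?_⟩,
    inv_sup_eigen hgE hgF hU₁ hU₂⟩
  obtain ⟨e, he⟩ := hsum
  obtain ⟨x, hx⟩ := e.surjective ⟨u, hu⟩
  have := he x
  rw [hx] at this
  show res Q (U₁ ⊔ U₂) ⟨u, hu⟩ = 0
  rw [this]
  show Q (x.1 : V) + Q (x.2 : V) = 0
  rw [hU₁s _ x.1.2, hU₂s _ x.2.2, add_zero]

/-- A prescribed eigenspace gives an element of the commutator subgroup. -/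
theorem exists_invol (h2 : (2 : F) ≠ 0) (hQ : PolarNondeg Q) (hex : Fintype.card F ≠ 2 ∨ finrank F V ≠ 4)
    {E : Submodule F V} (hE : PolarNondeg (res Q E)) {s : ℕ} (hs : finrank F E = 2 * s)
    (hsg : Sg (res Q E) (eta F ^ s)) :
    ∃ g : qAut Q, g ∈ commutator (qAut Q) ∧ (∀ v ∈ E, g.1 v = -v) ∧ (∀ v ∈ perp Q E, g.1 v = v) ∧
      ∀ v, g.1 (g.1 v) = v := by
  obtain ⟨hc, -, -⟩ := split_res hQ hE
  obtain ⟨e, he⟩ : ∃ e : (E × perp Q E) ≃ₗ[F] V, ∀ x, e x = (x.1 : V) + (x.2 : V) :=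
    ⟨E.prodEquivOfIsCompl _ hc, fun x => by simp⟩
  have hQe : ∀ x, Q (e x) = Q (x.1 : V) + Q (x.2 : V) := fun x => by
    have h := (mem_perp.1 x.2.2) x.1 x.1.2
    rw [he]
    simp only [QuadraticMap.polar] at h
    linear_combination h
  obtain ⟨g, hg⟩ : ∃ g : qAut Q, ∀ x, g.1 (e x) = e (-x.1, x.2) := by
    refine ⟨⟨e.symm.trans (((LinearEquiv.neg F).prodCongr (LinearEquiv.refl F _)).trans e), fun v => ?_⟩, fun x => ?_⟩
    · obtain ⟨x, rfl⟩ := e.surjective v
      show Q (e (_ : E × perp Q E)) = _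
      simp only [LinearEquiv.coe_coe, LinearEquiv.symm_apply_apply]
      rw [hQe, hQe]
      show Q (-(x.1 : V)) + Q (x.2 : V) = _
      rw [QuadraticMap.map_neg]
    · simp
  have hgE : ∀ v ∈ E, g.1 v = -v := fun v hv => by
    have h := hg (⟨v, hv⟩, 0)
    rw [he, he] at h
    simpa using h
  have hgF : ∀ v ∈ perp Q E, g.1 v = v := fun v hv => by
    have h := hg (0, ⟨v, hv⟩)
    rw [he, he] at h
    simpa using h
  refine ⟨g, (invol_mem_iff h2 hQ hex g hE hgE hgF hs).2 hsg, hgE, hgF, fun v => ?_⟩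
  obtain ⟨x, rfl⟩ := e.surjective v
  rw [hg, hg, neg_neg]

end Invol

section Rot

variable {f : Module.End F V}

/-- A space with an isometric square root of `-1`. -/
theorem rot_sign (h2 : (2 : F) ≠ 0) (hQ : PolarNondeg Q) (hf : ∀ v, f (f v) = -v) (hfQ : ∀ v, Q (f v) = Q v) :
    ∃ j, finrank F V = 2 * j ∧ Sg Q (eta F ^ j) := by
  obtain ⟨j, -, hj, -, -, -, hs⟩ := exists_rot_family h2 _ Q hQ rfl f hf hfQ
  exact ⟨j, hj, hs⟩

/-- The sign of an invariant subspace is forced. -/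
theorem rot_sub_sign (h2 : (2 : F) ≠ 0) (hf : ∀ v, f (f v) = -v) (hfQ : ∀ v, Q (f v) = Q v) {U : Submodule F V}
    (hU : ∀ u ∈ U, f u ∈ U) (hUn : PolarNondeg (res Q U)) :
    ∃ j, finrank F U = 2 * j ∧ Sg (res Q U) (eta F ^ j) :=
  rot_sign (f := f.restrict hU) h2 hUn (fun x => Subtype.ext (hf x)) fun x => hfQ x

theorem rot_perp_inv (hf : ∀ v, f (f v) = -v) (hfQ : ∀ v, Q (f v) = Q v) {U : Submodule F V}
    (hU : ∀ u ∈ U, f u ∈ U) : ∀ v ∈ perp Q U, f v ∈ perp Q U := by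
  refine perp_inv (r := 4) (by norm_num) ⟨LinearMap.ext fun v => ?_, hfQ⟩ hU
  show f (f (f (f v))) = v
  rw [hf (f (f v)), hf, neg_neg]

/-- Invariant non-degenerate subspaces of every even dimension. -/
theorem rot_nd_exists (h2 : (2 : F) ≠ 0) (hQ : PolarNondeg Q) (hf : ∀ v, f (f v) = -v) (hfQ : ∀ v, Q (f v) = Q v) :
    ∀ k, 2 * k ≤ finrank F V →
      ∃ U : Submodule F V, (∀ u ∈ U, f u ∈ U) ∧ finrank F U = 2 * k ∧ PolarNondeg (res Q U) := by
  intro k
  induction k with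
  | zero =>
    exact fun _ => ⟨⊥, fun u hu => by rw [(Submodule.mem_bot F).1 hu, map_zero]; exact zero_mem _, finrank_bot F V,
      fun x _ => Subsingleton.elim _ _⟩
  | succ k ih =>
    intro hk
    obtain ⟨U, hU, hUd, hUn⟩ := ih (by omega)
    obtain ⟨hc, hpn, -⟩ := split_res hQ hUn
    have hpd := finrank_perp hQ U
    obtain ⟨v, hv, hv0⟩ : ∃ v ∈ perp Q U, Q v ≠ 0 := by
      by_contra hcon
      push Not at hcon
      haveI : Nontrivial (perp Q U) := Module.nontrivial_of_finrank_pos (R := F) (by omega)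
      obtain ⟨w, hw⟩ := exists_ne (0 : perp Q U)
      refine hw (hpn w fun y => ?_)
      rw [polar_res, QuadraticMap.polar, hcon _ w.2, hcon _ y.2, hcon _ ((perp Q U).add_mem w.2 y.2)]
      simp
    have hvw : QuadraticMap.polar Q v (f v) = 0 := by
      have h : QuadraticMap.polar Q (f v) (f (f v)) = QuadraticMap.polar Q v (f v) := by
        simp only [QuadraticMap.polar, ← map_add, hfQ]
      rw [hf, QuadraticMap.polar_neg_right, QuadraticMap.polar_comm] at h
      have h' : (2 : F) * QuadraticMap.polar Q v (f v) = 0 := by linear_combination -h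
      exact (mul_eq_zero.1 h').resolve_left h2
    obtain ⟨hPd, hPn, -⟩ := plane_data h2 hv0 (show Q (f v) ≠ 0 by rwa [hfQ]) hvw
    have hP : Submodule.span F {v, f v} ≤ perp Q U := Submodule.span_le.2 (Set.insert_subset hv
      (Set.singleton_subset_iff.2 (rot_perp_inv hf hfQ hU v hv)))
    have hsum := isom_sup hc.disjoint le_rfl hP
    refine ⟨U ⊔ Submodule.span F {v, f v}, fun u hu => ?_, ?_, polarNondeg_of_isom hsum (SpOPrime.polar_prod hUn hPn)⟩
    · obtain ⟨a, ha, b, hb, rfl⟩ := Submodule.mem_sup.1 hu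
      obtain ⟨x, y, rfl⟩ := Submodule.mem_span_pair.1 hb
      rw [map_add f a]
      refine Submodule.add_mem_sup (hU a ha) (Submodule.mem_span_pair.2 ⟨-y, x, ?_⟩)
      rw [map_add, map_smul, map_smul, hf, smul_neg, neg_smul]; abel
    · rw [← hsum.finrank_eq, Module.finrank_prod, hUd, hPd]; omega

/-- When `-1` is a square there are totally singular subspaces of every dimension up to half. -/
theorem rot_ts_square (h2 : (2 : F) ≠ 0) (hQ : PolarNondeg Q) (hf : ∀ v, f (f v) = -v) (hfQ : ∀ v, Q (f v) = Q v)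
    (hsq : IsSquare (-1 : F)) {m : ℕ} (hm : 2 * m ≤ finrank F V) :
    ∃ U : Submodule F V, (finrank F U = m ∧ ∀ u ∈ U, Q u = 0) ∧ ∀ u ∈ U, f u ∈ U := by
  obtain ⟨ι, hι⟩ := hsq
  obtain ⟨Up, hUp⟩ : ∃ U : F → Submodule F V, ∀ c v, v ∈ U c ↔ f v = c • v :=
    ⟨fun c => LinearMap.ker (f - c • LinearMap.id), fun c v => by simp [sub_eq_zero]⟩
  have hts : ∀ c : F, c * c = -1 → ∀ v ∈ Up c, Q v = 0 := fun c hc v hv => by
    have h := hfQ v
    rw [(hUp c v).1 hv, quad_smul, hc] at h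
    have h' : (2 : F) * Q v = 0 := by linear_combination -h
    exact (mul_eq_zero.1 h').resolve_left h2
  have hι0 : ι ≠ 0 := by rintro rfl; simp at hι
  have htop : ∀ v, v ∈ Up ι ⊔ Up (-ι) := fun v => by
    refine Submodule.mem_sup.2 ⟨(2 * ι)⁻¹ • (ι • v + f v), (hUp _ _).2 ?_, (2 * ι)⁻¹ • (ι • v - f v), (hUp _ _).2 ?_, ?_⟩
    · rw [map_smul, map_add, map_smul, hf, smul_comm ι, smul_add ι, smul_smul ι ι, ← hι, neg_one_smul, add_comm]
    · rw [map_smul, map_sub, map_smul, hf, smul_comm (-ι), smul_sub (-ι), smul_smul (-ι) ι, neg_mul, ← hι, neg_neg,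
        one_smul, neg_smul, sub_neg_eq_add, sub_neg_eq_add, add_comm]
    · rw [← smul_add, show ι • v + f v + (ι • v - f v) = (2 * ι) • v by rw [mul_smul, two_smul]; abel, smul_smul,
        inv_mul_cancel₀ (mul_ne_zero h2 hι0), one_smul]
  have hdim : finrank F V ≤ finrank F (Up ι) + finrank F (Up (-ι)) := by
    rw [← finrank_top F V, ← (Submodule.eq_top_iff'.2 htop : Up ι ⊔ Up (-ι) = ⊤)]
    exact Submodule.finrank_add_le_finrank_add_finrank _ _
  have hhalf := ts_le_half hQ (hts (-ι) (by rw [neg_mul_neg, ← hι]))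
  obtain ⟨U, hUle, hUd⟩ : ∃ U, U ≤ Up ι ∧ finrank F U = m := by
    obtain ⟨b⟩ : Nonempty (Basis (Fin (finrank F (Up ι))) F (Up ι)) := ⟨Module.finBasis F _⟩
    refine ⟨Submodule.span F (Set.range fun j : Fin m => (b (Fin.castLE (by omega) j) : V)), ?_, ?_⟩
    · rw [Submodule.span_le]
      rintro _ ⟨j, rfl⟩
      exact (b _).2
    · rw [finrank_span_eq_card, Fintype.card_fin]
      exact (b.linearIndependent.comp _ (Fin.castLE_injective _)).map' (Up ι).subtype (Up ι).ker_subtype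
  refine ⟨U, ⟨hUd, fun u hu => hts ι hι.symm u (hUle hu)⟩, fun u hu => ?_⟩
  rw [(hUp _ _).1 (hUle hu)]
  exact U.smul_mem _ hu

omit [FiniteDimensional F V] [Fintype F] in
/-- Without an eigenvalue there are no invariant subspaces of odd dimension. -/
theorem rot_even_dim [FiniteDimensional F V] (hsq : ¬ IsSquare (-1 : F)) (hf : ∀ v, f (f v) = -v) {U : Submodule F V}
    (hU : ∀ u ∈ U, f u ∈ U) : Even (finrank F U) := by
  rcases Nat.even_or_odd (finrank F U) with h | h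
  · exact h
  exfalso
  have h1 : (f.restrict hU).comp (f.restrict hU) = (-1 : F) • LinearMap.id := LinearMap.ext fun u => Subtype.ext (by
    simp [hf])
  have h2 := congrArg LinearMap.det h1
  rw [LinearMap.det_comp, LinearMap.det_smul, LinearMap.det_id, mul_one, h.neg_one_pow] at h2
  exact hsq ⟨_, h2.symm⟩

/-- Totally singular subspaces of even dimension. -/
theorem rot_ts_even (h2 : (2 : F) ≠ 0) (hQ : PolarNondeg Q) (hf : ∀ v, f (f v) = -v) (hfQ : ∀ v, Q (f v) = Q v)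
    (hsq : ¬ IsSquare (-1 : F)) :
    ∀ j, 4 * j ≤ finrank F V + 1 →
      ∃ U : Submodule F V, (finrank F U = 2 * j ∧ ∀ u ∈ U, Q u = 0) ∧ ∀ u ∈ U, f u ∈ U := by
  intro j
  induction j with
  | zero =>
    exact fun _ => ⟨⊥, ⟨finrank_bot F V, fun u hu => by rw [(Submodule.mem_bot F).1 hu, map_zero]⟩,
      fun u hu => by rw [(Submodule.mem_bot F).1 hu, map_zero]; exact zero_mem _⟩
  | succ j ih =>
    intro hj
    obtain ⟨U, ⟨hUd, hUs⟩, hU⟩ := ih (by omega)
    have hact : Act Q 4 f := ⟨LinearMap.ext fun v => by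
      show f (f (f (f v))) = v
      rw [hf (f (f v)), hf, neg_neg], hfQ⟩
    have h4 : ((4 : ℕ) : F) ≠ 0 := by
      rw [show ((4 : ℕ) : F) = 2 * 2 by norm_num]; exact mul_ne_zero h2 h2
    obtain ⟨K, hK, hKc⟩ := exists_inv_compl h4 hact.1 (perp_inv (by norm_num) hact hU)
    obtain ⟨-, hXn, -, hXd⟩ := exists_pair_sup hQ hUs hKc
    obtain ⟨hXc, hDn, -⟩ := split_res hQ hXn
    have hDi : ∀ x ∈ perp Q (U ⊔ K), f x ∈ perp Q (U ⊔ K) := rot_perp_inv hf hfQ fun x hx => by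
      obtain ⟨a, ha, b, hb, rfl⟩ := Submodule.mem_sup.1 hx
      rw [map_add]
      exact Submodule.add_mem_sup (hU a ha) (hK b hb)
    have hDd := finrank_perp hQ (U ⊔ K)
    obtain ⟨v, hv, hv0, hvs⟩ : ∃ v ∈ perp Q (U ⊔ K), v ≠ 0 ∧ Q v = 0 := by
      obtain ⟨W, hW, hWd, hWs⟩ := exists_ts_le hDn h2 (a := 1) (Or.inl (by omega))
      obtain ⟨v, hv, hv0⟩ := W.exists_mem_ne_zero_of_ne_bot fun h => by rw [h, finrank_bot] at hWd; omega
      exact ⟨v, hW hv, hv0, hWs v hv⟩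
    have hskew : QuadraticMap.polar Q v (f v) = 0 := by
      have h : QuadraticMap.polar Q (f v) (f (f v)) = QuadraticMap.polar Q v (f v) := by
        simp only [QuadraticMap.polar, ← map_add, hfQ]
      rw [hf, QuadraticMap.polar_neg_right, QuadraticMap.polar_comm] at h
      have h' : (2 : F) * QuadraticMap.polar Q v (f v) = 0 := by linear_combination -h
      exact (mul_eq_zero.1 h').resolve_left h2
    obtain ⟨P, hP⟩ : ∃ P, P = Submodule.span F {v, f v} := ⟨_, rfl⟩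
    have hPd : finrank F P = 2 := by
      rw [hP, show ({v, f v} : Set V) = Set.range ![v, f v] by simp [Set.pair_comm], finrank_span_eq_card,
        Fintype.card_fin]
      rw [LinearIndependent.pair_iff' hv0]
      intro a ha
      have h := congrArg f ha
      rw [map_smul, hf, ← ha, smul_smul, ← neg_one_smul F v] at h
      exact hsq ⟨a, (smul_left_injective F hv0 h).symm⟩
    have hPle : P ≤ perp Q (U ⊔ K) := by
      rw [hP]; exact Submodule.span_le.2 (Set.insert_subset hv (Set.singleton_subset_iff.2 (hDi v hv)))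
    have hPs : ∀ x ∈ P, Q x = 0 := fun x hx => by
      rw [hP] at hx
      obtain ⟨a, b, rfl⟩ := Submodule.mem_span_pair.1 hx
      rw [quad_add, quad_smul, quad_smul, hfQ, hvs, QuadraticMap.polar_smul_left, QuadraticMap.polar_smul_right, hskew]
      simp
    have hsum := isom_sup hXc.disjoint (le_sup_left : U ≤ U ⊔ K) hPle
    refine ⟨U ⊔ P, ⟨?_, fun x hx => ?_⟩, fun x hx => ?_⟩
    · rw [← hsum.finrank_eq, Module.finrank_prod, hUd, hPd]; omega
    · obtain ⟨e, he⟩ := hsum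
      obtain ⟨y, hy⟩ := e.surjective ⟨x, hx⟩
      have := he y
      rw [hy] at this
      show res Q (U ⊔ P) ⟨x, hx⟩ = 0
      rw [this]
      show Q (y.1 : V) + Q (y.2 : V) = 0
      rw [hUs _ y.1.2, hPs _ y.2.2, add_zero]
    · obtain ⟨a, ha, b, hb, rfl⟩ := Submodule.mem_sup.1 hx
      rw [map_add]
      refine Submodule.add_mem_sup (hU a ha) ?_
      rw [hP] at hb ⊢
      obtain ⟨s, t, rfl⟩ := Submodule.mem_span_pair.1 hb
      refine Submodule.mem_span_pair.2 ⟨-t, s, ?_⟩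
      rw [map_add, map_smul, map_smul, hf, smul_neg, neg_smul]; abel

/-- Square roots of `-1` in the commutator subgroup exist. -/
theorem exists_rot (h2 : (2 : F) ≠ 0) (hQ : PolarNondeg Q) (hex : Fintype.card F ≠ 2 ∨ finrank F V ≠ 4) {d : ℕ}
    (hd : finrank F V = 2 * d) (hs : Sg Q (eta F ^ d)) (hsq : Even d ∨ IsSquare (2 : F)) :
    ∃ g : qAut Q, g ∈ commutator (qAut Q) ∧ ∀ v, g.1 (g.1 v) = -v := by
  obtain ⟨R, hR⟩ : ∃ R : QuadraticForm F ((Fin d → F) × (Fin d → F)),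
      R = (QuadraticMap.weightedSumSquares F fun _ : Fin d => (1 : F)).prod
        (QuadraticMap.weightedSumSquares F fun _ : Fin d => (1 : F)) := ⟨_, rfl⟩
  have hRv : ∀ x, R x = ∑ a, x.1 a * x.1 a + ∑ a, x.2 a * x.2 a := fun x => by
    rw [hR]; simp [QuadraticMap.weightedSumSquares_apply]
  have hRn : PolarNondeg R := by
    refine fun x hx => Prod.ext (funext fun a => ?_) (funext fun a => ?_)
    · have h := hx (Pi.single a 1, 0)
      simp only [QuadraticMap.polar, hRv, Prod.fst_add, Prod.snd_add, add_zero, Pi.add_apply, add_mul, mul_add,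
        Finset.sum_add_distrib, Pi.single_apply] at h
      simp [Finset.sum_ite_eq'] at h
      have h' : (2 : F) * x.1 a = 0 := by linear_combination h
      simpa [h2] using h'
    · have h := hx (0, Pi.single a 1)
      simp only [QuadraticMap.polar, hRv, Prod.fst_add, Prod.snd_add, add_zero, Pi.add_apply, add_mul, mul_add,
        Finset.sum_add_distrib, Pi.single_apply] at h
      simp [Finset.sum_ite_eq'] at h
      have h' : (2 : F) * x.2 a = 0 := by linear_combination h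
      simpa [h2] using h'
  obtain ⟨ρ, hρ⟩ : ∃ ρ : ((Fin d → F) × (Fin d → F)) ≃ₗ[F] ((Fin d → F) × (Fin d → F)), ∀ x, ρ x = (-x.2, x.1) :=
    ⟨(LinearEquiv.prodComm F (Fin d → F) (Fin d → F)).trans
      ((LinearEquiv.neg F).prodCongr (LinearEquiv.refl F (Fin d → F))), fun x => rfl⟩
  have hρρ : ∀ x, ρ (ρ x) = -x := fun x => by rw [hρ, hρ]; rfl
  have hρR : ∀ x, R (ρ x) = R x := fun x => by
    rw [hρ, hRv, hRv, add_comm]
    simp
  obtain ⟨j, hj, hRs⟩ := rot_sign (f := (ρ : ((Fin d → F) × (Fin d → F)) →ₗ[F] _)) h2 hRn hρρ hρR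
  have hj' : j = d := by rw [Module.finrank_prod, Module.finrank_fin_fun] at hj; omega
  subst hj'
  obtain ⟨e, he⟩ := hRs.isom hs hRn hQ (by rw [Module.finrank_prod, Module.finrank_fin_fun, hd]; omega)
  obtain ⟨g, hg⟩ : ∃ g : qAut Q, ∀ x, g.1 (e x) = e (ρ x) := by
    refine ⟨⟨e.symm.trans (ρ.trans e), fun v => ?_⟩, fun x => ?_⟩
    · obtain ⟨x, rfl⟩ := e.surjective v
      show Q (e (ρ (e.symm (e x)))) = _
      rw [LinearEquiv.symm_apply_apply, he, he, hρR]
    · simp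
  refine ⟨g, ?_, fun v => ?_⟩
  · exact (rot_mem_iff h2 hQ hex g (fun v => by
      obtain ⟨x, rfl⟩ := e.surjective v
      rw [hg, hg, hρρ, map_neg]) hd).2 hsq
  · obtain ⟨x, rfl⟩ := e.surjective v
    rw [hg, hg, hρρ, map_neg]

end Rot

/-- The scalar of an element whose square is scalar. -/
theorem sq_scalar_cases [Nontrivial V] (hQ : PolarNondeg Q) (g : qAut Q) {z : F} (hz : ∀ v, (g ^ 2).1 v = z • v) :
    (∀ v, g.1 (g.1 v) = v) ∨ (∀ v, g.1 (g.1 v) = -v) := by
  have h2 : ∀ v, g.1 (g.1 v) = z • v := fun v => by rw [← hz, sq]; rfl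
  have hzz := scalar_sq hQ (z := z) fun v => by rw [← hz, qAut_map]
  rcases mul_self_eq_one_iff.1 hzz with rfl | rfl
  · exact Or.inl fun v => by rw [h2, one_smul]
  · exact Or.inr fun v => by rw [h2, neg_one_smul]

/-- A non-scalar involution has both eigenvalues. -/
theorem invol_nonscalar {g : qAut Q} (hQ : PolarNondeg Q) {E : Submodule F V} (hE : PolarNondeg (res Q E))
    (hgE : ∀ v ∈ E, g.1 v = -v) (hgF : ∀ v ∈ perp Q E, g.1 v = v) (hns : ∀ z : F, ∃ v, g.1 v ≠ z • v) :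
    0 < finrank F E ∧ finrank F E < finrank F V := by
  obtain ⟨hc, -, -⟩ := split_res hQ hE
  have hd := finrank_perp hQ E
  constructor
  · rw [Nat.pos_iff_ne_zero]
    intro h
    obtain ⟨v, hv⟩ := hns 1
    have hbot : E = ⊥ := Submodule.finrank_eq_zero.1 h
    refine hv ?_
    rw [one_smul]
    refine hgF v ?_
    have := hc.sup_eq_top
    rw [hbot, bot_sup_eq] at this
    rw [hbot, this]; trivial
  · refine lt_of_le_of_ne (Submodule.finrank_le E) fun h => ?_
    obtain ⟨v, hv⟩ := hns (-1)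
    refine hv ?_
    rw [neg_one_smul]
    refine hgE v ?_
    rw [Submodule.eq_top_of_finrank_eq h]; trivial

end CfsgLib.Classical22.OrthType
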