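/-
Two tensor factors in coordinates: pure vectors, pure subspaces, root elements and Kronecker elements.
-/
import Cfsg.Agent.Lib.Classical22.TensorRefine

set_option autoImplicit false

namespace CfsgLib.Classical22.TensorMax

open Matrix Kronecker CfsgLib.Transvec
open scoped MatrixGroups

variable {F : Type*} [Field F] {a b : ℕ}

/-- The pure vector `x ⊗ u`. -/
def pt (x : Fin a → F) (u : Fin b → F) : Fin a × Fin b → F := fun p => x p.1 * u p.2

/-- Contraction of the second factor with `φ`. -/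
def sl (φ : Fin b → F) : (Fin a × Fin b → F) →ₗ[F] (Fin a → F) where
  toFun v i := ∑ j, φ j * v (i, j)
  map_add' v w := funext fun i => by simp [mul_add, Finset.sum_add_distrib]
  map_smul' c v := funext fun i => by simp [Finset.mul_sum, mul_left_comm]

/-- The linear map `x ↦ x ⊗ u`. -/
def ptL (u : Fin b → F) : (Fin a → F) →ₗ[F] (Fin a × Fin b → F) where
  toFun x := pt x u
  map_add' x y := funext fun p => by simp [pt, add_mul]
  map_smul' c x := funext fun p => by simp [pt, mul_assoc]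

/-- The pure subspace of all `x ⊗ u`. -/
def pureW (a : ℕ) (u : Fin b → F) : Submodule F (Fin a × Fin b → F) := LinearMap.range (ptL (a := a) u)

lemma ptL_apply (u : Fin b → F) (x : Fin a → F) : ptL u x = pt x u := rfl

lemma mem_pureW {u : Fin b → F} {v : Fin a × Fin b → F} : v ∈ pureW a u ↔ ∃ x, pt x u = v := Iff.rfl

lemma pt_mem_pureW (x : Fin a → F) (u : Fin b → F) : pt x u ∈ pureW a u := ⟨x, rfl⟩

lemma pt_add_left (x y : Fin a → F) (u : Fin b → F) : pt (x + y) u = pt x u + pt y u := (ptL u).map_add x y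

lemma pt_smul_left (c : F) (x : Fin a → F) (u : Fin b → F) : pt (c • x) u = c • pt x u := (ptL u).map_smul c x

lemma pt_add_right (x : Fin a → F) (u w : Fin b → F) : pt x (u + w) = pt x u + pt x w :=
  funext fun p => by simp [pt, mul_add]

lemma pt_sub_right (x : Fin a → F) (u w : Fin b → F) : pt x (u - w) = pt x u - pt x w :=
  funext fun p => by simp [pt, mul_sub]

lemma pt_smul_right (c : F) (x : Fin a → F) (u : Fin b → F) : pt x (c • u) = c • pt x u :=
  funext fun p => by simp [pt, mul_left_comm]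

lemma pt_zero_left (u : Fin b → F) : pt (0 : Fin a → F) u = 0 := funext fun p => by simp [pt]

lemma pt_zero_right (x : Fin a → F) : pt x (0 : Fin b → F) = 0 := funext fun p => by simp [pt]

lemma sl_pt (φ : Fin b → F) (x : Fin a → F) (u : Fin b → F) : sl φ (pt x u) = (φ ⬝ᵥ u) • x :=
  funext fun i => by
    simp only [sl, pt, LinearMap.coe_mk, AddHom.coe_mk, dotProduct, Pi.smul_apply, smul_eq_mul, Finset.sum_mul]
    exact Finset.sum_congr rfl fun j _ => by ring

lemma sl_single (j : Fin b) (v : Fin a × Fin b → F) : sl (Pi.single j 1) v = fun i => v (i, j) :=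
  funext fun i => by simp [sl, Pi.single_apply]

lemma pt_eq_zero {x : Fin a → F} {u : Fin b → F} (hu : u ≠ 0) (h : pt x u = 0) : x = 0 := by
  obtain ⟨j, hj⟩ := Function.ne_iff.mp hu
  exact funext fun i => (mul_eq_zero.mp (congrFun h (i, j))).resolve_right hj

lemma pt_injective {u : Fin b → F} (hu : u ≠ 0) : Function.Injective (ptL (a := a) u) := by
  rw [← LinearMap.ker_eq_bot, LinearMap.ker_eq_bot']
  exact fun x hx => pt_eq_zero hu hx

lemma finrank_pureW {u : Fin b → F} (hu : u ≠ 0) : Module.finrank F (pureW a u) = a := by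
  rw [pureW, LinearMap.finrank_range_of_inj (pt_injective hu), Module.finrank_fin_fun]

lemma eq_sum_pt (v : Fin a × Fin b → F) : v = ∑ j, pt (fun i => v (i, j)) (Pi.single j 1) := by
  funext p
  simp [pt, Finset.sum_apply, Pi.single_apply]

lemma ext_pt {g g' : GL (Fin a × Fin b) F}
    (h : ∀ x (j : Fin b), g.val *ᵥ pt x (Pi.single j 1) = g'.val *ᵥ pt x (Pi.single j 1)) :
    g = g' :=
  gl_ext fun v => by
    rw [eq_sum_pt v, Matrix.mulVec_sum, Matrix.mulVec_sum]
    exact Finset.sum_congr rfl fun j _ => h _ j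

lemma pureW_eq_of_common {u u' : Fin b → F} {x x' : Fin a → F} {z : Fin a × Fin b → F} (h' : ptL u' x' = z)
    (h : ptL u x = z) (hz : z ≠ 0) (hu' : u' ≠ 0) (hu : u ≠ 0) : pureW a u' = pureW a u := by
  obtain ⟨i, hi⟩ : ∃ i, x' i ≠ 0 := Function.ne_iff.mp (fun e => hz (by rw [← h', show x' = 0 from e, map_zero]))
  have he : u' = (x i / x' i) • u := funext fun j => by
    have e := congrFun (h'.trans h.symm) (i, j)
    simp only [ptL_apply, pt] at e
    rw [Pi.smul_apply, smul_eq_mul, div_mul_eq_mul_div, eq_div_iff hi, ← e, mul_comm]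
  refine Submodule.eq_of_le_of_finrank_eq ?_ (by rw [finrank_pureW hu', finrank_pureW hu])
  rintro _ ⟨y, rfl⟩
  rw [ptL_apply, he, pt_smul_right, ← pt_smul_left]
  exact pt_mem_pureW _ _

/-- The root element `1 + 1 ⊗ u φᵀ`. -/
noncomputable def rootB (a : ℕ) (u φ : Fin b → F) (h : φ ⬝ᵥ u = 0) : GL (Fin a × Fin b) F where
  val := (1 : Matrix (Fin a) (Fin a) F) ⊗ₖ (1 + vecMulVec u φ)
  inv := (1 : Matrix (Fin a) (Fin a) F) ⊗ₖ (1 - vecMulVec u φ)
  val_inv := by
    rw [← Matrix.mul_kronecker_mul, mul_one, mul_sub, mul_one, add_mul, one_mul, vecMulVec_mul_vecMulVec, h,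
      zero_smul]
    simp
  inv_val := by
    rw [← Matrix.mul_kronecker_mul, mul_one, mul_add, mul_one, sub_mul, one_mul, vecMulVec_mul_vecMulVec, h,
      zero_smul]
    simp

lemma rootB_mulVec {u φ : Fin b → F} (h : φ ⬝ᵥ u = 0) (v : Fin a × Fin b → F) :
    (rootB a u φ h).val *ᵥ v = v + pt (sl φ v) u := by
  conv_lhs => rw [eq_sum_pt v]
  conv_rhs => rw [eq_sum_pt v]
  rw [Matrix.mulVec_sum, map_sum, ← ptL_apply, map_sum, ← Finset.sum_add_distrib]
  refine Finset.sum_congr rfl fun j _ => ?_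
  rw [sl_pt, ptL_apply, pt_smul_left, ← pt_smul_right, ← pt_add_right]
  change ((1 : Matrix (Fin a) (Fin a) F) ⊗ₖ (1 + vecMulVec u φ)) *ᵥ
    (fun p => (fun i => v (i, j)) p.1 * (Pi.single j 1 : Fin b → F) p.2) = _
  refine (TensorRefine.kronecker_mulVec _ _ (fun i => v (i, j)) (Pi.single j 1)).trans ?_
  rw [one_mulVec, add_mulVec, one_mulVec, vecMulVec_mulVec, op_smul_eq_smul]
  rfl

/-- An element of Kronecker form. -/
def IsKron (g : GL (Fin a × Fin b) F) : Prop := g ∈ Cfsg.Geo.kroneckerSubgroup a b F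

lemma isKron_rootB {u φ : Fin b → F} (h : φ ⬝ᵥ u = 0) : IsKron (rootB a u φ h) :=
  ⟨1, ⟨1 + vecMulVec u φ, 1 - vecMulVec u φ,
    by rw [mul_sub, mul_one, add_mul, one_mul, vecMulVec_mul_vecMulVec, h, zero_smul]; simp,
    by rw [mul_add, mul_one, sub_mul, one_mul, vecMulVec_mul_vecMulVec, h, zero_smul]; simp⟩, rfl⟩

lemma det_rootB {u φ : Fin b → F} (h : φ ⬝ᵥ u = 0) : (rootB a u φ h).val.det = 1 := by
  change ((1 : Matrix (Fin a) (Fin a) F) ⊗ₖ (1 + vecMulVec u φ)).det = 1
  rw [det_kronecker, det_one, one_pow, one_mul, one_add h, one_pow]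
  where
  one_add {u φ : Fin b → F} (h : φ ⬝ᵥ u = 0) : (1 + vecMulVec u φ).det = 1 := by
    rw [vecMulVec_eq Unit, det_one_add_replicateCol_mul_replicateRow, h, add_zero]

lemma isKron_apply {g : GL (Fin a × Fin b) F} (hg : IsKron g) :
    ∃ (A : GL (Fin a) F) (B : GL (Fin b) F), ∀ x u,
      g.val *ᵥ pt x u = pt (A.val *ᵥ x) (B.val *ᵥ u) := by
  obtain ⟨A, B, hg⟩ := hg
  exact ⟨A, B, fun x u => by rw [hg]; exact TensorRefine.kronecker_mulVec _ _ x u⟩

/-- The image of a subspace under a matrix. -/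
def img (g : GL (Fin a × Fin b) F) (W : Submodule F (Fin a × Fin b → F)) : Submodule F (Fin a × Fin b → F) :=
  W.map (Matrix.mulVecLin g.val)

lemma mem_img {g : GL (Fin a × Fin b) F} {W : Submodule F (Fin a × Fin b → F)} {v : Fin a × Fin b → F} :
    v ∈ img g W ↔ ∃ w ∈ W, g.val *ᵥ w = v := Submodule.mem_map

lemma img_mul (g h : GL (Fin a × Fin b) F) (W : Submodule F (Fin a × Fin b → F)) :
    img (g * h) W = img g (img h W) := by
  rw [img, img, img, Units.val_mul, Matrix.mulVecLin_mul, Submodule.map_comp]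

lemma img_one (W : Submodule F (Fin a × Fin b → F)) : img (1 : GL (Fin a × Fin b) F) W = W := by
  rw [img, Units.val_one, Matrix.mulVecLin_one, Submodule.map_id]

lemma img_inv_img (g : GL (Fin a × Fin b) F) (W : Submodule F (Fin a × Fin b → F)) : img g⁻¹ (img g W) = W := by
  rw [← img_mul, inv_mul_cancel, img_one]

lemma finrank_img (g : GL (Fin a × Fin b) F) (W : Submodule F (Fin a × Fin b → F)) :
    Module.finrank F (img g W) = Module.finrank F W :=
  (Submodule.equivMapOfInjective _ (fun _ _ h => mulVec_injective g h) W).finrank_eq.symm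

lemma img_pureW_of_isKron {g : GL (Fin a × Fin b) F} (hg : IsKron g) {u : Fin b → F} (hu : u ≠ 0) :
    ∃ u', u' ≠ 0 ∧ img g (pureW a u) = pureW a u' := by
  obtain ⟨A, B, hAB⟩ := isKron_apply hg
  have hu' : B.val *ᵥ u ≠ 0 := mulVec_ne_zero B hu
  refine ⟨_, hu', Submodule.eq_of_le_of_finrank_eq ?_ (by rw [finrank_img, finrank_pureW hu, finrank_pureW hu'])⟩
  intro v hv
  obtain ⟨w, ⟨x, rfl⟩, rfl⟩ := mem_img.mp hv
  rw [ptL_apply, hAB]
  exact pt_mem_pureW _ _

/-- The image of `g - 1`. -/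
def move (g : GL (Fin a × Fin b) F) : Submodule F (Fin a × Fin b → F) :=
  LinearMap.range (Matrix.mulVecLin g.val - 1)

lemma mem_move {g : GL (Fin a × Fin b) F} {v : Fin a × Fin b → F} :
    v ∈ move g ↔ ∃ w, g.val *ᵥ w - w = v := Iff.rfl

lemma move_conj (g h : GL (Fin a × Fin b) F) : move (g * h * g⁻¹) = img g (move h) := by
  refine le_antisymm ?_ ?_
  · intro v hv
    obtain ⟨w, rfl⟩ := mem_move.mp hv
    refine mem_img.mpr ⟨_, mem_move.mpr ⟨(g⁻¹).val *ᵥ w, rfl⟩, ?_⟩
    simp only [Units.val_mul, mulVec_sub, mulVec_mulVec, mul_assoc, Units.mul_inv, one_mulVec]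
  · intro v hv
    obtain ⟨_, hw', rfl⟩ := mem_img.mp hv
    obtain ⟨w, rfl⟩ := mem_move.mp hw'
    refine mem_move.mpr ⟨g.val *ᵥ w, ?_⟩
    simp only [Units.val_mul, mulVec_sub, mulVec_mulVec, mul_assoc, Units.inv_mul, mul_one]

lemma move_rootB {u φ : Fin b → F} (h : φ ⬝ᵥ u = 0) (hφ : φ ≠ 0) : move (rootB a u φ h) = pureW a u := by
  refine le_antisymm ?_ ?_
  · intro v hv
    obtain ⟨w, rfl⟩ := mem_move.mp hv
    rw [rootB_mulVec, add_sub_cancel_left]
    exact pt_mem_pureW _ _
  · rintro _ ⟨x, rfl⟩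
    obtain ⟨j, hj⟩ := Function.ne_iff.mp hφ
    refine mem_move.mpr ⟨pt ((φ j)⁻¹ • x) (Pi.single j 1), ?_⟩
    rw [rootB_mulVec, add_sub_cancel_left, sl_pt, dotProduct_single, mul_one, smul_smul,
      mul_inv_cancel₀ hj, one_smul, ptL_apply]

/-- A Kronecker element with small image of `g - 1` moves exactly a pure subspace. -/
theorem move_kron (hab : a < b) {g : GL (Fin a × Fin b) F} (hg : IsKron g) (hg1 : g ≠ 1)
    (hd : Module.finrank F (move g) ≤ a) : ∃ u : Fin b → F, u ≠ 0 ∧ move g = pureW a u := by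
  obtain ⟨A, B, hAB⟩ := isKron_apply hg
  have heig : ∀ α : Fin a → F, ∃ l : F, A.val *ᵥ α = l • α := by
    intro α
    by_cases hα : α = 0
    · exact ⟨0, by rw [hα, mulVec_zero, smul_zero]⟩
    by_contra hne
    push Not at hne
    let T : (Fin b → F) →ₗ[F] (Fin a × Fin b → F) :=
      { toFun := fun y => g.val *ᵥ pt α y - pt α y
        map_add' := fun y z => by rw [pt_add_right, mulVec_add]; abel
        map_smul' := fun c y => by rw [pt_smul_right, mulVec_smul, RingHom.id_apply, smul_sub] }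
    have hinj : Function.Injective T := by
      rw [← LinearMap.ker_eq_bot, LinearMap.ker_eq_bot']
      intro y hy
      by_contra hy0
      have he : pt (A.val *ᵥ α) (B.val *ᵥ y) = pt α y := by
        rw [← hAB]; exact sub_eq_zero.mp hy
      obtain ⟨j, hj⟩ := Function.ne_iff.mp (mulVec_ne_zero B hy0)
      refine hne (y j / (B.val *ᵥ y) j) (funext fun i => ?_)
      have h := congrFun he (i, j)
      simp only [pt] at h
      have hj' : (B.val *ᵥ y) j ≠ 0 := hj
      rw [Pi.smul_apply, smul_eq_mul, div_mul_eq_mul_div, eq_div_iff hj', h]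
      ring
    have h1 := Submodule.finrank_mono (show LinearMap.range T ≤ move g from fun v hv => by
      obtain ⟨y, rfl⟩ := hv
      exact mem_move.mpr ⟨_, rfl⟩)
    rw [LinearMap.finrank_range_of_inj hinj, Module.finrank_fin_fun] at h1
    omega
  choose l hl using heig
  obtain ⟨c, hc⟩ : ∃ c : F, ∀ x, A.val *ᵥ x = c • x := by
    rcases Nat.eq_zero_or_pos a with ha | ha
    · subst ha
      exact ⟨0, fun x => funext fun i => i.elim0⟩
    refine ⟨l (Pi.single ⟨0, ha⟩ 1), fun x => ?_⟩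
    have key : ∀ i, l (Pi.single i 1) = l (Pi.single ⟨0, ha⟩ 1) := by
      intro i
      by_cases hi : i = ⟨0, ha⟩
      · rw [hi]
      have h := hl (Pi.single i 1 + Pi.single ⟨0, ha⟩ 1)
      rw [mulVec_add, hl, hl] at h
      have h1 := congrFun h i
      have h2 := congrFun h ⟨0, ha⟩
      simp [hi] at h1
      simp [Ne.symm hi] at h2
      rw [h1, h2]
    rw [pi_eq_sum_univ' x, mulVec_sum, Finset.smul_sum]
    refine Finset.sum_congr rfl fun i _ => ?_
    rw [mulVec_smul, hl, key, smul_comm]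
  obtain ⟨C, hC⟩ : ∃ C : (Fin b → F) →ₗ[F] (Fin b → F), ∀ y, C y = c • (B.val *ᵥ y) - y :=
    ⟨c • Matrix.mulVecLin B.val - LinearMap.id, fun y => rfl⟩
  have hg' : ∀ x y, g.val *ᵥ pt x y - pt x y = pt x (C y) := fun x y => by
    rw [hAB, hc, pt_smul_left, ← pt_smul_right, hC, pt_sub_right]
  obtain ⟨y, hy⟩ : ∃ y, C y ≠ 0 := by
    by_contra h
    push Not at h
    exact hg1 (ext_pt fun x j => by
      rw [Units.val_one, one_mulVec]
      have := hg' x (Pi.single j 1)
      rwa [h, pt_zero_right, sub_eq_zero] at this)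
  refine ⟨C y, hy, (Submodule.eq_of_le_of_finrank_le ?_ (by rw [finrank_pureW hy]; exact hd)).symm⟩
  rintro _ ⟨x, rfl⟩
  exact mem_move.mpr ⟨pt x y, hg' x y⟩

end CfsgLib.Classical22.TensorMax
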