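/-
Elements fixing a pure subspace pointwise and moving everything into it; producing a non-scalar one.
-/
import Cfsg.Agent.Lib.Classical22.TensorMaxBase

set_option autoImplicit false

namespace CfsgLib.Classical22.TensorMax

open Matrix Kronecker CfsgLib.Transvec
open scoped MatrixGroups

variable {F : Type*} [Field F] {a b : ℕ}

/-- The unit vector of the second factor. -/
abbrev sv (j : Fin b) : Fin b → F := Pi.single j 1

/-- The nilpotent map with blocks `N l` into the pure subspace at `e`. -/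
def elM (e : Fin b) (N : Fin b → Matrix (Fin a) (Fin a) F) : Matrix (Fin a × Fin b) (Fin a × Fin b) F :=
  fun p q => if p.2 = e then N q.2 p.1 q.1 else 0

lemma elM_mulVec (e : Fin b) (N : Fin b → Matrix (Fin a) (Fin a) F) (v : Fin a × Fin b → F) :
    elM e N *ᵥ v = pt (∑ l, N l *ᵥ fun i => v (i, l)) (sv e) := by
  funext p
  simp only [elM, mulVec, dotProduct, pt, sv, Fintype.sum_prod_type, Finset.sum_apply, ite_mul, zero_mul]
  by_cases hp : p.2 = e
  · simp [hp, Finset.sum_comm (γ := Fin b)]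
  · simp [hp, Pi.single_eq_of_ne hp]

lemma elM_mul {e : Fin b} {N N' : Fin b → Matrix (Fin a) (Fin a) F} (h : N e = 0) : elM e N * elM e N' = 0 := by
  refine Matrix.ext_of_mulVec_single fun q => ?_
  rw [← mulVec_mulVec, elM_mulVec, elM_mulVec, zero_mulVec]
  rw [show (∑ l, N l *ᵥ fun i => pt (∑ l', N' l' *ᵥ fun i' => (Pi.single q 1 : Fin a × Fin b → F) (i', l')) (sv e)
    (i, l)) = 0 from Finset.sum_eq_zero fun l _ => ?_, pt_zero_left]
  by_cases hl : l = e
  · rw [hl, h, zero_mulVec]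
  · have : (fun i => pt (∑ l', N' l' *ᵥ fun i' => (Pi.single q 1 : Fin a × Fin b → F) (i', l')) (sv e) (i, l)) =
        (0 : Fin a → F) := funext fun i => by simp [pt, Pi.single_eq_of_ne hl]
    rw [this, mulVec_zero]

/-- The element `1 + elM e N`. -/
noncomputable def elG (e : Fin b) (N : Fin b → Matrix (Fin a) (Fin a) F) (h : N e = 0) :
    GL (Fin a × Fin b) F where
  val := 1 + elM e N
  inv := 1 - elM e N
  val_inv := by rw [mul_sub, mul_one, add_mul, one_mul, elM_mul h]; simp
  inv_val := by rw [mul_add, mul_one, sub_mul, one_mul, elM_mul h]; simp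

lemma elG_mulVec {e : Fin b} {N : Fin b → Matrix (Fin a) (Fin a) F} (h : N e = 0) (v : Fin a × Fin b → F) :
    (elG e N h).val *ᵥ v = v + pt (∑ l, N l *ᵥ fun i => v (i, l)) (sv e) := by
  rw [← elM_mulVec]
  change (1 + elM e N) *ᵥ v = _
  rw [add_mulVec, one_mulVec]

lemma elG_pt {e : Fin b} {N : Fin b → Matrix (Fin a) (Fin a) F} (h : N e = 0) (x : Fin a → F) (u : Fin b → F) :
    (elG e N h).val *ᵥ pt x u = pt x u + pt ((∑ l, u l • N l) *ᵥ x) (sv e) := by
  rw [elG_mulVec, Matrix.sum_mulVec]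
  congr 2
  refine Finset.sum_congr rfl fun l _ => ?_
  rw [smul_mulVec, show (fun i => pt x u (i, l)) = u l • x from funext fun i => by simp [pt, mul_comm], mulVec_smul]

/-- An element fixing the pure subspace at `e` pointwise and moving into it has this form. -/
theorem exists_elG {e : Fin b} {g : GL (Fin a × Fin b) F} (hfix : ∀ x, g.val *ᵥ pt x (sv e) = pt x (sv e))
    (hmv : ∀ v, ∃ x, g.val *ᵥ v - v = pt x (sv e)) : ∃ N, ∃ h : N e = 0, g = elG e N h := by
  classical
  obtain ⟨N, hN⟩ : ∃ N : Fin b → Matrix (Fin a) (Fin a) F, ∀ l x, N l *ᵥ x =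
      fun i => (g.val *ᵥ pt x (sv l) - pt x (sv l)) (i, e) :=
    ⟨fun l => LinearMap.toMatrix'
      { toFun := fun x i => (g.val *ᵥ pt x (sv l) - pt x (sv l)) (i, e)
        map_add' := fun x y => funext fun i => by
          simp only [pt_add_left, mulVec_add, Pi.add_apply, Pi.sub_apply]; ring
        map_smul' := fun c x => funext fun i => by
          simp only [pt_smul_left, mulVec_smul, Pi.smul_apply, Pi.sub_apply, smul_eq_mul, RingHom.id_apply]; ring },
      fun l x => by rw [LinearMap.toMatrix'_mulVec]; rfl⟩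
  have he : N e = 0 := Matrix.ext_of_mulVec_single fun k => by
    rw [hN, hfix, sub_self, zero_mulVec]; rfl
  refine ⟨N, he, ext_pt fun x l => ?_⟩
  obtain ⟨y, hy⟩ := hmv (pt x (sv l))
  rw [elG_pt, Finset.sum_eq_single l (fun m _ hm => by simp [sv, Pi.single_eq_of_ne hm]) (by simp)]
  simp only [sv, Pi.single_eq_same, one_smul, hN]
  rw [← sub_eq_iff_eq_add', hy]
  congr 1
  funext i
  simp [pt, sv]

variable {M : Subgroup (GL (Fin a × Fin b) F)}

/-- From an element fixing the pure subspace at `e` but not in Kronecker form, a non-scalar `elG` in `M`. -/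
theorem exists_nonscalar (ha : 0 < a) {e : Fin b} (hb : ∃ p q : Fin b, p ≠ e ∧ q ≠ e ∧ p ≠ q)
    (hroot : ∀ (u φ : Fin b → F) (h : φ ⬝ᵥ u = 0), rootB a u φ h ∈ M)
    {y : GL (Fin a × Fin b) F} (hy : y ∈ M) (hW : ∀ x, ∃ x', y.val *ᵥ pt x (sv e) = pt x' (sv e))
    (hk : ¬ IsKron y) :
    ∃ N, ∃ h : N e = 0, elG e N h ∈ M ∧ ∃ l, ¬ ∃ c : F, N l = c • 1 := by
  classical
  by_contra hcon
  have hscal : ∀ N, ∀ h : N e = 0, elG e N h ∈ M → ∀ l, ∃ c : F, N l = c • 1 := fun N h hm l => by
    by_contra hc; exact hcon ⟨N, h, hm, l, hc⟩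
  obtain ⟨α, hα⟩ : ∃ α : Matrix (Fin a) (Fin a) F, ∀ x, y.val *ᵥ pt x (sv e) = pt (α *ᵥ x) (sv e) := by
    refine ⟨LinearMap.toMatrix'
      { toFun := fun x i => (y.val *ᵥ pt x (sv e)) (i, e)
        map_add' := fun x z => funext fun i => by simp [pt_add_left, mulVec_add]
        map_smul' := fun c x => funext fun i => by simp [pt_smul_left, mulVec_smul] }, fun x => ?_⟩
    obtain ⟨x', hx'⟩ := hW x
    rw [LinearMap.toMatrix'_mulVec, hx']
    congr 1
    funext i
    simp [hx', pt, sv]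
  have hαinj : ∀ x, α *ᵥ x = 0 → x = 0 := fun x hx => by
    have h := hα x
    rw [hx, pt_zero_left] at h
    have h2 : pt x (sv e) = 0 := mulVec_injective y (by simpa using h)
    exact pt_eq_zero (by simp [sv]) h2
  have hαsurj : ∀ x', ∃ x, α *ᵥ x = x' := by
    intro x'
    obtain ⟨x, hx⟩ := (LinearMap.injective_iff_surjective (f := α.mulVecLin)).mp
      ((injective_iff_map_eq_zero α.mulVecLin).mpr hαinj) x'
    exact ⟨x, hx⟩
  -- conjugating a root element with axis away from `e`
  have hroots : ∀ k, k ≠ e → ∃ ψ : Fin b → F, ψ e = 0 ∧ ∀ z,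
      pt (α *ᵥ fun i => z (i, k)) (sv e) = pt (sl ψ (y.val *ᵥ z)) (sv e) := by
    intro k hk'
    have hd : (sv k : Fin b → F) ⬝ᵥ sv e = 0 := by simp [sv, hk']
    have hm := M.mul_mem (M.mul_mem hy (hroot _ _ hd)) (M.inv_mem hy)
    have hcalc : ∀ z, (y * rootB a (sv e) (sv k) hd * y⁻¹).val *ᵥ (y.val *ᵥ z) =
        y.val *ᵥ z + pt (α *ᵥ fun i => z (i, k)) (sv e) := by
      intro z
      rw [Transvec.mul_mulVec, Transvec.inv_mulVec_cancel, Transvec.mul_mulVec, rootB_mulVec, mulVec_add, hα,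
        sl_single]
    obtain ⟨N, hN0, hN⟩ := exists_elG (e := e) (g := y * rootB a (sv e) (sv k) hd * y⁻¹)
      (fun x => by
        obtain ⟨x', rfl⟩ := hαsurj x
        rw [← hα, hcalc, add_eq_left, ← pt_zero_left (a := a) (sv e)]
        congr 1
        rw [show (fun i => pt x' (sv e) (i, k)) = (0 : Fin a → F) from funext fun i => by simp [pt, sv, hk'],
          mulVec_zero])
      (fun v => ⟨α *ᵥ fun i => (y⁻¹.val *ᵥ v) (i, k), by
        conv_lhs => rw [← Transvec.mulVec_inv_cancel y v]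
        rw [hcalc]; abel⟩)
    choose c hc using hscal N hN0 (hN ▸ hm)
    refine ⟨Function.update c e 0, by simp, fun z => ?_⟩
    have h := hcalc z
    rw [hN, elG_mulVec, add_right_inj] at h
    rw [← h]
    congr 1
    funext i
    simp only [Finset.sum_apply, sl, LinearMap.coe_mk, AddHom.coe_mk]
    refine Finset.sum_congr rfl fun l _ => ?_
    rw [hc l, smul_mulVec, one_mulVec, Pi.smul_apply, smul_eq_mul]
    by_cases hl : l = e
    · subst hl
      have : c l = 0 := by
        have h0 := congrFun (congrFun (hc l) ⟨0, ha⟩) ⟨0, ha⟩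
        rw [hN0] at h0
        simpa using h0.symm
      simp [this]
    · simp [hl]
  choose ψ hψe hψ using hroots
  obtain ⟨Ψ, hΨ⟩ : ∃ Ψ : Matrix (Fin b) (Fin b) F, Ψ =
      fun k j => if hk : k = e then (if j = e then 1 else 0) else ψ k hk j := ⟨_, rfl⟩
  obtain ⟨Y, hY⟩ : ∃ Y : Fin b → Fin b → (Fin a → F) → (Fin a → F),
      Y = fun j l x => if j = e ∧ l ≠ e then 0 else fun i => (y.val *ᵥ pt x (sv l)) (i, j) := ⟨_, rfl⟩
  have hΨY : ∀ k l x, ∑ j, Ψ k j • Y j l x = (if k = l then (1 : F) else 0) • (α *ᵥ x) := by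
    intro k l x
    by_cases hk' : k = e
    · subst hk'
      rw [Finset.sum_eq_single k (fun j _ hj => by simp [hΨ, hj]) (by simp)]
      by_cases hl : l = k
      · subst hl
        funext i
        simp [hΨ, hY, hα, pt, sv]
      · simp [hΨ, hY, hl, Ne.symm hl]
    · have h := hψ k hk' (pt x (sv l))
      have h' := congrArg (fun w i => w (i, e)) h
      simp only [pt, sv, Pi.single_eq_same, mul_one] at h'
      rw [show (fun i => x i * (Pi.single l 1 : Fin b → F) k) = (if k = l then (1 : F) else 0) • x from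
        funext fun i => by by_cases hkl : k = l <;> simp [hkl], mulVec_smul] at h'
      rw [show (if k = l then (1 : F) else 0) • (α *ᵥ x) = _ from h']
      funext i
      simp only [Finset.sum_apply, sl, LinearMap.coe_mk, AddHom.coe_mk, hΨ, dif_neg hk']
      refine Finset.sum_congr rfl fun j _ => ?_
      by_cases hje : j = e
      · subst hje; simp [hψe k hk']
      · simp [hY, hje]
  have hΨdet : IsUnit Ψ.det := by
    rw [isUnit_iff_ne_zero]
    intro h0
    obtain ⟨c, hc0, hc⟩ := Matrix.exists_vecMul_eq_zero_iff.mpr h0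
    refine hc0 (funext fun l => ?_)
    obtain ⟨i, hi⟩ := Function.ne_iff.mp (show α *ᵥ (Pi.single ⟨0, ha⟩ 1) ≠ 0 from fun h => by
      simpa using congrFun (hαinj _ h) ⟨0, ha⟩)
    have h1 : ∑ j, (c ᵥ* Ψ) j • Y j l (Pi.single ⟨0, ha⟩ 1) = c l • (α *ᵥ Pi.single ⟨0, ha⟩ 1) := by
      simp only [vecMul, dotProduct, Finset.sum_smul]
      rw [Finset.sum_comm]
      simp only [mul_smul, ← Finset.smul_sum, hΨY]
      simp [smul_smul]
    rw [hc] at h1
    simp only [Pi.zero_apply, zero_smul, Finset.sum_const_zero] at h1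
    exact (mul_eq_zero.mp (congrFun h1.symm i)).resolve_right hi
  obtain ⟨C, hC, hC'⟩ : ∃ C, C * Ψ = 1 ∧ Ψ * C = 1 :=
    ⟨Ψ⁻¹, Matrix.nonsing_inv_mul Ψ hΨdet, Matrix.mul_nonsing_inv Ψ hΨdet⟩
  have hYC : ∀ j l x, Y j l x = C j l • (α *ᵥ x) := by
    intro j l x
    have h1 : ∑ k, C j k • ∑ j', Ψ k j' • Y j' l x = Y j l x := by
      simp only [Finset.smul_sum, smul_smul]
      rw [Finset.sum_comm]
      simp only [← Finset.sum_smul]
      rw [Finset.sum_eq_single j (fun j' _ hj' => ?_) (by simp)]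
      · rw [← Matrix.mul_apply, hC, Matrix.one_apply_eq, one_smul]
      · rw [← Matrix.mul_apply, hC, Matrix.one_apply_ne (Ne.symm hj'), zero_smul]
    rw [← h1]
    simp [hΨY, smul_smul]
  -- the shape of y
  have hyz : ∀ l, ∃ β : Matrix (Fin a) (Fin a) F, ∀ x,
      y.val *ᵥ pt x (sv l) = pt (α *ᵥ x) (fun j => C j l) + pt (β *ᵥ x) (sv e) := by
    intro l
    refine ⟨LinearMap.toMatrix'
      { toFun := fun x i => (y.val *ᵥ pt x (sv l) - pt (α *ᵥ x) (fun j => C j l)) (i, e)
        map_add' := fun x z => funext fun i => by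
          simp only [pt_add_left, mulVec_add, Pi.add_apply, Pi.sub_apply]; ring
        map_smul' := fun c x => funext fun i => by
          simp only [pt_smul_left, mulVec_smul, Pi.smul_apply, Pi.sub_apply, smul_eq_mul, RingHom.id_apply]; ring },
      fun x => ?_⟩
    rw [LinearMap.toMatrix'_mulVec]
    funext p
    obtain ⟨i, j⟩ := p
    by_cases hje : j = e
    · subst hje; simp [pt, sv]
    · have h := congrFun (hYC j l x) i
      simp [hY, hje] at h
      simp [pt, sv, hje, h, mul_comm]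
  choose β hβ using hyz
  -- every correction is scalar
  have hβs : ∀ m, ∃ c : F, β m = c • α := by
    intro m
    by_cases hm : m = e
    · subst hm
      refine ⟨1 - C m m, Matrix.ext_of_mulVec_single fun q => funext fun i => ?_⟩
      have h := congrFun (hβ m (Pi.single q 1)) (i, m)
      rw [hα] at h
      simp [pt, sv] at h
      simp [smul_mulVec]
      linear_combination -h
    obtain ⟨l, hle, hlm⟩ : ∃ l, l ≠ e ∧ l ≠ m := by
      obtain ⟨p, q, hp, hq, hpq⟩ := hb
      by_cases hpm : p = m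
      · exact ⟨q, hq, fun h => hpq (hpm.trans h.symm)⟩
      · exact ⟨p, hp, hpm⟩
    have hd : (sv l : Fin b → F) ⬝ᵥ sv m = 0 := by simp [sv, hlm]
    have hd' : (Ψ l) ⬝ᵥ (fun j => C j m) = 0 := by
      rw [show Ψ l ⬝ᵥ (fun j => C j m) = (Ψ * C) l m from rfl, hC', Matrix.one_apply_ne hlm]
    obtain ⟨P, hP⟩ : ∃ P, P = (rootB a (fun j => C j m) (Ψ l) hd')⁻¹ *
        (y * rootB a (sv m) (sv l) hd * y⁻¹) := ⟨_, rfl⟩
    have hPM : P ∈ M :=
      hP ▸ M.mul_mem (M.inv_mem (hroot _ _ hd')) (M.mul_mem (M.mul_mem hy (hroot _ _ hd)) (M.inv_mem hy))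
    have hΨle : Ψ l e = 0 := by rw [hΨ]; simp [hle, hψe]
    have hΨC : ∀ j, Ψ l ⬝ᵥ (fun j' => C j' j) = if l = j then 1 else 0 := fun j => by
      rw [show Ψ l ⬝ᵥ (fun j' => C j' j) = (Ψ * C) l j from rfl, hC', Matrix.one_apply]
    have hsle : ∀ x : Fin a → F, sl (Ψ l) (pt x (sv e)) = 0 := fun x => by
      rw [sl_pt, dotProduct_single, mul_one, hΨle, zero_smul]
    have hsly : ∀ z, sl (Ψ l) (y.val *ᵥ z) = α *ᵥ fun i => z (i, l) := by
      intro z
      conv_lhs => rw [eq_sum_pt z, mulVec_sum, map_sum]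
      rw [Finset.sum_eq_single l (fun j _ hj => ?_) (by simp)]
      · rw [show (Pi.single l 1 : Fin b → F) = sv l from rfl, hβ, map_add, hsle, add_zero, sl_pt, hΨC, if_pos rfl,
          one_smul]
      · rw [show (Pi.single j 1 : Fin b → F) = sv j from rfl, hβ, map_add, hsle, add_zero, sl_pt, hΨC,
          if_neg (Ne.symm hj), zero_smul]
    have hcalc : ∀ z, P.val *ᵥ (y.val *ᵥ z) = y.val *ᵥ z + pt (β m *ᵥ fun i => z (i, l)) (sv e) := by
      intro z
      refine mulVec_injective (rootB a (fun j => C j m) (Ψ l) hd') ?_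
      simp only
      rw [hP, Transvec.mul_mulVec (rootB a (fun j => C j m) (Ψ l) hd')⁻¹, Transvec.mulVec_inv_cancel,
        rootB_mulVec, map_add, hsle, add_zero, hsly, Transvec.mul_mulVec, Transvec.inv_mulVec_cancel,
        Transvec.mul_mulVec, rootB_mulVec, mulVec_add, sl_single, hβ]
      abel
    obtain ⟨N, hN0, hN⟩ := exists_elG (e := e) (g := P) (fun x => by
        obtain ⟨x', rfl⟩ := hαsurj x
        rw [← hα, hcalc, add_eq_left, ← pt_zero_left (a := a) (sv e)]
        congr 1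
        rw [show (fun i => pt x' (sv e) (i, l)) = (0 : Fin a → F) from funext fun i => by simp [pt, sv, hle],
          mulVec_zero])
      (fun v => ⟨β m *ᵥ fun i => (y⁻¹.val *ᵥ v) (i, l), by
        conv_lhs => rw [← Transvec.mulVec_inv_cancel y v]
        rw [hcalc]; abel⟩)
    choose c hc using hscal N hN0 (hN ▸ hPM)
    refine ⟨∑ j, Function.update c e 0 j * C j l, Matrix.ext_of_mulVec_single fun q => ?_⟩
    have h := hcalc (pt (Pi.single q 1) (sv l))
    rw [hN, elG_mulVec, add_right_inj] at h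
    have h1 : (fun i => pt (Pi.single q (1 : F)) (sv l) (i, l)) = (Pi.single q 1 : Fin a → F) :=
      funext fun i => by simp [pt, sv]
    rw [h1] at h
    have h2 : ∀ u w : Fin a → F, pt u (sv e) = pt w (sv e) → u = w := fun u w he => funext fun i => by
      simpa [pt, sv] using congrFun he (i, e)
    rw [← h2 _ _ h, smul_mulVec, Finset.sum_smul]
    refine Finset.sum_congr rfl fun j _ => ?_
    rw [hc j, smul_mulVec, one_mulVec]
    by_cases hje : j = e
    · subst hje
      have h0 := congrFun (congrFun (hc j) ⟨0, ha⟩) ⟨0, ha⟩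
      rw [hN0] at h0
      simp at h0
      simp [← h0]
    · rw [Function.update_of_ne hje, hβ]
      funext i
      simp [pt, sv, hje]
      ring
  choose d hd using hβs
  obtain ⟨B, hB⟩ : ∃ B : Matrix (Fin b) (Fin b) F, B = fun j l => C j l + if j = e then d l else 0 := ⟨_, rfl⟩
  have hyAB : y.val = α ⊗ₖ B := by
    refine Matrix.ext_of_mulVec_single fun q => ?_
    rw [show (Pi.single q 1 : Fin a × Fin b → F) = pt (Pi.single q.1 1) (sv q.2) from funext fun p => by
      obtain ⟨i, j⟩ := p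
      by_cases h1 : i = q.1 <;> by_cases h2 : j = q.2 <;> simp [pt, sv, Pi.single_apply, Prod.ext_iff, h1, h2]]
    rw [show (α ⊗ₖ B) *ᵥ pt (Pi.single q.1 1) (sv q.2) = pt (α *ᵥ Pi.single q.1 1) (B *ᵥ sv q.2) from
      TensorRefine.kronecker_mulVec _ _ _ _, hβ, hd, smul_mulVec, pt_smul_left, ← pt_smul_right, ← pt_add_right]
    congr 1
    funext j
    rw [show B *ᵥ sv q.2 = B.col q.2 from Matrix.mulVec_single_one B q.2, Matrix.col_apply]
    by_cases hje : j = e <;> simp [sv, hB, hje]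
  have hdet := y.isUnit.map (Matrix.detMonoidHom)
  change IsUnit y.val.det at hdet
  rw [hyAB, det_kronecker, Fintype.card_fin, Fintype.card_fin] at hdet
  have hA : IsUnit α := (Matrix.isUnit_iff_isUnit_det α).mpr
    ((isUnit_pow_iff (fun h => by have := e.2; omega)).mp (IsUnit.mul_iff.mp hdet).1)
  have hBu : IsUnit B := (Matrix.isUnit_iff_isUnit_det B).mpr
    ((isUnit_pow_iff ha.ne').mp (IsUnit.mul_iff.mp hdet).2)
  exact hk ⟨hA.unit, hBu.unit, hyAB⟩

end CfsgLib.Classical22.TensorMax
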