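/-
A space of square matrices stable under elementary conjugations containing a non-scalar contains all
off-diagonal matrix units.
-/
import Mathlib

set_option autoImplicit false

namespace CfsgLib.Classical22.TensorMax

open Matrix

variable {F : Type*} [Field F] {a : ℕ} {Z : Submodule F (Matrix (Fin a) (Fin a) F)}

/-- The change of `X` under conjugation by `1 + s E_ij`. -/
lemma conj_sub (i j : Fin a) (s : F) (X : Matrix (Fin a) (Fin a) F) :
    (1 + single i j s) * X * (1 - single i j s) - X =
      (single i j s * X - X * single i j s) - single i j (s * X j i * s) := by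
  rw [← single_mul_mul_single]
  noncomm_ring

theorem offdiag_mem (hq : (∃ t : F, t ≠ 0 ∧ t ≠ 1) ∨ 3 ≤ a)
    (hconj : ∀ X ∈ Z, ∀ i j : Fin a, i ≠ j → ∀ s : F, (1 + single i j s) * X * (1 - single i j s) ∈ Z)
    {X₀ : Matrix (Fin a) (Fin a) F} (hX₀ : X₀ ∈ Z) (hns : ¬ ∃ c : F, X₀ = c • 1)
    {i j : Fin a} (hij : i ≠ j) : single i j (1 : F) ∈ Z := by
  classical
  have hdiff : ∀ X ∈ Z, ∀ k l : Fin a, k ≠ l → ∀ s : F,
      (single k l s * X - X * single k l s) - single k l (s * X l k * s) ∈ Z := fun X hX k l h s => by
    rw [← conj_sub]; exact Z.sub_mem (hconj X hX k l h s) hX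
  have hscale : ∀ k l : Fin a, ∀ c : F, c ≠ 0 → single k l c ∈ Z → single k l (1 : F) ∈ Z :=
    fun k l c hc h => by simpa [smul_single, hc] using Z.smul_mem c⁻¹ h
  -- an entry gives the opposite unit
  have hentry : (∃ t : F, t ≠ 0 ∧ t ≠ 1) → ∀ X ∈ Z, ∀ k l : Fin a, k ≠ l → X l k ≠ 0 → single k l (1 : F) ∈ Z := by
    rintro ⟨t, ht0, ht1⟩ X hX k l hkl hne
    refine hscale k l (X l k * (t - 1)) (mul_ne_zero hne (sub_ne_zero.mpr ht1)) ?_
    have h1 := hdiff X hX k l hkl 1
    have h2 := Z.smul_mem t⁻¹ (hdiff X hX k l hkl t)
    have e : single k l (X l k * (t - 1)) =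
        ((single k l (1 : F) * X - X * single k l 1) - single k l (1 * X l k * 1)) -
          t⁻¹ • ((single k l t * X - X * single k l t) - single k l (t * X l k * t)) := by
      have et : single k l t = t • single k l (1 : F) := by simp [smul_single]
      rw [smul_sub, smul_sub, et, Matrix.smul_mul, Matrix.mul_smul, inv_smul_smul₀ ht0, inv_smul_smul₀ ht0,
        smul_single, smul_eq_mul, show t⁻¹ * (t * X l k * t) = X l k * t by field_simp, one_mul, mul_one,
        mul_sub, mul_one]
      rw [show single k l (X l k * t - X l k) = single k l (X l k * t) - single k l (X l k) from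
        map_sub (singleAddMonoidHom k l) _ _]
      abel
    rw [e]
    exact Z.sub_mem h1 h2
  -- a unit spreads
  have hrow : ∀ k l m : Fin a, k ≠ l → m ≠ l → m ≠ k → single k l (1 : F) ∈ Z → single m l (1 : F) ∈ Z := by
    intro k l m hkl hml hmk h
    have := hdiff _ h m k hmk 1
    simpa [single_mul_single_of_ne, single_mul_single_same, Ne.symm hml, hkl, Ne.symm hkl, hmk, Ne.symm hmk,
      single_apply, hml] using this
  have hcol : ∀ k l m : Fin a, k ≠ l → m ≠ l → m ≠ k → single k l (1 : F) ∈ Z → single k m (1 : F) ∈ Z := by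
    intro k l m hkl hml hmk h
    have := hdiff _ h l m (Ne.symm hml) 1
    have hneg : -single k m (1 : F) ∈ Z := by
      simpa [single_mul_single_of_ne, single_mul_single_same, Ne.symm hml, hkl, Ne.symm hkl, hmk, Ne.symm hmk,
        single_apply, hml] using this
    simpa using Z.neg_mem hneg
  -- one unit
  obtain ⟨k, l, hkl, h⟩ : ∃ k l : Fin a, k ≠ l ∧ single k l (1 : F) ∈ Z := by
    by_cases hdiag : ∀ k l : Fin a, k ≠ l → X₀ l k = 0
    · obtain ⟨k, l, hne⟩ : ∃ k l : Fin a, X₀ k k ≠ X₀ l l := by
        by_contra h
        push Not at h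
        rcases Nat.eq_zero_or_pos a with ha | ha
        · exact (ha ▸ i : Fin 0).elim0
        refine hns ⟨X₀ ⟨0, ha⟩ ⟨0, ha⟩, Matrix.ext fun x y => ?_⟩
        by_cases hxy : x = y
        · subst hxy; simp [h x ⟨0, ha⟩]
        · simp [hdiag y x (Ne.symm hxy), hxy]
      have hkl : k ≠ l := fun e => hne (by rw [e])
      refine ⟨k, l, hkl, hscale k l (X₀ l l - X₀ k k) (sub_ne_zero.mpr (Ne.symm hne)) ?_⟩
      have h1 := hdiff X₀ hX₀ k l hkl 1
      have e : single k l (1 : F) * X₀ - X₀ * single k l 1 - single k l (1 * X₀ l k * 1) =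
          single k l (X₀ l l - X₀ k k) := by
        ext x y
        rw [hdiag k l hkl]
        simp only [Matrix.sub_apply, mul_zero, zero_mul, Matrix.single_zero, Matrix.zero_apply, sub_zero]
        by_cases hx : x = k
        · subst hx
          by_cases hy : y = l
          · subst hy; simp
          · simp [hy, hdiag y l hy]
            simp [Ne.symm hy]
        · by_cases hy : y = l
          · subst hy; simp [hx, single_apply, Ne.symm hx, hdiag k x (Ne.symm hx)]
          · simp [hx, hy, single_apply, Ne.symm hx, Ne.symm hy]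
      rwa [e] at h1
    push Not at hdiag
    obtain ⟨k, m, hkm, hmk⟩ := hdiag
    by_cases ht : ∃ t : F, t ≠ 0 ∧ t ≠ 1
    · exact ⟨k, m, hkm, hentry ht X₀ hX₀ k m hkm hmk⟩
    have ha3 := hq.resolve_left ht
    have h2 : ∀ t : F, t = 0 ∨ t = 1 := fun t => by
      by_contra hh; push Not at hh; exact ht ⟨t, hh⟩
    obtain ⟨y, hy⟩ : ∃ y : Fin a, y ∉ ({k, m} : Finset (Fin a)) := by
      by_contra hh
      push Not at hh
      have := Finset.card_le_card (fun x _ => hh x : Finset.univ ⊆ ({k, m} : Finset (Fin a)))
      have := Finset.card_le_two (a := k) (b := m)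
      rw [Finset.card_univ, Fintype.card_fin] at *
      omega
    simp only [Finset.mem_insert, Finset.mem_singleton, not_or] at hy
    -- a matrix with one of two entries in column `k` zero and the other one
    obtain ⟨X, hX, hX1, hX0⟩ : ∃ X ∈ Z, ∃ _ : X m k = 1, X y k = 0 := by
      have h1 : X₀ m k = 1 := (h2 _).resolve_left hmk
      rcases h2 (X₀ y k) with h0 | h0
      · exact ⟨X₀, hX₀, h1, h0⟩
      · refine ⟨_, hconj X₀ hX₀ y m hy.2 1, ?_, ?_⟩
        · simp [mul_sub, add_mul, single_mul_apply_same, single_mul_apply_of_ne, mul_single_apply_of_ne,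
            Ne.symm hkm, hkm, hy.2, Ne.symm hy.2, h1, single_apply]
        · have h11 : (1 : F) + 1 = 0 := (h2 _).resolve_right (fun e => one_ne_zero (by linear_combination e))
          simp [mul_sub, add_mul, single_mul_apply_same, mul_single_apply_of_ne, hy.1, Ne.symm hy.1, hkm, h1, h0,
            h11, single_apply]
          exact fun e => absurd e.symm hkm
    have hD := hdiff X hX k y (Ne.symm hy.1) 1
    have hD' := hdiff _ hD k m hkm 1
    refine ⟨k, y, Ne.symm hy.1, ?_⟩
    have hneg : -single k y (1 : F) ∈ Z := by
      convert hD' using 1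
      have e1 : single k m (1 : F) * single k y 1 = 0 := by
        simp [single_mul_single_of_ne, Ne.symm hkm]
      have e2 : single k y (1 : F) * single k m 1 = 0 := by
        simp [single_mul_single_of_ne, hy.1]
      have e3 : single k m (1 : F) * X * single k y 1 = single k y 1 := by
        rw [single_mul_mul_single, hX1]; simp
      have e4 : single k y (1 : F) * X * single k m 1 = 0 := by
        rw [single_mul_mul_single, hX0]; simp
      have e5 : (single k y (1 : F) * X - X * single k y 1 - single k y (1 * X y k * 1) :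
          Matrix (Fin a) (Fin a) F) m k = 0 := by
        simp [hX0, mul_single_apply_of_ne, Ne.symm hy.1, single_apply, Ne.symm hkm, hkm]
      rw [e5, hX0]
      simp only [mul_zero, zero_mul, Matrix.single_zero, sub_zero, mul_sub, sub_mul, ← mul_assoc, e1, e4, e3]
      rw [mul_assoc X (single k y 1), e2, mul_zero]
      simp
    simpa using Z.neg_mem hneg
  -- spreading
  by_cases ht : ∃ t : F, t ≠ 0 ∧ t ≠ 1
  · have hswap : single l k (1 : F) ∈ Z := hentry ht _ h l k hkl.symm (by simp)
    by_cases hli : j = l
    · subst hli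
      by_cases hik : i = k
      · exact hik ▸ h
      · exact hrow k j i hkl hij hik h
    · by_cases hjk : j = k
      · subst hjk
        by_cases hil : i = l
        · exact hil ▸ hswap
        · exact hrow l j i hkl.symm hij hil hswap
      · have h1 := hcol k l j hkl hli hjk h
        by_cases hik : i = k
        · exact hik ▸ h1
        · exact hrow k j i (Ne.symm hjk) hij hik h1
  · have ha3 := hq.resolve_left ht
    by_cases hjk : j = k
    · obtain ⟨o, ho⟩ : ∃ o : Fin a, o ∉ ({k, l} : Finset (Fin a)) := by
        by_contra hh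
        push Not at hh
        have := Finset.card_le_card (fun x _ => hh x : Finset.univ ⊆ ({k, l} : Finset (Fin a)))
        have := Finset.card_le_two (a := k) (b := l)
        rw [Finset.card_univ, Fintype.card_fin] at *
        omega
      simp only [Finset.mem_insert, Finset.mem_singleton, not_or] at ho
      subst hjk
      have h1 := hrow j l o hkl ho.2 ho.1 h
      have h2 := hcol o l j ho.2 hkl (Ne.symm ho.1) h1
      by_cases hio : i = o
      · exact hio ▸ h2
      · exact hrow o j i ho.1 hij hio h2
    · by_cases hli : j = l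
      · subst hli
        by_cases hik : i = k
        · exact hik ▸ h
        · exact hrow k j i hkl hij hik h
      · have h1 := hcol k l j hkl hli hjk h
        by_cases hik : i = k
        · exact hik ▸ h1
        · exact hrow k j i (Ne.symm hjk) hij hik h1

end CfsgLib.Classical22.TensorMax
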