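/-
If the only elements fixing a pure residue space lie in the tensor stabiliser, all residue spaces are pure.
-/
import Cfsg.Agent.Lib.Classical22.TensorMaxBase

set_option autoImplicit false

namespace CfsgLib.Classical22.TensorMax

open Matrix CfsgLib.Transvec
open scoped MatrixGroups

variable {F : Type*} [Field F] {a b : ℕ}

/-- The data of a tensor stabiliser `H` inside `M` with root elements centred at the good vectors. -/
structure Setup (M H : Subgroup (GL (Fin a × Fin b) F)) (Good : (Fin b → F) → Prop)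
    (Ax : (Fin b → F) → (Fin b → F) → Prop) : Prop where
  pos : 0 < a
  lt : a < b
  le : H ≤ M
  kron : ∀ h ∈ H, IsKron h
  ne : ∀ u, Good u → u ≠ 0
  axis : ∀ u φ, Ax u φ → φ ⬝ᵥ u = 0 ∧ φ ≠ 0
  root : ∀ u φ, Ax u φ → ∀ h : φ ⬝ᵥ u = 0, rootB a u φ h ∈ H
  good : ∀ u φ, Ax u φ → Good u
  trans : ∀ u u', Good u → Good u' → ∃ h ∈ H, img h (pureW a u) = pureW a u'
  back : ∀ g ∈ M, ∀ u u', Good u → u' ≠ 0 → img g (pureW a u) = pureW a u' → Good u'

variable {M H : Subgroup (GL (Fin a × Fin b) F)} {Good : (Fin b → F) → Prop}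
  {Ax : (Fin b → F) → (Fin b → F) → Prop}

/-- The elements of `M` fixing a good pure subspace lie in `H`. -/
def Tight (M H : Subgroup (GL (Fin a × Fin b) F)) (Good : (Fin b → F) → Prop) : Prop :=
  ∀ u, Good u → ∀ g ∈ M, img g (pureW a u) = pureW a u → g ∈ H

/-- A root element fixing the image of a pure subspace forces that image to be pure. -/
theorem pure_of_fixed (S : Setup M H Good Ax) (ht : Tight M H Good) {g : GL (Fin a × Fin b) F} (hg : g ∈ M)
    {u₁ u φ : Fin b → F} (h₁ : Good u₁) (hA : Ax u φ) (hd : φ ⬝ᵥ u = 0)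
    (hfix : img (rootB a u φ hd) (img g (pureW a u₁)) = img g (pureW a u₁)) :
    ∃ u', Good u' ∧ img g (pureW a u₁) = pureW a u' := by
  have hX := S.le (S.root u φ hA hd)
  obtain ⟨Y, hY⟩ : ∃ Y, Y = g⁻¹ * rootB a u φ hd * g := ⟨_, rfl⟩
  have hYfix : img Y (pureW a u₁) = pureW a u₁ := by
    rw [hY, img_mul, img_mul, hfix, img_inv_img]
  have hYH : Y ∈ H := ht u₁ h₁ Y (hY ▸ M.mul_mem (M.mul_mem (M.inv_mem hg) hX) hg) hYfix
  have hmove : move Y = img g⁻¹ (pureW a u) := by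
    have h := move_conj g⁻¹ (rootB a u φ hd)
    rwa [inv_inv, ← hY, move_rootB hd (S.axis u φ hA).2] at h
  have hu0 := S.ne u (S.good u φ hA)
  have hY1 : Y ≠ 1 := by
    intro h
    have h1 : rootB a u φ hd = 1 := by
      have := congrArg (fun z => g * z * g⁻¹) (hY.symm.trans h)
      simpa [mul_assoc] using this
    have h2 := move_rootB (a := a) hd (S.axis u φ hA).2
    have h3 := finrank_pureW (a := a) hu0
    rw [← h2, h1] at h3
    have h4 : move (1 : GL (Fin a × Fin b) F) = ⊥ := by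
      rw [eq_bot_iff]
      intro v hv
      obtain ⟨w, rfl⟩ := mem_move.mp hv
      simp
    rw [h4, finrank_bot] at h3
    have := S.pos
    omega
  obtain ⟨u₂, hu₂, hW⟩ := move_kron S.lt (S.kron Y hYH) hY1
    (by rw [hmove, finrank_img, finrank_pureW hu0])
  rw [hmove] at hW
  have hgood₂ := S.back _ (M.inv_mem hg) u u₂ (S.good u φ hA) hu₂ hW
  have hgW : img g (pureW a u₂) = pureW a u := by
    rw [← hW, ← img_mul, mul_inv_cancel, img_one]
  obtain ⟨h1, hh1, he1⟩ := S.trans u₁ u₂ h₁ hgood₂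
  obtain ⟨h2, hh2, he2⟩ := S.trans u u₁ (S.good u φ hA) h₁
  have hmem : h2 * g * h1 ∈ H := by
    refine ht u₁ h₁ _ (M.mul_mem (M.mul_mem (S.le hh2) hg) (S.le hh1)) ?_
    rw [img_mul, img_mul, he1, hgW, he2]
  have hgH : g ∈ H := by
    have := H.mul_mem (H.mul_mem (H.inv_mem hh2) hmem) (H.inv_mem hh1)
    simpa [mul_assoc] using this
  obtain ⟨u', hu', he⟩ := img_pureW_of_isKron (S.kron g hgH) (S.ne u₁ h₁)
  exact ⟨u', S.back g hg u₁ u' h₁ hu' he, he⟩

/-- A weaker tightness: conjugates of root elements fixing a good pure subspace lie in `H`. -/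
def RootTight (M H : Subgroup (GL (Fin a × Fin b) F)) (Good : (Fin b → F) → Prop)
    (Ax : (Fin b → F) → (Fin b → F) → Prop) : Prop :=
  ∀ c φ, Ax c φ → ∀ hd : φ ⬝ᵥ c = 0, ∀ x ∈ M, ∀ u, Good u →
    img (x * rootB a c φ hd * x⁻¹) (pureW a u) = pureW a u → x * rootB a c φ hd * x⁻¹ ∈ H

/-- With orthogonality carried back, root tightness suffices for the conclusion of `pure_of_fixed`. -/
theorem pure_of_root_fixed (S : Setup M H Good Ax) (ht : RootTight M H Good Ax)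
    (hsym : ∀ g ∈ M, ∀ u₁ u₂, Good u₁ → Good u₂ → ∀ c φ, Ax c φ → img g (pureW a u₂) = pureW a c →
      (∀ w ∈ img g (pureW a u₁), sl φ w = 0) → ∃ φ₁, Ax u₁ φ₁ ∧ φ₁ ⬝ᵥ u₂ = 0)
    {g : GL (Fin a × Fin b) F} (hg : g ∈ M) {u₁ u φ : Fin b → F} (h₁ : Good u₁) (hA : Ax u φ) (hd : φ ⬝ᵥ u = 0)
    (hfix : img (rootB a u φ hd) (img g (pureW a u₁)) = img g (pureW a u₁)) :
    ∃ u', Good u' ∧ img g (pureW a u₁) = pureW a u' := by
  have conj_pure : ∀ {x : GL (Fin a × Fin b) F}, x ∈ M → ∀ {c ψ : Fin b → F} (hc : Ax c ψ) (hcd : ψ ⬝ᵥ c = 0),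
      ∀ {v}, Good v → img (x * rootB a c ψ hcd * x⁻¹) (pureW a v) = pureW a v →
      ∃ c', Good c' ∧ img x (pureW a c) = pureW a c' := by
    intro x hx c ψ hc hcd v hv hf
    have hH := ht c ψ hc hcd x hx v hv hf
    have hm := move_conj x (rootB a c ψ hcd)
    rw [move_rootB hcd (S.axis c ψ hc).2] at hm
    have hc0 := S.ne c (S.good c ψ hc)
    have hne : x * rootB a c ψ hcd * x⁻¹ ≠ 1 := fun h => by
      have h4 : move (1 : GL (Fin a × Fin b) F) = ⊥ := by
        rw [eq_bot_iff]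
        intro v hv
        obtain ⟨w, rfl⟩ := mem_move.mp hv
        simp
      rw [h, h4] at hm
      have h3 := finrank_img x (pureW a c)
      rw [← hm, finrank_bot, finrank_pureW hc0] at h3
      have := S.pos
      omega
    obtain ⟨c', hc', he⟩ := move_kron S.lt (S.kron _ hH) hne (by rw [hm, finrank_img, finrank_pureW hc0])
    rw [hm] at he
    exact ⟨c', S.back x hx c c' (S.good c ψ hc) hc' he, he⟩
  obtain ⟨u₂, hu₂, hW⟩ := conj_pure (M.inv_mem hg) hA hd h₁ (by rw [inv_inv, img_mul, img_mul, hfix, img_inv_img])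
  have hgW : img g (pureW a u₂) = pureW a u := by rw [← hW, ← img_mul, mul_inv_cancel, img_one]
  by_cases heq : pureW a u₁ = pureW a u₂
  · exact ⟨u, S.good u φ hA, by rw [heq, hgW]⟩
  have hkill : ∀ w ∈ img g (pureW a u₁), sl φ w = 0 := by
    intro w hw
    obtain ⟨z, hz, hzw⟩ := mem_img.mp (show pt (sl φ w) u ∈ img g (pureW a u₁) by
      have h : (rootB a u φ hd).val *ᵥ w ∈ img g (pureW a u₁) := hfix ▸ mem_img.mpr ⟨w, hw, rfl⟩
      have h' := Submodule.sub_mem _ h hw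
      rwa [rootB_mulVec, add_sub_cancel_left] at h')
    obtain ⟨z', hz', hzw'⟩ := mem_img.mp (show pt (sl φ w) u ∈ img g (pureW a u₂) by
      rw [hgW]; exact pt_mem_pureW _ _)
    obtain rfl : z' = z := mulVec_injective g (hzw'.trans hzw.symm)
    obtain ⟨x₁, hx₁⟩ := hz
    obtain ⟨x₂, hx₂⟩ := hz'
    by_contra hne
    have hz0 : z' ≠ 0 := fun h => hne (pt_eq_zero (S.ne u (S.good u φ hA)) (by rw [← hzw, h, mulVec_zero]))
    exact heq (pureW_eq_of_common hx₁ hx₂ hz0 (S.ne u₁ h₁) (S.ne u₂ hu₂))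
  obtain ⟨φ₁, hA₁, h12⟩ := hsym g hg u₁ u₂ h₁ hu₂ u φ hA hgW hkill
  obtain ⟨hd₁, -⟩ := S.axis u₁ φ₁ hA₁
  refine conj_pure hg hA₁ hd₁ (S.good u φ hA) ?_
  have hg' : img g⁻¹ (pureW a u) = pureW a u₂ := by rw [← hgW, img_inv_img]
  rw [img_mul, img_mul, hg']
  rw [show img (rootB a u₁ φ₁ hd₁) (pureW a u₂) = pureW a u₂ from ?_, hgW]
  refine Submodule.eq_of_le_of_finrank_eq (fun v hv => ?_) (finrank_img _ _)
  obtain ⟨_, ⟨y, rfl⟩, rfl⟩ := mem_img.mp hv
  rw [ptL_apply, rootB_mulVec, sl_pt, h12, zero_smul, pt_zero_left, add_zero]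
  exact pt_mem_pureW _ _

/-- All images of good pure subspaces are pure, given root elements killing a prescribed vector. -/
theorem pure_of_hfixed (S : Setup M H Good Ax)
    (hfixed : ∀ {g : GL (Fin a × Fin b) F}, g ∈ M → ∀ {u₁ u φ : Fin b → F}, Good u₁ → Ax u φ →
      ∀ hd : φ ⬝ᵥ u = 0, img (rootB a u φ hd) (img g (pureW a u₁)) = img g (pureW a u₁) →
      ∃ u', Good u' ∧ img g (pureW a u₁) = pureW a u')
    (hbase : ∀ u₁, Good u₁ → ∀ g ∈ M, (¬ ∃ u', Good u' ∧ img g (pureW a u₁) = pureW a u') →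
      ∃ w ∈ img g (pureW a u₁), w ≠ 0 ∧ ∃ u φ, Ax u φ ∧ sl φ w = 0)
    (hstep : ∀ u₁, Good u₁ → ∀ D : Submodule F (Fin a → F), D ≠ ⊥ → ∀ w,
      ∃ u φ, Ax u φ ∧ φ ⬝ᵥ u₁ = 0 ∧ (sl φ w = 0 ∨ (u = u₁ ∧ sl φ w ∈ D)))
    {g : GL (Fin a × Fin b) F} (hg : g ∈ M) {u₁ : Fin b → F} (h₁ : Good u₁) :
    ∃ u', Good u' ∧ img g (pureW a u₁) = pureW a u' := by
  classical
  by_contra hnp
  -- distinct members meet trivially
  have hdisj : ∀ k : ℕ, ∀ x ∈ M, ∀ u, Good u → (¬ ∃ u', Good u' ∧ img x (pureW a u) = pureW a u') →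
      ∀ v, Good v → a ≤ Module.finrank F ↥(img x (pureW a u) ⊓ pureW a v) + k →
      img x (pureW a u) ⊓ pureW a v = ⊥ := by
    intro k
    induction k with
    | zero =>
      intro x hx u hu hnpx v hv hk
      exfalso
      refine hnpx ⟨v, hv, Submodule.eq_of_le_of_finrank_eq ?_ ?_⟩
      · refine le_of_eq_of_le (Submodule.eq_of_le_of_finrank_le inf_le_left ?_).symm inf_le_right
        rw [finrank_img, finrank_pureW (S.ne u hu)]; omega
      · rw [finrank_img, finrank_pureW (S.ne u hu), finrank_pureW (S.ne v hv)]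
    | succ k ih =>
      intro x hx u hu hnpx v hv hk
      by_contra hne
      obtain ⟨W', hW'⟩ : ∃ W', W' = img x (pureW a u) := ⟨_, rfl⟩
      obtain ⟨D, hD⟩ : ∃ D : Submodule F (Fin a → F), D = Submodule.comap (ptL v) W' := ⟨_, rfl⟩
      have hDne : D ≠ ⊥ := by
        obtain ⟨z, hz, hz0⟩ := Submodule.exists_mem_ne_zero_of_ne_bot hne
        obtain ⟨hz1, ⟨y, rfl⟩⟩ := Submodule.mem_inf.mp hz
        intro h
        have hy : y ∈ D := by rw [hD, hW']; exact hz1
        rw [h, Submodule.mem_bot] at hy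
        exact hz0 (by rw [hy, map_zero])
      obtain ⟨w, hw, hwn⟩ : ∃ w ∈ W', w ∉ pureW a v := by
        by_contra h
        push Not at h
        refine hnpx ⟨v, hv, Submodule.eq_of_le_of_finrank_eq (hW' ▸ h) ?_⟩
        rw [finrank_img, finrank_pureW (S.ne u hu), finrank_pureW (S.ne v hv)]
      obtain ⟨c, φ, hA, hv0, hc⟩ := hstep v hv D hDne w
      obtain ⟨hd, -⟩ := S.axis c φ hA
      obtain ⟨X, hXdef⟩ : ∃ X, X = rootB a c φ hd := ⟨_, rfl⟩
      have hX : X ∈ M := hXdef ▸ S.le (S.root c φ hA hd)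
      have hXW : img X W' ≠ W' := fun h => hnpx (by
        rw [hW', hXdef] at h
        exact hfixed hx hu hA hd h)
      have hfix : ∀ z ∈ pureW a v, X.val *ᵥ z = z := by
        rintro _ ⟨y, rfl⟩
        rw [hXdef, rootB_mulVec, ptL_apply, sl_pt, hv0, zero_smul, pt_zero_left, add_zero]
      obtain ⟨E, hE⟩ : ∃ E, E = W' ⊓ pureW a v := ⟨_, rfl⟩
      have hXw : X.val *ᵥ w ∈ W' := by
        rw [hXdef, rootB_mulVec]
        rcases hc with h | ⟨rfl, h⟩
        · rw [h, pt_zero_left, add_zero]; exact hw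
        · rw [hD] at h
          exact W'.add_mem hw h
      -- the larger intersection
      have hbig : E ⊔ Submodule.span F {X.val *ᵥ w} ≤ img X W' ⊓ W' := by
        refine sup_le (fun z hz => ?_) ((Submodule.span_singleton_le_iff_mem _ _).mpr
          ⟨mem_img.mpr ⟨w, hw, rfl⟩, hXw⟩)
        rw [hE] at hz
        exact ⟨mem_img.mpr ⟨z, hz.1, hfix z hz.2⟩, hz.1⟩
      have hlt : E < E ⊔ Submodule.span F {X.val *ᵥ w} := by
        refine lt_of_le_of_ne le_sup_left fun h => hwn ?_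
        have h1 : X.val *ᵥ w ∈ E := by
          rw [h]; exact Submodule.mem_sup_right (Submodule.mem_span_singleton_self _)
        rw [hE] at h1
        have h2 : X.val *ᵥ (X.val *ᵥ w) = X.val *ᵥ w := hfix _ h1.2
        rw [← mulVec_injective X h2]
        exact h1.2
      -- translate W' to a pure subspace
      have himg : img x⁻¹ (img X W' ⊓ W') = img (x⁻¹ * X * x) (pureW a u) ⊓ pureW a u := by
        rw [img, Submodule.map_inf _ (fun _ _ h => mulVec_injective x⁻¹ h)]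
        change img x⁻¹ (img X W') ⊓ img x⁻¹ W' = _
        rw [hW', img_inv_img, ← img_mul, ← img_mul]
      have hM' : x⁻¹ * X * x ∈ M := M.mul_mem (M.mul_mem (M.inv_mem hx) hX) hx
      have hE1 : 0 < Module.finrank F E := by
        rw [Nat.pos_iff_ne_zero, Ne, Submodule.finrank_eq_zero, hE, hW']; exact hne
      have hsz : Module.finrank F E < Module.finrank F
          ↥(img (x⁻¹ * X * x) (pureW a u) ⊓ pureW a u) := by
        rw [← himg, finrank_img]
        exact lt_of_lt_of_le (Submodule.finrank_lt_finrank_of_lt hlt) (Submodule.finrank_mono hbig)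
      have hnp' : ¬ ∃ u', Good u' ∧ img (x⁻¹ * X * x) (pureW a u) = pureW a u' := by
        rintro ⟨u', hu', he⟩
        rw [he] at hsz
        obtain ⟨z, hz, hz0⟩ := Submodule.exists_mem_ne_zero_of_ne_bot
          (show pureW a u' ⊓ pureW a u ≠ ⊥ from fun h => by rw [h, finrank_bot] at hsz; omega)
        obtain ⟨⟨y', hy'⟩, ⟨y, hy⟩⟩ := Submodule.mem_inf.mp hz
        apply hXW
        have hee : pureW a u' = pureW a u := pureW_eq_of_common hy' hy hz0 (S.ne u' hu') (S.ne u hu)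
        rw [hee, img_mul, img_mul] at he
        calc img X W' = img x (img x⁻¹ (img X (img x (pureW a u)))) := by
              rw [← img_mul, mul_inv_cancel, img_one, hW']
          _ = W' := by rw [he, hW']
      have h0 := ih _ hM' u hu hnp' u hu (by rw [hE, hW'] at hsz; omega)
      rw [h0, finrank_bot] at hsz
      omega
  obtain ⟨w, hw, hw0, c, φ, hA, hc⟩ := hbase u₁ h₁ g hg hnp
  obtain ⟨hd, -⟩ := S.axis c φ hA
  obtain ⟨X, hXdef⟩ : ∃ X, X = rootB a c φ hd := ⟨_, rfl⟩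
  have hX : X ∈ M := hXdef ▸ S.le (S.root c φ hA hd)
  have hXw : X.val *ᵥ w = w := by rw [hXdef, rootB_mulVec, hc, pt_zero_left, add_zero]
  have hXW : img X (img g (pureW a u₁)) ≠ img g (pureW a u₁) := fun h => hnp (by
    rw [hXdef] at h
    exact hfixed hg h₁ hA hd h)
  have hmemA : g⁻¹.val *ᵥ w ∈ img (g⁻¹ * X * g) (pureW a u₁) ⊓ pureW a u₁ := by
    obtain ⟨z, hz, hzw⟩ := mem_img.mp hw
    have e : g⁻¹.val *ᵥ w = z := by rw [← hzw, mulVec_mulVec, Units.inv_mul, one_mulVec]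
    refine ⟨mem_img.mpr ⟨z, hz, ?_⟩, e ▸ hz⟩
    rw [Units.val_mul, Units.val_mul, ← mulVec_mulVec, ← mulVec_mulVec, hzw, hXw]
  have hne0 : g⁻¹.val *ᵥ w ≠ 0 := mulVec_ne_zero g⁻¹ hw0
  by_cases hp : ∃ u', Good u' ∧ img (g⁻¹ * X * g) (pureW a u₁) = pureW a u'
  · obtain ⟨u', hu', he⟩ := hp
    rw [he] at hmemA
    obtain ⟨⟨y', hy'⟩, ⟨y, hy⟩⟩ := Submodule.mem_inf.mp hmemA
    rw [pureW_eq_of_common hy' hy hne0 (S.ne u' hu') (S.ne u₁ h₁), img_mul, img_mul] at he
    refine hXW ?_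
    calc img X (img g (pureW a u₁)) = img g (img g⁻¹ (img X (img g (pureW a u₁)))) := by
          rw [← img_mul g, mul_inv_cancel, img_one]
      _ = _ := by rw [he]
  · have h0 := hdisj a _ (M.mul_mem (M.mul_mem (M.inv_mem hg) hX) hg) u₁ h₁ hp u₁ h₁ (Nat.le_add_left _ _)
    rw [h0, Submodule.mem_bot] at hmemA
    exact hne0 hmemA

/-- All images of good pure subspaces are pure when the fixers of good pure subspaces lie in `H`. -/
theorem pure_of_tight (S : Setup M H Good Ax) (ht : Tight M H Good)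
    (hbase : ∀ u₁, Good u₁ → ∀ g ∈ M, (¬ ∃ u', Good u' ∧ img g (pureW a u₁) = pureW a u') →
      ∃ w ∈ img g (pureW a u₁), w ≠ 0 ∧ ∃ u φ, Ax u φ ∧ sl φ w = 0)
    (hstep : ∀ u₁, Good u₁ → ∀ D : Submodule F (Fin a → F), D ≠ ⊥ → ∀ w,
      ∃ u φ, Ax u φ ∧ φ ⬝ᵥ u₁ = 0 ∧ (sl φ w = 0 ∨ (u = u₁ ∧ sl φ w ∈ D)))
    {g : GL (Fin a × Fin b) F} (hg : g ∈ M) {u₁ : Fin b → F} (h₁ : Good u₁) :
    ∃ u', Good u' ∧ img g (pureW a u₁) = pureW a u' :=
  pure_of_hfixed S (fun hg' _ _ _ h₁' hA hd hf => pure_of_fixed S ht hg' h₁' hA hd hf) hbase hstep hg h₁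

end CfsgLib.Classical22.TensorMax
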