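/-
A group between the tensor stabiliser in SL and SL is one of the two.
-/
import Cfsg.Agent.Lib.Classical22.TensorMaxResidue
import Cfsg.Agent.Lib.Classical22.TensorMaxMat
import Cfsg.Agent.Lib.Classical22.TensorMaxEl
import Cfsg.Agent.Lib.Classical.SLBasic

set_option autoImplicit false

namespace CfsgLib.Classical22.TensorMax

open Matrix Kronecker CfsgLib.Transvec
open scoped MatrixGroups

variable {F : Type*} [Field F] {a b : ℕ} {M : Subgroup (GL (Fin a × Fin b) F)}

/-- The tensor stabiliser inside SL. -/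
def kronSL (a b : ℕ) (F : Type*) [Field F] : Subgroup (GL (Fin a × Fin b) F) :=
  Cfsg.Geo.kroneckerSubgroup a b F ⊓ Cfsg.Geo.specialLinear (Fin a × Fin b) F

lemma rootB_mem {u φ : Fin b → F} (h : φ ⬝ᵥ u = 0) : rootB a u φ h ∈ kronSL a b F :=
  ⟨isKron_rootB h, (mem_specialLinear_iff _).mpr (det_rootB h)⟩

/-- An elementary transvection of the first factor. -/
noncomputable def rootA (b : ℕ) (i j : Fin a) (h : i ≠ j) (s : F) : GL (Fin a × Fin b) F where
  val := (1 + single i j s) ⊗ₖ (1 : Matrix (Fin b) (Fin b) F)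
  inv := (1 - single i j s) ⊗ₖ (1 : Matrix (Fin b) (Fin b) F)
  val_inv := by
    rw [← Matrix.mul_kronecker_mul, mul_one, mul_sub, mul_one, add_mul, one_mul,
      single_mul_single_of_ne (h := h.symm)]
    simp
  inv_val := by
    rw [← Matrix.mul_kronecker_mul, mul_one, mul_add, mul_one, sub_mul, one_mul,
      single_mul_single_of_ne (h := h.symm)]
    simp

lemma rootA_mem {i j : Fin a} (h : i ≠ j) (s : F) : rootA b i j h s ∈ kronSL a b F := by
  refine ⟨⟨⟨1 + single i j s, 1 - single i j s, ?_, ?_⟩, 1, rfl⟩, (mem_specialLinear_iff _).mpr ?_⟩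
  · rw [mul_sub, mul_one, add_mul, one_mul, single_mul_single_of_ne (h := h.symm)]; simp
  · rw [mul_add, mul_one, sub_mul, one_mul, single_mul_single_of_ne (h := h.symm)]; simp
  · change ((1 + single i j s) ⊗ₖ (1 : Matrix (Fin b) (Fin b) F)).det = 1
    rw [det_kronecker, det_one, one_pow, mul_one, show (1 + single i j s) = Matrix.transvection i j s from rfl,
      det_transvection_of_ne _ _ h, one_pow]

lemma elG_congr {e : Fin b} {N N' : Fin b → Matrix (Fin a) (Fin a) F} (h : N e = 0) (h' : N' e = 0) (he : N = N') :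
    elG e N h = elG e N' h' := by subst he; rfl

lemma elG_mul {e : Fin b} {N N' : Fin b → Matrix (Fin a) (Fin a) F} (h : N e = 0) (h' : N' e = 0) :
    elG e N h * elG e N' h' = elG e (N + N') (by simp [h, h']) := by
  refine ext_pt fun x j => ?_
  rw [Transvec.mul_mulVec, elG_pt, mulVec_add, elG_pt, elG_pt, elG_pt]
  rw [show (∑ l, sv e l • N l : Matrix (Fin a) (Fin a) F) = 0 by simp [sv, Pi.single_apply, h]]
  simp [smul_add, Finset.sum_add_distrib, add_mulVec, pt_add_left, pt_zero_left]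
  abel

lemma elG_inv {e : Fin b} {N : Fin b → Matrix (Fin a) (Fin a) F} (h : N e = 0) :
    (elG e N h)⁻¹ = elG e (-N) (by simp [h]) := by
  rw [inv_eq_iff_mul_eq_one, elG_mul]
  refine ext_pt fun x j => ?_
  rw [elG_pt, Units.val_one, one_mulVec]
  simp [pt_zero_left]

/-- Conjugation by a root element shifts the blocks. -/
lemma elG_shift {e p q : Fin b} {N : Fin b → Matrix (Fin a) (Fin a) F} (h : N e = 0) (hp : p ≠ e) (hq : q ≠ e)
    {c : F} (hd : Pi.single q c ⬝ᵥ (sv p : Fin b → F) = 0) :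
    (rootB a (sv p) (Pi.single q c) hd)⁻¹ * elG e N h * rootB a (sv p) (Pi.single q c) hd =
      elG e N h * elG e (Pi.single q (c • N p)) (by simp [Pi.single_eq_of_ne (Ne.symm hq)]) := by
  rw [mul_assoc, inv_mul_eq_iff_eq_mul, elG_mul]
  refine ext_pt fun x j => ?_
  rw [Transvec.mul_mulVec, Transvec.mul_mulVec, rootB_mulVec, mulVec_add, elG_pt, elG_pt, elG_pt, mulVec_add,
    rootB_mulVec, rootB_mulVec, sl_pt, sl_pt]
  rw [show Pi.single q c ⬝ᵥ (Pi.single e 1 : Fin b → F) = 0 by simp [Pi.single_eq_of_ne (Ne.symm hq)],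
    zero_smul, pt_zero_left, add_zero]
  simp only [sv, dotProduct_single, mul_one, Pi.add_apply, smul_add, Finset.sum_add_distrib, Pi.single_apply,
    ite_smul, one_smul, zero_smul, Finset.sum_ite_eq', Finset.mem_univ, if_true, smul_ite, smul_zero,
    add_mulVec, pt_add_left, smul_mulVec]
  by_cases hjq : j = q
  · simp [hjq, mulVec_smul, smul_mulVec]; abel
  · simp [hjq, Ne.symm hjq, pt_zero_left]

lemma conj_elG {e k : Fin b} (hk : k ≠ e) (i j : Fin a) (h : i ≠ j) (s : F) (Z : Matrix (Fin a) (Fin a) F) :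
    rootA b i j h s * elG e (Pi.single k Z) (by simp [Pi.single_eq_of_ne (Ne.symm hk)]) * (rootA b i j h s)⁻¹ =
      elG e (Pi.single k ((1 + single i j s) * Z * (1 - single i j s)))
        (by simp [Pi.single_eq_of_ne (Ne.symm hk)]) := by
  refine ext_pt fun x l => ?_
  have hA : ∀ (y : Fin a → F) (u : Fin b → F),
      (rootA b i j h s).val *ᵥ pt y u = pt ((1 + single i j s) *ᵥ y) u := fun y u => by
    refine (TensorRefine.kronecker_mulVec _ _ y u).trans ?_
    rw [one_mulVec]; rfl
  have hAi : ∀ (y : Fin a → F) (u : Fin b → F),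
      (rootA b i j h s)⁻¹.val *ᵥ pt y u = pt ((1 - single i j s) *ᵥ y) u := fun y u => by
    refine (TensorRefine.kronecker_mulVec _ _ y u).trans ?_
    rw [one_mulVec]; rfl
  rw [Transvec.mul_mulVec, Transvec.mul_mulVec, hAi, elG_pt, mulVec_add, hA, hA, elG_pt]
  congr 1
  · rw [mulVec_mulVec, show (1 + single i j s) * (1 - single i j s) = (1 : Matrix (Fin a) (Fin a) F) by
      rw [mul_sub, mul_one, add_mul, one_mul, single_mul_single_of_ne (h := h.symm)]; simp, one_mulVec]
  · by_cases hlk : l = k <;> simp [sv, Pi.single_apply, hlk, mulVec_mulVec, mul_assoc]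

lemma elG_single_eq {e k : Fin b} (hk : k ≠ e) (i j : Fin a) (c : F) :
    elG e (Pi.single k (c • single i j (1 : F))) (by simp [Pi.single_eq_of_ne (Ne.symm hk)]) =
      transv (Pi.single (i, e) 1) (c • Pi.single (j, k) (1 : F)) := by
  refine gl_ext fun v => ?_
  rw [elG_mulVec, transv_mulVec (by simp [Pi.single_apply, hk]), Finset.sum_eq_single k
    (fun l _ hl => by simp [Pi.single_eq_of_ne hl]) (by simp)]
  congr 1
  funext p
  obtain ⟨x, y⟩ := p
  by_cases h1 : x = i <;> by_cases h2 : y = e <;>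
    simp [pt, sv, Pi.single_apply, Prod.ext_iff, h1, h2, single_mulVec, smul_mulVec]

theorem le_of_fixes_pure (ha : 2 ≤ a) (hb : 3 ≤ b) (hq : (∃ t : F, t ≠ 0 ∧ t ≠ 1) ∨ 3 ≤ a)
    (hH : kronSL a b F ≤ M) {e : Fin b} {y : GL (Fin a × Fin b) F} (hy : y ∈ M)
    (hW : ∀ x, ∃ x', y.val *ᵥ pt x (sv e) = pt x' (sv e)) (hk : ¬ IsKron y) :
    Cfsg.Geo.specialLinear (Fin a × Fin b) F ≤ M := by
  classical
  have havoid : ∀ s : Finset (Fin b), s.card ≤ 2 → ∃ p, p ∉ s := fun s hs => by
    by_contra h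
    push Not at h
    have := Finset.card_le_card (fun x _ => h x : Finset.univ ⊆ s)
    rw [Finset.card_univ, Fintype.card_fin] at this
    omega
  obtain ⟨p₀, hp₀⟩ := havoid {e} (by simp)
  obtain ⟨q₀, hq₀⟩ := havoid {e, p₀} Finset.card_le_two
  simp only [Finset.mem_insert, Finset.mem_singleton, not_or] at hp₀ hq₀
  obtain ⟨N, hN0, hNM, l, hl⟩ := exists_nonscalar (by omega) ⟨p₀, q₀, hp₀, hq₀.1, fun h => hq₀.2 h.symm⟩
    (fun u φ h => hH (rootB_mem h)) hy hW hk
  have hle : l ≠ e := fun h => hl ⟨0, by rw [h, hN0, zero_smul]⟩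
  have hshift : ∀ (N : Fin b → Matrix (Fin a) (Fin a) F) (h : N e = 0), elG e N h ∈ M → ∀ p q : Fin b,
      p ≠ e → ∀ hq : q ≠ e, p ≠ q → ∀ c : F,
      elG e (Pi.single q (c • N p)) (by simp [Pi.single_eq_of_ne (Ne.symm hq)]) ∈ M := by
    intro N h hm p q hp hq hpq c
    have hd : Pi.single q c ⬝ᵥ (sv p : Fin b → F) = 0 := by simp [sv, Pi.single_eq_of_ne hpq]
    have hR := hH (rootB_mem (a := a) hd)
    have h2 := M.mul_mem (M.inv_mem hm) (M.mul_mem (M.mul_mem (M.inv_mem hR) hm) hR)
    rwa [elG_shift h hp hq hd, inv_mul_cancel_left] at h2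
  let In : Matrix (Fin a) (Fin a) F → Prop := fun Z => ∀ k, ∀ hk : k ≠ e, ∀ c : F,
    elG e (Pi.single k (c • Z)) (by simp [Pi.single_eq_of_ne (Ne.symm hk)]) ∈ M
  let Zs : Submodule F (Matrix (Fin a) (Fin a) F) :=
    { carrier := {Z | In Z}
      zero_mem' := fun k hk c => by
        rw [show elG e (Pi.single k (c • (0 : Matrix (Fin a) (Fin a) F))) _ = 1 from ext_pt fun x j => by
          rw [elG_pt]; simp [pt_zero_left]]
        exact M.one_mem
      add_mem' := fun {Z Z'} h h' k hk c => by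
        have := M.mul_mem (h k hk c) (h' k hk c)
        rw [elG_mul] at this
        convert this using 2
        rw [smul_add, Pi.single_add]
      smul_mem' := fun d Z h k hk c => by
        convert h k hk (c * d) using 3
        rw [smul_smul] }
  have hNl : N l ∈ Zs := by
    intro k hk c
    by_cases hkl : k = l
    · subst hkl
      obtain ⟨p, hp⟩ := havoid {e, k} Finset.card_le_two
      simp only [Finset.mem_insert, Finset.mem_singleton, not_or] at hp
      have h1 := hshift _ _ (hshift N hN0 hNM k p hk hp.1 (Ne.symm hp.2) 1) p k hp.1 hk hp.2 c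
      simpa using h1
    · exact hshift N hN0 hNM l k hle hk (Ne.symm hkl) c
  have hunit : ∀ i j : Fin a, i ≠ j → single i j (1 : F) ∈ Zs := fun i j hij => by
    refine offdiag_mem (Z := Zs) hq (fun Z hZ i' j' h s k hk c => ?_) hNl hl hij
    have h2 := M.mul_mem (M.mul_mem (hH (rootA_mem h s)) (hZ k hk c)) (M.inv_mem (hH (rootA_mem h s)))
    rw [conj_elG hk] at h2
    simpa [Matrix.mul_smul, Matrix.smul_mul] using h2
  -- elementary transvections
  let El : Fin a × Fin b → Fin a × Fin b → Prop := fun p q => FullPair M (Pi.single p 1) (Pi.single q 1)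
  have hdot : ∀ p q : Fin a × Fin b, p ≠ q → (Pi.single q 1 : Fin a × Fin b → F) ⬝ᵥ Pi.single p 1 = 0 :=
    fun p q h => by simp [h]
  have hcomp : ∀ p q r, p ≠ q → q ≠ r → p ≠ r → El p q → El q r → El p r := fun p q r h1 h2 h3 e1 e2 =>
    fullPair_comm (hdot p q h1) (hdot q r h2) (hdot p r h3) (by simp) e1 e2
  have hbase : ∀ i j : Fin a, i ≠ j → ∀ k, k ≠ e → El (i, e) (j, k) := fun i j hij k hk c => by
    rw [← elG_single_eq hk]
    exact hunit i j hij k hk c
  have hleft : ∀ i j : Fin a, i ≠ j → ∀ k m, k ≠ e → m ≠ k → El (i, m) (j, k) := by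
    intro i j hij k m hk hmk
    by_cases hme : m = e
    · exact hme ▸ hbase i j hij k hk
    intro c
    have hd : Pi.single e (1 : F) ⬝ᵥ (sv m : Fin b → F) = 0 := by simp [sv, Ne.symm hme, hme]
    have hne : ((i, e) : Fin a × Fin b) ≠ (j, k) := by simp [hij]
    have h1 := fullPair_conj (hH (rootB_mem (a := a) hd)) (hdot _ _ hne) (hbase i j hij k hk) c
    have e1 : (rootB a (sv m) (Pi.single e 1) hd).val *ᵥ Pi.single (i, e) 1 =
        Pi.single (i, e) 1 + Pi.single (i, m) 1 := by
      rw [rootB_mulVec]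
      congr 1
      funext p
      obtain ⟨x, y⟩ := p
      by_cases h1 : x = i <;> by_cases h2 : y = m <;> simp [pt, sl, sv, Pi.single_apply, Prod.ext_iff, h1, h2]
    have e2 : Pi.single (j, k) (1 : F) ᵥ* (rootB a (sv m) (Pi.single e 1) hd)⁻¹.val = Pi.single (j, k) 1 := by
      refine funext fun p => ?_
      rw [single_one_vecMul]
      change ((1 : Matrix (Fin a) (Fin a) F) ⊗ₖ (1 - vecMulVec (sv m) (Pi.single e 1))) (j, k) p = _
      obtain ⟨x, y⟩ := p
      rw [kroneckerMap_apply, Matrix.sub_apply, vecMulVec_apply,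
        show (sv m : Fin b → F) k = 0 from Pi.single_eq_of_ne (Ne.symm hmk) _, zero_mul, sub_zero,
        Matrix.one_apply, Matrix.one_apply]
      by_cases hx : j = x <;> by_cases hy : k = y <;> simp [hx, hy, Pi.single_apply, Prod.ext_iff, eq_comm]
    rw [e1, e2] at h1
    have hn2 : ((i, m) : Fin a × Fin b) ≠ (j, k) := by simp [hij]
    rw [← transv_add_left (by rw [smul_dotProduct, hdot _ _ hne, smul_zero])
      (by rw [smul_dotProduct, hdot _ _ hn2, smul_zero])] at h1
    simpa using M.mul_mem (M.inv_mem (hbase i j hij k hk c)) h1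
  have hij_all : ∀ i j : Fin a, i ≠ j → ∀ k m, m ≠ k → El (i, m) (j, k) := by
    intro i j hij k m hmk
    by_cases hke : k = e
    swap
    · exact hleft i j hij k m hke hmk
    obtain ⟨o, ho⟩ := havoid {e, m} Finset.card_le_two
    simp only [Finset.mem_insert, Finset.mem_singleton, not_or] at ho
    intro c
    have hd : Pi.single k (1 : F) ⬝ᵥ (sv o : Fin b → F) = 0 := by simp [sv, hke, ho.1, Ne.symm ho.1]
    have hne : ((i, m) : Fin a × Fin b) ≠ (j, o) := by simp [hij]
    have h1 := fullPair_conj (hH (rootB_mem (a := a) hd)) (hdot _ _ hne) (hleft i j hij o m ho.1 (Ne.symm ho.2)) c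
    have e1 : (rootB a (sv o) (Pi.single k 1) hd).val *ᵥ Pi.single (i, m) 1 = Pi.single (i, m) 1 := by
      rw [rootB_mulVec, add_eq_left]
      funext p
      simp [pt, sl, sv, Pi.single_apply, Prod.ext_iff, Ne.symm hmk, hmk]
    have e2 : Pi.single (j, o) (1 : F) ᵥ* (rootB a (sv o) (Pi.single k 1) hd)⁻¹.val =
        Pi.single (j, o) 1 - Pi.single (j, k) 1 := by
      refine funext fun p => ?_
      rw [single_one_vecMul]
      change ((1 : Matrix (Fin a) (Fin a) F) ⊗ₖ (1 - vecMulVec (sv o) (Pi.single k 1))) (j, o) p = _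
      obtain ⟨x, y⟩ := p
      by_cases h1 : j = x
      · subst h1
        simp [vecMulVec, sv, Matrix.one_apply, Pi.single_apply, Prod.ext_iff, eq_comm]
      · simp [vecMulVec, sv, Matrix.one_apply, Pi.single_apply, Prod.ext_iff, h1, Ne.symm h1]
    rw [e1, e2, smul_sub, sub_eq_add_neg, ← transv_mul (by rw [smul_dotProduct, hdot _ _ hne, smul_zero])
      (by rw [neg_dotProduct, smul_dotProduct, hdot _ _ (by simp [hij] : ((i, m) : Fin a × Fin b) ≠ (j, k)),
        smul_zero, neg_zero])] at h1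
    have h2 := M.mul_mem (M.inv_mem (hleft i j hij o m ho.1 (Ne.symm ho.2) c)) h1
    rw [inv_mul_cancel_left, ← transv_inv (by rw [smul_dotProduct,
      hdot _ _ (by simp [hij] : ((i, m) : Fin a × Fin b) ≠ (j, k)), smul_zero])] at h2
    exact (M.inv_mem_iff).mp h2
  have hsame : ∀ i : Fin a, ∀ k m : Fin b, m ≠ k → El (i, m) (i, k) := by
    intro i k m hmk
    obtain ⟨j, hj⟩ : ∃ j : Fin a, j ≠ i := by
      by_contra h
      push Not at h
      have := Finset.card_le_card (fun x _ => Finset.mem_singleton.mpr (h x) : Finset.univ ⊆ {i})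
      rw [Finset.card_univ, Fintype.card_fin, Finset.card_singleton] at this
      omega
    obtain ⟨o, ho⟩ := havoid {m, k} Finset.card_le_two
    simp only [Finset.mem_insert, Finset.mem_singleton, not_or] at ho
    exact hcomp (i, m) (j, o) (i, k) (by simp [Ne.symm ho.1]) (by simp [ho.2]) (by simp [hmk])
      (hij_all i j (Ne.symm hj) o m (Ne.symm ho.1)) (hij_all j i hj k o ho.2)
  have hall : ∀ p q : Fin a × Fin b, p ≠ q → El p q := by
    rintro ⟨i, m⟩ ⟨j, k⟩ hne
    by_cases hij : i = j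
    · subst hij; exact hsame i k m (fun h => hne (by rw [h]))
    by_cases hmk : m = k
    · subst hmk
      obtain ⟨o, ho⟩ := havoid {m} (by simp)
      rw [Finset.mem_singleton] at ho
      exact hcomp (i, m) (i, o) (j, m) (by simp [Ne.symm ho]) (by simp [hij]) hne (hsame i o m (Ne.symm ho))
        (hij_all i j hij m o ho)
    · exact hij_all i j hij k m hmk
  intro g hg
  rw [mem_specialLinear_iff] at hg
  have key := CfsgLib.Classical.SL_le_of_transvections (M.comap Matrix.SpecialLinearGroup.toGL) fun p q hpq c => by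
    rw [Subgroup.mem_comap, toGL_transvection hpq c]
    have := hall p q hpq c
    rwa [← Pi.single_smul, smul_eq_mul, mul_one] at this
  have h1 : (⟨g.val, hg⟩ : Matrix.SpecialLinearGroup (Fin a × Fin b) F) ∈
      M.comap Matrix.SpecialLinearGroup.toGL := by rw [key]; trivial
  have e1 : Matrix.SpecialLinearGroup.toGL ⟨g.val, hg⟩ = g := Units.ext rfl
  exact e1 ▸ Subgroup.mem_comap.mp h1

end CfsgLib.Classical22.TensorMax
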