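/-
Non-degenerate alternating forms in coordinates: Gram matrices, adjoints and existence lemmas.
-/
import Cfsg.Agent.Lib.Classical22.TensorMaxLinear

set_option autoImplicit false

namespace CfsgLib.Classical22.TensorMax.SympO

open Matrix CfsgLib.Transvec
open scoped MatrixGroups

variable {F : Type*} [Field F] {k : ℕ}

/-- The Gram matrix of a form. -/
abbrev gram (f : (Fin k → F) → (Fin k → F) → F) : Matrix (Fin k) (Fin k) F := Cfsg.Geo.gramMatrix f

/-- The adjoint of a matrix for a form. -/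
noncomputable def adj (f : (Fin k → F) → (Fin k → F) → F) (G : Matrix (Fin k) (Fin k) F) :
    Matrix (Fin k) (Fin k) F :=
  (gram f)⁻¹ * Gᵀ * gram f

/-- The matrix of `x ↦ f(x,z) y`. -/
def outer (f : (Fin k → F) → (Fin k → F) → F) (y z : Fin k → F) : Matrix (Fin k) (Fin k) F :=
  vecMulVec y (gram f *ᵥ z)

variable {f : (Fin k → F) → (Fin k → F) → F} (hf : Cfsg.Geo.IsSymplecticForm f)
include hf

lemma form_eq_dot (x y : Fin k → F) : f x y = (gram f *ᵥ y) ⬝ᵥ x := by
  rw [TensorRefine.form_eq (σ := id) hf.bilinear.add_left hf.bilinear.smul_left hf.bilinear.add_right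
    (fun c v x => hf.bilinear.smul_right c v x) x y, dotProduct]
  refine Finset.sum_congr rfl fun i _ => ?_
  simp only [mulVec, dotProduct, Finset.sum_mul, id_eq]
  exact Finset.sum_congr rfl fun j _ => by ring

lemma outer_mulVec (y z x : Fin k → F) : outer f y z *ᵥ x = f x z • y := by
  rw [outer, vecMulVec_mulVec, op_smul_eq_smul, form_eq_dot hf]

lemma eq_of_form {x y : Fin k → F} (h : ∀ p, f x p = f y p) : x = y := by
  by_contra hne
  obtain ⟨p, hp⟩ := (hf.nondegenerate _ (sub_ne_zero.mpr hne)).2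
  refine hp ?_
  have e := hf.bilinear.add_left (x - y) y p
  rw [sub_add_cancel, h] at e
  linear_combination -e

lemma isUnit_gram : IsUnit (gram f) := by
  rw [← Matrix.mulVec_injective_iff_isUnit]
  intro x y h
  refine eq_of_form hf fun p => ?_
  have h' : f p x = f p y := by rw [form_eq_dot hf, form_eq_dot hf, h]
  rw [hf.skew, h', ← hf.skew]

lemma gram_mul_inv : gram f * (gram f)⁻¹ = 1 :=
  Matrix.mul_nonsing_inv _ ((Matrix.isUnit_iff_isUnit_det _).mp (isUnit_gram hf))

lemma exists_repr (φ : Fin k → F) : ∃ z, gram f *ᵥ z = φ :=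
  ⟨(gram f)⁻¹ *ᵥ φ, by rw [mulVec_mulVec, gram_mul_inv hf, one_mulVec]⟩

lemma gram_mulVec_ne_zero {u : Fin k → F} (hu : u ≠ 0) : gram f *ᵥ u ≠ 0 := fun h => by
  obtain ⟨p, hp⟩ := (hf.nondegenerate u hu).1
  rw [form_eq_dot hf, h, zero_dotProduct] at hp
  exact hp rfl

lemma adj_spec (G : Matrix (Fin k) (Fin k) F) (x y : Fin k → F) : f (G *ᵥ x) y = f x (adj f G *ᵥ y) := by
  rw [form_eq_dot hf, form_eq_dot hf, adj, mul_assoc, ← mulVec_mulVec, mulVec_mulVec, gram_mul_inv hf,
    one_mulVec, ← mulVec_mulVec, dotProduct_mulVec, ← mulVec_transpose]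

lemma adj_spec' (G : Matrix (Fin k) (Fin k) F) (x y : Fin k → F) : f (adj f G *ᵥ x) y = f x (G *ᵥ y) := by
  rw [hf.skew, ← adj_spec hf, ← hf.skew]

lemma adj_eq {G K : Matrix (Fin k) (Fin k) F} (h : ∀ x y, f (G *ᵥ x) y = f x (K *ᵥ y)) : adj f G = K :=
  Matrix.ext_of_mulVec_single fun q => eq_of_form hf fun p => by
    rw [hf.skew, ← adj_spec hf, h, ← hf.skew]

lemma adj_adj (G : Matrix (Fin k) (Fin k) F) : adj f (adj f G) = G := adj_eq hf (adj_spec' hf G)

lemma adj_scalar (c : F) : adj f (c • 1) = c • 1 :=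
  adj_eq hf fun x y => by simp [smul_mulVec, hf.bilinear.smul_left, hf.bilinear.smul_right]

lemma adj_mul (G K : Matrix (Fin k) (Fin k) F) : adj f (G * K) = adj f K * adj f G :=
  adj_eq hf fun x y => by rw [← mulVec_mulVec, ← mulVec_mulVec, adj_spec hf, adj_spec hf]

lemma adj_add (G K : Matrix (Fin k) (Fin k) F) : adj f (G + K) = adj f G + adj f K :=
  adj_eq hf fun x y => by
    rw [add_mulVec, add_mulVec, hf.bilinear.add_left, hf.bilinear.add_right, adj_spec hf, adj_spec hf]

lemma adj_outer (y z : Fin k → F) : adj f (outer f y z) = -outer f z y :=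
  adj_eq hf fun p q => by
    rw [neg_mulVec, outer_mulVec hf, outer_mulVec hf, ← neg_smul, hf.bilinear.smul_left, hf.bilinear.smul_right,
      ← hf.skew y q, mul_comm]

/-- A skew sum over ordered pairs as a sum over all pairs. -/
lemma sum_pairs {M : Matrix (Fin k) (Fin k) F} (hd : ∀ i, M i i = 0) (hs : ∀ i j, M j i = - M i j)
    {V : Type*} [AddCommGroup V] [Module F V] (T : Fin k → Fin k → V) :
    ∑ i, ∑ j, (if i < j then M i j • (T i j - T j i) else 0) = ∑ i, ∑ j, M i j • T i j := by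
  have h1 : ∑ i, ∑ j, (if i < j then M i j • T j i else 0) = - ∑ i, ∑ j, (if j < i then M i j • T i j else 0) := by
    rw [Finset.sum_comm, ← Finset.sum_neg_distrib]
    refine Finset.sum_congr rfl fun i _ => ?_
    rw [← Finset.sum_neg_distrib]
    refine Finset.sum_congr rfl fun j _ => ?_
    split_ifs with h
    · rw [hs i j, neg_smul]
    · rw [neg_zero]
  calc ∑ i, ∑ j, (if i < j then M i j • (T i j - T j i) else 0)
      = ∑ i, ∑ j, (if i < j then M i j • T i j else 0) - ∑ i, ∑ j, (if i < j then M i j • T j i else 0) := by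
        rw [← Finset.sum_sub_distrib]
        refine Finset.sum_congr rfl fun i _ => ?_
        rw [← Finset.sum_sub_distrib]
        refine Finset.sum_congr rfl fun j _ => ?_
        split_ifs
        · rw [smul_sub]
        · rw [sub_zero]
    _ = ∑ i, ∑ j, M i j • T i j := by
        rw [h1, sub_neg_eq_add, ← Finset.sum_add_distrib]
        refine Finset.sum_congr rfl fun i _ => ?_
        rw [← Finset.sum_add_distrib]
        refine Finset.sum_congr rfl fun j _ => ?_
        rcases lt_trichotomy i j with h | h | h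
        · rw [if_pos h, if_neg h.asymm, add_zero]
        · subst h
          simp [hd]
        · rw [if_neg h.asymm, if_pos h, zero_add]

/-- An alternating expansion of the identity. -/
lemma exists_expansion : ∃ M : Matrix (Fin k) (Fin k) F, (∀ i, M i i = 0) ∧ (∀ i j, M j i = - M i j) ∧
    ∀ x : Fin k → F, ∑ i, ∑ j, M i j • (f x (Pi.single i 1) • (Pi.single j 1 : Fin k → F)) = x := by
  obtain ⟨M, hM⟩ : ∃ M, M = (gram f)⁻¹ := ⟨_, rfl⟩
  have hcol : ∀ i, gram f *ᵥ (M *ᵥ Pi.single i 1) = Pi.single i 1 := fun i => by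
    rw [hM, mulVec_mulVec, gram_mul_inv hf, one_mulVec]
  have hent : ∀ i j, f (M *ᵥ Pi.single j 1) (M *ᵥ Pi.single i 1) = M i j := fun i j => by
    rw [form_eq_dot hf, hcol, single_dotProduct, one_mul, Matrix.mulVec_single_one, Matrix.col_apply]
  refine ⟨M, fun i => by rw [← hent, hf.alternating], fun i j => by rw [← hent, hf.skew, hent], fun x => ?_⟩
  funext j
  have hJ : M * gram f = 1 := hM ▸ Matrix.nonsing_inv_mul _ ((Matrix.isUnit_iff_isUnit_det _).mp (isUnit_gram hf))
  have hg : ∀ i, f x (Pi.single i 1) = ((gram f)ᵀ *ᵥ x) i := fun i => by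
    rw [form_eq_dot hf, Matrix.mulVec_single_one]
    rfl
  have h2 : (Mᵀ *ᵥ ((gram f)ᵀ *ᵥ x)) j = x j := by
    rw [mulVec_mulVec, ← transpose_mul, mul_eq_one_comm.mp hJ, transpose_one, one_mulVec]
  rw [← h2]
  simp only [mulVec, dotProduct, Finset.sum_apply, Pi.smul_apply, Pi.single_apply, smul_eq_mul, mul_ite, mul_one,
    mul_zero, Finset.sum_ite_eq, Finset.mem_univ, if_true, transpose_apply]
  refine Finset.sum_congr rfl fun i _ => ?_
  rw [hg i]
  rfl

omit hf in
/-- A common point off two kernels. -/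
lemma exists_ne_ne {P : (Fin k → F) → Prop} (hP : ∀ u v, P u → P v → P (u + v)) {φ ψ : (Fin k → F) → F}
    (hφ : ∀ u v, φ (u + v) = φ u + φ v) (hψ : ∀ u v, ψ (u + v) = ψ u + ψ v) (h1 : ∃ u, P u ∧ φ u ≠ 0)
    (h2 : ∃ u, P u ∧ ψ u ≠ 0) : ∃ u, P u ∧ φ u ≠ 0 ∧ ψ u ≠ 0 := by
  obtain ⟨u, hu, hu'⟩ := h1
  obtain ⟨v, hv, hv'⟩ := h2
  by_cases h3 : ψ u = 0
  · by_cases h4 : φ v = 0
    · exact ⟨u + v, hP _ _ hu hv, by rw [hφ, h4, add_zero]; exact hu', by rw [hψ, h3, zero_add]; exact hv'⟩
    · exact ⟨v, hv, h4, hv'⟩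
  · exact ⟨u, hu, hu', h3⟩

/-- A vector with prescribed values against a span and a vector outside it. -/
lemma exists_dual {U : Submodule F (Fin k → F)} {w : Fin k → F} (hw : w ∉ U) :
    ∃ z, (∀ u ∈ U, f z u = 0) ∧ f z w = 1 := by
  obtain ⟨φ, h0, h1⟩ := exists_functional hw
  obtain ⟨z, hz⟩ := exists_repr hf φ
  refine ⟨-z, fun u hu => ?_, ?_⟩
  · rw [hf.skew, ← neg_one_smul F z, hf.bilinear.smul_right, form_eq_dot hf u, hz, h0 u hu]
    simp
  · rw [hf.skew, ← neg_one_smul F z, hf.bilinear.smul_right, form_eq_dot hf w, hz, h1]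
    simp

/-- A vector orthogonal to two given ones and outside their span. -/
lemma exists_perp_notMem (hk : 5 ≤ k) (e w : Fin k → F) :
    ∃ z, f z e = 0 ∧ f z w = 0 ∧ z ∉ Submodule.span F {e, w} := by
  classical
  obtain ⟨L, hL⟩ : ∃ L : (Fin k → F) →ₗ[F] F × F, ∀ z, L z = (f z e, f z w) :=
    ⟨{ toFun := fun z => (f z e, f z w)
       map_add' := fun x y => Prod.ext (hf.bilinear.add_left x y e) (hf.bilinear.add_left x y w)
       map_smul' := fun c x => Prod.ext (hf.bilinear.smul_left c x e) (hf.bilinear.smul_left c x w) }, fun z => rfl⟩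
  by_contra hc
  push Not at hc
  have hle : LinearMap.ker L ≤ Submodule.span F {e, w} := fun z hz => by
    rw [LinearMap.mem_ker, hL, Prod.mk_eq_zero] at hz
    exact hc z hz.1 hz.2
  have h1 := LinearMap.finrank_range_add_finrank_ker L
  have h2 := Submodule.finrank_le (LinearMap.range L)
  have h3 := Submodule.finrank_mono hle
  have h4 : Module.finrank F (Submodule.span F ({e, w} : Set (Fin k → F))) ≤ 2 := by
    refine (finrank_span_le_card ({e, w} : Set (Fin k → F))).trans ?_
    rw [Set.toFinset_insert, Set.toFinset_singleton]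
    exact Finset.card_le_two
  rw [Module.finrank_prod, Module.finrank_self] at h2
  rw [Module.finrank_fin_fun] at h1
  omega

omit hf in
lemma scalar_of_eigen {G : Matrix (Fin k) (Fin k) F} (h : ∀ x, ∃ l : F, G *ᵥ x = l • x) :
    ∃ c : F, G = c • 1 := by
  classical
  choose l hl using h
  rcases Nat.eq_zero_or_pos k with hk | hk
  · subst hk
    exact ⟨0, Subsingleton.elim _ _⟩
  refine ⟨l (Pi.single ⟨0, hk⟩ 1), Matrix.ext_of_mulVec_single fun i => ?_⟩
  rw [smul_mulVec, one_mulVec, hl]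
  by_cases hi : i = ⟨0, hk⟩
  · rw [hi]
  have h := hl (Pi.single i 1 + Pi.single ⟨0, hk⟩ 1)
  rw [mulVec_add, hl, hl] at h
  have h1 := congrFun h i
  have h2 := congrFun h ⟨0, hk⟩
  simp [hi] at h1
  simp [Ne.symm hi] at h2
  rw [h1, h2]

end CfsgLib.Classical22.TensorMax.SympO
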