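/-
An adjoint-closed algebra of matrices invariant under symplectic transvections is the scalars or everything.
-/
import Cfsg.Agent.Lib.Classical22.SympTensorForm

set_option autoImplicit false

namespace CfsgLib.Classical22.TensorMax.SympO

open Matrix CfsgLib.Transvec
open scoped MatrixGroups

variable {F : Type*} [Field F] {k : ℕ}

/-- The matrix of the transvection `x ↦ x + s f(x,w) w`. -/
def tv (f : (Fin k → F) → (Fin k → F) → F) (w : Fin k → F) (s : F) : Matrix (Fin k) (Fin k) F :=
  1 + s • outer f w w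

variable {f : (Fin k → F) → (Fin k → F) → F} (hf : Cfsg.Geo.IsSymplecticForm f)
include hf

lemma tv_mulVec (w : Fin k → F) (s : F) (x : Fin k → F) : tv f w s *ᵥ x = x + (s * f x w) • w := by
  rw [tv, add_mulVec, one_mulVec, smul_mulVec, outer_mulVec hf, smul_smul]

lemma tv_mul_neg (w : Fin k → F) (s : F) : tv f w s * tv f w (-s) = 1 :=
  Matrix.ext_iff_mulVec.mpr fun x => by
    rw [← mulVec_mulVec, tv_mulVec hf, tv_mulVec hf, one_mulVec, hf.bilinear.add_left, hf.bilinear.smul_left,
      hf.alternating, mul_zero, add_zero, neg_mul, neg_smul]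
    abel

lemma adj_tv (w : Fin k → F) (s : F) : adj f (tv f w s) = tv f w (-s) :=
  adj_eq hf fun x y => by
    rw [tv_mulVec hf, tv_mulVec hf, hf.bilinear.add_left, hf.bilinear.add_right, hf.bilinear.smul_left,
      hf.bilinear.smul_right, hf.skew w y]
    ring

lemma tv_form (w : Fin k → F) (s : F) (x y : Fin k → F) : f (tv f w s *ᵥ x) (tv f w s *ᵥ y) = f x y := by
  rw [adj_spec hf, adj_tv hf, mulVec_mulVec]
  conv_lhs => rw [show tv f w (-s) * tv f w s = 1 by simpa using tv_mul_neg hf w (-s), one_mulVec]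

/-- An adjoint-closed algebra invariant under transvections with a non-scalar element is everything. -/
theorem full_of_closed (hq : 3 ≤ k ∨ ∃ t : F, t ≠ 0 ∧ t ≠ 1) {P : Matrix (Fin k) (Fin k) F → Prop}
    (hc : ∀ c : F, P (c • 1)) (hadd : ∀ G K, P G → P K → P (G + K)) (hmul : ∀ G K, P G → P K → P (G * K))
    (hadj : ∀ G, P G → P (adj f G)) (hconj : ∀ w s G, P G → P (tv f w s * G * tv f w (-s)))
    (hG : ∃ G, P G ∧ ¬ ∃ c : F, G = c • 1) : ∀ G, P G := by
  classical
  have hsmul : ∀ (c : F) G, P G → P (c • G) := fun c G h => by simpa using hmul _ _ (hc c) h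
  have hsub : ∀ G K, P G → P K → P (G - K) := fun G K h h' => by
    simpa [sub_eq_add_neg] using hadd _ _ h (hsmul (-1) _ h')
  have hrank : ∃ w, w ≠ 0 ∧ P (outer f w w) := by
    by_cases hA : ∃ S, P S ∧ (∀ x, f (S *ᵥ x) x = 0) ∧ ¬ ∃ c : F, S = c • 1
    · obtain ⟨S, hS, halt, hne⟩ := hA
      have hsym : ∀ x y, f (S *ᵥ x) y = f x (S *ᵥ y) := fun x y => by
        have h := halt (x + y)
        rw [mulVec_add, hf.bilinear.add_left, hf.bilinear.add_right, hf.bilinear.add_right, halt, halt,
          hf.skew (S *ᵥ y) x] at h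
        linear_combination h
      obtain ⟨v, hv⟩ : ∃ v, ∀ l : F, S *ᵥ v ≠ l • v := by
        by_contra h
        push Not at h
        exact hne (scalar_of_eigen h)
      have hv0 : S *ᵥ v ≠ 0 := fun h => hv 0 (by rw [h, zero_smul])
      have hvn : v ∉ Submodule.span F {S *ᵥ v} := fun h => by
        obtain ⟨t, ht⟩ := Submodule.mem_span_singleton.mp h
        by_cases ht0 : t = 0
        · rw [ht0, zero_smul] at ht
          exact hv0 (by rw [← ht, mulVec_zero])
        · exact hv t⁻¹ (by conv_rhs => arg 2; rw [← ht]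
                           rw [inv_smul_smul₀ ht0])
      obtain ⟨z, hz0, hz1⟩ := exists_dual hf hvn
      have hz0' := hz0 _ (Submodule.mem_span_singleton_self _)
      obtain ⟨D, hD⟩ : ∃ D, D = tv f v 1 * S * tv f v (-1) - S := ⟨_, rfl⟩
      have hDP : P D := hD ▸ hsub _ _ (hconj v 1 S hS) hS
      have hDx : ∀ x, D *ᵥ x = f x (S *ᵥ v) • v - f x v • (S *ᵥ v) := fun x => by
        rw [hD, sub_mulVec, ← mulVec_mulVec, ← mulVec_mulVec, tv_mulVec hf, tv_mulVec hf, mulVec_add, mulVec_smul,
          hf.bilinear.add_left, hf.bilinear.smul_left, halt, hsym x v]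
        simp
        abel
      have hvSv : f v (S *ᵥ v) = 0 := by rw [hf.skew, halt, neg_zero]
      have hDv : D *ᵥ v = 0 := by rw [hDx, hvSv, hf.alternating]; simp
      have hDSv : D *ᵥ (S *ᵥ v) = 0 := by rw [hDx, hf.alternating, halt]; simp
      have hDz : D *ᵥ z = - (S *ᵥ v) := by rw [hDx, hz0', hz1]; simp
      have hE : D * (tv f z (-1) * D * tv f z 1) = - outer f (S *ᵥ v) (S *ᵥ v) :=
        Matrix.ext_iff_mulVec.mpr fun x => by
          rw [← mulVec_mulVec, ← mulVec_mulVec, ← mulVec_mulVec, neg_mulVec, outer_mulVec hf, hDx (tv f z 1 *ᵥ x)]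
          have e1 : tv f z (-1) *ᵥ v = v + z := by
            rw [tv_mulVec hf, hf.skew v z, hz1]
            simp
          have e2 : tv f z (-1) *ᵥ (S *ᵥ v) = S *ᵥ v := by
            rw [tv_mulVec hf, hf.skew (S *ᵥ v) z, hz0']
            simp
          have e3 : f (tv f z 1 *ᵥ x) (S *ᵥ v) = f x (S *ᵥ v) := by
            rw [tv_mulVec hf, hf.bilinear.add_left, hf.bilinear.smul_left, hz0', mul_zero, add_zero]
          rw [mulVec_sub, mulVec_smul, mulVec_smul, e1, e2, e3, mulVec_sub, mulVec_smul, mulVec_smul, mulVec_add,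
            hDv, hDSv, hDz]
          simp
      refine ⟨_, hv0, ?_⟩
      have h := hsmul (-1) _ (hmul _ _ hDP (hconj z (-1) D hDP))
      rwa [neg_neg, hE, smul_neg, neg_smul, one_smul, neg_neg] at h
    push Not at hA
    obtain ⟨G, hGP, hGn⟩ := hG
    obtain ⟨v, hv⟩ : ∃ v, f (G *ᵥ v) v ≠ 0 := by
      by_contra h
      push Not at h
      obtain ⟨c, hc'⟩ := hA G hGP h
      exact hGn ⟨c, hc'⟩
    obtain ⟨c, hcv⟩ : ∃ c, c = f (G *ᵥ v) v := ⟨_, rfl⟩
    have hv0 : v ≠ 0 := fun h => hv (by
      rw [h, mulVec_zero]; exact hf.alternating _)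
    obtain ⟨D, hD⟩ : ∃ D : F → Matrix (Fin k) (Fin k) F, ∀ s, D s = tv f v s * G * tv f v (-s) - G :=
      ⟨_, fun s => rfl⟩
    have hDx : ∀ s x, D s *ᵥ x = (s * (f (G *ᵥ x) v - s * f x v * c)) • v - (s * f x v) • (G *ᵥ v) := fun s x => by
      rw [hD, sub_mulVec, ← mulVec_mulVec, ← mulVec_mulVec, tv_mulVec hf, tv_mulVec hf, mulVec_add, mulVec_smul,
        hf.bilinear.add_left, hf.bilinear.smul_left, ← hcv]
      module
    rcases hq with hk | ⟨t, ht0, ht1⟩
    · exfalso
      have hD1 : P (D 1) := by rw [hD]; exact hsub _ _ (hconj v 1 G hGP) hGP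
      obtain ⟨m, hm⟩ := hA _ (hmul _ _ hD1 (hadj _ hD1)) fun x => by
        rw [← mulVec_mulVec, adj_spec hf, hf.alternating]
      obtain ⟨l, hl⟩ := hA _ (hadd _ _ hGP (hadj _ hGP)) fun x => by
        rw [add_mulVec, hf.bilinear.add_left, adj_spec' hf, hf.skew x, add_neg_cancel]
      have hadjD : adj f (D 1) = - D 1 := by
        have e : adj f (D 1) + adj f G = tv f v 1 * adj f G * tv f v (-1) := by
          rw [← adj_add hf, hD, sub_add_cancel, adj_mul hf, adj_mul hf, adj_tv hf, adj_tv hf, neg_neg, mul_assoc]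
        have e' : tv f v 1 * (G + adj f G) * tv f v (-1) = G + adj f G := by
          rw [hl, mul_smul_comm, mul_one, smul_mul_assoc, tv_mul_neg hf]
        rw [mul_add, add_mul, ← e] at e'
        rw [hD, eq_neg_iff_add_eq_zero, ← sub_eq_zero.mpr e', hD]
        abel
      have hDv : D 1 *ᵥ v = c • v := by
        rw [hDx, hf.alternating, ← hcv]
        simp
      have hm0 : m = 0 := by
        by_contra hm0
        have hsurj : ∀ y, y ∈ Submodule.span F ({v, G *ᵥ v} : Set (Fin k → F)) := fun y => by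
          have e : y = D 1 *ᵥ (adj f (D 1) *ᵥ (m⁻¹ • y)) := by
            rw [mulVec_mulVec, hm, smul_mulVec, one_mulVec, smul_inv_smul₀ hm0]
          rw [e, hDx]
          exact Submodule.sub_mem _ (Submodule.smul_mem _ _ (Submodule.subset_span (by simp)))
            (Submodule.smul_mem _ _ (Submodule.subset_span (by simp)))
        have h1 := Submodule.finrank_mono (show ⊤ ≤ Submodule.span F ({v, G *ᵥ v} : Set (Fin k → F)) from
          fun y _ => hsurj y)
        have h2 : Module.finrank F (Submodule.span F ({v, G *ᵥ v} : Set (Fin k → F))) ≤ 2 := by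
          refine (finrank_span_le_card ({v, G *ᵥ v} : Set (Fin k → F))).trans ?_
          rw [Set.toFinset_insert, Set.toFinset_singleton]
          exact Finset.card_le_two
        rw [finrank_top, Module.finrank_fin_fun] at h1
        omega
      have h3 : (D 1 * adj f (D 1)) *ᵥ v = 0 := by rw [hm, hm0, zero_smul, zero_mulVec]
      rw [hadjD, ← mulVec_mulVec, neg_mulVec, mulVec_neg, hDv, mulVec_smul, hDv, smul_smul, neg_eq_zero,
        smul_eq_zero] at h3
      exact h3.elim (mul_ne_zero (hcv ▸ hv) (hcv ▸ hv)) hv0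
    · refine ⟨v, hv0, ?_⟩
      have hE : D t - t • D 1 = ((t - t * t) * c) • outer f v v := Matrix.ext_iff_mulVec.mpr fun x => by
        rw [sub_mulVec, smul_mulVec, smul_mulVec, outer_mulVec hf, hDx, hDx]
        module
      have h : P (D t - t • D 1) := by
        rw [hD, hD]
        exact hsub _ _ (hsub _ _ (hconj v t G hGP) hGP) (hsmul t _ (hsub _ _ (hconj v 1 G hGP) hGP))
      have hne : (t - t * t) * c ≠ 0 := by
        refine mul_ne_zero (fun h0 => ?_) (hcv ▸ hv)
        have : t * (1 - t) = 0 := by linear_combination h0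
        rcases mul_eq_zero.mp this with h1 | h1
        · exact ht0 h1
        · exact ht1 (by linear_combination -h1)
      have h' := hsmul ((t - t * t) * c)⁻¹ _ (hE ▸ h)
      rwa [inv_smul_smul₀ hne] at h'
  -- spreading
  obtain ⟨w, hw0, hw⟩ := hrank
  have hstep : ∀ x y, f x y ≠ 0 → P (outer f x x) → P (outer f y y) := fun x y hxy h => by
    obtain ⟨s, hs⟩ : ∃ s, s = (f x y)⁻¹ := ⟨_, rfl⟩
    have hyx : f x (y - x) = f x y := by
      have e := hf.bilinear.add_right x (y - x) x
      rw [sub_add_cancel, hf.alternating, add_zero] at e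
      exact e.symm
    have hy : tv f (y - x) s *ᵥ x = y := by
      rw [tv_mulVec hf, hyx, hs, inv_mul_cancel₀ hxy, one_smul, add_sub_cancel]
    have h' := hconj (y - x) s _ h
    refine (?_ : tv f (y - x) s * outer f x x * tv f (y - x) (-s) = outer f y y) ▸ h'
    refine Matrix.ext_iff_mulVec.mpr fun p => ?_
    rw [← mulVec_mulVec, ← mulVec_mulVec, outer_mulVec hf, outer_mulVec hf, mulVec_smul, hy, ← adj_tv hf,
      adj_spec' hf, hy]
  have hnz : ∀ {x : Fin k → F}, x ≠ 0 → ∃ u, f x u ≠ 0 := fun hx => (hf.nondegenerate _ hx).2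
  have hall : ∀ y, P (outer f y y) := fun y => by
    by_cases hy : y = 0
    · have h := hc 0
      rw [zero_smul] at h
      convert h using 1
      exact Matrix.ext_iff_mulVec.mpr fun p => by rw [outer_mulVec hf, hy, smul_zero, zero_mulVec]
    obtain ⟨u, -, hu1, hu2⟩ := exists_ne_ne (P := fun _ => True) (fun _ _ _ _ => trivial)
      (φ := fun u => f w u) (ψ := fun u => f u y) (hf.bilinear.add_right w) (fun u v => hf.bilinear.add_left u v y)
      ((hnz hw0).imp fun u h => ⟨trivial, h⟩) ((hnz hy).imp fun u h => ⟨trivial, by rwa [hf.skew, neg_ne_zero]⟩)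
    exact hstep u y hu2 (hstep w u hu1 hw)
  have houter : ∀ y z, f z y ≠ 0 → P (outer f y z) := fun y z h => by
    have h' := hsmul (f z y)⁻¹ _ (hmul _ _ (hall y) (hall z))
    convert h' using 1
    refine Matrix.ext_iff_mulVec.mpr fun p => ?_
    rw [smul_mulVec, ← mulVec_mulVec, outer_mulVec hf, outer_mulVec hf, outer_mulVec hf, hf.bilinear.smul_left,
      smul_smul]
    congr 1
    field_simp
  have houter' : ∀ y z, P (outer f y z) := fun y z => by
    by_cases hzy : f z y = 0
    · by_cases hy : y = 0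
      · have h := hc 0
        rw [zero_smul] at h
        convert h using 1
        exact Matrix.ext_iff_mulVec.mpr fun p => by rw [outer_mulVec hf, hy, smul_zero, zero_mulVec]
      obtain ⟨u, hu⟩ := (hf.nondegenerate y hy).1
      have hzu : f (z + u) y ≠ 0 := by rwa [hf.bilinear.add_left, hzy, zero_add]
      convert hsub _ _ (houter y (z + u) hzu) (houter y u hu) using 1
      refine Matrix.ext_iff_mulVec.mpr fun p => ?_
      rw [sub_mulVec, outer_mulVec hf, outer_mulVec hf, outer_mulVec hf, hf.bilinear.add_right, add_smul,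
        add_sub_cancel_right]
    · exact houter y z hzy
  intro G
  obtain ⟨Z, hZ⟩ : ∃ Z : Fin k → (Fin k → F), ∀ j, gram f *ᵥ Z j = Pi.single j 1 :=
    ⟨fun j => (exists_repr hf (Pi.single j 1)).choose, fun j => (exists_repr hf (Pi.single j 1)).choose_spec⟩
  have hsum : G = ∑ j, outer f (G.col j) (Z j) := by
    ext i l
    simp [outer, hZ, Matrix.sum_apply, vecMulVec_apply, Pi.single_apply]
  rw [hsum]
  exact Finset.sum_induction _ P (fun x y => hadd x y) (by simpa using hc 0) fun j _ => houter' _ _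

end CfsgLib.Classical22.TensorMax.SympO
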