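/-
A quadratic space that is a tensor product of two alternating spaces: roots, transvections and the elements T(e,w,G).
-/
import Cfsg.Agent.Lib.Classical22.SympTensorAlg
import Cfsg.Agent.Lib.Classical22.OrthMaxMatrix

set_option autoImplicit false

namespace CfsgLib.Classical22.TensorMax.SympO

open Matrix CfsgLib.Classical CfsgLib.Transvec
open scoped MatrixGroups

variable {F : Type*} [Field F] {a b : ℕ}

/-- The polar form of `Q` is the tensor product of two alternating forms and pure vectors are singular. -/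
structure Tens (Q : QuadraticForm F (Fin a × Fin b → F)) (f₁ : (Fin a → F) → (Fin a → F) → F)
    (f₂ : (Fin b → F) → (Fin b → F) → F) : Prop where
  left : Cfsg.Geo.IsSymplecticForm f₁
  right : Cfsg.Geo.IsSymplecticForm f₂
  polar_pt : ∀ x u y w, QuadraticMap.polar Q (pt x u) (pt y w) = f₁ x y * f₂ u w
  pure : ∀ x u, Q (pt x u) = 0

/-- The linear map `u ↦ p ⊗ u`. -/
def ptR (p : Fin a → F) : (Fin b → F) →ₗ[F] (Fin a × Fin b → F) where
  toFun u := pt p u
  map_add' u w := pt_add_right p u w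
  map_smul' c u := pt_smul_right c p u

/-- Contraction of the first factor with `ψ`. -/
def slA (ψ : Fin a → F) : (Fin a × Fin b → F) →ₗ[F] (Fin b → F) where
  toFun v j := ∑ i, ψ i * v (i, j)
  map_add' v w := funext fun j => by simp [mul_add, Finset.sum_add_distrib]
  map_smul' c v := funext fun j => by simp [Finset.mul_sum, mul_left_comm]

lemma slA_pt (ψ x : Fin a → F) (u : Fin b → F) : slA ψ (pt x u) = (ψ ⬝ᵥ x) • u :=
  funext fun j => by
    simp only [slA, pt, LinearMap.coe_mk, AddHom.coe_mk, dotProduct, Pi.smul_apply, smul_eq_mul, Finset.sum_mul,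
      mul_assoc]

lemma dot_sl_slA (ψ : Fin a → F) (φ : Fin b → F) (v : Fin a × Fin b → F) : ψ ⬝ᵥ sl φ v = φ ⬝ᵥ slA ψ v := by
  simp only [dotProduct, sl, slA, LinearMap.coe_mk, AddHom.coe_mk, Finset.mul_sum]
  rw [Finset.sum_comm]
  exact Finset.sum_congr rfl fun j _ => Finset.sum_congr rfl fun i _ => by ring

lemma sl_add_left (φ ψ : Fin b → F) (v : Fin a × Fin b → F) : sl (φ + ψ) v = sl φ v + sl ψ v :=
  funext fun i => by simp [sl, add_mul, Finset.sum_add_distrib]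

lemma sl_smul_left (c : F) (φ : Fin b → F) (v : Fin a × Fin b → F) : sl (c • φ) v = c • sl φ v :=
  funext fun i => by simp [sl, Finset.mul_sum, mul_assoc]

/-- A map given on pure vectors by two invertible matrices has Kronecker form. -/
lemma isKron_of_apply {g : GL (Fin a × Fin b) F} (A : GL (Fin a) F) (B : GL (Fin b) F)
    (h : ∀ x u, g.val *ᵥ pt x u = pt (A.val *ᵥ x) (B.val *ᵥ u)) : IsKron g := by
  refine ⟨A, B, Matrix.ext_iff_mulVec.mpr fun v => ?_⟩
  rw [eq_sum_pt v, Matrix.mulVec_sum, Matrix.mulVec_sum]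
  exact Finset.sum_congr rfl fun j _ => (h _ _).trans (TensorRefine.kronecker_mulVec _ _ _ _).symm

/-- The contraction dual to pure vectors at `u`. -/
def s2 (f₂ : (Fin b → F) → (Fin b → F) → F) (u : Fin b → F) : (Fin a × Fin b → F) →ₗ[F] (Fin a → F) :=
  sl (gram f₂ *ᵥ u)

variable {Q : QuadraticForm F (Fin a × Fin b → F)} {f₁ : (Fin a → F) → (Fin a → F) → F}
  {f₂ : (Fin b → F) → (Fin b → F) → F}

section

variable (T : Tens Q f₁ f₂)
include T

lemma s2_pt (u : Fin b → F) (x : Fin a → F) (z : Fin b → F) : s2 f₂ u (pt x z) = f₂ z u • x := by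
  rw [s2, sl_pt, form_eq_dot T.right]

omit T in
lemma s2_add (u w : Fin b → F) (v : Fin a × Fin b → F) : s2 f₂ (u + w) v = s2 f₂ u v + s2 f₂ w v := by
  rw [s2, s2, s2, mulVec_add, sl_add_left]

omit T in
lemma s2_smul (c : F) (u : Fin b → F) (v : Fin a × Fin b → F) : s2 f₂ (c • u) v = c • s2 f₂ u v := by
  rw [s2, s2, mulVec_smul, sl_smul_left]

lemma polar_pt_right (v : Fin a × Fin b → F) (p : Fin a → F) (u : Fin b → F) :
    QuadraticMap.polar Q v (pt p u) = f₁ (s2 f₂ u v) p := by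
  obtain ⟨φ, hφ⟩ : ∃ φ : (Fin a × Fin b → F) →+ F, ∀ w, φ w = QuadraticMap.polar Q w (pt p u) :=
    ⟨AddMonoidHom.mk' _ (fun x y => QuadraticMap.polar_add_left Q x y _), fun w => rfl⟩
  obtain ⟨ψ, hψ⟩ : ∃ ψ : (Fin a → F) →+ F, ∀ x, ψ x = f₁ x p :=
    ⟨AddMonoidHom.mk' _ (fun x y => T.left.bilinear.add_left x y p), fun x => rfl⟩
  rw [← hφ, ← hψ]
  conv_lhs => rw [eq_sum_pt v, map_sum]
  conv_rhs => rw [eq_sum_pt v, map_sum, map_sum]
  refine Finset.sum_congr rfl fun j _ => ?_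
  rw [hφ, hψ, T.polar_pt, s2_pt T, T.left.bilinear.smul_left, mul_comm]

lemma polarNondeg : PolarNondeg Q := fun v hv => by
  have h : ∀ φ : Fin b → F, sl φ v = 0 := fun φ => by
    obtain ⟨z, hz⟩ := exists_repr T.right φ
    rw [← hz]
    refine eq_of_form T.left fun p => ?_
    have h0 : f₁ 0 p = 0 := by simpa using T.left.bilinear.smul_left 0 0 p
    rw [show sl (gram f₂ *ᵥ z) v = s2 f₂ z v from rfl, ← polar_pt_right T, hv, h0]
  rw [eq_sum_pt v]
  refine Finset.sum_eq_zero fun j _ => ?_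
  have e : (fun i => v (i, j)) = 0 := (sl_single j v).symm.trans (h _)
  rw [e, pt_zero_left]

/-- A vector orthogonal to all pure vectors orthogonal to `e` is pure at `e`. -/
lemma mem_pureW_of_s2 {e φ₀ : Fin b → F} (hφ : φ₀ ⬝ᵥ e = 1) {v : Fin a × Fin b → F}
    (h : ∀ w, f₂ e w = 0 → s2 f₂ w v = 0) : v = pt (sl φ₀ v) e := by
  have hk : ∀ φ : Fin b → F, sl φ (v - pt (sl φ₀ v) e) = 0 := fun φ => by
    obtain ⟨z, hz⟩ := exists_repr T.right (φ - (φ ⬝ᵥ e) • φ₀)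
    have hez : f₂ e z = 0 := by
      rw [form_eq_dot T.right, hz, sub_dotProduct, smul_dotProduct, hφ, smul_eq_mul, mul_one, sub_self]
    have h1 := h z hez
    rw [s2, hz, show φ - (φ ⬝ᵥ e) • φ₀ = φ + (-(φ ⬝ᵥ e)) • φ₀ by rw [neg_smul, sub_eq_add_neg], sl_add_left,
      sl_smul_left] at h1
    rw [map_sub, sl_pt, eq_neg_of_add_eq_zero_left h1, neg_smul]
    abel
  rw [← sub_eq_zero, eq_sum_pt (v - pt (sl φ₀ v) e)]
  refine Finset.sum_eq_zero fun j _ => ?_
  have e' : (fun i => (v - pt (sl φ₀ v) e) (i, j)) = 0 := (sl_single j _).symm.trans (hk _)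
  rw [e', pt_zero_left]

/-- The identity expansion gives an element of the Eichler group moving one totally singular image. -/
theorem exists_eich_shift [Fintype F] {k : ℕ} {f' : (Fin k → F) → (Fin k → F) → F}
    (hf : Cfsg.Geo.IsSymplecticForm f') (ι' : (Fin k → F) →ₗ[F] (Fin a × Fin b → F))
    (π : (Fin a × Fin b → F) →ₗ[F] (Fin k → F)) (hs : ∀ z, Q (ι' z) = 0)
    (hp : ∀ v z, QuadraticMap.polar Q v (ι' z) = f' (π v) z) (s : F) :
    ∃ g ∈ eichGroup Q, ∀ v, g.1 v = v + s • ι' (π v) := by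
  classical
  have hzero : ∀ z z', QuadraticMap.polar Q (ι' z) (ι' z') = 0 := fun z z' => by
    simp [QuadraticMap.polar, ← map_add, hs]
  obtain ⟨P, hP⟩ : ∃ P : ((Fin k → F) →ₗ[F] (Fin k → F)) → Prop,
      ∀ L, P L ↔ ∃ g ∈ eichGroup Q, ∀ v, g.1 v = v + ι' (L (π v)) := ⟨_, fun L => Iff.rfl⟩
  have hπ : ∀ z, π (ι' z) = 0 := fun z => eq_of_form hf fun p => by
    have h0 : f' 0 p = 0 := by simpa using hf.bilinear.smul_left 0 0 p
    rw [← hp, hzero, h0]
  have hP0 : P 0 := (hP 0).mpr ⟨1, one_mem _, fun v => by simp⟩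
  have hPadd : ∀ L L', P L → P L' → P (L + L') := fun L L' h h' => by
    obtain ⟨g, hg, hg'⟩ := (hP L).mp h
    obtain ⟨g₂, hg₂, hg₂'⟩ := (hP L').mp h'
    refine (hP _).mpr ⟨g * g₂, mul_mem hg hg₂, fun v => ?_⟩
    rw [qAut_mul_apply, hg₂', hg', map_add π, hπ, add_zero, LinearMap.add_apply, map_add]
    abel
  obtain ⟨R, hR⟩ : ∃ R : (Fin k → F) → (Fin k → F) → ((Fin k → F) →ₗ[F] (Fin k → F)),
      ∀ p q x, R p q x = f' x p • q - f' x q • p :=
    ⟨fun p q => { toFun := fun x => f' x p • q - f' x q • p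
                  map_add' := fun x y => by simp only [hf.bilinear.add_left, add_smul]; abel
                  map_smul' := fun c x => by
                    simp only [hf.bilinear.smul_left, RingHom.id_apply, smul_sub, smul_smul] },
      fun p q x => rfl⟩
  have hPR : ∀ p q, P (R p q) := fun p q => (hP _).mpr ⟨_, eich_mem Q (hs p) (hzero p q), fun v => by
    rw [eich_apply Q (hs p) (hzero p q), hp, hp, hs, zero_mul, add_zero, hR, map_sub, map_smul, map_smul]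
    abel⟩
  obtain ⟨M, hMd, hMs, hMx⟩ := exists_expansion hf
  obtain ⟨L, hL⟩ : ∃ L, L = ∑ i, ∑ j, (if i < j then R (Pi.single i 1) ((s * M i j) • Pi.single j 1) else 0) :=
    ⟨_, rfl⟩
  have hPL : P L := hL ▸ Finset.sum_induction _ P hPadd hP0 fun i _ => Finset.sum_induction _ P hPadd hP0
    fun j _ => by
      split_ifs
      exacts [hPR _ _, hP0]
  have hLx : ∀ x, L x = s • x := fun x => by
    have key := sum_pairs hf hMd hMs fun i j => f' x (Pi.single i 1) • (Pi.single j 1 : Fin k → F)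
    rw [hMx] at key
    conv_rhs => rw [← key]
    rw [hL, LinearMap.sum_apply, Finset.smul_sum]
    refine Finset.sum_congr rfl fun i _ => ?_
    rw [LinearMap.sum_apply, Finset.smul_sum]
    refine Finset.sum_congr rfl fun j _ => ?_
    split_ifs
    · rw [hR, hf.bilinear.smul_right]
      module
    · simp
  obtain ⟨g, hg, hg'⟩ := (hP L).mp hPL
  exact ⟨g, hg, fun v => by rw [hg', hLx, map_smul]⟩

variable [Fintype F]

/-- The root element at `u`. -/
theorem exists_root (u : Fin b → F) (s : F) :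
    ∃ g ∈ eichGroup Q, (∀ v, g.1 v = v + s • pt (s2 f₂ u v) u) ∧ IsKron (qHom Q g) := by
  obtain ⟨g, hg, hg'⟩ := exists_eich_shift T T.left (ptL (a := a) u) (s2 f₂ u) (fun z => T.pure z u)
    (fun v z => polar_pt_right T v z u) s
  refine ⟨g, hg, hg', ?_⟩
  have hd : (s • (gram f₂ *ᵥ u)) ⬝ᵥ u = 0 := by
    rw [smul_dotProduct, ← form_eq_dot T.right, T.right.alternating, smul_zero]
  rw [show qHom Q g = rootB a u _ hd from Transvec.gl_ext fun v => by
    rw [qHom_mulVec, rootB_mulVec, hg', sl_smul_left, pt_smul_left]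
    rfl]
  exact isKron_rootB hd

/-- The transvections of the first factor. -/
theorem exists_transA (p : Fin a → F) (s : F) :
    ∃ g ∈ eichGroup Q, (∀ x z, g.1 (pt x z) = pt (tv f₁ p s *ᵥ x) z) ∧ IsKron (qHom Q g) := by
  have hp : ∀ v z, QuadraticMap.polar Q v (pt p z) = f₂ (slA (gram f₁ *ᵥ p) v) z := fun v z => by
    rw [polar_pt_right T, form_eq_dot T.left, s2, dot_sl_slA, ← form_eq_dot T.right]
  obtain ⟨g, hg, hg'⟩ := exists_eich_shift T T.right (ptR (b := b) p) (slA (gram f₁ *ᵥ p)) (fun z => T.pure p z)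
    hp s
  have hact : ∀ x z, g.1 (pt x z) = pt (tv f₁ p s *ᵥ x) z := fun x z => by
    rw [hg', slA_pt, ← form_eq_dot T.left, tv_mulVec T.left, pt_add_left, pt_smul_left, map_smul, smul_smul]
    rfl
  refine ⟨g, hg, hact, isKron_of_apply ⟨tv f₁ p s, tv f₁ p (-s), tv_mul_neg T.left p s,
    by simpa using tv_mul_neg T.left p (-s)⟩ 1 fun x z => ?_⟩
  rw [qHom_mulVec, hact, Units.val_one, one_mulVec]

end

/-- Sums of elements T(e,w,G). -/
theorem hasT_add' {M : Subgroup (qAut Q)} (T : Tens Q f₁ f₂) {e w : Fin b → F} (hew : f₂ e w = 0)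
    {G K : Matrix (Fin a) (Fin a) F}
    (hG : ∃ g ∈ M, ∀ v, g.1 v = v + pt (G *ᵥ s2 f₂ e v) w + pt (adj f₁ G *ᵥ s2 f₂ w v) e)
    (hK : ∃ g ∈ M, ∀ v, g.1 v = v + pt (K *ᵥ s2 f₂ e v) w + pt (adj f₁ K *ᵥ s2 f₂ w v) e) :
    ∃ g ∈ M, ∀ v, g.1 v = v + pt ((G + K) *ᵥ s2 f₂ e v) w + pt (adj f₁ (G + K) *ᵥ s2 f₂ w v) e := by
  obtain ⟨g, hg, hg'⟩ := hG
  obtain ⟨g₂, hg₂, hg₂'⟩ := hK
  have hwe : f₂ w e = 0 := by rw [T.right.skew, hew, neg_zero]
  refine ⟨g * g₂, mul_mem hg hg₂, fun v => ?_⟩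
  rw [qAut_mul_apply, hg₂', hg', adj_add T.left]
  simp only [map_add, s2_pt T, hew, hwe, T.right.alternating, zero_smul, add_zero, add_mulVec, pt_add_left]
  abel

/-- The setting: a group between the tensor stabiliser and the Eichler group. -/
structure Ctx [Fintype F] (Q : QuadraticForm F (Fin a × Fin b → F)) (f₁ : (Fin a → F) → (Fin a → F) → F)
    (f₂ : (Fin b → F) → (Fin b → F) → F) (M : Subgroup (qAut Q)) : Prop where
  tens : Tens Q f₁ f₂
  two_le : 2 ≤ a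
  lt : a + 2 ≤ b
  hyp : 3 ≤ a ∨ ∃ t : F, t ≠ 0 ∧ t ≠ 1
  le : ∀ g ∈ eichGroup Q, IsKron (qHom Q g) → g ∈ M
  sub : M ≤ eichGroup Q

/-- `M` contains the element T(e,w,G). -/
def HasT (M : Subgroup (qAut Q)) (f₁ : (Fin a → F) → (Fin a → F) → F) (f₂ : (Fin b → F) → (Fin b → F) → F)
    (e w : Fin b → F) (G : Matrix (Fin a) (Fin a) F) : Prop :=
  ∃ g ∈ M, ∀ v, g.1 v = v + pt (G *ᵥ s2 f₂ e v) w + pt (adj f₁ G *ᵥ s2 f₂ w v) e

variable [Fintype F] {M : Subgroup (qAut Q)} (C : Ctx Q f₁ f₂ M)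
include C

theorem root_mem (u : Fin b → F) (s : F) :
    ∃ g ∈ M, (∀ v, g.1 v = v + s • pt (s2 f₂ u v) u) ∧ IsKron (qHom Q g) := by
  obtain ⟨g, hg, h, hk⟩ := exists_root C.tens u s
  exact ⟨g, C.le g hg hk, h, hk⟩

theorem transA_mem (p : Fin a → F) (s : F) :
    ∃ g ∈ M, ∀ x z, g.1 (pt x z) = pt (tv f₁ p s *ᵥ x) z := by
  obtain ⟨g, hg, h, hk⟩ := exists_transA C.tens p s
  exact ⟨g, C.le g hg hk, h⟩

theorem hasT_symm {e w : Fin b → F} {G : Matrix (Fin a) (Fin a) F} (h : HasT M f₁ f₂ e w G) :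
    HasT M f₁ f₂ w e (adj f₁ G) := by
  obtain ⟨g, hg, h⟩ := h
  exact ⟨g, hg, fun v => by rw [h, adj_adj C.tens.left]; abel⟩

theorem hasT_add {e w : Fin b → F} (hew : f₂ e w = 0) {G K : Matrix (Fin a) (Fin a) F}
    (hG : HasT M f₁ f₂ e w G) (hK : HasT M f₁ f₂ e w K) : HasT M f₁ f₂ e w (G + K) :=
  hasT_add' C.tens hew hG hK

theorem hasT_scalar {e w : Fin b → F} (hew : f₂ e w = 0) (c : F) :
    ∃ g ∈ M, (∀ v, g.1 v = v + pt ((c • (1 : Matrix (Fin a) (Fin a) F)) *ᵥ s2 f₂ e v) w +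
      pt (adj f₁ (c • 1) *ᵥ s2 f₂ w v) e) ∧ IsKron (qHom Q g) := by
  obtain ⟨g₁, hg₁, h₁, k₁⟩ := root_mem C (e + w) c
  obtain ⟨g₂, hg₂, h₂, k₂⟩ := root_mem C e (-c)
  obtain ⟨g₃, hg₃, h₃, k₃⟩ := root_mem C w (-c)
  have hwe : f₂ w e = 0 := by rw [C.tens.right.skew, hew, neg_zero]
  refine ⟨g₁ * g₂ * g₃, mul_mem (mul_mem hg₁ hg₂) hg₃, fun v => ?_, ?_⟩
  · rw [qAut_mul_apply, qAut_mul_apply, h₃, h₂, h₁, adj_scalar C.tens.left]
    simp only [map_add, map_smul, s2_pt C.tens, s2_add, C.tens.right.bilinear.add_right, hew, hwe, C.tens.right.alternating, zero_smul, smul_zero,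
      add_zero, smul_mulVec, one_mulVec, pt_add_right, pt_add_left, pt_smul_left]
    module
  · rw [map_mul, map_mul]
    exact (Cfsg.Geo.kroneckerSubgroup a b F).mul_mem ((Cfsg.Geo.kroneckerSubgroup a b F).mul_mem k₁ k₂) k₃

/-- Conjugation by an element acting as a tensor product. -/
theorem hasT_conj {g : qAut Q} (hg : g ∈ M) {A A' : Matrix (Fin a) (Fin a) F} (hA : A * A' = 1)
    (hiso : ∀ x y, f₁ (A *ᵥ x) (A *ᵥ y) = f₁ x y) {B : (Fin b → F) → (Fin b → F)}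
    (hact : ∀ x z, g.1 (pt x z) = pt (A *ᵥ x) (B z)) {e w : Fin b → F} {G : Matrix (Fin a) (Fin a) F}
    (h : HasT M f₁ f₂ e w G) : HasT M f₁ f₂ (B e) (B w) (A * G * A') := by
  obtain ⟨t, ht, ht'⟩ := h
  have hA' : A' * A = 1 := mul_eq_one_comm.mp hA
  have hs : ∀ (u : Fin b → F) (v : Fin a × Fin b → F), s2 f₂ (B u) (g.1 v) = A *ᵥ s2 f₂ u v := fun u v =>
    eq_of_form C.tens.left fun p => by
      rw [← polar_pt_right C.tens, show p = A *ᵥ (A' *ᵥ p) by rw [mulVec_mulVec, hA, one_mulVec], ← hact,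
        qAut_polar, polar_pt_right C.tens, hiso]
  have hadj : adj f₁ (A * G * A') = A * adj f₁ G * A' := adj_eq C.tens.left fun x y => by
    conv_lhs => arg 2; rw [show y = A *ᵥ (A' *ᵥ y) by rw [mulVec_mulVec, hA, one_mulVec]]
    conv_rhs => arg 1; rw [show x = A *ᵥ (A' *ᵥ x) by rw [mulVec_mulVec, hA, one_mulVec]]
    rw [← mulVec_mulVec, ← mulVec_mulVec, ← mulVec_mulVec, ← mulVec_mulVec, hiso, hiso, adj_spec C.tens.left]
  refine ⟨g * t * g⁻¹, mul_mem (mul_mem hg ht) (inv_mem hg), fun v => ?_⟩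
  obtain ⟨y, rfl⟩ : ∃ y, v = g.1 y := ⟨_, (qApply_inv_self Q g v).symm⟩
  rw [qAut_mul_apply, qAut_mul_apply, qInv_apply_self, ht', map_add, map_add, hact, hact, hs, hs, hadj]
  simp only [mulVec_mulVec, mul_assoc, hA', mul_one]

/-- Commutating an element moving only `w''` with T(w'',w₂,G). -/
theorem hasT_comm {U : qAut Q} (hU : U ∈ M) {e w₂ w' : Fin b → F} {K G : Matrix (Fin a) (Fin a) F}
    (h2e : f₂ w₂ e = 0) (h'e : f₂ w' e = 0) (h'2 : f₂ w' w₂ = 0) (hU2 : ∀ x, U.1 (pt x w₂) = pt x w₂)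
    (hU' : ∀ x, U.1 (pt x w') = pt x w' + pt (K *ᵥ x) e) (h : HasT M f₁ f₂ w' w₂ G) :
    HasT M f₁ f₂ e w₂ (G * adj f₁ K) := by
  obtain ⟨t, ht, ht'⟩ := h
  have h2' : f₂ w₂ w' = 0 := by rw [C.tens.right.skew, h'2, neg_zero]
  have he2 : f₂ e w₂ = 0 := by rw [C.tens.right.skew, h2e, neg_zero]
  have he' : f₂ e w' = 0 := by rw [C.tens.right.skew, h'e, neg_zero]
  have hs2 : ∀ v, s2 f₂ w₂ (U.1 v) = s2 f₂ w₂ v := fun v => eq_of_form C.tens.left fun p => by
    rw [← polar_pt_right C.tens, ← polar_pt_right C.tens, ← hU2 p, qAut_polar, hU2]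
  have hs' : ∀ v, s2 f₂ w' v = s2 f₂ w' (U.1 v) + adj f₁ K *ᵥ s2 f₂ e (U.1 v) := fun v =>
    eq_of_form C.tens.left fun p => by
      rw [← polar_pt_right C.tens, ← qAut_polar U, hU', QuadraticMap.polar_add_right, polar_pt_right C.tens,
        polar_pt_right C.tens, ← adj_spec' C.tens.left, ← C.tens.left.bilinear.add_left]
  refine ⟨U * t * U⁻¹ * t⁻¹, mul_mem (mul_mem (mul_mem hU ht) (inv_mem hU)) (inv_mem ht), fun v => ?_⟩
  obtain ⟨y, rfl⟩ : ∃ y, v = t.1 y := ⟨_, (qApply_inv_self Q t v).symm⟩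
  obtain ⟨z, rfl⟩ : ∃ z, y = U.1 z := ⟨_, (qApply_inv_self Q U y).symm⟩
  rw [qAut_mul_apply, qAut_mul_apply, qAut_mul_apply, qInv_apply_self, qInv_apply_self, ht' z, map_add, map_add,
    hU2, hU', ht' (U.1 z), adj_mul C.tens.left, adj_adj C.tens.left]
  simp only [map_add, s2_pt C.tens, hs2, hs' z, h2e, h'e, h'2, h2', C.tens.right.alternating, zero_smul, add_zero,
    mulVec_add, pt_add_left, ← mulVec_mulVec]
  abel

end CfsgLib.Classical22.TensorMax.SympO
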