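/-
Maps preserving the pure subspaces are of Kronecker form; the tensor stabiliser is maximal in SL.
-/
import Cfsg.Agent.Lib.Classical22.TensorMaxLinear

set_option autoImplicit false

namespace CfsgLib.Classical22.TensorMax

open Matrix Kronecker CfsgLib.Transvec
open scoped MatrixGroups

variable {F : Type*} [Field F] {a b : ℕ}

/-- A map sending every pure subspace to a pure subspace has Kronecker form. -/
theorem isKron_of_pure (ha : 0 < a) (hb : 0 < b) {g : GL (Fin a × Fin b) F}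
    (h : ∀ u : Fin b → F, u ≠ 0 → ∃ u' : Fin b → F, u' ≠ 0 ∧ img g (pureW a u) = pureW a u') : IsKron g := by
  classical
  have hsv : ∀ j, (sv j : Fin b → F) ≠ 0 := fun j => by simp [sv]
  choose w hw0 hw using fun j => h (sv j) (hsv j)
  obtain ⟨G, hG⟩ : ∃ G : Fin b → Matrix (Fin a) (Fin a) F, ∀ j x, g.val *ᵥ pt x (sv j) = pt (G j *ᵥ x) (w j) := by
    have hex : ∀ j, ∃ L : (Fin a → F) →ₗ[F] (Fin a → F), ∀ x, g.val *ᵥ pt x (sv j) = pt (L x) (w j) := by
      intro j
      obtain ⟨i, hi⟩ := Function.ne_iff.mp (hw0 j)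
      refine ⟨(w j i)⁻¹ • ((sl (Pi.single i 1)).comp ((Matrix.mulVecLin g.val).comp (ptL (sv j)))), fun x => ?_⟩
      obtain ⟨y, hy⟩ : g.val *ᵥ pt x (sv j) ∈ pureW a (w j) :=
        hw j ▸ mem_img.mpr ⟨_, pt_mem_pureW x (sv j), rfl⟩
      rw [← hy]
      simp only [LinearMap.smul_apply, LinearMap.comp_apply, Matrix.mulVecLin_apply, ptL_apply] at hy ⊢
      rw [← hy, sl_pt, single_dotProduct, one_mul, smul_smul, inv_mul_cancel₀ hi, one_smul]
    choose L hL using hex
    exact ⟨fun j => LinearMap.toMatrix' (L j), fun j x => by rw [LinearMap.toMatrix'_mulVec]; exact hL j x⟩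
  have hGinj : ∀ j x, G j *ᵥ x = 0 → x = 0 := fun j x hx => by
    have h1 := hG j x
    rw [hx, pt_zero_left] at h1
    exact pt_eq_zero (hsv j) (mulVec_injective g (by simpa using h1))
  obtain ⟨j₀, -⟩ : ∃ j₀ : Fin b, True := ⟨⟨0, hb⟩, trivial⟩
  have hc : ∀ k, ∃ c : F, G k = c • G j₀ := by
    intro k
    by_cases hk : k = j₀
    · exact ⟨1, by rw [hk, one_smul]⟩
    have hli : w k ∉ Submodule.span F {w j₀} := by
      intro hmem
      obtain ⟨t, ht⟩ := Submodule.mem_span_singleton.mp hmem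
      have he : img g (pureW a (sv k)) = img g (pureW a (sv j₀)) := by
        rw [hw, hw]
        refine Submodule.eq_of_le_of_finrank_eq ?_ (by rw [finrank_pureW (hw0 k), finrank_pureW (hw0 j₀)])
        rintro _ ⟨y, rfl⟩
        rw [ptL_apply, ← ht, pt_smul_right, ← pt_smul_left]
        exact pt_mem_pureW _ _
      have he' := congrArg (img g⁻¹) he
      rw [img_inv_img, img_inv_img] at he'
      obtain ⟨y, hy⟩ : pt (Pi.single ⟨0, ha⟩ (1 : F)) (sv k) ∈ pureW a (sv j₀) := he' ▸ pt_mem_pureW _ _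
      have h1 := congrFun hy (⟨0, ha⟩, k)
      simp [ptL_apply, pt, sv, hk] at h1
    obtain ⟨φ, hφ0, hφk⟩ := exists_functional hli
    have hφ : φ ⬝ᵥ w j₀ = 0 := hφ0 _ (Submodule.mem_span_singleton_self _)
    have hne : (sv j₀ + sv k : Fin b → F) ≠ 0 := fun h0 => by
      simpa [sv, hk, Ne.symm hk] using congrFun (h0 : (sv j₀ + sv k : Fin b → F) = 0) k
    obtain ⟨u', -, hu'⟩ := h _ hne
    have hli' : w j₀ ∉ Submodule.span F {w k} := fun hmem => by
      obtain ⟨t, ht⟩ := Submodule.mem_span_singleton.mp hmem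
      have : t ≠ 0 := fun e => hw0 j₀ (by rw [← ht, e, zero_smul])
      exact hli (Submodule.mem_span_singleton.mpr ⟨t⁻¹, by rw [← ht, inv_smul_smul₀ this]⟩)
    obtain ⟨ψ, hψ0, hψj⟩ := exists_functional hli'
    have hψ : ψ ⬝ᵥ w k = 0 := hψ0 _ (Submodule.mem_span_singleton_self _)
    have hboth : ∀ x, ∃ y, G j₀ *ᵥ x = (ψ ⬝ᵥ u') • y ∧ G k *ᵥ x = (φ ⬝ᵥ u') • y := by
      intro x
      obtain ⟨y, hy⟩ : g.val *ᵥ pt x (sv j₀ + sv k) ∈ pureW a u' := hu' ▸ mem_img.mpr ⟨_, pt_mem_pureW _ _, rfl⟩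
      rw [pt_add_right, mulVec_add, hG, hG, ptL_apply] at hy
      refine ⟨y, ?_, ?_⟩
      · have h1 := congrArg (sl ψ) hy
        rwa [sl_pt, map_add, sl_pt, sl_pt, hψj, hψ, one_smul, zero_smul, add_zero, eq_comm] at h1
      · have h1 := congrArg (sl φ) hy
        rwa [sl_pt, map_add, sl_pt, sl_pt, hφk, hφ, one_smul, zero_smul, zero_add, eq_comm] at h1
    have hψu : ψ ⬝ᵥ u' ≠ 0 := fun h0 => by
      obtain ⟨y, hy, -⟩ := hboth (Pi.single ⟨0, ha⟩ 1)
      rw [h0, zero_smul] at hy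
      simpa using congrFun (hGinj j₀ _ hy) ⟨0, ha⟩
    refine ⟨φ ⬝ᵥ u' / ψ ⬝ᵥ u', Matrix.ext_of_mulVec_single fun q => ?_⟩
    obtain ⟨y, hy, hy'⟩ := hboth (Pi.single q 1)
    rw [smul_mulVec, hy, hy', smul_smul, div_mul_cancel₀ _ hψu]
  choose c hc using hc
  obtain ⟨B, hB⟩ : ∃ B : Matrix (Fin b) (Fin b) F, B = fun i j => c j * w j i := ⟨_, rfl⟩
  have hg : g.val = G j₀ ⊗ₖ B := by
    refine Matrix.ext_of_mulVec_single fun q => ?_
    rw [show (Pi.single q 1 : Fin a × Fin b → F) = pt (Pi.single q.1 1) (sv q.2) from funext fun p => by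
      obtain ⟨i, j⟩ := p
      by_cases h1 : i = q.1 <;> by_cases h2 : j = q.2 <;> simp [pt, sv, Pi.single_apply, Prod.ext_iff, h1, h2]]
    rw [show (G j₀ ⊗ₖ B) *ᵥ pt (Pi.single q.1 1) (sv q.2) = pt (G j₀ *ᵥ Pi.single q.1 1) (B *ᵥ sv q.2) from
      TensorRefine.kronecker_mulVec _ _ _ _, hG, hc, smul_mulVec, pt_smul_left, ← pt_smul_right]
    congr 1
    funext i
    rw [show B *ᵥ sv q.2 = B.col q.2 from Matrix.mulVec_single_one B q.2, Matrix.col_apply, hB]
    rfl
  have hdet := g.isUnit.map (Matrix.detMonoidHom)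
  change IsUnit g.val.det at hdet
  rw [hg, det_kronecker, Fintype.card_fin, Fintype.card_fin] at hdet
  have hA : IsUnit (G j₀) := (Matrix.isUnit_iff_isUnit_det _).mpr
    ((isUnit_pow_iff hb.ne').mp (IsUnit.mul_iff.mp hdet).1)
  have hBu : IsUnit B := (Matrix.isUnit_iff_isUnit_det B).mpr
    ((isUnit_pow_iff ha.ne').mp (IsUnit.mul_iff.mp hdet).2)
  exact ⟨hA.unit, hBu.unit, hg⟩

/-- Root elements move pure subspaces transitively. -/
theorem exists_move_pure (hb : 3 ≤ b) {u u' : Fin b → F} (hu : u ≠ 0) (hu' : u' ≠ 0) :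
    ∃ h ∈ kronSL a b F, img h (pureW a u) = pureW a u' := by
  by_cases hsp : u' ∈ Submodule.span F {u}
  · obtain ⟨t, ht⟩ := Submodule.mem_span_singleton.mp hsp
    refine ⟨1, Subgroup.one_mem _, ?_⟩
    rw [img_one]
    refine (Submodule.eq_of_le_of_finrank_eq ?_ (by rw [finrank_pureW hu, finrank_pureW hu'])).symm
    rintro _ ⟨y, rfl⟩
    rw [ptL_apply, ← ht, pt_smul_right, ← pt_smul_left]
    exact pt_mem_pureW _ _
  have hn : u ∉ Submodule.span F {u' - u} := by
    intro h
    obtain ⟨t, ht⟩ := Submodule.mem_span_singleton.mp h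
    have ht0 : t ≠ 0 := fun e => hu (by rw [← ht, e, zero_smul])
    refine hsp (Submodule.mem_span_singleton.mpr ⟨t⁻¹ + 1, ?_⟩)
    rw [add_smul, one_smul]
    conv_lhs => arg 1; rw [← ht, smul_smul, inv_mul_cancel₀ ht0, one_smul]
    abel
  obtain ⟨φ, hφ, hφu⟩ := exists_functional hn
  have hd := hφ _ (Submodule.mem_span_singleton_self _)
  refine ⟨rootB a (u' - u) φ hd, rootB_mem hd, Submodule.eq_of_le_of_finrank_eq ?_
    (by rw [finrank_img, finrank_pureW hu, finrank_pureW hu'])⟩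
  intro v hv
  obtain ⟨_, ⟨y, rfl⟩, rfl⟩ := mem_img.mp hv
  rw [ptL_apply, rootB_mulVec, sl_pt, hφu, one_smul, ← pt_add_right, add_sub_cancel]
  exact pt_mem_pureW _ _

/-- A non-zero functional killed by a linear map from a larger space. -/
lemma exists_ne_zero_of_finrank_lt {U W : Type*} [AddCommGroup U] [Module F U] [AddCommGroup W] [Module F W]
    [FiniteDimensional F U] [FiniteDimensional F W] (f : U →ₗ[F] W)
    (h : Module.finrank F W < Module.finrank F U) : ∃ x : U, x ≠ 0 ∧ f x = 0 := by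
  by_contra hc
  push Not at hc
  have hinj : Function.Injective f := (injective_iff_map_eq_zero f).mpr fun x hx => by
    by_contra hne; exact hc x hne hx
  exact absurd (LinearMap.finrank_le_finrank_of_injective hinj) (by omega)

/-- The tensor stabiliser is maximal in SL. -/
theorem kronSL_maximal (ha : 2 ≤ a) (hab : a < b) (hq : (∃ t : F, t ≠ 0 ∧ t ≠ 1) ∨ 3 ≤ a) :
    Cfsg.Geo.IsMaximalIn (Cfsg.Geo.specialLinear (Fin a × Fin b) F) (kronSL a b F) := by
  classical
  have hb : 3 ≤ b := by omega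
  refine ⟨lt_of_le_not_ge inf_le_right fun hle => ?_, fun M hH hMK => ?_⟩
  · obtain ⟨i, j, k, hjk⟩ : ∃ (i : Fin a) (j k : Fin b), j ≠ k := ⟨⟨0, by omega⟩, ⟨0, by omega⟩, ⟨1, by omega⟩, by simp⟩
    have hd : (Pi.single (i, k) 1 : Fin a × Fin b → F) ⬝ᵥ Pi.single (i, j) 1 = 0 := by simp [hjk]
    have hk := (hle (transv_mem_specialLinear (Pi.single (i, j) 1) (Pi.single (i, k) (1 : F)))).1
    obtain ⟨g, hg⟩ : ∃ g : GL (Fin a × Fin b) F, g = transv (Pi.single (i, j) 1) (Pi.single (i, k) (1 : F)) :=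
      ⟨_, rfl⟩
    have hmv : move g ≤ Submodule.span F {(Pi.single (i, j) 1 : Fin a × Fin b → F)} := fun v hv => by
      obtain ⟨w, rfl⟩ := mem_move.mp hv
      rw [hg, transv_mulVec hd, add_sub_cancel_left]
      exact Submodule.smul_mem _ _ (Submodule.mem_span_singleton_self _)
    have h1 : Module.finrank F (move g) ≤ 1 :=
      (Submodule.finrank_mono hmv).trans (finrank_span_le_card _ |>.trans (by simp))
    have hne : g ≠ 1 := fun h => by
      have := congrArg (fun x : GL (Fin a × Fin b) F => (x.val *ᵥ Pi.single (i, k) 1) (i, j)) h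
      simp [hg, transv_mulVec hd, hjk] at this
    obtain ⟨u, hu, he⟩ := move_kron hab (hg ▸ hk) hne (by omega)
    rw [he, finrank_pureW hu] at h1
    omega
  by_cases ht : Tight M (kronSL a b F) (fun u => u ≠ 0)
  · left
    refine le_antisymm (fun g hg => ⟨?_, hMK hg⟩) hH
    have S : Setup M (kronSL a b F) (fun u => u ≠ 0) (fun u φ => u ≠ 0 ∧ φ ≠ 0 ∧ φ ⬝ᵥ u = 0) :=
      { pos := by omega
        lt := hab
        le := hH
        kron := fun h hh => hh.1
        ne := fun u hu => hu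
        axis := fun u φ h => ⟨h.2.2, h.2.1⟩
        root := fun u φ _ h => rootB_mem h
        good := fun u φ h => h.1
        trans := fun u u' hu hu' => exists_move_pure hb hu hu'
        back := fun g _ u u' _ hu' _ => hu' }
    refine isKron_of_pure (by omega) (by omega) fun u hu => ?_
    refine pure_of_tight S ht (fun u₁ h₁ x hx _ => ?_) (fun u₁ h₁ D hD w => ?_) hg hu
    · obtain ⟨w, hw, hw0⟩ := Submodule.exists_mem_ne_zero_of_ne_bot (show img x (pureW a u₁) ≠ ⊥ from fun h => by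
        have := finrank_img x (pureW a u₁)
        rw [h, finrank_bot, finrank_pureW h₁] at this
        omega)
      refine ⟨w, hw, hw0, ?_⟩
      obtain ⟨φ, hφ, hs⟩ := exists_ne_zero_of_finrank_lt
        ({ toFun := fun φ => sl φ w
           map_add' := fun φ φ' => funext fun i => by simp [sl, add_mul, Finset.sum_add_distrib]
           map_smul' := fun c φ => funext fun i => by simp [sl, Finset.mul_sum, mul_assoc] } :
          (Fin b → F) →ₗ[F] (Fin a → F)) (by simp; omega)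
      obtain ⟨c, hc, hcd⟩ := exists_ne_zero_of_finrank_lt
        ({ toFun := fun c => φ ⬝ᵥ c
           map_add' := fun c c' => dotProduct_add φ c c'
           map_smul' := fun r c => dotProduct_smul r φ c } : (Fin b → F) →ₗ[F] F) (by simp; omega)
      exact ⟨c, φ, ⟨hc, hφ, hcd⟩, hs⟩
    · have hdim : Module.finrank F (((Fin a → F) ⧸ D) × F) < Module.finrank F (Fin b → F) := by
        have h1 := D.finrank_quotient_add_finrank
        have h2 : 0 < Module.finrank F D := Nat.pos_of_ne_zero fun h => hD (Submodule.finrank_eq_zero.mp h)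
        simp only [Module.finrank_prod, Module.finrank_self, Module.finrank_fin_fun] at h1 ⊢
        omega
      obtain ⟨φ, hφ, hs⟩ := exists_ne_zero_of_finrank_lt
        ({ toFun := fun φ => (D.mkQ (sl φ w), φ ⬝ᵥ u₁)
           map_add' := fun φ φ' => Prod.ext (by
             rw [Prod.fst_add, ← map_add]; exact congrArg D.mkQ (funext fun i => by
               simp [sl, add_mul, Finset.sum_add_distrib])) (add_dotProduct φ φ' u₁)
           map_smul' := fun c φ => Prod.ext (by
             rw [RingHom.id_apply, Prod.smul_fst, ← map_smul]; exact congrArg D.mkQ (funext fun i => by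
               simp [sl, Finset.mul_sum, mul_assoc])) (smul_dotProduct c φ u₁) } :
          (Fin b → F) →ₗ[F] ((Fin a → F) ⧸ D) × F) hdim
      have hs1 := congrArg Prod.fst hs
      have hs2 := congrArg Prod.snd hs
      exact ⟨u₁, φ, ⟨h₁, hφ, hs2⟩, hs2, Or.inr ⟨rfl, (Submodule.Quotient.mk_eq_zero D).mp hs1⟩⟩
  · right
    refine le_antisymm hMK ?_
    simp only [Tight, not_forall] at ht
    obtain ⟨u, hu, g, hg, hfix, hgH⟩ := ht
    have hk : ¬ IsKron g := fun h => hgH ⟨h, hMK hg⟩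
    obtain ⟨e⟩ : Nonempty (Fin b) := ⟨⟨0, by omega⟩⟩
    have hse : (sv e : Fin b → F) ≠ 0 := by simp [sv]
    obtain ⟨h, hh, hhe⟩ := exists_move_pure (a := a) hb hse hu
    refine le_of_fixes_pure ha hb hq hH (e := e) (y := h⁻¹ * g * h)
      (M.mul_mem (M.mul_mem (M.inv_mem (hH hh)) hg) (hH hh)) (fun x => ?_) (fun hk' => hk ?_)
    · have : (h⁻¹ * g * h).val *ᵥ pt x (sv e) ∈ pureW a (sv e) := by
        have h1 : img (h⁻¹ * g * h) (pureW a (sv e)) = pureW a (sv e) := by
          rw [img_mul, img_mul, hhe, hfix, ← hhe, img_inv_img]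
        rw [← h1]
        exact mem_img.mpr ⟨_, pt_mem_pureW _ _, rfl⟩
      obtain ⟨x', hx'⟩ := this
      exact ⟨x', hx'.symm⟩
    · have h2 := (Cfsg.Geo.kroneckerSubgroup a b F).mul_mem
        ((Cfsg.Geo.kroneckerSubgroup a b F).mul_mem hh.1 hk') ((Cfsg.Geo.kroneckerSubgroup a b F).inv_mem hh.1)
      simpa [IsKron, mul_assoc] using h2

end CfsgLib.Classical22.TensorMax
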