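/-
One non-scalar element T(e,w,G) gives all of them; elements fixing a flag produce such an element.
-/
import Cfsg.Agent.Lib.Classical22.SympTensorBase

set_option autoImplicit false

namespace CfsgLib.Classical22.TensorMax.SympO

open Matrix CfsgLib.Classical CfsgLib.Transvec
open scoped MatrixGroups

variable {F : Type*} [Field F] {a b : ℕ} {Q : QuadraticForm F (Fin a × Fin b → F)}
  {f₁ : (Fin a → F) → (Fin a → F) → F} {f₂ : (Fin b → F) → (Fin b → F) → F}

/-- Two independent orthogonal vectors of the second factor. -/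
def Pair (f₂ : (Fin b → F) → (Fin b → F) → F) (e w : Fin b → F) : Prop :=
  e ≠ 0 ∧ w ∉ Submodule.span F {e} ∧ f₂ e w = 0

variable [Fintype F] {M : Subgroup (qAut Q)} (C : Ctx Q f₁ f₂ M)
include C

lemma five_le : 5 ≤ b ∨ a = 2 := by
  have := C.two_le
  have := C.lt
  omega

/-- Moving a pair by a root. -/
theorem pair_root {e w : Fin b → F} (hp : Pair f₂ e w) {G : Matrix (Fin a) (Fin a) F}
    (h : HasT M f₁ f₂ e w G) (u : Fin b → F) (s : F) :
    Pair f₂ (e + (s * f₂ e u) • u) (w + (s * f₂ w u) • u) ∧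
      HasT M f₁ f₂ (e + (s * f₂ e u) • u) (w + (s * f₂ w u) • u) G := by
  have hr := C.tens.right
  refine ⟨⟨fun h0 => ?_, fun hmem => ?_, ?_⟩, ?_⟩
  · have e1 : e = -((s * f₂ e u) • u) := eq_neg_of_add_eq_zero_left h0
    have e2 : f₂ e u = 0 := by rw [e1, ← neg_smul, hr.bilinear.smul_left, hr.alternating, mul_zero]
    exact hp.1 (by simpa [e2] using h0)
  · obtain ⟨t, ht⟩ := Submodule.mem_span_singleton.mp hmem
    have e1 : w - t • e = (t * (s * f₂ e u) - s * f₂ w u) • u := by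
      rw [smul_add, smul_smul] at ht
      rw [sub_smul, eq_sub_iff_add_eq, sub_add_eq_add_sub, sub_eq_iff_eq_add, ← ht]
      abel
    have e2 : f₂ w u = t * f₂ e u := by
      have h' := hr.bilinear.add_left (w - t • e) (t • e) u
      rw [sub_add_cancel, e1, hr.bilinear.smul_left, hr.bilinear.smul_left, hr.alternating, mul_zero, zero_add] at h'
      exact h'
    refine hp.2.1 (Submodule.mem_span_singleton.mpr ⟨t, (sub_eq_zero.mp ?_).symm⟩)
    rw [e1, e2]
    ring_nf
    rw [zero_smul]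
  · simp only [hr.bilinear.add_left, hr.bilinear.add_right, hr.bilinear.smul_left, hr.bilinear.smul_right,
      hr.alternating, hp.2.2, hr.skew u w]
    ring
  · obtain ⟨g, hg, hg', -⟩ := root_mem C u s
    have h' := hasT_conj C hg (A := 1) (A' := 1) (one_mul 1) (fun x y => by rw [one_mulVec, one_mulVec])
      (B := fun z => z + (s * f₂ z u) • u) (fun x z => by
        rw [hg', s2_pt C.tens, one_mulVec, pt_smul_left, smul_smul, pt_add_right, pt_smul_right]) h
    rwa [one_mul, mul_one] at h'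

/-- Transitivity on pairs. -/
theorem hasT_all_pairs (hb : 5 ≤ b) {e w : Fin b → F} (hp : Pair f₂ e w) {G : Matrix (Fin a) (Fin a) F}
    (h : HasT M f₁ f₂ e w G) {e' w' : Fin b → F} (hp' : Pair f₂ e' w') : HasT M f₁ f₂ e' w' G := by
  have hr := C.tens.right
  have hnz : ∀ {x : Fin b → F}, x ≠ 0 → (∃ z, f₂ x z ≠ 0) ∧ ∃ z, f₂ z x ≠ 0 :=
    fun hx => ⟨(hr.nondegenerate _ hx).2, (hr.nondegenerate _ hx).1⟩
  -- moving the first vector
  have step1 : ∀ x y, f₂ x y ≠ 0 → (∃ z, Pair f₂ x z ∧ HasT M f₁ f₂ x z G) →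
      ∃ z, Pair f₂ y z ∧ HasT M f₁ f₂ y z G := by
    rintro x y hxy ⟨z, hz, hT⟩
    obtain ⟨u, hu⟩ : ∃ u, u = y - x := ⟨_, rfl⟩
    have h1 : f₂ x u = f₂ x y := by
      have e1 := hr.bilinear.add_right x u x
      rw [hu, sub_add_cancel, hr.alternating, add_zero] at e1
      rw [hu]; exact e1.symm
    have hy : x + ((f₂ x y)⁻¹ * f₂ x u) • u = y := by
      rw [h1, inv_mul_cancel₀ hxy, one_smul, hu, add_sub_cancel]
    have h2 := pair_root C hz hT u (f₂ x y)⁻¹
    rw [hy] at h2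
    exact ⟨_, h2⟩
  obtain ⟨m, -, hm1, hm2⟩ := exists_ne_ne (P := fun _ => True) (fun _ _ _ _ => trivial)
    (φ := fun z => f₂ e z) (ψ := fun z => f₂ z e') (hr.bilinear.add_right e)
    (fun u v => hr.bilinear.add_left u v e') ((hnz hp.1).1.imp fun _ h => ⟨trivial, h⟩)
    ((hnz hp'.1).2.imp fun _ h => ⟨trivial, h⟩)
  obtain ⟨z, hz, hT⟩ := step1 m e' hm2 (step1 e m hm1 ⟨w, hp, h⟩)
  -- moving the second vector
  have step2 : ∀ x y, f₂ x y ≠ 0 → f₂ e' y = 0 → (Pair f₂ e' x ∧ HasT M f₁ f₂ e' x G) →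
      Pair f₂ e' y ∧ HasT M f₁ f₂ e' y G := by
    rintro x y hxy hey ⟨hx, hT⟩
    obtain ⟨u, hu⟩ : ∃ u, u = y - x := ⟨_, rfl⟩
    have h1 : f₂ x u = f₂ x y := by
      have e1 := hr.bilinear.add_right x u x
      rw [hu, sub_add_cancel, hr.alternating, add_zero] at e1
      rw [hu]; exact e1.symm
    have h0 : f₂ e' u = 0 := by
      have e1 := hr.bilinear.add_right e' u x
      rw [hu, sub_add_cancel, hx.2.2, add_zero, hey] at e1
      rw [hu]; exact e1.symm
    have h2 := pair_root C hx hT u (f₂ x y)⁻¹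
    rwa [h0, mul_zero, zero_smul, add_zero, h1, inv_mul_cancel₀ hxy, one_smul, hu, add_sub_cancel] at h2
  have hper : ∀ {x}, Pair f₂ e' x → ∃ m, f₂ e' m = 0 ∧ f₂ x m ≠ 0 := fun {x} hx => by
    obtain ⟨m, hm0, hm1⟩ := exists_dual hr hx.2.1
    refine ⟨m, ?_, ?_⟩
    · rw [hr.skew, hm0 _ (Submodule.mem_span_singleton_self _), neg_zero]
    · rw [hr.skew, hm1]; exact neg_ne_zero.mpr one_ne_zero
  obtain ⟨k, hk, hk1, hk2⟩ := exists_ne_ne (P := fun k => f₂ e' k = 0)
    (fun u v hu hv => by rw [hr.bilinear.add_right, hu, hv, add_zero])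
    (φ := fun k => f₂ z k) (ψ := fun k => f₂ k w') (hr.bilinear.add_right z)
    (fun u v => hr.bilinear.add_left u v w') (hper hz)
    ((hper hp').imp fun m hm => ⟨hm.1, by rw [hr.skew]; exact neg_ne_zero.mpr hm.2⟩)
  exact (step2 k w' hk2 hp'.2.2 (step2 z k hk1 hk ⟨hz, hT⟩)).2

/-- One non-scalar T(e,w,G) gives every T(e,w,G). -/
theorem hasT_all (hb : 5 ≤ b) {e w : Fin b → F} (hp : Pair f₂ e w) {G : Matrix (Fin a) (Fin a) F}
    (h : HasT M f₁ f₂ e w G) (hG : ¬ ∃ c : F, G = c • 1) {e' w' : Fin b → F} (hp' : Pair f₂ e' w')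
    (K : Matrix (Fin a) (Fin a) F) : HasT M f₁ f₂ e' w' K := by
  have hr := C.tens.right
  have key := full_of_closed C.tens.left C.hyp
    (P := fun G => ∀ e w, Pair f₂ e w → HasT M f₁ f₂ e w G)
    (fun c e w hp => by
      obtain ⟨g, hg, hg', -⟩ := hasT_scalar C hp.2.2 c
      exact ⟨g, hg, hg'⟩)
    (fun G K hG hK e w hp => hasT_add C hp.2.2 (hG e w hp) (hK e w hp))
    ?_ ?_ ?_ ⟨G, fun x y hxy => hasT_all_pairs C hb hp h hxy, hG⟩
  · exact key K e' w' hp'
  · -- products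
    intro G₂ G₁ h2 h1 x y hxy
    obtain ⟨z, hzx, hzy, hz⟩ := exists_perp_notMem hr hb x y
    obtain ⟨z', hz0, hz1⟩ := exists_dual hr hz
    have hz'x := hz0 x (Submodule.subset_span (by simp))
    have hz'y := hz0 y (Submodule.subset_span (by simp))
    have hxz : Pair f₂ x z := ⟨hxy.1, fun hm => hz (Submodule.span_mono (by simp) hm),
      by rw [hr.skew, hzx, neg_zero]⟩
    have hyz : f₂ y z = 0 := by rw [hr.skew, hzy, neg_zero]
    have hzy' : Pair f₂ z' y := by
      refine ⟨fun h0 => ?_, fun hm => ?_, hz'y⟩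
      · rw [h0] at hz1
        have e0 : f₂ 0 z = 0 := by simpa using hr.bilinear.smul_left 0 0 z
        rw [e0] at hz1
        exact zero_ne_one hz1
      · obtain ⟨t, ht⟩ := Submodule.mem_span_singleton.mp hm
        have e0 := hr.bilinear.smul_left t z' z
        rw [ht, hyz, hz1, mul_one] at e0
        exact hxy.2.1 (by rw [← ht, ← e0, zero_smul]; exact zero_mem _)
    obtain ⟨U, hU, hU'⟩ := h1 x z hxz
    have hyx : f₂ y x = 0 := by rw [hr.skew, hxy.2.2, neg_zero]
    have := hasT_comm C hU hyx hz'x hz'y (K := adj f₁ G₁) (fun p => by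
      rw [hU', s2_pt C.tens, s2_pt C.tens, hyx, hyz]
      simp [pt_zero_left]) (fun p => by
      rw [hU', s2_pt C.tens, s2_pt C.tens, hz'x, hz1]
      simp [pt_zero_left]) (h2 z' y hzy')
    rwa [adj_adj C.tens.left] at this
  · intro G hG x y hxy
    have hyx : Pair f₂ y x := ⟨fun h0 => hxy.2.1 (by rw [h0]; exact zero_mem _), fun hm => by
      obtain ⟨t, ht⟩ := Submodule.mem_span_singleton.mp hm
      have ht0 : t ≠ 0 := fun e0 => hxy.1 (by rw [← ht, e0, zero_smul])
      exact hxy.2.1 (Submodule.mem_span_singleton.mpr ⟨t⁻¹, by rw [← ht, inv_smul_smul₀ ht0]⟩),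
      by rw [hr.skew, hxy.2.2, neg_zero]⟩
    exact hasT_symm C (hG y x hyx)
  · intro p s G hG x y hxy
    obtain ⟨g, hg, hact⟩ := transA_mem C p s
    exact hasT_conj C hg (A := tv f₁ p s) (A' := tv f₁ p (-s)) (tv_mul_neg C.tens.left p s)
      (tv_form C.tens.left p s) (B := fun z => z) hact (hG x y hxy)

/-- An element inducing a non-scalar map from a vector orthogonal to `e` into the pure space at `e`. -/
theorem exists_hasT_of_shear (hb : 5 ≤ b) {g : qAut Q} (hg : g ∈ M) {e u : Fin b → F} (he : e ≠ 0)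
    (hfix : ∀ x, g.1 (pt x e) = pt x e)
    (hsh : ∀ z, f₂ z e = 0 → ∀ x, ∃ y, g.1 (pt x z) = pt x z + pt y e) (hu : f₂ u e = 0)
    (hns : ¬ ∃ k : F, ∀ x, g.1 (pt x u) = pt x u + k • pt x e) :
    ∃ e' w' G, Pair f₂ e' w' ∧ HasT M f₁ f₂ e' w' G ∧ ¬ ∃ c : F, G = c • 1 := by
  classical
  have hr := C.tens.right
  obtain ⟨φ₀, -, hφ₀⟩ := exists_functional (E := (⊥ : Submodule F (Fin b → F))) (u := e) (by simpa using he)
  obtain ⟨K, hK⟩ : ∃ K : Matrix (Fin a) (Fin a) F, ∀ x, g.1 (pt x u) = pt x u + pt (K *ᵥ x) e := by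
    refine ⟨LinearMap.toMatrix' ((sl φ₀).comp ((g.1.toLinearMap - LinearMap.id).comp (ptL u))), fun x => ?_⟩
    obtain ⟨y, hy⟩ := hsh u hu x
    rw [LinearMap.toMatrix'_mulVec, LinearMap.comp_apply, LinearMap.comp_apply, LinearMap.sub_apply,
      LinearMap.id_apply, ptL_apply, LinearEquiv.coe_coe, hy, add_sub_cancel_left, sl_pt, hφ₀, one_smul]
  have hue : u ∉ Submodule.span F {e} := fun hm => by
    obtain ⟨t, rfl⟩ := Submodule.mem_span_singleton.mp hm
    exact hns ⟨0, fun x => by rw [zero_smul, add_zero, pt_smul_right, map_smul, hfix]⟩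
  obtain ⟨w₂, h2e, h2u, h2⟩ := exists_perp_notMem hr hb e u
  have hu2 : u ∉ Submodule.span F {e, w₂} := fun hm => by
    obtain ⟨p, q, hpq⟩ := Submodule.mem_span_pair.mp hm
    by_cases hq : q = 0
    · rw [hq, zero_smul, add_zero] at hpq
      exact hue (Submodule.mem_span_singleton.mpr ⟨p, hpq⟩)
    · refine h2 (Submodule.mem_span_pair.mpr ⟨-(q⁻¹ * p), q⁻¹, ?_⟩)
      rw [← hpq, smul_add, inv_smul_smul₀ hq, smul_smul, neg_smul]
      abel
  obtain ⟨z', hz0, hz1⟩ := exists_dual hr hu2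
  have hz'e := hz0 e (Submodule.subset_span (by simp))
  have hz'2 := hz0 w₂ (Submodule.subset_span (by simp))
  obtain ⟨X, hX, hX', -⟩ := root_mem C u 1
  have heu : f₂ e u = 0 := by rw [hr.skew, hu, neg_zero]
  have hXe : ∀ x, X.1 (pt x e) = pt x e := fun x => by
    rw [hX', s2_pt C.tens, heu]
    simp [pt_zero_left]
  have hU : ∀ x z, f₂ z e = 0 →
      (g * X * g⁻¹ * X⁻¹).1 (pt x z) = pt x z + f₂ z u • pt (K *ᵥ x) e := by
    intro x z hz
    obtain ⟨c, hc⟩ : ∃ c, c = f₂ z u := ⟨_, rfl⟩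
    have hce : f₂ (z - c • u) e = 0 := by
      have e1 := hr.bilinear.add_left (z - c • u) (c • u) e
      rw [sub_add_cancel, hz, hr.bilinear.smul_left, hu, mul_zero, add_zero] at e1
      exact e1.symm
    have hcu : f₂ (z - c • u) u = c := by
      have e1 := hr.bilinear.add_left (z - c • u) (c • u) u
      rw [sub_add_cancel, hr.bilinear.smul_left, hr.alternating, mul_zero, add_zero] at e1
      rw [← e1, hc]
    obtain ⟨y, hy⟩ := hsh _ hce x
    have h1 : X.1 (pt x (z - c • u)) = pt x z := by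
      rw [hX', s2_pt C.tens, hcu, one_smul, pt_smul_left, ← pt_smul_right, ← pt_add_right, sub_add_cancel]
    have h2 : g.1 (pt x (z - c • u) - pt y e) = pt x (z - c • u) := by rw [map_sub, hy, hfix, add_sub_cancel_right]
    have h3 : g.1 (pt x z) - pt y e = pt x z + c • pt (K *ᵥ x) e := by
      have e1 : g.1 (pt x z) = g.1 (pt x (z - c • u)) + c • g.1 (pt x u) := by
        rw [← map_smul, ← map_add, ← pt_smul_right, ← pt_add_right, sub_add_cancel]
      rw [e1, hy, hK, pt_sub_right, pt_smul_right, smul_add]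
      abel
    rw [qAut_mul_apply, qAut_mul_apply, qAut_mul_apply, ← h1, qInv_apply_self]
    conv_lhs => rw [← h2, qInv_apply_self, map_sub, hXe, h1, map_sub, hfix]
    rw [h3, h1, hc]
  refine ⟨e, w₂, 1 * adj f₁ K, ⟨he, fun hm => h2 (Submodule.span_mono (by simp) hm),
    by rw [hr.skew, h2e, neg_zero]⟩, ?_, fun hsc => ?_⟩
  · obtain ⟨t, ht, ht', -⟩ := hasT_scalar C hz'2 (1 : F)
    refine hasT_comm C (mul_mem (mul_mem (mul_mem hg hX) (inv_mem hg)) (inv_mem hX)) h2e hz'e hz'2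
      (fun x => by rw [hU x w₂ h2e, h2u, zero_smul, add_zero]) (fun x => by rw [hU x z' hz'e, hz1, one_smul]) ?_
    exact ⟨t, ht, fun v => by rw [ht', one_smul]⟩
  · obtain ⟨c, hc⟩ := hsc
    rw [one_mul] at hc
    refine hns ⟨c, fun x => ?_⟩
    rw [hK, ← adj_adj C.tens.left K, hc, adj_scalar C.tens.left, smul_mulVec, one_mulVec, pt_smul_left]

end CfsgLib.Classical22.TensorMax.SympO
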