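/-
A conjugate of a root that fixes a pure subspace without being a tensor gives a non-scalar T(e,w,G).
-/
import Cfsg.Agent.Lib.Classical22.SympTensorShear

set_option autoImplicit false

namespace CfsgLib.Classical22.TensorMax.SympO

open Matrix CfsgLib.Classical CfsgLib.Transvec
open scoped MatrixGroups

variable {F : Type*} [Field F] {a b : ℕ} {Q : QuadraticForm F (Fin a × Fin b → F)}
  {f₁ : (Fin a → F) → (Fin a → F) → F} {f₂ : (Fin b → F) → (Fin b → F) → F}

variable [Fintype F] {M : Subgroup (qAut Q)} (C : Ctx Q f₁ f₂ M)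
include C

theorem exists_hasT_of_fix (hb : 5 ≤ b) {y : qAut Q} (hy : y ∈ M) {e : Fin b → F} (he : e ≠ 0)
    (hW : ∀ x, ∃ z, y.1 (pt x e) = pt z e) (hsq : ∀ v, y.1 (y.1 v - v) = y.1 v - v)
    (hrank : Module.finrank F (LinearMap.range (y.1.toLinearMap - LinearMap.id)) ≤ a)
    (hk : ¬ IsKron (qHom Q y)) :
    ∃ e' w' G, Pair f₂ e' w' ∧ HasT M f₁ f₂ e' w' G ∧ ¬ ∃ c : F, G = c • 1 := by
  classical
  have hr := C.tens.right
  have hl := C.tens.left
  obtain ⟨φ₀, -, hφ₀⟩ := exists_functional (E := (⊥ : Submodule F (Fin b → F))) (u := e) (by simpa using he)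
  -- the action on the fixed pure subspace
  obtain ⟨A, hA⟩ : ∃ A : (Fin a → F) →ₗ[F] (Fin a → F), ∀ x, y.1 (pt x e) = pt (A x) e := by
    refine ⟨(sl φ₀).comp (y.1.toLinearMap.comp (ptL e)), fun x => ?_⟩
    obtain ⟨z, hz⟩ := hW x
    rw [LinearMap.comp_apply, LinearMap.comp_apply, ptL_apply, LinearEquiv.coe_coe, hz, sl_pt, hφ₀, one_smul]
  have hAinj : Function.Injective A := fun x x' h => pt_injective he (y.1.injective (by
    rw [ptL_apply, ptL_apply, hA, hA, h]))
  have hAsurj : Function.Surjective A := LinearMap.injective_iff_surjective.mp hAinj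
  have hs_e : ∀ u, f₂ u e = 0 → ∀ x, s2 f₂ e (y.1 (pt x u)) = 0 := fun u hu x => eq_of_form hl fun p => by
    obtain ⟨q, rfl⟩ := hAsurj p
    have h0 : f₁ 0 (A q) = 0 := by simpa using hl.bilinear.smul_left 0 0 (A q)
    rw [← polar_pt_right C.tens, ← hA, qAut_polar, C.tens.polar_pt, hu, mul_zero, h0]
  by_contra hcon
  -- case analysis through the conjugates of T(e,w,1)
  have hscal : ∀ w, f₂ w e = 0 → ∀ u, f₂ u e = 0 → ∃ k : F, ∀ x, s2 f₂ w (y.1 (pt x u)) = k • A x := by
    intro w hw u hu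
    by_contra hno
    have hew : f₂ e w = 0 := by rw [hr.skew, hw, neg_zero]
    obtain ⟨T, hT, hT', -⟩ := hasT_scalar C hew (1 : F)
    have hpre : ∀ p, y⁻¹.1 (pt p e) = pt ((LinearEquiv.ofBijective A ⟨hAinj, hAsurj⟩).symm p) e := fun p => by
      obtain ⟨q, rfl⟩ := hAsurj p
      rw [← hA, qInv_apply_self]
      congr 1
      exact ((LinearEquiv.ofBijective A ⟨hAinj, hAsurj⟩).symm_apply_apply q).symm
    have hUu : ∀ z, f₂ z e = 0 → ∀ x, (y⁻¹ * T * y).1 (pt x z) =
        pt x z + pt ((LinearEquiv.ofBijective A ⟨hAinj, hAsurj⟩).symm (s2 f₂ w (y.1 (pt x z)))) e := fun z hz x => by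
      rw [qAut_mul_apply, qAut_mul_apply, hT', hs_e z hz, adj_scalar hl, one_smul, mulVec_zero, pt_zero_left,
        add_zero, one_mulVec, map_add, qInv_apply_self, hpre]
    refine hcon (exists_hasT_of_shear C hb (mul_mem (mul_mem (inv_mem hy) hT) hy) he (fun x => ?_)
      (fun z hz x => ⟨_, hUu z hz x⟩) hu fun ⟨k, hk'⟩ => hno ⟨k, fun x => ?_⟩)
    · rw [qAut_mul_apply, qAut_mul_apply, hA, hT', s2_pt C.tens, s2_pt C.tens, hr.alternating, hew]
      simp only [zero_smul, mulVec_zero, pt_zero_left, add_zero]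
      rw [← hA, qInv_apply_self]
    · have h1 := (hUu u hu x).symm.trans (hk' x)
      rw [← pt_smul_left, add_right_inj] at h1
      have h2 := congrArg A (pt_injective he h1)
      rw [map_smul] at h2
      rw [← h2]
      exact ((LinearEquiv.ofBijective A ⟨hAinj, hAsurj⟩).apply_symm_apply _).symm
  -- the action on the fixed subspace is trivial
  have hAeig : ∀ x, ∃ l : F, LinearMap.toMatrix' A *ᵥ x = l • x := by
    intro x
    by_contra hne
    push Not at hne
    simp only [LinearMap.toMatrix'_mulVec] at hne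
    obtain ⟨L, hL⟩ : ∃ L : (Fin b → F) →ₗ[F] F, ∀ u, L u = f₂ u e :=
      ⟨{ toFun := fun u => f₂ u e
         map_add' := fun u v => hr.bilinear.add_left u v e
         map_smul' := fun c u => hr.bilinear.smul_left c u e }, fun u => rfl⟩
    obtain ⟨T, hT⟩ : ∃ T, T = ((y.1.toLinearMap - LinearMap.id).comp (ptR (b := b) x)).domRestrict (LinearMap.ker L) :=
      ⟨_, rfl⟩
    have hinj : Function.Injective T := by
      rw [← LinearMap.ker_eq_bot, LinearMap.ker_eq_bot']
      rintro ⟨u, hu⟩ hu0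
      have hu' : f₂ u e = 0 := (hL u).symm.trans (LinearMap.mem_ker.mp hu)
      rw [hT, LinearMap.domRestrict_apply, LinearMap.comp_apply, LinearMap.sub_apply, LinearMap.id_apply,
        LinearEquiv.coe_coe, sub_eq_zero] at hu0
      change y.1 (pt x u) = pt x u at hu0
      have huw : ∀ w, f₂ w e = 0 → f₂ u w = 0 := fun w hw => by
        obtain ⟨k, hk'⟩ := hscal w hw u hu'
        have h1 := hk' x
        rw [hu0, s2_pt C.tens] at h1
        by_contra h0
        by_cases hk0 : k = 0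
        · rw [hk0, zero_smul, smul_eq_zero] at h1
          rcases h1 with h1 | h1
          · exact h0 h1
          · exact hne 0 (by rw [h1, map_zero, smul_zero])
        · exact hne (k⁻¹ * f₂ u w) (by rw [← smul_smul, h1, inv_smul_smul₀ hk0])
      by_cases hue : u ∈ Submodule.span F {e}
      · obtain ⟨t, rfl⟩ := Submodule.mem_span_singleton.mp hue
        rw [pt_smul_right, map_smul, hA, ← sub_eq_zero, ← smul_sub] at hu0
        rcases smul_eq_zero.mp hu0 with h1 | h1
        · exact Subtype.ext (show t • e = 0 by rw [h1, zero_smul])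
        · exact absurd (by rw [one_smul]; exact pt_injective he (sub_eq_zero.mp h1)) (hne 1)
      · exfalso
        obtain ⟨z, hz0, hz1⟩ := exists_dual hr hue
        have := huw z (hz0 e (Submodule.mem_span_singleton_self _))
        rw [hr.skew, hz1] at this
        exact one_ne_zero (neg_eq_zero.mp this)
    have h1 := (LinearMap.finrank_range_of_inj hinj).symm.le.trans (Submodule.finrank_mono
      (show LinearMap.range T ≤ LinearMap.range (y.1.toLinearMap - LinearMap.id) from by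
        rintro _ ⟨u, rfl⟩
        rw [hT]
        exact ⟨_, rfl⟩))
    have h2 := LinearMap.finrank_range_add_finrank_ker L
    have h3 := Submodule.finrank_le (LinearMap.range L)
    rw [Module.finrank_self] at h3
    rw [Module.finrank_fin_fun] at h2
    have := C.lt
    omega
  obtain ⟨lam, hlam⟩ := scalar_of_eigen hAeig
  have hAl : ∀ x, A x = lam • x := fun x => by
    rw [← LinearMap.toMatrix'_mulVec A x, hlam, smul_mulVec, one_mulVec]
  obtain ⟨x₁, ψ, hψ⟩ : ∃ (x₁ ψ : Fin a → F), ψ ⬝ᵥ x₁ = 1 :=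
    ⟨Pi.single ⟨0, by have := C.two_le; omega⟩ 1, Pi.single ⟨0, by have := C.two_le; omega⟩ 1, by simp⟩
  have hx₁ : x₁ ≠ 0 := fun h => by rw [h, dotProduct_zero] at hψ; exact zero_ne_one hψ
  have hfix : ∀ x, y.1 (pt x e) = pt x e := by
    have h1 := hsq (pt x₁ e)
    rw [hA, hAl, pt_smul_left, map_sub, map_smul, hA, hAl, pt_smul_left, smul_smul] at h1
    have h2 : ((lam * lam - lam) - (lam - 1)) • pt x₁ e = 0 := by
      have h3 := sub_eq_zero.mpr h1
      rw [← h3]
      module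
    have h4 : pt x₁ e ≠ 0 := fun h0 => hx₁ (pt_eq_zero he h0)
    rcases smul_eq_zero.mp h2 with h | h
    · have h5 : (lam - 1) * (lam - 1) = 0 := by linear_combination h
      have h6 : lam = 1 := sub_eq_zero.mp (mul_self_eq_zero.mp h5)
      exact fun x => by rw [hA, hAl, h6, one_smul]
    · exact absurd h h4
  have hA1 : ∀ x, A x = x := fun x => pt_injective he (by rw [ptL_apply, ptL_apply, ← hA, hfix])
  -- elements moving every pure vector orthogonal to `e` into the pure space at `e`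
  have hshear : ∀ g ∈ M, ¬ IsKron (qHom Q g) → (∀ x, g.1 (pt x e) = pt x e) →
      (∀ z, f₂ z e = 0 → ∀ x, ∃ p, g.1 (pt x z) = pt x z + pt p e) → False := by
    intro g hg hgk hgfix hgsh
    have hsc : ∀ u, f₂ u e = 0 → ∃ k : F, ∀ x, g.1 (pt x u) = pt x u + k • pt x e := fun u hu => by
      by_contra hns
      exact hcon (exists_hasT_of_shear C hb hg he hgfix hgsh hu hns)
    obtain ⟨κ, hκ⟩ : ∃ κ : (Fin b → F) →ₗ[F] F, ∀ u, f₂ u e = 0 → ∀ x, g.1 (pt x u) = pt x u + κ u • pt x e := by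
      refine ⟨{ toFun := fun u => ψ ⬝ᵥ sl φ₀ (g.1 (pt x₁ u) - pt x₁ u)
                map_add' := fun u w => ?_
                map_smul' := fun c u => ?_ }, fun u hu x => ?_⟩
      · rw [pt_add_right, map_add, add_sub_add_comm, map_add, dotProduct_add]
      · rw [pt_smul_right, map_smul, ← smul_sub, map_smul, dotProduct_smul, RingHom.id_apply]
      · obtain ⟨k, hk'⟩ := hsc u hu
        simp only [LinearMap.coe_mk, AddHom.coe_mk]
        rw [hk', hk', add_sub_cancel_left, map_smul, sl_pt, hφ₀, one_smul, dotProduct_smul, hψ, smul_eq_mul,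
          mul_one]
    obtain ⟨w, hw⟩ := exists_repr hr (fun j => κ (Pi.single j 1))
    have hκw : ∀ u, f₂ u w = κ u := fun u => by
      rw [form_eq_dot hr, hw]
      conv_rhs => rw [pi_eq_sum_univ' u, map_sum]
      refine Finset.sum_congr rfl fun j _ => ?_
      rw [map_smul, smul_eq_mul, mul_comm]
    have hew : f₂ e w = 0 := by
      rw [hκw]
      have h1 := hκ e (hr.alternating e) x₁
      rw [hgfix, left_eq_add, smul_eq_zero] at h1
      exact h1.resolve_right fun h0 => hx₁ (pt_eq_zero he h0)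
    obtain ⟨T, hT, hT', hTk⟩ := hasT_scalar C hew (1 : F)
    have hTfix : ∀ x, T.1 (pt x e) = pt x e := fun x => by
      rw [hT', s2_pt C.tens, s2_pt C.tens, hr.alternating, hew]
      simp [pt_zero_left]
    obtain ⟨g₃, hg₃def⟩ : ∃ g₃, g₃ = T⁻¹ * g := ⟨_, rfl⟩
    have hg₃fix : ∀ u, f₂ u e = 0 → ∀ x, g₃.1 (pt x u) = pt x u := fun u hu x => by
      have h1 : T.1 (pt x u) = g.1 (pt x u) := by
        rw [hT', s2_pt C.tens, s2_pt C.tens, hu, hκ u hu, hκw, adj_scalar hl, one_smul, zero_smul, mulVec_zero,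
          pt_zero_left, add_zero, one_mulVec, pt_smul_left]
      rw [hg₃def, qAut_mul_apply, ← h1, qInv_apply_self]
    obtain ⟨e', he'⟩ : ∃ e', f₂ e' e = 1 := by
      obtain ⟨z, hz⟩ := (hr.nondegenerate e he).1
      exact ⟨(f₂ z e)⁻¹ • z, by rw [hr.bilinear.smul_left, inv_mul_cancel₀ hz]⟩
    obtain ⟨S, hS⟩ : ∃ S : Matrix (Fin a) (Fin a) F, ∀ x, g₃.1 (pt x e') = pt x e' + pt (S *ᵥ x) e := by
      refine ⟨LinearMap.toMatrix' ((sl φ₀).comp ((g₃.1.toLinearMap - LinearMap.id).comp (ptL e'))), fun x => ?_⟩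
      rw [LinearMap.toMatrix'_mulVec, LinearMap.comp_apply, LinearMap.comp_apply, LinearMap.sub_apply,
        LinearMap.id_apply, ptL_apply, LinearEquiv.coe_coe, ← mem_pureW_of_s2 C.tens hφ₀ (fun u hu => ?_),
        add_sub_cancel]
      refine eq_of_form hl fun p => ?_
      have hu' : f₂ u e = 0 := by rw [hr.skew, hu, neg_zero]
      have h0 : f₁ 0 p = 0 := by simpa using hl.bilinear.smul_left 0 0 p
      rw [← polar_pt_right C.tens, QuadraticMap.polar_sub_left]
      conv_lhs => arg 1; rw [← hg₃fix u hu' p, qAut_polar]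
      rw [sub_self, h0]
    have hg₃v : ∀ v, g₃.1 v = v + pt (S *ᵥ s2 f₂ e v) e := fun v => by
      have hj : ∀ j x, g₃.1 (pt x (Pi.single j 1)) =
          pt x (Pi.single j 1) + pt (S *ᵥ s2 f₂ e (pt x (Pi.single j 1))) e := fun j x => by
        obtain ⟨c, hc⟩ : ∃ c, c = f₂ (Pi.single j 1) e := ⟨_, rfl⟩
        have hz : f₂ (Pi.single j 1 - c • e') e = 0 := by
          have e1 := hr.bilinear.add_left (Pi.single j 1 - c • e') (c • e') e
          rw [sub_add_cancel, hr.bilinear.smul_left, he', mul_one, ← hc] at e1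
          linear_combination -e1
        rw [s2_pt C.tens, ← hc]
        conv_lhs => rw [← sub_add_cancel (Pi.single j 1) (c • e'), pt_add_right, map_add, hg₃fix _ hz,
          pt_smul_right, map_smul, hS]
        rw [mulVec_smul, pt_smul_left, pt_sub_right, pt_smul_right, smul_add]
        abel
      conv_rhs => rw [eq_sum_pt v]
      conv_lhs => rw [eq_sum_pt v, map_sum]
      rw [map_sum, Matrix.mulVec_sum, ← ptL_apply, map_sum, ← Finset.sum_add_distrib]
      exact Finset.sum_congr rfl fun j _ => hj j _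
    have hg₃M : g₃ ∈ M := hg₃def ▸ mul_mem (inv_mem hT) hg
    have hSne : ¬ ∃ c : F, S = c • 1 := by
      rintro ⟨c, rfl⟩
      obtain ⟨X, -, hX', hXk⟩ := root_mem C e c
      refine hgk ?_
      have e1 : g₃ = X := qAut_ext fun v => by rw [hg₃v, hX', smul_mulVec, one_mulVec, pt_smul_left]
      have e2 : g = T * X := by rw [← e1, hg₃def, mul_inv_cancel_left]
      rw [e2, map_mul]
      exact (Cfsg.Geo.kroneckerSubgroup a b F).mul_mem hTk hXk
    have hadjS : adj f₁ S = S := adj_eq hl fun p q => by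
      have h1 := qAut_polar g₃ (pt p e') (pt q e')
      rw [hS, hS] at h1
      simp only [QuadraticMap.polar_add_left, QuadraticMap.polar_add_right, C.tens.polar_pt, hr.alternating,
        he', hr.skew e e', mul_zero] at h1
      linear_combination -h1
    -- move the centre by roots
    have hstep : ∀ u u', f₂ u u' ≠ 0 → (∃ z ∈ M, ∀ v, z.1 v = v + pt (S *ᵥ s2 f₂ u v) u) →
        ∃ z ∈ M, ∀ v, z.1 v = v + pt (S *ᵥ s2 f₂ u' v) u' := by
      rintro u u' huu ⟨z, hz, hz'⟩
      obtain ⟨X, hX, hX', -⟩ := root_mem C (u' - u) (f₂ u u')⁻¹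
      have h1 : f₂ u (u' - u) = f₂ u u' := by
        have e1 := hr.bilinear.add_right u (u' - u) u
        rw [sub_add_cancel, hr.alternating, add_zero] at e1
        exact e1.symm
      have hmove : ∀ x, X.1 (pt x u) = pt x u' := fun x => by
        rw [hX', s2_pt C.tens, h1, pt_smul_left, smul_smul, inv_mul_cancel₀ huu, one_smul, ← pt_add_right,
          add_sub_cancel]
      have hs : ∀ v, s2 f₂ u' (X.1 v) = s2 f₂ u v := fun v => eq_of_form hl fun p => by
        rw [← polar_pt_right C.tens, ← hmove, qAut_polar, polar_pt_right C.tens]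
      refine ⟨X * z * X⁻¹, mul_mem (mul_mem hX hz) (inv_mem hX), fun v => ?_⟩
      obtain ⟨v', rfl⟩ : ∃ v', v = X.1 v' := ⟨_, (qApply_inv_self Q X v).symm⟩
      rw [qAut_mul_apply, qAut_mul_apply, qInv_apply_self, hz', map_add, hmove, hs]
    have hzall : ∀ u, u ≠ 0 → ∃ z ∈ M, ∀ v, z.1 v = v + pt (S *ᵥ s2 f₂ u v) u := fun u hu => by
      obtain ⟨m, -, hm1, hm2⟩ := exists_ne_ne (P := fun _ => True) (fun _ _ _ _ => trivial)
        (φ := fun z => f₂ e z) (ψ := fun z => f₂ z u) (hr.bilinear.add_right e)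
        (fun p q => hr.bilinear.add_left p q u) (((hr.nondegenerate e he).2).imp fun _ h => ⟨trivial, h⟩)
        (((hr.nondegenerate u hu).1).imp fun _ h => ⟨trivial, h⟩)
      exact hstep m u hm2 (hstep e m hm1 ⟨g₃, hg₃M, hg₃v⟩)
    obtain ⟨w₂, hw2e, -, hw2⟩ := exists_perp_notMem hr hb e e
    rw [Set.pair_eq_singleton] at hw2
    have he2 : f₂ e w₂ = 0 := by rw [hr.skew, hw2e, neg_zero]
    obtain ⟨z₁, hz₁, hz₁'⟩ := hzall (e + w₂) fun h0 => hw2 (by
      rw [eq_neg_of_add_eq_zero_right h0]; exact neg_mem (Submodule.mem_span_singleton_self _))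
    obtain ⟨z₂, hz₂, hz₂'⟩ := hzall e he
    obtain ⟨z₃, hz₃, hz₃'⟩ := hzall w₂ fun h0 => hw2 (by rw [h0]; exact zero_mem _)
    refine hcon ⟨e, w₂, S, ⟨he, hw2, he2⟩, ⟨z₁ * z₂⁻¹ * z₃⁻¹, mul_mem (mul_mem hz₁ (inv_mem hz₂)) (inv_mem hz₃),
      fun v => ?_⟩, hSne⟩
    obtain ⟨v', rfl⟩ : ∃ v', v = z₃.1 v' := ⟨_, (qApply_inv_self Q z₃ v).symm⟩
    obtain ⟨v₀, rfl⟩ : ∃ v₀, v' = z₂.1 v₀ := ⟨_, (qApply_inv_self Q z₂ v').symm⟩
    rw [qAut_mul_apply, qAut_mul_apply, qInv_apply_self, qInv_apply_self, hz₁', hz₃', hz₂', hadjS]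
    simp only [map_add, s2_pt C.tens, s2_add, he2, hw2e, hr.alternating, zero_smul, add_zero, mulVec_add,
      pt_add_left, pt_add_right]
    abel
  -- the middle part
  have hd : ∀ w, f₂ w e = 0 → ∀ u, f₂ u e = 0 → ∃ d : F, ∀ x, s2 f₂ w (y.1 (pt x u) - pt x u) = d • x :=
    fun w hw u hu => by
      obtain ⟨k, hk'⟩ := hscal w hw u hu
      exact ⟨k - f₂ u w, fun x => by rw [map_sub, hk', hA1, s2_pt C.tens, sub_smul]⟩
  by_cases hzero : ∀ w, f₂ w e = 0 → ∀ u, f₂ u e = 0 → ∀ x, s2 f₂ w (y.1 (pt x u) - pt x u) = 0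
  · refine hshear y hy hk hfix fun z hz x => ⟨sl φ₀ (y.1 (pt x z) - pt x z), ?_⟩
    rw [← mem_pureW_of_s2 C.tens hφ₀ (fun w hw => hzero w (by rw [hr.skew, hw, neg_zero]) z hz x),
      add_sub_cancel]
  · push Not at hzero
    obtain ⟨w₀, hw₀, u₀, hu₀, x₀, hx₀⟩ := hzero
    obtain ⟨D, hD⟩ : ∃ D : (Fin a → F) →ₗ[F] (Fin a × Fin b → F), ∀ x, D x = y.1 (pt x u₀) - pt x u₀ :=
      ⟨(y.1.toLinearMap - LinearMap.id).comp (ptL u₀), fun x => rfl⟩
    obtain ⟨d₀, hd₀⟩ := hd w₀ hw₀ u₀ hu₀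
    have hd₀0 : d₀ ≠ 0 := fun h => hx₀ (by rw [hd₀, h, zero_smul])
    have hDinj : Function.Injective D := by
      rw [← LinearMap.ker_eq_bot, LinearMap.ker_eq_bot']
      intro x hx
      have h1 := hd₀ x
      rw [← hD, hx, map_zero] at h1
      exact (smul_eq_zero.mp h1.symm).resolve_left hd₀0
    have hrange : LinearMap.range D = LinearMap.range (y.1.toLinearMap - LinearMap.id) :=
      Submodule.eq_of_le_of_finrank_le (by rintro _ ⟨x, rfl⟩; exact ⟨pt x u₀, (hD x).symm⟩) (by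
        rw [LinearMap.finrank_range_of_inj hDinj, Module.finrank_fin_fun]; exact hrank)
    have hr' : ∀ u, f₂ u e = 0 → ∀ x, ∃ r : F, y.1 (pt x u) - pt x u = r • D x ∧
        s2 f₂ w₀ (y.1 (pt x u) - pt x u) = (r * d₀) • x := fun u hu x => by
      obtain ⟨z, hz⟩ : y.1 (pt x u) - pt x u ∈ LinearMap.range D := hrange ▸ ⟨pt x u, rfl⟩
      obtain ⟨d, hd'⟩ := hd w₀ hw₀ u hu
      have h1 := hd' x
      rw [← hz, hD, hd₀] at h1
      have hz' : z = (d₀⁻¹ * d) • x := by rw [← smul_smul, ← h1, inv_smul_smul₀ hd₀0]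
      refine ⟨d₀⁻¹ * d, by rw [← hz, hz', map_smul], ?_⟩
      rw [hd', mul_comm d₀⁻¹, mul_assoc, inv_mul_cancel₀ hd₀0, mul_one]
    obtain ⟨c, hc⟩ : ∃ c, c = slA ψ (D x₁) := ⟨_, rfl⟩
    have hDc : ∀ x, D x - pt x c = pt (sl φ₀ (D x - pt x c)) e := fun x =>
      mem_pureW_of_s2 C.tens hφ₀ fun w hw => by
        obtain ⟨d, hd'⟩ := hd w (by rw [hr.skew, hw, neg_zero]) u₀ hu₀
        have hfc : f₂ c w = d := by
          rw [form_eq_dot hr, hc, ← dot_sl_slA]
          change ψ ⬝ᵥ s2 f₂ w (D x₁) = d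
          rw [hD, hd', dotProduct_smul, hψ, smul_eq_mul, mul_one]
        rw [map_sub, s2_pt C.tens, hfc, hD, hd', sub_self]
    have hce : f₂ c e = 0 := by
      rw [form_eq_dot hr, hc, ← dot_sl_slA]
      change ψ ⬝ᵥ s2 f₂ e (D x₁) = 0
      rw [hD, map_sub, hs_e u₀ hu₀, s2_pt C.tens, hu₀, zero_smul, sub_zero, dotProduct_zero]
    have hmid : ∀ u, f₂ u e = 0 → ∀ x, ∃ (r : F) (p : Fin a → F),
        y.1 (pt x u) = pt x (u + r • c) + pt p e ∧ s2 f₂ w₀ (y.1 (pt x u) - pt x u) = (r * d₀) • x :=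
      fun u hu x => by
      obtain ⟨r, h1, h2⟩ := hr' u hu x
      refine ⟨r, r • sl φ₀ (D x - pt x c), ?_, h2⟩
      rw [pt_add_right, pt_smul_right, pt_smul_left, ← hDc, smul_sub, ← h1]
      abel
    obtain ⟨p₁, p₂, hp⟩ : ∃ p₁ p₂ : Fin a → F, f₁ p₁ p₂ = 1 := by
      obtain ⟨z, hz⟩ := (hl.nondegenerate x₁ hx₁).2
      exact ⟨x₁, (f₁ x₁ z)⁻¹ • z, by rw [hl.bilinear.smul_right, inv_mul_cancel₀ hz]⟩
    have hpne : p₁ ≠ 0 ∧ p₂ ≠ 0 := by
      constructor <;> intro h0 <;> rw [h0] at hp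
      · have e0 : f₁ 0 p₂ = 0 := by simpa using hl.bilinear.smul_left 0 0 p₂
        exact zero_ne_one (e0.symm.trans hp)
      · have e0 : f₁ p₁ 0 = 0 := by simpa using hl.bilinear.smul_right 0 p₁ 0
        exact zero_ne_one (e0.symm.trans hp)
    obtain ⟨rf, hrf⟩ : ∃ rf : (Fin b → F) → F, ∀ u, f₂ u e = 0 → ∀ x, x ≠ 0 → ∀ (r : F),
        s2 f₂ w₀ (y.1 (pt x u) - pt x u) = (r * d₀) • x → r = rf u := by
      refine ⟨fun u => d₀⁻¹ * (ψ ⬝ᵥ s2 f₂ w₀ (y.1 (pt x₁ u) - pt x₁ u)), fun u hu x hx r h => ?_⟩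
      obtain ⟨d, hd'⟩ := hd w₀ hw₀ u hu
      rw [hd'] at h
      simp only [hd', dotProduct_smul, hψ, smul_eq_mul, mul_one]
      rw [(smul_left_injective F hx h), mul_comm d₀⁻¹, mul_assoc, mul_inv_cancel₀ hd₀0, mul_one]
    have hiso : ∀ u, f₂ u e = 0 → f₂ u c + rf u * f₂ c u₀ = 0 := fun u hu => by
      obtain ⟨r, q₁, h1, h1'⟩ := hmid u hu p₁
      obtain ⟨r', q₂, h2, h2'⟩ := hmid u₀ hu₀ p₂
      have hr0 : r' = 1 := by
        rw [hd₀] at h2'
        have e1 := smul_left_injective F hpne.2 h2'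
        exact mul_right_cancel₀ hd₀0 (by rw [one_mul]; exact e1.symm)
      have hr1 := hrf u hu p₁ hpne.1 r h1'
      have h := qAut_polar y (pt p₁ u) (pt p₂ u₀)
      rw [h1, h2] at h
      simp only [QuadraticMap.polar_add_left, QuadraticMap.polar_add_right, C.tens.polar_pt, hp, hr0, ← hr1,
        hr.bilinear.add_left, hr.bilinear.add_right, hr.bilinear.smul_left, hr.bilinear.smul_right,
        hr.alternating, hu, hce, hr.skew e u₀, hr.skew e c, hu₀] at h
      rw [← hr1]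
      linear_combination h
    have hcu : f₂ c u₀ ≠ 0 := by
      intro h0
      have hall : ∀ u, f₂ u e = 0 → f₂ u c = 0 := fun u hu => by
        have := hiso u hu
        rwa [h0, mul_zero, add_zero] at this
      have h1 : f₂ c w₀ = d₀ := by
        rw [form_eq_dot hr, hc, ← dot_sl_slA]
        change ψ ⬝ᵥ s2 f₂ w₀ (D x₁) = d₀
        rw [hD, hd₀, dotProduct_smul, hψ, smul_eq_mul, mul_one]
      rw [hr.skew, hall w₀ hw₀, neg_zero] at h1
      exact hd₀0 h1.symm
    obtain ⟨s, hs⟩ : ∃ s, s = -(f₂ c u₀)⁻¹ := ⟨_, rfl⟩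
    obtain ⟨X, hX, hX', hXk⟩ := root_mem C c s
    have hXe : ∀ x, X.1 (pt x e) = pt x e := fun x => by
      rw [hX', s2_pt C.tens, hr.skew e c, hce]
      simp [pt_zero_left]
    refine hshear (X⁻¹ * y) (mul_mem (inv_mem hX) hy) (fun hk' => hk ?_) (fun x => ?_) fun z hz x => ?_
    · have e1 : y = X * (X⁻¹ * y) := by rw [mul_inv_cancel_left]
      rw [e1, map_mul]
      exact (Cfsg.Geo.kroneckerSubgroup a b F).mul_mem hXk hk'
    · rw [qAut_mul_apply, hfix]
      conv_lhs => rw [← hXe x]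
      rw [qInv_apply_self]
    · obtain ⟨r, p, h1, h1'⟩ := hmid z hz x
      refine ⟨p, ?_⟩
      by_cases hx : x = 0
      · rw [hx, pt_zero_left, map_zero, zero_add]
        rw [hx, pt_zero_left, pt_zero_left, map_zero, zero_add] at h1
        exact h1
      have e1 : r = s * f₂ z c := by
        rw [hrf z hz x hx r h1']
        have := hiso z hz
        rw [hs]
        field_simp
        linear_combination this
      have h2 : X.1 (pt x z + pt p e) = y.1 (pt x z) := by
        rw [map_add, hXe, hX', s2_pt C.tens, pt_smul_left, smul_smul, ← e1, ← pt_smul_right, ← pt_add_right, h1]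
      rw [qAut_mul_apply, ← h2, qInv_apply_self]

end CfsgLib.Classical22.TensorMax.SympO
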