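/-
Transporting maximality along a group isomorphism; the tensor subgroup in general coordinates.
-/
import Cfsg.Agent.Lib.Classical22.TensorMaxBase

set_option autoImplicit false

namespace CfsgLib.Classical22.TensorMax

open Matrix CfsgLib.Transvec
open scoped MatrixGroups

theorem isMaximalIn_map {G G' : Type*} [Group G] [Group G'] (φ : G ≃* G') {K H : Subgroup G}
    (h : Cfsg.Geo.IsMaximalIn K H) : Cfsg.Geo.IsMaximalIn (K.map φ.toMonoidHom) (H.map φ.toMonoidHom) := by
  have hi : Function.Injective φ.toMonoidHom := φ.injective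
  refine ⟨(Subgroup.map_lt_map_iff_of_injective hi).mpr h.1, fun M h1 h2 => ?_⟩
  have hM : (M.comap φ.toMonoidHom).map φ.toMonoidHom = M := Subgroup.map_comap_eq_self_of_surjective φ.surjective M
  rcases h.2 (M.comap φ.toMonoidHom) (Subgroup.map_le_iff_le_comap.mp h1)
    ((Subgroup.map_le_map_iff_of_injective hi).mp (hM.le.trans h2)) with e | e
  · left; rw [← hM, e]
  · right; rw [← hM, e]

variable {F : Type*} [Field F] {ι : Type} [Fintype ι] [DecidableEq ι] {a b : ℕ}

/-- The coordinate change attached to a tensor decomposition. -/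
noncomputable def coordEquiv (e : ι ≃ Fin a × Fin b) (P : GL ι F) : GL (Fin a × Fin b) F ≃* GL ι F :=
  (Cfsg.Geo.glReindex e.symm).trans (MulAut.conj P)

lemma coordEquiv_val (e : ι ≃ Fin a × Fin b) (P : GL ι F) (g : GL (Fin a × Fin b) F) :
    (coordEquiv e P g).val = P.val * Matrix.reindexAlgEquiv F F e.symm g.val * (P⁻¹).val := rfl

lemma coordEquiv_mulVec (e : ι ≃ Fin a × Fin b) (P : GL ι F) (g : GL (Fin a × Fin b) F) (x : Fin a × Fin b → F) :
    (coordEquiv e P g).val *ᵥ (P.val *ᵥ (x ∘ e)) = P.val *ᵥ ((g.val *ᵥ x) ∘ e) := by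
  rw [coordEquiv_val, ← Matrix.mulVec_mulVec, Matrix.mulVec_mulVec (x ∘ e), Units.inv_mul, Matrix.one_mulVec,
    ← Matrix.mulVec_mulVec, Matrix.reindexAlgEquiv_apply, Matrix.reindex_apply, Equiv.symm_symm,
    Matrix.submatrix_mulVec_equiv]
  simp only [Function.comp_assoc, Equiv.self_comp_symm, Function.comp_id]

lemma map_kronecker (e : ι ≃ Fin a × Fin b) (P : GL ι F) :
    (Cfsg.Geo.kroneckerSubgroup a b F).map (coordEquiv e P).toMonoidHom =
      Cfsg.Geo.tensorProductSubgroup a b e P := by
  rw [Cfsg.Geo.tensorProductSubgroup, Subgroup.map_map]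
  rfl

lemma map_specialLinear (e : ι ≃ Fin a × Fin b) (P : GL ι F) :
    (Cfsg.Geo.specialLinear (Fin a × Fin b) F).map (coordEquiv e P).toMonoidHom =
      Cfsg.Geo.specialLinear ι F := by
  ext g
  obtain ⟨x, rfl⟩ := (coordEquiv e P).surjective g
  rw [Subgroup.mem_map]
  have hdet : (coordEquiv e P x).val.det = x.val.det := by
    rw [coordEquiv_val, det_mul, det_mul, mul_comm P.val.det, mul_assoc, ← det_mul, ← Units.val_mul, mul_inv_cancel,
      Units.val_one, det_one, mul_one, Matrix.reindexAlgEquiv_apply, Matrix.det_reindex_self]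
  constructor
  · rintro ⟨y, hy, he⟩
    obtain rfl := (coordEquiv e P).injective he
    rw [mem_specialLinear_iff] at hy ⊢
    rw [hdet, hy]
  · intro h
    refine ⟨x, ?_, rfl⟩
    rw [mem_specialLinear_iff] at h ⊢
    rw [← hdet, h]

end CfsgLib.Classical22.TensorMax
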