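/-
The stabiliser of a symplectic tensor decomposition is maximal in the orthogonal group Omega.
-/
import Cfsg.Agent.Lib.Classical22.SympTensorFail
import Cfsg.Agent.Lib.Classical22.TensorMaxFinal
import Cfsg.Agent.Lib.Classical22.TensorMaxTransport
import Cfsg.Agent.Lib.Classical22.OrthSubfieldMatrix

set_option autoImplicit false

namespace CfsgLib.Classical22.TensorMax.SympO

open Matrix CfsgLib.Classical CfsgLib.Transvec
open scoped MatrixGroups

variable {F : Type*} [Field F] {a b : ℕ} {Q : QuadraticForm F (Fin a × Fin b → F)}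
  {f₁ : (Fin a → F) → (Fin a → F) → F} {f₂ : (Fin b → F) → (Fin b → F) → F}

/-- A vector orthogonal to two given ones and outside their span, in dimension four. -/
lemma exists_perp_of_four {k : ℕ} {f : (Fin k → F) → (Fin k → F) → F} (hf : Cfsg.Geo.IsSymplecticForm f) (hk : 4 ≤ k)
    {e w : Fin k → F} (h : e = w ∨ f e w ≠ 0) :
    ∃ z, f z e = 0 ∧ f z w = 0 ∧ z ∉ Submodule.span F ({e, w} : Set (Fin k → F)) := by
  classical
  obtain ⟨L, hL⟩ : ∃ L : (Fin k → F) →ₗ[F] F × F, ∀ z, L z = (f z e, f z w) :=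
    ⟨{ toFun := fun z => (f z e, f z w)
       map_add' := fun x y => Prod.ext (hf.bilinear.add_left x y e) (hf.bilinear.add_left x y w)
       map_smul' := fun c x => Prod.ext (hf.bilinear.smul_left c x e) (hf.bilinear.smul_left c x w) }, fun z => rfl⟩
  have h1 := LinearMap.finrank_range_add_finrank_ker L
  have h2 := Submodule.finrank_le (LinearMap.range L)
  rw [Module.finrank_prod, Module.finrank_self] at h2
  rw [Module.finrank_fin_fun] at h1
  by_contra hc
  push Not at hc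
  have hle : LinearMap.ker L ≤ Submodule.span F {e, w} := fun z hz => by
    rw [LinearMap.mem_ker, hL, Prod.mk_eq_zero] at hz
    exact hc z hz.1 hz.2
  rcases h with rfl | hne
  · have h3 := Submodule.finrank_mono hle
    rw [Set.pair_eq_singleton] at h3
    have h4 : Module.finrank F (Submodule.span F ({e} : Set (Fin k → F))) ≤ 1 :=
      (finrank_span_le_card ({e} : Set (Fin k → F))).trans (by simp)
    omega
  · have hbot : LinearMap.ker L = ⊥ := (Submodule.eq_bot_iff _).mpr fun z hz => by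
      obtain ⟨r, s, rfl⟩ := Submodule.mem_span_pair.mp (hle hz)
      rw [LinearMap.mem_ker, hL, Prod.mk_eq_zero] at hz
      simp only [hf.bilinear.add_left, hf.bilinear.smul_left, hf.alternating, hf.skew w e, mul_zero, add_zero,
        zero_add, mul_neg, neg_eq_zero, mul_eq_zero, hne, or_false] at hz
      rw [hz.1, hz.2, zero_smul, zero_smul, add_zero]
    rw [hbot, finrank_bot] at h1
    omega

/-- All T(e,w,G) give every Eichler transformation. -/
theorem le_of_all' [Fintype F] {M : Subgroup (qAut Q)} (T : Tens Q f₁ f₂) (ha : 2 ≤ a) (hb : 4 ≤ b)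
    (hall : ∀ e w, Pair f₂ e w → ∀ G, HasT M f₁ f₂ e w G) : eichGroup Q ≤ M := by
  classical
  have hl := T.left
  have hr := T.right
  have hQ := polarNondeg T
  have hgen : ∀ x y e w, Pair f₂ e w →
      QuadraticMap.polar Q (pt x e) (pt y w) = 0 ∧ eich Q (pt x e) (pt y w) ∈ M := fun x y e w hp => by
    have h0 : QuadraticMap.polar Q (pt x e) (pt y w) = 0 := by rw [T.polar_pt, hp.2.2, mul_zero]
    obtain ⟨g, hg, hg'⟩ := hall e w hp (outer f₁ y x)
    refine ⟨h0, ?_⟩
    convert hg using 1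
    refine qAut_ext fun v => ?_
    rw [eich_apply Q (T.pure x e) h0, hg', T.pure, zero_mul, add_zero, polar_pt_right T,
      polar_pt_right T, outer_mulVec hl, adj_outer hl, neg_mulVec, outer_mulVec hl, pt_smul_left,
      ← neg_one_smul F (f₁ _ y • x), pt_smul_left, pt_smul_left, neg_one_smul, sub_eq_add_neg]
  have hfull : ∀ x₀ : Fin a → F, x₀ ≠ 0 → ∀ e : Fin b → F, e ≠ 0 → EFull Q M (pt x₀ e) := by
    intro x₀ hx₀ e he
    have hU : Q (pt x₀ e) = 0 := T.pure _ _
    obtain ⟨R, hR⟩ : ∃ R : (Fin a × Fin b → F) → Prop,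
        ∀ r, R r ↔ QuadraticMap.polar Q (pt x₀ e) r = 0 ∧ eich Q (pt x₀ e) r ∈ M := ⟨_, fun r => Iff.rfl⟩
    have hR0 : R 0 := (hR 0).mpr ⟨QuadraticMap.polar_zero_right Q _, by rw [eich_zero Q hU]; exact one_mem M⟩
    have hRadd : ∀ r r', R r → R r' → R (r + r') := fun r r' h h' => by
      obtain ⟨h1, h2⟩ := (hR r).mp h
      obtain ⟨h3, h4⟩ := (hR r').mp h'
      exact (hR _).mpr ⟨by rw [QuadraticMap.polar_add_right, h1, h3, add_zero],
        by rw [← eich_mul Q hU h1 h3]; exact mul_mem h2 h4⟩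
    have hRneg : ∀ r, R r → R (-r) := fun r h => by
      obtain ⟨h1, h2⟩ := (hR r).mp h
      exact (hR _).mpr ⟨by rw [QuadraticMap.polar_neg_right, h1, neg_zero],
        by rw [← eich_inv Q hU h1]; exact inv_mem h2⟩
    have hmid : ∀ p z, f₂ z e = 0 → z ∉ Submodule.span F {e} → R (pt p z) := fun p z hz hze =>
      (hR _).mpr (hgen x₀ p e z ⟨he, hze, by rw [hr.skew, hz, neg_zero]⟩)
    obtain ⟨w₀, hw0e, -, hw₀⟩ := exists_perp_of_four hr hb (e := e) (w := e) (Or.inl rfl)
    rw [Set.pair_eq_singleton] at hw₀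
    have hperp : ∀ p z, f₂ z e = 0 → R (pt p z) := fun p z hz => by
      by_cases hze : z ∈ Submodule.span F {e}
      · obtain ⟨t, rfl⟩ := Submodule.mem_span_singleton.mp hze
        have h1 := hmid (t • p) (e + w₀) (by rw [hr.bilinear.add_left, hr.alternating, hw0e, add_zero]) fun hm =>
          hw₀ (by simpa using sub_mem hm (Submodule.mem_span_singleton_self e))
        have h2 := hRadd _ _ h1 (hRneg _ (hmid (t • p) w₀ hw0e hw₀))
        rwa [pt_add_right, add_neg_cancel_right, pt_smul_left, ← pt_smul_right] at h2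
      · exact hmid p z hz hze
    obtain ⟨e', he'⟩ : ∃ e', f₂ e' e = 1 := by
      obtain ⟨z, hz⟩ := (hr.nondegenerate e he).1
      exact ⟨(f₂ z e)⁻¹ • z, by rw [hr.bilinear.smul_left, inv_mul_cancel₀ hz]⟩
    have hlast : ∀ q, f₁ q x₀ = 0 → R (pt q e') := by
      intro q hq
      obtain ⟨z', hz'e, hz'e', hz'⟩ := exists_perp_of_four hr hb (e := e) (w := e') (Or.inr fun h => one_ne_zero (α := F) (by rw [← he', hr.skew, h, neg_zero]))
      obtain ⟨w, hw0, hw1⟩ := exists_dual hr hz'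
      have hwe := hw0 e (Submodule.subset_span (by simp))
      have hwe' := hw0 e' (Submodule.subset_span (by simp))
      obtain ⟨p₁, p₂, hp⟩ : ∃ p₁ p₂ : Fin a → F, f₁ p₁ p₂ = 1 := by
        obtain ⟨z, hz⟩ := (hl.nondegenerate x₀ hx₀).2
        exact ⟨x₀, (f₁ x₀ z)⁻¹ • z, by rw [hl.bilinear.smul_right, inv_mul_cancel₀ hz]⟩
      have hpair : Pair f₂ z' e' := by
        refine ⟨fun h0 => hz' (by rw [h0]; exact zero_mem _), fun hm => ?_, hz'e'⟩
        obtain ⟨t, ht⟩ := Submodule.mem_span_singleton.mp hm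
        by_cases ht0 : t = 0
        · rw [ht0, zero_smul] at ht
          rw [← ht] at he'
          exact zero_ne_one ((show f₂ 0 e = 0 by simpa using hr.bilinear.smul_left 0 0 e).symm.trans he')
        · exact hz' (Submodule.mem_span_pair.mpr ⟨0, t⁻¹, by rw [zero_smul, zero_add, ← ht, inv_smul_smul₀ ht0]⟩)
      obtain ⟨hpol, hg⟩ := hgen p₂ q z' e' hpair
      have hgU : (eich Q (pt p₂ z') (pt q e')).1 (pt x₀ e) = pt x₀ e := by
        rw [eich_apply Q (T.pure _ _) hpol, T.pure, T.polar_pt, T.polar_pt, hr.skew e z', hz'e,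
          hl.skew x₀ q, hq]
        simp
      have hgw : (eich Q (pt p₂ z') (pt q e')).1 (pt p₁ w) = pt p₁ w + pt q e' := by
        rw [eich_apply Q (T.pure _ _) hpol, T.pure, T.polar_pt, T.polar_pt, hwe', hw1, hp]
        simp
      obtain ⟨h1, h2⟩ := (hR _).mp (hperp p₁ w hwe)
      have h3 : R (pt p₁ w + pt q e') := by
        refine (hR _).mpr ⟨?_, ?_⟩
        · rw [← hgw, ← hgU, qAut_polar, h1]
        · rw [← hgw, ← hgU, ← eich_conj Q _ hU h1]
          exact mul_mem (mul_mem hg h2) (inv_mem hg)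
      have h4 := hRadd _ _ (hRneg _ (hperp p₁ w hwe)) h3
      rwa [neg_add_cancel_left] at h4
    intro r hr0
    suffices R r from ((hR r).mp this).2
    have hq : f₁ (s2 f₂ e r) x₀ = 0 := by rw [← polar_pt_right T, QuadraticMap.polar_comm, hr0]
    have hz : ∀ j, f₂ (Pi.single j 1 - f₂ (Pi.single j 1) e • e') e = 0 := fun j => by
      have e1 := hr.bilinear.add_left (Pi.single j 1 - f₂ (Pi.single j 1) e • e') (f₂ (Pi.single j 1) e • e') e
      rw [sub_add_cancel, hr.bilinear.smul_left, he', mul_one] at e1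
      linear_combination -e1
    have hdec : r = ∑ j, pt (fun i => r (i, j)) (Pi.single j 1 - f₂ (Pi.single j 1) e • e') +
        pt (s2 f₂ e r) e' := by
      conv_lhs => rw [eq_sum_pt r]
      conv_rhs => arg 2; rw [eq_sum_pt r, map_sum, ← ptL_apply, map_sum]
      rw [← Finset.sum_add_distrib]
      refine Finset.sum_congr rfl fun j _ => ?_
      rw [ptL_apply, s2_pt T, pt_smul_left, pt_sub_right, pt_smul_right, sub_add_cancel]
    rw [hdec]
    exact hRadd _ _ (Finset.sum_induction _ R hRadd hR0 fun j _ => hperp _ _ (hz j)) (hlast _ hq)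
  obtain ⟨u, hu⟩ : ∃ u : Fin a → F, u ≠ 0 :=
    ⟨Pi.single ⟨0, by have := ha; omega⟩ 1, by simp⟩
  obtain ⟨z, hz⟩ := (hl.nondegenerate u hu).2
  obtain ⟨e, he⟩ : ∃ e : Fin b → F, e ≠ 0 := ⟨Pi.single ⟨0, by omega⟩ 1, by simp⟩
  obtain ⟨e', he'⟩ := (hr.nondegenerate e he).2
  have hn : 4 ≤ Module.finrank F (Fin a × Fin b → F) := by
    rw [Module.finrank_pi, Fintype.card_prod, Fintype.card_fin, Fintype.card_fin]
    have := ha
    nlinarith
  refine eichGroup_le_of_full Q hQ hn (u := pt u e) (v := pt z e') (T.pure _ _) (T.pure _ _) ?_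
    (hfull u hu e he) (hfull z (fun h0 => ?_) e' (fun h0 => ?_))
  · rw [T.polar_pt]; exact mul_ne_zero hz he'
  · rw [h0] at hz; exact hz (by simpa using hl.bilinear.smul_right 0 u 0)
  · rw [h0] at he'; exact he' (by simpa using hr.bilinear.smul_right 0 e 0)

variable [Fintype F] {M : Subgroup (qAut Q)} (C : Ctx Q f₁ f₂ M)
include C

/-- All T(e,w,G) give every Eichler transformation, in the setting. -/
theorem le_of_all (hb : 5 ≤ b) (hall : ∀ e w, Pair f₂ e w → ∀ G, HasT M f₁ f₂ e w G) : eichGroup Q ≤ M :=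
  le_of_all' C.tens C.two_le (by omega) hall

/-- A group strictly above the tensor stabiliser is the whole Eichler group. -/
theorem le_or_kron (hb : 5 ≤ b) : eichGroup Q ≤ M ∨ ∀ g ∈ M, IsKron (qHom Q g) := by
  classical
  have hl := C.tens.left
  have hr := C.tens.right
  obtain ⟨Ax, hAx⟩ : ∃ Ax : (Fin b → F) → (Fin b → F) → Prop,
      ∀ u φ, Ax u φ ↔ u ≠ 0 ∧ ∃ s : F, s ≠ 0 ∧ φ = s • (gram f₂ *ᵥ u) := ⟨_, fun u φ => Iff.rfl⟩
  obtain ⟨N, hN⟩ : ∃ N, N = M.map (qHom Q) := ⟨_, rfl⟩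
  obtain ⟨H, hH⟩ : ∃ H, H = Cfsg.Geo.kroneckerSubgroup a b F ⊓ N := ⟨_, rfl⟩
  have haxis : ∀ u φ, Ax u φ → φ ⬝ᵥ u = 0 ∧ φ ≠ 0 := fun u φ h => by
    obtain ⟨hu, s, hs, rfl⟩ := (hAx u φ).mp h
    exact ⟨by rw [smul_dotProduct, ← form_eq_dot hr, hr.alternating, smul_zero],
      smul_ne_zero hs (gram_mulVec_ne_zero hr hu)⟩
  have hroot : ∀ u φ, Ax u φ → ∀ hd : φ ⬝ᵥ u = 0, ∃ g ∈ M, qHom Q g = rootB a u φ hd ∧
      (∀ v, g.1 (g.1 v - v) = g.1 v - v) ∧ IsKron (qHom Q g) := fun u φ h hd => by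
    obtain ⟨-, s, -, rfl⟩ := (hAx u φ).mp h
    obtain ⟨g, hg, hg', hk⟩ := root_mem C u s
    refine ⟨g, hg, Transvec.gl_ext fun v => ?_, fun v => ?_, hk⟩
    · rw [qHom_mulVec, rootB_mulVec, hg', sl_smul_left, pt_smul_left]
      rfl
    · rw [hg' v, add_sub_cancel_left, hg', map_smul, s2_pt C.tens, hr.alternating, zero_smul, smul_zero,
        pt_zero_left, smul_zero, add_zero]
  have hmove : ∀ u u', f₂ u u' ≠ 0 → ∃ h ∈ H, img h (pureW a u) = pureW a u' := fun u u' h => by
    obtain ⟨g, hg, hg', hk⟩ := root_mem C (u' - u) (f₂ u u')⁻¹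
    have hu : u ≠ 0 := fun h0 => h (by rw [h0]; simpa using hr.bilinear.smul_left 0 0 u')
    have hu' : u' ≠ 0 := fun h0 => h (by rw [h0]; simpa using hr.bilinear.smul_right 0 u 0)
    refine ⟨qHom Q g, hH ▸ ⟨hk, hN ▸ ⟨g, hg, rfl⟩⟩, Submodule.eq_of_le_of_finrank_eq ?_
      (by rw [finrank_img, finrank_pureW hu, finrank_pureW hu'])⟩
    intro v hv
    obtain ⟨_, ⟨x, rfl⟩, rfl⟩ := mem_img.mp hv
    have e1 : f₂ u (u' - u) = f₂ u u' := by
      have e2 := hr.bilinear.add_right u (u' - u) u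
      rw [sub_add_cancel, hr.alternating, add_zero] at e2
      exact e2.symm
    rw [ptL_apply, qHom_mulVec, hg', s2_pt C.tens, e1, pt_smul_left, smul_smul, inv_mul_cancel₀ h, one_smul,
      ← pt_add_right, add_sub_cancel]
    exact pt_mem_pureW _ _
  by_cases ht : RootTight N H (fun u => u ≠ 0) Ax
  · right
    have S : Setup N H (fun u => u ≠ 0) Ax :=
      { pos := by have := C.two_le; omega
        lt := by have := C.lt; omega
        le := hH ▸ inf_le_right
        kron := fun h hh => (hH ▸ hh).1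
        ne := fun u hu => hu
        axis := haxis
        root := fun u φ h hd => by
          obtain ⟨g, hg, he, -, hk⟩ := hroot u φ h hd
          rw [← he, hH]
          exact ⟨hk, hN ▸ ⟨g, hg, rfl⟩⟩
        good := fun u φ h => ((hAx u φ).mp h).1
        trans := fun u u' hu hu' => by
          obtain ⟨m, -, hm1, hm2⟩ := exists_ne_ne (P := fun _ => True) (fun _ _ _ _ => trivial)
            (φ := fun z => f₂ u z) (ψ := fun z => f₂ z u') (hr.bilinear.add_right u)
            (fun p q => hr.bilinear.add_left p q u') (((hr.nondegenerate u hu).2).imp fun _ h => ⟨trivial, h⟩)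
            (((hr.nondegenerate u' hu').1).imp fun _ h => ⟨trivial, h⟩)
          obtain ⟨h₁, hh₁, he₁⟩ := hmove u m hm1
          obtain ⟨h₂, hh₂, he₂⟩ := hmove m u' hm2
          exact ⟨h₂ * h₁, H.mul_mem hh₂ hh₁, by rw [img_mul, he₁, he₂]⟩
        back := fun g _ u u' _ hu' _ => hu' }
    intro g hg
    refine isKron_of_pure (by have := C.two_le; omega) (by omega) fun u hu => ?_
    refine pure_of_hfixed S (fun {x} hx {u₁ c φ} h₁ hA hd hf =>
      pure_of_root_fixed S ht ?_ hx h₁ hA hd hf) ?_ ?_ (hN ▸ ⟨g, hg, rfl⟩) hu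
    · intro x hx u₁ u₂ h₁ h₂ c φ hA himg hkill
      refine ⟨1 • (gram f₂ *ᵥ u₁), (hAx _ _).mpr ⟨h₁, 1, one_ne_zero, by simp⟩, ?_⟩
      obtain ⟨x', -, rfl⟩ := hN ▸ hx
      obtain ⟨-, s, hs, rfl⟩ := (hAx c φ).mp hA
      obtain ⟨p, hp⟩ : ∃ p : Fin a → F, p ≠ 0 := ⟨Pi.single ⟨0, by have := C.two_le; omega⟩ 1, by simp⟩
      obtain ⟨q, hq⟩ := (hl.nondegenerate p hp).2
      obtain ⟨r, hr'⟩ : x'.1 (pt q u₂) ∈ pureW a c := by
        rw [← himg]; exact mem_img.mpr ⟨_, pt_mem_pureW _ _, qHom_mulVec Q x' _⟩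
      have h0 := hkill _ (mem_img.mpr ⟨_, pt_mem_pureW p u₁, qHom_mulVec Q x' _⟩)
      rw [sl_smul_left, smul_eq_zero] at h0
      have h0' : s2 f₂ c (x'.1 (pt p u₁)) = 0 := h0.resolve_left hs
      have h3 := qAut_polar x' (pt p u₁) (pt q u₂)
      rw [← hr', ptL_apply, polar_pt_right C.tens, h0', C.tens.polar_pt] at h3
      have h4 : f₁ 0 r = 0 := by simpa using hl.bilinear.smul_left 0 0 r
      rw [h4] at h3
      rw [one_smul, ← form_eq_dot hr, hr.skew, (mul_eq_zero.mp h3.symm).resolve_left hq, neg_zero]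
    · intro u₁ h₁ x hx _
      obtain ⟨w, hw, hw0⟩ := Submodule.exists_mem_ne_zero_of_ne_bot (show img x (pureW a u₁) ≠ ⊥ from fun h => by
        have := finrank_img x (pureW a u₁)
        rw [h, finrank_bot, finrank_pureW h₁] at this
        have := C.two_le
        omega)
      obtain ⟨c, hc, hc0⟩ := exists_ne_zero_of_finrank_lt
        ({ toFun := fun u => s2 f₂ u w
           map_add' := fun u u' => s2_add u u' w
           map_smul' := fun t u => s2_smul t u w } : (Fin b → F) →ₗ[F] (Fin a → F))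
        (by simp only [Module.finrank_fin_fun]; have := C.lt; omega)
      exact ⟨w, hw, hw0, c, _, (hAx _ _).mpr ⟨hc, 1, one_ne_zero, rfl⟩,
        by rw [one_smul]; exact hc0⟩
    · intro u₁ h₁ D _ w
      obtain ⟨c, hc, hc0⟩ := exists_ne_zero_of_finrank_lt
        ({ toFun := fun u => (s2 f₂ u w, (gram f₂ *ᵥ u) ⬝ᵥ u₁)
           map_add' := fun u u' => Prod.ext (s2_add u u' w) (by simp [mulVec_add, add_dotProduct])
           map_smul' := fun t u => Prod.ext (s2_smul t u w) (by simp [mulVec_smul, smul_dotProduct]) } :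
          (Fin b → F) →ₗ[F] (Fin a → F) × F)
        (by simp only [Module.finrank_prod, Module.finrank_self, Module.finrank_fin_fun]; have := C.lt; omega)
      have hc1 := congrArg Prod.fst hc0
      have hc2 := congrArg Prod.snd hc0
      exact ⟨c, _, (hAx _ _).mpr ⟨hc, 1, one_ne_zero, rfl⟩, by rw [one_smul]; exact hc2,
        Or.inl (by rw [one_smul]; exact hc1)⟩
  · left
    simp only [RootTight, not_forall] at ht
    obtain ⟨c, φ, hA, hd, x, hx, u, hu, hfix, hnH⟩ := ht
    obtain ⟨x', hx', rfl⟩ := hN ▸ hx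
    obtain ⟨g, hg, he, hsq, hgk⟩ := hroot c φ hA hd
    obtain ⟨y, hydef⟩ : ∃ y, y = x' * g * x'⁻¹ := ⟨_, rfl⟩
    have hy : y ∈ M := hydef ▸ mul_mem (mul_mem hx' hg) (inv_mem hx')
    have hqy : qHom Q y = qHom Q x' * rootB a c φ hd * (qHom Q x')⁻¹ := by
      rw [hydef, map_mul, map_mul, map_inv, he]
    have happ : ∀ v, y.1 (x'.1 v) = x'.1 (g.1 v) := fun v => by
      rw [hydef, qAut_mul_apply, qAut_mul_apply, qInv_apply_self]
    have hW : ∀ z, ∃ z', y.1 (pt z u) = pt z' u := fun z => by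
      have h1 : y.1 (pt z u) ∈ pureW a u := by
        rw [← hfix]
        exact mem_img.mpr ⟨_, pt_mem_pureW _ _, by rw [← hqy, qHom_mulVec]⟩
      obtain ⟨z', hz'⟩ := h1
      exact ⟨z', hz'.symm⟩
    have hysq : ∀ v, y.1 (y.1 v - v) = y.1 v - v := fun v => by
      obtain ⟨v', rfl⟩ : ∃ v', v = x'.1 v' := ⟨_, (qApply_inv_self Q x' v).symm⟩
      rw [happ, ← map_sub, happ, hsq]
    have hrk : Module.finrank F (LinearMap.range (y.1.toLinearMap - LinearMap.id)) ≤ a := by
      refine le_trans (Submodule.finrank_mono (show _ ≤ (pureW a c).map x'.1.toLinearMap from ?_))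
        ((Submodule.finrank_map_le _ _).trans (finrank_pureW ((hAx c φ).mp hA).1).le)
      rintro _ ⟨v, rfl⟩
      obtain ⟨v', rfl⟩ : ∃ v', v = x'.1 v' := ⟨_, (qApply_inv_self Q x' v).symm⟩
      refine ⟨g.1 v' - v', ?_, by simp [happ]⟩
      rw [← qHom_mulVec Q g, he, rootB_mulVec, add_sub_cancel_left]
      exact pt_mem_pureW _ _
    obtain ⟨e', w', G, hp, hT, hns⟩ := exists_hasT_of_fix C hb hy hu hW hysq hrk fun hk => hnH (by
      rw [hH, ← hqy]
      exact ⟨hk, hN ▸ ⟨y, hy, rfl⟩⟩)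
    exact le_of_all C hb fun e w hew K => hasT_all C hb hp hT hns hew K

end CfsgLib.Classical22.TensorMax.SympO
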