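/-
The maximality statement for symplectic tensor decompositions of plus type, in given coordinates.
-/
import Cfsg.Agent.Lib.Classical22.SympTensorMain
import Cfsg.Agent.Lib.Classical.AltBasis

set_option autoImplicit false

namespace CfsgLib.Classical22.TensorMax.SympO

open Matrix Kronecker Cfsg CfsgLib.Classical CfsgLib.Transvec
open scoped MatrixGroups

variable {F : Type*} [Field F] [Fintype F] {a b : ℕ}

theorem not_eich_le_kron {Q : QuadraticForm F (Fin a × Fin b → F)} {f₁ : (Fin a → F) → (Fin a → F) → F}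
    {f₂ : (Fin b → F) → (Fin b → F) → F} (T : Tens Q f₁ f₂) (ha : 2 ≤ a) (hb : 5 ≤ b) (hab : a < b) :
    ¬ eichGroup Q ≤ (Cfsg.Geo.kroneckerSubgroup a b F).comap (qHom Q) := by
  intro hle
  obtain ⟨e, he⟩ : ∃ e : Fin b → F, e ≠ 0 := ⟨Pi.single ⟨0, by omega⟩ 1, by simp⟩
  obtain ⟨w, hwe, -, hw⟩ := exists_perp_notMem T.right hb e e
  rw [Set.pair_eq_singleton] at hw
  obtain ⟨x, hx⟩ : ∃ x : Fin a → F, x ≠ 0 := ⟨Pi.single ⟨0, by omega⟩ 1, by simp⟩
  obtain ⟨y, hy⟩ := (T.left.nondegenerate x hx).2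
  obtain ⟨z₀, hz₀⟩ := (T.right.nondegenerate e he).1
  obtain ⟨z₁, hz₁⟩ := exists_dual T.right hw
  have hew : f₂ e w = 0 := by rw [T.right.skew, hwe, neg_zero]
  have hpol : QuadraticMap.polar Q (pt x e) (pt y w) = 0 := by rw [T.polar_pt, hew, mul_zero]
  obtain ⟨g, hg⟩ : ∃ g, g = eich Q (pt x e) (pt y w) := ⟨_, rfl⟩
  have hgk : IsKron (qHom Q g) := hle (hg ▸ eich_mem Q (T.pure x e) hpol)
  have happ : ∀ v, (qHom Q g).val *ᵥ v - v =
      QuadraticMap.polar Q v (pt x e) • pt y w - QuadraticMap.polar Q v (pt y w) • pt x e := fun v => by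
    rw [qHom_mulVec, hg, eich_apply Q (T.pure x e) hpol, T.pure, zero_mul, add_zero]
    abel
  have hd : Module.finrank F (move (qHom Q g)) ≤ a := by
    have h2 : Module.finrank F (Submodule.span F ({pt y w, pt x e} : Set (Fin a × Fin b → F))) ≤ 2 := by
      classical
      refine (finrank_span_le_card ({pt y w, pt x e} : Set (Fin a × Fin b → F))).trans ?_
      rw [Set.toFinset_insert, Set.toFinset_singleton]
      exact Finset.card_le_two
    refine le_trans (Submodule.finrank_mono ?_) (h2.trans ha)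
    intro v hv
    obtain ⟨u, rfl⟩ := mem_move.mp hv
    rw [happ]
    exact Submodule.sub_mem _ (Submodule.smul_mem _ _ (Submodule.subset_span (by simp)))
      (Submodule.smul_mem _ _ (Submodule.subset_span (by simp)))
  have hy0 : y ≠ 0 := fun h0 => hy (by rw [h0]; simpa using T.left.bilinear.smul_right 0 x 0)
  have he' : f₂ z₁ e = 0 := hz₁.1 e (Submodule.mem_span_singleton_self e)
  have hm1 : pt ((-f₁ x y) • x) e ∈ move (qHom Q g) := by
    refine mem_move.mpr ⟨pt x z₁, ?_⟩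
    rw [happ, T.polar_pt, T.polar_pt, he', hz₁.2, mul_zero, zero_smul, mul_one, zero_sub, pt_smul_left, neg_smul]
  have hg1 : qHom Q g ≠ 1 := fun h => by
    obtain ⟨u, hu⟩ := mem_move.mp hm1
    rw [h, Units.val_one, one_mulVec, sub_self] at hu
    exact smul_ne_zero (neg_ne_zero.mpr hy) hx (pt_eq_zero he hu.symm)
  obtain ⟨c, hc, hmv⟩ := move_kron hab hgk hg1 hd
  rw [hmv] at hm1
  obtain ⟨x₁, hx₁⟩ := hm1
  have hWe : pureW a c = pureW a e := pureW_eq_of_common hx₁ rfl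
    (fun h0 => smul_ne_zero (neg_ne_zero.mpr hy) hx (pt_eq_zero he h0)) hc he
  -- the coefficient at `w`
  have hm2 : pt ((f₁ y x * f₂ z₀ e) • y) w - (f₁ y y * f₂ z₀ w) • pt x e ∈ move (qHom Q g) := by
    refine mem_move.mpr ⟨pt y z₀, ?_⟩
    rw [happ, T.polar_pt, T.polar_pt, pt_smul_left]
  rw [hmv, hWe, T.left.alternating, zero_mul, zero_smul, sub_zero] at hm2
  obtain ⟨x₂, hx₂⟩ := hm2
  have hne : pt ((f₁ y x * f₂ z₀ e) • y) w ≠ 0 := fun h0 =>
    smul_ne_zero (mul_ne_zero (by rw [T.left.skew]; exact neg_ne_zero.mpr hy) hz₀) hy0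
      (pt_eq_zero (fun h1 => hw (by rw [h1]; exact zero_mem _)) h0)
  have hWw : pureW a w = pureW a e := pureW_eq_of_common (z := pt ((f₁ y x * f₂ z₀ e) • y) w) rfl hx₂ hne
    (fun h1 => hw (by rw [h1]; exact zero_mem _)) he
  obtain ⟨x₃, hx₃⟩ : pt y w ∈ pureW a e := hWw ▸ pt_mem_pureW y w
  refine hw ?_
  obtain ⟨i, hi⟩ := Function.ne_iff.mp hy0
  refine Submodule.mem_span_singleton.mpr ⟨x₃ i / y i, funext fun j => ?_⟩
  have h := congrFun hx₃ (i, j)
  simp only [ptL_apply, pt] at h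
  rw [Pi.smul_apply, smul_eq_mul, div_mul_eq_mul_div, h, mul_div_assoc]
  rw [mul_comm]
  exact div_mul_cancel₀ _ hi

/-- The tensor stabiliser is maximal in Omega, in tensor coordinates. -/
theorem kron_maximal {Q : QuadraticForm F (Fin a × Fin b → F)} {f₁ : (Fin a → F) → (Fin a → F) → F}
    {f₂ : (Fin b → F) → (Fin b → F) → F} (T : Tens Q f₁ f₂) (ha : 2 ≤ a) (hab : a + 2 ≤ b) (hb : 5 ≤ b)
    (hq : 3 ≤ a ∨ ∃ t : F, t ≠ 0 ∧ t ≠ 1) :
    Cfsg.Geo.IsMaximalIn (Cfsg.Geo.omegaGL ⇑Q) (Cfsg.Geo.kroneckerSubgroup a b F ⊓ Cfsg.Geo.omegaGL ⇑Q) := by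
  refine isMaximalIn_omegaGL Q (polarNondeg T) ?_ rfl (not_eich_le_kron T ha hb (by omega))
    fun M hHM hME hMS => ?_
  · rw [Fintype.card_prod, Fintype.card_fin, Fintype.card_fin]
    nlinarith
  have C : Ctx Q f₁ f₂ M := ⟨T, ha, hab, hq, fun g hg hk => hHM ⟨hk, hg⟩, hME⟩
  rcases le_or_kron C hb with h | h
  · exact h
  · exact absurd (fun g hg => h g hg) hMS

/-- The statement in given coordinates. -/
theorem isMaximalIn_tensor {n : ℕ} (Q₀ : (Fin n → F) → F) (hQ : Cfsg.Geo.IsNondegenerateQuadraticForm Q₀)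
    (e : Fin n ≃ Fin a × Fin b) (P : GL (Fin n) F) {f₁ : (Fin a → F) → (Fin a → F) → F}
    {f₂ : (Fin b → F) → (Fin b → F) → F} (h₁ : Cfsg.Geo.IsSymplecticForm f₁) (h₂ : Cfsg.Geo.IsSymplecticForm f₂)
    (hT : Cfsg.Geo.IsTensorFormStructure id (QuadraticMap.polar Q₀) f₁ f₂ e P)
    (hpure : ∀ (x : Fin a → F) (u : Fin b → F),
      Q₀ (P.val *ᵥ ((fun p : Fin a × Fin b => x p.1 * u p.2) ∘ e)) = 0)
    (ha : 2 ≤ a) (hab : a + 2 ≤ b) (hb : 5 ≤ b) (hq : 3 ≤ a ∨ ∃ t : F, t ≠ 0 ∧ t ≠ 1) :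
    Cfsg.Geo.IsMaximalIn (Cfsg.Geo.omegaGL Q₀) (Cfsg.Geo.tensorProductSubgroup a b e P ⊓ Cfsg.Geo.omegaGL Q₀) := by
  obtain ⟨q, rfl, -⟩ := exists_quadraticForm hQ
  obtain ⟨c, hc, hpol⟩ := hT
  obtain ⟨L, hL⟩ : ∃ L : (Fin a × Fin b → F) →ₗ[F] (Fin n → F), ∀ x, L x = P.val *ᵥ (x ∘ e) :=
    ⟨(Matrix.mulVecLin P.val).comp (LinearMap.funLeft F F e), fun x => rfl⟩
  have hQ' : ∀ x, q.comp L x = q (P.val *ᵥ (x ∘ e)) := fun x => by rw [QuadraticMap.comp_apply, hL]
  have hf : Cfsg.Geo.IsSymplecticForm fun x y => c * f₁ x y :=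
    { bilinear := ⟨fun x y v => by simp only [h₁.bilinear.add_left, mul_add],
        fun t x v => by simp only [h₁.bilinear.smul_left]; ring,
        fun v x y => by simp only [h₁.bilinear.add_right, mul_add],
        fun t v x => by simp only [h₁.bilinear.smul_right]; ring⟩
      skew := fun v w => by rw [h₁.skew, mul_neg]
      alternating := fun v => by rw [h₁.alternating, mul_zero]
      nondegenerate := fun v hv => ⟨(h₁.nondegenerate v hv).1.imp fun x h => mul_ne_zero hc h,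
        (h₁.nondegenerate v hv).2.imp fun x h => mul_ne_zero hc h⟩ }
  have T : Tens (q.comp L) (fun x y => c * f₁ x y) f₂ := by
    refine ⟨hf, h₂, fun x u y w => ?_, fun x u => by rw [hQ']; exact hpure x u⟩
    have e1 : QuadraticMap.polar ⇑(q.comp L) (pt x u) (pt y w) =
        QuadraticMap.polar ⇑q (L (pt x u)) (L (pt y w)) := by
      simp only [QuadraticMap.polar, QuadraticMap.comp_apply, map_add]
    rw [e1, hL, hL, hpol]
    change c * Cfsg.Geo.formOfGram id (Cfsg.Geo.gramMatrix f₁ ⊗ₖ Cfsg.Geo.gramMatrix f₂) (fun p : Fin a × Fin b => x p.1 * u p.2)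
      (fun p : Fin a × Fin b => y p.1 * w p.2) = _
    rw [TensorRefine.formOfGram_kronecker id (fun _ _ => rfl),
      ← TensorRefine.form_eq (σ := id) h₁.bilinear.add_left h₁.bilinear.smul_left h₁.bilinear.add_right
        (fun c v x => h₁.bilinear.smul_right c v x),
      ← TensorRefine.form_eq (σ := id) h₂.bilinear.add_left h₂.bilinear.smul_left h₂.bilinear.add_right
        (fun c v x => h₂.bilinear.smul_right c v x), mul_assoc]
  have hiso : (isometryGroup F ⇑(q.comp L)).map (coordEquiv e P).toMonoidHom = isometryGroup F ⇑q := by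
    ext g
    obtain ⟨g₀, rfl⟩ := (coordEquiv e P).surjective g
    rw [Subgroup.mem_map]
    have hact : ∀ x, (coordEquiv e P g₀).val *ᵥ L x = L (g₀.val *ᵥ x) := fun x => by
      rw [hL, hL, coordEquiv_mulVec]
    constructor
    · rintro ⟨y, hy, he⟩
      obtain rfl := (coordEquiv e P).injective he
      intro v v'
      obtain ⟨x, rfl⟩ : ∃ x, v = L x := ⟨(P⁻¹.val *ᵥ v) ∘ e.symm, by
        rw [hL, Function.comp_assoc, e.symm_comp_self, Function.comp_id, Transvec.mulVec_inv_cancel]⟩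
      change q ((coordEquiv e P y).val *ᵥ L x) = q (L x)
      rw [hact]
      exact hy x x
    · intro h
      refine ⟨g₀, fun x x' => ?_, rfl⟩
      have h1 := h (L x) (L x)
      change q ((coordEquiv e P g₀).val *ᵥ L x) = q (L x) at h1
      rwa [hact] at h1
  have hom : (Cfsg.Geo.omegaGL ⇑(q.comp L)).map (coordEquiv e P).toMonoidHom = Cfsg.Geo.omegaGL ⇑q := by
    rw [OrthSubfield.omegaGL_eq_commutator, OrthSubfield.omegaGL_eq_commutator, Subgroup.map_commutator, hiso]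
  have h := isMaximalIn_map (coordEquiv e P) (kron_maximal T ha hab hb hq)
  rwa [Subgroup.map_inf _ _ _ (coordEquiv e P).injective, map_kronecker, hom] at h

omit [Fintype F] in
/-- A non-degenerate alternating form lives in even dimension. -/
theorem even_dim {k : ℕ} {f : (Fin k → F) → (Fin k → F) → F} (hf : Cfsg.Geo.IsSymplecticForm f) : Even k := by
  obtain ⟨B, hB⟩ : ∃ B : LinearMap.BilinForm F (Fin k → F), ∀ x y, B x y = f x y :=
    ⟨LinearMap.mk₂ F f hf.bilinear.add_left (fun c x v => hf.bilinear.smul_left c x v) hf.bilinear.add_right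
      (fun c v x => hf.bilinear.smul_right c v x), fun x y => rfl⟩
  obtain ⟨m, hm, -⟩ := exists_symp_equiv B (fun v => by rw [hB]; exact hf.alternating v) (fun v hv => by
    by_contra hne
    obtain ⟨x, hx⟩ := (hf.nondegenerate v hne).2
    exact hx (by rw [← hB]; exact hv x))
  rw [Module.finrank_fin_fun] at hm
  exact ⟨m, by omega⟩

end CfsgLib.Classical22.TensorMax.SympO
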