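/-
Symplectic maps with scalar square are conjugate to elements of a tensor stabiliser `Sp_2 ⊗ O_b`.
-/
import Cfsg.Agent.Lib.Classical22.InvolSpDecomp
import Cfsg.Agent.Lib.Classical22.TensorRefine

set_option autoImplicit false

namespace CfsgLib.Classical22.TensorSpInvol

open Matrix Kronecker

section Pairs

variable {F V : Type*} [Field F] [AddCommGroup V] [Module F V]
variable (B : V →ₗ[F] V →ₗ[F] F)

/-- Orthogonal pairs with prescribed products. -/
def PairFam {m : ℕ} (lam : Fin m → F) (v w : Fin m → V) : Prop :=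
  (∀ i, B (v i) (w i) = lam i) ∧
    ∀ i j, B (v i) (v j) = 0 ∧ B (w i) (w j) = 0 ∧ (i ≠ j → B (v i) (w j) = 0)

variable {B}

theorem fam_equiv [FiniteDimensional F V] (halt : ∀ u, B u u = 0) {m : ℕ} {lam : Fin m → F} (hlam : ∀ i, lam i ≠ 0)
    {v w : Fin m → V} (h : PairFam B lam v w) (hdim : Module.finrank F V = 2 * m) :
    ∃ e : (Fin m ⊕ Fin m → F) ≃ₗ[F] V, (∀ i, e (Pi.single (Sum.inl i) 1) = v i ∧ e (Pi.single (Sum.inr i) 1) = w i) ∧
      ∀ x y, B (e x) (e y) = ∑ i, lam i * (x (Sum.inl i) * y (Sum.inr i) - x (Sum.inr i) * y (Sum.inl i)) := by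
  classical
  obtain ⟨T, hT⟩ : ∃ T : (Fin m ⊕ Fin m → F) →ₗ[F] V,
      ∀ x, T x = (∑ i, x (Sum.inl i) • v i) + ∑ i, x (Sum.inr i) • w i :=
    ⟨(Fintype.linearCombination F (Sum.elim v w)), fun x => by simp [Fintype.linearCombination_apply]⟩
  have hl : ∀ x j, B (T x) (w j) = lam j * x (Sum.inl j) := fun x j => by
    rw [hT]
    simp only [map_add, map_sum, map_smul, LinearMap.add_apply, LinearMap.coe_sum, Finset.sum_apply,
      LinearMap.smul_apply, smul_eq_mul]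
    rw [Finset.sum_eq_single j, h.1, Finset.sum_eq_zero (fun i _ => by rw [(h.2 i j).2.1, mul_zero]), add_zero, mul_comm]
    · intro i _ hi; rw [(h.2 i j).2.2 hi, mul_zero]
    · simp
  have hr : ∀ x j, B (T x) (v j) = -(lam j * x (Sum.inr j)) := fun x j => by
    rw [hT]
    simp only [map_add, map_sum, map_smul, LinearMap.add_apply, LinearMap.coe_sum, Finset.sum_apply,
      LinearMap.smul_apply, smul_eq_mul]
    rw [Finset.sum_eq_zero (fun i _ => by rw [(h.2 i j).1, mul_zero]), zero_add, Finset.sum_eq_single j,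
      InvolSpDecomp.alt_swap halt (v j) (w j), h.1]
    · ring
    · intro i _ hi
      rw [InvolSpDecomp.alt_swap halt (v j) (w i), (h.2 j i).2.2 (Ne.symm hi), neg_zero, mul_zero]
    · simp
  have hinj : Function.Injective T := by
    rw [← LinearMap.ker_eq_bot, LinearMap.ker_eq_bot']
    intro x hx
    funext j
    rcases j with j | j
    · have := hl x j
      rw [hx, map_zero, LinearMap.zero_apply, eq_comm, mul_eq_zero] at this
      exact this.resolve_left (hlam j)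
    · have := hr x j
      rw [hx, map_zero, LinearMap.zero_apply, eq_comm, neg_eq_zero, mul_eq_zero] at this
      exact this.resolve_left (hlam j)
  refine ⟨LinearEquiv.ofInjectiveOfFinrankEq T hinj (by rw [hdim, Module.finrank_pi]; simp [two_mul]),
    fun i => ?_, fun x y => ?_⟩
  · constructor <;>
    · show T _ = _
      rw [hT]
      simp [Pi.single_apply]
  · show B (T x) (T y) = _
    conv_lhs => rw [hT y]
    simp only [map_add, map_sum, map_smul, smul_eq_mul, hl, hr]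
    rw [← Finset.sum_add_distrib]
    exact Finset.sum_congr rfl fun i _ => by ring

theorem exists_fam [FiniteDimensional F V] (halt : ∀ u, B u u = 0) {f : V →ₗ[F] V} {z : F} (hz : z ≠ 0)
    (hf : ∀ u, f (f u) = z • u) (hB : ∀ u v, B (f u) (f v) = B u v) (R : V → V → Fˣ → Prop)
    (hspan : ∀ v w ε, R v w ε → f v ∈ Submodule.span F {v, w} ∧ f w ∈ Submodule.span F {v, w})
    (hpiece : ∀ X : Submodule F V, (∀ x ∈ X, f x ∈ X) → (∀ u ∈ X, (∀ v ∈ X, B u v = 0) → u = 0) → X ≠ ⊥ →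
      ∀ l : F, l ≠ 0 → ∃ v ∈ X, ∃ w ∈ X, ∃ ε, B v w = l ∧ R v w ε)
    {m : ℕ} (lam : Fin m → F) (hlam : ∀ i, lam i ≠ 0) {X : Submodule F V} (hX : ∀ x ∈ X, f x ∈ X)
    (hnd : ∀ u ∈ X, (∀ v ∈ X, B u v = 0) → u = 0) (hdim : Module.finrank F X = 2 * m) :
    ∃ (v w : Fin m → V) (ε : Fin m → Fˣ), PairFam B lam v w ∧ (∀ i, v i ∈ X ∧ w i ∈ X) ∧
      ∀ i, R (v i) (w i) (ε i) := by
  classical
  induction m generalizing X with
  | zero => exact ⟨Fin.elim0, Fin.elim0, Fin.elim0, ⟨fun i => i.elim0, fun i => i.elim0⟩, fun i => i.elim0,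
      fun i => i.elim0⟩
  | succ m ih =>
    have h0 : X ≠ ⊥ := fun h => by rw [h, finrank_bot] at hdim; omega
    obtain ⟨v, hv, w, hw, ε, hvw, hR⟩ := hpiece X hX hnd h0 (lam 0) (hlam 0)
    obtain ⟨hfv, hfw⟩ := hspan v w ε hR
    obtain ⟨X', hX'⟩ : ∃ X' : Submodule F V, ∀ x, x ∈ X' ↔ x ∈ X ∧ B x v = 0 ∧ B x w = 0 :=
      ⟨X ⊓ LinearMap.ker (B.flip v) ⊓ LinearMap.ker (B.flip w), fun x => by
        simp [LinearMap.mem_ker, and_assoc]⟩
    have hplane : ∀ x ∈ X', ∀ y ∈ Submodule.span F {v, w}, B x y = 0 := by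
      intro x hx y hy
      obtain ⟨a, b, rfl⟩ := Submodule.mem_span_pair.1 hy
      rw [map_add, map_smul, map_smul, ((hX' x).1 hx).2.1, ((hX' x).1 hx).2.2, smul_zero, smul_zero, add_zero]
    have hinv : ∀ x ∈ X', f x ∈ X' := by
      intro x hx
      have key : ∀ y, f y ∈ Submodule.span F {v, w} → B (f x) y = 0 := fun y hy => by
        have : y = f (z⁻¹ • f y) := by rw [map_smul, hf, smul_smul, inv_mul_cancel₀ hz, one_smul]
        rw [this, hB, map_smul, hplane x hx _ hy, smul_zero]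
      exact (hX' _).2 ⟨hX x ((hX' x).1 hx).1, key _ hfv, key _ hfw⟩
    obtain ⟨pr, hpr⟩ : ∃ pr : V → V, ∀ x, pr x = (B x w / lam 0) • v - (B x v / lam 0) • w := ⟨_, fun x => rfl⟩
    have hwv : B w v = - lam 0 := by rw [InvolSpDecomp.alt_swap halt v w, hvw]
    have hperp : ∀ x ∈ X, x - pr x ∈ X' := by
      intro x hx
      refine (hX' _).2 ⟨X.sub_mem hx (hpr x ▸ X.sub_mem (X.smul_mem _ hv) (X.smul_mem _ hw)), ?_, ?_⟩
      · simp [hpr, halt, hwv, hlam 0]
      · simp [hpr, halt, hvw, hlam 0]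
    have hnd' : ∀ u ∈ X', (∀ y ∈ X', B u y = 0) → u = 0 := by
      intro u hu h
      refine hnd u ((hX' u).1 hu).1 fun y hy => ?_
      have h0' := h _ (hperp y hy)
      rw [map_sub, sub_eq_zero] at h0'
      rw [h0', hplane u hu _ (hpr y ▸ Submodule.sub_mem _ (Submodule.smul_mem _ _ (Submodule.subset_span (by simp)))
        (Submodule.smul_mem _ _ (Submodule.subset_span (by simp))))]
    have hLI : LinearIndependent F ![v, w] := by
      rw [LinearIndependent.pair_iff]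
      intro a b hab
      have h1 := congrArg (fun y => B y w) hab
      have h2 := congrArg (fun y => B y v) hab
      simp [halt, hvw, hwv, hlam 0] at h1 h2
      exact ⟨h1, h2⟩
    have hsup : Submodule.span F {v, w} ⊔ X' = X := by
      refine le_antisymm (sup_le (Submodule.span_le.2 (by rintro _ (rfl | rfl) <;> assumption))
        fun x hx => ((hX' x).1 hx).1) fun x hx => ?_
      rw [← add_sub_cancel (pr x) x]
      exact Submodule.add_mem_sup (hpr x ▸ Submodule.sub_mem _ (Submodule.smul_mem _ _ (Submodule.subset_span (by simp)))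
        (Submodule.smul_mem _ _ (Submodule.subset_span (by simp)))) (hperp x hx)
    have hinf : Submodule.span F {v, w} ⊓ X' = ⊥ := by
      rw [eq_bot_iff]
      rintro x ⟨hx1, hx2⟩
      obtain ⟨a, b, rfl⟩ := Submodule.mem_span_pair.1 hx1
      obtain ⟨-, h1, h2⟩ := (hX' _).1 hx2
      simp [halt, hwv, hvw, hlam 0] at h1 h2
      simp [h1, h2]
    have hd2 : Module.finrank F (Submodule.span F {v, w}) = 2 := by
      have := finrank_span_eq_card hLI
      rwa [show Set.range ![v, w] = {v, w} by simp [Matrix.range_cons, Matrix.range_empty, Set.pair_comm],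
        Fintype.card_fin] at this
    have hdim' : Module.finrank F X' = 2 * m := by
      have h := Submodule.finrank_sup_add_finrank_inf_eq (Submodule.span F {v, w}) X'
      rw [hsup, hinf, finrank_bot, add_zero, hd2] at h
      omega
    obtain ⟨v', w', ε', hfam, hmem, hR'⟩ :=
      ih (fun i => lam i.succ) (fun i => hlam _) hinv hnd' hdim'
    have hc : ∀ j, (B (v' j) v = 0 ∧ B (v' j) w = 0 ∧ B (w' j) v = 0 ∧ B (w' j) w = 0) ∧
        (B v (v' j) = 0 ∧ B w (v' j) = 0 ∧ B v (w' j) = 0 ∧ B w (w' j) = 0) := fun j => by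
      have a1 := ((hX' _).1 (hmem j).1).2
      have a2 := ((hX' _).1 (hmem j).2).2
      refine ⟨⟨a1.1, a1.2, a2.1, a2.2⟩, ?_, ?_, ?_, ?_⟩
      · rw [InvolSpDecomp.alt_swap halt (v' j) v, a1.1, neg_zero]
      · rw [InvolSpDecomp.alt_swap halt (v' j) w, a1.2, neg_zero]
      · rw [InvolSpDecomp.alt_swap halt (w' j) v, a2.1, neg_zero]
      · rw [InvolSpDecomp.alt_swap halt (w' j) w, a2.2, neg_zero]
    refine ⟨Fin.cons v v', Fin.cons w w', Fin.cons ε ε', ⟨fun i => ?_, fun i j => ?_⟩, fun i => ?_, fun i => ?_⟩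
    · cases i using Fin.cases with
      | zero => simpa using hvw
      | succ i => simpa using hfam.1 i
    · cases i using Fin.cases with
      | zero =>
        cases j using Fin.cases with
        | zero => exact ⟨halt _, halt _, fun h => absurd rfl h⟩
        | succ j => simp [(hc j).2.1, (hc j).2.2.2.1, (hc j).2.2.2.2]
      | succ i =>
        cases j using Fin.cases with
        | zero => simp [(hc i).1.1, (hc i).1.2.1, (hc i).1.2.2.2]
        | succ j =>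
          refine ⟨by simpa using (hfam.2 i j).1, by simpa using (hfam.2 i j).2.1, fun h => ?_⟩
          simpa using (hfam.2 i j).2.2 fun e => h (by rw [e])
    · cases i using Fin.cases with
      | zero => exact ⟨by simpa using hv, by simpa using hw⟩
      | succ i =>
        exact ⟨by simpa using ((hX' _).1 (hmem i).1).1, by simpa using ((hX' _).1 (hmem i).2).1⟩
    · cases i using Fin.cases with
      | zero => simpa using hR
      | succ i => simpa using hR' i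

end Pairs

section Main

variable {F : Type*} [Field F]

/-- The shape of the action on a plane. -/
def Shape {V : Type*} [AddCommGroup V] [Module F V] (f : V →ₗ[F] V) (A : Matrix (Fin 2) (Fin 2) F)
    (v w : V) (ε : Fˣ) : Prop :=
  f v = (ε : F) • (A 0 0 • v + A 1 0 • w) ∧ f w = (ε : F) • (A 0 1 • v + A 1 1 • w)

theorem exists_shape {V : Type*} [AddCommGroup V] [Module F V] [FiniteDimensional F V] [Fintype F]
    (h2 : (2 : F) ≠ 0) {B : V →ₗ[F] V →ₗ[F] F} (halt : ∀ u, B u u = 0) {f : V →ₗ[F] V} {z : F} (hz : z * z = 1)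
    (hf : ∀ u, f (f u) = z • u) (hB : ∀ u v, B (f u) (f v) = B u v) :
    ∃ A : GL (Fin 2) F, ∀ X : Submodule F V, (∀ x ∈ X, f x ∈ X) → (∀ u ∈ X, (∀ v ∈ X, B u v = 0) → u = 0) →
      X ≠ ⊥ → ∀ l : F, l ≠ 0 → ∃ v ∈ X, ∃ w ∈ X, ∃ ε, B v w = l ∧
        Shape f (A : Matrix (Fin 2) (Fin 2) F) v w ε := by
  classical
  have hz0 : z ≠ 0 := fun h => by rw [h, mul_zero] at hz; exact zero_ne_one hz
  by_cases hs : ∃ s : F, s * s = z
  · obtain ⟨s, hs⟩ := hs
    have hs0 : s ≠ 0 := fun h => hz0 (by rw [← hs, h, mul_zero])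
    obtain ⟨A, hA⟩ : ∃ A : GL (Fin 2) F, (A : Matrix (Fin 2) (Fin 2) F) = !![s, 0; 0, s⁻¹] :=
      ⟨Matrix.GeneralLinearGroup.mkOfDetNeZero _ (by simp [hs0] : (!![s, 0; 0, s⁻¹]).det ≠ 0), rfl⟩
    refine ⟨A, fun X hX hnd h0 l hl => ?_⟩
    obtain ⟨v, hv, hv0, ε, hε, hfv⟩ : ∃ v ∈ X, v ≠ 0 ∧ ∃ ε : Fˣ, (ε : F) * ε = 1 ∧ f v = ((ε : F) * s) • v := by
      obtain ⟨u, hu, hu0⟩ := X.exists_mem_ne_zero_of_ne_bot h0
      by_cases h : f u + s • u = 0
      · exact ⟨u, hu, hu0, -1, by simp, by rw [eq_neg_of_add_eq_zero_left h]; simp⟩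
      · refine ⟨_, X.add_mem (hX u hu) (X.smul_mem s hu), h, 1, by simp, ?_⟩
        rw [map_add, map_smul, hf, Units.val_one, one_mul, smul_add, smul_smul, hs, add_comm]
    obtain ⟨w₀, hw₀, hw₀0⟩ : ∃ w₀ ∈ X, B v w₀ ≠ 0 := by
      by_contra! h
      exact hv0 (hnd v hv h)
    obtain ⟨ν, hνd⟩ : ∃ ν, ν = (ε : F) * s := ⟨_, rfl⟩
    have hν2 : ν * ν = z := by rw [hνd, ← hs]; linear_combination (s * s) * hε
    have hν0 : ν ≠ 0 := fun h => hz0 (by rw [← hν2, h, mul_zero])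
    rw [← hνd] at hfv
    have hBx : B v (f w₀) = ν⁻¹ * B v w₀ := by
      rw [eq_inv_mul_iff_mul_eq₀ hν0, ← hB v w₀, hfv, map_smul, LinearMap.smul_apply, smul_eq_mul]
    have hinv : ν * z = ν⁻¹ := by
      refine eq_inv_of_mul_eq_one_left ?_
      linear_combination z * hν2 + hz
    obtain ⟨k, hk⟩ : ∃ k, k = l / (2 * B v w₀) := ⟨_, rfl⟩
    refine ⟨v, hv, k • (w₀ + ν • f w₀), X.smul_mem _ (X.add_mem hw₀ (X.smul_mem _ (hX _ hw₀))), ε, ?_, ?_, ?_⟩
    · rw [map_smul, map_add, map_smul, hBx, smul_eq_mul, smul_eq_mul, ← mul_assoc, mul_inv_cancel₀ hν0, one_mul,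
        ← two_mul, hk, div_mul_cancel₀ _ (mul_ne_zero h2 hw₀0)]
    · rw [hfv, hA]
      simp [hνd, smul_smul]
    · have he : (ε : F) * s⁻¹ = ν⁻¹ := by
        rw [hνd]; field_simp; linear_combination hε
      rw [map_smul, map_add, map_smul, hf, hA]
      simp only [Matrix.of_apply, Matrix.cons_val', Matrix.cons_val_zero, Matrix.cons_val_one,
        Matrix.cons_val_fin_one, zero_smul, zero_add, smul_smul, smul_add, he, hinv]
      rw [← mul_assoc (ε : F), ← mul_assoc (ε : F), he, show ν⁻¹ * (k * ν) = k by field_simp]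
      match_scalars <;> ring
  · push Not at hs
    have hz1 : z = -1 := by
      rcases mul_self_eq_one_iff.1 hz with h | h
      · exact absurd (one_mul 1) (h ▸ hs 1)
      · exact h
    obtain ⟨A, hA⟩ : ∃ A : GL (Fin 2) F, (A : Matrix (Fin 2) (Fin 2) F) = !![0, -1; 1, 0] :=
      ⟨Matrix.GeneralLinearGroup.mkOfDetNeZero _ (by simp : (!![(0 : F), -1; 1, 0]).det ≠ 0), rfl⟩
    refine ⟨A, fun X hX hnd h0 l hl => ?_⟩
    obtain ⟨v, hv, hc⟩ : ∃ v ∈ X, B v (f v) ≠ 0 := by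
      by_contra! h
      obtain ⟨u, hu, hu0⟩ := X.exists_mem_ne_zero_of_ne_bot h0
      refine hu0 (hnd u hu fun y hy => ?_)
      have key : ∀ a ∈ X, B u (f a) = 0 := by
        intro a ha
        have h1 := h (u + a) (X.add_mem hu ha)
        rw [map_add, map_add, map_add, LinearMap.add_apply, LinearMap.add_apply, h u hu, h a ha, zero_add,
          add_zero] at h1
        have h3 : B a (f u) = B u (f a) := by
          have h4 := hB a (f u)
          rw [hf, map_smul, hz1, neg_smul, one_smul, InvolSpDecomp.alt_swap halt u (f a), neg_neg] at h4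
          exact h4.symm
        rw [h3] at h1
        exact (mul_eq_zero.1 (show (2 : F) * B u (f a) = 0 by linear_combination h1)).resolve_left h2
      have := key (f y) (hX y hy)
      rw [hf, map_smul, smul_eq_mul] at this
      exact (mul_eq_zero.1 this).resolve_left hz0
    have hodd : Fintype.card F % 2 = 1 :=
      FiniteField.odd_card_of_char_ne_two fun h => h2 (by
        haveI : CharP F 2 := h ▸ ringChar.charP F
        exact CharTwo.two_eq_zero)
    obtain ⟨a, b, hab⟩ := FiniteField.exists_root_sum_quadratic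
      (f := Polynomial.X ^ 2 - Polynomial.C (l / B v (f v))) (g := Polynomial.C (1 : F) * Polynomial.X ^ 2)
      (Polynomial.degree_X_pow_sub_C two_pos _) (Polynomial.degree_C_mul_X_pow 2 one_ne_zero) hodd
    simp at hab
    obtain ⟨y, hy⟩ : ∃ y, y = a • v + b • f v := ⟨_, rfl⟩
    have hyX : y ∈ X := hy ▸ X.add_mem (X.smul_mem _ hv) (X.smul_mem _ (hX v hv))
    refine ⟨y, hyX, f y, hX y hyX, 1, ?_, ?_, ?_⟩
    · have h5 : B (f v) v = - B v (f v) := InvolSpDecomp.alt_swap halt v (f v)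
      have e : B y (f y) = (a ^ 2 + b ^ 2) * B v (f v) := by
        simp only [hy, map_add, map_smul, hf, hz1, LinearMap.add_apply, LinearMap.smul_apply, smul_eq_mul,
          halt, h5]
        ring
      rw [e, show a ^ 2 + b ^ 2 = l / B v (f v) by linear_combination hab, div_mul_cancel₀ _ hc]
    · rw [hA]; simp
    · rw [hA, hf, hz1]; simp

theorem exists_orth_basis {b : ℕ} (h2 : (2 : F) ≠ 0) {f : (Fin b → F) → (Fin b → F) → F}
    (hf : Cfsg.Geo.IsSymmetricForm f) :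
    ∃ u : Module.Basis (Fin b) F (Fin b → F), (∀ i, f (u i) (u i) ≠ 0) ∧ ∀ i j, i ≠ j → f (u i) (u j) = 0 := by
  classical
  haveI : Invertible (2 : F) := invertibleOfNonzero h2
  obtain ⟨B, hB⟩ : ∃ B : (Fin b → F) →ₗ[F] (Fin b → F) →ₗ[F] F, ∀ x y, B x y = f x y :=
    ⟨LinearMap.mk₂ F f hf.bilinear.add_left hf.bilinear.smul_left hf.bilinear.add_right hf.bilinear.smul_right,
      fun x y => rfl⟩
  have hS : LinearMap.IsSymm B := ⟨fun x y => by simp [hB, hf.symm x y]⟩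
  obtain ⟨w, hw⟩ := LinearMap.BilinForm.exists_orthogonal_basis hS
  have horth : ∀ i j, i ≠ j → f (w i) (w j) = 0 := fun i j h => (hB _ _).symm.trans (hw h)
  refine ⟨w.reindex (finCongr (Module.finrank_fin_fun F)), fun i h0 => ?_, fun i j h => ?_⟩
  · rw [Module.Basis.reindex_apply] at h0
    obtain ⟨k, hk⟩ : ∃ k, k = (finCongr (Module.finrank_fin_fun F (n := b))).symm i := ⟨_, rfl⟩
    rw [← hk] at h0
    obtain ⟨x, hx⟩ := (hf.nondegenerate (w k) (w.ne_zero k)).2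
    apply hx
    rw [← hB, ← w.sum_repr x, map_sum]
    refine Finset.sum_eq_zero fun j _ => ?_
    by_cases hij : k = j
    · subst hij; rw [map_smul, hB, h0, smul_zero]
    · rw [map_smul, hw hij, smul_zero]
  · rw [Module.Basis.reindex_apply, Module.Basis.reindex_apply]
    exact horth _ _ fun e => h ((finCongr (Module.finrank_fin_fun F)).symm.injective e)

theorem main [Fintype F] {d b : ℕ} (h2 : (2 : F) ≠ 0) (hd : 0 < d) (hdb : d = b)
    (e : (Fin d ⊕ Fin d) ≃ Fin 2 × Fin b) (P : GL (Fin d ⊕ Fin d) F)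
    (f₁ : (Fin 2 → F) → (Fin 2 → F) → F) (f₂ : (Fin b → F) → (Fin b → F) → F)
    (hf₁ : Cfsg.Geo.IsSymplecticForm f₁) (hf₂ : Cfsg.Geo.IsSymmetricForm f₂)
    (hS : Cfsg.Geo.IsTensorFormStructure id (Cfsg.sympForm d F) f₁ f₂ e P)
    (x : GL (Fin d ⊕ Fin d) F) (hx : x ∈ Cfsg.spGL d F) {z : F}
    (hxz : (x : Matrix (Fin d ⊕ Fin d) (Fin d ⊕ Fin d) F) * x = z • 1) :
    ∃ g ∈ Cfsg.spGL d F, g⁻¹ * x * g ∈ Cfsg.Geo.tensorProductSubgroup 2 b e P := by
  classical
  subst hdb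
  obtain ⟨B, hB⟩ : ∃ B, B = CfsgLib.Classical.spBilin d F := ⟨_, rfl⟩
  have hBv : ∀ u v, B u v = Cfsg.sympForm d F u v := fun u v => by rw [hB]; rfl
  have halt : ∀ u, B u u = 0 := fun u => by rw [hBv]; exact CfsgLib.Classical.sympForm_self u
  obtain ⟨f, hf⟩ : ∃ f, f = Matrix.toLin' (x : Matrix (Fin d ⊕ Fin d) (Fin d ⊕ Fin d) F) := ⟨_, rfl⟩
  have hff : ∀ u, f (f u) = z • u := fun u => by
    rw [hf, toLin'_apply, toLin'_apply, mulVec_mulVec, hxz, smul_mulVec, one_mulVec]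
  have hiso : ∀ u v, B (f u) (f v) = B u v := fun u v => by
    rw [hBv, hBv, hf, toLin'_apply, toLin'_apply]; exact hx u v
  have hzz : z * z = 1 := by
    obtain ⟨w, hw⟩ := CfsgLib.Classical.exists_sympForm_ne_zero
      (show (Pi.single (Sum.inl ⟨0, hd⟩) 1 : Fin d ⊕ Fin d → F) ≠ 0 by simp)
    have h := hiso (f (Pi.single (Sum.inl ⟨0, hd⟩) 1)) (f w)
    rw [hff, hff, hiso, map_smul, map_smul, LinearMap.smul_apply, smul_eq_mul, smul_eq_mul, hBv] at h
    exact mul_right_cancel₀ hw (by linear_combination h)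
  have hz0 : z ≠ 0 := fun h => by rw [h, mul_zero] at hzz; exact zero_ne_one hzz
  obtain ⟨A, hA⟩ := exists_shape h2 halt hzz hff hiso
  obtain ⟨u, hu0, huo⟩ := exists_orth_basis h2 hf₂
  obtain ⟨c, hc, hS⟩ := hS
  obtain ⟨a₀, ha₀⟩ : ∃ a₀ : Fin 2 → F, a₀ = Pi.single 0 1 := ⟨_, rfl⟩
  obtain ⟨a₁, ha₁⟩ : ∃ a₁, f₁ a₀ a₁ = 1 := by
    obtain ⟨y, hy⟩ := (hf₁.nondegenerate a₀ (by simp [ha₀])).2
    exact ⟨(f₁ a₀ y)⁻¹ • y, by rw [hf₁.bilinear.smul_right, inv_mul_cancel₀ hy]⟩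
  obtain ⟨T, hT⟩ : ∃ T : (Fin 2 → F) → (Fin d → F) → (Fin d ⊕ Fin d → F), ∀ a y,
      T a y = (P : Matrix (Fin d ⊕ Fin d) (Fin d ⊕ Fin d) F) *ᵥ ((fun p => a p.1 * y p.2) ∘ e) := ⟨_, fun _ _ => rfl⟩
  have hTf : ∀ a a' y y', B (T a y) (T a' y') = c * (f₁ a a' * f₂ y y') := fun a a' y y' => by
    rw [hBv, hT, hT, hS, TensorRefine.formOfGram_kronecker id (fun _ _ => rfl),
      ← TensorRefine.form_eq (σ := id) hf₁.bilinear.add_left hf₁.bilinear.smul_left hf₁.bilinear.add_right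
        hf₁.bilinear.smul_right,
      ← TensorRefine.form_eq (σ := id) hf₂.bilinear.add_left hf₂.bilinear.smul_left hf₂.bilinear.add_right
        hf₂.bilinear.smul_right]
  obtain ⟨lam, hlam⟩ : ∃ lam : Fin d → F, ∀ i, lam i = c * f₂ (u i) (u i) := ⟨_, fun i => rfl⟩
  have hlam0 : ∀ i, lam i ≠ 0 := fun i => by rw [hlam]; exact mul_ne_zero hc (hu0 i)
  have hT1 : PairFam B lam (fun i => T a₀ (u i)) (fun i => T a₁ (u i)) := by
    refine ⟨fun i => by rw [hTf, ha₁, one_mul, hlam], fun i j => ⟨?_, ?_, fun h => ?_⟩⟩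
    · rw [hTf, hf₁.alternating, zero_mul, mul_zero]
    · rw [hTf, hf₁.alternating, zero_mul, mul_zero]
    · rw [hTf, huo i j h, mul_zero, mul_zero]
  have hdim : Module.finrank F (Fin d ⊕ Fin d → F) = 2 * d := by simp [two_mul]
  obtain ⟨v, w, ε, hfam, -, hR⟩ := exists_fam halt hz0 hff hiso
    (Shape f (A : Matrix (Fin 2) (Fin 2) F))
    (fun v w ε h => ⟨Submodule.mem_span_pair.2 ⟨(ε : F) * A 0 0, (ε : F) * A 1 0, by rw [h.1, smul_add, smul_smul, smul_smul]⟩,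
      Submodule.mem_span_pair.2 ⟨(ε : F) * A 0 1, (ε : F) * A 1 1, by rw [h.2, smul_add, smul_smul, smul_smul]⟩⟩)
    hA lam hlam0 (X := ⊤) (fun _ _ => Submodule.mem_top)
    (fun y _ h => CfsgLib.Classical.sympForm_nondeg fun v => by rw [← hBv]; exact h v Submodule.mem_top)
    (by rw [finrank_top]; exact hdim)
  obtain ⟨E₁, hE₁, hE₁f⟩ := fam_equiv halt hlam0 hT1 hdim
  obtain ⟨E₂, hE₂, hE₂f⟩ := fam_equiv halt hlam0 hfam hdim
  obtain ⟨G, hG⟩ : ∃ G, G = E₁.symm.trans E₂ := ⟨_, rfl⟩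
  obtain ⟨g, hg⟩ : ∃ g : GL (Fin d ⊕ Fin d) F, ∀ y, (g : Matrix _ _ F) *ᵥ y = G y :=
    ⟨Matrix.GeneralLinearGroup.toLin.symm (LinearMap.GeneralLinearGroup.ofLinearEquiv G), fun y => by
      rw [← Matrix.toLin'_apply]
      show Matrix.toLin' (LinearMap.toMatrix' (G : (Fin d ⊕ Fin d → F) →ₗ[F] (Fin d ⊕ Fin d → F))) y = G y
      rw [Matrix.toLin'_toMatrix']
      rfl⟩
  have hgT : ∀ i, (g : Matrix _ _ F) *ᵥ T a₀ (u i) = v i ∧ (g : Matrix _ _ F) *ᵥ T a₁ (u i) = w i := fun i => by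
    rw [hg, hg, hG, ← (hE₁ i).1, ← (hE₁ i).2, LinearEquiv.trans_apply, LinearEquiv.trans_apply,
      LinearEquiv.symm_apply_apply, LinearEquiv.symm_apply_apply]
    exact hE₂ i
  refine ⟨g, fun y y' => ?_, ?_⟩
  · show Cfsg.sympForm d F ((g : Matrix _ _ F) *ᵥ y) ((g : Matrix _ _ F) *ᵥ y') = Cfsg.sympForm d F y y'
    rw [hg, hg, ← hBv, ← hBv, hG, LinearEquiv.trans_apply, LinearEquiv.trans_apply, hE₂f, ← hE₁f,
      LinearEquiv.apply_symm_apply, LinearEquiv.apply_symm_apply]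
  -- the tensor element
  obtain ⟨U, hU0, hU1⟩ : ∃ U : GL (Fin 2) F, (U : Matrix (Fin 2) (Fin 2) F) *ᵥ Pi.single 0 1 = a₀ ∧
      (U : Matrix (Fin 2) (Fin 2) F) *ᵥ Pi.single 1 1 = a₁ := by
    have ha11 : a₁ 1 ≠ 0 := fun h => by
      have : a₁ = a₁ 0 • a₀ := by funext j; fin_cases j <;> simp [ha₀, h]
      rw [this, hf₁.bilinear.smul_right, hf₁.alternating, mul_zero] at ha₁
      exact zero_ne_one ha₁
    refine ⟨Matrix.GeneralLinearGroup.mkOfDetNeZero !![1, a₁ 0; 0, a₁ 1] (by simp [ha11]), ?_, ?_⟩ <;>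
    · funext j; fin_cases j <;> simp [ha₀]
  obtain ⟨A', hA'⟩ : ∃ A', A' = U * A * U⁻¹ := ⟨_, rfl⟩
  have hUinv : ∀ j, ((U⁻¹ : GL (Fin 2) F) : Matrix (Fin 2) (Fin 2) F) *ᵥ ((U : Matrix (Fin 2) (Fin 2) F) *ᵥ j) = j :=
    fun j => by rw [mulVec_mulVec, Units.inv_mul, one_mulVec]
  have hAcol : ∀ k : Fin 2, (A' : Matrix (Fin 2) (Fin 2) F) *ᵥ ((U : Matrix (Fin 2) (Fin 2) F) *ᵥ Pi.single k 1) =
      A 0 k • a₀ + A 1 k • a₁ := fun k => by
    rw [hA', Units.val_mul, Units.val_mul, ← mulVec_mulVec, hUinv, ← mulVec_mulVec,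
      show (A : Matrix (Fin 2) (Fin 2) F) *ᵥ Pi.single k 1 = A 0 k • Pi.single 0 1 + A 1 k • Pi.single 1 1 by
        funext j; fin_cases j <;> simp [Matrix.mulVec_single_one],
      mulVec_add, mulVec_smul, mulVec_smul, hU0, hU1]
  obtain ⟨D, hD⟩ : ∃ D : GL (Fin d) F, ∀ i, (D : Matrix (Fin d) (Fin d) F) *ᵥ u i = (ε i : F) • u i := by
    obtain ⟨L, hL⟩ : ∃ L : (Fin d → F) ≃ₗ[F] (Fin d → F), L = u.equiv (u.unitsSMul ε) (Equiv.refl _) := ⟨_, rfl⟩
    refine ⟨Matrix.GeneralLinearGroup.toLin.symm (LinearMap.GeneralLinearGroup.ofLinearEquiv L), fun i => ?_⟩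
    rw [← Matrix.toLin'_apply]
    show Matrix.toLin' (LinearMap.toMatrix' (L : (Fin d → F) →ₗ[F] (Fin d → F))) (u i) = _
    rw [Matrix.toLin'_toMatrix', hL]
    simp [Module.Basis.unitsSMul_apply, Units.smul_def]
  obtain ⟨zK, hzK⟩ : ∃ zK : GL (Fin 2 × Fin d) F, (zK : Matrix _ _ F) =
      (A' : Matrix (Fin 2) (Fin 2) F) ⊗ₖ (D : Matrix (Fin d) (Fin d) F) :=
    have h1 : ((A' : Matrix (Fin 2) (Fin 2) F) ⊗ₖ (D : Matrix (Fin d) (Fin d) F)) *
        (((A'⁻¹ : GL (Fin 2) F) : Matrix (Fin 2) (Fin 2) F) ⊗ₖ ((D⁻¹ : GL (Fin d) F) : Matrix (Fin d) (Fin d) F)) = 1 :=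
      by rw [← Matrix.mul_kronecker_mul, Units.mul_inv, Units.mul_inv, Matrix.one_kronecker_one]
    have h2 : (((A'⁻¹ : GL (Fin 2) F) : Matrix (Fin 2) (Fin 2) F) ⊗ₖ ((D⁻¹ : GL (Fin d) F) : Matrix (Fin d) (Fin d) F)) *
        ((A' : Matrix (Fin 2) (Fin 2) F) ⊗ₖ (D : Matrix (Fin d) (Fin d) F)) = 1 :=
      by rw [← Matrix.mul_kronecker_mul, Units.inv_mul, Units.inv_mul, Matrix.one_kronecker_one]
    ⟨⟨_, _, h1, h2⟩, rfl⟩
  refine ⟨_, ⟨zK, ⟨A', D, hzK⟩, rfl⟩, ?_⟩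
  show P * Cfsg.Geo.glReindex e.symm zK * P⁻¹ = g⁻¹ * x * g
  rw [mul_assoc g⁻¹, eq_inv_mul_iff_mul_eq]
  obtain ⟨t, ht⟩ : ∃ t, t = P * Cfsg.Geo.glReindex e.symm zK * P⁻¹ := ⟨_, rfl⟩
  rw [← ht]
  have htT : ∀ a y, (t : Matrix _ _ F) *ᵥ T a y =
      T ((A' : Matrix (Fin 2) (Fin 2) F) *ᵥ a) ((D : Matrix (Fin d) (Fin d) F) *ᵥ y) := fun a y => by
    rw [ht, Units.val_mul, Units.val_mul, hT, hT,
      show (Cfsg.Geo.glReindex e.symm zK : Matrix (Fin d ⊕ Fin d) (Fin d ⊕ Fin d) F) =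
        Matrix.reindexAlgEquiv F F e.symm (zK : Matrix (Fin 2 × Fin d) (Fin 2 × Fin d) F) from rfl,
      ← Matrix.mulVec_mulVec, Matrix.mulVec_mulVec ((fun p => a p.1 * y p.2) ∘ e), Units.inv_mul, Matrix.one_mulVec,
      ← Matrix.mulVec_mulVec, Matrix.reindexAlgEquiv_apply, Matrix.reindex_apply, Equiv.symm_symm,
      Matrix.submatrix_mulVec_equiv, hzK]
    simp only [Function.comp_assoc, Equiv.self_comp_symm, Function.comp_id, TensorRefine.kronecker_mulVec]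
  have hTlin : ∀ (p q : F) (a a' : Fin 2 → F) y, T (p • a + q • a') y = p • T a y + q • T a' y := fun p q a a' y => by
    rw [hT, hT, hT, ← mulVec_smul, ← mulVec_smul, ← mulVec_add]
    congr 1; funext l; simp [add_mul, mul_assoc]
  have hTs : ∀ (k : F) a y, T a (k • y) = k • T a y := fun k a y => by
    rw [hT, hT, ← mulVec_smul]; congr 1; funext l; simp [mul_left_comm]
  refine Units.ext (Matrix.toLin'.injective (LinearMap.ext fun y => ?_))
  obtain ⟨y, rfl⟩ := E₁.surjective y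
  suffices h : (Matrix.toLin' ((g * t : GL (Fin d ⊕ Fin d) F) : Matrix (Fin d ⊕ Fin d) (Fin d ⊕ Fin d) F)) ∘ₗ E₁.toLinearMap =
      (Matrix.toLin' ((x * g : GL (Fin d ⊕ Fin d) F) : Matrix (Fin d ⊕ Fin d) (Fin d ⊕ Fin d) F)) ∘ₗ E₁.toLinearMap from LinearMap.congr_fun h y
  refine (Pi.basisFun F (Fin d ⊕ Fin d)).ext fun j => ?_
  simp only [Pi.basisFun_apply, LinearMap.comp_apply, LinearEquiv.coe_coe, Matrix.toLin'_apply, Units.val_mul,
    ← mulVec_mulVec]
  rcases j with i | i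
  · rw [(hE₁ i).1, htT, hD, show a₀ = (U : Matrix (Fin 2) (Fin 2) F) *ᵥ Pi.single 0 1 from hU0.symm, hAcol, hTlin,
      hTs, hTs, hU0, mulVec_add, mulVec_smul, mulVec_smul, mulVec_smul, mulVec_smul, (hgT i).1, (hgT i).2,
      ← Matrix.toLin'_apply _ (v i), ← hf, (hR i).1, smul_add, smul_smul, smul_smul, smul_smul, smul_smul,
      mul_comm (ε i : F), mul_comm (ε i : F)]
  · rw [(hE₁ i).2, htT, hD, show a₁ = (U : Matrix (Fin 2) (Fin 2) F) *ᵥ Pi.single 1 1 from hU1.symm, hAcol, hTlin,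
      hTs, hTs, hU1, mulVec_add, mulVec_smul, mulVec_smul, mulVec_smul, mulVec_smul, (hgT i).1, (hgT i).2,
      ← Matrix.toLin'_apply _ (w i), ← hf, (hR i).2, smul_add, smul_smul, smul_smul, smul_smul, smul_smul,
      mul_comm (ε i : F), mul_comm (ε i : F)]

end Main

end CfsgLib.Classical22.TensorSpInvol
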