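/-
The interchange of a pair of complementary totally singular subspaces.
-/
import Cfsg.Agent.Lib.Classical22.OrthMaxPair

set_option autoImplicit false

namespace CfsgLib.Classical22

open CfsgLib.Classical

variable {F V : Type*} [Field F] [AddCommGroup V] [Module F V] (Q : QuadraticForm F V)
variable [FiniteDimensional F V] [Fintype F] {A B : Submodule F V}

omit [Fintype F] in
/-- Dual bases in the two halves. -/
theorem SingPair.exists_dual (h : SingPair Q A B) (hQ : PolarNondeg Q) {k : ℕ} (hA : Module.finrank F A = k)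
    (hB : Module.finrank F B = k) : ∃ e f : Fin k → V, (∀ i, e i ∈ A) ∧ (∀ i, f i ∈ B) ∧
      (∀ i j, QuadraticMap.polar Q (e i) (f j) = if i = j then 1 else 0) ∧
      A ≤ Submodule.span F (Set.range e) ∧ B ≤ Submodule.span F (Set.range f) := by
  classical
  let eA := Module.finBasisOfFinrankEq F A hA
  let L : B →ₗ[F] (Fin k → F) :=
    LinearMap.pi fun i => (QuadraticMap.polarBilin Q (eA i : V)) ∘ₗ B.subtype
  have hL : Function.Injective L := (injective_iff_map_eq_zero L).2 fun b hb => by
    refine Subtype.ext (hQ _ fun w => ?_)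
    obtain ⟨a, ha, b', hb', rfl⟩ := h.exists_add Q w
    rw [QuadraticMap.polar_add_right, polar_zero_of_singular Q h.singB b.2 hb', add_zero]
    have he : (QuadraticMap.polarBilin Q (b : V)) ∘ₗ A.subtype = 0 := eA.ext fun i => by
      have := congrFun hb i
      simp only [L, LinearMap.pi_apply, LinearMap.comp_apply, Submodule.subtype_apply, Pi.zero_apply,
        QuadraticMap.polarBilin_apply_apply] at this
      simpa [QuadraticMap.polar_comm Q (b : V)] using this
    exact LinearMap.congr_fun he ⟨a, ha⟩
  have hsurj := (LinearMap.injective_iff_surjective_of_finrank_eq_finrank (hB.trans (Module.finrank_fin_fun F).symm)).1 hL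
  choose f hf using fun j => hsurj (Pi.single j 1)
  refine ⟨fun i => eA i, fun j => f j, fun i => (eA i).2, fun j => (f j).2, fun i j => ?_, fun a ha => ?_,
    fun b hb => ?_⟩
  · have := congrFun (hf j) i
    simpa [L, Pi.single_apply] using this
  · have h1 := eA.sum_repr ⟨a, ha⟩
    rw [show a = ((∑ i, eA.repr ⟨a, ha⟩ i • eA i : A) : V) by rw [h1]]
    push_cast
    exact Submodule.sum_mem _ fun i _ => Submodule.smul_mem _ _ (Submodule.subset_span ⟨i, rfl⟩)
  · have h1 : (⟨b, hb⟩ : B) = ∑ j, (L ⟨b, hb⟩ j) • f j := hL (by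
      rw [map_sum]
      simp only [map_smul, hf]
      exact (pi_eq_sum_univ' (L ⟨b, hb⟩)))
    rw [show b = ((∑ j, (L ⟨b, hb⟩ j) • f j : B) : V) by rw [← h1]]
    push_cast
    exact Submodule.sum_mem _ fun i _ => Submodule.smul_mem _ _ (Submodule.subset_span ⟨i, rfl⟩)

/-- For even dimension an element of the Eichler group interchanges the halves. -/
theorem SingPair.exists_swap (h : SingPair Q A B) (hQ : PolarNondeg Q) {k : ℕ} (hA : Module.finrank F A = k)
    (hB : Module.finrank F B = k) (hk : Even k) (hn : 5 ≤ Module.finrank F V) :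
    ∃ J ∈ eichGroup Q, (∀ a ∈ A, J.1 a ∈ B) ∧ ∀ b ∈ B, J.1 b ∈ A := by
  classical
  obtain ⟨e, f, heA, hfB, hef, hA', hB'⟩ := h.exists_dual Q hQ hA hB
  have hQr : ∀ i, Q (e i - f i) = -1 := fun i => by
    rw [quad_sub, h.singA _ (heA i), h.singB _ (hfB i), hef i i, if_pos rfl]
    ring
  have hne : ∀ i, Q (e i - f i) ≠ 0 := fun i => by rw [hQr i]; exact neg_ne_zero.2 one_ne_zero
  have haction : ∀ i j, (qRefl Q (hne i)).1 (e j) = (if i = j then f j else e j) ∧
      (qRefl Q (hne i)).1 (f j) = (if i = j then e j else f j) := by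
    intro i j
    have e1 : QuadraticMap.polar Q (e j) (e i - f i) = -(if i = j then (1 : F) else 0) := by
      rw [QuadraticMap.polar_sub_right, polar_zero_of_singular Q h.singA (heA j) (heA i), hef j i, zero_sub]
      simp [eq_comm]
    have e2 : QuadraticMap.polar Q (f j) (e i - f i) = (if i = j then (1 : F) else 0) := by
      rw [QuadraticMap.polar_sub_right, polar_zero_of_singular Q h.singB (hfB j) (hfB i), QuadraticMap.polar_comm,
        hef i j, sub_zero]
    rw [qRefl_apply, qRefl_apply, e1, e2, hQr]
    split_ifs with hij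
    · subst hij
      constructor <;> simp
    · simp
  have key : ∀ l : List (Fin k), l.Nodup → ∃ J : qAut Q,
      (l.map fun i => qRefl Q (hne i)).prod = J ∧
      ∀ j, (J.1 (e j) = if j ∈ l then f j else e j) ∧ (J.1 (f j) = if j ∈ l then e j else f j) := by
    intro l
    induction l with
    | nil => exact fun _ => ⟨1, rfl, fun j => by simp⟩
    | cons i l ih =>
      intro hl
      rw [List.nodup_cons] at hl
      obtain ⟨J, hJ, hJe⟩ := ih hl.2
      refine ⟨qRefl Q (hne i) * J, by rw [List.map_cons, List.prod_cons, hJ], fun j => ?_⟩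
      rw [qAut_mul_apply, qAut_mul_apply, (hJe j).1, (hJe j).2]
      by_cases hji : j = i
      · subst hji
        simp [hl.1, (haction j j).1, (haction j j).2]
      · by_cases hjl : j ∈ l <;>
          simp [hjl, hji, Ne.symm hji, (haction i j).1, (haction i j).2]
  obtain ⟨J, hJ, hJe⟩ := key (List.finRange k) (List.nodup_finRange k)
  refine ⟨J, ?_, fun a ha => ?_, fun b hb => ?_⟩
  · rw [eichGroup_eq_commutator Q hQ hn, ← Abelianization.ker_of, MonoidHom.mem_ker, ← hJ, map_list_prod,
      List.map_map]
    obtain ⟨j, rfl⟩ := hk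
    rcases Nat.eq_zero_or_pos (j + j) with hz | hpos
    · rw [show List.finRange (j + j) = [] from List.eq_nil_of_length_eq_zero (by rw [List.length_finRange, hz])]
      rfl
    let i₀ : Fin (j + j) := ⟨0, hpos⟩
    rw [List.prod_eq_pow_card _ (Abelianization.of (qRefl Q (hne i₀))), List.length_map, List.length_finRange,
      pow_add, ← mul_pow, ← map_mul, qRefl_mul_self, map_one, one_pow]
    intro x hx
    obtain ⟨i, -, rfl⟩ := List.mem_map.1 hx
    exact isConj_refl_of_sq Q hQ (hne i) (hne i₀) ⟨1, by rw [hQr, hQr]; ring⟩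
  · have hle : Submodule.span F (Set.range e) ≤ B.comap J.1.toLinearMap := Submodule.span_le.2 (by
      rintro _ ⟨j, rfl⟩
      change J.1 (e j) ∈ B
      rw [(hJe j).1, if_pos (List.mem_finRange j)]
      exact hfB j)
    exact hle (hA' ha)
  · have hle : Submodule.span F (Set.range f) ≤ A.comap J.1.toLinearMap := Submodule.span_le.2 (by
      rintro _ ⟨j, rfl⟩
      change J.1 (f j) ∈ A
      rw [(hJe j).2, if_pos (List.mem_finRange j)]
      exact heA j)
    exact hle (hB' hb)

end CfsgLib.Classical22
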