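/-
The stabiliser of a decomposition into two totally singular halves, inside the automorphism group.
-/
import Cfsg.Agent.Lib.Classical22.OrthMaxSwap
import Cfsg.Agent.Lib.Classical22.OrthMaxMatrix

set_option autoImplicit false

namespace CfsgLib.Classical22

open CfsgLib.Classical Cfsg

variable {F : Type*} [Field F] {ι : Type} [Fintype ι] [DecidableEq ι] (q : QuadraticForm F (ι → F))

theorem singPair_of_decomposition {k : ℕ} {D : Fin 2 → Submodule F (ι → F)} (hD : Cfsg.Geo.IsMDecomposition k D)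
    (hts : ∀ i, Cfsg.Geo.IsTotallySingularQuad ⇑q (D i)) : SingPair q (D 0) (D 1) := by
  refine ⟨⟨(hD.indep.pairwiseDisjoint (by decide : (0 : Fin 2) ≠ 1)), codisjoint_iff.2 ?_⟩, hts 0, hts 1⟩
  rw [eq_top_iff, ← hD.iSup_eq_top]
  exact iSup_le (Fin.forall_fin_two.2 ⟨le_sup_left, le_sup_right⟩)

theorem mem_comap_decompositionStabilizer_two {D : Fin 2 → Submodule F (ι → F)}
    (hd : Module.finrank F (D 0) = Module.finrank F (D 1)) (g : qAut q) :
    g ∈ (Cfsg.Geo.decompositionStabilizer D).comap (qHom q) ↔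
      ((∀ a ∈ D 0, g.1 a ∈ D 0) ∧ ∀ b ∈ D 1, g.1 b ∈ D 1) ∨
        ((∀ a ∈ D 0, g.1 a ∈ D 1) ∧ ∀ b ∈ D 1, g.1 b ∈ D 0) := by
  have hmap : ∀ (i j : Fin 2), Module.finrank F (D i) = Module.finrank F (D j) →
      ((∀ a ∈ D i, g.1 a ∈ D j) ↔ (D i).map g.1.toLinearMap = D j) := fun i j he =>
    ⟨fun h => Submodule.eq_of_le_of_finrank_eq (Submodule.map_le_iff_le_comap.2 h)
      ((LinearEquiv.finrank_map_eq g.1 _).trans he), fun h a ha => h ▸ ⟨a, ha, rfl⟩⟩
  change (∃ σ : Equiv.Perm (Fin 2), ∀ i, (D i).map (Matrix.toLin' (qHom q g : Matrix ι ι F)) = D (σ i)) ↔ _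
  rw [toLin'_qHom, hmap 0 0 rfl, hmap 1 1 rfl, hmap 0 1 hd, hmap 1 0 hd.symm]
  constructor
  · rintro ⟨σ, hσ⟩
    rcases (Fin.exists_fin_two.1 ⟨σ 0, rfl⟩ : σ 0 = 0 ∨ σ 0 = 1) with h | h <;>
      rcases (Fin.exists_fin_two.1 ⟨σ 1, rfl⟩ : σ 1 = 0 ∨ σ 1 = 1) with h' | h'
    · exact absurd (σ.injective (h.trans h'.symm)) (by decide)
    · exact Or.inl ⟨(hσ 0).trans (congrArg D h), (hσ 1).trans (congrArg D h')⟩
    · exact Or.inr ⟨(hσ 0).trans (congrArg D h), (hσ 1).trans (congrArg D h')⟩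
    · exact absurd (σ.injective (h.trans h'.symm)) (by decide)
  · rintro (⟨h, h'⟩ | ⟨h, h'⟩)
    · exact ⟨1, Fin.forall_fin_two.2 ⟨h, h'⟩⟩
    · exact ⟨Equiv.swap 0 1, Fin.forall_fin_two.2 ⟨by simpa using h, by simpa using h'⟩⟩

variable {q} [Fintype F] {A B : Submodule F (ι → F)}

omit [DecidableEq ι] [Fintype F] in
theorem eich_maps_pair (h : SingPair q A B) {a b : ι → F} (ha : a ∈ A) (hb : b ∈ B)
    (hab : QuadraticMap.polar q a b = 0) :
    (∀ x ∈ A, (eich q a b).1 x ∈ A) ∧ ∀ x ∈ B, (eich q a b).1 x ∈ B := by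
  refine ⟨fun x hx => ?_, fun x hx => ?_⟩
  · rw [eich_apply_pair q h.singA (h.singB b hb) ha hab hx]
    exact A.sub_mem hx (A.smul_mem _ ha)
  · rw [eich_apply q (h.singA a ha) hab, polar_zero_of_singular q h.singB hx hb, h.singB b hb]
    simpa using B.add_mem hx (B.smul_mem (QuadraticMap.polar q x a) hb)

omit [DecidableEq ι] in
/-- An element of the Eichler group stabilising one half but not the other. -/
theorem exists_moving_half (h : SingPair q A B) (hQ : PolarNondeg q) (hk : 2 ≤ Module.finrank F A) :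
    ∃ g ∈ eichGroup q, (∀ x ∈ A, g.1 x ∈ A) ∧ ∃ b ∈ B, g.1 b ∉ B ∧ g.1 b ∉ A := by
  obtain ⟨a, ha, ha0⟩ := Submodule.exists_mem_ne_zero_of_ne_bot (p := A) fun h0 => by
    rw [h0, finrank_bot] at hk
    omega
  obtain ⟨a', ha', ha'a⟩ : ∃ a' ∈ A, a' ∉ Submodule.span F {a} := SetLike.not_le_iff_exists.1 fun hle => by
    have := Submodule.finrank_mono hle
    rw [finrank_span_singleton ha0] at this
    omega
  have haa : QuadraticMap.polar q a a' = 0 := polar_zero_of_singular q h.singA ha ha'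
  obtain ⟨b, hb, hbS, hba⟩ := h.exists_sep q hQ ((Submodule.span_singleton_le_iff_mem a' A).2 ha') ha fun hmem => by
    obtain ⟨t, ht⟩ := Submodule.mem_span_singleton.1 hmem
    rcases eq_or_ne t 0 with rfl | ht0
    · exact ha0 (by rw [← ht, zero_smul])
    · exact ha'a (Submodule.mem_span_singleton.2 ⟨t⁻¹, by rw [← ht, inv_smul_smul₀ ht0]⟩)
  have hba' := hbS a' (Submodule.mem_span_singleton_self a')
  have hgb : (eich q a a').1 b = b + a' := by
    rw [eich_apply q (h.singA a ha) haa, QuadraticMap.polar_comm q b a, hba, QuadraticMap.polar_comm q b a', hba',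
      h.singA a' ha']
    simp
  refine ⟨eich q a a', eich_mem q (h.singA a ha) haa,
    fun x hx => apply_mem_of_qStab q (eich_mem_qStab q (h.singA a ha) haa ha ha') hx, b, hb, fun hB => ?_, fun hA => ?_⟩
  · rw [hgb, B.add_mem_iff_right hb] at hB
    exact ha'a (by
      rw [Submodule.disjoint_def.1 h.compl.disjoint a' ha' hB]
      exact Submodule.zero_mem _)
  · rw [hgb, A.add_mem_iff_left ha'] at hA
    rw [Submodule.disjoint_def.1 h.compl.disjoint b hA hb, QuadraticMap.polar_zero_right] at hba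
    exact zero_ne_one hba

end CfsgLib.Classical22
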