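/-
The stabiliser of a non-singular point in characteristic two.
-/
import Cfsg.Agent.Lib.Classical22.OrthMaxMove

set_option autoImplicit false

namespace CfsgLib.Classical22

open CfsgLib.Classical

variable {F V : Type*} [Field F] [AddCommGroup V] [Module F V] (Q : QuadraticForm F V)
variable [FiniteDimensional F V] [Fintype F]

omit [Fintype F] in
theorem fixes_of_qStab_span (h2 : (2 : F) = 0) {v : V} (hv : Q v ≠ 0) {g : qAut Q}
    (hg : g ∈ qStab Q (Submodule.span F {v})) : g.1 v = v := by
  obtain ⟨t, ht⟩ := Submodule.mem_span_singleton.1 (apply_mem_of_qStab Q hg (Submodule.mem_span_singleton_self v))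
  have h := qAut_map g v
  rw [← ht, quad_smul] at h
  have h1 : (t - 1) * (t - 1) = 0 := by
    have := mul_right_cancel₀ hv (h.trans (one_mul (Q v)).symm)
    linear_combination this - (t - 1) * h2
  rw [← ht, sub_eq_zero.1 ((mul_self_eq_zero (M₀ := F)).1 h1), one_smul]

/-- A group above the stabiliser of a non-singular point is the stabiliser or everything. -/
theorem eichGroup_le_of_point (h2 : (2 : F) = 0) (hQ : PolarNondeg Q) (hn : 8 ≤ Module.finrank F V) {v : V}
    (hv : Q v ≠ 0) {M : Subgroup (qAut Q)} (hHM : qStab Q (Submodule.span F {v}) ⊓ eichGroup Q ≤ M)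
    (hne : ¬ M ≤ qStab Q (Submodule.span F {v})) : eichGroup Q ≤ M := by
  obtain ⟨g, hgM, hg⟩ := SetLike.not_le_iff_exists.1 hne
  have hv0 : v ≠ 0 := fun h => hv (by rw [h, map_zero])
  have hvv : QuadraticMap.polar Q v v = 0 := by rw [quad_polar_self, h2, zero_mul]
  obtain ⟨v', hv'⟩ : ∃ v', v' = g.1 v := ⟨_, rfl⟩
  have hv'v : v' ∉ Submodule.span F {v} := fun h => hg (mem_qStab_of_maps Q fun x hx => by
    obtain ⟨t, rfl⟩ := Submodule.mem_span_singleton.1 hx
    rw [map_smul, ← hv']
    exact Submodule.smul_mem _ _ h)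
  obtain ⟨S, hS⟩ : ∃ S, S = Submodule.span F {v} ⊔ Submodule.span F {v'} := ⟨_, rfl⟩
  have hvS : v ∈ S := hS ▸ Submodule.mem_sup_left (Submodule.mem_span_singleton_self v)
  have hv'S : v' ∈ S := hS ▸ Submodule.mem_sup_right (Submodule.mem_span_singleton_self v')
  have hfix : ∀ x w : V, Q x = 0 → QuadraticMap.polar Q x w = 0 → QuadraticMap.polar Q v x = 0 →
      QuadraticMap.polar Q v w = 0 → eich Q x w ∈ qStab Q (Submodule.span F {v}) ⊓ eichGroup Q := by
    intro x w hx hxw hvx hvw
    refine ⟨eich_mem_qStab_perp Q hx hxw ?_ ?_, eich_mem Q hx hxw⟩ <;> intro y hy <;>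
      obtain ⟨t, rfl⟩ := Submodule.mem_span_singleton.1 hy <;>
      rw [QuadraticMap.polar_smul_left]
    · rw [hvx, smul_zero]
    · rw [hvw, smul_zero]
  have hfull : ∀ u, Q u = 0 → u ∈ qPerp Q S → u ∉ S → EFull Q M u := by
    intro u hu huS huS'
    have hvu : QuadraticMap.polar Q v u = 0 := (mem_qPerp Q).1 huS v hvS
    have hv'u : QuadraticMap.polar Q v' u = 0 := (mem_qPerp Q).1 huS v' hv'S
    have hu0 : u ≠ 0 := fun h => huS' (h ▸ S.zero_mem)
    have hconj : ∀ w, QuadraticMap.polar Q u w = 0 → QuadraticMap.polar Q v' w = 0 → eich Q u w ∈ M := by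
      intro w huw hv'w
      have hw' : QuadraticMap.polar Q ((g⁻¹).1 u) ((g⁻¹).1 w) = 0 := by rw [qAut_polar, huw]
      have hvx : ∀ x, QuadraticMap.polar Q v ((g⁻¹).1 x) = QuadraticMap.polar Q v' x := fun x => by
        rw [← qAut_polar g, ← hv', qApply_inv_self]
      have h := mul_mem (mul_mem hgM (hHM (hfix _ _ (by rw [qAut_map, hu]) hw' (by rw [hvx, hv'u])
        (by rw [hvx, hv'w])))) (inv_mem hgM)
      rwa [eich_conj Q g (by rw [qAut_map, hu]) hw', qApply_inv_self, qApply_inv_self] at h
    obtain ⟨w0, hw0, hvw0⟩ : ∃ w0 ∈ qPerp Q (Submodule.span F {u} ⊔ Submodule.span F {v'}),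
        QuadraticMap.polar Q v w0 ≠ 0 := by
      by_contra hc
      push Not at hc
      have hmem : v ∈ Submodule.span F {u} ⊔ Submodule.span F {v'} := by
        rw [← qPerp_qPerp Q hQ (Submodule.span F {u} ⊔ Submodule.span F {v'}), mem_qPerp]
        exact fun z hz => (QuadraticMap.polar_comm Q z v).trans (hc z hz)
      obtain ⟨a, ha, b, hb, hab⟩ := Submodule.mem_sup.1 hmem
      obtain ⟨s, rfl⟩ := Submodule.mem_span_singleton.1 ha
      obtain ⟨t, rfl⟩ := Submodule.mem_span_singleton.1 hb
      rcases eq_or_ne s 0 with rfl | hs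
      · rw [zero_smul, zero_add] at hab
        have ht : t ≠ 0 := fun h => hv0 (by rw [← hab, h, zero_smul])
        exact hv'v (Submodule.mem_span_singleton.2 ⟨t⁻¹, by rw [← hab, inv_smul_smul₀ ht]⟩)
      · refine huS' ?_
        rw [← inv_smul_smul₀ hs u, eq_sub_of_add_eq hab]
        exact S.smul_mem _ (S.sub_mem hvS (S.smul_mem t hv'S))
    rw [mem_qPerp] at hw0
    have huw0 := hw0 u (Submodule.mem_sup_left (Submodule.mem_span_singleton_self u))
    have hm0 := hconj w0 huw0 (hw0 v' (Submodule.mem_sup_right (Submodule.mem_span_singleton_self v')))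
    obtain ⟨z, hz, hvz⟩ : ∃ z ∈ qPerp Q (Submodule.span F {u}), QuadraticMap.polar Q v z ≠ 0 := by
      by_contra hc
      push Not at hc
      have hmem : v ∈ Submodule.span F {u} := by
        rw [← qPerp_qPerp Q hQ (Submodule.span F {u}), mem_qPerp]
        exact fun z hz => (QuadraticMap.polar_comm Q z v).trans (hc z hz)
      obtain ⟨t, ht⟩ := Submodule.mem_span_singleton.1 hmem
      exact hv (by rw [← ht, quad_smul, hu, mul_zero])
    have huz := (mem_qPerp_singleton Q).1 hz
    obtain ⟨P, hP⟩ : ∃ P, P = Submodule.span F {v} ⊔ Submodule.span F {z} := ⟨_, rfl⟩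
    have hvP : v ∈ P := hP ▸ Submodule.mem_sup_left (Submodule.mem_span_singleton_self v)
    have hzP : z ∈ P := hP ▸ Submodule.mem_sup_right (Submodule.mem_span_singleton_self z)
    have hPel : ∀ x ∈ P, ∃ s t : F, s • v + t • z = x := by
      intro x hx
      rw [hP, Submodule.mem_sup] at hx
      obtain ⟨a, ha, b, hb, rfl⟩ := hx
      obtain ⟨s, rfl⟩ := Submodule.mem_span_singleton.1 ha
      obtain ⟨t, rfl⟩ := Submodule.mem_span_singleton.1 hb
      exact ⟨s, t, rfl⟩
    have hPnd : NdOn Q P := by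
      intro x hx hxx
      obtain ⟨s, t, rfl⟩ := hPel x hx
      have e1 := hxx v hvP
      rw [QuadraticMap.polar_add_left, QuadraticMap.polar_smul_left, QuadraticMap.polar_smul_left, hvv, smul_zero,
        zero_add, QuadraticMap.polar_comm Q z v, smul_eq_mul, mul_eq_zero] at e1
      have ht := e1.resolve_right hvz
      subst ht
      have e2 := hxx z hzP
      rw [QuadraticMap.polar_add_left, QuadraticMap.polar_smul_left, QuadraticMap.polar_smul_left, zero_smul,
        add_zero, smul_eq_mul, mul_eq_zero] at e2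
      rw [e2.resolve_right hvz, zero_smul, zero_smul, add_zero]
    have huA : u ∈ qPerp Q P := (mem_qPerp Q).2 fun x hx => by
      obtain ⟨s, t, rfl⟩ := hPel x hx
      rw [QuadraticMap.polar_add_left, QuadraticMap.polar_smul_left, QuadraticMap.polar_smul_left, hvu,
        QuadraticMap.polar_comm Q z u, huz, smul_zero, smul_zero, add_zero]
    have hAd : 4 ≤ Module.finrank F (qPerp Q P) := by
      have h1 := Submodule.finrank_add_le_finrank_add_finrank (Submodule.span F {v}) (Submodule.span F {z})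
      rw [← hP, finrank_span_singleton hv0] at h1
      have h2' : Module.finrank F (Submodule.span F {z}) ≤ 1 := by
        simpa using finrank_span_le_card (R := F) ({z} : Set V)
      rw [finrank_qPerp Q hQ]
      omega
    intro w hw
    obtain ⟨t, ht⟩ : ∃ t, t = QuadraticMap.polar Q v w / QuadraticMap.polar Q v w0 := ⟨_, rfl⟩
    rcases eq_or_ne t 0 with rfl | ht0
    · exact hHM (hfix u w hu hw hvu ((div_eq_zero_iff.1 ht.symm).resolve_right hvw0))
    obtain ⟨k, hk, hku, hkfix⟩ := exists_move_in Q (ndOn_qPerp Q hQ hPnd) hAd huA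
      ((qPerp Q P).smul_mem t huA) hu (by rw [quad_smul, hu, mul_zero]) hu0 (smul_ne_zero ht0 hu0)
    have hkv : k.1 v = v := hkfix v ((qPerp_qPerp Q hQ P).symm ▸ hvP)
    have hkM : k ∈ M := hHM ⟨mem_qStab_of_maps Q fun x hx => by
      obtain ⟨s, rfl⟩ := Submodule.mem_span_singleton.1 hx
      rw [map_smul, hkv]
      exact Submodule.smul_mem _ _ (Submodule.mem_span_singleton_self v), hk.2⟩
    have h := mul_mem (mul_mem hkM hm0) (inv_mem hkM)
    have hukw : QuadraticMap.polar Q u (k.1 w0) = 0 := by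
      have h1 := qAut_polar k u w0
      rw [hku, huw0, QuadraticMap.polar_smul_left, smul_eq_mul, mul_eq_zero] at h1
      exact h1.resolve_left ht0
    rw [eich_conj Q k hu huw0, hku, eich_smul_left Q hu hukw] at h
    have hsub : QuadraticMap.polar Q u (w - t • k.1 w0) = 0 := by
      rw [QuadraticMap.polar_sub_right, QuadraticMap.polar_smul_right, hw, hukw, smul_zero, sub_zero]
    have hvk : QuadraticMap.polar Q v (k.1 w0) = QuadraticMap.polar Q v w0 := by
      conv_lhs => rw [← hkv]
      rw [qAut_polar]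
    have h' := hHM (hfix u (w - t • k.1 w0) hu hsub hvu (by
      rw [QuadraticMap.polar_sub_right, QuadraticMap.polar_smul_right, hvk, smul_eq_mul, ht,
        div_mul_cancel₀ _ hvw0, sub_self]))
    rw [← sub_add_cancel w (t • k.1 w0),
      ← eich_mul Q hu hsub (by rw [QuadraticMap.polar_smul_right, hukw, smul_zero])]
    exact mul_mem h' h
  have hSd : Module.finrank F S ≤ 2 := by
    have h4 : ∀ x : V, Module.finrank F (Submodule.span F {x}) ≤ 1 := fun x => by
      simpa using finrank_span_le_card (R := F) ({x} : Set V)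
    have h1 := Submodule.finrank_add_le_finrank_add_finrank (Submodule.span F {v}) (Submodule.span F {v'})
    rw [← hS] at h1
    have := h4 v
    have := h4 v'
    omega
  obtain ⟨C, hC⟩ := Submodule.exists_isCompl S
  obtain ⟨u, ⟨huD, huC⟩, hu0, hu⟩ := exists_singular_mem Q (C := qPerp Q S ⊓ C) (by
    have h1 := Submodule.finrank_sup_add_finrank_inf_eq (qPerp Q S) C
    have h2' := Submodule.finrank_le (qPerp Q S ⊔ C)
    have h3 := Submodule.finrank_add_eq_of_isCompl hC
    rw [finrank_qPerp Q hQ] at h1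
    omega)
  have huS : u ∉ S := fun h => hu0 (Submodule.disjoint_def.1 hC.disjoint u h huC)
  obtain ⟨y, hy, huy⟩ : ∃ y ∈ qPerp Q S, QuadraticMap.polar Q u y ≠ 0 := by
    by_contra hc
    push Not at hc
    refine huS ?_
    rw [← qPerp_qPerp Q hQ S, mem_qPerp]
    exact fun y hy => (QuadraticMap.polar_comm Q y u).trans (hc y hy)
  obtain ⟨u', hu'⟩ : ∃ u', u' = y + (-(Q y / QuadraticMap.polar Q u y)) • u := ⟨_, rfl⟩
  have hQu' : Q u' = 0 := by
    rw [hu', quad_add, quad_smul, hu, QuadraticMap.polar_smul_right, QuadraticMap.polar_comm Q y u, smul_eq_mul,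
      mul_zero, add_zero, neg_mul, div_mul_cancel₀ _ huy, add_neg_cancel]
  have huu' : QuadraticMap.polar Q u u' ≠ 0 := by
    rw [hu', QuadraticMap.polar_add_right, QuadraticMap.polar_smul_right, quad_polar_self, hu, mul_zero, smul_zero,
      add_zero]
    exact huy
  have hu'D : u' ∈ qPerp Q S := hu' ▸ (qPerp Q S).add_mem hy ((qPerp Q S).smul_mem _ huD)
  refine eichGroup_le_of_full Q hQ (by omega) hu hQu' huu' (hfull u hu huD huS)
    (hfull u' hQu' hu'D fun h => huu' ?_)
  rw [QuadraticMap.polar_comm]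
  exact (mem_qPerp Q).1 huD u' h

end CfsgLib.Classical22
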