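/-
Stabilisers of totally singular subspaces in the Eichler group.
-/
import Cfsg.Agent.Lib.Classical22.OrthMaxBasic

set_option autoImplicit false

namespace CfsgLib.Classical22

open CfsgLib.Classical

variable {F V : Type*} [Field F] [AddCommGroup V] [Module F V] (Q : QuadraticForm F V)
variable [FiniteDimensional F V] [Fintype F]

/-- A group above the stabiliser of a totally singular subspace is the stabiliser or everything, provided no
larger totally singular subspace is preserved; this is automatic away from codimension one in plus type. -/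
theorem eichGroup_le_of_singular (hQ : PolarNondeg Q) (hn : 5 ≤ Module.finrank F V) {W : Submodule F V}
    (hW : ∀ w ∈ W, Q w = 0)
    (hdim : 2 * Module.finrank F W + 3 ≤ Module.finrank F V ∨
      ∀ U : Submodule F V, (∀ u ∈ U, Q u = 0) → W ≤ U → U = W)
    {M : Subgroup (qAut Q)} (hHM : qStab Q W ⊓ eichGroup Q ≤ M) (hne : ¬ M ≤ qStab Q W) : eichGroup Q ≤ M := by
  have hfull : ∀ u ∈ W, EFull Q M u := fun u hu w hw =>
    hHM ⟨eich_mem_qStab_singular Q hW hw hu, eich_mem Q (hW u hu) hw⟩
  by_cases hperp : ∃ g ∈ M, ∃ w ∈ W, ∃ w' ∈ W, QuadraticMap.polar Q (g.1 w) w' ≠ 0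
  · obtain ⟨g, hg, w, hw, w', hw', hne'⟩ := hperp
    exact eichGroup_le_of_full Q hQ (by omega) (by rw [qAut_map, hW w hw]) (hW w' hw') hne'
      (efull_conj Q hg (hW w hw) (hfull w hw)) (hfull w' hw')
  push Not at hperp
  exfalso
  obtain ⟨U, hUdef⟩ : ∃ U, U = Submodule.span F {x : V | ∃ g ∈ M, ∃ w ∈ W, g.1 w = x} := ⟨_, rfl⟩
  have hUs : ∀ u ∈ U, Q u = 0 := by
    have hpol : ∀ g ∈ M, ∀ w ∈ W, ∀ u ∈ U, QuadraticMap.polar Q (g.1 w) u = 0 := by
      intro g hg w hw u hu
      rw [hUdef] at hu
      induction hu using Submodule.span_induction with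
      | mem x hx =>
        obtain ⟨g', hg', w', hw', rfl⟩ := hx
        have h := hperp ((g')⁻¹ * g) (mul_mem (inv_mem hg') hg) w hw w' hw'
        rwa [qAut_mul_apply, ← qAut_polar g', qApply_inv_self] at h
      | zero => exact QuadraticMap.polar_zero_right Q _
      | add x y _ _ hx hy => rw [QuadraticMap.polar_add_right, hx, hy, add_zero]
      | smul t x _ hx => rw [QuadraticMap.polar_smul_right, hx, smul_zero]
    have hpol2 : ∀ a ∈ U, ∀ b ∈ U, QuadraticMap.polar Q a b = 0 := by
      intro a ha
      rw [hUdef] at ha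
      induction ha using Submodule.span_induction with
      | mem x hx =>
        obtain ⟨g, hg, w, hw, rfl⟩ := hx
        exact hpol g hg w hw
      | zero => exact fun b _ => QuadraticMap.polar_zero_left Q _
      | add x y _ _ hx hy =>
        exact fun b hb => by rw [QuadraticMap.polar_add_left, hx b hb, hy b hb, add_zero]
      | smul t x _ hx => exact fun b hb => by rw [QuadraticMap.polar_smul_left, hx b hb, smul_zero]
    intro u hu
    rw [hUdef] at hu
    induction hu using Submodule.span_induction with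
    | mem x hx =>
      obtain ⟨g, hg, w, hw, rfl⟩ := hx
      rw [qAut_map, hW w hw]
    | zero => exact map_zero Q
    | add x y hxm hym hx hy =>
      rw [quad_add, hx, hy, hpol2 x (hUdef ▸ hxm) y (hUdef ▸ hym)]
      simp
    | smul t x _ hx => rw [quad_smul, hx, mul_zero]
  have hUinv : ∀ g ∈ M, ∀ u ∈ U, g.1 u ∈ U := by
    intro g hg u hu
    rw [hUdef] at hu ⊢
    induction hu using Submodule.span_induction with
    | mem x hx =>
      obtain ⟨g', hg', w, hw, rfl⟩ := hx
      exact Submodule.subset_span ⟨g * g', mul_mem hg hg', w, hw, qAut_mul_apply Q g g' w⟩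
    | zero => rw [map_zero]; exact Submodule.zero_mem _
    | add x y _ _ hx hy => rw [map_add]; exact Submodule.add_mem _ hx hy
    | smul t x _ hx => rw [map_smul]; exact Submodule.smul_mem _ _ hx
  have hWU : W ≤ U := fun w hw => hUdef ▸ Submodule.subset_span ⟨1, one_mem M, w, hw, rfl⟩
  have hUW : U ≠ W := fun h => hne fun g hg => mem_qStab_of_maps Q fun w hw => h ▸ hUinv g hg w (hWU hw)
  rcases hdim with hdim | hmax
  swap
  · exact hUW (hmax U hUs hWU)
  obtain ⟨x, hxU, hxW⟩ := SetLike.not_le_iff_exists.1 fun h : U ≤ W => hUW (le_antisymm h hWU)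
  obtain ⟨y, hyW, hyx⟩ : ∃ y ∈ qPerp Q W, QuadraticMap.polar Q x y ≠ 0 := by
    by_contra hc
    push Not at hc
    refine hxW ?_
    rw [← qPerp_qPerp Q hQ W, mem_qPerp]
    exact fun y hy => (QuadraticMap.polar_comm Q y x).trans (hc y hy)
  obtain ⟨u, hudef⟩ : ∃ u, u = y + (-(Q y / QuadraticMap.polar Q x y)) • x := ⟨_, rfl⟩
  have hxx : QuadraticMap.polar Q x x = 0 := by rw [quad_polar_self, hUs x hxU, mul_zero]
  have hu : Q u = 0 := by
    rw [hudef, quad_add, quad_smul, hUs x hxU, QuadraticMap.polar_smul_right, QuadraticMap.polar_comm Q y x,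
      smul_eq_mul, mul_zero, add_zero, neg_mul, div_mul_cancel₀ _ hyx, add_neg_cancel]
  have hxu : QuadraticMap.polar Q x u = QuadraticMap.polar Q x y := by
    rw [hudef, QuadraticMap.polar_add_right, QuadraticMap.polar_smul_right, hxx, smul_zero, add_zero]
  have hWu : ∀ w ∈ W, QuadraticMap.polar Q w u = 0 := fun w hw => by
    rw [hudef, QuadraticMap.polar_add_right, QuadraticMap.polar_smul_right, (mem_qPerp Q).1 hyW w hw,
      polar_zero_of_singular Q hUs (hWU hw) hxU, smul_zero, add_zero]
  obtain ⟨z, hz, hzQ⟩ : ∃ z ∈ qPerp Q (W ⊔ Submodule.span F {u}), Q z ≠ 0 := by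
    by_contra hc
    push Not at hc
    have h1 := two_mul_finrank_singular Q hQ hc
    have h2 := Submodule.finrank_add_le_finrank_add_finrank W (Submodule.span F {u})
    have h3 := finrank_span_singleton (K := F) (v := u) (fun h => hyx (by rw [← hxu, h]; simp))
    rw [finrank_qPerp Q hQ] at h1
    omega
  rw [mem_qPerp] at hz
  have huz : QuadraticMap.polar Q u z = 0 :=
    hz u (Submodule.mem_sup_right (Submodule.mem_span_singleton_self u))
  have hmem := hUinv _ (hHM ⟨eich_mem_qStab_perp Q hu huz hWu fun w hw => hz w (Submodule.mem_sup_left hw),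
    eich_mem Q hu huz⟩) x hxU
  have h := polar_zero_of_singular Q hUs hxU hmem
  rw [eich_apply Q hu huz, QuadraticMap.polar_sub_right, QuadraticMap.polar_add_right,
    QuadraticMap.polar_smul_right, QuadraticMap.polar_smul_right, hxx, hxu, smul_eq_mul, smul_eq_mul] at h
  refine mul_ne_zero hzQ (mul_ne_zero hyx hyx) ?_
  linear_combination -h

end CfsgLib.Classical22
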