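/-
Non-degenerate halves of dimension four in a space of minus type of dimension eight.
-/
import Cfsg.Agent.Lib.Classical22.OrthMaxSubspace
import Cfsg.Agent.Lib.Classical22.OrthTypeEmbed

set_option autoImplicit false

namespace CfsgLib.Classical22

open CfsgLib.Classical

universe u

variable {F V : Type u} [Field F] [AddCommGroup V] [Module F V] (Q : QuadraticForm F V)
variable [FiniteDimensional F V] [Fintype F]

/-- A plane without singular vectors is non-degenerate. -/
theorem ndOn_of_aniso {D : Submodule F V} (hd : Module.finrank F D = 2) (hD : ∀ v ∈ D, Q v = 0 → v = 0) :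
    NdOn Q D := by
  intro r hr hrD
  by_contra hr0
  have hQr : Q r ≠ 0 := fun h => hr0 (hD r hr h)
  have h2 : (2 : F) = 0 := by
    have h := hrD r hr
    rw [quad_polar_self, mul_eq_zero] at h
    exact h.resolve_right hQr
  haveI : CharP F 2 := CharTwo.of_one_ne_zero_of_two_eq_zero one_ne_zero h2
  obtain ⟨x, hx, hxr⟩ : ∃ x ∈ D, x ∉ Submodule.span F {r} := SetLike.not_le_iff_exists.1 fun h => by
    have := Submodule.finrank_mono h
    rw [finrank_span_singleton hr0] at this
    omega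
  obtain ⟨s, hs⟩ := FiniteField.isSquare_of_char_two (ringChar.eq F 2) (Q x / Q r)
  have h0 := hD (x + s • r) (D.add_mem hx (D.smul_mem _ hr)) (by
    rw [quad_add, quad_smul, ← hs, div_mul_cancel₀ _ hQr, QuadraticMap.polar_smul_right,
      QuadraticMap.polar_comm, hrD x hx, smul_zero, add_zero, CharTwo.add_self_eq_zero])
  exact hxr (Submodule.mem_span_singleton.2 ⟨-s, by rw [eq_neg_of_add_eq_zero_left h0, neg_smul]⟩)

open OrthType in
/-- Two planes without singular vectors are isometric up to a sign. -/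
theorem exists_anti_of_aniso {D E : Submodule F V} (hD : Module.finrank F D = 2) (hE : Module.finrank F E = 2)
    (hDa : ∀ v ∈ D, Q v = 0 → v = 0) (hEa : ∀ v ∈ E, Q v = 0 → v = 0) :
    ∃ e : D ≃ₗ[F] E, ∀ d : D, Q ((e d : E) : V) = -Q (d : V) := by
  have hneg : ∀ {W : Submodule F V}, Module.finrank F W = 2 → (∀ v ∈ W, Q v = 0 → v = 0) →
      PolarNondeg (res Q W) ∧ Sg (res Q W) (-1) := by
    intro W hW hWa
    have hnd : PolarNondeg (res Q W) := polarNondeg_comp Q (ndOn_of_aniso Q hW hWa)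
    obtain ⟨ε, hε, hs⟩ := sg_cases hnd (by rw [hW]; exact even_two)
    refine ⟨hnd, ?_⟩
    rcases hε with rfl | rfl
    · obtain ⟨U, hU, hUd⟩ := (sg_one_iff hnd (by rw [hW]; exact even_two)).1 hs
      obtain ⟨w, hw, hw0⟩ := U.exists_mem_ne_zero_of_ne_bot fun h => by rw [h, finrank_bot, hW] at hUd; omega
      exact absurd (Subtype.ext (hWa _ w.2 (hU w hw))) hw0
    · exact hs
  obtain ⟨hDn, hDs⟩ := hneg hD hDa
  obtain ⟨hEn, hEs⟩ := hneg hE hEa
  have h1 : (-1 : F) ≠ 0 := neg_ne_zero.2 one_ne_zero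
  obtain ⟨e, he⟩ := (hDs.smul hDn h1).isom hEs (polarNondeg_smul hDn h1) hEn (by rw [hD, hE])
  exact ⟨e, fun d => by simpa using he d⟩

/-- In a four dimensional space of plus type every singular vector has an independent singular one in its perp. -/
theorem exists_singular_perp_in {A : Submodule F V} (hdA : Module.finrank F A = 4) {U : Submodule F V} (hUA : U ≤ A)
    (hUs : ∀ u ∈ U, Q u = 0) (hUd : Module.finrank F U = 2) (hA : NdOn Q A) {x : V} (hx : x ∈ A) (hx0 : x ≠ 0)
    (hQx : Q x = 0) :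
    ∃ z ∈ A, Q z = 0 ∧ QuadraticMap.polar Q x z = 1 ∧ ∃ c ∈ A, c ≠ 0 ∧ Q c = 0 ∧ QuadraticMap.polar Q x c = 0 ∧
      QuadraticMap.polar Q z c = 0 := by
  obtain ⟨z, hz, hQz, hxz⟩ := exists_partner Q hA hx hx0 hQx
  refine ⟨z, hz, hQz, hxz, ?_⟩
  have hxx : QuadraticMap.polar Q x x = 0 := by rw [quad_polar_self, hQx, mul_zero]
  obtain ⟨v, hvU, hvx, hvn⟩ : ∃ v ∈ U, QuadraticMap.polar Q x v = 0 ∧ v ∉ Submodule.span F {x} := by
    by_cases hxU : x ∈ U
    · obtain ⟨v, hv, hvn⟩ := SetLike.not_le_iff_exists.1 fun h : U ≤ Submodule.span F {x} => by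
        have := Submodule.finrank_mono h
        rw [finrank_span_singleton hx0] at this
        omega
      exact ⟨v, hv, polar_zero_of_singular Q hUs hxU hv, hvn⟩
    · obtain ⟨v, hv, hv0⟩ := Submodule.exists_mem_ne_zero_of_ne_bot
        (p := U ⊓ (A ⊓ qPerp Q (Submodule.span F {x}))) fun h => by
          have h1 := finrank_inf_qPerp Q (B := A) (T := Submodule.span F {x})
          have h2 := Submodule.finrank_sup_add_finrank_inf_eq U (A ⊓ qPerp Q (Submodule.span F {x}))
          have h3 := Submodule.finrank_mono (sup_le hUA (inf_le_left : A ⊓ qPerp Q (Submodule.span F {x}) ≤ A))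
          have h4 : Module.finrank F A ≤ Module.finrank F ↥(A ⊓ qPerp Q (Submodule.span F {x})) + 1 := by
            let φ : A →ₗ[F] F := (QuadraticMap.polarBilin Q x) ∘ₗ A.subtype
            have h5 := LinearMap.finrank_range_add_finrank_ker φ
            have h6 := Submodule.finrank_le (LinearMap.range φ)
            rw [Module.finrank_self] at h6
            have h7 : Module.finrank F (LinearMap.ker φ) ≤ Module.finrank F ↥(A ⊓ qPerp Q (Submodule.span F {x})) := by
              rw [← LinearEquiv.finrank_eq (Submodule.comapSubtypeEquivOfLe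
                (inf_le_left : A ⊓ qPerp Q (Submodule.span F {x}) ≤ A))]
              exact Submodule.finrank_mono fun a ha => ⟨a.2, (mem_qPerp_singleton Q).2 (LinearMap.mem_ker.1 ha)⟩
            omega
          rw [h, finrank_bot] at h2
          omega
      refine ⟨v, hv.1, (mem_qPerp_singleton Q).1 hv.2.2, fun h => ?_⟩
      obtain ⟨t, rfl⟩ := Submodule.mem_span_singleton.1 h
      rcases eq_or_ne t 0 with rfl | ht
      · exact hv0 (zero_smul F x)
      · exact hxU (by
          have := U.smul_mem t⁻¹ hv.1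
          rwa [smul_smul, inv_mul_cancel₀ ht, one_smul] at this)
  refine ⟨v - QuadraticMap.polar Q z v • x, A.sub_mem (hUA hvU) (A.smul_mem _ hx), fun h => hvn ?_, ?_, ?_, ?_⟩
  · rw [sub_eq_zero] at h
    exact h ▸ Submodule.smul_mem _ _ (Submodule.mem_span_singleton_self x)
  · rw [quad_sub, quad_smul, hQx, hUs v hvU, QuadraticMap.polar_smul_right, QuadraticMap.polar_comm Q v x, hvx]
    simp
  · rw [QuadraticMap.polar_sub_right, QuadraticMap.polar_smul_right, hvx, hxx, smul_zero, sub_zero]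
  · rw [QuadraticMap.polar_sub_right, QuadraticMap.polar_smul_right, QuadraticMap.polar_comm Q z x, hxz, smul_eq_mul,
      mul_one, sub_self]

/-- Halves of dimension four, the one of plus type given, in a space without singular half. -/
theorem eichGroup_le_of_half (hQ : PolarNondeg Q) (hn : Module.finrank F V = 8)
    (hno : ∀ T : Submodule F V, (∀ t ∈ T, Q t = 0) → Module.finrank F T ≠ 4) {A : Submodule F V} (hA : NdOn Q A)
    (hdA : Module.finrank F A = 4) {U : Submodule F V} (hUA : U ≤ A) (hUs : ∀ u ∈ U, Q u = 0)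
    (hUd : Module.finrank F U = 2) {M : Subgroup (qAut Q)} (hHM : qStab Q A ⊓ eichGroup Q ≤ M)
    (hne : ¬ M ≤ qStab Q A) : eichGroup Q ≤ M := by
  classical
  have hex : ¬ (Fintype.card F ≤ 3 ∧ Module.finrank F (qPerp Q A) = 2 ∧ ∃ x ∈ qPerp Q A, x ≠ 0 ∧ Q x = 0) := by
    rintro ⟨-, h, -⟩
    rw [finrank_qPerp Q hQ, hn, hdA] at h
    omega
  have hsup4 : ∀ {S T : Submodule F V}, (∀ s ∈ S, Q s = 0) → (∀ t ∈ T, Q t = 0) →
      (∀ s ∈ S, ∀ t ∈ T, QuadraticMap.polar Q s t = 0) → S ⊓ T = ⊥ → Module.finrank F S = 2 →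
      Module.finrank F T = 2 → False := by
    intro S T hS hT hST hi hSd hTd
    refine hno (S ⊔ T) (fun x hx => ?_) ?_
    · obtain ⟨s, hs, t, ht, rfl⟩ := Submodule.mem_sup.1 hx
      rw [quad_add, hS s hs, hT t ht, hST s hs t ht, add_zero, add_zero]
    · have h := Submodule.finrank_sup_add_finrank_inf_eq S T
      rw [hi, finrank_bot] at h
      omega
  -- an element moving the subspace, from a singular line
  obtain ⟨g, hgM, hgA⟩ := SetLike.not_le_iff_exists.1 hne
  obtain ⟨x, hx, y₀, hy₀, hQx, hxy₀, hg0⟩ := exists_eich_moving Q hQ hA (by omega) (by omega) hgA (by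
    intro hs
    refine hsup4 hUs (T := U.map g.1.toLinearMap) ?_ ?_ ?_ hUd (by rw [LinearEquiv.finrank_map_eq, hUd])
    · rintro _ ⟨t, ht, rfl⟩
      exact (qAut_map g t).trans (hUs t ht)
    · rintro s hs' _ ⟨t, ht, rfl⟩
      exact (mem_qPerp Q).1 (hs t (hUA ht)) s (hUA hs')
    · refine (Submodule.eq_bot_iff _).2 ?_
      rintro s ⟨hsU, t, ht, rfl⟩
      exact (Submodule.eq_bot_iff _).1 (inf_qPerp_eq_bot Q hA) _ ⟨hUA hsU, hs t (hUA ht)⟩)
  have hx0 : x ≠ 0 := by
    rintro rfl
    refine hg0 (mem_qStab_of_maps Q fun v hv => ?_)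
    rw [map_zero, eich_apply Q (map_zero Q) (QuadraticMap.polar_zero_left Q _)]
    simpa using hv
  obtain ⟨z, hz, hQz, hxz, c, hc, hc0, hQc, hxc, hzc⟩ := exists_singular_perp_in Q hdA hUA hUs hUd hA hx hx0 hQx
  obtain ⟨y, hy, hQy, hxy, hg1⟩ : ∃ y ∈ A, Q y = 0 ∧ QuadraticMap.polar Q x y = 0 ∧
      eich Q (g.1 x) (g.1 y) ∉ qStab Q A := by
    by_contra hcon
    push Not at hcon
    obtain ⟨C, hC⟩ : ∃ C, C = A ⊓ qPerp Q (Submodule.span F {x} ⊔ Submodule.span F {z}) := ⟨_, rfl⟩
    have hCm : ∀ {v}, v ∈ C ↔ v ∈ A ∧ QuadraticMap.polar Q x v = 0 ∧ QuadraticMap.polar Q z v = 0 := fun {v} => by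
      rw [hC, qPerp_sup, Submodule.mem_inf, Submodule.mem_inf, mem_qPerp_singleton, mem_qPerp_singleton]
    have hxx : QuadraticMap.polar Q x x = 0 := by rw [quad_polar_self, hQx, mul_zero]
    have hzz : QuadraticMap.polar Q z z = 0 := by rw [quad_polar_self, hQz, mul_zero]
    have hCnd : NdOn Q C := by
      intro v hv hvC
      obtain ⟨hvA, hvx, hvz⟩ := hCm.1 hv
      refine hA v hvA fun a ha => ?_
      have h := hvC (a - QuadraticMap.polar Q a z • x - QuadraticMap.polar Q a x • z) (hCm.2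
        ⟨A.sub_mem (A.sub_mem ha (A.smul_mem _ hx)) (A.smul_mem _ hz), by
          simp [QuadraticMap.polar_sub_right, QuadraticMap.polar_smul_right, hxx, hxz, QuadraticMap.polar_comm Q x a],
        by
          simp [QuadraticMap.polar_sub_right, QuadraticMap.polar_smul_right, hzz, hxz, QuadraticMap.polar_comm Q z a,
            QuadraticMap.polar_comm Q z x]⟩)
      rwa [QuadraticMap.polar_sub_right, QuadraticMap.polar_sub_right, QuadraticMap.polar_smul_right,
        QuadraticMap.polar_smul_right, QuadraticMap.polar_comm Q v x, hvx, QuadraticMap.polar_comm Q v z, hvz,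
        smul_zero, smul_zero, sub_zero, sub_zero] at h
    have hcC : c ∈ C := hCm.2 ⟨hc, hxc, hzc⟩
    obtain ⟨c', hc'C, hQc', hcc'⟩ := exists_partner Q hCnd hcC hc0 hQc
    obtain ⟨hc'A, hxc', hzc'⟩ := hCm.1 hc'C
    have hCd : Module.finrank F C ≤ 2 := by
      have h1 := finrank_inf_qPerp Q hQ hA (T := Submodule.span F {x} ⊔ Submodule.span F {z})
        (sup_le ((Submodule.span_singleton_le_iff_mem _ _).2 hx) ((Submodule.span_singleton_le_iff_mem _ _).2 hz))
      have h2 := Submodule.finrank_sup_add_finrank_inf_eq (Submodule.span F {x}) (Submodule.span F {z})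
      have h0 : Submodule.span F {x} ⊓ Submodule.span F {z} = ⊥ := (Submodule.eq_bot_iff _).2 fun v hv => by
        obtain ⟨s, rfl⟩ := Submodule.mem_span_singleton.1 hv.1
        obtain ⟨t, ht⟩ := Submodule.mem_span_singleton.1 hv.2
        have e := congrArg (QuadraticMap.polar Q x) ht
        rw [QuadraticMap.polar_smul_right, QuadraticMap.polar_smul_right, hxz, hxx, smul_zero, smul_eq_mul, mul_one] at e
        rw [← ht, e, zero_smul]
      rw [h0, finrank_bot, finrank_span_singleton hx0,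
        finrank_span_singleton (fun h : z = 0 => by rw [h, QuadraticMap.polar_zero_right] at hxz; exact zero_ne_one hxz)]
        at h2
      rw [hC]
      omega
    -- y₀ is a sum of two singular vectors of the perp
    obtain ⟨v, hv⟩ : ∃ v, v = y₀ - QuadraticMap.polar Q z y₀ • x := ⟨_, rfl⟩
    have hvC : v ∈ C := hCm.2 ⟨hv ▸ A.sub_mem hy₀ (A.smul_mem _ hx), by
      rw [hv, QuadraticMap.polar_sub_right, QuadraticMap.polar_smul_right, hxy₀, hxx, smul_zero, sub_zero], by
      rw [hv, QuadraticMap.polar_sub_right, QuadraticMap.polar_smul_right, QuadraticMap.polar_comm Q z x, hxz,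
        smul_eq_mul, mul_one, sub_self]⟩
    have hspan : ∃ s t : F, s • c + t • c' = v := by
      have hle : Submodule.span F ({c, c'} : Set V) ≤ C := Submodule.span_le.2 (by
        intro w hw
        rcases hw with rfl | rfl
        · exact hcC
        · exact hc'C)
      have hli : LinearIndependent F ![c, c'] := by
        refine LinearIndependent.pair_iff.2 fun s t hst => ?_
        have e1 := congrArg (QuadraticMap.polar Q c) hst
        have e2 := congrArg (QuadraticMap.polar Q c') hst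
        rw [QuadraticMap.polar_add_right, QuadraticMap.polar_smul_right, QuadraticMap.polar_smul_right, hcc',
          quad_polar_self, hQc, QuadraticMap.polar_zero_right] at e1
        rw [QuadraticMap.polar_add_right, QuadraticMap.polar_smul_right, QuadraticMap.polar_smul_right,
          QuadraticMap.polar_comm Q c' c, hcc', quad_polar_self, hQc', QuadraticMap.polar_zero_right] at e2
        simp only [smul_eq_mul, mul_zero, mul_one, zero_add, add_zero] at e1 e2
        exact ⟨e2, e1⟩
      have heq : Submodule.span F ({c, c'} : Set V) = C := Submodule.eq_of_le_of_finrank_le hle (by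
        have := finrank_span_eq_card hli
        rw [Matrix.range_cons, Matrix.range_cons, Matrix.range_empty, Set.union_empty, Fintype.card_fin] at this
        rw [show ({c, c'} : Set V) = {c} ∪ {c'} from Set.insert_eq c {c'}, this]
        exact hCd)
      exact Submodule.mem_span_pair.1 (heq ▸ hvC)
    obtain ⟨s, t, hst⟩ := hspan
    obtain ⟨y₁, hy₁⟩ : ∃ y₁, y₁ = QuadraticMap.polar Q z y₀ • x + s • c := ⟨_, rfl⟩
    have hy₁x : QuadraticMap.polar Q x y₁ = 0 := by
      rw [hy₁, QuadraticMap.polar_add_right, QuadraticMap.polar_smul_right, QuadraticMap.polar_smul_right, hxx, hxc]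
      simp
    have htx : QuadraticMap.polar Q x (t • c') = 0 := by rw [QuadraticMap.polar_smul_right, hxc', smul_zero]
    have hy₁A : y₁ ∈ A := hy₁ ▸ A.add_mem (A.smul_mem _ hx) (A.smul_mem _ hc)
    have h1 := hcon y₁ hy₁A (by
      rw [hy₁, quad_add, quad_smul, quad_smul, hQx, hQc, QuadraticMap.polar_smul_left, QuadraticMap.polar_smul_right,
        hxc]
      simp) hy₁x
    have h2 := hcon (t • c') (A.smul_mem _ hc'A) (by rw [quad_smul, hQc', mul_zero]) htx
    refine hg0 ?_
    have hQgx : Q (g.1 x) = 0 := by rw [qAut_map, hQx]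
    have h := (qStab Q A).mul_mem h1 h2
    rw [eich_mul Q hQgx (by rw [qAut_polar, hy₁x]) (by rw [qAut_polar, htx]), ← map_add, hy₁, add_assoc, hst, hv,
      add_sub_cancel] at h
    exact h
  obtain ⟨X, hX⟩ : ∃ X, X = g.1 x := ⟨_, rfl⟩
  obtain ⟨Y, hY⟩ : ∃ Y, Y = g.1 y := ⟨_, rfl⟩
  have hg1M : eich Q X Y ∈ M := by
    rw [hX, hY, ← eich_conj Q g hQx hxy]
    exact mul_mem (mul_mem hgM (hHM ⟨eich_mem_qStab Q hQx hxy hx hy, eich_mem Q hQx hxy⟩)) (inv_mem hgM)
  rw [← hX, ← hY] at hg1
  have hQX : Q X = 0 := by rw [hX, qAut_map, hQx]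
  have hQY : Q Y = 0 := by rw [hY, qAut_map, hQy]
  have hXY : QuadraticMap.polar Q X Y = 0 := by rw [hX, hY, qAut_polar, hxy]
  have happ : ∀ v, (eich Q X Y).1 v = v + QuadraticMap.polar Q v X • Y - QuadraticMap.polar Q v Y • X := fun v => by
    rw [eich_apply Q hQX hXY, hQY, zero_mul, add_zero]
  obtain ⟨L, hL⟩ : ∃ L, L = Submodule.span F {X} ⊔ Submodule.span F {Y} := ⟨_, rfl⟩
  have hLperp : ∀ {v}, v ∈ qPerp Q L ↔ QuadraticMap.polar Q X v = 0 ∧ QuadraticMap.polar Q Y v = 0 := fun {v} => by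
    rw [hL, qPerp_sup, Submodule.mem_inf, mem_qPerp_singleton, mem_qPerp_singleton]
  have hfix : ∀ v ∈ qPerp Q L, (eich Q X Y).1 v = v := fun v hv => by
    obtain ⟨h1, h2⟩ := hLperp.1 hv
    rw [happ, QuadraticMap.polar_comm Q v X, QuadraticMap.polar_comm Q v Y, h1, h2]
    simp
  have hLs : ∀ l ∈ L, Q l = 0 := fun l hl => by
    rw [hL] at hl
    obtain ⟨a, ha, b, hb, rfl⟩ := Submodule.mem_sup.1 hl
    obtain ⟨s, rfl⟩ := Submodule.mem_span_singleton.1 ha
    obtain ⟨t, rfl⟩ := Submodule.mem_span_singleton.1 hb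
    rw [quad_add, quad_smul, quad_smul, hQX, hQY, QuadraticMap.polar_smul_left, QuadraticMap.polar_smul_right, hXY]
    simp
  -- the part of A sent into A
  obtain ⟨K, hK⟩ : ∃ K, K = A ⊓ A.comap (eich Q X Y).1.toLinearMap := ⟨_, rfl⟩
  have hKm : ∀ {v}, v ∈ K ↔ v ∈ A ∧ (eich Q X Y).1 v ∈ A := fun {v} => by rw [hK]; rfl
  have hKA : K ≤ A := hK ▸ inf_le_left
  have hKlt : Module.finrank F K < Module.finrank F A :=
    Submodule.finrank_lt_finrank_of_lt (lt_of_le_of_ne hKA fun h => hg1 (mem_qStab_of_maps Q fun v hv => by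
      rw [← h] at hv
      exact (hKm.1 hv).2))
  have hwit : ∀ u ∈ A, u ≠ 0 → (Module.finrank F K ≤ 2 ∨ (u ∈ K ∧ u ∉ qPerp Q K)) →
      ∃ w ∈ A, QuadraticMap.polar Q u w = 0 ∧ (eich Q X Y).1 w ∉ A := by
    intro u huA hu0 hor
    by_contra hcon
    push Not at hcon
    have hle : A ⊓ qPerp Q (Submodule.span F {u}) ≤ K := fun w hw =>
      hKm.2 ⟨hw.1, hcon w hw.1 ((mem_qPerp_singleton Q).1 hw.2)⟩
    have h1 := finrank_inf_qPerp Q hQ hA (T := Submodule.span F {u})
      ((Submodule.span_singleton_le_iff_mem _ _).2 huA)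
    rw [finrank_span_singleton hu0] at h1
    have h2 := Submodule.finrank_mono hle
    rcases hor with h3 | ⟨huK, hun⟩
    · omega
    have heq := Submodule.eq_of_le_of_finrank_le hle (by omega)
    refine hun ((mem_qPerp Q).2 fun k hk => ?_)
    rw [← heq] at hk
    rw [QuadraticMap.polar_comm]
    exact (mem_qPerp_singleton Q).1 hk.2
  have hdone : ∀ u ∈ K, u ≠ 0 → Q u = 0 → (Module.finrank F K ≤ 2 ∨ u ∉ qPerp Q K) → eichGroup Q ≤ M := by
    intro u hu hu0 hQu hor
    obtain ⟨w, hw, huw, hgw⟩ := hwit u (hKA hu) hu0 (hor.imp id fun h => ⟨hu, h⟩)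
    exact eichGroup_le_of_pair Q hQ hA (by omega) (by omega) hex hHM hg1M (hKA hu) hu0 hQu (hKm.1 hu).2 hw huw hgw
  by_cases hbig : 3 ≤ Module.finrank F K
  · -- a hyperplane of A: some singular vector lies off its radical
    have hrd := finrank_inf_qPerp Q hQ hA hKA
    by_cases hKn : NdOn Q K
    · obtain ⟨⟨u, hu⟩, hu0, hQu⟩ := exists_singular (Q.comp K.subtype) (polarNondeg_comp Q hKn) hbig
      exact hdone u hu (fun h => hu0 (Subtype.ext h)) hQu
        (Or.inr fun h => hu0 (Subtype.ext (hKn u hu fun k hk =>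
          (QuadraticMap.polar_comm Q u k).trans ((mem_qPerp Q).1 h k hk))))
    simp only [NdOn, not_forall] at hKn
    obtain ⟨r, hr, hrK, hr0⟩ := hKn
    have hrmem : r ∈ A ⊓ qPerp Q K := ⟨hKA hr, (mem_qPerp Q).2 fun k hk => by
      rw [QuadraticMap.polar_comm]; exact hrK k hk⟩
    have hline : A ⊓ qPerp Q K = Submodule.span F {r} :=
      (Submodule.eq_of_le_of_finrank_le ((Submodule.span_singleton_le_iff_mem _ _).2 hrmem)
        (by rw [finrank_span_singleton hr0]; omega)).symm
    have hKeq : K = A ⊓ qPerp Q (Submodule.span F {r}) := by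
      refine Submodule.eq_of_le_of_finrank_le (fun k hk => ⟨hKA hk, (mem_qPerp_singleton Q).2 (hrK k hk)⟩) ?_
      have h1 := finrank_inf_qPerp Q hQ hA (T := Submodule.span F {r})
        ((Submodule.span_singleton_le_iff_mem _ _).2 (hKA hr))
      rw [finrank_span_singleton hr0] at h1
      omega
    obtain ⟨u, huK, hu0, hQu, hur⟩ : ∃ u ∈ K, u ≠ 0 ∧ Q u = 0 ∧ u ∉ Submodule.span F {r} := by
      by_cases hQr : Q r = 0
      · obtain ⟨z', -, -, hrz, c', hc', hc'0, hQc', hrc, hzc⟩ :=
          exists_singular_perp_in Q hdA hUA hUs hUd hA (hKA hr) hr0 hQr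
        refine ⟨c', hKeq ▸ ⟨hc', (mem_qPerp_singleton Q).2 hrc⟩, hc'0, hQc', fun h => hc'0 ?_⟩
        obtain ⟨t, rfl⟩ := Submodule.mem_span_singleton.1 h
        rw [QuadraticMap.polar_smul_right, QuadraticMap.polar_comm Q z' r, hrz, smul_eq_mul, mul_one] at hzc
        rw [hzc, zero_smul]
      · obtain ⟨u, hu, hu0, hQu⟩ := exists_singular_mem Q (C := K) (by omega)
        refine ⟨u, hu, hu0, hQu, fun h => hu0 ?_⟩
        obtain ⟨t, rfl⟩ := Submodule.mem_span_singleton.1 h
        rw [quad_smul, mul_eq_zero, mul_self_eq_zero] at hQu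
        rw [hQu.resolve_right hQr, zero_smul]
    exact hdone u huK hu0 hQu (Or.inr fun h => hur (hline ▸ ⟨hKA huK, h⟩))
  -- the part fixed in A has dimension two
  obtain ⟨D, hD⟩ : ∃ D, D = A ⊓ qPerp Q L := ⟨_, rfl⟩
  have hLd : Module.finrank F L ≤ 2 := by
    have h3 := Submodule.finrank_add_le_finrank_add_finrank (Submodule.span F {X}) (Submodule.span F {Y})
    have h4 : ∀ v : V, Module.finrank F (Submodule.span F {v}) ≤ 1 := fun v => by
      simpa using finrank_span_le_card (R := F) ({v} : Set V)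
    have := h4 X
    have := h4 Y
    rw [← hL] at h3
    omega
  have hperp6 := finrank_qPerp Q hQ L
  have hDK : D ≤ K := fun v hv => by
    rw [hD] at hv
    exact hKm.2 ⟨hv.1, by rw [hfix v hv.2]; exact hv.1⟩
  have hDge : ∀ W : Submodule F V, Module.finrank F W = 4 → 2 ≤ Module.finrank F ↥(W ⊓ qPerp Q L) := fun W hW => by
    have h1 := Submodule.finrank_sup_add_finrank_inf_eq W (qPerp Q L)
    have h2 := Submodule.finrank_le (W ⊔ qPerp Q L)
    omega
  have hD2 : Module.finrank F D = 2 := by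
    have := Submodule.finrank_mono hDK
    have := hD ▸ hDge A hdA
    omega
  by_cases hDs : ∃ u ∈ D, u ≠ 0 ∧ Q u = 0
  · obtain ⟨u, hu, hu0, hQu⟩ := hDs
    exact hdone u (hDK hu) hu0 hQu (Or.inl (by omega))
  push Not at hDs
  have hDa : ∀ v ∈ D, Q v = 0 → v = 0 := fun v hv h => by
    by_contra h0
    exact hDs v hv h0 h
  have hDnd := ndOn_of_aniso Q hD2 hDa
  have hDA : D ≤ A := hD ▸ inf_le_left
  have hLA : ∀ l ∈ L, l ∈ A → l = 0 := by
    intro l hl hlA
    by_contra hl0
    obtain ⟨z', -, -, hlz, c', hc', hc'0, hQc', hlc, hzc⟩ :=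
      exists_singular_perp_in Q hdA hUA hUs hUd hA hlA hl0 (hLs l hl)
    have hDl : D ≤ A ⊓ qPerp Q (Submodule.span F {l}) := fun d hd => by
      rw [hD] at hd
      exact ⟨hd.1, (mem_qPerp_singleton Q).2 ((mem_qPerp Q).1 hd.2 l hl)⟩
    have h1 := finrank_inf_qPerp Q hQ hA (T := Submodule.span F {l})
      ((Submodule.span_singleton_le_iff_mem _ _).2 hlA)
    rw [finrank_span_singleton hl0] at h1
    have hll : QuadraticMap.polar Q l l = 0 := by rw [quad_polar_self, hLs l hl, mul_zero]
    have hi : D ⊓ Submodule.span F {l} = ⊥ := (Submodule.eq_bot_iff _).2 fun v hv => by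
      obtain ⟨t, rfl⟩ := Submodule.mem_span_singleton.1 hv.2
      exact hDa _ hv.1 (by rw [quad_smul, hLs l hl, mul_zero])
    have h2 := Submodule.finrank_sup_add_finrank_inf_eq D (Submodule.span F {l})
    rw [hi, finrank_bot, finrank_span_singleton hl0] at h2
    have heq : D ⊔ Submodule.span F {l} = A ⊓ qPerp Q (Submodule.span F {l}) :=
      Submodule.eq_of_le_of_finrank_le (sup_le hDl ((Submodule.span_singleton_le_iff_mem _ _).2
        ⟨hlA, (mem_qPerp_singleton Q).2 hll⟩)) (by omega)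
    have hc'm : c' ∈ D ⊔ Submodule.span F {l} := heq ▸ ⟨hc', (mem_qPerp_singleton Q).2 hlc⟩
    obtain ⟨d, hd, _, hm, rfl⟩ := Submodule.mem_sup.1 hc'm
    obtain ⟨t, rfl⟩ := Submodule.mem_span_singleton.1 hm
    have hdl : QuadraticMap.polar Q l d = 0 := (mem_qPerp_singleton Q).1 (hDl hd).2
    rw [quad_add, quad_smul, hLs l hl, QuadraticMap.polar_smul_right, QuadraticMap.polar_comm Q d l, hdl] at hQc'
    have hd0 := hDa d hd (by simpa using hQc')
    subst hd0
    rw [zero_add, QuadraticMap.polar_smul_right, QuadraticMap.polar_comm Q z' l, hlz, smul_eq_mul, mul_one] at hzc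
    exact hc'0 (by rw [hzc, zero_smul, add_zero])
  -- so work in the other half
  obtain ⟨B, hB⟩ : ∃ B, B = qPerp Q A := ⟨_, rfl⟩
  have hBnd : NdOn Q B := hB ▸ ndOn_qPerp Q hQ hA
  have hBd : Module.finrank F B = 4 := by rw [hB, finrank_qPerp Q hQ, hn, hdA]
  obtain ⟨E, hE⟩ : ∃ E, E = B ⊓ qPerp Q L := ⟨_, rfl⟩
  have hBA : qPerp Q B = A := hB ▸ qPerp_qPerp Q hQ A
  have hXne : X ≠ 0 := fun h => hx0 (g.1.injective (by rw [← hX, h, map_zero]))
  have hLeq : Module.finrank F L = 2 := by
    by_contra hc2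
    have hspan : Submodule.span F {X} = L := by
      refine Submodule.eq_of_le_of_finrank_le (hL ▸ le_sup_left) ?_
      rw [finrank_span_singleton hXne]
      omega
    obtain ⟨t, ht⟩ := Submodule.mem_span_singleton.1
      (hspan ▸ hL ▸ Submodule.mem_sup_right (Submodule.mem_span_singleton_self Y) : Y ∈ Submodule.span F {X})
    refine hg1 (mem_qStab_of_maps Q fun v hv => ?_)
    rw [happ, ← ht, QuadraticMap.polar_smul_right, smul_eq_mul]
    convert hv using 1
    module
  have hE2 : Module.finrank F E = 2 := by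
    have h0 : L ⊓ A = ⊥ := (Submodule.eq_bot_iff _).2 fun l hl => hLA l hl.1 hl.2
    have h1 := Submodule.finrank_sup_add_finrank_inf_eq L A
    rw [h0, finrank_bot] at h1
    have h2 : qPerp Q (L ⊔ A) = E := by rw [qPerp_sup, hE, hB, inf_comm]
    have h3 := finrank_qPerp Q hQ (L ⊔ A)
    rw [h2] at h3
    omega
  have hfin : ∀ u ∈ E, u ≠ 0 → Q u = 0 → eichGroup Q ≤ M := by
    intro u hu hu0 hQu
    have huB : u ∈ B := (hE ▸ hu : u ∈ B ⊓ qPerp Q L).1
    have huL : u ∈ qPerp Q L := (hE ▸ hu : u ∈ B ⊓ qPerp Q L).2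
    obtain ⟨w, ⟨hwB, hwu⟩, hwE⟩ : ∃ w ∈ B ⊓ qPerp Q (Submodule.span F {u}), w ∉ E :=
      SetLike.not_le_iff_exists.1 fun hle => by
        have h1 := finrank_inf_qPerp Q hQ hBnd (T := Submodule.span F {u})
          ((Submodule.span_singleton_le_iff_mem _ _).2 huB)
        rw [finrank_span_singleton hu0] at h1
        have := Submodule.finrank_mono hle
        omega
    have hgw : (eich Q X Y).1 w ∉ B := by
      intro h
      have h1 := B.sub_mem h hwB
      rw [happ] at h1
      obtain ⟨l, hl⟩ : ∃ l, l = QuadraticMap.polar Q w X • Y - QuadraticMap.polar Q w Y • X := ⟨_, rfl⟩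
      have h2 : l ∈ B := by rw [hl]; convert h1 using 1; abel
      have hlL : l ∈ L := hl ▸ hL ▸ Submodule.sub_mem _
        (Submodule.mem_sup_right (Submodule.smul_mem _ _ (Submodule.mem_span_singleton_self Y)))
        (Submodule.mem_sup_left (Submodule.smul_mem _ _ (Submodule.mem_span_singleton_self X)))
      have hlB : ∀ a ∈ A, QuadraticMap.polar Q a l = 0 := fun a ha => (mem_qPerp Q).1 (hB ▸ h2) a ha
      -- l is a singular vector of B in L: it is orthogonal to E as well
      apply hwE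
      rw [hE]
      refine ⟨hwB, hLperp.2 ?_⟩
      by_contra hne'
      have hl0 : l ≠ 0 := fun h0 => hne' (by
        rw [hl, sub_eq_zero] at h0
        have e1 : QuadraticMap.polar Q w X = 0 := by
          by_contra e
          have hYX : Y ∈ Submodule.span F {X} := Submodule.mem_span_singleton.2
            ⟨QuadraticMap.polar Q w Y / QuadraticMap.polar Q w X, by
              rw [div_eq_inv_mul, mul_smul, ← h0, inv_smul_smul₀ e]⟩
          have hle : L ≤ Submodule.span F {X} := hL ▸ sup_le le_rfl ((Submodule.span_singleton_le_iff_mem _ _).2 hYX)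
          have := Submodule.finrank_mono hle
          rw [finrank_span_singleton hXne] at this
          omega
        rw [e1, zero_smul] at h0
        exact ⟨by rw [QuadraticMap.polar_comm]; exact e1, by
          rw [QuadraticMap.polar_comm]; exact (smul_eq_zero.1 h0.symm).resolve_right hXne⟩)
      have hLd' : Module.finrank F ↥(A ⊓ qPerp Q (Submodule.span F {l})) = 4 := by
        rw [inf_eq_left.2 fun a ha => (mem_qPerp_singleton Q).2 (by rw [QuadraticMap.polar_comm]; exact hlB a ha), hdA]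
      -- A ∩ Lᗮ would have dimension at least three
      obtain ⟨m, hm⟩ : ∃ m : A →ₗ[F] F × F,
          ∀ a : A, m a = (QuadraticMap.polar Q X a, QuadraticMap.polar Q Y a) :=
        ⟨((QuadraticMap.polarBilin Q X).prod (QuadraticMap.polarBilin Q Y)) ∘ₗ A.subtype, fun a => rfl⟩
      have hr1 : Module.finrank F (LinearMap.range m) ≤ 1 := by
        obtain ⟨α, β, hαβ⟩ : ∃ α β : F, l = α • Y - β • X := ⟨_, _, hl⟩
        have hne2 : α ≠ 0 ∨ β ≠ 0 := by
          by_contra hcc
          push Not at hcc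
          exact hl0 (by rw [hαβ, hcc.1, hcc.2, zero_smul, zero_smul, sub_zero])
        have hsub : LinearMap.range m ≤ Submodule.span F {((α, β) : F × F)} := by
          rintro _ ⟨a, rfl⟩
          have e := hlB a a.2
          rw [hαβ, QuadraticMap.polar_sub_right, QuadraticMap.polar_smul_right, QuadraticMap.polar_smul_right,
            smul_eq_mul, smul_eq_mul, QuadraticMap.polar_comm Q (a : V) Y, QuadraticMap.polar_comm Q (a : V) X] at e
          rw [hm]
          rcases hne2 with h0 | h0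
          · exact Submodule.mem_span_singleton.2 ⟨QuadraticMap.polar Q X a / α, Prod.ext (by simp [h0])
              (by simp only [Prod.smul_snd, smul_eq_mul]; field_simp; linear_combination -e)⟩
          · exact Submodule.mem_span_singleton.2 ⟨QuadraticMap.polar Q Y a / β, Prod.ext
              (by simp only [Prod.smul_fst, smul_eq_mul]; field_simp; linear_combination e) (by simp [h0])⟩
        refine (Submodule.finrank_mono hsub).trans ?_
        simpa using finrank_span_le_card (R := F) ({((α, β) : F × F)} : Set (F × F))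
      have hker : Module.finrank F (LinearMap.ker m) ≤ Module.finrank F D := by
        rw [← LinearEquiv.finrank_eq (Submodule.comapSubtypeEquivOfLe hDA)]
        refine Submodule.finrank_mono fun a ha => ?_
        have := LinearMap.mem_ker.1 ha
        rw [hm, Prod.mk_eq_zero] at this
        show (a : V) ∈ D
        rw [hD]
        exact ⟨a.2, hLperp.2 this⟩
      have := LinearMap.finrank_range_add_finrank_ker m
      omega
    have hstab : qStab Q B = qStab Q A := le_antisymm (fun k hk => hBA ▸ qPerp_invariant Q hk)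
      fun k hk => hB ▸ qPerp_invariant Q hk
    refine eichGroup_le_of_pair Q hQ hBnd (by omega) (by omega) ?_ (hstab ▸ hHM) hg1M huB hu0 hQu
      (by rw [hfix u huL]; exact huB) hwB ((mem_qPerp_singleton Q).1 hwu) hgw
    rintro ⟨-, h, -⟩
    rw [hBA, hdA] at h
    omega
  by_cases hEs : ∃ u ∈ E, u ≠ 0 ∧ Q u = 0
  · obtain ⟨u, hu, hu0, hQu⟩ := hEs
    exact hfin u hu hu0 hQu
  push Not at hEs
  exfalso
  have hEa : ∀ v ∈ E, Q v = 0 → v = 0 := fun v hv h => by
    by_contra h0
    exact hEs v hv h0 h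
  obtain ⟨e, he⟩ := exists_anti_of_aniso Q hD2 hE2 hDa hEa
  have hEB : E ≤ B := hE ▸ inf_le_left
  have horth : ∀ d ∈ D, ∀ v ∈ E, QuadraticMap.polar Q d v = 0 := fun d hd v hv =>
    (mem_qPerp Q).1 (hB ▸ hEB hv) d (hDA hd)
  obtain ⟨ψ, hψ⟩ : ∃ ψ : D →ₗ[F] V, ∀ d : D, ψ d = (d : V) + (e d : V) :=
    ⟨D.subtype + E.subtype ∘ₗ e.toLinearMap, fun d => rfl⟩
  refine hsup4 hLs (T := LinearMap.range ψ) ?_ ?_ ?_ hLeq ?_
  · rintro _ ⟨d, rfl⟩
    rw [hψ, quad_add, he, horth d d.2 _ (e d).2]
    ring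
  · rintro l hl _ ⟨d, rfl⟩
    rw [hψ, QuadraticMap.polar_add_right,
      (mem_qPerp Q).1 ((hD ▸ d.2 : (d : V) ∈ A ⊓ qPerp Q L)).2 l hl,
      (mem_qPerp Q).1 ((hE ▸ (e d).2 : ((e d : E) : V) ∈ B ⊓ qPerp Q L)).2 l hl, add_zero]
  · refine (Submodule.eq_bot_iff _).2 ?_
    rintro l ⟨hl, d, rfl⟩
    rw [hψ] at hl ⊢
    have hd0 : d = 0 := Subtype.ext (hDnd d d.2 fun d' hd' => by
      have h := (mem_qPerp Q).1 ((hD ▸ hd' : d' ∈ A ⊓ qPerp Q L)).2 _ hl
      rwa [QuadraticMap.polar_add_left, QuadraticMap.polar_comm Q ((e d : E) : V) d', horth d' hd' _ (e d).2,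
        add_zero] at h)
    simp [hd0]
  · rw [LinearMap.finrank_range_of_inj, hD2]
    refine (injective_iff_map_eq_zero _).2 fun d hd => Subtype.ext ?_
    rw [hψ] at hd
    refine (Submodule.eq_bot_iff _).1 (inf_qPerp_eq_bot Q hA) _ ⟨hDA d.2, ?_⟩
    rw [eq_neg_of_add_eq_zero_left hd]
    exact (qPerp Q A).neg_mem (hB ▸ hEB (e d).2)

end CfsgLib.Classical22
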