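/-
The stabiliser of a hyperbolic plane over fields with two or three elements is not maximal.
-/
import Cfsg.Agent.Lib.Classical22.OrthMaxSubspace

set_option autoImplicit false

namespace CfsgLib.Classical22

open CfsgLib.Classical Cfsg

variable {F : Type*} [Field F] [Fintype F] {ι : Type} [Fintype ι] [DecidableEq ι]

theorem sq_eq_one_of_card_le_three (hq : Fintype.card F ≤ 3) {s : F} (hs : s ≠ 0) : s * s = 1 := by
  classical
  have h1 := FiniteField.pow_card_sub_one_eq_one s hs
  have h2 := Fintype.one_lt_card (α := F)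
  rcases Nat.lt_or_ge (Fintype.card F) 3 with h | h
  · rw [show Fintype.card F - 1 = 1 by omega, pow_one] at h1
    rw [h1, one_mul]
  · rw [show Fintype.card F - 1 = 2 by omega, sq] at h1
    exact h1

theorem exists_between_plane (q : QuadraticForm F (ι → F)) (hQ : PolarNondeg q) (hn : 8 ≤ Fintype.card ι)
    (hq : Fintype.card F ≤ 3) {W : Submodule F (ι → F)} (hdim : Module.finrank F W = 2)
    (hW : Cfsg.Geo.IsNondegenerateOn (QuadraticMap.polar q) W) (hplus : Cfsg.Geo.IsPlusTypeOn ⇑q W) :
    ∃ K : Subgroup (Matrix.GeneralLinearGroup ι F), Cfsg.Geo.subspaceStabilizer W ⊓ Cfsg.Geo.omegaGL ⇑q < K ∧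
      K < Cfsg.Geo.omegaGL ⇑q := by
  have hV : Module.finrank F (ι → F) = Fintype.card ι := Module.finrank_pi F
  have hWnd := ndOn_of_isNondegenerateOn q hW
  obtain ⟨U, hUW, hUs, hUd⟩ := hplus
  obtain ⟨e, heU, he0⟩ := Submodule.exists_mem_ne_zero_of_ne_bot (p := U) fun h => by
    rw [h, finrank_bot, hdim] at hUd
    omega
  have he : e ∈ W := hUW heU
  obtain ⟨f, hf, hQf, hef⟩ := exists_partner q hWnd he he0 (hUs e heU)
  have hQe := hUs e heU
  have hfe : QuadraticMap.polar q f e = 1 := by rw [QuadraticMap.polar_comm, hef]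
  have hee : QuadraticMap.polar q e e = 0 := by rw [quad_polar_self, hQe, mul_zero]
  have hff : QuadraticMap.polar q f f = 0 := by rw [quad_polar_self, hQf, mul_zero]
  have hWspan : W ≤ Submodule.span F {e} ⊔ Submodule.span F {f} := by
    have hle : Submodule.span F {e} ⊔ Submodule.span F {f} ≤ W :=
      sup_le ((Submodule.span_singleton_le_iff_mem _ _).2 he) ((Submodule.span_singleton_le_iff_mem _ _).2 hf)
    refine (Submodule.eq_of_le_of_finrank_le hle ?_).ge
    have h1 := Submodule.finrank_sup_add_finrank_inf_eq (Submodule.span F {e}) (Submodule.span F {f})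
    have h0 : Submodule.span F {e} ⊓ Submodule.span F {f} = ⊥ := (Submodule.eq_bot_iff _).2 fun z hz => by
      obtain ⟨s, rfl⟩ := Submodule.mem_span_singleton.1 hz.1
      obtain ⟨t, ht⟩ := Submodule.mem_span_singleton.1 hz.2
      have e1 := congrArg (fun x => QuadraticMap.polar q x f) ht
      simp only [QuadraticMap.polar_smul_left, hff, hef, smul_eq_mul, mul_one] at e1
      rw [← e1, mul_zero, zero_smul]
    rw [h0, finrank_bot, finrank_span_singleton he0,
      finrank_span_singleton (fun h : f = 0 => by rw [h, QuadraticMap.polar_zero_right] at hef; exact zero_ne_one hef)]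
      at h1
    omega
  have hQa : q (e + f) = 1 := by rw [quad_add, hQe, hQf, hef]; simp
  obtain ⟨A, hA⟩ : ∃ A, A = Submodule.span F {e + f} := ⟨_, rfl⟩
  refine exists_between_omegaGL q hQ (by omega) (comap_subspaceStabilizer q W) (K := qStab q A ⊓ eichGroup q)
    (lt_of_le_not_ge ?_ fun hle => ?_) (lt_of_le_not_ge inf_le_right fun hle => ?_)
  · rintro g ⟨hg, hge⟩
    refine ⟨mem_qStab_of_maps q fun x hx => ?_, hge⟩
    rw [hA] at hx ⊢
    obtain ⟨r, rfl⟩ := Submodule.mem_span_singleton.1 hx
    rw [map_smul]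
    refine Submodule.smul_mem _ _ ?_
    obtain ⟨a, ha, b, hb, hab⟩ := Submodule.mem_sup.1 (hWspan (apply_mem_of_qStab q hg (W.add_mem he hf)))
    obtain ⟨s, rfl⟩ := Submodule.mem_span_singleton.1 ha
    obtain ⟨t, rfl⟩ := Submodule.mem_span_singleton.1 hb
    have h1 := qAut_map g (e + f)
    rw [← hab, hQa, quad_add, quad_smul, quad_smul, hQe, hQf, QuadraticMap.polar_smul_left,
      QuadraticMap.polar_smul_right, hef, smul_eq_mul, smul_eq_mul, mul_zero, mul_zero, zero_add, zero_add,
      mul_one] at h1
    have hs : s ≠ 0 := fun h => zero_ne_one (by rw [← h1, h, zero_mul])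
    have hst : s = t := mul_left_cancel₀ hs ((sq_eq_one_of_card_le_three hq hs).trans h1.symm)
    rw [← hab, ← hst, ← smul_add]
    exact Submodule.smul_mem _ _ (Submodule.mem_span_singleton_self _)
  · have hP := ndOn_qPerp q hQ hWnd
    have hPd := finrank_qPerp q hQ W
    obtain ⟨⟨c, hc⟩, hQc⟩ := exists_value (q.comp (qPerp q W).subtype) (polarNondeg_comp q hP) (by omega)
      (one_ne_zero (α := F))
    change q c = 1 at hQc
    obtain ⟨u, hu⟩ : ∃ u, u = e - f + c := ⟨_, rfl⟩
    have hWc : ∀ x ∈ W, QuadraticMap.polar q x c = 0 := fun x hx => (mem_qPerp q).1 hc x hx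
    have hQu : q u = 0 := by
      rw [hu, quad_add, quad_sub, hQe, hQf, hef, hQc, hWc _ (W.sub_mem he hf)]
      ring
    obtain ⟨w, hw, hwc⟩ : ∃ w ∈ qPerp q (W ⊔ Submodule.span F {c}), w ∉ Submodule.span F {c} :=
      SetLike.not_le_iff_exists.1 fun hle' => by
        have h1 := Submodule.finrank_mono hle'
        have h2 := Submodule.finrank_add_le_finrank_add_finrank W (Submodule.span F {c})
        have h3 : Module.finrank F (Submodule.span F {c}) ≤ 1 := by
          simpa using finrank_span_le_card (R := F) ({c} : Set (ι → F))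
        rw [finrank_qPerp q hQ] at h1
        omega
    rw [mem_qPerp] at hw
    have hWw : ∀ x ∈ W, QuadraticMap.polar q x w = 0 := fun x hx => hw x (Submodule.mem_sup_left hx)
    have huw : QuadraticMap.polar q u w = 0 := by
      rw [hu, QuadraticMap.polar_add_left, hWw _ (W.sub_mem he hf),
        hw c (Submodule.mem_sup_right (Submodule.mem_span_singleton_self c)), add_zero]
    have hau : QuadraticMap.polar q (e + f) u = 0 := by
      rw [hu, QuadraticMap.polar_add_right, hWc _ (W.add_mem he hf), QuadraticMap.polar_sub_right,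
        QuadraticMap.polar_add_left, QuadraticMap.polar_add_left, hee, hff, hef, hfe]
      ring
    have heu : QuadraticMap.polar q e u = -1 := by
      rw [hu, QuadraticMap.polar_add_right, hWc e he, QuadraticMap.polar_sub_right, hee, hef]
      ring
    have hmem : eich q u w ∈ qStab q A := eich_mem_qStab_perp q hQu huw (fun x hx => by
        rw [hA] at hx
        obtain ⟨r, rfl⟩ := Submodule.mem_span_singleton.1 hx
        rw [QuadraticMap.polar_smul_left, hau, smul_zero]) fun x hx => by
        rw [hA] at hx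
        obtain ⟨r, rfl⟩ := Submodule.mem_span_singleton.1 hx
        rw [QuadraticMap.polar_smul_left, hWw _ (W.add_mem he hf), smul_zero]
    have h := apply_mem_of_qStab q (hle ⟨hmem, eich_mem q hQu huw⟩).1 he
    rw [eich_apply q hQu huw, heu, hWw e he] at h
    have h' : q w • c - w ∈ W := by
      have e1 := W.sub_mem (W.sub_mem h he) (W.smul_mem (q w) (W.sub_mem he hf))
      convert e1 using 1
      rw [hu]
      module
    have h'' : q w • c - w ∈ qPerp q W :=
      (qPerp q W).sub_mem ((qPerp q W).smul_mem _ hc) ((mem_qPerp q).2 hWw)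
    have h0 : q w • c - w = 0 := (Submodule.eq_bot_iff _).1 (inf_qPerp_eq_bot q hWnd) _ ⟨h', h''⟩
    exact hwc (Submodule.mem_span_singleton.2 ⟨q w, sub_eq_zero.1 h0⟩)
  · have hne : A ≠ ⊥ := hA ▸ Submodule.span_singleton_eq_bot.not.2 fun h => zero_ne_one (α := F)
      (by rw [← hQa, h, map_zero])
    have h1 := congrArg (fun X : Submodule F (ι → F) => Module.finrank F X)
      (eq_top_of_invariant q hQ (by omega) hne (hle.trans inf_le_left))
    have h2 : Module.finrank F A ≤ 1 := by
      rw [hA]
      simpa using finrank_span_le_card (R := F) ({e + f} : Set (ι → F))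
    simp only [finrank_top, hV] at h1
    omega

end CfsgLib.Classical22
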