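/-
Non-degenerate subspaces of dimension four with a complement of dimension three.
-/
import Cfsg.Agent.Lib.Classical22.OrthMaxSubspace
import Cfsg.Agent.Lib.Classical22.OrthDecompBasic

set_option autoImplicit false

namespace CfsgLib.Classical22

open CfsgLib.Classical

variable {F V : Type*} [Field F] [AddCommGroup V] [Module F V] (Q : QuadraticForm F V)
variable [FiniteDimensional F V] [Fintype F]

/-- An element of `M` fixing a hyperplane of `A` pointwise and moving `A` gives everything. -/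
theorem eichGroup_le_of_fix (hQ : PolarNondeg Q) (h2 : (2 : F) ≠ 0) {A : Submodule F V} (hA : NdOn Q A)
    (hdA : Module.finrank F A = 4) (hn : 5 ≤ Module.finrank F V)
    (hex : ¬ (Fintype.card F ≤ 3 ∧ Module.finrank F (qPerp Q A) = 2 ∧ ∃ x ∈ qPerp Q A, x ≠ 0 ∧ Q x = 0))
    {M : Subgroup (qAut Q)} (hHM : qStab Q A ⊓ eichGroup Q ≤ M) {c : qAut Q} (hcM : c ∈ M)
    (hcE : c ∈ eichGroup Q) {S : Submodule F V} (hSA : S ≤ A) (hS : 3 ≤ Module.finrank F S)
    (hfix : ∀ v ∈ S, c.1 v = v) (hmove : c ∉ qStab Q A) : eichGroup Q ≤ M := by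
  have hd3 : Module.finrank F S = 3 := by
    have h1 := Submodule.finrank_mono hSA
    by_contra hne
    have heq := Submodule.eq_of_le_of_finrank_le hSA (by omega)
    exact hmove (mem_qStab_of_maps Q fun v hv => by rw [hfix v (heq ▸ hv)]; exact hv)
  have hperp := finrank_inf_qPerp Q hQ hA hSA
  have hline : ∀ u ∈ A, u ≠ 0 → Module.finrank F ↥(A ⊓ qPerp Q (Submodule.span F {u})) = 3 := fun u hu hu0 => by
    have h1 := finrank_inf_qPerp Q hQ hA (T := Submodule.span F {u})
      ((Submodule.span_singleton_le_iff_mem _ _).2 hu)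
    rw [finrank_span_singleton hu0] at h1
    omega
  by_cases hSn : NdOn Q S
  · -- a singular vector of the hyperplane
    obtain ⟨⟨u, hu⟩, hu0, hQu⟩ := exists_singular (Q.comp S.subtype) (polarNondeg_comp Q hSn) hS
    change Q u = 0 at hQu
    have hu0' : u ≠ 0 := fun h => hu0 (Subtype.ext h)
    obtain ⟨w, hwA, huw, hw⟩ : ∃ w ∈ A, QuadraticMap.polar Q u w = 0 ∧ c.1 w ∉ A := by
      by_contra hcon
      push Not at hcon
      obtain ⟨w, hw, hwS⟩ : ∃ w ∈ A ⊓ qPerp Q (Submodule.span F {u}), w ∉ S :=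
        SetLike.not_le_iff_exists.1 fun hle => by
          have heq := Submodule.eq_of_le_of_finrank_le hle (by rw [hline u (hSA hu) hu0']; omega)
          refine hu0' (hSn u hu fun v hv => ?_)
          rw [← heq] at hv
          exact (mem_qPerp_singleton Q).1 hv.2
      refine hmove (mem_qStab_of_maps Q fun a ha => ?_)
      have hsup : S ⊔ Submodule.span F {w} = A := by
        refine Submodule.eq_of_le_of_finrank_le (sup_le hSA ((Submodule.span_singleton_le_iff_mem _ _).2 hw.1)) ?_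
        have := Submodule.finrank_lt_finrank_of_lt (show S < S ⊔ Submodule.span F {w} from
          lt_of_le_of_ne le_sup_left fun h => hwS (h ▸ Submodule.mem_sup_right (Submodule.mem_span_singleton_self w)))
        omega
      rw [← hsup] at ha
      obtain ⟨s, hs, _, ht, rfl⟩ := Submodule.mem_sup.1 ha
      obtain ⟨t, rfl⟩ := Submodule.mem_span_singleton.1 ht
      rw [map_add, map_smul, hfix s hs]
      exact A.add_mem (hSA hs) (A.smul_mem t (hcon w hw.1 ((mem_qPerp_singleton Q).1 hw.2)))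
    exact eichGroup_le_of_pair Q hQ hA (by omega) hn hex hHM hcM (hSA hu) hu0' hQu
      (by rw [hfix u hu]; exact hSA hu) hwA huw hw
  -- the radical is singular
  simp only [NdOn, not_forall] at hSn
  obtain ⟨r, hr, hrS, hr0⟩ := hSn
  have hQr : Q r = 0 := by
    have h := hrS r hr
    rw [quad_polar_self] at h
    exact (mul_eq_zero.1 h).resolve_left h2
  have hrA := hSA hr
  have hSeq : S = A ⊓ qPerp Q (Submodule.span F {r}) :=
    Submodule.eq_of_le_of_finrank_le (fun v hv => ⟨hSA hv, (mem_qPerp_singleton Q).2 (hrS v hv)⟩)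
      (by rw [hline r hrA hr0]; omega)
  obtain ⟨z, hz, hQz, hrz⟩ := exists_partner Q hA hrA hr0 hQr
  have hrr : QuadraticMap.polar Q r r = 0 := by rw [quad_polar_self, hQr, mul_zero]
  have hsplit : ∀ a ∈ A, a - QuadraticMap.polar Q r a • z ∈ S := fun a ha => by
    rw [hSeq]
    exact ⟨A.sub_mem ha (A.smul_mem _ hz), (mem_qPerp_singleton Q).2 (by
      rw [QuadraticMap.polar_sub_right, QuadraticMap.polar_smul_right, hrz, smul_eq_mul, mul_one, sub_self])⟩
  obtain ⟨a, ha, b, hb, hab⟩ := exists_add_qPerp Q hQ hA (c.1 z)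
  have hub : ∀ u' ∈ A, QuadraticMap.polar Q u' b = 0 := fun u' hu' => (mem_qPerp Q).1 hb u' hu'
  -- a differs from z by a multiple of r
  have hpolS : ∀ v ∈ S, QuadraticMap.polar Q v (a - z) = 0 := fun v hv => by
    have h := qAut_polar c v z
    rw [hfix v hv, ← hab, QuadraticMap.polar_add_right, hub v (hSA hv), add_zero] at h
    rw [QuadraticMap.polar_sub_right, h, sub_self]
  obtain ⟨s, hs⟩ : ∃ s : F, a = z + s • r := by
    obtain ⟨s, hsdef⟩ : ∃ s, s = QuadraticMap.polar Q z (a - z) := ⟨_, rfl⟩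
    refine ⟨s, ?_⟩
    have h0 : a - z - s • r = 0 := by
      refine hA _ (A.sub_mem (A.sub_mem ha hz) (A.smul_mem _ hrA)) fun v hv => ?_
      have h1 := hpolS _ (hsplit v hv)
      rw [QuadraticMap.polar_sub_left, QuadraticMap.polar_smul_left, ← hsdef] at h1
      rw [QuadraticMap.polar_sub_left, QuadraticMap.polar_smul_left, QuadraticMap.polar_comm Q (a - z) v]
      simp only [smul_eq_mul] at h1 ⊢
      linear_combination h1
    rw [sub_sub, sub_eq_zero] at h0
    exact h0
  have hrb : QuadraticMap.polar Q r b = 0 := hub r hrA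
  have hQs : s = -Q b := by
    have h := qAut_map c z
    rw [← hab, hs, hQz, quad_add, quad_add, quad_smul, hQz, hQr, QuadraticMap.polar_smul_right,
      QuadraticMap.polar_comm Q z r, hrz, QuadraticMap.polar_add_left, QuadraticMap.polar_smul_left, hub z hz, hrb,
      smul_eq_mul, mul_one, mul_zero, smul_zero] at h
    linear_combination h
  have hcz : c.1 z = (eich Q r b).1 z := by
    rw [← hab, hs, hQs, eich_apply Q hQr hrb, QuadraticMap.polar_comm Q z r, hrz, hub z hz]
    module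
  have hk : ∀ v ∈ A, ((eich Q r b)⁻¹ * c).1 v = v := fun v hv => by
    refine (eich Q r b).1.injective ?_
    rw [qAut_mul_apply, qApply_inv_self]
    have hv' : v = (v - QuadraticMap.polar Q r v • z) + QuadraticMap.polar Q r v • z := (sub_add_cancel _ _).symm
    have hS' := hsplit v hv
    rw [hv', map_add, map_add, map_smul, map_smul, hfix _ hS', hcz]
    congr 1
    have hS'' : v - QuadraticMap.polar Q r v • z ∈ A ⊓ qPerp Q (Submodule.span F {r}) := hSeq ▸ hS'
    rw [eich_apply Q hQr hrb, QuadraticMap.polar_comm Q _ r, (mem_qPerp_singleton Q).1 hS''.2,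
      hub _ (hSA hS')]
    simp
  have hkH : (eich Q r b)⁻¹ * c ∈ qStab Q A ⊓ eichGroup Q :=
    ⟨mem_qStab_of_maps Q fun v hv => by rw [hk v hv]; exact hv,
      Subgroup.mul_mem _ (Subgroup.inv_mem _ (eich_mem Q hQr hrb)) hcE⟩
  have hmix : eich Q r b ∈ M := by
    have h : c * ((eich Q r b)⁻¹ * c)⁻¹ ∈ M := mul_mem hcM (inv_mem (hHM hkH))
    rwa [mul_inv_rev, inv_inv, mul_inv_cancel_left] at h
  refine eichGroup_le_of_mixed Q hQ hA (by omega) hn hex hHM hrA hr0 hQr hb (fun hb0 => hmove ?_) hmix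
  refine mem_qStab_of_maps Q fun v hv => ?_
  have hv' : v = (v - QuadraticMap.polar Q r v • z) + QuadraticMap.polar Q r v • z := (sub_add_cancel _ _).symm
  rw [hv', map_add, map_smul, hfix _ (hsplit v hv), ← hab, hb0, add_zero]
  exact A.add_mem (hSA (hsplit v hv)) (A.smul_mem _ ha)

/-- The vectors of a given value are not all in two orthogonal subspaces. -/
theorem exists_value_notMem (hQ : PolarNondeg Q) (h2 : (2 : F) ≠ 0) {A K N : Submodule F V} (hA : NdOn Q A)
    (hdA : 3 ≤ Module.finrank F A) (hKA : K ≤ A) (hNA : N ≤ A)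
    (hKN : ∀ k ∈ K, ∀ n ∈ N, QuadraticMap.polar Q k n = 0) (hK : 2 ≤ Module.finrank F K)
    (hK' : Module.finrank F K + 2 ≤ Module.finrank F A) {c : F} (hc : c ≠ 0) :
    ∃ a ∈ A, Q a = c ∧ a ∉ K ∧ a ∉ N := by
  by_contra hcon
  push Not at hcon
  have hRA := polarNondeg_comp Q hA
  obtain ⟨T, hT⟩ : ∃ T : Submodule F A, T = Submodule.span F {p : A | (Q.comp A.subtype) p = c} := ⟨_, rfl⟩
  have hTtop : T = ⊤ := by
    refine eq_top_of_invariant_three (Q.comp A.subtype) hRA hdA (fun h => ?_) fun h _ =>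
      mem_qStab_of_maps _ fun p hp => ?_
    · obtain ⟨p, hp⟩ := exists_value (Q.comp A.subtype) hRA (by omega) hc
      have hp0 : p = 0 := (Submodule.mem_bot F).1 (h ▸ hT ▸ Submodule.subset_span hp)
      rw [hp0, map_zero] at hp
      exact hc hp.symm
    · rw [hT] at hp ⊢
      induction hp using Submodule.span_induction with
      | mem q hq => exact Submodule.subset_span ((qAut_map h q).trans hq)
      | zero => rw [map_zero]; exact zero_mem _
      | add q q' _ _ hq hq' => rw [map_add]; exact add_mem hq hq'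
      | smul s q _ hq => rw [map_smul]; exact Submodule.smul_mem _ s hq
  have hsup : K ⊔ N = A := le_antisymm (sup_le hKA hNA) fun v hv => by
    have h1 : (⟨v, hv⟩ : A) ∈ T := hTtop ▸ Submodule.mem_top
    rw [hT] at h1
    suffices h : ∀ p ∈ Submodule.span F {p : A | (Q.comp A.subtype) p = c}, (p : V) ∈ K ⊔ N from h _ h1
    intro p hp
    induction hp using Submodule.span_induction with
    | mem q hq =>
      by_cases hqK : (q : V) ∈ K
      · exact Submodule.mem_sup_left hqK
      · exact Submodule.mem_sup_right (hcon q q.2 hq hqK)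
    | zero => exact zero_mem _
    | add q q' _ _ hq hq' => exact add_mem hq hq'
    | smul s q _ hq => exact Submodule.smul_mem _ s hq
  have hi : ∀ v ∈ K, v ∈ N → v = 0 := fun v hvK hvN => hA v (hKA hvK) fun y hy => by
    rw [← hsup] at hy
    obtain ⟨k, hk, n, hn, rfl⟩ := Submodule.mem_sup.1 hy
    rw [QuadraticMap.polar_add_right, QuadraticMap.polar_comm Q v k, hKN k hk v hvN, hKN v hvK n hn, add_zero]
  have hN2 : 2 ≤ Module.finrank F N := by
    have h1 := Submodule.finrank_sup_add_finrank_inf_eq K N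
    rw [hsup] at h1
    have h0 : K ⊓ N = ⊥ := (Submodule.eq_bot_iff _).2 fun v hv => hi v hv.1 hv.2
    rw [h0, finrank_bot] at h1
    omega
  have hKn : NdOn Q K := fun k hk hkk => hA k (hKA hk) fun y hy => by
    rw [← hsup] at hy
    obtain ⟨k', hk', n, hn, rfl⟩ := Submodule.mem_sup.1 hy
    rw [QuadraticMap.polar_add_right, hkk k' hk', hKN k hk n hn, add_zero]
  have hNn : NdOn Q N := fun n hn hnn => hA n (hNA hn) fun y hy => by
    rw [← hsup] at hy
    obtain ⟨k', hk', n', hn', rfl⟩ := Submodule.mem_sup.1 hy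
    rw [QuadraticMap.polar_add_right, QuadraticMap.polar_comm Q n k', hKN k' hk' n hn, hnn n' hn', add_zero]
  obtain ⟨k, hk, hQk⟩ := OrthDecomp.exists_value_in hKn hK (mul_ne_zero h2 hc)
  obtain ⟨n, hn, hQn⟩ := OrthDecomp.exists_value_in hNn hN2 (neg_ne_zero.2 hc)
  have hk0 : k ≠ 0 := fun h => mul_ne_zero h2 hc (by rw [← hQk, h, map_zero])
  have hn0 : n ≠ 0 := fun h => neg_ne_zero.2 hc (by rw [← hQn, h, map_zero])
  have hval : Q (k + n) = c := by rw [quad_add, hQk, hQn, hKN k hk n hn]; ring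
  have hnK : k + n ∉ K := fun h => hn0 (hi n ((K.add_mem_iff_right hk).1 h) hn)
  exact hk0 (hi k hk ((N.add_mem_iff_left hn).1 (hcon _ (A.add_mem (hKA hk) (hNA hn)) hval hnK)))

/-- Dimension four against three. -/
theorem eichGroup_le_of_four_three (hQ : PolarNondeg Q) (h2 : (2 : F) ≠ 0) {A : Submodule F V} (hA : NdOn Q A)
    (hdA : Module.finrank F A = 4) (hn : Module.finrank F V = 7) {M : Subgroup (qAut Q)}
    (hHM : qStab Q A ⊓ eichGroup Q ≤ M) (hME : M ≤ eichGroup Q) (hne : ¬ M ≤ qStab Q A) : eichGroup Q ≤ M := by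
  classical
  obtain ⟨B, hB⟩ : ∃ B, B = qPerp Q A := ⟨_, rfl⟩
  have hBnd : NdOn Q B := hB ▸ ndOn_qPerp Q hQ hA
  have hBd : Module.finrank F B = 3 := by rw [hB, finrank_qPerp Q hQ, hn, hdA]
  have hBA : qPerp Q B = A := hB ▸ qPerp_qPerp Q hQ A
  have hAB : ∀ a ∈ A, ∀ v ∈ B, QuadraticMap.polar Q a v = 0 := fun a ha v hv => (mem_qPerp Q).1 (hB ▸ hv) a ha
  have hAB0 : ∀ v ∈ A, v ∈ B → v = 0 := fun v hvA hvB =>
    (Submodule.eq_bot_iff _).1 (inf_qPerp_eq_bot Q hA) v ⟨hvA, hB ▸ hvB⟩
  have hex : ¬ (Fintype.card F ≤ 3 ∧ Module.finrank F (qPerp Q A) = 2 ∧ ∃ x ∈ qPerp Q A, x ≠ 0 ∧ Q x = 0) := by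
    rintro ⟨-, h, -⟩
    rw [← hB] at h
    omega
  obtain ⟨g, hgM, hgA⟩ := SetLike.not_le_iff_exists.1 hne
  obtain ⟨x, hx, y, hy, hQx, hxy, hg1⟩ := exists_eich_moving Q hQ hA (by omega) (by omega) hgA (by
    intro hs
    have h := Submodule.finrank_mono (show A.map g.1.toLinearMap ≤ qPerp Q A by
      rintro _ ⟨z, hz, rfl⟩
      exact hs z hz)
    rw [LinearEquiv.finrank_map_eq, ← hB] at h
    omega)
  obtain ⟨X, hX⟩ : ∃ X, X = g.1 x := ⟨_, rfl⟩
  obtain ⟨Y, hY⟩ : ∃ Y, Y = g.1 y := ⟨_, rfl⟩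
  obtain ⟨e, he⟩ : ∃ e, e = eich Q X Y := ⟨_, rfl⟩
  rw [← hX, ← hY, ← he] at hg1
  have hQX : Q X = 0 := by rw [hX, qAut_map, hQx]
  have hXY : QuadraticMap.polar Q X Y = 0 := by rw [hX, hY, qAut_polar, hxy]
  have heM : e ∈ M := by
    rw [he, hX, hY, ← eich_conj Q g hQx hxy]
    exact mul_mem (mul_mem hgM (hHM ⟨eich_mem_qStab Q hQx hxy hx hy, eich_mem Q hQx hxy⟩)) (inv_mem hgM)
  have happ : ∀ v, e.1 v = v + QuadraticMap.polar Q v X • Y -
      (QuadraticMap.polar Q v Y + Q Y * QuadraticMap.polar Q v X) • X := fun v => by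
    rw [he, eich_apply Q hQX hXY]
  obtain ⟨L, hL⟩ : ∃ L, L = Submodule.span F {X} ⊔ Submodule.span F {Y} := ⟨_, rfl⟩
  have hLperp : ∀ {v}, v ∈ qPerp Q L ↔ QuadraticMap.polar Q X v = 0 ∧ QuadraticMap.polar Q Y v = 0 := fun {v} => by
    rw [hL, qPerp_sup, Submodule.mem_inf, mem_qPerp_singleton, mem_qPerp_singleton]
  have hfixL : ∀ v ∈ qPerp Q L, e.1 v = v := fun v hv => by
    obtain ⟨h1, h2'⟩ := hLperp.1 hv
    rw [happ, QuadraticMap.polar_comm Q v X, QuadraticMap.polar_comm Q v Y, h1, h2']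
    simp
  have hLd : Module.finrank F L ≤ 2 := by
    have h3 := Submodule.finrank_add_le_finrank_add_finrank (Submodule.span F {X}) (Submodule.span F {Y})
    have h4 : ∀ v : V, Module.finrank F (Submodule.span F {v}) ≤ 1 := fun v => by
      simpa using finrank_span_le_card (R := F) ({v} : Set V)
    have := h4 X
    have := h4 Y
    rw [← hL] at h3
    omega
  obtain ⟨A', hA'⟩ : ∃ A', A' = A.comap e.1.toLinearMap := ⟨_, rfl⟩
  have hA'd : Module.finrank F A' = 4 := by
    rw [hA', Submodule.comap_equiv_eq_map_symm, LinearEquiv.finrank_map_eq, hdA]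
  have hA'm : ∀ {v}, v ∈ A' ↔ e.1 v ∈ A := fun {v} => by rw [hA']; rfl
  obtain ⟨K, hK⟩ : ∃ K, K = A ⊓ A' := ⟨_, rfl⟩
  have hKA : K ≤ A := hK ▸ inf_le_left
  have hKlt : Module.finrank F K < Module.finrank F A :=
    Submodule.finrank_lt_finrank_of_lt (lt_of_le_of_ne hKA fun h => hg1 (mem_qStab_of_maps Q fun v hv => by
      rw [← h, hK] at hv
      exact hA'm.1 hv.2))
  -- conjugating an element of the stabiliser
  have key : ∀ h ∈ qStab Q A ⊓ eichGroup Q, ∀ S : Submodule F V, 3 ≤ Module.finrank F S → S ≤ A' →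
      (∀ v ∈ S, h.1 v = v) → (∃ v ∈ A', e.1 (h.1 v) ∉ A) → eichGroup Q ≤ M := by
    intro h hh S hS hSA' hfix ⟨v, hv, hmv⟩
    refine eichGroup_le_of_fix Q hQ h2 hA hdA (by omega) hex hHM (c := e * h * e⁻¹)
      (mul_mem (mul_mem heM (hHM hh)) (inv_mem heM)) (hME (mul_mem (mul_mem heM (hHM hh)) (inv_mem heM)))
      (S := S.map e.1.toLinearMap) ?_ ?_ ?_ ?_
    · rintro _ ⟨s, hs, rfl⟩
      exact hA'm.1 (hSA' hs)
    · rw [LinearEquiv.finrank_map_eq]; exact hS
    · rintro _ ⟨s, hs, rfl⟩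
      show (e * h * e⁻¹).1 (e.1 s) = e.1 s
      rw [qAut_mul_apply, qAut_mul_apply, qInv_apply_self, hfix s hs]
    · intro hst
      have h1 := apply_mem_of_qStab Q hst (hA'm.1 hv)
      rw [qAut_mul_apply, qAut_mul_apply, qInv_apply_self] at h1
      exact hmv h1
  have hHB : ∀ k ∈ eichGroup (Q.comp B.subtype), ∃ h ∈ qStab Q A ⊓ eichGroup Q, (∀ v : B, h.1 v = k.1 v) ∧
      ∀ a ∈ A, h.1 a = a := by
    intro k hk
    obtain ⟨h, hh, hhB, hhA⟩ := exists_lift_qAut Q hk
    exact ⟨h, ⟨hBA ▸ qPerp_invariant Q hh.1, hh.2⟩, hhB, fun a ha => hhA a (hBA.symm ▸ ha)⟩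
  by_cases hbig : 3 ≤ Module.finrank F K
  · -- some element of the complement moves the preimage
    obtain ⟨w, hwA', hwK⟩ : ∃ w ∈ A', w ∉ K := SetLike.not_le_iff_exists.1 fun hle => by
      have := Submodule.finrank_mono hle
      omega
    obtain ⟨α, hα, β, hβ, hw⟩ := exists_add_qPerp Q hQ hA w
    rw [← hB] at hβ
    by_contra hnot
    have hstep : ∀ k ∈ eichGroup (Q.comp B.subtype), (k.1 ⟨β, hβ⟩ : V) - β ∈ A' := by
      intro k hk
      by_contra hout
      obtain ⟨h, hh, hhB, hhA⟩ := hHB k hk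
      refine hnot (key h hh K hbig (hK ▸ inf_le_right) (fun v hv => hhA v (hKA hv)) ⟨w, hwA', fun hm => hout ?_⟩)
      have h1 : h.1 w - w ∈ A' := A'.sub_mem (hA'm.2 hm) hwA'
      rwa [← hw, map_add, hhA α hα, hhB ⟨β, hβ⟩, add_sub_add_left_eq_sub] at h1
    obtain ⟨U, hU⟩ : ∃ U : Submodule F B, U = A'.comap B.subtype ⊔ Submodule.span F {(⟨β, hβ⟩ : B)} := ⟨_, rfl⟩
    have hβ0 : (⟨β, hβ⟩ : B) ≠ 0 := fun h => hwK (hK ▸ ⟨by
      rw [← hw, show β = 0 from congrArg Subtype.val h, add_zero]; exact hα, hwA'⟩)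
    obtain ⟨W₀, hW₀⟩ : ∃ W₀ : Submodule F B, W₀ = Submodule.span F
        (Set.range fun k : eichGroup (Q.comp B.subtype) => k.1.1 (⟨β, hβ⟩ : B)) := ⟨_, rfl⟩
    have hW₀le : W₀ ≤ U := by
      rw [hW₀, hU, Submodule.span_le]
      rintro _ ⟨k, rfl⟩
      refine Submodule.mem_sup.2 ⟨k.1.1 ⟨β, hβ⟩ - ⟨β, hβ⟩, hstep k.1 k.2, ⟨β, hβ⟩,
        Submodule.mem_span_singleton_self _, sub_add_cancel _ _⟩
    have htop : W₀ = ⊤ := by
      refine eq_top_of_invariant_three (Q.comp B.subtype) (polarNondeg_comp Q hBnd) (by omega) (fun h => hβ0 ?_)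
        fun k hk => mem_qStab_of_maps _ fun p hp => ?_
      · refine (Submodule.mem_bot F).1 (h ▸ hW₀ ▸ Submodule.subset_span ⟨1, ?_⟩)
        rfl
      · rw [hW₀] at hp ⊢
        induction hp using Submodule.span_induction with
        | mem q hq =>
          obtain ⟨k', rfl⟩ := hq
          exact Submodule.subset_span ⟨⟨k * k'.1, mul_mem hk k'.2⟩, qAut_mul_apply _ _ _ _⟩
        | zero => rw [map_zero]; exact zero_mem _
        | add q q' _ _ hq hq' => rw [map_add]; exact add_mem hq hq'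
        | smul s q _ hq => rw [map_smul]; exact Submodule.smul_mem _ s hq
    have hdim := Submodule.finrank_mono (htop ▸ hW₀le : ⊤ ≤ U)
    rw [finrank_top, hBd] at hdim
    -- but the preimage meets the complement in a line at most
    have hle1 : Module.finrank F (A'.comap B.subtype) ≤ 1 := by
      have h1 := Submodule.finrank_sup_add_finrank_inf_eq K (A' ⊓ B)
      have h0 : K ⊓ (A' ⊓ B) = ⊥ := (Submodule.eq_bot_iff _).2 fun v hv => hAB0 v (hKA hv.1) hv.2.2
      have h2' := Submodule.finrank_mono (sup_le (hK ▸ inf_le_right : K ≤ A') (inf_le_left : A' ⊓ B ≤ A'))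
      have h3 : Module.finrank F (A'.comap B.subtype) = Module.finrank F ↥(A' ⊓ B) := by
        rw [← Submodule.finrank_map_subtype_eq, Submodule.map_comap_subtype, inf_comm]
      rw [h0, finrank_bot] at h1
      omega
    have h4 := Submodule.finrank_add_le_finrank_add_finrank (A'.comap B.subtype) (Submodule.span F {(⟨β, hβ⟩ : B)})
    rw [← hU, finrank_span_singleton hβ0] at h4
    omega
  -- K is the part of A orthogonal to the line of the root element
  obtain ⟨D, hD⟩ : ∃ D, D = A ⊓ qPerp Q L := ⟨_, rfl⟩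
  have hDA : D ≤ A := hD ▸ inf_le_left
  have hDK : D ≤ K := fun v hv => by
    rw [hD] at hv
    exact hK ▸ ⟨hv.1, hA'm.2 (by rw [hfixL v hv.2]; exact hv.1)⟩
  have hD2 : 2 ≤ Module.finrank F D := by
    have h1 := Submodule.finrank_sup_add_finrank_inf_eq A (qPerp Q L)
    have h2' := Submodule.finrank_le (A ⊔ qPerp Q L)
    have h3 := finrank_qPerp Q hQ L
    rw [← hD] at h1
    omega
  have hKD : K = D := (Submodule.eq_of_le_of_finrank_le hDK (by omega)).symm
  have hLA : L ⊓ qPerp Q A = ⊥ ∧ Module.finrank F L = 2 := by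
    have h1 : D = qPerp Q (qPerp Q A ⊔ L) := by rw [qPerp_sup, qPerp_qPerp Q hQ, hD]
    have h2' := finrank_qPerp Q hQ (qPerp Q A ⊔ L)
    rw [← h1, ← hB] at h2'
    have h3 := Submodule.finrank_sup_add_finrank_inf_eq B L
    have hDd : Module.finrank F D = 2 := by
      have := Submodule.finrank_mono hDK
      omega
    refine ⟨Submodule.finrank_eq_zero.1 ?_, by omega⟩
    rw [← hB, inf_comm]
    omega
  have hnoB : ∀ l ∈ L, l ∈ B → l = 0 := fun l hl hlB =>
    (Submodule.eq_bot_iff _).1 hLA.1 l ⟨hl, hB ▸ hlB⟩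
  -- a vector of the complement orthogonal to the line
  obtain ⟨a, haB, haL, ha0, hTa⟩ : ∃ a ∈ B, a ∈ qPerp Q L ∧ a ≠ 0 ∧
      (Q a = 0 → Module.finrank F ↥(B ⊓ qPerp Q L) ≤ 1) := by
    by_cases hns : ∃ a ∈ B ⊓ qPerp Q L, Q a ≠ 0
    · obtain ⟨a, ha, hQa⟩ := hns
      exact ⟨a, ha.1, ha.2, fun h => hQa (by rw [h, map_zero]), fun h => absurd h hQa⟩
    push Not at hns
    obtain ⟨a, ha, ha0⟩ := Submodule.exists_mem_ne_zero_of_ne_bot (p := B ⊓ qPerp Q L) fun h => by
      have h1 := Submodule.finrank_sup_add_finrank_inf_eq B (qPerp Q L)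
      have h2' := Submodule.finrank_le (B ⊔ qPerp Q L)
      have h3 := finrank_qPerp Q hQ L
      rw [h, finrank_bot] at h1
      omega
    refine ⟨a, ha.1, ha.2, ha0, fun _ => ?_⟩
    have h1 := finrank_inf_qPerp Q hQ hBnd (T := B ⊓ qPerp Q L) inf_le_left
    have h2' : Module.finrank F ↥(B ⊓ qPerp Q L) ≤ Module.finrank F ↥(B ⊓ qPerp Q (B ⊓ qPerp Q L)) :=
      Submodule.finrank_mono fun v hv => ⟨hv.1, (mem_qPerp Q).2 fun w hw => by
        have h := quad_add Q w v
        rw [hns _ (add_mem hw hv), hns w hw, hns v hv] at h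
        linear_combination -h⟩
    omega
  have hea : e.1 a = a := hfixL a haL
  have hLmem : ∀ v, e.1 v - v ∈ L := fun v => by
    rw [happ, hL]
    refine Submodule.mem_sup.2 ⟨-(QuadraticMap.polar Q v Y + Q Y * QuadraticMap.polar Q v X) • X,
      Submodule.smul_mem _ _ (Submodule.mem_span_singleton_self X), QuadraticMap.polar Q v X • Y,
      Submodule.smul_mem _ _ (Submodule.mem_span_singleton_self Y), ?_⟩
    module
  have hconjE : ∀ v ∈ qPerp Q L, ∀ w, QuadraticMap.polar Q v (e.1 w) = QuadraticMap.polar Q v w := fun v hv w => by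
    nth_rewrite 1 [← hfixL v hv]
    exact qAut_polar e v w
  by_cases hQa : Q a = 0
  · -- a singular: an Eichler transformation of the complement
    obtain ⟨t, ⟨htB, hta⟩, htE⟩ : ∃ t ∈ B ⊓ qPerp Q (Submodule.span F {a}), e.1 t ∉ B := by
      by_contra hcon
      push Not at hcon
      have hle : B ⊓ qPerp Q (Submodule.span F {a}) ≤ B ⊓ qPerp Q L := fun t ht => by
        refine ⟨ht.1, hLperp.2 ?_⟩
        have h1 := hnoB _ (hLmem t) (B.sub_mem (hcon t ht) ht.1)
        rw [happ] at h1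
        have hXne : X ≠ 0 := fun h => by
          have hle' : L ≤ Submodule.span F {Y} := by
            rw [hL, h]
            exact sup_le (Submodule.span_le.2 (by simp)) le_rfl
          have := Submodule.finrank_mono hle'
          have h5 := finrank_span_le_card (R := F) ({Y} : Set V)
          simp only [Set.toFinset_singleton, Finset.card_singleton] at h5
          have := hLA.2
          omega
        have e1 : QuadraticMap.polar Q t X = 0 := by
          by_contra hne'
          have hYX : Y ∈ Submodule.span F {X} := Submodule.mem_span_singleton.2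
            ⟨(QuadraticMap.polar Q t Y + Q Y * QuadraticMap.polar Q t X) / QuadraticMap.polar Q t X, by
              rw [div_eq_inv_mul, mul_smul, inv_smul_eq_iff₀ hne']
              have h0 : QuadraticMap.polar Q t X • Y -
                  (QuadraticMap.polar Q t Y + Q Y * QuadraticMap.polar Q t X) • X = 0 := by
                rw [← h1]; abel
              exact (sub_eq_zero.1 h0).symm⟩
          have hle' : L ≤ Submodule.span F {X} := hL ▸ sup_le le_rfl ((Submodule.span_singleton_le_iff_mem _ _).2 hYX)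
          have := Submodule.finrank_mono hle'
          rw [finrank_span_singleton hXne] at this
          have := hLA.2
          omega
        rw [e1, zero_smul, mul_zero, add_zero, add_zero, sub_sub_cancel_left, neg_eq_zero, smul_eq_zero] at h1
        exact ⟨by rw [QuadraticMap.polar_comm]; exact e1,
          by rw [QuadraticMap.polar_comm]; exact h1.resolve_right hXne⟩
      have h1 := finrank_inf_qPerp Q hQ hBnd (T := Submodule.span F {a})
        ((Submodule.span_singleton_le_iff_mem _ _).2 haB)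
      rw [finrank_span_singleton ha0] at h1
      have h2' := Submodule.finrank_mono hle
      have := hTa hQa
      omega
    have hat : QuadraticMap.polar Q a t = 0 := (mem_qPerp_singleton Q).1 hta
    have hh : eich Q a t ∈ qStab Q A ⊓ eichGroup Q :=
      ⟨eich_mem_qStab_perp Q hQa hat (fun z hz => hAB z hz a haB) (fun z hz => hAB z hz t htB), eich_mem Q hQa hat⟩
    have hcM : e * eich Q a t * e⁻¹ ∈ M := mul_mem (mul_mem heM (hHM hh)) (inv_mem heM)
    rw [eich_conj Q e hQa hat, hea] at hcM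
    obtain ⟨et, hetdef⟩ : ∃ et, et = e.1 t := ⟨_, rfl⟩
    rw [← hetdef] at hcM htE
    have haet : QuadraticMap.polar Q a et = 0 := by rw [hetdef, hconjE a haL, hat]
    have hsing : ∀ v ∈ A, QuadraticMap.polar Q v a = 0 := fun v hv => hAB v hv a haB
    refine eichGroup_le_of_fix Q hQ h2 hA hdA (by omega) hex hHM hcM (eich_mem Q hQa haet)
      (S := A ⊓ qPerp Q (Submodule.span F {et})) inf_le_left ?_ ?_ ?_
    · have h1 := Submodule.finrank_sup_add_finrank_inf_eq A (qPerp Q (Submodule.span F {et}))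
      have h2' := Submodule.finrank_le (A ⊔ qPerp Q (Submodule.span F {et}))
      have h3 := finrank_qPerp Q hQ (Submodule.span F {et})
      have h4 := finrank_span_le_card (R := F) ({et} : Set V)
      simp only [Set.toFinset_singleton, Finset.card_singleton] at h4
      omega
    · intro v hv
      rw [eich_apply Q hQa haet, hsing v hv.1, QuadraticMap.polar_comm Q v et, (mem_qPerp_singleton Q).1 hv.2]
      simp
    · intro hst
      refine htE (hB ▸ (mem_qPerp Q).2 fun v hv => ?_)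
      by_contra hne'
      have h1 := A.sub_mem (apply_mem_of_qStab Q hst hv) hv
      rw [eich_apply Q hQa haet, hsing v hv, zero_smul, mul_zero, add_zero, add_zero, sub_sub_cancel_left,
        A.neg_mem_iff, Submodule.smul_mem_iff _ hne'] at h1
      exact ha0 (hAB0 a h1 haB)
  -- a non-singular: a pair of reflections
  obtain ⟨N, hN⟩ : ∃ N, N = A ⊓ B.comap e.1.toLinearMap := ⟨_, rfl⟩
  obtain ⟨a', ha'A, hQa', ha'K, ha'N⟩ := exists_value_notMem Q hQ h2 hA (by omega) hKA (hN ▸ inf_le_left : N ≤ A)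
    (fun k hk n hn' => by
      rw [hK] at hk
      rw [hN] at hn'
      rw [← qAut_polar e k n]
      exact hAB _ (hA'm.1 hk.2) _ hn'.2)
    (hKD ▸ hD2) (by omega) hQa
  have hQa'0 : Q a' ≠ 0 := hQa' ▸ hQa
  obtain ⟨h, hh⟩ : ∃ h, h = qRefl Q hQa'0 * qRefl Q hQa := ⟨_, rfl⟩
  have hfixa : ∀ v ∈ A, (qRefl Q hQa).1 v = v := fun v hv => qRefl_fix Q hQa (hAB v hv a haB)
  have hhH : h ∈ qStab Q A ⊓ eichGroup Q := by
    refine ⟨mem_qStab_of_maps Q fun v hv => ?_, hh ▸ OrthDecomp.qRefl_mul_mem hQ (by omega) hQa hQa'0 hQa'.symm⟩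
    rw [hh, qAut_mul_apply, hfixa v hv, qRefl_apply]
    exact A.sub_mem hv (A.smul_mem _ ha'A)
  -- the preimage is orthogonal to a
  have haA' : ∀ v ∈ A', QuadraticMap.polar Q v a = 0 := fun v hv => by
    rw [QuadraticMap.polar_comm, ← hconjE a haL, QuadraticMap.polar_comm]
    exact hAB _ (hA'm.1 hv) a haB
  have hact : ∀ v ∈ A', h.1 v = v - ((Q a')⁻¹ * QuadraticMap.polar Q v a') • a' := fun v hv => by
    rw [hh, qAut_mul_apply, qRefl_fix Q hQa (haA' v hv), qRefl_apply]
  refine key h hhH (A' ⊓ qPerp Q (Submodule.span F {a'})) ?_ inf_le_left ?_ ?_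
  · have h1 := Submodule.finrank_sup_add_finrank_inf_eq A' (qPerp Q (Submodule.span F {a'}))
    have h2' := Submodule.finrank_le (A' ⊔ qPerp Q (Submodule.span F {a'}))
    have h3 := finrank_qPerp Q hQ (Submodule.span F {a'})
    have h4 := finrank_span_le_card (R := F) ({a'} : Set V)
    simp only [Set.toFinset_singleton, Finset.card_singleton] at h4
    omega
  · intro v hv
    rw [hact v hv.1, QuadraticMap.polar_comm Q v a', (mem_qPerp_singleton Q).1 hv.2, mul_zero, zero_smul, sub_zero]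
  · obtain ⟨v, hv, hva⟩ : ∃ v ∈ A', QuadraticMap.polar Q v a' ≠ 0 := by
      by_contra hcon
      push Not at hcon
      refine ha'N (hN ▸ ⟨ha'A, ?_⟩)
      show e.1 a' ∈ B
      rw [hB]
      refine (mem_qPerp Q).2 fun z hz => ?_
      rw [← qApply_inv_self Q e z, qAut_polar]
      exact hcon _ (hA'm.2 (by rwa [qApply_inv_self]))
    refine ⟨v, hv, fun hm => ha'K (hK ▸ ⟨ha'A, ?_⟩)⟩
    have h1 := A'.sub_mem hv (hA'm.2 hm)
    rw [hact v hv, sub_sub_cancel, Submodule.smul_mem_iff _ (mul_ne_zero (inv_ne_zero hQa'0) hva)] at h1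
    exact h1

end CfsgLib.Classical22
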