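/-
Subspaces fixed by unipotent isometries of quadratic spaces.
-/
import Cfsg.Agent.Lib.Classical22.OrthTypeReflections
import Cfsg.Agent.Lib.Classical.AltBasis

set_option autoImplicit false

namespace CfsgLib.Classical22.OrthType

open CfsgLib.Classical Module

universe u

variable {F : Type u} [Field F]
variable {V : Type u} [AddCommGroup V] [Module F V] [FiniteDimensional F V] {Q : QuadraticForm F V}

theorem perp_perp (hQ : PolarNondeg Q) (U : Submodule F V) : perp Q (perp Q U) = U := by
  refine (Submodule.eq_of_le_of_finrank_eq (fun u hu => mem_perp.2 fun v hv => ?_) ?_).symm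
  · rw [QuadraticMap.polar_comm]
    exact mem_perp.1 hv u hu
  · have h1 := finrank_perp hQ U
    have h2 := finrank_perp hQ (perp Q U)
    omega

/-- The radical of an alternating form has even codimension. -/
theorem even_codim (B : LinearMap.BilinForm F V) (hA : B.IsAlt) (K : Submodule F V)
    (hK : ∀ x, x ∈ K ↔ ∀ y, B x y = 0) {k : ℕ} (hk : k + finrank F K = finrank F V) : Even k := by
  obtain ⟨L, hL⟩ := K.exists_isCompl
  obtain ⟨m, hm, -⟩ := CfsgLib.Classical.exists_symp_equiv (B.restrict L) (fun v => hA (v : V)) (fun v hv =>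
    Subtype.ext (Submodule.disjoint_def.1 hL.disjoint _ ((hK _).2 fun y => by
      obtain ⟨a, ha, b, hb, rfl⟩ := Submodule.mem_sup.1 (hL.sup_eq_top ▸ Submodule.mem_top : y ∈ K ⊔ L)
      rw [map_add, show B v b = 0 from hv ⟨b, hb⟩, add_zero]
      exact hA.isRefl _ _ ((hK a).1 ha v)) v.2))
  have h := Submodule.finrank_add_eq_of_isCompl hL
  exact ⟨m, by omega⟩

variable {f : Module.End F V}

theorem isom_injective (hQ : PolarNondeg Q) (hfQ : ∀ v, Q (f v) = Q v) : Function.Injective f := by
  refine (injective_iff_map_eq_zero f).2 fun x hx => hQ x fun y => ?_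
  have h : QuadraticMap.polar Q (f x) (f y) = QuadraticMap.polar Q x y := by
    simp only [QuadraticMap.polar, ← map_add, hfQ]
  rw [← h, hx, QuadraticMap.polar_zero_left]

/-- The fixed space is the orthogonal of the image of `f - 1`. -/
theorem perp_range (hQ : PolarNondeg Q) (hfQ : ∀ v, Q (f v) = Q v) :
    perp Q (LinearMap.range (f - 1)) = LinearMap.ker (f - 1) := by
  refine (Submodule.eq_of_le_of_finrank_eq ?_ ?_).symm
  · intro v hv
    rw [LinearMap.mem_ker, LinearMap.sub_apply, Module.End.one_apply, sub_eq_zero] at hv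
    refine mem_perp.2 ?_
    rintro _ ⟨w, rfl⟩
    have h : QuadraticMap.polar Q (f w) (f v) = QuadraticMap.polar Q w v := by
      simp only [QuadraticMap.polar, ← map_add, hfQ]
    rw [hv] at h
    rw [LinearMap.sub_apply, Module.End.one_apply, QuadraticMap.polar_sub_left, h, sub_self]
  · have h1 := finrank_perp hQ (LinearMap.range (f - 1))
    have h2 := LinearMap.finrank_range_add_finrank_ker (f - 1)
    omega

theorem le_range_of_perp (hQ : PolarNondeg Q) (hfQ : ∀ v, Q (f v) = Q v) {X : Submodule F V}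
    (hX : ∀ x ∈ X, ∀ y ∈ LinearMap.ker (f - 1), QuadraticMap.polar Q x y = 0) : X ≤ LinearMap.range (f - 1) := by
  rw [← perp_perp hQ (LinearMap.range (f - 1)), perp_range hQ hfQ]
  exact fun x hx => mem_perp.2 fun y hy => by rw [QuadraticMap.polar_comm]; exact hX x hx y hy

/-- When `f - 1` has singular image its rank is even. -/
theorem even_rank_of_singular (hQ : PolarNondeg Q) (hfQ : ∀ v, Q (f v) = Q v) (hN : ∀ v, Q ((f - 1) v) = 0)
    {k : ℕ} (hk : k + finrank F (LinearMap.ker (f - 1)) = finrank F V) : Even k := by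
  refine even_codim (Q.polarBilin.compl₂ (f - 1)) (fun x => ?_) _ (fun x => ?_) hk
  · show QuadraticMap.polar Q x ((f - 1) x) = 0
    have h := hfQ x
    rw [show f x = x + (f - 1) x by simp, quad_add, hN] at h
    linear_combination h
  · rw [← perp_range hQ hfQ, mem_perp]
    show (∀ u ∈ LinearMap.range (f - 1), QuadraticMap.polar Q u x = 0) ↔ ∀ y, QuadraticMap.polar Q x ((f - 1) y) = 0
    constructor
    · intro h y
      rw [QuadraticMap.polar_comm]
      exact h _ ⟨y, rfl⟩
    · rintro h _ ⟨y, rfl⟩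
      rw [QuadraticMap.polar_comm]
      exact h y

/-- In odd characteristic a unipotent isometry moves an even number of dimensions. -/
theorem even_rank_of_odd (h2 : (2 : F) ≠ 0) (hQ : PolarNondeg Q) (hfQ : ∀ v, Q (f v) = Q v) {r : ℕ} (hr : Odd r)
    (hf : f ^ r = 1) {k : ℕ} (hk : k + finrank F (LinearMap.ker (f - 1)) = finrank F V) : Even k := by
  refine even_codim (Q.polarBilin.comp f - Q.polarBilin.compl₂ f) (fun x => ?_) _ (fun x => ?_) hk
  · show QuadraticMap.polar Q (f x) x - QuadraticMap.polar Q x (f x) = 0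
    rw [QuadraticMap.polar_comm, sub_self]
  · have hpol : ∀ a b, QuadraticMap.polar Q (f a) (f b) = QuadraticMap.polar Q a b := fun a b => by
      simp only [QuadraticMap.polar, ← map_add, hfQ]
    show x ∈ LinearMap.ker (f - 1) ↔ ∀ y, QuadraticMap.polar Q (f x) y - QuadraticMap.polar Q x (f y) = 0
    rw [LinearMap.mem_ker, LinearMap.sub_apply, Module.End.one_apply, sub_eq_zero]
    constructor
    · intro hx y
      nth_rewrite 2 [← hx]
      rw [hpol, hx, sub_self]
    · intro h
      have hff : f (f x) = x := by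
        refine sub_eq_zero.1 (hQ _ fun z => ?_)
        obtain ⟨y, rfl⟩ := LinearMap.injective_iff_surjective.1 (isom_injective hQ hfQ) z
        rw [QuadraticMap.polar_sub_left, hpol]
        exact h y
      obtain ⟨w, hw⟩ : ∃ w, w = f x - x := ⟨_, rfl⟩
      have hfw : f w = (-1 : F) • w := by rw [hw, map_sub, hff, neg_one_smul, neg_sub]
      have hpow : ∀ n : ℕ, (f ^ n) w = (-1 : F) ^ n • w := fun n => by
        induction n with
        | zero => simp
        | succ n ih => rw [pow_succ', Module.End.mul_apply, ih, map_smul, hfw, smul_smul, ← pow_succ]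
      have h1 := hpow r
      rw [hf, Module.End.one_apply, hr.neg_one_pow, neg_one_smul] at h1
      have h2' : (2 : F) • w = 0 := by
        rw [two_smul]; nth_rewrite 1 [h1]; exact neg_add_cancel w
      exact sub_eq_zero.1 (hw ▸ (smul_eq_zero.1 h2').resolve_left h2)

omit [FiniteDimensional F V] in
theorem finrank_map_add [FiniteDimensional F V] (N : Module.End F V) (S : Submodule F V) :
    finrank F (S.map N) + finrank F (S ⊓ LinearMap.ker N : Submodule F V) = finrank F S := by
  have h := LinearMap.finrank_range_add_finrank_ker (N.domRestrict S)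
  rw [LinearMap.range_domRestrict, LinearMap.ker_domRestrict] at h
  rwa [← (Submodule.equivMapOfInjective _ S.injective_subtype _).symm.finrank_eq, Submodule.map_comap_subtype] at h

/-- The shape of an invariant non-degenerate subspace. -/
theorem inv_shape (hQ : PolarNondeg Q) (hfQ : ∀ v, Q (f v) = Q v) {U : Submodule F V}
    (hU : U = LinearMap.range (f - 1) ⊓ LinearMap.ker (f - 1)) (hUs : ∀ u ∈ U, Q u = 0) {W : Submodule F V}
    (hW : ∀ w ∈ W, f w ∈ W) (hWn : PolarNondeg (res Q W)) :
    ∃ k T σ : ℕ, k + T + σ = finrank F W ∧ finrank F (W ⊓ U : Submodule F V) = T ∧ T ≤ k ∧ 2 * T ≤ finrank F W ∧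
      k + finrank F U ≤ T + finrank F (LinearMap.ker (f - 1)) ∧
      σ ≤ finrank F (LinearMap.range ((f - 1) * (f - 1))) ∧
      finrank F (W ⊓ LinearMap.ker (f - 1) : Submodule F V) = k ∧
      finrank F ((W.map (f - 1)).map (f - 1)) = σ := by
  obtain ⟨N, hN⟩ : ∃ N, N = f - 1 := ⟨_, rfl⟩
  rw [← hN] at hU ⊢
  have hNW : W.map N ≤ W := by
    rintro _ ⟨w, hw, rfl⟩
    rw [hN]
    simpa using W.sub_mem (hW w hw) hw
  have hWQ : ∀ v, res Q W (f.restrict hW v) = res Q W v := fun v => hfQ v
  have hle : W ⊓ U ≤ W.map N := by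
    intro x hx
    have h := le_range_of_perp hWn hWQ (X := Submodule.span F {(⟨x, hx.1⟩ : W)}) (fun a ha b hb => by
      obtain ⟨c, rfl⟩ := Submodule.mem_span_singleton.1 ha
      rw [QuadraticMap.polar_smul_left, polar_res]
      have hbk : (b : V) ∈ LinearMap.ker (f - 1) := by
        have h := congrArg Subtype.val (LinearMap.mem_ker.1 hb)
        simpa [LinearMap.mem_ker] using h
      rw [← perp_range hQ hfQ] at hbk
      have hxr : x ∈ LinearMap.range (f - 1) := by
        have := hx.2
        rw [hU, hN] at this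
        exact this.1
      rw [mem_perp.1 hbk x hxr, smul_zero])
    obtain ⟨y, hy⟩ := h (Submodule.mem_span_singleton_self _)
    exact ⟨y, y.2, by rw [hN]; simpa using congrArg Subtype.val hy⟩
  have hmap : W.map N ⊓ LinearMap.ker N = W ⊓ U := by
    refine le_antisymm (fun x hx => ?_) fun x hx => ⟨hle hx, ?_⟩
    · obtain ⟨⟨w, hw, rfl⟩, hx2⟩ := hx
      exact ⟨hNW ⟨w, hw, rfl⟩, hU ▸ ⟨⟨w, rfl⟩, hx2⟩⟩
    · have := hx.2
      rw [hU] at this
      exact this.2
  have h1 := finrank_map_add N W
  have h2 := finrank_map_add N (W.map N)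
  rw [hmap] at h2
  refine ⟨_, _, _, ?_, rfl, Submodule.finrank_mono (inf_le_inf_left W (hU ▸ inf_le_right)), ?_, ?_, ?_, rfl, rfl⟩
  · omega
  · have h := ts_le_half hWn (U := (W ⊓ U).comap W.subtype) fun u hu => hUs _ hu.2
    rwa [(Submodule.comapSubtypeEquivOfLe (inf_le_left : W ⊓ U ≤ W)).finrank_eq] at h
  · have h := Submodule.finrank_sup_add_finrank_inf_eq (W ⊓ LinearMap.ker N) U
    have hUk : U ≤ LinearMap.ker N := hU ▸ inf_le_right
    rw [show W ⊓ LinearMap.ker N ⊓ U = W ⊓ U by rw [inf_assoc, inf_eq_right.2 hUk]] at h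
    have := Submodule.finrank_mono (sup_le (inf_le_right : W ⊓ LinearMap.ker N ≤ _) hUk)
    omega
  · refine Submodule.finrank_mono ?_
    rintro _ ⟨_, ⟨w, -, rfl⟩, rfl⟩
    exact ⟨w, rfl⟩

/-- The codimension of the fixed space in an invariant subspace is even. -/
theorem inv_parity (hQ : PolarNondeg Q) (hfQ : ∀ v, Q (f v) = Q v) {W : Submodule F V}
    (hW : ∀ w ∈ W, f w ∈ W) (hWn : PolarNondeg (res Q W))
    (h : (∀ v, Q ((f - 1) v) = 0) ∨ (2 : F) ≠ 0 ∧ ∃ r, Odd r ∧ f ^ r = 1) {k : ℕ}
    (hk : k + finrank F (W ⊓ LinearMap.ker (f - 1) : Submodule F V) = finrank F W) : Even k := by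
  have hker : (LinearMap.ker (f.restrict hW - 1)).map W.subtype = W ⊓ LinearMap.ker (f - 1) := by
    ext x
    constructor
    · rintro ⟨y, hy, rfl⟩
      refine ⟨y.2, ?_⟩
      have h := congrArg Subtype.val (LinearMap.mem_ker.1 hy)
      simpa [LinearMap.mem_ker] using h
    · rintro ⟨hx, hx'⟩
      refine ⟨⟨x, hx⟩, LinearMap.mem_ker.2 (Subtype.ext ?_), rfl⟩
      simpa [LinearMap.mem_ker] using hx'
  rw [← hker, ← (Submodule.equivMapOfInjective _ W.injective_subtype _).finrank_eq] at hk
  rcases h with h | ⟨h2, r, hr, hf⟩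
  · refine even_rank_of_singular hWn (fun v => hfQ v) (fun v => ?_) hk
    have := h v
    simpa using this
  · refine even_rank_of_odd h2 hWn (fun v => hfQ v) hr (LinearMap.ext fun v => Subtype.ext ?_) hk
    rw [Module.End.pow_restrict]
    show (f ^ r) (v : V) = v
    rw [hf]
    rfl

variable [Fintype F]

/-- A plane spanned by two orthogonal vectors. -/
theorem sg_pair (h2 : (2 : F) ≠ 0) (hd : finrank F V = 2) {v w : V} (hv : Q v ≠ 0) (hw : Q w ≠ 0)
    (hvw : QuadraticMap.polar Q v w = 0) : PolarNondeg Q ∧ Sg Q (chi (-(Q v * Q w))) := by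
  obtain ⟨hPd, hPn, hPs⟩ := plane_data h2 hv hw hvw
  have htop := Submodule.eq_top_of_finrank_eq (hPd.trans hd.symm)
  have hi : Isom (res Q (Submodule.span F {v, w})) Q :=
    ⟨LinearEquiv.ofTop _ htop, fun _ => rfl⟩
  exact ⟨polarNondeg_of_isom hi hPn, hPs.congr hi⟩

/-- The anisotropic part of an odd-dimensional space is determined up to squares. -/
theorem class_value (h2 : (2 : F) ≠ 0) (hQ : PolarNondeg Q) {t : ℕ} (hn : finrank F V = 2 * t + 1)
    {T T' : Submodule F V} (hT : finrank F T = t) (hTs : ∀ u ∈ T, Q u = 0) (hT' : finrank F T' = t)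
    (hTs' : ∀ u ∈ T', Q u = 0) {z z' : V} (hz : Q z ≠ 0) (hz' : Q z' ≠ 0)
    (hzT : ∀ u ∈ T, QuadraticMap.polar Q z u = 0) (hzT' : ∀ u ∈ T', QuadraticMap.polar Q z' u = 0) :
    chi (Q z * Q z') = 1 := by
  have hline : ∀ (T : Submodule F V), finrank F T = t → (∀ u ∈ T, Q u = 0) → ∀ z, Q z ≠ 0 →
      (∀ u ∈ T, QuadraticMap.polar Q z u = 0) →
      Sg (Q.prod ((-(Q z)) • qLine F)) 1 ∧ PolarNondeg (Q.prod ((-(Q z)) • qLine F)) := by
    intro T hT hTs z hz hzT
    have hL : PolarNondeg ((-(Q z)) • qLine F) := polarNondeg_smul (polarNondeg_qLine h2) (neg_ne_zero.2 hz)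
    have hn' : finrank F (V × (Unit → F)) = 2 * (t + 1) := by simp [Module.finrank_prod, hn]; omega
    have hP := SpOPrime.polar_prod hQ hL
    refine ⟨(sg_one_iff hP (by rw [hn']; exact even_two_mul _)).2 ?_, hP⟩
    refine ⟨T.map (LinearMap.inl F V (Unit → F)) ⊔ Submodule.span F {(z, fun _ => 1)}, ?_, ?_⟩
    · intro x hx
      obtain ⟨_, ⟨a, ha, rfl⟩, b, hb, rfl⟩ := Submodule.mem_sup.1 hx
      obtain ⟨c, rfl⟩ := Submodule.mem_span_singleton.1 hb
      simp only [LinearMap.inl_apply, Prod.smul_mk, Prod.mk_add_mk, QuadraticMap.prod_apply]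
      rw [quad_add, quad_smul, QuadraticMap.polar_smul_right, QuadraticMap.polar_comm Q a z, hzT a ha, hTs a ha]
      simp [qLine]
      ring
    · have hdis : T.map (LinearMap.inl F V (Unit → F)) ⊓ Submodule.span F {(z, fun _ => 1)} = ⊥ := by
        refine eq_bot_iff.2 ?_
        rintro x ⟨⟨a, -, rfl⟩, hb⟩
        obtain ⟨c, hc⟩ := Submodule.mem_span_singleton.1 hb
        have hc0 : c = 0 := by simpa using congrFun (congrArg Prod.snd hc) ()
        rw [hc0, zero_smul] at hc
        rw [← hc]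
        exact zero_mem _
      have h := Submodule.finrank_sup_add_finrank_inf_eq (T.map (LinearMap.inl F V (Unit → F)))
        (Submodule.span F {((z, fun _ => 1) : V × (Unit → F))})
      rw [hdis, finrank_bot, add_zero, finrank_span_singleton (fun h => by simpa using congrFun (congrArg Prod.snd h) ()),
        ← (Submodule.equivMapOfInjective _ LinearMap.inl_injective T).finrank_eq, hT] at h
      rw [h, hn']
  obtain ⟨h1, -⟩ := hline T hT hTs z hz hzT
  obtain ⟨h1', -⟩ := hline T' hT' hTs' z' hz' hzT'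
  obtain ⟨ε, -, hε⟩ := sg_cases (SpOPrime.polar_prod hQ hQ) (by rw [Module.finrank_prod, hn]; exact ⟨_, rfl⟩)
  have hpair : ∀ a b : F, a ≠ 0 → b ≠ 0 → Sg ((a • qLine F).prod (b • qLine F)) (chi (-(a * b))) := fun a b ha hb => by
    have h := (sg_pair (Q := (a • qLine F).prod (b • qLine F)) h2 (by simp [Module.finrank_prod])
      (v := ((fun _ => 1), 0)) (w := (0, fun _ => 1)) (by simpa [qLine] using ha) (by simpa [qLine] using hb)
      (by simp [QuadraticMap.polar, qLine])).2
    simpa [qLine] using h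
  have key : ∀ a b : F, a ≠ 0 → b ≠ 0 → Sg (Q.prod (a • qLine F)) 1 → Sg (Q.prod (b • qLine F)) 1 →
      ε * chi (-(a * b)) = 1 := fun a b ha hb hsa hsb => by
    refine (sg_unique ((hsa.prod hsb).congr ⟨LinearEquiv.prodProdProdComm F _ _ _ _, fun x => ?_⟩)
      (hε.prod (hpair a b ha hb))).symm.trans (one_mul 1)
    simp
    ring
  have hz0 := neg_ne_zero.2 hz
  have k1 := key _ _ hz0 hz0 h1 h1
  have k2 := key _ _ hz0 (neg_ne_zero.2 hz') h1 h1'
  rw [show -(-(Q z) * -(Q z)) = -1 * (Q z * Q z) by ring, chi_mul (neg_ne_zero.2 one_ne_zero) (mul_ne_zero hz hz),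
    chi_sq, mul_one] at k1
  rw [show -(-(Q z) * -(Q z')) = -1 * (Q z * Q z') by ring, chi_mul (neg_ne_zero.2 one_ne_zero) (mul_ne_zero hz hz'),
    ← mul_assoc, k1, one_mul] at k2
  exact k2

end CfsgLib.Classical22.OrthType
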