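/-
Subspaces fixed by involutions of orthogonal groups in characteristic two.
-/
import Cfsg.Agent.Lib.Classical22.OrthTypeInvolution
import Cfsg.Agent.Lib.Classical22.OrthTypeUnipotent

set_option autoImplicit false

namespace CfsgLib.Classical22.OrthType

open CfsgLib.Classical Module

universe u

variable {F : Type u} [Field F]
variable {V : Type u} [AddCommGroup V] [Module F V] [FiniteDimensional F V] {Q : QuadraticForm F V}

/-- An invariant plane or an invariant split space of dimension four. -/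
theorem two_piece (h2 : (2 : F) = 0) (hQ : PolarNondeg Q) {f : Module.End F V} (hf : ∀ v, f (f v) = v)
    (hfQ : ∀ v, Q (f v) = Q v) (hn : 0 < finrank F V) :
    ∃ U : Submodule F V, (∀ u ∈ U, f u ∈ U) ∧ PolarNondeg (res Q U) ∧
      (finrank F U = 2 ∨ (finrank F U = 4 ∧ ∃ T ≤ U, finrank F T = 2 ∧ ∀ u ∈ T, Q u = 0)) := by
  have hpol : ∀ a b, QuadraticMap.polar Q (f a) (f b) = QuadraticMap.polar Q a b := fun a b => by
    simp only [QuadraticMap.polar, ← map_add, hfQ]
  have hself : ∀ a b, QuadraticMap.polar Q (f a) b = QuadraticMap.polar Q a (f b) := fun a b => by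
    rw [← hpol a (f b), hf]
  have hdiag : ∀ a, QuadraticMap.polar Q a a = 0 := fun a => by rw [quad_polar_self, h2, zero_mul]
  -- planes
  have plane : ∀ v w, QuadraticMap.polar Q v w ≠ 0 → f v ∈ Submodule.span F {v, w} → f w ∈ Submodule.span F {v, w} →
      ∃ U : Submodule F V, (∀ u ∈ U, f u ∈ U) ∧ PolarNondeg (res Q U) ∧
      (finrank F U = 2 ∨ (finrank F U = 4 ∧ ∃ T ≤ U, finrank F T = 2 ∧ ∀ u ∈ T, Q u = 0)) := by
    intro v w hvw hv hw
    have hp : ∀ a b : F, QuadraticMap.polar Q (a • v + b • w) w = a * QuadraticMap.polar Q v w ∧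
        QuadraticMap.polar Q (a • v + b • w) v = b * QuadraticMap.polar Q v w := fun a b => by
      simp [QuadraticMap.polar_add_left, QuadraticMap.polar_smul_left, hdiag, QuadraticMap.polar_comm Q w v]
    refine ⟨Submodule.span F {v, w}, fun u hu => ?_, fun x hx => ?_, Or.inl ?_⟩
    · obtain ⟨a, b, rfl⟩ := Submodule.mem_span_pair.1 hu
      rw [map_add, map_smul, map_smul]
      exact add_mem (Submodule.smul_mem _ a hv) (Submodule.smul_mem _ b hw)
    · obtain ⟨a, b, hab⟩ := Submodule.mem_span_pair.1 x.2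
      have h1 := hx ⟨w, Submodule.subset_span (by simp)⟩
      have h1' := hx ⟨v, Submodule.subset_span (by simp)⟩
      rw [polar_res, ← hab, (hp a b).1] at h1
      rw [polar_res, ← hab, (hp a b).2] at h1'
      refine Subtype.ext ?_
      rw [← hab, (mul_eq_zero.1 h1).resolve_right hvw, (mul_eq_zero.1 h1').resolve_right hvw]
      simp
    · rw [show ({v, w} : Set V) = Set.range ![v, w] by simp [Set.pair_comm], finrank_span_eq_card, Fintype.card_fin]
      rw [LinearIndependent.pair_iff]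
      intro a b h
      obtain ⟨h1, h1'⟩ := hp a b
      rw [h, QuadraticMap.polar_zero_left] at h1 h1'
      exact ⟨(mul_eq_zero.1 h1.symm).resolve_right hvw, (mul_eq_zero.1 h1'.symm).resolve_right hvw⟩
  by_cases hA : ∃ v, QuadraticMap.polar Q v (f v) ≠ 0
  · obtain ⟨v, hv⟩ := hA
    exact plane v (f v) hv (Submodule.subset_span (by simp)) (by rw [hf]; exact Submodule.subset_span (by simp))
  push Not at hA
  by_cases hB : ∃ v w, f v = v ∧ f w = w ∧ QuadraticMap.polar Q v w ≠ 0
  · obtain ⟨v, w, hv, hw, hvw⟩ := hB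
    exact plane v w hvw (by rw [hv]; exact Submodule.subset_span (by simp))
      (by rw [hw]; exact Submodule.subset_span (by simp))
  push Not at hB
  obtain ⟨v, hv⟩ : ∃ v, f v - v ≠ 0 := by
    by_contra hcon
    push Not at hcon
    haveI : Nontrivial V := Module.nontrivial_of_finrank_pos (R := F) hn
    obtain ⟨x, hx⟩ := exists_ne (0 : V)
    exact hx (hQ x fun y => hB x y (sub_eq_zero.1 (hcon x)) (sub_eq_zero.1 (hcon y)))
  obtain ⟨w, hw⟩ : ∃ w, QuadraticMap.polar Q (f v - v) w = 1 := by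
    obtain ⟨w', hw'⟩ : ∃ w', QuadraticMap.polar Q (f v - v) w' ≠ 0 := by
      by_contra h
      push Not at h
      exact hv (hQ _ h)
    exact ⟨(QuadraticMap.polar Q (f v - v) w')⁻¹ • w', by
      rw [QuadraticMap.polar_smul_right, smul_eq_mul, inv_mul_cancel₀ hw']⟩
  have hQN : ∀ x, Q (f x - x) = 0 := fun x => by
    have h : QuadraticMap.polar Q x (f x) = 0 := hA x
    rw [sub_eq_add_neg, ← neg_one_smul F x, quad_add, quad_smul, QuadraticMap.polar_smul_right, QuadraticMap.polar_comm,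
      h, hfQ]
    simp only [smul_eq_mul]
    linear_combination (Q x) * h2
  obtain ⟨v', hv'⟩ : ∃ v', v' = f v - v := ⟨_, rfl⟩
  obtain ⟨w', hw''⟩ : ∃ w', w' = f w - w := ⟨_, rfl⟩
  have e1 : QuadraticMap.polar Q v' v = 0 := by
    rw [hv', QuadraticMap.polar_sub_left, QuadraticMap.polar_comm, hA, hdiag, sub_zero]
  have e2 : QuadraticMap.polar Q w' w = 0 := by
    rw [hw'', QuadraticMap.polar_sub_left, QuadraticMap.polar_comm, hA, hdiag, sub_zero]
  have e3 : QuadraticMap.polar Q v' w = 1 := by rw [hv']; exact hw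
  have e4 : QuadraticMap.polar Q w' v = 1 := by
    rw [hw'', QuadraticMap.polar_sub_left, hself, QuadraticMap.polar_comm Q w v, QuadraticMap.polar_comm Q w (f v),
      ← QuadraticMap.polar_sub_left]
    exact hw
  have e5 : QuadraticMap.polar Q v' w' = 0 := by
    have h1 : Q (v' + w') = 0 := by
      rw [show v' + w' = f (v + w) - (v + w) by rw [hv', hw'', map_add]; abel]
      exact hQN _
    rw [QuadraticMap.polar, h1, hv', hw'', hQN, hQN]
    ring
  have hfv : f v = v + v' := by rw [hv']; abel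
  have hfw : f w = w + w' := by rw [hw'']; abel
  have hfv' : f v' = -v' := by rw [hv', map_sub, hf]; abel
  have hfw' : f w' = -w' := by rw [hw'', map_sub, hf]; abel
  obtain ⟨φ, hφ⟩ : ∃ φ : (Fin 4 → F) →ₗ[F] V, ∀ x, φ x = x 0 • v + x 1 • v' + x 2 • w + x 3 • w' :=
    ⟨{ toFun := fun x => x 0 • v + x 1 • v' + x 2 • w + x 3 • w'
       map_add' := fun x y => by simp only [Pi.add_apply, add_smul]; abel
       map_smul' := fun t x => by simp only [Pi.smul_apply, smul_eq_mul, mul_smul, RingHom.id_apply, smul_add] },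
      fun x => rfl⟩
  have hp : ∀ x, QuadraticMap.polar Q (φ x) v' = x 2 ∧ QuadraticMap.polar Q (φ x) w' = x 0 ∧
      QuadraticMap.polar Q (φ x) v = x 2 * QuadraticMap.polar Q w v + x 3 ∧
      QuadraticMap.polar Q (φ x) w = x 0 * QuadraticMap.polar Q v w + x 1 := fun x => by
    simp [hφ, QuadraticMap.polar_add_left, QuadraticMap.polar_smul_left, hdiag, e1, e2, e3, e4, e5,
      QuadraticMap.polar_comm Q v v', QuadraticMap.polar_comm Q w w', QuadraticMap.polar_comm Q w v',
      QuadraticMap.polar_comm Q v w', QuadraticMap.polar_comm Q w' v']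
  have hzero : ∀ x, (∀ y ∈ LinearMap.range φ, QuadraticMap.polar Q (φ x) y = 0) → x = 0 := fun x hx => by
    obtain ⟨p1, p2, p3, p4⟩ := hp x
    rw [hx _ ⟨Pi.single 1 1, by simp [hφ, Pi.single_apply]⟩] at p1
    rw [hx _ ⟨Pi.single 3 1, by simp [hφ, Pi.single_apply]⟩] at p2
    rw [hx _ ⟨Pi.single 0 1, by simp [hφ, Pi.single_apply]⟩, ← p1] at p3
    rw [hx _ ⟨Pi.single 2 1, by simp [hφ, Pi.single_apply]⟩, ← p2] at p4
    funext i
    fin_cases i
    · exact p2.symm
    · simpa using p4.symm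
    · exact p1.symm
    · simpa using p3.symm
  have hinj : Function.Injective φ := (injective_iff_map_eq_zero φ).2 fun x hx => hzero x fun y _ => by
    rw [hx, QuadraticMap.polar_zero_left]
  refine ⟨LinearMap.range φ, ?_, fun x hx => ?_, Or.inr ⟨?_, ?_⟩⟩
  · rintro _ ⟨x, rfl⟩
    refine ⟨![x 0, x 0 - x 1, x 2, x 2 - x 3], ?_⟩
    rw [hφ, hφ, map_add, map_add, map_add, map_smul, map_smul, map_smul, map_smul, hfv, hfw, hfv', hfw']
    simp
    module
  · obtain ⟨y, hy⟩ := x.2
    have : y = 0 := hzero y fun z hz => by rw [hy]; exact hx ⟨z, hz⟩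
    rw [this, map_zero] at hy
    exact Subtype.ext hy.symm
  · rw [LinearMap.finrank_range_of_inj hinj, Module.finrank_fin_fun]
  · refine ⟨Submodule.span F {v', w'}, Submodule.span_le.2 (Set.insert_subset
      ⟨Pi.single 1 1, by simp [hφ, Pi.single_apply]⟩
      (Set.singleton_subset_iff.2 ⟨Pi.single 3 1, by simp [hφ, Pi.single_apply]⟩)), ?_, ?_⟩
    · rw [show ({v', w'} : Set V) = Set.range ![v', w'] by simp [Set.pair_comm], finrank_span_eq_card, Fintype.card_fin]
      rw [LinearIndependent.pair_iff]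
      intro a b h
      have h1 := congrArg (fun x => QuadraticMap.polar Q x w) h
      have h1' := congrArg (fun x => QuadraticMap.polar Q x v) h
      simp [QuadraticMap.polar_add_left, QuadraticMap.polar_smul_left, e1, e2, e3, e4] at h1 h1'
      exact ⟨h1, h1'⟩
    · intro u hu
      obtain ⟨a, b, rfl⟩ := Submodule.mem_span_pair.1 hu
      rw [quad_add, quad_smul, quad_smul, QuadraticMap.polar_smul_left, QuadraticMap.polar_smul_right, e5, hv', hw'',
        hQN, hQN]
      simp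

variable [Fintype F]

/-- An invariant non-degenerate subspace of given dimension and sign. -/
def HasInv (Q : QuadraticForm F V) (f : Module.End F V) (n : ℕ) (ε : ℤ) : Prop :=
  ∃ U : Submodule F V, (∀ u ∈ U, f u ∈ U) ∧ finrank F U = n ∧ PolarNondeg (res Q U) ∧ Sg (res Q U) ε

theorem invol_perp_inv {f : Module.End F V} (hf : ∀ v, f (f v) = v) (hfQ : ∀ v, Q (f v) = Q v) {U : Submodule F V}
    (hU : ∀ u ∈ U, f u ∈ U) : ∀ v ∈ perp Q U, f v ∈ perp Q U :=
  perp_inv (r := 2) two_pos ⟨LinearMap.ext fun v => hf v, hfQ⟩ hU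

theorem perp_sign (hQ : PolarNondeg Q) {U : Submodule F V} (hU : PolarNondeg (res Q U)) {s ε : ℤ}
    (hs : Sg (res Q U) s) (hε : Sg Q ε) : Sg (res Q (perp Q U)) (s * ε) := by
  obtain ⟨-, hFn, hsum⟩ := split_res hQ hU
  have hd := finrank_perp hQ U
  have hev : Even (finrank F (perp Q U)) := (Nat.even_add.1 (by rw [hd]; exact hε.even)).2 hs.even
  obtain ⟨η, -, hη⟩ := sg_cases hFn hev
  have h := sg_unique ((hs.prod hη).congr hsum) hε
  rcases hs.cases hU with rfl | rfl
  · rw [one_mul] at h ⊢; exact h ▸ hη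
  · rw [← h, neg_one_mul, neg_one_mul, neg_neg]; exact hη

theorem hasInv_combine (hQ : PolarNondeg Q) {f : Module.End F V} (hf : ∀ v, f (f v) = v)
    (hfQ : ∀ v, Q (f v) = Q v) {U : Submodule F V} (hU : ∀ u ∈ U, f u ∈ U) (hUn : PolarNondeg (res Q U))
    {n : ℕ} {s t : ℤ} (hs : Sg (res Q U) s)
    (h : HasInv (res Q (perp Q U)) (f.restrict (invol_perp_inv hf hfQ hU)) n t) :
    HasInv Q f n t ∧ HasInv Q f (finrank F U + n) (s * t) := by
  obtain ⟨X, hX, hXd, hXn, hXs⟩ := h
  have hi := isom_map_subtype (Q := Q) (perp Q U) X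
  have hXf : ∀ x ∈ X.map (perp Q U).subtype, f x ∈ X.map (perp Q U).subtype := by
    rintro _ ⟨x, hx, rfl⟩
    exact ⟨_, hX x hx, rfl⟩
  have hd : finrank F (X.map (perp Q U).subtype) = n := by rw [← hi.finrank_eq, hXd]
  obtain ⟨hc, -, -⟩ := split_res hQ hUn
  have hsum := isom_sup hc.disjoint (le_refl U) (Submodule.map_subtype_le (perp Q U) X)
  have hXn' := polarNondeg_of_isom hi hXn
  refine ⟨⟨_, hXf, hd, hXn', hXs.congr hi⟩, ⟨_, fun x hx => ?_, ?_,
    polarNondeg_of_isom hsum (SpOPrime.polar_prod hUn hXn'), (hs.prod (hXs.congr hi)).congr hsum⟩⟩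
  · obtain ⟨a, ha, b, hb, rfl⟩ := Submodule.mem_sup.1 hx
    rw [map_add]
    exact Submodule.add_mem_sup (hU a ha) (hXf b hb)
  · rw [← hsum.finrank_eq, Module.finrank_prod, hd]

theorem hasInv_plane_and_four (h2 : (2 : F) = 0) : ∀ (d : ℕ) {V : Type u} [AddCommGroup V] [Module F V]
    [FiniteDimensional F V] (Q : QuadraticForm F V) (f : Module.End F V) (ε : ℤ), PolarNondeg Q →
    (∀ v, f (f v) = v) → (∀ v, Q (f v) = Q v) → Sg Q ε → finrank F V = 2 * d →
    ((ε = 1 ∧ Odd d ∨ ε = -1) → HasInv Q f 2 ε) ∧ ((ε = 1 ∧ 2 ≤ d ∨ 3 ≤ d) → HasInv Q f 4 1) := by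
  intro d
  induction d using Nat.strong_induction_on with
  | _ d ih =>
    intro V _ _ _ Q f ε hQ hf hfQ hε hn
    have hεpm := hε.cases hQ
    by_cases hd0 : d = 0
    · subst hd0
      have h1 := sg_unique hε (sg_subsingleton Q (by omega))
      subst h1
      simp
    obtain ⟨U, hU, hUn, hUd⟩ := two_piece h2 hQ hf hfQ (by omega)
    obtain ⟨-, hPn, -⟩ := split_res hQ hUn
    have hPd := finrank_perp hQ U
    obtain ⟨s, hspm, hs⟩ := sg_cases hUn (by rcases hUd with h | ⟨h, -⟩ <;> rw [h] <;> decide)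
    have hP := perp_sign hQ hUn hs hε
    have hP' : ∀ e, 2 * e = finrank F (perp Q U) → e < d →
        ((s * ε = 1 ∧ Odd e ∨ s * ε = -1) → HasInv (res Q (perp Q U)) (f.restrict (invol_perp_inv hf hfQ hU)) 2 (s * ε)) ∧
        ((s * ε = 1 ∧ 2 ≤ e ∨ 3 ≤ e) → HasInv (res Q (perp Q U)) (f.restrict (invol_perp_inv hf hfQ hU)) 4 1) :=
      fun e he hlt => ih e hlt _ _ (s * ε) hPn (fun v => Subtype.ext (hf v)) (fun v => hfQ v) hP he.symm
    rcases hUd with hU2 | ⟨hU4, T, hTU, hTd, hTs⟩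
    · obtain ⟨e, rfl⟩ : ∃ e, d = e + 1 := ⟨d - 1, by omega⟩
      obtain ⟨hp2, hp4⟩ := hP' e (by omega) (by omega)
      have hself : HasInv Q f 2 s := ⟨U, hU, hU2, hUn, hs⟩
      have hpe : s * ε = -1 → 0 < e := fun h => Nat.pos_of_ne_zero fun h0 => by
        subst h0
        have := sg_unique hP (sg_subsingleton _ (by omega))
        omega
      have key : (ε = 1 ∧ Odd (e + 1) ∨ ε = -1) → HasInv Q f 2 ε := by
        intro hc
        rcases hspm with rfl | rfl <;> rcases hεpm with rfl | rfl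
        · exact hself
        · exact (hasInv_combine hQ hf hfQ hU hUn hs (hp2 (Or.inr (by norm_num)))).1
        · have hodd : Odd (e + 1) := (hc.resolve_right (by norm_num)).2
          obtain ⟨W, hW, hWd, hWn, hWs⟩ := (hasInv_combine hQ hf hfQ hU hUn hs (hp2 (Or.inr (by norm_num)))).2
          obtain ⟨-, hFn, -⟩ := split_res hQ hWn
          have hFd := finrank_perp hQ W
          have hF := perp_sign hQ hWn hWs hε
          have hep := hpe (by norm_num)
          obtain ⟨e', rfl⟩ : ∃ e', e = e' + 1 := ⟨e - 1, by omega⟩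
          obtain ⟨g2, -⟩ := ih e' (by omega) _ (f.restrict (invol_perp_inv hf hfQ hW)) _ hFn
            (fun v => Subtype.ext (hf v)) (fun v => hfQ v) hF (by rw [hU2] at hWd; omega)
          have hoe : Odd e' := by
            obtain ⟨a, ha⟩ := hodd
            exact ⟨a - 1, by omega⟩
          have := (hasInv_combine hQ hf hfQ hW hWn hWs (g2 (Or.inl ⟨by norm_num, hoe⟩))).1
          simpa using this
        · exact hself
      refine ⟨key, fun hc => ?_⟩
      rcases hεpm with rfl | rfl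
      · have hd2 : 2 ≤ e + 1 := by rcases hc with ⟨-, h⟩ | h <;> omega
        rw [mul_one] at hp2 hp4 hpe
        rcases Nat.even_or_odd e with he | he
        · obtain ⟨W, hW, hWd, hWn, hWs⟩ := key (Or.inl ⟨rfl, he.add_one⟩)
          obtain ⟨-, hFn, -⟩ := split_res hQ hWn
          have hFd := finrank_perp hQ W
          obtain ⟨-, g4⟩ := ih e (by omega) _ (f.restrict (invol_perp_inv hf hfQ hW)) _ hFn
            (fun v => Subtype.ext (hf v)) (fun v => hfQ v) (perp_sign hQ hWn hWs hε) (by omega)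
          obtain ⟨a, ha⟩ := he
          exact (hasInv_combine hQ hf hfQ hW hWn hWs (g4 (Or.inl ⟨by norm_num, by omega⟩))).1
        · have h := (hasInv_combine hQ hf hfQ hU hUn hs (hp2 (by
            rcases hspm with rfl | rfl
            · exact Or.inl ⟨rfl, he⟩
            · exact Or.inr rfl))).2
          rw [hU2] at h
          have hss : s * s = 1 := by rcases hspm with rfl | rfl <;> norm_num
          rwa [hss] at h
      · have hd3 : 3 ≤ e + 1 := by
          rcases hc with ⟨h, -⟩ | h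
          · norm_num at h
          · exact h
        obtain ⟨W, hW, hWd, hWn, hWs⟩ := key (Or.inr rfl)
        obtain ⟨-, hFn, -⟩ := split_res hQ hWn
        have hFd := finrank_perp hQ W
        obtain ⟨-, g4⟩ := ih e (by omega) _ (f.restrict (invol_perp_inv hf hfQ hW)) _ hFn
          (fun v => Subtype.ext (hf v)) (fun v => hfQ v) (perp_sign hQ hWn hWs hε) (by omega)
        exact (hasInv_combine hQ hf hfQ hW hWn hWs (g4 (Or.inl ⟨by norm_num, by omega⟩))).1
    · have hs1 := sg_unique hs ((sg_one_iff hUn hs.even).2 ⟨T.comap U.subtype, fun u hu => hTs _ hu, by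
        rw [(Submodule.comapSubtypeEquivOfLe hTU).finrank_eq, hTd, hU4]⟩)
      subst hs1
      refine ⟨fun hc => ?_, fun _ => ⟨U, hU, hU4, hUn, hs⟩⟩
      obtain ⟨e, rfl⟩ : ∃ e, d = e + 2 := ⟨d - 2, by omega⟩
      obtain ⟨hp2, -⟩ := hP' e (by omega) (by omega)
      have h := (hasInv_combine hQ hf hfQ hU hUn hs (hp2 (by
        rw [one_mul]
        rcases hc with ⟨h, ho⟩ | h
        · exact Or.inl ⟨h, by obtain ⟨a, ha⟩ := ho; exact ⟨a - 1, by omega⟩⟩
        · exact Or.inr h))).1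
      rwa [one_mul] at h

/-- Split invariant subspaces of dimension divisible by four. -/
theorem hasInv_units (h2 : (2 : F) = 0) : ∀ (j : ℕ) {V : Type u} [AddCommGroup V] [Module F V]
    [FiniteDimensional F V] (Q : QuadraticForm F V) (f : Module.End F V) (ε : ℤ) (d : ℕ), PolarNondeg Q →
    (∀ v, f (f v) = v) → (∀ v, Q (f v) = Q v) → Sg Q ε → finrank F V = 2 * d →
    (ε = 1 ∧ 2 * j ≤ d ∨ 2 * j < d) → HasInv Q f (4 * j) 1 := by
  intro j
  induction j with
  | zero =>
    intro V _ _ _ Q f ε d _ _ _ _ _ _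
    exact ⟨⊥, fun u hu => by rw [(Submodule.mem_bot F).1 hu, map_zero]; exact zero_mem _, finrank_bot F V,
      fun x _ => Subsingleton.elim _ _, sg_subsingleton _ (finrank_bot F V)⟩
  | succ j ih =>
    intro V _ _ _ Q f ε d hQ hf hfQ hε hn hj
    obtain ⟨W, hW, hWd, hWn, hWs⟩ := (hasInv_plane_and_four h2 d Q f ε hQ hf hfQ hε hn).2 (by
      rcases hj with ⟨h, hj⟩ | hj
      · exact Or.inl ⟨h, by omega⟩
      · exact Or.inr (by omega))
    obtain ⟨-, hFn, -⟩ := split_res hQ hWn
    have hFd := finrank_perp hQ W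
    have hF := perp_sign hQ hWn hWs hε
    rw [one_mul] at hF
    have h := (hasInv_combine hQ hf hfQ hW hWn hWs (ih _ (f.restrict (invol_perp_inv hf hfQ hW)) ε (d - 2) hFn
      (fun v => Subtype.ext (hf v)) (fun v => hfQ v) hF (by omega) (by
        rcases hj with ⟨h, hj⟩ | hj
        · exact Or.inl ⟨h, by omega⟩
        · exact Or.inr (by omega)))).2
    rw [hWd, one_mul, show 4 + 4 * j = 4 * (j + 1) by ring] at h
    exact h

/-- Subspaces of the same sign as the space. -/
theorem hasInv_same_sign (h2 : (2 : F) = 0) (hQ : PolarNondeg Q) {f : Module.End F V} (hf : ∀ v, f (f v) = v)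
    (hfQ : ∀ v, Q (f v) = Q v) {ε : ℤ} (hε : Sg Q ε) {d k : ℕ} (hn : finrank F V = 2 * d) (hk : 1 ≤ k)
    (hkd : k < d) (hc : ε = 1 ∧ (Odd d ∨ Even k) ∨ ε = -1 ∧ (Even d ∨ Odd k)) : HasInv Q f (2 * k) ε := by
  rcases Nat.even_or_odd k with ⟨j, hj⟩ | ⟨j, hj⟩
  · rcases hc with ⟨rfl, -⟩ | ⟨rfl, hc⟩
    · have := hasInv_units h2 j Q f 1 d hQ hf hfQ hε hn (Or.inl ⟨rfl, by omega⟩)
      rwa [show 4 * j = 2 * k by omega] at this
    · have hde : Even d := hc.resolve_right (Nat.not_odd_iff_even.2 ⟨j, hj⟩)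
      obtain ⟨W, hW, hWd, hWn, hWs⟩ := (hasInv_plane_and_four h2 d Q f (-1) hQ hf hfQ hε hn).1 (Or.inr rfl)
      obtain ⟨-, hFn, -⟩ := split_res hQ hWn
      have hFd := finrank_perp hQ W
      have hF := perp_sign hQ hWn hWs hε
      have hodd : Odd (d - 1) := by
        obtain ⟨a, ha⟩ := hde
        exact ⟨a - 1, by omega⟩
      obtain ⟨P, hP, hPd, hPn, hPs⟩ := (hasInv_plane_and_four h2 (d - 1) _ (f.restrict (invol_perp_inv hf hfQ hW))
        ((-1) * (-1)) hFn (fun v => Subtype.ext (hf v)) (fun v => hfQ v) hF (by omega)).1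
        (Or.inl ⟨by norm_num, hodd⟩)
      obtain ⟨X, hX, hXd, hXn, hXs⟩ := (hasInv_combine hQ hf hfQ hW hWn hWs ⟨P, hP, hPd, hPn, hPs⟩).2
      obtain ⟨-, hGn, -⟩ := split_res hQ hXn
      have hGd := finrank_perp hQ X
      have hG := perp_sign hQ hXn hXs hε
      have h := (hasInv_combine hQ hf hfQ hX hXn hXs (hasInv_units h2 (j - 1) _ (f.restrict (invol_perp_inv hf hfQ hX))
        _ (d - 2) hGn (fun v => Subtype.ext (hf v)) (fun v => hfQ v) hG (by omega)
        (Or.inl ⟨by norm_num, by omega⟩))).2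
      rw [hXd, hWd, show 2 + 2 + 4 * (j - 1) = 2 * k by omega] at h
      simpa using h
  · obtain ⟨W, hW, hWd, hWn, hWs⟩ := (hasInv_plane_and_four h2 d Q f ε hQ hf hfQ hε hn).1 (by
      rcases hc with ⟨rfl, hc⟩ | ⟨rfl, -⟩
      · exact Or.inl ⟨rfl, hc.resolve_right (Nat.not_even_iff_odd.2 ⟨j, hj⟩)⟩
      · exact Or.inr rfl)
    obtain ⟨-, hFn, -⟩ := split_res hQ hWn
    have hFd := finrank_perp hQ W
    have hF := perp_sign hQ hWn hWs hε
    have hεε : ε * ε = 1 := by rcases hε.cases hQ with rfl | rfl <;> norm_num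
    have h := (hasInv_combine hQ hf hfQ hW hWn hWs (hasInv_units h2 j _ (f.restrict (invol_perp_inv hf hfQ hW))
      _ (d - 1) hFn (fun v => Subtype.ext (hf v)) (fun v => hfQ v) hF (by omega)
      (Or.inl ⟨hεε, by omega⟩))).2
    rw [hWd, show 2 + 4 * j = 2 * k by omega, mul_one] at h
    exact h

/-- Involutions of characteristic two, modulo scalars. -/
theorem two_char_two (h2 : (2 : F) = 0) (hQ : PolarNondeg Q) {ε : ℤ} (hε : Sg Q ε) {d k : ℕ}
    (hn : finrank F V = 2 * d) (hk : 1 ≤ k) (hkd : k < d)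
    (hc : ε = 1 ∧ (Odd d ∨ Even k) ∨ ε = -1 ∧ (Even d ∨ Odd k)) (g : qAut Q) {z : F}
    (hz : ∀ v, (g ^ 2).1 v = z • v) :
    ∃ W : Submodule F V, (finrank F W = 2 * k ∧ PolarNondeg (res Q W) ∧ Sg (res Q W) ε) ∧ ∀ w ∈ W, g.1 w ∈ W := by
  haveI : Nontrivial V := Module.nontrivial_of_finrank_pos (R := F) (by omega)
  have hgg : ∀ v, g.1 (g.1 v) = v := fun v => by
    have h : g.1 (g.1 v) = z • v := by rw [← hz, sq]; rfl
    rw [h]
    have hzz := scalar_sq hQ (z := z) fun v => by rw [← hz, qAut_map]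
    have : (z - 1) * (z - 1) = 0 := by linear_combination hzz - (z - 1) * h2
    rw [sub_eq_zero.1 (mul_self_eq_zero.1 this), one_smul]
  obtain ⟨W, hW, h⟩ := hasInv_same_sign (f := g.1.toLinearMap) h2 hQ hgg (fun v => qAut_map g v) hε hn hk hkd hc
  exact ⟨W, h, hW⟩

end CfsgLib.Classical22.OrthType
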