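/-
The number of totally singular subspaces of a given dimension is congruent to one modulo the characteristic.
-/
import Cfsg.Agent.Lib.Classical22.OrthTypeEmbed
import Mathlib.LinearAlgebra.QuadraticForm.Basis
import Mathlib.FieldTheory.ChevalleyWarning

set_option autoImplicit false

namespace CfsgLib.Classical22.OrthType

open CfsgLib.Classical Module

universe u

variable {F : Type u} [Field F] [Fintype F]
variable {V : Type u} [AddCommGroup V] [Module F V] [FiniteDimensional F V] {Q : QuadraticForm F V}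

omit [Fintype F] in
/-- The coordinate polynomial of a quadratic form. -/
theorem exists_quad_poly (Q : QuadraticForm F V) (b : Basis (Fin (finrank F V)) F V) :
    ∃ f : MvPolynomial (Fin (finrank F V)) F, f.totalDegree ≤ 2 ∧
      ∀ x, MvPolynomial.eval x f = Q (b.equivFun.symm x) := by
  obtain ⟨B, hB⟩ := LinearMap.BilinMap.toQuadraticMap_surjective Q
  refine ⟨∑ i, ∑ j, MvPolynomial.C (B (b i) (b j)) * (MvPolynomial.X i * MvPolynomial.X j), ?_, fun x => ?_⟩
  · refine MvPolynomial.totalDegree_finsetSum_le fun i _ => MvPolynomial.totalDegree_finsetSum_le fun j _ => ?_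
    refine (MvPolynomial.totalDegree_mul _ _).trans ?_
    rw [MvPolynomial.totalDegree_C, zero_add]
    refine (MvPolynomial.totalDegree_mul _ _).trans ?_
    rw [MvPolynomial.totalDegree_X, MvPolynomial.totalDegree_X]
  · simp only [map_sum, map_mul, MvPolynomial.eval_C, MvPolynomial.eval_X]
    rw [← hB, LinearMap.BilinMap.toQuadraticMap_apply, Basis.equivFun_symm_apply]
    simp only [map_sum, map_smul, LinearMap.sum_apply, LinearMap.smul_apply, smul_eq_mul, Finset.mul_sum]
    rw [Finset.sum_comm]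
    exact Finset.sum_congr rfl fun i _ => Finset.sum_congr rfl fun j _ => by ring

/-- The number of zeros of a quadratic form in at least three variables vanishes in the field. -/
theorem zeros_cast (Q : QuadraticForm F V) (hn : 3 ≤ finrank F V) :
    ((Nat.card {v : V // Q v = 0} : ℕ) : F) = 0 := by
  classical
  obtain ⟨p, hp⟩ := CharP.exists F
  haveI := Fact.mk (CharP.char_is_prime F p)
  obtain ⟨b⟩ : Nonempty (Basis (Fin (finrank F V)) F V) := ⟨Module.finBasis F V⟩
  obtain ⟨f, hf, hev⟩ := exists_quad_poly Q b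
  have h := char_dvd_card_solutions p (f := f) (by rw [Fintype.card_fin]; omega)
  rw [← Nat.card_eq_fintype_card,
    Nat.card_congr (b.equivFun.symm.toEquiv.subtypeEquiv (q := fun v => Q v = 0) fun x => by
      rw [hev]; rfl)] at h
  exact (CharP.cast_eq_zero_iff F p _).2 h

/-- The totally singular subspaces of dimension `m`. -/
def tsSet (Q : QuadraticForm F V) (m : ℕ) : Set (Submodule F V) := {U | finrank F U = m ∧ ∀ u ∈ U, Q u = 0}

omit [Fintype F] [FiniteDimensional F V] in
theorem ts_polar {U : Submodule F V} (hU : ∀ u ∈ U, Q u = 0) {a b : V} (ha : a ∈ U) (hb : b ∈ U) :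
    QuadraticMap.polar Q a b = 0 := by
  simp [QuadraticMap.polar, hU _ ha, hU _ hb, hU _ (U.add_mem ha hb)]

/-- The subspaces through a singular vector are those of a space of dimension two less. -/
theorem exists_through (hQ : PolarNondeg Q) {v : V} (hv : v ≠ 0) (hv0 : Q v = 0) (m : ℕ) :
    ∃ D : Submodule F V, PolarNondeg (res Q D) ∧ finrank F D + 2 = finrank F V ∧
      Nat.card {U // U ∈ tsSet Q (m + 1) ∧ v ∈ U} = Nat.card {U // U ∈ tsSet (res Q D) m} := by
  obtain ⟨w, hvw, hw0⟩ : ∃ w, QuadraticMap.polar Q v w = 1 ∧ Q w = 0 := by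
    obtain ⟨w', hw'⟩ : ∃ w', QuadraticMap.polar Q v w' ≠ 0 := by
      by_contra h
      push Not at h
      exact hv (hQ v h)
    obtain ⟨w, hw⟩ : ∃ w, QuadraticMap.polar Q v w = 1 :=
      ⟨(QuadraticMap.polar Q v w')⁻¹ • w', by
        rw [QuadraticMap.polar_smul_right, smul_eq_mul, inv_mul_cancel₀ hw']⟩
    refine ⟨w + (-Q w) • v, ?_, ?_⟩
    · rw [QuadraticMap.polar_add_right, QuadraticMap.polar_smul_right, quad_polar_self, hv0, hw]
      simp
    · rw [quad_add, quad_smul, QuadraticMap.polar_smul_right, QuadraticMap.polar_comm Q w v, hv0, hw]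
      simp only [smul_eq_mul]
      ring
  have hvv : QuadraticMap.polar Q v v = 0 := by rw [quad_polar_self, hv0, mul_zero]
  have hwv : QuadraticMap.polar Q w v = 1 := by rw [QuadraticMap.polar_comm]; exact hvw
  have hww : QuadraticMap.polar Q w w = 0 := by rw [quad_polar_self, hw0, mul_zero]
  obtain ⟨X, hX⟩ : ∃ X, X = Submodule.span F {v, w} := ⟨_, rfl⟩
  have hp : ∀ a b : F, QuadraticMap.polar Q (a • v + b • w) v = b ∧ QuadraticMap.polar Q (a • v + b • w) w = a :=
    fun a b => by
    simp [QuadraticMap.polar_add_left, QuadraticMap.polar_smul_left, hvv, hwv, hvw, hww]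
  have hXd : finrank F X = 2 := by
    rw [hX, show ({v, w} : Set V) = Set.range ![v, w] by simp [Set.pair_comm], finrank_span_eq_card, Fintype.card_fin]
    rw [LinearIndependent.pair_iff]
    intro a b h
    obtain ⟨h1, h2⟩ := hp a b
    rw [h, QuadraticMap.polar_zero_left] at h1 h2
    exact ⟨h2.symm, h1.symm⟩
  have hXn : PolarNondeg (res Q X) := fun x hx => by
    obtain ⟨a, b, hab⟩ := Submodule.mem_span_pair.1 (hX ▸ x.2 : (x : V) ∈ Submodule.span F {v, w})
    have h1 := hx ⟨v, hX ▸ Submodule.subset_span (by simp)⟩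
    have h2 := hx ⟨w, hX ▸ Submodule.subset_span (by simp)⟩
    rw [polar_res, ← hab] at h1 h2
    rw [(hp a b).1] at h1
    rw [(hp a b).2] at h2
    refine Subtype.ext ?_
    rw [← hab, h1, h2]
    simp
  obtain ⟨hc, hDn, -⟩ := split_res hQ hXn
  have hDd := finrank_perp hQ X
  refine ⟨perp Q X, hDn, by omega, ?_⟩
  have hDv : ∀ x ∈ perp Q X, QuadraticMap.polar Q v x = 0 := fun x hx =>
    mem_perp.1 hx v (hX ▸ Submodule.subset_span (by simp))
  have hDw : ∀ x ∈ perp Q X, QuadraticMap.polar Q w x = 0 := fun x hx =>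
    mem_perp.1 hx w (hX ▸ Submodule.subset_span (by simp))
  have hin : ∀ U : Submodule F V, (∀ u ∈ U, Q u = 0) → v ∈ U → ∀ u ∈ U,
      u - QuadraticMap.polar Q w u • v ∈ perp Q X := fun U hU hvU u hu => mem_perp.2 fun x hx => by
    rw [hX] at hx
    obtain ⟨a, b, rfl⟩ := Submodule.mem_span_pair.1 hx
    simp [sub_eq_add_neg, QuadraticMap.polar_add_right, QuadraticMap.polar_add_left, QuadraticMap.polar_smul_left,
      QuadraticMap.polar_smul_right, QuadraticMap.polar_neg_right, hvv, hwv, ts_polar hU hvU hu, mul_comm]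
  have hfr : ∀ U' : Submodule F (perp Q X),
      finrank F (Submodule.span F {v} ⊔ U'.map (perp Q X).subtype : Submodule F V) = finrank F U' + 1 := by
    intro U'
    have hdis : Submodule.span F {v} ⊓ U'.map (perp Q X).subtype = ⊥ := by
      refine eq_bot_iff.2 fun x hx => ?_
      obtain ⟨a, rfl⟩ := Submodule.mem_span_singleton.1 hx.1
      obtain ⟨y, -, hy⟩ := hx.2
      have h := hDw _ (hy ▸ y.2 : a • v ∈ perp Q X)
      rw [QuadraticMap.polar_smul_right, hwv, smul_eq_mul, mul_one] at h
      simp [h]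
    have h := Submodule.finrank_sup_add_finrank_inf_eq (Submodule.span F {v}) (U'.map (perp Q X).subtype)
    rw [hdis, finrank_bot, add_zero, finrank_span_singleton hv,
      ← (Submodule.equivMapOfInjective _ (perp Q X).injective_subtype U').finrank_eq] at h
    omega
  refine Nat.card_congr
    { toFun := fun U => ⟨U.1.comap (perp Q X).subtype, ?_, fun u hu => U.2.1.2 _ hu⟩
      invFun := fun U' => ⟨Submodule.span F {v} ⊔ U'.1.map (perp Q X).subtype, ⟨?_, ?_⟩,
        Submodule.mem_sup_left (Submodule.mem_span_singleton_self v)⟩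
      left_inv := fun U => Subtype.ext ?_
      right_inv := fun U' => Subtype.ext ?_ }
  · have h := hfr (U.1.comap (perp Q X).subtype)
    have hle : Submodule.span F {v} ⊔ (U.1.comap (perp Q X).subtype).map (perp Q X).subtype = U.1 := by
      refine le_antisymm (sup_le ((Submodule.span_singleton_le_iff_mem _ _).2 U.2.2) (Submodule.map_comap_le _ _))
        fun u hu => Submodule.mem_sup.2 ⟨_, Submodule.smul_mem _ (QuadraticMap.polar Q w u)
          (Submodule.mem_span_singleton_self v), _, ⟨⟨_, hin U.1 U.2.1.2 U.2.2 u hu⟩,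
            U.1.sub_mem hu (U.1.smul_mem _ U.2.2), rfl⟩, add_sub_cancel _ _⟩
    rw [hle, U.2.1.1] at h
    omega
  · rw [hfr, U'.2.1]
  · intro x hx
    obtain ⟨y, hy, z, ⟨t, ht, rfl⟩, rfl⟩ := Submodule.mem_sup.1 hx
    obtain ⟨a, rfl⟩ := Submodule.mem_span_singleton.1 hy
    have h1 : Q (t : V) = 0 := U'.2.2 t ht
    rw [quad_add, quad_smul, Submodule.subtype_apply, QuadraticMap.polar_smul_left, hv0, h1, hDv _ t.2]
    simp
  · refine le_antisymm (sup_le ((Submodule.span_singleton_le_iff_mem _ _).2 U.2.2) (Submodule.map_comap_le _ _))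
      fun u hu => Submodule.mem_sup.2 ⟨_, Submodule.smul_mem _ (QuadraticMap.polar Q w u)
        (Submodule.mem_span_singleton_self v), _, ⟨⟨_, hin U.1 U.2.1.2 U.2.2 u hu⟩,
          U.1.sub_mem hu (U.1.smul_mem _ U.2.2), rfl⟩, add_sub_cancel _ _⟩
  · refine le_antisymm (fun x hx => ?_) fun x hx => Submodule.mem_sup_right ⟨x, hx, rfl⟩
    obtain ⟨y, hy, z, ⟨t, ht, rfl⟩, hyz⟩ := Submodule.mem_sup.1 hx
    obtain ⟨a, rfl⟩ := Submodule.mem_span_singleton.1 hy
    have h := congrArg (QuadraticMap.polar Q w) hyz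
    simp [QuadraticMap.polar_add_right, QuadraticMap.polar_smul_right, hwv, hDw _ t.2, hDw _ x.2] at h
    rw [h, zero_smul, zero_add] at hyz
    have htx : t = x := Subtype.ext hyz
    rwa [← htx]

/-- The number of totally singular subspaces of dimension `m` is one in the field. -/
theorem ts_card_cast : ∀ (m : ℕ) {V : Type u} [AddCommGroup V] [Module F V] [FiniteDimensional F V]
    (Q : QuadraticForm F V), PolarNondeg Q → 2 * m < finrank F V →
    ((Nat.card {U // U ∈ tsSet Q m} : ℕ) : F) = 1 := by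
  intro m
  induction m with
  | zero =>
    intro V _ _ _ Q _ _
    have : ∀ U : Submodule F V, U ∈ tsSet Q 0 ↔ U = ⊥ := fun U =>
      ⟨fun h => Submodule.finrank_eq_zero.1 h.1, fun h => ⟨by rw [h, finrank_bot], fun u hu => by
        rw [h, Submodule.mem_bot] at hu; rw [hu, map_zero]⟩⟩
    rw [Nat.card_congr (Equiv.subtypeEquivRight this)]
    simp
  | succ m ih =>
    intro V _ _ _ Q hQ hm
    classical
    haveI : Finite V := Module.finite_of_finite F
    haveI := Fintype.ofFinite V
    haveI := Fintype.ofFinite (Submodule F V)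
    have hone : ∀ v : V, v ≠ 0 → Q v = 0 →
        ((Nat.card {U // U ∈ tsSet Q (m + 1) ∧ v ∈ U} : ℕ) : F) = 1 := fun v hv hv0 => by
      obtain ⟨D, hDn, hDd, hD⟩ := exists_through hQ hv hv0 m
      rw [hD]
      exact ih (res Q D) hDn (by omega)
    have hU : ∀ U ∈ tsSet Q (m + 1),
        (∑ v : V, if v ∈ U ∧ v ≠ 0 then (1 : F) else 0) = -1 := fun U hU => by
      rw [Finset.sum_boole, show (Finset.univ.filter fun v => v ∈ U ∧ v ≠ 0) =
        (Finset.univ.filter fun v => v ∈ U).erase 0 by ext; simp [and_comm], Finset.card_erase_of_mem (by simp)]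
      have hc : (Finset.univ.filter fun v => v ∈ U).card = Fintype.card F ^ (m + 1) := by
        rw [← Fintype.card_subtype, Module.card_eq_pow_finrank (K := F), hU.1]
      rw [hc, Nat.cast_sub (Nat.one_le_pow _ _ Fintype.card_pos), Nat.cast_pow, FiniteField.cast_card_eq_zero,
        zero_pow (Nat.succ_ne_zero m)]
      simp
    have hv : ∀ v : V, (∑ U ∈ Finset.univ.filter (· ∈ tsSet Q (m + 1)), if v ∈ U ∧ v ≠ 0 then (1 : F) else 0) =
        if v ≠ 0 ∧ Q v = 0 then 1 else 0 := fun v => by
      by_cases h : v ≠ 0 ∧ Q v = 0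
      · rw [if_pos h, Finset.sum_boole, Finset.filter_filter, ← Fintype.card_subtype, ← Nat.card_eq_fintype_card]
        rw [← hone v h.1 h.2]
        exact congrArg _ (Nat.card_congr (Equiv.subtypeEquivRight fun U => by simp [h.1]))
      · rw [if_neg h]
        exact Finset.sum_eq_zero fun U hU => if_neg fun hvU =>
          h ⟨hvU.2, (Finset.mem_filter.1 hU).2.2 v hvU.1⟩
    haveI : Nonempty {v : V // Q v = 0} := ⟨⟨0, map_zero Q⟩⟩
    have hsum := Finset.sum_comm (s := Finset.univ.filter (· ∈ tsSet Q (m + 1))) (t := (Finset.univ : Finset V))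
      (f := fun U v => if v ∈ U ∧ v ≠ 0 then (1 : F) else 0)
    rw [Finset.sum_congr rfl fun U hU' => hU U (Finset.mem_filter.1 hU').2,
      Finset.sum_congr rfl fun v _ => hv v, Finset.sum_const, nsmul_eq_mul, Finset.sum_boole,
      show (Finset.univ.filter fun v => v ≠ 0 ∧ Q v = 0) = (Finset.univ.filter fun v => Q v = 0).erase 0 by
        ext; simp [and_comm], Finset.card_erase_of_mem (by simp), ← Fintype.card_subtype, ← Fintype.card_subtype,
      ← Nat.card_eq_fintype_card, ← Nat.card_eq_fintype_card, Nat.cast_sub (Nat.one_le_iff_ne_zero.2 (Nat.card_pos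
        (α := {v : V // Q v = 0})).ne'), zeros_cast Q (by omega)] at hsum
    simp at hsum
    simpa using hsum

/-- The characteristic does not divide the number of totally singular subspaces. -/
theorem ts_not_dvd (hQ : PolarNondeg Q) {p : ℕ} [CharP F p] {m : ℕ} (hm : 2 * m < finrank F V) :
    ¬ p ∣ Nat.card {U : Submodule F V // finrank F U = m ∧ ∀ u ∈ U, Q u = 0} := fun h => by
  have h1 := ts_card_cast m Q hQ hm
  have h2 : ((Nat.card {U // U ∈ tsSet Q m} : ℕ) : F) = 0 := (CharP.cast_eq_zero_iff F p _).2 h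
  exact zero_ne_one (h2.symm.trans h1)

end CfsgLib.Classical22.OrthType
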