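/-
Elements of order two modulo scalars and their invariant subspaces, odd characteristic.
-/
import Cfsg.Agent.Lib.Classical22.OrthTypeInvolution

set_option autoImplicit false

namespace CfsgLib.Classical22.OrthType

open CfsgLib.Classical Module

universe u

variable {F : Type u} [Field F] [Fintype F]

theorem eta_pow_even {k : ℕ} (hk : Even k) : eta F ^ k = 1 := by
  obtain ⟨j, rfl⟩ := hk
  rcases eta_pm (F := F) with h | h <;> simp [h, ← two_mul, pow_mul]

theorem eta_pow_odd {k : ℕ} (hk : Odd k) : eta F ^ k = eta F := by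
  obtain ⟨j, rfl⟩ := hk
  rw [pow_succ, eta_pow_even (even_two_mul j), one_mul]

theorem eta_eq_neg_iff : eta F = -1 ↔ ¬ IsSquare (-1 : F) := by
  rw [← chi_eq_one, ← eta]
  rcases eta_pm (F := F) with h | h <;> simp [h]

variable {V : Type u} [AddCommGroup V] [Module F V] [FiniteDimensional F V] {Q : QuadraticForm F V}

/-- The two kinds of elements of order two modulo scalars. -/
theorem two_scalar_iff (h2 : (2 : F) ≠ 0) (hQ : PolarNondeg Q) (hn : 5 ≤ finrank F V) (P : Submodule F V → Prop) :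
    (∀ g : qAut Q, g ∈ commutator (qAut Q) → (∃ z : F, ∀ v, (g ^ 2).1 v = z • v) →
      (∀ z : F, ∃ v, g.1 v ≠ z • v) → ∃ W : Submodule F V, P W ∧ ∀ w ∈ W, g.1 w ∈ W) ↔
    ((∀ g : qAut Q, g ∈ commutator (qAut Q) → ∀ (E : Submodule F V) (s : ℕ), PolarNondeg (res Q E) →
      (∀ v ∈ E, g.1 v = -v) → (∀ v ∈ perp Q E, g.1 v = v) → finrank F E = 2 * s → 0 < s → 2 * s < finrank F V →
      Sg (res Q E) (eta F ^ s) → ∃ W : Submodule F V, P W ∧ ∀ w ∈ W, g.1 w ∈ W) ∧
    (∀ g : qAut Q, g ∈ commutator (qAut Q) → (∀ v, g.1 (g.1 v) = -v) →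
      ∃ W : Submodule F V, P W ∧ ∀ w ∈ W, g.1 w ∈ W)) := by
  haveI : Nontrivial V := Module.nontrivial_of_finrank_pos (R := F) (by omega)
  have hex : Fintype.card F ≠ 2 ∨ finrank F V ≠ 4 := Or.inr (by omega)
  have hne : (-1 : F) ≠ 1 := fun h => h2 (by linear_combination -h)
  constructor
  · refine fun h => ⟨fun g hg E s hE hgE hgF hs hs0 hsn hsg => ?_, fun g hg hgg => ?_⟩
    · obtain ⟨hc, -, -⟩ := split_res hQ hE
      have hd := finrank_perp hQ E
      refine h g hg ⟨1, fun v => ?_⟩ fun z => ?_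
      · obtain ⟨a, ha, b, hb, rfl⟩ := Submodule.mem_sup.1
          (hc.sup_eq_top ▸ Submodule.mem_top : v ∈ E ⊔ perp Q E)
        rw [one_smul, sq, Subgroup.coe_mul, LinearEquiv.mul_apply, map_add, hgE a ha, hgF b hb, map_add,
          map_neg, hgE a ha, hgF b hb, neg_neg]
      · by_contra hcon
        push Not at hcon
        obtain ⟨a, ha, ha0⟩ := E.exists_mem_ne_zero_of_ne_bot fun h => by rw [h, finrank_bot] at hs; omega
        obtain ⟨b, hb, hb0⟩ := (perp Q E).exists_mem_ne_zero_of_ne_bot fun h => by rw [h, finrank_bot] at hd; omega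
        have h1 := (hgE a ha).symm.trans (hcon a)
        have h1' := (hgF b hb).symm.trans (hcon b)
        rw [← neg_one_smul F a] at h1
        have h3 := smul_left_injective F ha0 h1
        have h4 : (1 : F) = z := smul_left_injective F hb0 ((one_smul F b).trans h1')
        exact hne (h3.trans h4.symm)
    · refine h g hg ⟨-1, fun v => by rw [neg_one_smul, ← hgg v, sq]; rfl⟩ fun z => ?_
      by_contra hcon
      push Not at hcon
      have hz := scalar_sq hQ (z := z) fun v => by rw [← hcon, qAut_map]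
      obtain ⟨v, hv⟩ := exists_ne (0 : V)
      have h1 := hgg v
      rw [hcon, hcon, smul_smul, hz, one_smul, ← neg_one_smul F v] at h1
      exact hne (smul_left_injective F hv ((one_smul F v).trans h1)).symm
  · rintro ⟨hA, hB⟩ g hg ⟨z, hz⟩ hns
    rcases sq_scalar_cases hQ g hz with hgg | hgg
    · obtain ⟨E, s, hE, hgE, hgF, hs, hsg⟩ := invol_data h2 hQ hex hg hgg
      obtain ⟨h0, h1⟩ := invol_nonscalar hQ hE hgE hgF hns
      exact hA g hg E s hE hgE hgF hs (by omega) (by omega) hsg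
    · exact hB g hg hgg

/-- The involutions of an odd-dimensional space. -/
theorem two_order_iff (h2 : (2 : F) ≠ 0) (hQ : PolarNondeg Q) (hn : 5 ≤ finrank F V) (P : Submodule F V → Prop) :
    (∀ g : qAut Q, g ∈ commutator (qAut Q) → g ^ 2 = 1 → g ≠ 1 →
      ∃ W : Submodule F V, P W ∧ ∀ w ∈ W, g.1 w ∈ W) ↔
    (∀ g : qAut Q, g ∈ commutator (qAut Q) → ∀ (E : Submodule F V) (s : ℕ), PolarNondeg (res Q E) →
      (∀ v ∈ E, g.1 v = -v) → (∀ v ∈ perp Q E, g.1 v = v) → finrank F E = 2 * s → 0 < s →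
      Sg (res Q E) (eta F ^ s) → ∃ W : Submodule F V, P W ∧ ∀ w ∈ W, g.1 w ∈ W) := by
  have hex : Fintype.card F ≠ 2 ∨ finrank F V ≠ 4 := Or.inr (by omega)
  constructor
  · intro h g hg E s hE hgE hgF hs hs0 hsg
    obtain ⟨hc, -, -⟩ := split_res hQ hE
    refine h g hg (qAut_ext fun v => ?_) fun h1 => ?_
    · obtain ⟨a, ha, b, hb, rfl⟩ := Submodule.mem_sup.1 (hc.sup_eq_top ▸ Submodule.mem_top : v ∈ E ⊔ perp Q E)
      rw [sq, Subgroup.coe_mul, LinearEquiv.mul_apply, map_add, hgE a ha, hgF b hb, map_add, map_neg, hgE a ha,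
        hgF b hb, neg_neg]
      rfl
    · obtain ⟨a, ha, ha0⟩ := E.exists_mem_ne_zero_of_ne_bot fun h => by rw [h, finrank_bot] at hs; omega
      have h3 : -a = a := (hgE a ha).symm.trans (by rw [h1]; rfl)
      have h4 : (2 : F) • a = 0 := by
        rw [two_smul]
        nth_rewrite 1 [← h3]
        exact neg_add_cancel a
      exact ha0 ((smul_eq_zero.1 h4).resolve_left h2)
  · intro hA g hg hgr hg1
    obtain ⟨E, s, hE, hgE, hgF, hs, hsg⟩ := invol_data h2 hQ hex hg fun v => by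
      have : (g ^ 2).1 v = v := by rw [hgr]; rfl
      rwa [sq] at this
    refine hA g hg E s hE hgE hgF hs (Nat.pos_of_ne_zero ?_) hsg
    rintro rfl
    refine hg1 (qAut_ext fun v => ?_)
    obtain ⟨hc, -, -⟩ := split_res hQ hE
    have hbot : E = ⊥ := Submodule.finrank_eq_zero.1 hs
    have htop := hc.sup_eq_top
    rw [hbot, bot_sup_eq] at htop
    exact (hgF v (by rw [hbot, htop]; trivial)).trans rfl

/-- An involution with an anisotropic plane as eigenspace bounds the totally singular invariant subspaces. -/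
theorem exists_plane_invol (h2 : (2 : F) ≠ 0) (hQ : PolarNondeg Q) (hn : 5 ≤ finrank F V) (hη : eta F = -1) :
    ∃ g : qAut Q, g ∈ commutator (qAut Q) ∧ ∃ E : Submodule F V, PolarNondeg (res Q E) ∧
      (∀ v ∈ E, g.1 v = -v) ∧ (∀ v ∈ perp Q E, g.1 v = v) ∧ finrank F E = 2 * 1 ∧ Sg (res Q E) (eta F ^ 1) ∧
      ∀ U : Submodule F V, (∀ u ∈ U, Q u = 0) → (∀ u ∈ U, g.1 u ∈ U) → U ≤ perp Q E := by
  obtain ⟨S, hS, hSs⟩ := exists_space_even (F := F) 1 (ε := -1) (Or.inr rfl) fun h => absurd h one_ne_zero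
  obtain ⟨E, hi, hE⟩ := exists_sub hQ S.nondeg (Or.inl h2) (by omega)
  have hEd : finrank F E = 2 * 1 := by rw [← hi.finrank_eq]; omega
  have hEs : Sg (res Q E) (eta F ^ 1) := by rw [pow_one, hη]; exact hSs.congr hi
  obtain ⟨g, hg, hgE, hgF, -⟩ := exists_invol h2 hQ (Or.inr (by omega)) hE hEd hEs
  refine ⟨g, hg, E, hE, hgE, hgF, hEd, hEs, fun U hU hgU u hu => ?_⟩
  obtain ⟨hc, -, -⟩ := split_res hQ hE
  obtain ⟨a, ha, b, hb, rfl⟩ := Submodule.mem_sup.1 (hc.sup_eq_top ▸ Submodule.mem_top : u ∈ E ⊔ perp Q E)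
  have h2a : (2 : F) • a ∈ U := by
    have h := U.sub_mem hu (hgU _ hu)
    rwa [map_add, hgE a ha, hgF b hb, show a + b - (-a + b) = (2 : F) • a by rw [two_smul]; abel] at h
  have haU : a ∈ U := by
    have h := U.smul_mem (2 : F)⁻¹ h2a
    rwa [smul_smul, inv_mul_cancel₀ h2, one_smul] at h
  suffices a = 0 by rw [this, zero_add]; exact hb
  by_contra ha0
  have hEs' : Sg (res Q E) (-1) := by rw [← hη, ← pow_one (eta F)]; exact hEs
  refine absurd (sg_unique hEs' ((sg_one_iff hE hEs'.even).2 ⟨Submodule.span F {(⟨a, ha⟩ : E)}, ?_, ?_⟩)) (by norm_num)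
  · intro x hx
    obtain ⟨c, rfl⟩ := Submodule.mem_span_singleton.1 hx
    exact hU _ (U.smul_mem c haU)
  · rw [finrank_span_singleton (fun h => ha0 (congrArg Subtype.val h)), hEd]

/-- Totally singular subspaces in odd dimension. -/
theorem two_ts_odd (h2 : (2 : F) ≠ 0) (hQ : PolarNondeg Q) {d m : ℕ} (hn : finrank F V = 2 * d + 1) (hd : 2 ≤ d)
    (hmd : m ≤ d) :
    (∀ g : qAut Q, g ∈ commutator (qAut Q) → g ^ 2 = 1 → g ≠ 1 →
      ∃ W : Submodule F V, (finrank F W = m ∧ ∀ w ∈ W, Q w = 0) ∧ ∀ w ∈ W, g.1 w ∈ W) ↔ (m < d ∨ eta F = 1) := by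
  rw [two_order_iff h2 hQ (by omega)]
  constructor
  · intro h
    by_contra hcon
    push Not at hcon
    obtain ⟨g, hg, E, hE, hgE, hgF, hEd, hEs, hb⟩ := exists_plane_invol h2 hQ (by omega)
      ((eta_pm (F := F)).resolve_left hcon.2)
    obtain ⟨W, ⟨hWd, hWs⟩, hWi⟩ := h g hg E 1 hE hgE hgF hEd one_pos hEs
    obtain ⟨-, hFn, -⟩ := split_res hQ hE
    have hFd := finrank_perp hQ E
    have h1 := ts_le_half hFn (U := W.comap (perp Q E).subtype) fun u hu => hWs _ hu
    rw [(Submodule.comapSubtypeEquivOfLe (hb W hWs hWi)).finrank_eq] at h1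
    omega
  · intro hc g hg E s hE hgE hgF hs hs0 hsg
    have hFd := finrank_perp hQ E
    rcases Nat.lt_or_ge m s with hms | hms
    · exact invol_ts (g := g) h2 hQ hE hgE hgF (add_zero m) (Or.inl (by omega)) (Or.inl (by omega))
    by_cases hη : eta F ^ s = 1
    · refine invol_ts (g := g) h2 hQ hE hgE hgF (a := s) (b := m - s) (by omega) (Or.inr ⟨hs.symm, ?_⟩)
        (Or.inl (by omega))
      rwa [hη] at hsg
    · have : m < d := hc.resolve_right fun h => hη (by rw [h, one_pow])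
      exact invol_ts (g := g) h2 hQ hE hgE hgF (a := s - 1) (b := m - (s - 1)) (by omega) (Or.inl (by omega))
        (Or.inl (by omega))

/-- The sign of the fixed space of an involution. -/
theorem invol_perp_sg (hQ : PolarNondeg Q) {E : Submodule F V} (hE : PolarNondeg (res Q E)) {ε : ℤ} (hε : Sg Q ε)
    {s : ℕ} (hsg : Sg (res Q E) (eta F ^ s)) : Sg (res Q (perp Q E)) (eta F ^ s * ε) := by
  obtain ⟨-, hFn, hsum⟩ := split_res hQ hE
  have hd := finrank_perp hQ E
  have hev : Even (finrank F (perp Q E)) := (Nat.even_add.1 (by rw [hd]; exact hε.even)).2 hsg.even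
  obtain ⟨η, -, hη⟩ := sg_cases hFn hev
  have h := sg_unique ((hsg.prod hη).congr hsum) hε
  rwa [← h, ← mul_assoc, show eta F ^ s * eta F ^ s = 1 by rw [← pow_add, eta_pow_even ⟨s, rfl⟩], one_mul]

/-- Totally singular subspaces of a split space. -/
theorem two_ts_plus (h2 : (2 : F) ≠ 0) (hQ : PolarNondeg Q) (hε : Sg Q 1) {d m : ℕ} (hn : finrank F V = 2 * d)
    (hd : 3 ≤ d) (hmd : m < d) :
    (∀ g : qAut Q, g ∈ commutator (qAut Q) → (∃ z : F, ∀ v, (g ^ 2).1 v = z • v) →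
      (∀ z : F, ∃ v, g.1 v ≠ z • v) →
      ∃ W : Submodule F V, (finrank F W = m ∧ ∀ w ∈ W, Q w = 0) ∧ ∀ w ∈ W, g.1 w ∈ W) ↔
    (eta F = 1 ∨ (m + 2 ≤ d ∧ (Even m ∨ Odd d))) := by
  have hex : Fintype.card F ≠ 2 ∨ finrank F V ≠ 4 := Or.inr (by omega)
  rw [two_scalar_iff h2 hQ (by omega)]
  rcases eta_pm (F := F) with hη | hη
  · refine ⟨fun _ => Or.inl hη, fun _ => ?_⟩
    constructor
    · intro g hg E s hE hgE hgF hs hs0 hsn hsg
      have hFd := finrank_perp hQ E
      have hF := invol_perp_sg hQ hE hε hsg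
      rw [hη, one_pow] at hsg
      rw [hη, one_pow, mul_one] at hF
      rcases Nat.lt_or_ge m s with hms | hms
      · exact invol_ts (g := g) h2 hQ hE hgE hgF (add_zero m) (Or.inl (by omega)) (Or.inl (by omega))
      exact invol_ts (g := g) h2 hQ hE hgE hgF (a := s) (b := m - s) (by omega) (Or.inr ⟨hs.symm, hsg⟩)
        (Or.inl (by omega))
    · intro g _ hgg
      exact rot_ts_square (f := g.1.toLinearMap) h2 hQ hgg (fun v => qAut_map g v) (chi_eq_one.1 hη) (by omega)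
  have hns := eta_eq_neg_iff.1 hη
  constructor
  · rintro ⟨hA, hB⟩
    refine Or.inr ⟨?_, ?_⟩
    · by_contra hcon
      obtain ⟨g, hg, E, hE, hgE, hgF, hEd, hEs, hb⟩ := exists_plane_invol h2 hQ (by omega) hη
      obtain ⟨W, ⟨hWd, hWs⟩, hWi⟩ := hA g hg E 1 hE hgE hgF hEd one_pos (by omega) hEs
      obtain ⟨-, hFn, -⟩ := split_res hQ hE
      have hFd := finrank_perp hQ E
      have hF := invol_perp_sg hQ hE hε hEs
      rw [pow_one, mul_one, hη] at hF
      refine absurd (sg_unique hF ((sg_one_iff hFn hF.even).2 ⟨W.comap (perp Q E).subtype, fun u hu => hWs _ hu, ?_⟩))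
        (by norm_num)
      rw [(Submodule.comapSubtypeEquivOfLe (hb W hWs hWi)).finrank_eq]
      omega
    · by_contra hcon
      push Not at hcon
      have hde : Even d := Nat.not_odd_iff_even.1 hcon.2
      obtain ⟨g, hg, hgg⟩ := exists_rot h2 hQ hex hn (by rwa [eta_pow_even hde]) (Or.inl hde)
      obtain ⟨W, ⟨hWd, -⟩, hWi⟩ := hB g hg hgg
      exact hcon.1 (hWd ▸ rot_even_dim (f := g.1.toLinearMap) hns hgg hWi)
  · rintro (h | ⟨hm2, hpar⟩)
    · rw [hη] at h; norm_num at h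
    constructor
    · intro g hg E s hE hgE hgF hs hs0 hsn hsg
      have hFd := finrank_perp hQ E
      rcases Nat.lt_or_ge m s with hms | hms
      · exact invol_ts (g := g) h2 hQ hE hgE hgF (add_zero m) (Or.inl (by omega)) (Or.inl (by omega))
      exact invol_ts (g := g) h2 hQ hE hgE hgF (a := s - 1) (b := m - (s - 1)) (by omega) (Or.inl (by omega))
        (Or.inl (by omega))
    · intro g hg hgg
      obtain ⟨j, hj, hjs⟩ := rot_sign (f := g.1.toLinearMap) h2 hQ hgg fun v => qAut_map g v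
      have hjd : j = d := by omega
      subst hjd
      rcases hpar with ⟨k, hk⟩ | hodd
      · obtain ⟨U, hU, hUi⟩ := rot_ts_even (f := g.1.toLinearMap) h2 hQ hgg (fun v => qAut_map g v) hns k (by omega)
        exact ⟨U, ⟨hU.1.trans (by omega), hU.2⟩, hUi⟩
      · have := sg_unique hjs hε
        rw [eta_pow_odd hodd, hη] at this
        norm_num at this

/-- Totally singular subspaces of a space of minus sign. -/
theorem two_ts_minus (h2 : (2 : F) ≠ 0) (hQ : PolarNondeg Q) (hε : Sg Q (-1)) {d m : ℕ} (hn : finrank F V = 2 * d)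
    (hd : 3 ≤ d) (hmd : m < d) :
    (∀ g : qAut Q, g ∈ commutator (qAut Q) → (∃ z : F, ∀ v, (g ^ 2).1 v = z • v) →
      (∀ z : F, ∃ v, g.1 v ≠ z • v) →
      ∃ W : Submodule F V, (finrank F W = m ∧ ∀ w ∈ W, Q w = 0) ∧ ∀ w ∈ W, g.1 w ∈ W) ↔
    (Even d ∨ Even m ∨ eta F = 1 ∨ ¬ IsSquare (2 : F)) := by
  have hex : Fintype.card F ≠ 2 ∨ finrank F V ≠ 4 := Or.inr (by omega)
  rw [two_scalar_iff h2 hQ (by omega)]
  constructor
  · rintro ⟨-, hB⟩
    by_contra hcon
    push Not at hcon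
    obtain ⟨hdo, hmo, hη, hsq⟩ := hcon
    replace hη := (eta_pm (F := F)).resolve_left hη
    obtain ⟨g, hg, hgg⟩ := exists_rot h2 hQ hex hn
      (by rwa [eta_pow_odd (Nat.not_even_iff_odd.1 hdo), hη]) (Or.inr hsq)
    obtain ⟨W, ⟨hWd, -⟩, hWi⟩ := hB g hg hgg
    exact hmo (hWd ▸ rot_even_dim (f := g.1.toLinearMap) (eta_eq_neg_iff.1 hη) hgg hWi)
  · intro hc
    constructor
    · intro g hg E s hE hgE hgF hs hs0 hsn hsg
      have hFd := finrank_perp hQ E
      have hF := invol_perp_sg hQ hE hε hsg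
      rcases Nat.lt_or_ge m s with hms | hms
      · exact invol_ts (g := g) h2 hQ hE hgE hgF (add_zero m) (Or.inl (by omega)) (Or.inl (by omega))
      by_cases h1 : eta F ^ s = 1
      · rw [h1] at hsg
        exact invol_ts (g := g) h2 hQ hE hgE hgF (a := s) (b := m - s) (by omega) (Or.inr ⟨hs.symm, hsg⟩)
          (Or.inl (by omega))
      · have h1' : eta F ^ s = -1 := by
          rcases eta_pm (F := F) with h | h
          · exact absurd (by rw [h, one_pow]) h1
          · rw [h] at h1 ⊢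
            exact (neg_one_pow_eq_or ℤ s).resolve_left h1
        rw [h1', neg_one_mul, neg_neg] at hF
        refine invol_ts (g := g) h2 hQ hE hgE hgF (a := s - 1) (b := m - (s - 1)) (by omega) (Or.inl (by omega)) ?_
        rcases Nat.lt_or_ge (2 * (m - (s - 1))) (finrank F (perp Q E)) with h | h
        · exact Or.inl h
        · exact Or.inr ⟨by omega, hF⟩
    · intro g hg hgg
      obtain ⟨j, hj, hjs⟩ := rot_sign (f := g.1.toLinearMap) h2 hQ hgg fun v => qAut_map g v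
      have hjd : j = d := by omega
      subst hjd
      have hη : eta F = -1 ∧ Odd j := by
        have h := sg_unique hjs hε
        rcases Nat.even_or_odd j with he | ho
        · rw [eta_pow_even he] at h; norm_num at h
        · exact ⟨(eta_pow_odd ho).symm.trans h, ho⟩
      have hns := eta_eq_neg_iff.1 hη.1
      have hsq := ((rot_mem_iff h2 hQ hex g hgg hn).1 hg).resolve_left (Nat.not_even_iff_odd.2 hη.2)
      rcases hc with h | ⟨k, hk⟩ | h | h
      · exact absurd h (Nat.not_even_iff_odd.2 hη.2)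
      · obtain ⟨U, hU, hUi⟩ := rot_ts_even (f := g.1.toLinearMap) h2 hQ hgg (fun v => qAut_map g v) hns k (by omega)
        exact ⟨U, ⟨hU.1.trans (by omega), hU.2⟩, hUi⟩
      · rw [hη.1] at h; norm_num at h
      · exact absurd hsq h

/-- Non-degenerate subspaces of even dimension in odd dimension. -/
theorem two_nd_odd_dim (h2 : (2 : F) ≠ 0) (hQ : PolarNondeg Q) {d m : ℕ} (hn : finrank F V = 2 * d + 1) (hd : 2 ≤ d)
    (hm : Even m) (hm2 : 2 ≤ m) (hmd : m ≤ 2 * d) {εW : ℤ} (hεW : εW = 1 ∨ εW = -1) :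
    ∀ g : qAut Q, g ∈ commutator (qAut Q) → g ^ 2 = 1 → g ≠ 1 →
      ∃ W : Submodule F V, (finrank F W = m ∧ PolarNondeg (res Q W) ∧ Sg (res Q W) εW) ∧ ∀ w ∈ W, g.1 w ∈ W := by
  refine (two_order_iff h2 hQ (by omega) _).2 fun g hg E s hE hgE hgF hs hs0 _ => ?_
  obtain ⟨U, hU, h⟩ := invol_nd_even (g := g) h2 hQ hE hgE hgF hs hs0
    (by have := Submodule.finrank_le E; omega) hm hm2 (by omega) hεW
  exact ⟨U, h, hU⟩

/-- Non-degenerate subspaces of even dimension in even dimension. -/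
theorem two_nd_even (h2 : (2 : F) ≠ 0) (hQ : PolarNondeg Q) {ε : ℤ} (hε : Sg Q ε) {d k : ℕ}
    (hn : finrank F V = 2 * d) (hd : 3 ≤ d) (hk : 1 ≤ k) (hkd : k < d) {εW : ℤ} (hεW : εW = 1 ∨ εW = -1) :
    (∀ g : qAut Q, g ∈ commutator (qAut Q) → (∃ z : F, ∀ v, (g ^ 2).1 v = z • v) →
      (∀ z : F, ∃ v, g.1 v ≠ z • v) →
      ∃ W : Submodule F V, (finrank F W = 2 * k ∧ PolarNondeg (res Q W) ∧ Sg (res Q W) εW) ∧ ∀ w ∈ W, g.1 w ∈ W) ↔
    ((ε = eta F ^ d ∧ (Even d ∨ IsSquare (2 : F))) → εW = eta F ^ k) := by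
  have hex : Fintype.card F ≠ 2 ∨ finrank F V ≠ 4 := Or.inr (by omega)
  rw [two_scalar_iff h2 hQ (by omega)]
  constructor
  · rintro ⟨-, hB⟩ ⟨hs, hsq⟩
    obtain ⟨g, hg, hgg⟩ := exists_rot h2 hQ hex hn (hs ▸ hε) hsq
    obtain ⟨W, ⟨hWd, hWn, hWs⟩, hWi⟩ := hB g hg hgg
    obtain ⟨j, hj, hjs⟩ := rot_sub_sign (f := g.1.toLinearMap) h2 hgg (fun v => qAut_map g v) hWi hWn
    obtain rfl : j = k := by omega
    exact sg_unique hWs hjs
  · intro hc
    constructor
    · intro g hg E s hE hgE hgF hs hs0 hsn _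
      obtain ⟨U, hU, h⟩ := invol_nd_even (g := g) h2 hQ hE hgE hgF hs hs0 hsn (even_two_mul k) (by omega) (by omega)
        hεW
      exact ⟨U, h, hU⟩
    · intro g hg hgg
      obtain ⟨j, hj, hjs⟩ := rot_sign (f := g.1.toLinearMap) h2 hQ hgg fun v => qAut_map g v
      have hjd : j = d := by omega
      subst hjd
      obtain ⟨U, hU, hUd, hUn⟩ := rot_nd_exists (f := g.1.toLinearMap) h2 hQ hgg (fun v => qAut_map g v) k (by omega)
      obtain ⟨i, hi, his⟩ := rot_sub_sign (f := g.1.toLinearMap) h2 hgg (fun v => qAut_map g v) hU hUn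
      have hik : i = k := by omega
      subst hik
      refine ⟨U, ⟨hUd, hUn, ?_⟩, hU⟩
      rwa [hc ⟨sg_unique hε hjs, (rot_mem_iff h2 hQ hex g hgg hn).1 hg⟩]

/-- An odd-dimensional class. -/
theorem two_nd_class (h2 : (2 : F) ≠ 0) (hQ : PolarNondeg Q) {ε : ℤ} (hε : Sg Q ε) {d : ℕ}
    (hn : finrank F V = 2 * d) (hd : 3 ≤ d) {U₀ : Submodule F V} (hU₀ : PolarNondeg (res Q U₀))
    (hodd : Odd (finrank F U₀)) (hlt : finrank F U₀ < d) :
    (∀ g : qAut Q, g ∈ commutator (qAut Q) → (∃ z : F, ∀ v, (g ^ 2).1 v = z • v) →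
      (∀ z : F, ∃ v, g.1 v ≠ z • v) →
      ∃ W : Submodule F V, Isom (res Q U₀) (res Q W) ∧ ∀ w ∈ W, g.1 w ∈ W) ↔
    ¬ (ε = eta F ^ d ∧ (Even d ∨ IsSquare (2 : F))) := by
  have hex : Fintype.card F ≠ 2 ∨ finrank F V ≠ 4 := Or.inr (by omega)
  rw [two_scalar_iff h2 hQ (by omega)]
  constructor
  · rintro ⟨-, hB⟩ ⟨hs, hsq⟩
    obtain ⟨g, hg, hgg⟩ := exists_rot h2 hQ hex hn (hs ▸ hε) hsq
    obtain ⟨W, hW, hWi⟩ := hB g hg hgg
    obtain ⟨j, hj, -⟩ := rot_sub_sign (f := g.1.toLinearMap) h2 hgg (fun v => qAut_map g v) hWi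
      (polarNondeg_of_isom hW hU₀)
    rw [hW.finrank_eq, hj] at hodd
    exact Nat.not_odd_iff_even.2 (even_two_mul j) hodd
  · intro hc
    constructor
    · intro g hg E s hE hgE hgF hs hs0 hsn _
      obtain ⟨U, hU, h⟩ := invol_nd_odd (g := g) h2 hQ hE hgE hgF hU₀ (by omega)
      exact ⟨U, h, hU⟩
    · intro g hg hgg
      obtain ⟨j, hj, hjs⟩ := rot_sign (f := g.1.toLinearMap) h2 hQ hgg fun v => qAut_map g v
      have hjd : j = d := by omega
      subst hjd
      exact absurd ⟨sg_unique hε hjs, (rot_mem_iff h2 hQ hex g hgg hn).1 hg⟩ hc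

end CfsgLib.Classical22.OrthType
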