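/-
Common steps for the criteria on elements of prime order in orthogonal groups.
-/
import Cfsg.Agent.Lib.Classical22.OrthTypeTwoOdd
import Cfsg.Agent.Lib.Classical22.OrthTypeSingularCount

set_option autoImplicit false

namespace CfsgLib.Classical22.OrthType

open CfsgLib.Classical Module

universe u

variable {F : Type u} [Field F] [Fintype F]

theorem sq_two_iff {q : ℕ} (hq : Fintype.card F = q) : IsSquare (2 : F) ↔ (q % 8 ≠ 3 ∧ q % 8 ≠ 5) := by
  rw [FiniteField.isSquare_two_iff, hq]

theorem eta_iff {q : ℕ} (hq : Fintype.card F = q) (hodd : Odd q) : eta F = 1 ↔ q % 4 = 1 := by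
  rw [eta_eq_one_iff, hq]
  obtain ⟨k, rfl⟩ := hodd
  omega

theorem odd_card_of_ne_two {p q : ℕ} [hp : Fact p.Prime] [CharP F p] (hq : Fintype.card F = q) (h : p ≠ 2) : Odd q := by
  obtain ⟨k, -, hk⟩ := FiniteField.card F p
  rw [← hq, hk]
  exact (hp.out.odd_of_ne_two h).pow

theorem even_card_of_two {p q : ℕ} [Fact p.Prime] [CharP F p] (hq : Fintype.card F = q) (h : p = 2) : Even q := by
  obtain ⟨k, -, hk⟩ := FiniteField.card F p
  rw [← hq, hk, h]
  exact (Nat.even_pow).2 ⟨even_two, k.ne_zero⟩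

theorem ctx_t_pos {r i : ℕ} [hr : Fact r.Prime] (C : Ctx F r) (hi : C.i = i) (ht : C.t = (r - 1) / i) :
    0 < (r - 1) / i := by
  rw [← ht]
  exact t_pos C

/-- Equivalent families have the same fixed-point property. -/
theorem forall_exists_congr {α : Type*} {β : Type*} {A : α → Prop} {P P' : β → Prop} {I : α → β → Prop}
    (h : ∀ w, P w ↔ P' w) : (∀ a, A a → ∃ w, P w ∧ I a w) ↔ (∀ a, A a → ∃ w, P' w ∧ I a w) :=
  forall_congr' fun _ => imp_congr_right fun _ => exists_congr fun w => and_congr (h w) Iff.rfl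

end CfsgLib.Classical22.OrthType
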