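/-
Unipotent isometries built from blocks of sizes two and three.
-/
import Cfsg.Agent.Lib.Classical22.OrthTypeUnipotent
import Cfsg.Agent.Lib.Classical22.OrthTypeBridge

set_option autoImplicit false

namespace CfsgLib.Classical22.OrthType

open CfsgLib.Classical Module

universe u

variable {F : Type u} [Field F] {l b : ℕ}

/-- Coordinates of the unipotent model. -/
abbrev UCar (F : Type u) [Field F] (l b : ℕ) (S : Space F) : Type u :=
  (Fin l → F × F × F × F) × (Fin b → F × F × F) × S.carrier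

theorem exists_uModel (c : Fin b → F) (S : Space F) :
    ∃ (Q : QuadraticForm F (UCar F l b S)) (f : Module.End F (UCar F l b S)),
      (∀ x, Q x = (∑ j, ((x.1 j).1 * (x.1 j).2.1 + (x.1 j).2.2.1 * (x.1 j).2.2.2)) +
        ((∑ i, c i * ((x.2.1 i).2.1 * (x.2.1 i).2.1 - (x.2.1 i).1 * (x.2.1 i).2.2)) + S.form x.2.2)) ∧
      ∀ x, f x = (fun j => ((x.1 j).1 + (x.1 j).2.2.2, (x.1 j).2.1, (x.1 j).2.2.1 - (x.1 j).2.1, (x.1 j).2.2.2),
        fun i => ((x.2.1 i).1 + 2 * (x.2.1 i).2.1 + (x.2.1 i).2.2, (x.2.1 i).2.1 + (x.2.1 i).2.2, (x.2.1 i).2.2),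
        x.2.2) := by
  obtain ⟨p1, h1⟩ : ∃ p : (F × F × F × F) →ₗ[F] F, ∀ x, p x = x.1 := ⟨LinearMap.fst F F _, fun _ => rfl⟩
  obtain ⟨p2, h2⟩ : ∃ p : (F × F × F × F) →ₗ[F] F, ∀ x, p x = x.2.1 :=
    ⟨LinearMap.fst F F _ ∘ₗ LinearMap.snd F F _, fun _ => rfl⟩
  obtain ⟨p3, h3⟩ : ∃ p : (F × F × F × F) →ₗ[F] F, ∀ x, p x = x.2.2.1 :=
    ⟨LinearMap.fst F F F ∘ₗ LinearMap.snd F F _ ∘ₗ LinearMap.snd F F _, fun _ => rfl⟩
  obtain ⟨p4, h4⟩ : ∃ p : (F × F × F × F) →ₗ[F] F, ∀ x, p x = x.2.2.2 :=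
    ⟨LinearMap.snd F F F ∘ₗ LinearMap.snd F F _ ∘ₗ LinearMap.snd F F _, fun _ => rfl⟩
  obtain ⟨q1, g1⟩ : ∃ p : (F × F × F) →ₗ[F] F, ∀ x, p x = x.1 := ⟨LinearMap.fst F F _, fun _ => rfl⟩
  obtain ⟨q2, g2⟩ : ∃ p : (F × F × F) →ₗ[F] F, ∀ x, p x = x.2.1 :=
    ⟨LinearMap.fst F F F ∘ₗ LinearMap.snd F F _, fun _ => rfl⟩
  obtain ⟨q3, g3⟩ : ∃ p : (F × F × F) →ₗ[F] F, ∀ x, p x = x.2.2 :=
    ⟨LinearMap.snd F F F ∘ₗ LinearMap.snd F F _, fun _ => rfl⟩
  refine ⟨(QuadraticMap.pi fun _ : Fin l => QuadraticMap.linMulLin p1 p2 + QuadraticMap.linMulLin p3 p4).prod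
      ((QuadraticMap.pi fun i : Fin b => c i • (QuadraticMap.linMulLin q2 q2 - QuadraticMap.linMulLin q1 q3)).prod
        S.form),
    { toFun := fun x => (fun j => ((x.1 j).1 + (x.1 j).2.2.2, (x.1 j).2.1, (x.1 j).2.2.1 - (x.1 j).2.1, (x.1 j).2.2.2),
        fun i => ((x.2.1 i).1 + 2 * (x.2.1 i).2.1 + (x.2.1 i).2.2, (x.2.1 i).2.1 + (x.2.1 i).2.2, (x.2.1 i).2.2),
        x.2.2)
      map_add' := fun x y => ?_, map_smul' := fun t x => ?_ }, fun x => ?_, fun x => rfl⟩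
  · ext j <;> simp <;> ring
  · ext j <;> simp <;> ring
  · simp [h1, h2, h3, h4, g1, g2, g3, QuadraticMap.pi_apply]

/-- A sum of non-degenerate forms is non-degenerate. -/
theorem polarNondeg_pi {ι : Type} [Fintype ι] [DecidableEq ι] {M : ι → Type u} [∀ i, AddCommGroup (M i)]
    [∀ i, Module F (M i)] (Q : ∀ i, QuadraticForm F (M i)) (h : ∀ i, PolarNondeg (Q i)) :
    PolarNondeg (QuadraticMap.pi Q) := fun x hx => funext fun i => h i (x i) fun v => by
  have hs := hx (Pi.single i v)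
  rw [QuadraticMap.polar, QuadraticMap.pi_apply, QuadraticMap.pi_apply, QuadraticMap.pi_apply,
    ← Finset.sum_sub_distrib, ← Finset.sum_sub_distrib, Fintype.sum_eq_single i fun j hj => by
      simp [Pi.single_eq_of_ne hj]] at hs
  simpa [QuadraticMap.polar] using hs

variable {c : Fin b → F} {S : Space F} {Q : QuadraticForm F (UCar F l b S)} {f : Module.End F (UCar F l b S)}

/-- Iterates of the model. -/
theorem uModel_pow (hf : ∀ x, f x = (fun j => ((x.1 j).1 + (x.1 j).2.2.2, (x.1 j).2.1, (x.1 j).2.2.1 - (x.1 j).2.1,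
    (x.1 j).2.2.2), fun i => ((x.2.1 i).1 + 2 * (x.2.1 i).2.1 + (x.2.1 i).2.2, (x.2.1 i).2.1 + (x.2.1 i).2.2,
    (x.2.1 i).2.2), x.2.2)) (n : ℕ) :
    ∀ x, (f ^ n) x = (fun j => ((x.1 j).1 + n * (x.1 j).2.2.2, (x.1 j).2.1, (x.1 j).2.2.1 - n * (x.1 j).2.1,
      (x.1 j).2.2.2), fun i => ((x.2.1 i).1 + 2 * n * (x.2.1 i).2.1 + n * n * (x.2.1 i).2.2,
      (x.2.1 i).2.1 + n * (x.2.1 i).2.2, (x.2.1 i).2.2), x.2.2) := by
  induction n with
  | zero => intro x; simp
  | succ n ih =>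
    intro x
    rw [pow_succ', Module.End.mul_apply, ih, hf]
    ext j <;> simp <;> ring

theorem uModel_nondeg (hQ : ∀ x, Q x = (∑ j, ((x.1 j).1 * (x.1 j).2.1 + (x.1 j).2.2.1 * (x.1 j).2.2.2)) +
    ((∑ i, c i * ((x.2.1 i).2.1 * (x.2.1 i).2.1 - (x.2.1 i).1 * (x.2.1 i).2.2)) + S.form x.2.2))
    (hc : ∀ i, c i ≠ 0) (h2 : b = 0 ∨ (2 : F) ≠ 0) : PolarNondeg Q := by
  intro x hx
  have hp : ∀ y, QuadraticMap.polar Q x y =
      (∑ j, ((x.1 j).1 * (y.1 j).2.1 + (y.1 j).1 * (x.1 j).2.1 + (x.1 j).2.2.1 * (y.1 j).2.2.2 +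
        (y.1 j).2.2.1 * (x.1 j).2.2.2)) +
      ((∑ i, c i * (2 * (x.2.1 i).2.1 * (y.2.1 i).2.1 - (x.2.1 i).1 * (y.2.1 i).2.2 - (y.2.1 i).1 * (x.2.1 i).2.2)) +
        QuadraticMap.polar S.form x.2.2 y.2.2) := fun y => by
    simp only [QuadraticMap.polar, hQ, Prod.fst_add, Prod.snd_add, Pi.add_apply]
    have e1 : ∀ p q r : F, p - q - r = p + (-q) + (-r) := fun p q r => by ring
    simp only [e1, neg_add, ← Finset.sum_neg_distrib]
    rw [show ∀ A B C A' B' C' A'' B'' C'' : F, A + (B + C) + (A' + (B' + C')) + (A'' + (B'' + C'')) =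
      (A + A' + A'') + ((B + B' + B'') + (C + C' + C'')) from fun A B C A' B' C' A'' B'' C'' => by ring]
    simp only [← Finset.sum_add_distrib]
    congr 1
    · exact Finset.sum_congr rfl fun j _ => by ring
    · congr 1
      exact Finset.sum_congr rfl fun i _ => by ring
  refine Prod.ext (funext fun j => ?_) (Prod.ext (funext fun i => ?_) (S.nondeg _ fun s => ?_))
  · have hy : ∀ v, QuadraticMap.polar Q x (Pi.single j v, 0, 0) = 0 := fun v => hx _
    simp only [hp, Pi.zero_apply, Prod.fst_zero, Prod.snd_zero, mul_zero, zero_mul, sub_zero, Finset.sum_const_zero,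
      QuadraticMap.polar_zero_right, add_zero] at hy
    have hy' : ∀ v : F × F × F × F, (x.1 j).1 * v.2.1 + v.1 * (x.1 j).2.1 + (x.1 j).2.2.1 * v.2.2.2 +
        v.2.2.1 * (x.1 j).2.2.2 = 0 := fun v => by
      have h := hy v
      rwa [Fintype.sum_eq_single j fun k hk => by simp [Pi.single_eq_of_ne hk], Pi.single_eq_same] at h
    exact Prod.ext (by simpa using hy' (0, 1, 0, 0)) (Prod.ext (by simpa using hy' (1, 0, 0, 0))
      (Prod.ext (by simpa using hy' (0, 0, 0, 1)) (by simpa using hy' (0, 0, 1, 0))))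
  · have hy : ∀ v, QuadraticMap.polar Q x (0, Pi.single i v, 0) = 0 := fun v => hx _
    simp only [hp, Pi.zero_apply, Prod.fst_zero, Prod.snd_zero, mul_zero, zero_mul, add_zero, Finset.sum_const_zero,
      QuadraticMap.polar_zero_right, zero_add] at hy
    have hy' : ∀ v : F × F × F, c i * (2 * (x.2.1 i).2.1 * v.2.1 - (x.2.1 i).1 * v.2.2 - v.1 * (x.2.1 i).2.2) = 0 :=
      fun v => by
      have h := hy v
      rwa [Fintype.sum_eq_single i fun k hk => by simp [Pi.single_eq_of_ne hk], Pi.single_eq_same] at h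
    have h2' : (2 : F) ≠ 0 := h2.resolve_left (Fin.pos i).ne'
    exact Prod.ext (by simpa [hc i] using hy' (0, 0, 1)) (Prod.ext (by simpa [hc i, h2'] using hy' (0, 1, 0))
      (by simpa [hc i] using hy' (1, 0, 0)))
  · simpa [hp] using hx (0, 0, s)

variable [Fintype F]

/-- The sign of the model. -/
theorem uModel_sg (hQ : ∀ x, Q x = (∑ j, ((x.1 j).1 * (x.1 j).2.1 + (x.1 j).2.2.1 * (x.1 j).2.2.2)) +
    ((∑ i, c i * ((x.2.1 i).2.1 * (x.2.1 i).2.1 - (x.2.1 i).1 * (x.2.1 i).2.2)) + S.form x.2.2))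
    (hn : PolarNondeg Q) {ε : ℤ} (hε : Sg ((QuadraticMap.weightedSumSquares F c).prod S.form) ε) : Sg Q ε := by
  obtain ⟨H, hH⟩ : ∃ H : QuadraticForm F ((Fin l → F × F × F × F) × (Fin b → F × F)), ∀ x,
      H x = (∑ j, ((x.1 j).1 * (x.1 j).2.1 + (x.1 j).2.2.1 * (x.1 j).2.2.2)) + ∑ i, -(c i * ((x.2 i).1 * (x.2 i).2)) := by
    obtain ⟨ι, hι⟩ : ∃ ι : ((Fin l → F × F × F × F) × (Fin b → F × F)) →ₗ[F] UCar F l b S,
        ∀ x, ι x = (x.1, fun i => ((x.2 i).1, 0, (x.2 i).2), 0) :=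
      ⟨{ toFun := fun x => (x.1, fun i => ((x.2 i).1, 0, (x.2 i).2), 0)
         map_add' := fun x y => by ext <;> simp
         map_smul' := fun t x => by ext <;> simp }, fun x => rfl⟩
    exact ⟨Q.comp ι, fun x => by simp [QuadraticMap.comp_apply, hι, hQ]⟩
  obtain ⟨e, he⟩ : ∃ e : (((Fin l → F × F × F × F) × (Fin b → F × F)) × ((Fin b → F) × S.carrier)) ≃ₗ[F] UCar F l b S,
      ∀ x, e x = (x.1.1, fun i => ((x.1.2 i).1, x.2.1 i, (x.1.2 i).2), x.2.2) :=
    ⟨{ toFun := fun x => (x.1.1, fun i => ((x.1.2 i).1, x.2.1 i, (x.1.2 i).2), x.2.2)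
       invFun := fun x => ((x.1, fun i => ((x.2.1 i).1, (x.2.1 i).2.2)), (fun i => (x.2.1 i).2.1, x.2.2))
       map_add' := fun x y => by ext <;> simp
       map_smul' := fun t x => by ext <;> simp
       left_inv := fun x => rfl
       right_inv := fun x => rfl }, fun x => rfl⟩
  have hiso : Isom (H.prod ((QuadraticMap.weightedSumSquares F c).prod S.form)) Q := ⟨e, fun x => by
    rw [he, hQ]
    simp only [QuadraticMap.prod_apply, hH, QuadraticMap.weightedSumSquares_apply, smul_eq_mul, mul_sub,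
      sub_eq_add_neg, mul_add, Finset.sum_add_distrib, mul_neg, Finset.sum_neg_distrib]
    ring⟩
  have hP := polarNondeg_of_isom hiso.symm' hn
  have hHn : PolarNondeg H := fun x hx => congrArg Prod.fst (hP (x, 0) fun y => by
    have := hx y.1
    simp only [QuadraticMap.polar, QuadraticMap.prod_apply, Prod.fst_add, Prod.snd_add, zero_add, map_zero,
      add_zero] at this ⊢
    linear_combination this)
  have hHd : finrank F ((Fin l → F × F × F × F) × (Fin b → F × F)) = 2 * (2 * l + b) := by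
    simp [Module.finrank_prod, Module.finrank_pi_fintype]
    ring
  have hHs : Sg H 1 := by
    refine (sg_one_iff hHn (by rw [hHd]; exact even_two_mul _)).2 ?_
    obtain ⟨φ, hφ⟩ : ∃ φ : ((Fin l → F × F) × (Fin b → F)) →ₗ[F] ((Fin l → F × F × F × F) × (Fin b → F × F)),
        ∀ x, φ x = (fun j => ((x.1 j).1, 0, (x.1 j).2, 0), fun i => (x.2 i, 0)) :=
      ⟨{ toFun := fun x => (fun j => ((x.1 j).1, 0, (x.1 j).2, 0), fun i => (x.2 i, 0))
         map_add' := fun x y => by ext <;> simp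
         map_smul' := fun t x => by ext <;> simp }, fun x => rfl⟩
    refine ⟨LinearMap.range φ, ?_, ?_⟩
    · rintro _ ⟨x, rfl⟩
      simp [hH, hφ]
    · have hinj : Function.Injective φ := fun x y h => by
        rw [hφ, hφ, Prod.ext_iff] at h
        refine Prod.ext (funext fun j => ?_) (funext fun i => congrArg Prod.fst (congrFun h.2 i))
        have := congrFun h.1 j
        simp only [Prod.ext_iff] at this
        exact Prod.ext this.1 this.2.2.1
      rw [LinearMap.finrank_range_of_inj hinj, hHd]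
      simp [Module.finrank_prod, Module.finrank_pi_fintype]
      ring
  have h := hHs.prod hε
  rw [one_mul] at h
  exact h.congr hiso

omit [Fintype F] in
theorem finrank_uCar : finrank F (UCar F l b S) = 4 * l + 3 * b + finrank F S.carrier := by
  simp [Module.finrank_prod, Module.finrank_pi_fintype]
  ring

/-- In characteristic two the commutator subgroup consists of the elements of even rank. -/
theorem mem_commutator_of_two {V : Type u} [AddCommGroup V] [Module F V] [FiniteDimensional F V]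
    {Q : QuadraticForm F V} (h2 : (2 : F) = 0) (hQ : PolarNondeg Q)
    (hex : Fintype.card F ≠ 2 ∨ finrank F V ≠ 4) {g : qAut Q} (hg : Even (qRank Q g)) :
    g ∈ commutator (qAut Q) := by
  obtain ⟨θ, hθ, hiff⟩ := Spin.exists_spin Q hQ hex
  refine (hiff g).2 ⟨hg, ?_⟩
  obtain ⟨vs, rfl⟩ := Spin.exists_refl_list Q hQ hex g
  rw [map_list_prod]
  exact List.prod_eq_one fun x hx => by
    obtain ⟨y, hy, rfl⟩ := List.mem_map.1 hx
    obtain ⟨v, -, rfl⟩ := List.mem_map.1 hy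
    rw [hθ, Spin.sqSign_of_two h2]

end CfsgLib.Classical22.OrthType
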