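/-
Unipotent elements of the commutator subgroup and the shape of the subspaces they fix.
-/
import Cfsg.Agent.Lib.Classical22.OrthTypeUnipotentModel

set_option autoImplicit false

namespace CfsgLib.Classical22.OrthType

open CfsgLib.Classical Module

universe u

variable {F : Type u} [Field F] [Fintype F]
variable {V : Type u} [AddCommGroup V] [Module F V] [FiniteDimensional F V] {Q : QuadraticForm F V}

/-- A unipotent element and the shape of its fixed non-degenerate subspaces. -/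
theorem exists_unipotent {p : ℕ} [hp : Fact p.Prime] [CharP F p] (hQ : PolarNondeg Q)
    (hex : Fintype.card F ≠ 2 ∨ finrank F V ≠ 4) {l b : ℕ} (hpos : 0 < l + b) (hb : p = 2 → b = 0)
    {c : Fin b → F} (hc : ∀ i, c i ≠ 0) (S : Space F) (P : F → Prop)
    (hmodel : ∀ R : QuadraticForm F (UCar F l b S), PolarNondeg R →
      (∀ ε, Sg ((QuadraticMap.weightedSumSquares F c).prod S.form) ε → Sg R ε) → ∃ a : F, a ≠ 0 ∧ P a ∧ Isom (a • Q) R) :
    ∃ a : F, a ≠ 0 ∧ P a ∧ ∃ g : qAut Q, g ∈ commutator (qAut Q) ∧ g ^ p = 1 ∧ g ≠ 1 ∧ (∀ z : F, ∃ v, g.1 v ≠ z • v) ∧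
      ∀ W : Submodule F V, (∀ w ∈ W, g.1 w ∈ W) → PolarNondeg (res Q W) →
        ∃ (k T σ : ℕ) (T₀ : Submodule F V), T₀ ≤ W ∧ finrank F T₀ = T ∧ (∀ u ∈ T₀, Q u = 0) ∧
          k + T + σ = finrank F W ∧ T ≤ k ∧ 2 * T ≤ finrank F W ∧ k ≤ T + finrank F S.carrier ∧ σ ≤ b ∧
          Even (T + σ) ∧
          (0 < σ → ∃ z ∈ W, (∀ u ∈ T₀, QuadraticMap.polar Q z u = 0) ∧
            ∃ t : Fin b → F, t ≠ 0 ∧ a * Q z = ∑ i, c i * (t i * t i)) ∧
          (T < k → ∃ w ∈ W, (∀ u ∈ T₀, QuadraticMap.polar Q w u = 0) ∧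
            ∃ s : S.carrier, s ≠ 0 ∧ a * Q w = S.form s) ∧
          (k = T + finrank F S.carrier → ∀ s : S.carrier, s ≠ 0 →
            ∃ w ∈ W, (∀ u ∈ T₀, QuadraticMap.polar Q w u = 0) ∧ w ∉ T₀ ∧ a * Q w = S.form s) := by
  obtain ⟨R, f0, hR, hf0⟩ := exists_uModel (l := l) c S
  have h2 : b = 0 ∨ (2 : F) ≠ 0 := (Decidable.em (p = 2)).imp hb fun h h' => h (by
    haveI : CharP F 2 := CharTwo.of_one_ne_zero_of_two_eq_zero one_ne_zero h'
    exact CharP.eq F ‹CharP F p› ‹CharP F 2›)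
  have hRn := uModel_nondeg hR hc h2
  obtain ⟨a, ha, hPa, e, he⟩ := hmodel R hRn fun ε hε => uModel_sg hR hRn hε
  have he' : ∀ v, R (e v) = a * Q v := fun v => by rw [he]; simp
  -- the model
  have hN : ∀ x, (f0 - 1) x = (fun j => ((x.1 j).2.2.2, 0, -(x.1 j).2.1, 0),
      fun i => (2 * (x.2.1 i).2.1 + (x.2.1 i).2.2, (x.2.1 i).2.2, 0), 0) := fun x => by
    rw [LinearMap.sub_apply, Module.End.one_apply, hf0]
    ext <;> simp <;> ring
  have hN2 : ∀ x, (f0 - 1) ((f0 - 1) x) = ((0 : Fin l → F × F × F × F), fun i => (2 * (x.2.1 i).2.2, 0, 0), 0) :=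
    fun x => by rw [hN, hN]; ext <;> simp
  have hfR : ∀ x, R (f0 x) = R x := fun x => by
    rw [hR, hR, hf0]
    congr 1
    · exact Finset.sum_congr rfl fun j _ => by ring
    · congr 1
      exact Finset.sum_congr rfl fun i _ => by ring
  have hRN : ∀ x, R ((f0 - 1) x) = ∑ i, c i * ((x.2.1 i).2.2 * (x.2.1 i).2.2) := fun x => by rw [hR, hN]; simp
  have hk0 : ∀ x ∈ LinearMap.ker (f0 - 1), (∀ j, (x.1 j).2.2.2 = 0 ∧ (x.1 j).2.1 = 0) ∧
      (∀ i, (x.2.1 i).2.2 = 0 ∧ (x.2.1 i).2.1 = 0) := by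
    intro x hx
    rw [LinearMap.mem_ker, hN, Prod.ext_iff, Prod.ext_iff] at hx
    refine ⟨fun j => ?_, fun i => ?_⟩
    · have := congrFun hx.1 j
      simp only [Prod.fst_zero, Pi.zero_apply, Prod.ext_iff, Prod.snd_zero, neg_eq_zero] at this
      exact ⟨this.1, this.2.2.1⟩
    · have := congrFun hx.2.1 i
      simp only [Prod.fst_zero, Prod.snd_zero, Pi.zero_apply, Prod.ext_iff] at this
      refine ⟨this.2.1, ?_⟩
      rw [this.2.1, add_zero, mul_eq_zero] at this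
      exact this.1.resolve_left (h2.resolve_left (Fin.pos i).ne')
  have hkf : ∀ x ∈ LinearMap.ker (f0 - 1), ∃ w, x = (f0 - 1) w + (0, 0, x.2.2) ∧
      R x = S.form x.2.2 := by
    intro x hx
    obtain ⟨h4, h3⟩ := hk0 x hx
    refine ⟨((fun j => (0, -(x.1 j).2.2.1, 0, (x.1 j).1)), fun i => (0, (x.2.1 i).1 / 2, 0), 0), ?_, ?_⟩
    · rw [hN]
      refine Prod.ext (funext fun j => ?_) (Prod.ext (funext fun i => ?_) (by simp))
      · simp [Prod.ext_iff, (h4 j).1, (h4 j).2]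
      · simp [Prod.ext_iff, (h3 i).1, (h3 i).2, mul_div_cancel₀ _ (h2.resolve_left (Fin.pos i).ne')]
    · rw [hR]
      simp [fun j => (h4 j).1, fun j => (h4 j).2, fun i => (h3 i).1, fun i => (h3 i).2]
  -- transport
  obtain ⟨f, hf⟩ : ∃ f : Module.End F V, ∀ v, f v = e.symm (f0 (e v)) :=
    ⟨e.symm.toLinearMap ∘ₗ f0 ∘ₗ e.toLinearMap, fun _ => rfl⟩
  have hfQ : ∀ v, Q (f v) = Q v := fun v => mul_left_cancel₀ ha (by
    rw [← he', ← he', hf, LinearEquiv.apply_symm_apply, hfR])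
  have heN : ∀ v, e ((f - 1) v) = (f0 - 1) (e v) := fun v => by
    simp only [LinearMap.sub_apply, Module.End.one_apply, map_sub, hf, LinearEquiv.apply_symm_apply]
  have hpow : ∀ n v, e ((f ^ n) v) = (f0 ^ n) (e v) := fun n => by
    induction n with
    | zero => intro v; simp
    | succ n ih => intro v; rw [pow_succ', pow_succ', Module.End.mul_apply, Module.End.mul_apply, hf,
        LinearEquiv.apply_symm_apply, ih]
  have hfp : f ^ p = 1 := LinearMap.ext fun v => e.injective (by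
    rw [hpow, uModel_pow hf0, CharP.cast_eq_zero]
    ext <;> simp)
  obtain ⟨g, hgp, hgf⟩ := exists_qAut hp.out ⟨hfp, hfQ⟩
  have hne : f ≠ 1 := fun h => by
    have h' : ∀ x, (f0 - 1) x = 0 := fun x => by
      rw [← e.apply_symm_apply x, ← heN, h, sub_self, LinearMap.zero_apply, map_zero]
    rcases Nat.eq_zero_or_pos l with hl | hl
    · have h1 := h' (0, fun _ => (0, 0, 1), 0)
      rw [hN, Prod.ext_iff, Prod.ext_iff] at h1
      simpa using congrFun h1.2.1 ⟨0, by omega⟩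
    · have h1 := h' (fun _ => (0, 0, 0, 1), 0, 0)
      rw [hN, Prod.ext_iff] at h1
      simpa using congrFun h1.1 ⟨0, hl⟩
  have hg1 : g ≠ 1 := fun h => hne (LinearMap.ext fun v => by rw [← hgf, h]; rfl)
  have hQN : b = 0 → ∀ v, Q ((f - 1) v) = 0 := fun hb0 v => by
    subst hb0
    have h := he' ((f - 1) v)
    rw [heN, hRN] at h
    simpa [ha] using h.symm
  have hmem : g ∈ commutator (qAut Q) := by
    by_cases h : p = 2
    · have hrk : Even (qRank Q g) := by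
        refine even_rank_of_singular hQ hfQ (hQN (hb h)) ?_
        have h1 := LinearMap.finrank_range_add_finrank_ker (f - 1)
        rw [qRank, show g.1.toLinearMap - LinearMap.id = f - 1 from LinearMap.ext fun v => by simp [← hgf]]
        exact h1
      refine mem_commutator_of_two ?_ hQ hex hrk
      subst h
      exact CharTwo.two_eq_zero
    · exact mem_commutator_of_pow hQ hex (hp.out.odd_of_ne_two h) hgp
  have hns : ∀ z : F, ∃ v, g.1 v ≠ z • v := fun z => by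
    by_contra hcon
    push Not at hcon
    have hz : ∀ n v, (f ^ n) v = z ^ n • v := fun n => by
      induction n with
      | zero => intro v; simp
      | succ n ih => intro v; rw [pow_succ', Module.End.mul_apply, ih, map_smul, ← hgf, hcon, smul_smul, pow_succ]
    refine hne (LinearMap.ext fun v => ?_)
    by_cases hv : v = 0
    · simp [hv]
    have h1 := hz p v
    rw [hfp, Module.End.one_apply] at h1
    have h3 : z ^ p = 1 := (smul_left_injective F hv ((one_smul F v).trans h1)).symm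
    have h4 : (z - 1) ^ p = 0 := by rw [sub_pow_char, h3, one_pow, sub_self]
    rw [← hgf, hcon, sub_eq_zero.1 (pow_eq_zero_iff hp.out.ne_zero |>.1 h4), one_smul]
    rfl
  refine ⟨a, ha, hPa, g, hmem, hgp, hg1, hns, fun W hW hWn => ?_⟩
  have hW' : ∀ w ∈ W, f w ∈ W := fun w hw => by rw [← hgf]; exact hW w hw
  obtain ⟨U, hU⟩ : ∃ U, U = LinearMap.range (f - 1) ⊓ LinearMap.ker (f - 1) := ⟨_, rfl⟩
  have hUS : ∀ u ∈ U, (e u).2.2 = 0 := fun u hu => by
    rw [hU] at hu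
    obtain ⟨⟨w, rfl⟩, -⟩ := hu
    rw [heN, hN]
  have hker : ∀ v ∈ LinearMap.ker (f - 1), e v ∈ LinearMap.ker (f0 - 1) := fun v hv => by
    rw [LinearMap.mem_ker] at hv ⊢
    rw [← heN, hv, map_zero]
  have hUs : ∀ u ∈ U, Q u = 0 := fun u hu => by
    obtain ⟨w, -, hw⟩ := hkf _ (hker u (hU ▸ hu : u ∈ LinearMap.range (f - 1) ⊓ LinearMap.ker (f - 1)).2)
    rw [hUS u hu, map_zero, he'] at hw
    exact (mul_eq_zero.1 hw).resolve_left ha
  obtain ⟨π, hπ⟩ : ∃ π : (W ⊓ LinearMap.ker (f - 1) : Submodule F V) →ₗ[F] S.carrier, ∀ v, π v = (e v.1).2.2 :=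
    ⟨LinearMap.snd F _ _ ∘ₗ LinearMap.snd F _ _ ∘ₗ e.toLinearMap ∘ₗ Submodule.subtype _, fun _ => rfl⟩
  have hπk : (LinearMap.ker π).map (W ⊓ LinearMap.ker (f - 1)).subtype = W ⊓ U := by
    ext v
    constructor
    · rintro ⟨y, hy, rfl⟩
      obtain ⟨w, hw, -⟩ := hkf _ (hker y.1 y.2.2)
      rw [SetLike.mem_coe, LinearMap.mem_ker, hπ] at hy
      refine ⟨y.2.1, hU ▸ ⟨⟨e.symm w, e.injective ?_⟩, y.2.2⟩⟩
      rw [heN, LinearEquiv.apply_symm_apply, Submodule.subtype_apply, hw, hy]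
      simp
    · rintro ⟨hv, hvU⟩
      have hvk : v ∈ LinearMap.ker (f - 1) := (hU ▸ hvU : v ∈ LinearMap.range (f - 1) ⊓ LinearMap.ker (f - 1)).2
      exact ⟨⟨v, hv, hvk⟩, LinearMap.mem_ker.2 ((hπ _).trans (hUS v hvU)), rfl⟩
  have hrange : finrank F (LinearMap.range π) + finrank F (W ⊓ U : Submodule F V) =
      finrank F (W ⊓ LinearMap.ker (f - 1) : Submodule F V) := by
    rw [← hπk, ← (Submodule.equivMapOfInjective _ (W ⊓ LinearMap.ker (f - 1)).injective_subtype _).finrank_eq]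
    exact LinearMap.finrank_range_add_finrank_ker π
  have hperp : ∀ w ∈ LinearMap.ker (f - 1), ∀ u ∈ W ⊓ U, QuadraticMap.polar Q w u = 0 := fun w hw u hu => by
    rw [← perp_range hQ hfQ] at hw
    rw [QuadraticMap.polar_comm]
    exact mem_perp.1 hw u (hU ▸ hu.2 : u ∈ LinearMap.range (f - 1) ⊓ LinearMap.ker (f - 1)).1
  obtain ⟨k, T, σ, hsum, hT, hTk, hTm, -, hσ, hk, hσ'⟩ := inv_shape hQ hfQ hU hUs hW' hWn
  have hSd : k ≤ T + finrank F S.carrier := by
    have := Submodule.finrank_le (LinearMap.range π)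
    omega
  have hpar : Even (T + σ) := by
    refine inv_parity hQ hfQ hW' hWn ?_ (k := T + σ) (by omega)
    rcases h2 with h | h
    · exact Or.inl (hQN h)
    · exact Or.inr ⟨h, p, hp.out.odd_of_ne_two fun h' => h (by
        subst h'
        exact CharTwo.two_eq_zero), hfp⟩
  have hσb : σ ≤ b := by
    refine hσ.trans ?_
    obtain ⟨φ, hφ⟩ : ∃ φ : (Fin b → F) →ₗ[F] V, ∀ t, φ t = e.symm (0, fun i => (t i, 0, 0), 0) :=
      ⟨e.symm.toLinearMap ∘ₗ
        { toFun := fun t => (0, fun i => (t i, 0, 0), 0)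
          map_add' := fun x y => by ext <;> simp
          map_smul' := fun t x => by ext <;> simp }, fun _ => rfl⟩
    refine (Submodule.finrank_mono (t := LinearMap.range φ) ?_).trans ?_
    · rintro _ ⟨v, rfl⟩
      exact ⟨fun i => 2 * ((e v).2.1 i).2.2, e.injective (by
        rw [Module.End.mul_apply, heN, heN, hN2, hφ, LinearEquiv.apply_symm_apply])⟩
    · exact (LinearMap.finrank_range_le φ).trans (by simp)
  refine ⟨k, T, σ, W ⊓ U, inf_le_left, hT, fun u hu => hUs u hu.2, hsum, hTk, hTm, hSd, hσb, hpar,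
    fun hpos' => ?_, fun hlt => ?_, fun hfull s hs => ?_⟩
  · obtain ⟨y, hy, hy0⟩ := ((W.map (f - 1)).map (f - 1)).exists_mem_ne_zero_of_ne_bot fun h => by
      rw [h, finrank_bot] at hσ'; omega
    obtain ⟨_, ⟨x, hx, rfl⟩, rfl⟩ := hy
    refine ⟨(f - 1) x, by simpa using W.sub_mem (hW' x hx) hx, fun u hu => ?_, fun i => ((e x).2.1 i).2.2, fun h0 => ?_,
      ?_⟩
    · have huk : u ∈ LinearMap.ker (f - 1) :=
        (hU ▸ hu.2 : u ∈ LinearMap.range (f - 1) ⊓ LinearMap.ker (f - 1)).2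
      rw [← perp_range hQ hfQ] at huk
      exact mem_perp.1 huk _ ⟨x, rfl⟩
    · refine hy0 (e.injective ?_)
      rw [heN, heN, hN2, map_zero]
      refine Prod.ext rfl (Prod.ext (funext fun i => ?_) rfl)
      have hi : ((e x).2.1 i).2.2 = 0 := congrFun h0 i
      simp [hi]
    · rw [← he', heN, hRN]
  · obtain ⟨_, ⟨y, rfl⟩, hy0⟩ := (LinearMap.range π).exists_mem_ne_zero_of_ne_bot fun h => by
      rw [h, finrank_bot] at hrange; omega
    refine ⟨y.1, y.2.1, hperp y.1 y.2.2, π y, hy0, ?_⟩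
    obtain ⟨w, -, hw⟩ := hkf _ (hker y.1 y.2.2)
    rw [← he', hw, hπ]
  · have htop : LinearMap.range π = ⊤ := Submodule.eq_top_of_finrank_eq (by omega)
    obtain ⟨y, hy⟩ : s ∈ LinearMap.range π := htop ▸ Submodule.mem_top
    refine ⟨y.1, y.2.1, hperp y.1 y.2.2, fun hT0 => hs ?_, ?_⟩
    · rw [← hy, hπ, hUS _ hT0.2]
    · obtain ⟨w, -, hw⟩ := hkf _ (hker y.1 y.2.2)
      rw [← he', hw, ← hy, hπ]

end CfsgLib.Classical22.OrthType
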