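/-
Unipotent elements of order the characteristic without fixed subspaces of a given type.
-/
import Cfsg.Agent.Lib.Classical22.OrthTypeUnipotentWitness
import Cfsg.Agent.Lib.Classical22.OrthTypeSemisimple

set_option autoImplicit false

namespace CfsgLib.Classical22.OrthType

open CfsgLib.Classical Module

universe u

variable {F : Type u} [Field F] [Fintype F]
variable {V : Type u} [AddCommGroup V] [Module F V] [FiniteDimensional F V] {Q : QuadraticForm F V}

/-- A summand without dimensions. -/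
theorem sg_wss_zero {S : Space F} {ε : ℤ} (hS : Sg S.form ε) :
    Sg ((QuadraticMap.weightedSumSquares F (Fin.elim0 : Fin 0 → F)).prod S.form) ε := by
  have h := (sg_subsingleton (QuadraticMap.weightedSumSquares F (Fin.elim0 : Fin 0 → F)) (by simp)).prod hS
  rwa [one_mul] at h

/-- An isometry from a space of the same sign. -/
theorem model_even (hQ : PolarNondeg Q) {ε : ℤ} (hε : Sg Q ε) {W : Type u} [AddCommGroup W] [Module F W]
    [FiniteDimensional F W] {R : QuadraticForm F W} (hR : PolarNondeg R) (hRs : Sg R ε)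
    (hd : finrank F V = finrank F W) : ∃ a : F, a ≠ 0 ∧ a = 1 ∧ Isom (a • Q) R :=
  ⟨1, one_ne_zero, rfl, (isom_one_smul Q).trans' (hε.isom hRs hQ hR hd)⟩

/-- A totally singular subspace of half the dimension forces plus sign. -/
theorem sg_one_of_half {W T : Submodule F V} (hW : PolarNondeg (res Q W)) (hT : T ≤ W) (hTs : ∀ u ∈ T, Q u = 0)
    (hd : 2 * finrank F T = finrank F W) : Sg (res Q W) 1 :=
  (sg_one_iff hW ⟨finrank F T, by omega⟩).2 ⟨T.comap W.subtype, fun u hu => hTs _ hu, by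
    rw [(Submodule.comapSubtypeEquivOfLe hT).finrank_eq, hd]⟩

/-- A line. -/
theorem exists_line (h2 : (2 : F) ≠ 0) {w : F} (hw : w ≠ 0) :
    ∃ S : Space F, finrank F S.carrier = 1 ∧ ∀ s : S.carrier, s ≠ 0 → ∃ t : F, t ≠ 0 ∧ S.form s = w * (t * t) :=
  ⟨⟨Unit → F, w • qLine F, polarNondeg_smul (polarNondeg_qLine h2) hw⟩, by simp, fun s hs =>
    ⟨s (), fun h => hs (funext fun _ => h), by simp [qLine]⟩⟩

variable {p : ℕ} [hp : Fact p.Prime] [CharP F p]

theorem two_ne_zero_of_char (h : p ≠ 2) : (2 : F) ≠ 0 := fun h' => h (by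
  haveI : CharP F 2 := CharTwo.of_one_ne_zero_of_two_eq_zero one_ne_zero h'
  exact CharP.eq F ‹CharP F p› ‹CharP F 2›)

/-- No elliptic fixed subspaces in odd dimension. -/
theorem unipotent_odd_dim (hp2 : p ≠ 2) (hQ : PolarNondeg Q) {d : ℕ} (hn : finrank F V = 2 * d + 1) (hd : 1 ≤ d) :
    ∃ g : qAut Q, g ∈ commutator (qAut Q) ∧ g ^ p = 1 ∧ g ≠ 1 ∧
      ∀ W : Submodule F V, (∀ w ∈ W, g.1 w ∈ W) → PolarNondeg (res Q W) → Even (finrank F W) →
        Sg (res Q W) 1 := by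
  have h2 := two_ne_zero_of_char (F := F) hp2
  obtain ⟨l, b, S, hlb, hS, hbS⟩ : ∃ (l b : ℕ) (S : Space F), 0 < l + b ∧
      4 * l + 3 * b + finrank F S.carrier = 2 * d + 1 ∧ finrank F S.carrier + b = 1 := by
    rcases Nat.even_or_odd' d with ⟨l, rfl | rfl⟩
    · obtain ⟨S, hS, -⟩ := exists_line h2 (one_ne_zero (α := F))
      exact ⟨l, 0, S, by omega, by omega, by omega⟩
    · obtain ⟨S, hS, -⟩ := exists_space_even (F := F) 0 (Or.inl rfl) fun _ => rfl
      exact ⟨l, 1, S, by omega, by omega, by omega⟩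
  obtain ⟨a, -, -, g, hg, hgp, hg1, -, hW⟩ := exists_unipotent (c := fun _ : Fin b => (1 : F)) hQ (Or.inr (by omega))
    hlb (fun h => absurd h hp2) (fun _ => one_ne_zero) S (fun _ => True) fun R hR _ => by
      obtain ⟨w, hw, hi⟩ := exists_similar h2 hR hQ (by rw [finrank_uCar, hn, hS])
        (by rw [finrank_uCar, hS]; exact odd_two_mul_add_one d)
      exact ⟨w, hw, trivial, hi.symm'⟩
  refine ⟨g, hg, hgp, hg1, fun W hWi hWn hev => ?_⟩
  obtain ⟨k, T, σ, T₀, hT₀, hT, hTs, hsum, hTk, hTm, hkS, hσ, -⟩ := hW W hWi hWn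
  obtain ⟨j, hj⟩ := hev
  exact sg_one_of_half hWn hT₀ hTs (by omega)

/-- No elliptic fixed subspaces in a split space. -/
theorem unipotent_plus (hQ : PolarNondeg Q) (hε : Sg Q 1) {d : ℕ} (hn : finrank F V = 2 * d) (hd : 3 ≤ d) :
    ∃ g : qAut Q, g ∈ commutator (qAut Q) ∧ g ^ p = 1 ∧ (∀ z : F, ∃ v, g.1 v ≠ z • v) ∧
      ∀ W : Submodule F V, (∀ w ∈ W, g.1 w ∈ W) → PolarNondeg (res Q W) → Even (finrank F W) →
        Sg (res Q W) 1 := by
  obtain ⟨l, S, hl, hS, hSs, hS2⟩ : ∃ (l : ℕ) (S : Space F), 0 < l ∧ 4 * l + finrank F S.carrier = 2 * d ∧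
      Sg S.form 1 ∧ finrank F S.carrier ≤ 2 := by
    rcases Nat.even_or_odd' d with ⟨l, rfl | rfl⟩
    · obtain ⟨S, hS, hSs⟩ := exists_space_even (F := F) 0 (Or.inl rfl) fun _ => rfl
      exact ⟨l, S, by omega, by omega, hSs, by omega⟩
    · obtain ⟨S, hS, hSs⟩ := exists_space_even (F := F) 1 (Or.inl rfl) fun _ => rfl
      exact ⟨l, S, by omega, by omega, hSs, by omega⟩
  obtain ⟨a, ha, -, g, hg, hgp, -, hns, hW⟩ := exists_unipotent (b := 0) (l := l) (c := Fin.elim0) hQ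
    (Or.inr (by omega)) (by omega) (fun _ => rfl) (fun i => i.elim0) S (· = 1)
    fun R hR hRs => model_even hQ hε hR (hRs 1 (sg_wss_zero hSs)) (by rw [finrank_uCar, hn]; omega)
  refine ⟨g, hg, hgp, hns, fun W hWi hWn hev => ?_⟩
  obtain ⟨k, T, σ, T₀, hT₀, hT, hTs, hsum, hTk, hTm, hkS, hσ, -, -, -, hfull⟩ := hW W hWi hWn
  obtain ⟨j, hj⟩ := hev
  rcases Nat.lt_or_ge (2 * T) (finrank F W) with hlt | hge
  · obtain ⟨U, hU, hUd⟩ := (sg_one_iff S.nondeg hSs.even).1 hSs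
    obtain ⟨s, hs, hs0⟩ := U.exists_mem_ne_zero_of_ne_bot fun h => by rw [h, finrank_bot] at hUd; omega
    obtain ⟨w, hw, hwT, hwn, hwv⟩ := hfull (by omega) s hs0
    rw [hU s hs, mul_eq_zero, or_iff_right ha] at hwv
    refine sg_one_of_half hWn (T := T₀ ⊔ Submodule.span F {w})
      (sup_le hT₀ ((Submodule.span_singleton_le_iff_mem _ _).2 hw)) ?_ ?_
    · intro x hx
      obtain ⟨u, hu, y, hy, rfl⟩ := Submodule.mem_sup.1 hx
      obtain ⟨t, rfl⟩ := Submodule.mem_span_singleton.1 hy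
      rw [quad_add, quad_smul, QuadraticMap.polar_smul_right, QuadraticMap.polar_comm Q u w, hwT u hu, hTs u hu, hwv]
      simp
    · have h := Submodule.finrank_sup_add_finrank_inf_eq T₀ (Submodule.span F {w})
      have hdis : T₀ ⊓ Submodule.span F {w} = ⊥ := by
        rw [eq_bot_iff]
        rintro x ⟨hx, hx'⟩
        obtain ⟨t, rfl⟩ := Submodule.mem_span_singleton.1 hx'
        by_contra h0
        have ht : t ≠ 0 := fun h => h0 (by simp [h])
        exact hwn (by simpa [smul_smul, ht] using T₀.smul_mem t⁻¹ hx)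
      rw [hdis, finrank_bot, finrank_span_singleton (fun h => hwn (by rw [h]; exact zero_mem _))] at h
      omega
  · exact sg_one_of_half hWn hT₀ hTs (by omega)

/-- Full rank: fixed subspaces have dimension divisible by four. -/
theorem unipotent_full (hQ : PolarNondeg Q) (hε : Sg Q 1) {l : ℕ} (hn : finrank F V = 4 * l) (hl : 2 ≤ l) :
    ∃ g : qAut Q, g ∈ commutator (qAut Q) ∧ g ^ p = 1 ∧ (∀ z : F, ∃ v, g.1 v ≠ z • v) ∧
      ∀ W : Submodule F V, (∀ w ∈ W, g.1 w ∈ W) → PolarNondeg (res Q W) → 4 ∣ finrank F W := by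
  obtain ⟨S, hS, hSs⟩ := exists_space_even (F := F) 0 (Or.inl rfl) fun _ => rfl
  obtain ⟨a, -, -, g, hg, hgp, -, hns, hW⟩ := exists_unipotent (b := 0) (l := l) (c := Fin.elim0) hQ
    (Or.inr (by omega)) (by omega) (fun _ => rfl) (fun i => i.elim0) S (· = 1)
    fun R hR hRs => model_even hQ hε hR (hRs 1 (sg_wss_zero hSs)) (by rw [finrank_uCar, hn]; omega)
  refine ⟨g, hg, hgp, hns, fun W hWi hWn => ?_⟩
  obtain ⟨k, T, σ, T₀, -, -, -, hsum, hTk, hTm, hkS, hσ, ⟨j, hj⟩, -⟩ := hW W hWi hWn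
  omega

/-- Fixed subspaces of dimension congruent to zero modulo four are split, and none has dimension three modulo four. -/
theorem unipotent_plane (hQ : PolarNondeg Q) {ε : ℤ} (hε : Sg Q ε) {l : ℕ} (hn : finrank F V = 4 * l + 2)
    (hl : 2 ≤ l) :
    ∃ g : qAut Q, g ∈ commutator (qAut Q) ∧ g ^ p = 1 ∧ (∀ z : F, ∃ v, g.1 v ≠ z • v) ∧
      ∀ W : Submodule F V, (∀ w ∈ W, g.1 w ∈ W) → PolarNondeg (res Q W) →
        finrank F W % 4 ≠ 3 ∧ (finrank F W % 4 = 0 → Sg (res Q W) 1) := by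
  obtain ⟨S, hS, hSs⟩ := exists_space_even (F := F) 1 (hε.cases hQ) fun h => absurd h one_ne_zero
  obtain ⟨a, -, -, g, hg, hgp, -, hns, hW⟩ := exists_unipotent (b := 0) (l := l) (c := Fin.elim0) hQ
    (Or.inr (by omega)) (by omega) (fun _ => rfl) (fun i => i.elim0) S (· = 1)
    fun R hR hRs => model_even hQ hε hR (hRs ε (sg_wss_zero hSs)) (by rw [finrank_uCar, hn]; omega)
  refine ⟨g, hg, hgp, hns, fun W hWi hWn => ?_⟩
  obtain ⟨k, T, σ, T₀, hT₀, hT, hTs, hsum, hTk, hTm, hkS, hσ, ⟨j, hj⟩, -⟩ := hW W hWi hWn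
  exact ⟨by omega, fun h4 => sg_one_of_half hWn hT₀ hTs (by omega)⟩

/-- Two blocks of size three: no fixed subspace of dimension one modulo four. -/
theorem unipotent_pair (hp2 : p ≠ 2) (hQ : PolarNondeg Q) {ε : ℤ} (hε : Sg Q ε) {l : ℕ}
    (hn : finrank F V = 4 * l + 6) :
    ∃ g : qAut Q, g ∈ commutator (qAut Q) ∧ g ^ p = 1 ∧ (∀ z : F, ∃ v, g.1 v ≠ z • v) ∧
      ∀ W : Submodule F V, (∀ w ∈ W, g.1 w ∈ W) → PolarNondeg (res Q W) → finrank F W % 4 ≠ 1 := by
  have h2 := two_ne_zero_of_char (F := F) hp2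
  obtain ⟨c, hc, hcs⟩ : ∃ c : F, c ≠ 0 ∧ chi (-(1 * c)) = ε := by
    obtain ⟨ν, hν⟩ := FiniteField.exists_nonsquare (F := F) (fun h => h2 (by
      haveI := ringChar.charP F; rw [h] at *; exact CharP.cast_eq_zero F 2))
    rcases hε.cases hQ with rfl | rfl
    · exact ⟨-1, neg_ne_zero.2 one_ne_zero, by rw [one_mul, neg_neg, chi_one]⟩
    · refine ⟨-ν, neg_ne_zero.2 fun h => hν (h ▸ ⟨0, by simp⟩), ?_⟩
      rw [one_mul, neg_neg]
      exact (chi_pm ν).resolve_left fun h => hν (chi_eq_one.1 h)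
  obtain ⟨S, hS, -⟩ := exists_space_even (F := F) 0 (Or.inl rfl) fun _ => rfl
  haveI : Subsingleton S.carrier := Module.finrank_zero_iff.1 (by omega)
  have hpl : Sg ((QuadraticMap.weightedSumSquares F ![(1 : F), c]).prod S.form) ε := by
    have h := (sg_pair (Q := (QuadraticMap.weightedSumSquares F ![(1 : F), c]).prod S.form) h2
      (by simp [Module.finrank_prod, hS]) (v := (![1, 0], 0)) (w := (![0, 1], 0))
      (by simp [QuadraticMap.weightedSumSquares_apply]) (by simp [QuadraticMap.weightedSumSquares_apply, hc])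
      (by simp [QuadraticMap.polar, QuadraticMap.weightedSumSquares_apply])).2
    simpa [QuadraticMap.weightedSumSquares_apply, ← hcs] using h
  obtain ⟨a, -, -, g, hg, hgp, -, hns, hW⟩ := exists_unipotent (b := 2) (l := l) (c := ![(1 : F), c]) hQ
    (Or.inr (by omega)) (by omega) (fun h => absurd h hp2) (fun i => by fin_cases i <;> simp [hc]) S (· = 1)
    fun R hR hRs => model_even hQ hε hR (hRs ε hpl) (by rw [finrank_uCar, hn]; omega)
  refine ⟨g, hg, hgp, hns, fun W hWi hWn => ?_⟩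
  obtain ⟨k, T, σ, T₀, -, -, -, hsum, hTk, hTm, hkS, hσ, ⟨j, hj⟩, -⟩ := hW W hWi hWn
  omega

omit hp [CharP F p] in
/-- A singular subspace and an anisotropic vector orthogonal to it. -/
theorem exists_core (h2 : (2 : F) ≠ 0) (hQ : PolarNondeg Q) {t : ℕ} (hn : finrank F V = 2 * t + 1) :
    ∃ (T : Submodule F V) (z : V), finrank F T = t ∧ (∀ u ∈ T, Q u = 0) ∧ Q z ≠ 0 ∧
      ∀ u ∈ T, QuadraticMap.polar Q z u = 0 := by
  obtain ⟨X, T, -, -, -, -, hT, hTs⟩ := exists_ts hQ (fun _ => h2) (m := t) (by omega)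
  by_contra hcon
  push Not at hcon
  have h : ∀ z ∈ perp Q T, Q z = 0 := fun z hz => by
    by_contra h0
    obtain ⟨u, hu, huz⟩ := hcon T z hT hTs h0
    exact huz (by rw [QuadraticMap.polar_comm]; exact mem_perp.1 hz u hu)
  have h1 := ts_le_half hQ h
  have h3 := finrank_perp hQ T
  omega

/-- An odd-dimensional class without fixed members in an elliptic space. -/
theorem unipotent_class (hp2 : p ≠ 2) (hQ : PolarNondeg Q) (hε : Sg Q (-1)) {l : ℕ}
    (hn : finrank F V = 4 * l + 4) (hl : 1 ≤ l) {W₀ : Submodule F V} (hW₀ : PolarNondeg (res Q W₀)) (hodd : Odd (finrank F W₀)) :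
    ∃ g : qAut Q, g ∈ commutator (qAut Q) ∧ g ^ p = 1 ∧ (∀ z : F, ∃ v, g.1 v ≠ z • v) ∧
      ∀ W : Submodule F V, (∀ w ∈ W, g.1 w ∈ W) → ¬ Isom (res Q W₀) (res Q W) := by
  have h2 := two_ne_zero_of_char (F := F) hp2
  obtain ⟨t, ht⟩ := hodd
  obtain ⟨T', z', hT', hTs', hz', hzT'⟩ := exists_core h2 hW₀ ht
  obtain ⟨ν, hν⟩ := FiniteField.exists_nonsquare (F := F) (fun h => h2 (by
    haveI := ringChar.charP F; rw [h] at *; exact CharP.cast_eq_zero F 2))
  have hν0 : ν ≠ 0 := fun h => hν (h ▸ ⟨0, by simp⟩)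
  have hνs : chi ν = -1 := (chi_pm ν).resolve_left fun h => hν (chi_eq_one.1 h)
  obtain ⟨v, hv⟩ : ∃ v : F, v = ν * res Q W₀ z' := ⟨_, rfl⟩
  have hv0 : v ≠ 0 := hv ▸ mul_ne_zero hν0 hz'
  -- the value of the block and of the line
  obtain ⟨c, w, hc, hw, hcw, hsel⟩ : ∃ c w : F, c ≠ 0 ∧ w ≠ 0 ∧ chi (-(c * w)) = -1 ∧
      (Odd t → c = v) ∧ (Even t → w = v) := by
    have hneg : chi (-(v * (-(v * ν)))) = -1 := by
      rw [show -(v * (-(v * ν))) = v * v * ν by ring, chi_mul (mul_ne_zero hv0 hv0) hν0, chi_sq, one_mul, hνs]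
    rcases Nat.even_or_odd t with h | h
    · exact ⟨-(v * ν), v, neg_ne_zero.2 (mul_ne_zero hv0 hν0), hv0, by rwa [mul_comm],
        fun h' => absurd h (Nat.not_even_iff_odd.2 h'), fun _ => rfl⟩
    · exact ⟨v, -(v * ν), hv0, neg_ne_zero.2 (mul_ne_zero hv0 hν0), hneg, fun _ => rfl,
        fun h' => absurd h' (Nat.not_even_iff_odd.2 h)⟩
  obtain ⟨S, hS, hSv⟩ := exists_line h2 hw
  obtain ⟨s0, hs0⟩ : ∃ s : S.carrier, s ≠ 0 := by
    haveI : Nontrivial S.carrier := Module.nontrivial_of_finrank_pos (R := F) (by omega)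
    exact exists_ne 0
  obtain ⟨t0, ht0, ht0v⟩ := hSv s0 hs0
  have hpl : Sg ((QuadraticMap.weightedSumSquares F fun _ : Fin 1 => c).prod S.form) (-1) := by
    have h := (sg_pair (Q := (QuadraticMap.weightedSumSquares F fun _ : Fin 1 => c).prod S.form) h2
      (by simp [Module.finrank_prod, hS]) (v := ((fun _ => 1), 0)) (w := (0, s0))
      (by simp [QuadraticMap.weightedSumSquares_apply, hc]) (by simp [ht0v, hw, ht0])
      (by simp [QuadraticMap.polar, QuadraticMap.weightedSumSquares_apply])).2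
    have e : chi (-(c * (w * (t0 * t0)))) = -1 := by
      rw [show -(c * (w * (t0 * t0))) = -(c * w) * (t0 * t0) by ring,
        chi_mul (neg_ne_zero.2 (mul_ne_zero hc hw)) (mul_ne_zero ht0 ht0), chi_sq, mul_one, hcw]
    simpa [QuadraticMap.weightedSumSquares_apply, ht0v, e] using h
  obtain ⟨a, -, rfl, g, hg, hgp, -, hns, hW⟩ := exists_unipotent (b := 1) (l := l) (c := fun _ : Fin 1 => c) hQ
    (Or.inr (by omega)) (by omega) (fun h => absurd h hp2) (fun _ => hc) S (· = 1)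
    fun R hR hRs => model_even hQ hε hR (hRs (-1) hpl) (by rw [finrank_uCar, hn]; omega)
  refine ⟨g, hg, hgp, hns, fun W hWi hi => ?_⟩
  have hWn := polarNondeg_of_isom hi hW₀
  obtain ⟨k, T, σ, T₀, hT₀, hT, hTs, hsum, hTk, hTm, hkS, hσ, ⟨j, hj⟩, hz, hlt, -⟩ := hW W hWi hWn
  have hd : finrank F W = 2 * t + 1 := by rw [← hi.finrank_eq, ht]
  have hTt : T = t := by omega
  obtain ⟨y, hy, hyT, r, hr, hyv⟩ : ∃ y ∈ W, (∀ u ∈ T₀, QuadraticMap.polar Q y u = 0) ∧
      ∃ r : F, r ≠ 0 ∧ Q y = v * (r * r) := by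
    rcases Nat.eq_zero_or_pos σ with h0 | h0
    · obtain ⟨y, hy, hyT, s, hs, hyv⟩ := hlt (by omega)
      obtain ⟨r, hr, hrv⟩ := hSv s hs
      refine ⟨y, hy, hyT, r, hr, ?_⟩
      rw [one_mul] at hyv
      rw [hyv, hrv, hsel.2 ⟨j, by omega⟩]
    · obtain ⟨y, hy, hyT, r, hr, hyv⟩ := hz h0
      refine ⟨y, hy, hyT, r 0, fun h => hr (funext fun i => by rw [Subsingleton.elim i 0]; exact h), ?_⟩
      rw [one_mul] at hyv
      rw [hyv, Fin.sum_univ_one, hsel.1 ⟨j - 1, by omega⟩]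
  obtain ⟨e, he⟩ := hi.symm'
  have h := class_value h2 hW₀ ht (T := ((T₀.comap W.subtype).map e.toLinearMap)) (T' := T')
    (z := e ⟨y, hy⟩) (z' := z') ?_ ?_ hT' hTs' ?_ hz' ?_ hzT'
  · rw [he, show res Q W ⟨y, hy⟩ = Q y from rfl, hyv, hv,
      show ν * res Q W₀ z' * (r * r) * res Q W₀ z' = ν * ((res Q W₀ z' * r) * (res Q W₀ z' * r)) by ring,
      chi_mul hν0 (mul_ne_zero (mul_ne_zero hz' hr) (mul_ne_zero hz' hr)), chi_sq, mul_one, hνs] at h
    norm_num at h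
  · rw [LinearEquiv.finrank_map_eq, (Submodule.comapSubtypeEquivOfLe hT₀).finrank_eq, hT, hTt]
  · rintro _ ⟨u, hu, rfl⟩
    exact (he u).trans (hTs _ hu)
  · rw [he]
    show Q y ≠ 0
    rw [hyv]
    exact mul_ne_zero hv0 (mul_ne_zero hr hr)
  · rintro _ ⟨u, hu, rfl⟩
    simp only [QuadraticMap.polar, LinearEquiv.coe_coe, ← map_add, he]
    have := hyT _ hu
    simpa [QuadraticMap.polar] using this

end CfsgLib.Classical22.OrthType
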