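/-
Maximality of the subfield subgroups of `PSL_2(q)`.
-/
import Cfsg.Agent.Lib.Classical.Dickson.MaxDihedral
import Cfsg.Agent.Lib.Classical.Dickson.Subfield
import Cfsg.Agent.Lib.Classical.Dickson.SmallSub
import Cfsg.Agent.Lib.Classical.Dickson.MinIndex
import Cfsg.Agent.Lib.Transfer.DicksonLine

set_option autoImplicit false

namespace CfsgLib.Classical22

open Matrix CfsgLib.Classical CfsgLib.Classical.Dickson CfsgLib.Transfer
open scoped MatrixGroups

theorem psl_pair_not_pPower {K : Type*} [Field K] [Fintype K] (p : ℕ) [hp : Fact p.Prime] [CharP K p] :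
    ∃ a b : ProjectiveSpecialLinearGroup (Fin 2) K, a ^ p = 1 ∧ b ^ p = 1 ∧ ∀ i : ℕ, (a * b) ^ p ^ i ≠ 1 := by
  classical
  have hU : ∀ (c : K) (n : ℕ), upperU c ^ n = upperU ((n : K) * c) := fun c n => by
    induction n with
    | zero => rw [pow_zero, Nat.cast_zero, zero_mul, upperU_zero]
    | succ n ih => rw [pow_succ, ih, upperU_mul, Nat.cast_succ, add_mul, one_mul]
  have hL : ∀ (c : K) (n : ℕ), lowerU c ^ n = lowerU ((n : K) * c) := fun c n => by
    induction n with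
    | zero => rw [pow_zero, Nat.cast_zero, zero_mul]; exact Subtype.ext (by simp [Matrix.one_fin_two])
    | succ n ih =>
      rw [pow_succ, ih]
      exact Subtype.ext (by
        rw [Matrix.SpecialLinearGroup.coe_mul, lowerU_coe, lowerU_coe, lowerU_coe]
        simp [Nat.cast_succ, add_mul])
  let π := QuotientGroup.mk' (Subgroup.center (SpecialLinearGroup (Fin 2) K))
  have hπ : ∀ M : SpecialLinearGroup (Fin 2) K, π M = 1 → M.1 0 1 = 0 := fun M hM => by
    have hc : M ∈ Subgroup.center (SpecialLinearGroup (Fin 2) K) := (QuotientGroup.eq_one_iff M).1 hM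
    obtain ⟨r, -, hr⟩ := Matrix.SpecialLinearGroup.mem_center_iff.1 hc
    rw [← hr]
    simp
  have hcast : ((p : ℕ) : K) = 0 := CharP.cast_eq_zero K p
  obtain ⟨x, n, hn, hnp, hpow⟩ : ∃ (x : K) (n : ℕ), n.Prime ∧ n ≠ p ∧ π ((upperU 1 * lowerU x) ^ n) = 1 := by
    by_cases h2 : p = 2
    · subst h2
      have h20 : (2 : K) = 0 := by simpa using hcast
      refine ⟨1, 3, Nat.prime_three, by norm_num, ?_⟩
      rw [show (upperU (1 : K) * lowerU 1) ^ 3 = 1 from Subtype.ext (by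
        rw [Matrix.SpecialLinearGroup.coe_pow, Matrix.SpecialLinearGroup.coe_mul, upperU_coe, lowerU_coe,
          Matrix.SpecialLinearGroup.coe_one, Matrix.one_fin_two]
        ext i j
        fin_cases i <;> fin_cases j <;>
          simp [pow_succ, Matrix.mul_apply, Fin.sum_univ_two] <;> ring_nf <;>
          simp [h20, show (3 : K) = 1 by linear_combination h20, show (5 : K) = 1 by linear_combination 2 * h20,
            show (8 : K) = 0 by linear_combination 4 * h20, show (13 : K) = 1 by linear_combination 6 * h20]), map_one]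
    · refine ⟨-2, 2, Nat.prime_two, Ne.symm h2, (QuotientGroup.eq_one_iff _).2
        (Matrix.SpecialLinearGroup.mem_center_iff.2 ⟨-1, by norm_num, ?_⟩)⟩
      rw [Matrix.SpecialLinearGroup.coe_pow, Matrix.SpecialLinearGroup.coe_mul, upperU_coe, lowerU_coe]
      ext i j
      fin_cases i <;> fin_cases j <;> simp [pow_succ, Matrix.mul_apply, Fin.sum_univ_two] <;> ring
  refine ⟨π (upperU 1), π (lowerU x), ?_, ?_, fun i hi => ?_⟩
  · rw [← map_pow, hU, hcast, zero_mul, upperU_zero, map_one]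
  · rw [← map_pow, hL, hcast, zero_mul, show lowerU (0 : K) = 1 from Subtype.ext (by simp [Matrix.one_fin_two]),
      map_one]
  · have hne : π (upperU 1 * lowerU x) ≠ 1 := fun h => by
      have := hπ _ h
      rw [Matrix.SpecialLinearGroup.coe_mul, upperU_coe, lowerU_coe] at this
      simp at this
    rw [map_pow] at hpow
    rw [← map_mul] at hi
    refine hne (orderOf_eq_one_iff.1 (Nat.eq_one_of_dvd_coprimes ?_ (orderOf_dvd_of_pow_eq_one hpow)
      (orderOf_dvd_of_pow_eq_one hi)))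
    exact ((Nat.coprime_primes hn hp.out).2 hnp).pow_right i

variable {F : Type*} [Field F] [Fintype F]

/-- The subgroups isomorphic to `PSL_2` or `PGL_2` of a maximal subfield are maximal. -/
theorem subfield_coatom {K : Type*} [Field K] [Fintype K] {Q r : ℕ} (hK : Fintype.card K = Q)
    (hF : Fintype.card F = Q ^ r) (hr : r.Prime) (H : Subgroup (ProjectiveSpecialLinearGroup (Fin 2) F))
    (h : (Nonempty (H ≃* Matrix.ProjGenLinGroup (Fin 2) K) ∧ r = 2 ∧ Odd Q) ∨
      (Nonempty (H ≃* ProjectiveSpecialLinearGroup (Fin 2) K) ∧ r ≠ 2 ∧ Odd Q) ∨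
      (Nonempty (H ≃* ProjectiveSpecialLinearGroup (Fin 2) K) ∧ Even Q ∧ Q ≠ 2)) : IsCoatom H := by
  classical
  obtain ⟨p, _⟩ := CharP.exists F
  haveI hpF : Fact p.Prime := ⟨CharP.char_is_prime F p⟩
  obtain ⟨q, hq⟩ : ∃ q, q = Q ^ r := ⟨_, rfl⟩
  rw [← hq] at hF
  have hQ1 : 1 < Q := hK ▸ Fintype.one_lt_card
  have hq2 : 2 ≤ q := hF ▸ Fintype.one_lt_card
  have hqQ : Q * Q ≤ q := by rw [hq, ← pow_two]; exact Nat.pow_le_pow_right (by omega) hr.two_le
  obtain ⟨σ⟩ := exists_hom_of_card_pow (F := F) (K := K) r (by rw [hK, hF, hq])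
  haveI : CharP K p := (σ.charP_iff_charP p).2 inferInstance
  obtain ⟨⟨a, ha0⟩, -, ha⟩ := FiniteField.card K p
  simp only [PNat.mk_coe, hK] at ha
  obtain ⟨d, hd⟩ : ∃ d, d = Nat.gcd 2 (Q - 1) := ⟨_, rfl⟩
  have hP := gcd_mul_card_PSL (F := K) hK
  rw [← hd] at hP
  have hd2 : d ∣ 2 := hd ▸ Nat.gcd_dvd_left _ _
  -- the order of `H`
  have hH2 : Q * ((Q - 1) * (Q + 1)) ∣ 2 * Nat.card H := by
    rcases h with ⟨⟨e⟩, -⟩ | ⟨⟨e⟩, -⟩ | ⟨⟨e⟩, -⟩ <;> rw [Nat.card_congr e.toEquiv]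
    · rw [card_pgl hK]; exact dvd_mul_left _ _
    · rw [← hP]; exact mul_dvd_mul hd2 dvd_rfl
    · rw [← hP]; exact mul_dvd_mul hd2 dvd_rfl
  have hHle : Nat.card H ≤ Q * ((Q - 1) * (Q + 1)) := by
    rcases h with ⟨⟨e⟩, -⟩ | ⟨⟨e⟩, -⟩ | ⟨⟨e⟩, -⟩ <;> rw [Nat.card_congr e.toEquiv]
    · rw [card_pgl hK]
    · exact card_psl_le hK
    · exact card_psl_le hK
  have hG := gcd_mul_card_PSL hF
  have htop : H ≠ ⊤ := by
    intro e
    rw [e, Subgroup.card_top] at hHle
    have h4 : Nat.gcd 2 (q - 1) ≤ 2 := Nat.le_of_dvd two_pos (Nat.gcd_dvd_left _ _)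
    have h5 : q * ((q - 1) * (q + 1)) ≤ 2 * (Q * ((Q - 1) * (Q + 1))) := hG ▸ Nat.mul_le_mul h4 hHle
    have h6 : 2 * Q ≤ q := (Nat.mul_le_mul_right Q hQ1).trans hqQ
    have h7 : (Q - 1) * (Q + 1) < (q - 1) * (q + 1) := Nat.mul_lt_mul_of_le_of_lt (by omega) (by omega) (by omega)
    have h8 := Nat.mul_lt_mul_of_le_of_lt h6 h7 (by omega)
    rw [mul_assoc] at h8
    omega
  refine ⟨htop, fun M hlt => by_contra fun hM => hlt.ne ?_⟩
  have hdvd := Subgroup.card_dvd_of_le hlt.le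
  have hMlt : Nat.card M < Nat.card (ProjectiveSpecialLinearGroup (Fin 2) F) := by
    rcases lt_or_eq_of_le (Subgroup.card_le_card_group M) with h' | h'
    · exact h'
    · exact absurd (Subgroup.eq_top_of_card_eq M h') hM
  have hMd : Q * ((Q - 1) * (Q + 1)) ∣ 2 * Nat.card M := hH2.trans (mul_dvd_mul_left 2 hdvd)
  rcases dickson_list p hF M with ⟨k', hk', hcase⟩ | ⟨P, N, hN, ⟨e⟩⟩ | ⟨⟨e⟩⟩ | ⟨⟨e⟩⟩ | ⟨⟨e⟩⟩ |
    ⟨L, _, _, m, hm, hcase⟩
  · exfalso
    have hMk : Nat.card M ∣ 2 * k' := by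
      rcases hcase with ⟨-, h'⟩ | ⟨⟨e⟩⟩
      · rw [h']; exact dvd_mul_left _ _
      · rw [Nat.card_congr e.toEquiv, DihedralGroup.nat_card]
    have h4 : Q ∣ 4 * k' := (dvd_mul_right Q _).trans (hMd.trans (by
      rw [show 4 * k' = 2 * (2 * k') by ring]; exact mul_dvd_mul_left 2 hMk))
    have hkcop : Nat.Coprime k' q := by
      rcases hk' with h' | h'
      · refine Nat.Coprime.coprime_dvd_left (h'.trans (Nat.div_dvd_of_dvd ?_)) ?_
        · rw [show q + 1 = (q - 1) + 2 by omega]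
          exact dvd_add (Nat.gcd_dvd_right _ _) (Nat.gcd_dvd_left _ _)
        · rw [Nat.coprime_self_add_left (m := q) (n := 1)]; exact Nat.coprime_one_left q
      · exact Nat.Coprime.coprime_dvd_left (h'.trans (Nat.div_dvd_of_dvd (Nat.gcd_dvd_right _ _)))
          ((Nat.coprime_self_sub_left (by omega : 1 ≤ q)).2 (Nat.coprime_one_left q))
    have hQk : Nat.Coprime Q k' := (hkcop.coprime_dvd_right (hq ▸ dvd_pow_self Q hr.ne_zero)).symm
    have h5 : Q ∣ 4 := hQk.dvd_of_dvd_mul_right h4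
    have hQ24 : Q = 2 ∨ Q = 4 := by
      have := Nat.le_of_dvd (by omega) h5
      interval_cases Q <;> omega
    rcases h with ⟨-, -, h'⟩ | ⟨-, -, h'⟩ | ⟨⟨e⟩, -, h'⟩
    · rcases hQ24 with rfl | rfl <;> simp [Nat.odd_iff] at h'
    · rcases hQ24 with rfl | rfl <;> simp [Nat.odd_iff] at h'
    · obtain rfl : Q = 4 := hQ24.resolve_left h'
      have h6 : d = 1 := by rw [hd]; rfl
      rw [h6, one_mul, ← Nat.card_congr e.toEquiv] at hP
      have h7 : 4 ∣ 2 * k' := ((dvd_of_eq rfl).trans (Dvd.intro _ hP.symm)).trans (hdvd.trans hMk)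
      have h8 : 2 ∣ k' := Nat.dvd_of_mul_dvd_mul_left two_pos h7
      exact absurd (Nat.eq_one_of_dvd_coprimes hQk (by norm_num) h8) (by norm_num)
  · exfalso
    obtain ⟨u, v, hu, hv, huv⟩ := psl_pair_not_pPower (K := K) p
    obtain ⟨φ, hφ⟩ : ∃ φ : ProjectiveSpecialLinearGroup (Fin 2) K →* N, Function.Injective φ := by
      rcases h with ⟨⟨f⟩, -⟩ | ⟨⟨f⟩, -⟩ | ⟨⟨f⟩, -⟩
      · exact ⟨(e.toMonoidHom.comp (Subgroup.inclusion hlt.le)).comp
          (f.symm.toMonoidHom.comp Matrix.ProjectiveSpecialLinearGroup.toPGL),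
          (e.injective.comp (Subgroup.inclusion_injective hlt.le)).comp
            (f.symm.injective.comp Matrix.ProjectiveSpecialLinearGroup.toPGL_injective)⟩
      all_goals exact ⟨(e.toMonoidHom.comp (Subgroup.inclusion hlt.le)).comp f.symm.toMonoidHom,
        (e.injective.comp (Subgroup.inclusion_injective hlt.le)).comp f.symm.injective⟩
    have hmem : ∀ w : ProjectiveSpecialLinearGroup (Fin 2) K, w ^ p = 1 →
        (φ w : ProjectiveSpecialLinearGroup (Fin 2) F) ∈ P := by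
      intro w hw
      have hZ : IsPGroup p (Subgroup.zpowers (φ w : ProjectiveSpecialLinearGroup (Fin 2) F)) := by
        obtain ⟨i, -, hi⟩ := (Nat.dvd_prime_pow hpF.out (m := 1)).1
          (show orderOf (φ w : ProjectiveSpecialLinearGroup (Fin 2) F) ∣ p ^ 1 from orderOf_dvd_of_pow_eq_one (by
            rw [pow_one, ← Subgroup.coe_pow, ← map_pow, hw, map_one, Subgroup.coe_one]))
        exact IsPGroup.of_card (n := i) (by rw [Nat.card_zpowers, hi])
      have hsup := IsPGroup.to_sup_of_normal_right' hZ P.2 (Subgroup.zpowers_le.2 (hN (φ w).2))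
      have hP' := P.3 hsup le_sup_right
      exact hP'.le (Subgroup.mem_sup_left (Subgroup.mem_zpowers _))
    obtain ⟨i, hi⟩ := P.2 ⟨_, mul_mem (hmem u hu) (hmem v hv)⟩
    refine huv i (hφ ?_)
    rw [map_pow, map_mul, map_one]
    exact Subtype.ext (by simpa using congrArg Subtype.val hi)
  · exfalso
    rw [Nat.card_congr e.toEquiv, nat_card_alternatingGroup, Nat.card_fin] at hdvd
    have hMc : Nat.card M = 12 := by rw [Nat.card_congr e.toEquiv, nat_card_alternatingGroup, Nat.card_fin]; rfl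
    have hHlt : Nat.card H < 12 := hMc ▸ lt_of_le_of_ne (Subgroup.card_le_of_le hlt.le) fun h' =>
      hlt.ne (Subgroup.eq_of_le_of_card_ge hlt.le h'.ge)
    have h' := Nat.le_of_dvd (Nat.mul_pos two_pos Nat.card_pos) hH2
    have hQ3 : 3 ≤ Q := by
      rcases h with ⟨-, -, ho⟩ | ⟨-, -, ho⟩ | ⟨-, -, ho⟩ <;> [skip; skip; omega] <;>
        (rw [Nat.odd_iff] at ho; omega)
    have := Nat.mul_le_mul hQ3 (Nat.mul_le_mul (show 2 ≤ Q - 1 by omega) (show 4 ≤ Q + 1 by omega))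
    omega
  · exfalso
    have hMc : Nat.card M = 24 := by rw [Nat.card_congr e.toEquiv, Nat.card_perm, Nat.card_fin]; rfl
    have hHlt : Nat.card H < 24 := hMc ▸ lt_of_le_of_ne (Subgroup.card_le_of_le hlt.le) fun h' =>
      hlt.ne (Subgroup.eq_of_le_of_card_ge hlt.le h'.ge)
    have h16 := (sym_four_iff hF).1 ⟨M, ⟨e⟩⟩
    have h' := Nat.le_of_dvd (Nat.mul_pos two_pos Nat.card_pos) hH2
    rcases h with ⟨⟨f⟩, -, ho⟩ | ⟨-, hr2, ho⟩ | ⟨-, he, ho⟩
    · rw [Nat.odd_iff] at ho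
      have := Nat.mul_le_mul (show 3 ≤ Q by omega)
        (Nat.mul_le_mul (show 2 ≤ Q - 1 by omega) (show 4 ≤ Q + 1 by omega))
      rw [Nat.card_congr f.toEquiv, card_pgl hK] at hHlt
      omega
    · rw [Nat.odd_iff] at ho
      rcases (show Q = 3 ∨ 5 ≤ Q by omega) with rfl | hQ5
      · obtain ⟨j, rfl⟩ := hr.odd_of_ne_two hr2
        rw [hq, ← pow_mul, mul_comm, pow_mul, Nat.pow_mod, pow_add, pow_mul, pow_one] at h16
        norm_num [Nat.mul_mod, Nat.pow_mod] at h16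
      · have := Nat.mul_le_mul hQ5 (Nat.mul_le_mul (show 4 ≤ Q - 1 by omega) (show 6 ≤ Q + 1 by omega))
        omega
    · rw [Nat.even_iff] at he
      have := Nat.mul_le_mul (show 4 ≤ Q by omega)
        (Nat.mul_le_mul (show 3 ≤ Q - 1 by omega) (show 5 ≤ Q + 1 by omega))
      omega
  · exfalso
    have hMc : Nat.card M = 60 := by rw [Nat.card_congr e.toEquiv, nat_card_alternatingGroup, Nat.card_fin]; rfl
    have h5 := (alt_five_iff hF).1 ⟨M, ⟨e⟩⟩
    rw [hMc] at hdvd hMd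
    have hHne : Nat.card H ≠ 60 := fun h' => hlt.ne (Subgroup.eq_of_le_of_card_ge hlt.le (by rw [h', hMc]))
    have h' := Nat.le_of_dvd (by norm_num) hMd
    have hQ5 : Q ≤ 5 := by
      by_contra hc
      have := Nat.mul_le_mul (show 6 ≤ Q by omega)
        (Nat.mul_le_mul (show 5 ≤ Q - 1 by omega) (show 7 ≤ Q + 1 by omega))
      omega
    rcases h with ⟨⟨f⟩, -, ho⟩ | ⟨⟨f⟩, hr2, ho⟩ | ⟨⟨f⟩, he, ho⟩
    · rw [Nat.card_congr f.toEquiv, card_pgl hK] at hdvd
      rw [Nat.odd_iff] at ho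
      interval_cases Q <;> first | omega | norm_num at hdvd
    · rw [Nat.odd_iff] at ho
      rw [← Nat.card_congr f.toEquiv] at hP
      rcases (show Q = 3 ∨ Q = 5 by omega) with rfl | rfl <;> norm_num at hd
      · obtain ⟨j, rfl⟩ := hr.odd_of_ne_two hr2
        rcases (Nat.Prime.dvd_mul (by norm_num : Nat.Prime 5)).1 h5 with h5' | h5'
        · rw [hq] at h5'
          exact absurd (Nat.Prime.dvd_of_dvd_pow (by norm_num) h5') (by norm_num)
        · have h9 : q ^ 2 % 5 = 4 := by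
            rw [hq, ← pow_mul, mul_comm, pow_mul, pow_add, pow_mul, Nat.mul_mod, Nat.pow_mod]
            norm_num
          have : 1 ≤ q ^ 2 := Nat.one_le_pow _ _ (by omega)
          omega
      · subst hd; omega
    · rw [← Nat.card_congr f.toEquiv] at hP
      rw [Nat.even_iff] at he
      obtain rfl : Q = 4 := by omega
      have h6 : d = 1 := by rw [hd]; decide
      rw [h6, one_mul] at hP
      omega
  · obtain ⟨τ⟩ := exists_hom_of_card_pow (F := F) (K := L) m (hm.trans hF.symm)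
    haveI : CharP L p := (τ.charP_iff_charP p).2 inferInstance
    obtain ⟨⟨b, hb0⟩, -, hb⟩ := FiniteField.card L p
    simp only [PNat.mk_coe] at hb
    obtain ⟨R, hR⟩ : ∃ R, R = Fintype.card L := ⟨_, rfl⟩
    rw [← hR] at hm hb
    have hm2 : 2 ≤ m := by
      rcases (show m = 0 ∨ m = 1 ∨ 2 ≤ m by omega) with rfl | rfl | h' <;> [skip; skip; exact h']
      · simp at hm; omega
      · rw [pow_one] at hm
        exfalso
        rcases hcase with ⟨⟨e⟩⟩ | ⟨⟨e⟩⟩ <;> rw [Nat.card_congr e.toEquiv] at hMlt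
        · rw [Nat.eq_of_mul_eq_mul_left (Nat.gcd_pos_of_pos_left _ two_pos)
            ((gcd_mul_card_PSL (hR.symm.trans hm)).trans (gcd_mul_card_PSL hF).symm)] at hMlt
          exact lt_irrefl _ hMlt
        · rw [card_pgl (hR.symm.trans hm)] at hMlt
          exact absurd hMlt (not_lt.2 (card_psl_le hF))
    have hMR : Nat.card M ∣ R * ((R - 1) * (R + 1)) := by
      rcases hcase with ⟨⟨e⟩⟩ | ⟨⟨e⟩⟩ <;> rw [Nat.card_congr e.toEquiv]
      · exact Dvd.intro_left _ (gcd_mul_card_PSL hR.symm)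
      · rw [card_pgl hR.symm]
    have hsq : ∀ x : ℕ, (x - 1) * (x + 1) = x ^ 2 - 1 := fun x => by rw [mul_comm, ← Nat.sq_sub_sq, one_pow]
    have h1 : p ^ (2 * a) - 1 ∣ R * (2 * (p ^ (2 * b) - 1)) := by
      have h' : (Q - 1) * (Q + 1) ∣ 2 * (R * ((R - 1) * (R + 1))) :=
        (dvd_mul_left _ Q).trans (hMd.trans (mul_dvd_mul_left 2 hMR))
      rw [hsq, hsq, ha, hb, ← pow_mul, ← pow_mul, mul_comm a 2, mul_comm b 2] at h'
      rw [hb]
      exact h'.trans (dvd_of_eq (by ring))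
    have hcopR : Nat.Coprime (p ^ (2 * a) - 1) R := by
      rw [hb]
      refine Nat.Coprime.pow_right b ?_
      refine (Nat.coprime_self_sub_left (Nat.one_le_pow _ _ hpF.out.pos)).2 (Nat.coprime_one_left _) |>.coprime_dvd_right ?_
      exact dvd_pow_self p (by omega)
    have h2 := hcopR.dvd_of_dvd_mul_left h1
    have h3 : p ^ (2 * a) - 1 ∣ 2 * (p ^ (2 * Nat.gcd a b) - 1) := by
      rw [← Nat.gcd_mul_left, ← Nat.pow_sub_one_gcd_pow_sub_one]
      exact (Nat.dvd_gcd (dvd_mul_left _ 2) h2).trans (dvd_of_eq (Nat.gcd_mul_left _ _ _))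
    have hab : a ∣ b := by
      obtain ⟨c, hc⟩ := Nat.gcd_dvd_left a b
      rcases (show c = 0 ∨ c = 1 ∨ 2 ≤ c by omega) with rfl | rfl | hc2
      · omega
      · rw [mul_one] at hc; exact hc ▸ Nat.gcd_dvd_right a b
      · exfalso
        have hg0 : 0 < Nat.gcd a b := Nat.gcd_pos_of_pos_left _ ha0
        have hle : p ^ (2 * Nat.gcd a b) ≤ p ^ a :=
          Nat.pow_le_pow_right hpF.out.pos (by nlinarith [Nat.mul_le_mul_left (Nat.gcd a b) hc2])
        have hp2 : 2 ≤ p ^ (2 * Nat.gcd a b) := le_trans hpF.out.two_le (Nat.le_self_pow (by omega) p)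
        have h4 := Nat.le_of_dvd (by omega) h3
        have h5 : p ^ (2 * a) = p ^ a * p ^ a := by rw [two_mul, pow_add]
        have h6 : 2 * p ^ a ≤ p ^ a * p ^ a := Nat.mul_le_mul_right _ (hp2.trans hle)
        omega
    obtain ⟨c, rfl⟩ := hab
    have hexp : a * c * m = a * r := Nat.pow_right_injective hpF.out.two_le (by
      simp only
      rw [pow_mul, ← hb, hm, hq, ha, ← pow_mul])
    have hcm : c * m = r := Nat.eq_of_mul_eq_mul_left ha0 (by rw [← hexp, mul_assoc])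
    obtain rfl : c = 1 := ((Nat.dvd_prime hr).1 ⟨m, hcm.symm⟩).resolve_right fun h' => by
      have := hr.two_le
      nlinarith
    rw [one_mul] at hcm
    subst hcm
    rw [mul_one] at hb
    have hRQ : Fintype.card L = Q := by rw [← hR, hb, ha]
    refine Subgroup.eq_of_le_of_card_ge hlt.le ?_
    rcases h with ⟨⟨f⟩, -⟩ | ⟨⟨f⟩, hr2, ho⟩ | ⟨⟨f⟩, he, -⟩
    · rw [Nat.card_congr f.toEquiv, card_pgl hK]
      rcases hcase with ⟨⟨e⟩⟩ | ⟨⟨e⟩⟩ <;> rw [Nat.card_congr e.toEquiv]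
      · exact card_psl_le hRQ
      · rw [card_pgl hRQ]
    · rcases hcase with ⟨⟨e⟩⟩ | ⟨⟨e⟩⟩
      · rw [Nat.card_congr f.toEquiv, Nat.card_congr e.toEquiv]
        exact (Nat.eq_of_mul_eq_mul_left (Nat.gcd_pos_of_pos_left _ two_pos)
          ((gcd_mul_card_PSL hRQ).trans (gcd_mul_card_PSL hK).symm)).le
      · have hodd : Odd q := hq ▸ ho.pow
        exact absurd (hr.eq_two_or_odd'.resolve_left hr2)
          (Nat.not_odd_iff_even.2 (even_of_exists_pgl hF hodd m (by rw [hRQ, hq]) ⟨M, ⟨e⟩⟩))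
    · have hd1 : d = 1 := by
        rw [hd]
        exact Nat.prime_two.coprime_iff_not_dvd.2 (by rw [Nat.even_iff] at he; omega)
      rw [hd1, one_mul] at hP
      rw [Nat.card_congr f.toEquiv, hP]
      rcases hcase with ⟨⟨e⟩⟩ | ⟨⟨e⟩⟩ <;> rw [Nat.card_congr e.toEquiv]
      · exact card_psl_le hRQ
      · rw [card_pgl hRQ]

end CfsgLib.Classical22
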