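import Cfsg.Agent.Lib.Classical22.PGLMaxList
import Cfsg.Agent.Lib.Classical22.PSLMaxSubfield
import Cfsg.Agent.Lib.Classical.Dickson.MaxDihedral

/-
Maximal subgroups of `PGL_2(q)` mostly meet `PSL_2(q)` in maximal subgroups.
-/

set_option autoImplicit false

namespace CfsgLib.Classical22.PGLMax

open Matrix Projectivization CfsgLib.Classical CfsgLib.Classical.Dickson CfsgLib.Transfer
open scoped MatrixGroups LinearAlgebra.Projectivization

variable {F : Type*} [Field F] [Fintype F]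

local notation "TT" => Matrix.ProjectiveSpecialLinearGroup.toPGL (n := Fin 2) (R := F)

/-- An index two subgroup of `PGL_2` contains `PSL_2`. -/
theorem pslImage_le_of_index_two (p : ℕ) [hp : Fact p.Prime] [CharP F p] (hp2 : p ≠ 2)
    {K : Subgroup (Matrix.ProjGenLinGroup (Fin 2) F)} (hK : K.index = 2) : pslImage F ≤ K := by
  haveI := Subgroup.normal_of_index_eq_two hK
  obtain ⟨t, ht⟩ := hp.out.odd_of_ne_two hp2
  have hup : ∀ b : F, aff (1 : Fˣ) b ∈ K := fun b => by
    have h1 : aff (1 : Fˣ) b ^ p = 1 := by rw [aff_one_pow, CharP.cast_eq_zero, zero_mul, aff_one]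
    have h3 : aff (1 : Fˣ) b * (aff (1 : Fˣ) b ^ 2) ^ t = 1 := by rw [← pow_mul, ← pow_succ', ← ht, h1]
    rw [eq_inv_of_mul_eq_one_left h3]
    have h2 := Subgroup.pow_index_mem K (aff (1 : Fˣ) b)
    rw [hK] at h2
    exact inv_mem (pow_mem h2 t)
  obtain ⟨U, hU⟩ : ∃ U : F → GL (Fin 2) F, ∀ b, (U b).val = !![1, b; 0, 1] :=
    ⟨fun b => Matrix.GeneralLinearGroup.mkOfDetNeZero !![1, b; 0, 1] (by simp [Matrix.det_fin_two]), fun b => rfl⟩
  obtain ⟨L, hL⟩ : ∃ L : F → GL (Fin 2) F, ∀ b, (L b).val = !![1, 0; b, 1] :=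
    ⟨fun b => Matrix.GeneralLinearGroup.mkOfDetNeZero !![1, 0; b, 1] (by simp [Matrix.det_fin_two]), fun b => rfl⟩
  obtain ⟨w, hw⟩ : ∃ w : GL (Fin 2) F, w.val = !![0, 1; 1, 0] :=
    ⟨Matrix.GeneralLinearGroup.mkOfDetNeZero !![0, 1; 1, 0] (by simp [Matrix.det_fin_two]), rfl⟩
  have hUm : ∀ b, Matrix.ProjGenLinGroup.mk (U b) ∈ K := fun b => by
    have e : Matrix.ProjGenLinGroup.mk (U b) = aff (1 : Fˣ) b := by
      unfold aff
      exact congrArg _ (Units.ext (by rw [hU]; simp))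
    rw [e]; exact hup b
  have hLm : ∀ b, Matrix.ProjGenLinGroup.mk (L b) ∈ K := fun b => by
    have e : L b * w = w * U b := Units.ext (by
      rw [Units.val_mul, Units.val_mul, hU, hL, hw]
      ext i j
      fin_cases i <;> fin_cases j <;> simp [Matrix.mul_apply, Fin.sum_univ_two])
    rw [eq_mul_inv_of_mul_eq e, map_mul, map_mul, map_inv]
    exact (inferInstance : K.Normal).conj_mem _ (hUm b) _
  rintro _ ⟨x, rfl⟩
  induction x using QuotientGroup.induction_on with | _ M =>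
  show Matrix.ProjGenLinGroup.mk (SpecialLinearGroup.toGL M) ∈ K
  have hd : M.1 0 0 * M.1 1 1 - M.1 0 1 * M.1 1 0 = 1 := by rw [← Matrix.det_fin_two]; exact M.2
  have key : ∀ g : GL (Fin 2) F, g.val.det = 1 → g.val 1 0 ≠ 0 → Matrix.ProjGenLinGroup.mk g ∈ K := by
    intro g hg hc
    rw [Matrix.det_fin_two] at hg
    have e : g = U ((g.val 0 0 - 1) / g.val 1 0) * L (g.val 1 0) * U ((g.val 1 1 - 1) / g.val 1 0) := Units.ext (by
      rw [Units.val_mul, Units.val_mul, hU, hU, hL]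
      ext i j
      fin_cases i <;> fin_cases j <;> simp [Matrix.mul_apply, Fin.sum_univ_two] <;> field_simp <;>
        (first | linear_combination (0 : F) * hg | linear_combination hg | linear_combination -hg))
    rw [e, map_mul, map_mul]
    exact mul_mem (mul_mem (hUm _) (hLm _)) (hUm _)
  by_cases hc : M.1 1 0 = 0
  · have h00 : M.1 0 0 ≠ 0 := fun h => by rw [h, hc] at hd; simp at hd
    have h1 := key (L 1 * SpecialLinearGroup.toGL M)
      (by rw [Units.val_mul, Matrix.det_mul, hL, SpecialLinearGroup.coe_GL_coe_matrix, M.2]; simp [Matrix.det_fin_two])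
      (by rw [Units.val_mul, hL]; simpa [Matrix.mul_apply, Fin.sum_univ_two, hc] using h00)
    rw [map_mul] at h1
    exact (K.mul_mem_cancel_left (hLm 1)).1 h1
  · exact key _ M.2 hc

theorem alt_four_witness : ∃ a b : alternatingGroup (Fin 4), a * a * a = 1 ∧ a ≠ 1 ∧ b * b = 1 ∧
    b * a * b ≠ a ∧ b * a * b ≠ a⁻¹ := by decide +kernel

theorem no_alt_four_in_dihedral {k : ℕ} (φ : alternatingGroup (Fin 4) →* DihedralGroup k)
    (hφ : Function.Injective φ) : False := by
  obtain ⟨a, b, ha, ha1, hb, h1, h2⟩ := alt_four_witness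
  have hbi : (φ b)⁻¹ = φ b := inv_eq_of_mul_eq_one_right (by rw [← map_mul, hb, map_one])
  rcases hA : φ a with i | i
  · have key : ∀ x : DihedralGroup k, x * DihedralGroup.r i * x⁻¹ = DihedralGroup.r i ∨
        x * DihedralGroup.r i * x⁻¹ = (DihedralGroup.r i)⁻¹ := by
      rintro (l | l) <;> simp [DihedralGroup.inv_r, DihedralGroup.inv_sr]
    rcases key (φ b) with h | h <;> rw [hbi, ← hA, ← map_mul, ← map_mul] at h
    · exact h1 (hφ h)
    · rw [← map_inv] at h; exact h2 (hφ h)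
  · refine ha1 (hφ ?_)
    have h3 : φ a * φ a * φ a = 1 := by rw [← map_mul, ← map_mul, ha, map_one]
    rw [hA, DihedralGroup.sr_mul_self, one_mul] at h3
    rw [hA, h3, map_one]

theorem perm_four_order_le : ∀ a : Equiv.Perm (Fin 4), a = 1 ∨ a ^ 2 = 1 ∨ a ^ 3 = 1 ∨ a ^ 4 = 1 := by
  decide +kernel

theorem alt_four_order_le : ∀ a : alternatingGroup (Fin 4), a ^ 2 = 1 ∨ a ^ 3 = 1 := by decide +kernel

/-- The overgroups of the index two part of a dihedral maximal subgroup. -/
theorem dihedral_part (p : ℕ) [hp : Fact p.Prime] [CharP F p] {q : ℕ} (hF : Fintype.card F = q) (hodd : q % 2 = 1)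
    (h5 : 5 ≤ q) (h7 : q ≠ 7) (h9 : q ≠ 9) (h11 : q ≠ 11) {k : ℕ} (hk : 2 * k = q + 1 ∨ (2 * k = q - 1 ∧ q ≠ 5))
    {H Y : Subgroup (ProjectiveSpecialLinearGroup (Fin 2) F)} (hY : IsCoatom Y) (hHY : H ≤ Y)
    (hc : Nat.card H = 2 * k) {ρ σ : ProjectiveSpecialLinearGroup (Fin 2) F} (hρH : ρ ∈ H) (hσH : σ ∈ H)
    (hρ : orderOf ρ = k) (hσ : σ * σ = 1) (hσρ : σ * ρ * σ = ρ⁻¹) : Nat.card Y = Nat.card H := by
  classical
  have hdvd : 2 * k ∣ Nat.card Y := hc ▸ Subgroup.card_dvd_of_le hHY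
  have hk2 : 2 ≤ k := by omega
  obtain ⟨⟨j, hj0⟩, -, hj⟩ := FiniteField.card F p
  simp only [PNat.mk_coe, hF] at hj
  have hkp : k.Coprime p := by
    refine (hp.out.coprime_iff_not_dvd.2 fun hd => ?_).symm
    have hpq : p ∣ q := hj ▸ dvd_pow_self p hj0.ne'
    have hd2 : p ∣ 2 * k := hd.trans (dvd_mul_left k 2)
    rcases hk with h | ⟨h, -⟩ <;> rw [h] at hd2
    · exact hp.out.not_dvd_one ((Nat.dvd_add_right hpq).1 hd2)
    · have := Nat.dvd_sub hpq hd2
      rw [show q - (q - 1) = 1 by omega] at this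
      exact hp.out.not_dvd_one this
  let ρ' : Y := ⟨ρ, hHY hρH⟩
  let σ' : Y := ⟨σ, hHY hσH⟩
  have hρ' : orderOf ρ' = k := by rw [← Subgroup.orderOf_coe]; exact hρ
  have hpow : ∀ m, ρ' ^ m = 1 → k ∣ m := fun m h => hρ' ▸ orderOf_dvd_of_pow_eq_one h
  have hsub : ∀ (L : Type) [Field L] [Fintype L] (r : ℕ), q = Fintype.card L ^ r → r.Prime →
      ∀ φ : Y →* Matrix.ProjGenLinGroup (Fin 2) L, Function.Injective φ → k ≤ Fintype.card L + 1 := by
    intro L _ _ r hq hr φ hφ
    obtain ⟨τ⟩ := exists_hom_of_card_pow (F := F) (K := L) r (hq.symm.trans hF.symm)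
    haveI : CharP L p := (τ.charP_iff_charP p).2 inferInstance
    have := pgl_semisimple_le p (φ ρ') (by rw [orderOf_injective φ hφ, hρ']; exact hkp)
    rwa [orderOf_injective φ hφ, hρ'] at this
  have heq : ∀ n, n = Nat.card Y → 2 * k ∣ n → n ≤ 2 * k → Nat.card Y = Nat.card H := fun n hn hd hle => by
    subst hn
    rw [hc]
    exact le_antisymm hle (Nat.le_of_dvd Nat.card_pos hd)
  rcases psl_odd_maximal p hF hodd h5 Y hY with h | ⟨-, m, hm, ⟨e⟩⟩ | ⟨-, -, m, hm, ⟨e⟩⟩ |
    ⟨L, _, _, hq, ⟨e⟩⟩ | ⟨L, _, _, r, hr, hro, hq, ⟨e⟩⟩ | ⟨-, -, ⟨e⟩⟩ | ⟨-, -, -, ⟨e⟩⟩ | ⟨-, -, ⟨e⟩⟩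
  · exfalso
    have h1 : 4 * k ∣ q * (q - 1) := by
      rw [← h, show 4 * k = 2 * (2 * k) by ring]
      exact mul_dvd_mul_left 2 hdvd
    rcases hk with hk | ⟨hk, -⟩
    · have h2 : q + 1 ∣ q * (q - 1) := (Dvd.intro_left 2 (by omega)).trans h1
      have h3 : q + 1 ∣ q - 1 := ((Nat.coprime_self_add_left (m := q) (n := 1)).2 (Nat.coprime_one_left q)
        |> fun hcp => (show Nat.Coprime (q + 1) q from hcp)).dvd_of_dvd_mul_left h2
      have := Nat.le_of_dvd (by omega) h3
      omega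
    · rw [show 4 * k = 2 * (q - 1) by omega] at h1
      have := Nat.dvd_of_mul_dvd_mul_right (by omega) h1
      omega
  · have hY2 : Nat.card Y = q - 1 := by rw [Nat.card_congr e.toEquiv, DihedralGroup.nat_card]; omega
    exact heq (q - 1) hY2.symm (hY2 ▸ hdvd) (by omega)
  · have hY2 : Nat.card Y = q + 1 := by rw [Nat.card_congr e.toEquiv, DihedralGroup.nat_card]; omega
    rcases hk with hk | ⟨hk, -⟩
    · exact heq (q + 1) hY2.symm (hY2 ▸ hdvd) (by omega)
    · exfalso
      have h1 : q - 1 ∣ q + 1 := hk ▸ hY2 ▸ hdvd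
      have h2 := Nat.dvd_sub h1 (dvd_refl (q - 1))
      rw [show q + 1 - (q - 1) = 2 by omega] at h2
      have := Nat.le_of_dvd two_pos h2
      omega
  · exfalso
    have h1 := hsub L 2 hq Nat.prime_two e.toMonoidHom e.injective
    obtain ⟨Q, hQ⟩ : ∃ Q, Q = Fintype.card L := ⟨_, rfl⟩
    rw [← hQ] at h1 hq
    have hQ5 : Q ≤ 4 := by
      by_contra hh
      have := Nat.mul_le_mul_right Q (show 5 ≤ Q by omega)
      rw [pow_two] at hq
      omega
    interval_cases Q <;> omega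
  · exfalso
    have h1 := hsub L r hq hr (Matrix.ProjectiveSpecialLinearGroup.toPGL.comp e.toMonoidHom)
      (Matrix.ProjectiveSpecialLinearGroup.toPGL_injective.comp e.injective)
    obtain ⟨Q, hQ⟩ : ∃ Q, Q = Fintype.card L := ⟨_, rfl⟩
    rw [← hQ] at h1 hq
    have hQ1 : 1 < Q := hQ ▸ Fintype.one_lt_card
    have h3 : 3 ≤ r := by
      obtain ⟨t, rfl⟩ := hro
      have := hr.two_le
      omega
    have h4 : Q ^ 3 ≤ q := hq ▸ Nat.pow_le_pow_right (by omega) h3
    rcases (show Q = 2 ∨ 3 ≤ Q by omega) with hQ2 | hQ3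
    · rw [hQ2] at hq
      have : q % 2 = 0 := by
        obtain ⟨t, rfl⟩ := Nat.exists_eq_succ_of_ne_zero (show r ≠ 0 by omega)
        rw [hq, pow_succ]; simp
      omega
    · have h6 : 3 * Q * Q ≤ Q ^ 3 := by rw [pow_succ, pow_two]; nlinarith
      have h7 := Nat.mul_le_mul_right Q (show 9 ≤ 3 * Q by omega)
      omega
  · exfalso
    have hk5 : k ∈ ({1, 2, 3, 5} : Set ℕ) := by
      rw [← CfsgLib.Spectrum.orders_A5, ← hρ']
      exact ⟨e ρ', MulEquiv.orderOf_eq e ρ'⟩
    simp only [Set.mem_insert_iff, Set.mem_singleton_iff] at hk5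
    obtain rfl : q = 5 := by omega
    have h60 : Nat.card Y = 60 := by rw [Nat.card_congr e.toEquiv, nat_card_alternatingGroup, Nat.card_fin]; rfl
    refine hY.1 (Subgroup.eq_top_of_card_eq Y ?_)
    have hG := gcd_mul_card_PSL hF
    rw [show Nat.gcd 2 (5 - 1) = 2 by decide] at hG
    rw [h60]
    omega
  · exfalso
    have hk23 : k ∣ 2 ∨ k ∣ 3 := by
      rcases alt_four_order_le (e ρ') with h | h
      · exact Or.inl (hpow 2 (e.injective (by rw [map_pow, h, map_one])))
      · exact Or.inr (hpow 3 (e.injective (by rw [map_pow, h, map_one])))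
    have hk' : k = 3 := by
      rcases hk23 with h | h <;> have := Nat.le_of_dvd (by norm_num) h <;> omega
    subst hk'
    have h1 : ρ' * ρ' * ρ' = 1 := by
      rw [← pow_two, ← pow_succ, show 2 + 1 = 3 from rfl]
      have := pow_orderOf_eq_one ρ'
      rwa [hρ'] at this
    have hs' : σ' * σ' = 1 := Subtype.ext hσ
    have hsr' : σ' * ρ' * σ' = ρ'⁻¹ := Subtype.ext hσρ
    have := alt_four_no_flip (e ρ') (e σ') (by rw [← map_mul, ← map_mul, h1, map_one])
      (by rw [← map_mul, hs', map_one]) (by rw [← map_mul, ← map_mul, hsr', map_inv])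
    rw [← map_one e] at this
    rw [e.injective this, orderOf_one] at hρ'
    omega
  · exfalso
    have hk4 : k ≤ 4 := by
      rcases perm_four_order_le (e ρ') with h | h | h | h
      · have := e.injective (h.trans (map_one e).symm); rw [this, orderOf_one] at hρ'; omega
      · have := Nat.le_of_dvd (by norm_num) (hpow 2 (e.injective (by rw [map_pow, h, map_one]))); omega
      · have := Nat.le_of_dvd (by norm_num) (hpow 3 (e.injective (by rw [map_pow, h, map_one]))); omega
      · exact Nat.le_of_dvd (by norm_num) (hpow 4 (e.injective (by rw [map_pow, h, map_one])))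
    have := (sym_four_iff hF).1 ⟨Y, ⟨e⟩⟩
    have h5 : q = 5 := by omega
    subst h5
    norm_num at this

theorem inter_coatom_odd (p : ℕ) [hp : Fact p.Prime] [CharP F p] {q : ℕ} (hF : Fintype.card F = q) (hodd : q % 2 = 1)
    (h4 : 4 ≤ q) (h7 : q ≠ 7) (h9 : q ≠ 9) (h11 : q ≠ 11)
    (h40 : q.Prime → q % 40 ∉ ({11, 19, 21, 29} : Finset ℕ))
    (M : Subgroup (Matrix.ProjGenLinGroup (Fin 2) F)) (hM : IsCoatom M) (hL : ¬ pslImage F ≤ M) :
    IsCoatom (M.comap TT) := by
  classical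
  haveI := finite_pgl (F := F)
  obtain ⟨H, hH⟩ : ∃ H, H = M.comap TT := ⟨_, rfl⟩
  rw [← hH]
  obtain ⟨hnle, hrel⟩ := not_le_pslImage hF hodd hM hL
  have h5 : 5 ≤ q := by omega
  have hp2 : p ≠ 2 := by
    rintro rfl
    obtain ⟨⟨j, hj0⟩, -, hj⟩ := FiniteField.card F 2
    simp only [PNat.mk_coe, hF] at hj
    rw [hj, ← Nat.odd_iff, Nat.odd_pow_iff hj0.ne'] at hodd
    exact Nat.not_odd_iff_even.2 even_two hodd
  have hHe : H.map TT = M ⊓ pslImage F := by rw [hH, Subgroup.map_comap_eq, inf_comm]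
  let eH : H ≃* ((pslImage F).subgroupOf M) :=
    ((Subgroup.equivMapOfInjective H TT Matrix.ProjectiveSpecialLinearGroup.toPGL_injective).trans
      (MulEquiv.subgroupCongr hHe)).trans ((Subgroup.subgroupOfEquivOfLe inf_le_left).symm.trans
        (MulEquiv.subgroupCongr (by rw [Subgroup.inf_subgroupOf_left])))
  have hcard : 2 * Nat.card H = Nat.card M := by
    rw [Nat.card_congr eH.toEquiv, ← Subgroup.card_mul_index ((pslImage F).subgroupOf M),
      show ((pslImage F).subgroupOf M).index = 2 from hrel, mul_comm]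
  have htop : H ≠ ⊤ := by
    intro h
    refine hL ?_
    rintro _ ⟨x, rfl⟩
    have : x ∈ H := h ▸ Subgroup.mem_top x
    rwa [hH, Subgroup.mem_comap] at this
  suffices hsuff : ∀ Y, IsCoatom Y → H ≤ Y → Nat.card Y = Nat.card H by
    refine ⟨htop, fun Y hlt => ?_⟩
    by_contra hYt
    obtain ⟨Z, hZ, hYZ⟩ := (eq_top_or_exists_le_coatom Y).resolve_left hYt
    exact (hlt.trans_le hYZ).ne (Subgroup.eq_of_le_of_card_ge (hlt.le.trans hYZ) (hsuff Z hZ (hlt.le.trans hYZ)).le)
  intro Y hY hHY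
  have hdvd : Nat.card H ∣ Nat.card Y := Subgroup.card_dvd_of_le hHY
  rcases pgl_odd_maximal p hF hodd h4 M hM hL with hMc | ⟨hq5, ⟨eD⟩⟩ | ⟨⟨eD⟩⟩ | ⟨hqp, h8, ⟨eS⟩⟩ |
    ⟨L, _, _, r, hr, hro, hq, ⟨eP⟩⟩
  · -- point stabiliser
    rw [hMc] at hcard
    have h1 : q * (q - 1) ∣ 2 * Nat.card Y := hcard ▸ mul_dvd_mul_left 2 hdvd
    have heq : 2 * Nat.card Y = q * (q - 1) → Nat.card Y = Nat.card H := fun h => by omega
    have hbig : q * (q - 1) ≤ 2 * Nat.card Y := Nat.le_of_dvd (Nat.mul_pos two_pos Nat.card_pos) h1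
    have hlow : 4 * (q - 1) + (q - 1) ≤ q * (q - 1) := by
      have := Nat.mul_le_mul_right (q - 1) h5
      omega
    rcases psl_odd_maximal p hF hodd h5 Y hY with h | ⟨-, m, hm, ⟨e⟩⟩ | ⟨-, -, m, hm, ⟨e⟩⟩ |
      ⟨L, _, _, hq, ⟨e⟩⟩ | ⟨L, _, _, r, hr, hro, hq, ⟨e⟩⟩ | ⟨h10, -, ⟨e⟩⟩ | ⟨-, -, -, ⟨e⟩⟩ | ⟨hqp', h8, ⟨e⟩⟩
    · exact heq h
    all_goals exfalso; rw [Nat.card_congr e.toEquiv] at h1 hbig
    · rw [DihedralGroup.nat_card] at hbig; omega
    · rw [DihedralGroup.nat_card] at hbig; omega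
    · obtain ⟨Q, hQ⟩ : ∃ Q, Fintype.card L = Q := ⟨_, rfl⟩
      rw [hQ, pow_two] at hq
      rw [card_pgl hQ, show (Q - 1) * (Q + 1) = q - 1 by rw [hq, mul_comm]; exact (Nat.mul_self_sub_mul_self_eq Q 1).symm.trans (by rw [one_mul]),
        ← mul_assoc] at hbig
      have h2 := Nat.le_of_mul_le_mul_right hbig (by omega)
      have h3 : 3 * Q ≤ q := by
        rw [hq]; exact Nat.mul_le_mul_right Q (by
          by_contra hh
          have := Nat.mul_le_mul (show Q ≤ 2 by omega) (show Q ≤ 2 by omega)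
          omega)
      omega
    · obtain ⟨Q, hQ⟩ : ∃ Q, Fintype.card L = Q := ⟨_, rfl⟩
      rw [hQ] at hq
      have hG := gcd_mul_card_PSL (F := L) hQ
      have hQo : Q % 2 = 1 := by
        rw [hq, ← Nat.odd_iff, Nat.odd_pow_iff hr.ne_zero, Nat.odd_iff] at hodd
        exact hodd
      have hQ1 : 1 < Q := hQ ▸ Fintype.one_lt_card
      rw [show Nat.gcd 2 (Q - 1) = 2 from Nat.gcd_eq_left (by omega)] at hG
      rw [hG] at hbig
      have h3 : 3 ≤ r := by
        obtain ⟨t, rfl⟩ := hro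
        have := hr.two_le
        omega
      have h4' : Q * (Q * Q) ≤ q := by
        rw [hq, show Q * (Q * Q) = Q ^ 3 by ring]; exact Nat.pow_le_pow_right (by omega) h3
      have hQQ : (Q - 1) * (Q + 1) ≤ Q * Q := by
        rw [show (Q - 1) * (Q + 1) = Q * Q - 1 by
          rw [mul_comm]; exact (Nat.mul_self_sub_mul_self_eq Q 1).symm.trans (by rw [one_mul])]
        omega
      have h6 : q * (q - 1) ≤ q * 1 := by
        rw [mul_one]; exact hbig.trans ((Nat.mul_le_mul_left Q hQQ).trans h4')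
      have := Nat.le_of_mul_le_mul_left h6 (by omega)
      omega
    · rw [nat_card_alternatingGroup, Nat.card_fin] at h1 hbig
      norm_num [Nat.factorial] at h1 hbig
      have h12 : q ≤ 11 := by
        by_contra hh
        have := Nat.mul_le_mul (show 12 ≤ q by omega) (show 11 ≤ q - 1 by omega)
        omega
      omega
    · rw [nat_card_alternatingGroup, Nat.card_fin] at h1 hbig
      norm_num [Nat.factorial] at h1 hbig
      obtain rfl : q = 5 := by
        by_contra hh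
        have := Nat.mul_le_mul (show 7 ≤ q by omega) (show 6 ≤ q - 1 by omega)
        omega
      norm_num at h1
    · rw [Nat.card_perm, Nat.card_fin] at h1 hbig
      norm_num [Nat.factorial] at h1 hbig
      have h12 : q ≤ 7 := by
        by_contra hh
        have := Nat.mul_le_mul (show 8 ≤ q by omega) (show 7 ≤ q - 1 by omega)
        omega
      omega
  rotate_left 2
  · -- symmetric group
    have hK : (((pslImage F).subgroupOf M).map eS.toMonoidHom).index = 2 :=
      (Subgroup.index_map_of_bijective (f := eS.toMonoidHom) eS.bijective _).trans hrel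
    let eA : H ≃* alternatingGroup (Fin 4) := eH.trans ((Subgroup.equivMapOfInjective _ eS.toMonoidHom eS.injective).trans
      (MulEquiv.subgroupCongr (Equiv.Perm.eq_alternatingGroup_of_index_eq_two hK)))
    have hc : Nat.card H = 12 := by rw [Nat.card_congr eA.toEquiv, nat_card_alternatingGroup, Nat.card_fin]; rfl
    rw [hc] at hdvd
    have hqpr : q.Prime := hqp ▸ hp.out
    have h40' := h40 hqpr
    simp only [Finset.mem_insert, Finset.mem_singleton, not_or] at h40'
    let j : alternatingGroup (Fin 4) →* Y := (Subgroup.inclusion hHY).comp eA.symm.toMonoidHom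
    have hjinj : Function.Injective j := (Subgroup.inclusion_injective hHY).comp eA.symm.injective
    rcases psl_odd_maximal p hF hodd h5 Y hY with h | ⟨-, m, hm, ⟨e⟩⟩ | ⟨-, -, m, hm, ⟨e⟩⟩ |
      ⟨L, _, _, hq, ⟨e⟩⟩ | ⟨L, _, _, r, hr, hro, hq, ⟨e⟩⟩ | ⟨h10, -, ⟨e⟩⟩ | ⟨-, -, -, ⟨e⟩⟩ | ⟨-, h8', ⟨e⟩⟩
    · exfalso
      have h24 : 24 ∣ q * (q - 1) := h ▸ mul_dvd_mul_left 2 hdvd
      have h8'' : 8 ∣ q - 1 := by
        refine Nat.Coprime.dvd_of_dvd_mul_left ?_ ((dvd_mul_right 8 3).trans h24)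
        exact Nat.Coprime.pow_left 3 (Nat.coprime_two_left.2 (Nat.odd_iff.2 hodd))
      omega
    · exact (no_alt_four_in_dihedral (e.toMonoidHom.comp j) (e.injective.comp hjinj)).elim
    · exact (no_alt_four_in_dihedral (e.toMonoidHom.comp j) (e.injective.comp hjinj)).elim
    · exfalso
      rw [hq] at hqpr
      exact Nat.Prime.not_prime_pow le_rfl hqpr
    · exfalso
      rw [hq] at hqpr
      exact Nat.Prime.not_prime_pow hr.two_le hqpr
    · exfalso; omega
    · rw [hc, Nat.card_congr e.toEquiv, nat_card_alternatingGroup, Nat.card_fin]; rfl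
    · exfalso; rw [hqp] at h8; omega
  · -- subfield
    haveI : CharP L p := by
      obtain ⟨τ⟩ := exists_hom_of_card_pow (F := F) (K := L) r (hq.symm.trans hF.symm)
      exact (τ.charP_iff_charP p).2 inferInstance
    have hQo : Fintype.card L % 2 = 1 := by
      rw [hq, ← Nat.odd_iff, Nat.odd_pow_iff hr.ne_zero, Nat.odd_iff] at hodd
      exact hodd
    have hK : (((pslImage F).subgroupOf M).map eP.toMonoidHom).index = 2 :=
      (Subgroup.index_map_of_bijective (f := eP.toMonoidHom) eP.bijective _).trans hrel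
    have hKeq : ((pslImage F).subgroupOf M).map eP.toMonoidHom = pslImage L := by
      haveI := finite_pgl (F := L)
      refine (Subgroup.eq_of_le_of_card_ge (pslImage_le_of_index_two p hp2 hK) ?_).symm
      have h1 := Subgroup.card_mul_index (((pslImage F).subgroupOf M).map eP.toMonoidHom)
      have h2 := (card_pslImage (F := L) rfl hQo).1
      rw [hK, ← h2] at h1
      omega
    let eL : H ≃* ProjectiveSpecialLinearGroup (Fin 2) L := eH.trans
      ((Subgroup.equivMapOfInjective _ eP.toMonoidHom eP.injective).trans ((MulEquiv.subgroupCongr hKeq).trans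
        (MonoidHom.ofInjective (Matrix.ProjectiveSpecialLinearGroup.toPGL_injective (n := Fin 2) (R := L))).symm))
    have hco := subfield_coatom (F := F) (K := L) rfl (hF.trans hq) hr H
      (Or.inr (Or.inl ⟨⟨eL⟩, fun h => by rw [h] at hro; exact Nat.not_odd_iff_even.2 even_two hro,
        Nat.odd_iff.2 hQo⟩))
    rcases hco.le_iff.1 hHY with h | h
    · exact absurd h hY.1
    · rw [h]
  all_goals
    obtain ⟨n, hn⟩ : ∃ n : ℕ, n = Nat.card M / 2 := ⟨_, rfl⟩
    rw [Nat.card_congr eD.toEquiv, DihedralGroup.nat_card, Nat.mul_div_cancel_left _ two_pos] at hn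
    obtain ⟨k, hk⟩ : ∃ k, n = 2 * k := ⟨n / 2, by omega⟩
    rw [← hn] at eD
    haveI : NeZero n := ⟨by omega⟩
    obtain ⟨K, hKd⟩ : ∃ K, K = ((pslImage F).subgroupOf M).map eD.toMonoidHom := ⟨_, rfl⟩
    have hKi : K.index = 2 := hKd ▸
      (Subgroup.index_map_of_bijective (f := eD.toMonoidHom) eD.bijective _).trans hrel
    have hpre : ∀ z ∈ K, ∃ x ∈ H, ∃ hx : TT x ∈ M, eD ⟨TT x, hx⟩ = z := by
      intro z hz
      rw [hKd] at hz
      obtain ⟨⟨m, hm⟩, hmL, rfl⟩ := hz
      obtain ⟨x, hx⟩ := Subgroup.mem_subgroupOf.1 hmL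
      change TT x = m at hx
      subst hx
      exact ⟨x, hH ▸ hm, hm, rfl⟩
    have hr1 : DihedralGroup.r (1 : ZMod n) ∉ K := by
      intro h
      obtain ⟨x, -, hx, hxe⟩ := hpre _ h
      have ho : orderOf x = n := by
        rw [← orderOf_injective TT Matrix.ProjectiveSpecialLinearGroup.toPGL_injective,
          ← Subgroup.orderOf_mk (H := M) (TT x) hx, ← MulEquiv.orderOf_eq eD, hxe, DihedralGroup.orderOf_r_one]
      obtain ⟨⟨j, hj0⟩, -, hj⟩ := FiniteField.card F p
      simp only [PNat.mk_coe, hF] at hj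
      have hpq : p ∣ q := hj ▸ dvd_pow_self p hj0.ne'
      have hcop : (orderOf x).Coprime p := by
        refine (hp.out.coprime_iff_not_dvd.2 fun hd => ?_).symm
        rw [ho] at hd
        subst hn
        first
          | exact hp.out.not_dvd_one ((Nat.dvd_add_right hpq).1 hd)
          | (have h1 := Nat.dvd_sub hpq hd
             rw [show q - (q - 1) = 1 by omega] at h1
             exact hp.out.not_dvd_one h1)
      rcases psl_semisimple_dvd hF p x hcop with h' | h' <;>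
        rw [ho, show Nat.gcd 2 (q - 1) = 2 from Nat.gcd_eq_left (by omega)] at h' <;>
        have := Nat.le_of_dvd (by omega) h' <;> omega
    have hr2 : DihedralGroup.r (2 : ZMod n) ∈ K := by
      have := Subgroup.mul_self_mem_of_index_two hKi (DihedralGroup.r (1 : ZMod n))
      rwa [DihedralGroup.r_mul_r, one_add_one_eq_two] at this
    obtain ⟨i, hi⟩ : ∃ i : ZMod n, DihedralGroup.sr i ∈ K := by
      have h := (Subgroup.mul_mem_iff_of_index_two hKi (a := DihedralGroup.r (1 : ZMod n))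
        (b := DihedralGroup.sr (1 : ZMod n)))
      rw [DihedralGroup.r_mul_sr, sub_self] at h
      by_cases h1 : DihedralGroup.sr (1 : ZMod n) ∈ K
      · exact ⟨1, h1⟩
      · exact ⟨0, h.2 ⟨fun a => absurd a hr1, fun a => absurd a h1⟩⟩
    obtain ⟨ρ, hρH, hρM, hρe⟩ := hpre _ hr2
    obtain ⟨σ, hσH, hσM, hσe⟩ := hpre _ hi
    have hinj := Matrix.ProjectiveSpecialLinearGroup.toPGL_injective (n := Fin 2) (R := F)
    have hρo : orderOf ρ = k := by
      rw [← orderOf_injective TT hinj, ← Subgroup.orderOf_mk (H := M) (TT ρ) hρM, ← MulEquiv.orderOf_eq eD, hρe,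
        show (2 : ZMod n) = ((2 : ℕ) : ZMod n) by norm_num, ← DihedralGroup.r_one_pow, orderOf_pow,
        DihedralGroup.orderOf_r_one, hk, Nat.gcd_eq_right (dvd_mul_right 2 k), Nat.mul_div_cancel_left _ two_pos]
    have hσ2 : σ * σ = 1 := hinj (by
      have h := congrArg Subtype.val (eD.injective (show eD (⟨TT σ, hσM⟩ * ⟨TT σ, hσM⟩) = eD 1 by
        rw [map_mul, hσe, DihedralGroup.sr_mul_self, map_one]))
      rw [map_mul, map_one]; exact h)
    have hσρ : σ * ρ * σ = ρ⁻¹ := hinj (by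
      have h := congrArg Subtype.val (eD.injective
        (show eD (⟨TT σ, hσM⟩ * ⟨TT ρ, hρM⟩ * ⟨TT σ, hσM⟩) = eD (⟨TT ρ, hρM⟩⁻¹) by
          rw [map_mul, map_mul, map_inv, hσe, hρe, DihedralGroup.sr_mul_r, DihedralGroup.sr_mul_sr,
            DihedralGroup.inv_r]
          congr 1
          ring))
      rw [map_mul, map_mul, map_inv]; exact h)
    refine dihedral_part p hF hodd h5 h7 h9 h11 (k := k) ?_ hY hHY ?_ hρH hσH hρo hσ2 hσρ
    · subst hn
      first
        | exact Or.inl hk.symm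
        | exact Or.inr ⟨hk.symm, hq5⟩
    · rw [Nat.card_congr eD.toEquiv, DihedralGroup.nat_card] at hcard
      omega

theorem inter_coatom {q : ℕ} (hF : Fintype.card F = q) (h4 : 4 ≤ q) (h7 : q ≠ 7) (h9 : q ≠ 9) (h11 : q ≠ 11)
    (h40 : q.Prime → q % 40 ∉ ({11, 19, 21, 29} : Finset ℕ))
    (M : Subgroup (Matrix.ProjGenLinGroup (Fin 2) F)) (hM : IsCoatom M) (hL : ¬ pslImage F ≤ M) :
    IsCoatom ((M ⊓ pslImage F).subgroupOf (pslImage F)) := by
  have hinj := Matrix.ProjectiveSpecialLinearGroup.toPGL_injective (n := Fin 2) (R := F)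
  rcases Nat.mod_two_eq_zero_or_one q with he | ho
  · have htop : pslImage F = ⊤ := MonoidHom.range_eq_top.2 (toPGL_bijective_even hF he).2
    rw [inf_eq_left.2 (htop.symm ▸ le_top : M ≤ pslImage F)]
    have e : (M.subgroupOf (pslImage F)).map (pslImage F).subtype = M := by
      rw [Subgroup.subgroupOf_map_subtype, inf_eq_left.2 (htop.symm ▸ le_top : M ≤ pslImage F)]
    refine ⟨fun h => hL (Subgroup.subgroupOf_eq_top.1 h), fun Y hlt => ?_⟩
    have hlt' : M < Y.map (pslImage F).subtype := by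
      rw [← e]
      exact lt_of_le_of_ne (Subgroup.map_mono hlt.le) fun h => hlt.ne (Subgroup.map_injective (Subgroup.subtype_injective _) h)
    have := hM.2 _ hlt'
    refine Subgroup.map_injective (Subgroup.subtype_injective _) ?_
    rw [this, ← MonoidHom.range_eq_map, Subgroup.range_subtype, htop]
  · obtain ⟨p, _⟩ := CharP.exists F
    haveI : Fact p.Prime := ⟨CharP.char_is_prime F p⟩
    have h := inter_coatom_odd p hF ho h4 h7 h9 h11 h40 M hM hL
    have e : (M ⊓ pslImage F).subgroupOf (pslImage F) = (M.comap TT).map (MonoidHom.ofInjective hinj).toMonoidHom := by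
      ext ⟨z, x, rfl⟩
      constructor
      · intro hz
        exact ⟨x, hz.1, rfl⟩
      · rintro ⟨y, hy, hye⟩
        have : TT y = TT x := congrArg Subtype.val hye
        exact ⟨this ▸ hy, x, rfl⟩
    rw [e]
    exact (OrderIso.isCoatom_iff (MulEquiv.mapSubgroup (MonoidHom.ofInjective hinj)) _).2 h

end CfsgLib.Classical22.PGLMax
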