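import Cfsg.Agent.Lib.Classical22.PGLMaxTools
import Cfsg.Agent.Lib.Solvable.AbelianMaximal

/-
The maximal subgroups of `PGL_2(q)` not containing `PSL_2(q)`, `q` odd.
-/

set_option autoImplicit false

namespace CfsgLib.Classical22.PGLMax

open Matrix Projectivization CfsgLib.Classical CfsgLib.Classical.Dickson CfsgLib.Transfer
open scoped MatrixGroups LinearAlgebra.Projectivization

variable {F : Type*} [Field F] [Fintype F]

/-- A maximal subgroup inside a conjugate of a proper subfield group. -/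
theorem pgl_subfield_list (p : ℕ) [hp : Fact p.Prime] [CharP F p] {q : ℕ} (hF : Fintype.card F = q) (hodd : q % 2 = 1)
    {M : Subgroup (Matrix.ProjGenLinGroup (Fin 2) F)} (hM : IsCoatom M) (hL : ¬ pslImage F ≤ M) (S : Subfield F)
    {m : ℕ} (hm : 2 ≤ m) (hS : Nat.card S ^ m = q) (c : Matrix.ProjGenLinGroup (Fin 2) F)
    (hle : ∀ x ∈ M, c * x * c⁻¹ ∈ (pglMap S.subtype).range) :
    ∃ (F₀ : Type) (_ : Field F₀) (_ : Fintype F₀) (r : ℕ), r.Prime ∧ Odd r ∧ q = Fintype.card F₀ ^ r ∧
      Nonempty (M ≃* Matrix.ProjGenLinGroup (Fin 2) F₀) := by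
  haveI : Fintype S := Fintype.ofFinite _
  haveI := finite_pgl (F := F)
  haveI : CharP S p := (RingHom.charP_iff_charP S.subtype p).2 inferInstance
  obtain ⟨⟨i, hi⟩, -, hi'⟩ := FiniteField.card S p
  simp only [PNat.mk_coe] at hi'
  obtain ⟨r, hr, u, hu⟩ := Nat.exists_prime_and_dvd (show m ≠ 1 by omega)
  have hu0 : u ≠ 0 := fun h => by rw [h, mul_zero] at hu; omega
  haveI : Fintype (GaloisField p (i * u)) := Fintype.ofFinite _
  have hL' : Fintype.card (GaloisField p (i * u)) = Nat.card S ^ u := by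
    rw [← Nat.card_eq_fintype_card, GaloisField.card p (i * u) (Nat.mul_ne_zero hi.ne' hu0),
      Nat.card_eq_fintype_card, hi', pow_mul]
  have hLq : Fintype.card (GaloisField p (i * u)) ^ r = q := by rw [hL', ← pow_mul, mul_comm u, ← hu, hS]
  obtain ⟨σ⟩ := exists_hom_of_card_pow (F := F) (K := GaloisField p (i * u)) r (hLq.trans hF.symm)
  obtain ⟨Y, hY⟩ : ∃ Y, Y = (pglMap σ).range.map (MulAut.conj c⁻¹).toMonoidHom := ⟨_, rfl⟩
  have hMY : M ≤ Y := fun x hx => hY ▸
    ⟨c * x * c⁻¹, pglMap_range_le σ S (le_fieldRange σ S hL') (hle x hx), by simp [mul_assoc]⟩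
  haveI : Finite (Matrix.ProjGenLinGroup (Fin 2) (GaloisField p (i * u))) := finite_pgl
  let eY : Y ≃* Matrix.ProjGenLinGroup (Fin 2) (GaloisField p (i * u)) :=
    (MulEquiv.subgroupCongr hY).trans ((Subgroup.equivMapOfInjective _ _ (MulAut.conj c⁻¹).injective).symm.trans
      (MonoidHom.ofInjective (pglMap_injective σ)).symm)
  have hYtop : Y ≠ ⊤ := fun h => by
    obtain ⟨R, hR⟩ : ∃ R, R = Fintype.card (GaloisField p (i * u)) := ⟨_, rfl⟩
    have h1 : Nat.card (Matrix.ProjGenLinGroup (Fin 2) (GaloisField p (i * u))) =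
        Nat.card (Matrix.ProjGenLinGroup (Fin 2) F) := by
      rw [← Nat.card_congr eY.toEquiv, h, Subgroup.card_top]
    rw [card_pgl hR.symm, card_pgl hF] at h1
    have hR1 : 1 < R := hR ▸ Fintype.one_lt_card
    have hlt : R < q := by
      rw [← hLq, ← hR]
      exact lt_self_pow₀ hR1 hr.one_lt
    have h2 : R * ((R - 1) * (R + 1)) < q * ((q - 1) * (q + 1)) :=
      Nat.mul_lt_mul_of_lt_of_lt hlt (Nat.mul_lt_mul_of_lt_of_lt (by omega) (by omega))
    exact h2.ne h1
  have hMeq : M = Y := hMY.eq_or_lt.resolve_right fun h => hYtop (hM.2 Y h)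
  refine ⟨GaloisField p (i * u), inferInstance, inferInstance, r, hr, hr.odd_of_ne_two ?_, hLq.symm,
    ⟨(MulEquiv.subgroupCongr hMeq).trans eY⟩⟩
  rintro rfl
  refine (not_le_pslImage hF hodd hM hL).1 ?_
  rw [hMeq, hY, Subgroup.map_le_iff_le_comap]
  intro x hx
  have hx' := pgl_le_range_toPGL σ (isSquare_of_even σ hF (Nat.odd_iff.2 hodd) 2 even_two hLq) hx
  exact (pslImage_normal (F := F)).conj_mem x hx' c⁻¹

theorem no_index_two_alt_four (H : Subgroup (alternatingGroup (Fin 4))) : H.index ≠ 2 := by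
  intro h
  haveI := Subgroup.normal_of_index_eq_two h
  have key : ∀ x : alternatingGroup (Fin 4), ∃ y z : alternatingGroup (Fin 4), x = y * y * (z * z) := by
    decide +kernel
  have hsq : ∀ y : alternatingGroup (Fin 4), y * y ∈ H := fun y => Subgroup.mul_self_mem_of_index_two h y
  have : H = ⊤ := eq_top_iff.2 fun x _ => by
    obtain ⟨y, z, rfl⟩ := key x
    exact mul_mem (hsq y) (hsq z)
  rw [this, Subgroup.index_top] at h
  omega

theorem no_index_two_alt_five (H : Subgroup (alternatingGroup (Fin 5))) : H.index ≠ 2 := by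
  intro h
  haveI := alternatingGroup.isSimpleGroup_five
  rcases (Subgroup.normal_of_index_eq_two h).eq_bot_or_eq_top with e | e
  · rw [e, Subgroup.index_bot, nat_card_alternatingGroup, Nat.card_fin] at h
    norm_num [Nat.factorial] at h
  · rw [e, Subgroup.index_top] at h
    omega

theorem dihedral_facts {n : ℕ} :
    (∀ x : DihedralGroup n, x * DihedralGroup.r 1 * x⁻¹ ∈ Subgroup.zpowers (DihedralGroup.r (1 : ZMod n))) ∧
    (3 ≤ n → ∀ x : DihedralGroup n, x * DihedralGroup.r 1 = DihedralGroup.r 1 * x →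
      x ∈ Subgroup.zpowers (DihedralGroup.r (1 : ZMod n))) := by
  have hpow : ∀ i : ZMod n, DihedralGroup.r i ∈ Subgroup.zpowers (DihedralGroup.r (1 : ZMod n)) := fun i => by
    obtain ⟨k, rfl⟩ := ZMod.intCast_surjective i
    exact ⟨k, by simp [DihedralGroup.r_one_zpow]⟩
  refine ⟨?_, fun hn => ?_⟩
  · rintro (i | i) <;> simp [DihedralGroup.inv_r, DihedralGroup.inv_sr, hpow]
  · rintro (i | i) h
    · exact hpow i
    · exfalso
      simp only [DihedralGroup.sr_mul_r, DihedralGroup.r_mul_sr, DihedralGroup.sr.injEq] at h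
      have h2 : ((2 : ℕ) : ZMod n) = 0 := by
        push_cast
        linear_combination h
      have := Nat.le_of_dvd two_pos ((ZMod.natCast_eq_zero_iff 2 n).1 h2)
      omega

/-- The dihedral group of order eight is not maximal in `PGL_2(5)`. -/
theorem no_dihedral_four (hF : Fintype.card F = 5) {M : Subgroup (Matrix.ProjGenLinGroup (Fin 2) F)}
    (hM : IsCoatom M) (hL : ¬ pslImage F ≤ M) (hc : Nat.card M = 8) : False := by
  haveI := finite_pgl (F := F)
  haveI := pslImage_normal (F := F)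
  haveI : Fact (Nat.Prime 2) := ⟨Nat.prime_two⟩
  haveI hs := (isSimpleGroup_pslImage (F := F) (by omega)).1
  obtain ⟨hidx, -⟩ : (pslImage F).index = 2 ∧ True := ⟨(card_pslImage hF (by norm_num)).2, trivial⟩
  have hcL : Nat.card (pslImage F) = 60 := by
    have := (card_pslImage hF (by norm_num)).1
    rw [card_pgl hF] at this
    omega
  obtain ⟨V, hV⟩ : ∃ V, V = M.subgroupOf (pslImage F) := ⟨_, rfl⟩
  have hVc : Nat.card V = 4 := by
    have h1 := (not_le_pslImage hF (by norm_num) hM hL).2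
    have h2 : Nat.card ((pslImage F).subgroupOf M) * (pslImage F).relIndex M = Nat.card M :=
      Subgroup.card_mul_index _
    rw [h1, hc] at h2
    have h3 : Nat.card V = Nat.card ((pslImage F).subgroupOf M) := by
      rw [hV]
      exact Nat.card_congr
        { toFun := fun x => ⟨⟨(x.1 : Matrix.ProjGenLinGroup (Fin 2) F), x.2⟩, x.1.2⟩
          invFun := fun x => ⟨⟨(x.1 : Matrix.ProjGenLinGroup (Fin 2) F), x.2⟩, x.1.2⟩
          left_inv := fun x => rfl
          right_inv := fun x => rfl }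
    omega
  have hVs : ∀ Q : Subgroup (pslImage F), IsPGroup 2 Q → V ≤ Q → Q = V := by
    intro Q hQ hle
    obtain ⟨k, hk⟩ := IsPGroup.iff_card.1 hQ
    have h1 : 2 ^ k ∣ 60 := hcL ▸ hk ▸ Subgroup.card_subgroup_dvd_card Q
    have h2 : 4 ≤ 2 ^ k := hVc ▸ hk ▸ Subgroup.card_le_of_le hle
    have h3 : k < 6 := by
      by_contra h
      have := Nat.le_of_dvd (by norm_num) h1
      have := Nat.pow_le_pow_right (show 2 ≥ 1 by norm_num) (not_lt.1 h)
      omega
    refine (Subgroup.eq_of_le_of_card_ge hle ?_).symm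
    rw [hk, hVc]
    interval_cases k <;> simp_all
  let P : Sylow 2 (pslImage F) := ⟨V, IsPGroup.of_card (n := 2) (by rw [hVc]; norm_num), fun hQ hle => hVs _ hQ hle⟩
  have hnorm : Subgroup.normalizer ((P : Subgroup (pslImage F)) : Set (pslImage F)) ≤ V := by
    intro x hx
    obtain ⟨K, hK⟩ : ∃ K, K = V.map (pslImage F).subtype := ⟨_, rfl⟩
    have hKM : K = M ⊓ pslImage F := by
      rw [hK, hV, inf_comm]; exact (Subgroup.subgroupOf_map_subtype _ _).trans (inf_comm _ _)
    have hMn : M ≤ Subgroup.normalizer (K : Set (Matrix.ProjGenLinGroup (Fin 2) F)) := by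
      rw [hKM]
      exact CfsgLib.Solvable.le_normalizer_inf Subgroup.le_normalizer
        (le_top.trans (Subgroup.normalizer_eq_top_iff.2 inferInstance).ge)
    have hxn : (x : Matrix.ProjGenLinGroup (Fin 2) F) ∈ Subgroup.normalizer (K : Set (Matrix.ProjGenLinGroup (Fin 2) F)) := by
      rw [hK]
      exact Subgroup.le_normalizer_map _ ⟨x, hx, rfl⟩
    rcases hM.le_iff.1 hMn with h | h
    · exfalso
      haveI : K.Normal := Subgroup.normalizer_eq_top_iff.1 h
      haveI : V.Normal := by
        have : V = K.subgroupOf (pslImage F) := by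
          rw [hK, Subgroup.subgroupOf, Subgroup.comap_map_eq_self_of_injective (Subgroup.subtype_injective _)]
        rw [this]; infer_instance
      rcases (inferInstance : V.Normal).eq_bot_or_eq_top with e | e <;>
        simp only [e, Subgroup.card_bot, Subgroup.card_top, hcL] at hVc <;> omega
    · rw [h] at hxn
      rw [hV]; exact hxn
  have hab : ∀ a ∈ V, ∀ b ∈ V, a * b = b * a := by
    intro a ha b hb
    have h4 : Nat.card V = 2 ^ 2 := by rw [hVc]; norm_num
    exact congrArg Subtype.val ((IsPGroup.commutative_of_card_eq_prime_sq h4) ⟨a, ha⟩ ⟨b, hb⟩)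
  have hP : Subgroup.normalizer ((P : Subgroup (pslImage F)) : Set (pslImage F)) ≤
      Subgroup.centralizer ((P : Subgroup (pslImage F)) : Set (pslImage F)) := hnorm.trans fun a ha =>
    Subgroup.mem_centralizer_iff.2 fun b hb => hab b hb a ha
  have hcomp := MonoidHom.ker_transferSylow_isComplement' P hP
  have hmul : Nat.card (MonoidHom.transferSylow P hP).ker * Nat.card V = 60 := by
    rw [← hcL]; exact hcomp.card_mul
  rw [hVc] at hmul
  rcases (inferInstance : (MonoidHom.transferSylow P hP).ker.Normal).eq_bot_or_eq_top with e | e <;>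
    simp only [e, Subgroup.card_bot, Subgroup.card_top, hcL] at hmul <;> omega

theorem pgl_odd_maximal (p : ℕ) [hp : Fact p.Prime] [CharP F p] {q : ℕ} (hF : Fintype.card F = q) (hodd : q % 2 = 1)
    (h4 : 4 ≤ q) (M : Subgroup (Matrix.ProjGenLinGroup (Fin 2) F)) (hM : IsCoatom M) (hL : ¬ pslImage F ≤ M) :
    Nat.card M = q * (q - 1) ∨
    (q ≠ 5 ∧ Nonempty (M ≃* DihedralGroup (q - 1))) ∨
    Nonempty (M ≃* DihedralGroup (q + 1)) ∨
    (q = p ∧ (q % 8 = 3 ∨ q % 8 = 5) ∧ Nonempty (M ≃* Equiv.Perm (Fin 4))) ∨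
    (∃ (F₀ : Type) (_ : Field F₀) (_ : Fintype F₀) (r : ℕ), r.Prime ∧ Odd r ∧ q = Fintype.card F₀ ^ r ∧
        Nonempty (M ≃* Matrix.ProjGenLinGroup (Fin 2) F₀)) := by
  classical
  haveI := finite_pgl (F := F)
  haveI := pslImage_normal (F := F)
  obtain ⟨⟨j, hj0⟩, -, hj⟩ := FiniteField.card F p
  simp only [PNat.mk_coe, hF] at hj
  have hp2 : p ≠ 2 := by
    rintro rfl
    rw [hj, ← Nat.odd_iff, Nat.odd_pow_iff hj0.ne'] at hodd
    exact Nat.not_odd_iff_even.2 even_two hodd
  have hodd' : Fintype.card F % 2 = 1 := hF ▸ hodd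
  have h4' : 4 ≤ Fintype.card F := hF ▸ h4
  have h2 : (2 : F) ≠ 0 := Ring.two_ne_zero (by rw [ringChar.eq F p]; exact hp2)
  obtain ⟨hnle, hrel⟩ := not_le_pslImage hF hodd hM hL
  have hab : ¬ ∀ x y : M, x * y = y * x := by
    intro h
    have h3 := CfsgLib.Solvable.derivedSeries_three_of_abelian_coatom hM fun x hx y hy =>
      congrArg Subtype.val (h ⟨x, hx⟩ ⟨y, hy⟩)
    haveI : Group.IsSolvable (Matrix.ProjGenLinGroup (Fin 2) F) := (Group.isSolvable_def _).2 ⟨3, h3⟩
    exact (isSimpleGroup_pslImage h4').2 inferInstance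
  let f : F →+* AlgebraicClosure F := algebraMap F _
  haveI : CharP (AlgebraicClosure F) p := charP_of_injective_algebraMap (algebraMap F _).injective p
  obtain ⟨T, hT⟩ : ∃ T, T = M.map (pglMap f) := ⟨_, rfl⟩
  let e : M ≃* T := (Subgroup.equivMapOfInjective M _ (pglMap_injective f)).trans (MulEquiv.subgroupCongr hT.symm)
  haveI : Finite T := Finite.of_equiv M e.toEquiv
  have hval : ∀ m : M, ((e m : T) : Matrix.ProjGenLinGroup (Fin 2) (AlgebraicClosure F)) = pglMap f m := fun m => rfl
  rcases classify p T with ⟨hcyc, -⟩ | ⟨n, hn, hcop, ⟨φ⟩⟩ | ⟨x, hx, u, hu, hux⟩ | ⟨⟨φ⟩⟩ | ⟨⟨φ⟩⟩ | ⟨⟨φ⟩⟩ |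
    ⟨Q, k, hQ, hsyl, hm, hcard, hk⟩
  · haveI : IsCyclic M := e.isCyclic.2 hcyc
    letI : CommGroup M := IsCyclic.commGroup
    exact absurd mul_comm hab
  · obtain ⟨eD⟩ : Nonempty (M ≃* DihedralGroup n) := ⟨e.trans φ⟩
    have hn3 : 3 ≤ n := by
      by_contra hlt
      refine hab fun x y => eD.injective ?_
      rw [map_mul, map_mul]
      rcases (show n = 1 ∨ n = 2 by omega) with rfl | rfl
      · revert x y
        suffices ∀ a b : DihedralGroup 1, a * b = b * a from fun x y => this _ _
        decide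
      · revert x y
        suffices ∀ a b : DihedralGroup 2, a * b = b * a from fun x y => this _ _
        decide
    obtain ⟨g, hg⟩ : ∃ g : M, g = eD.symm (DihedralGroup.r 1) := ⟨_, rfl⟩
    have hgo : orderOf g = n := by rw [hg, MulEquiv.orderOf_eq, DihedralGroup.orderOf_r_one]
    have hgo' : orderOf (g : Matrix.ProjGenLinGroup (Fin 2) F) = n := by rw [Subgroup.orderOf_coe, hgo]
    have hg1 : (g : Matrix.ProjGenLinGroup (Fin 2) F) ≠ 1 := fun h => by rw [h, orderOf_one] at hgo'; omega
    have hmemz : ∀ m : M, eD m ∈ Subgroup.zpowers (DihedralGroup.r (1 : ZMod n)) →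
        (m : Matrix.ProjGenLinGroup (Fin 2) F) ∈ Subgroup.zpowers (g : Matrix.ProjGenLinGroup (Fin 2) F) := by
      rintro m ⟨i, hi⟩
      refine ⟨i, ?_⟩
      have : g ^ i = m := eD.injective (by rw [map_zpow, hg, MulEquiv.apply_symm_apply]; exact hi)
      rw [← this]; simp
    obtain ⟨C, hC⟩ : ∃ C, C = Subgroup.zpowers (g : Matrix.ProjGenLinGroup (Fin 2) F) := ⟨_, rfl⟩
    have hMn : M ≤ Subgroup.normalizer (C : Set (Matrix.ProjGenLinGroup (Fin 2) F)) := by
      refine CfsgLib.Solvable.le_normalizer_of_conj_mem fun m hm z hz => ?_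
      rw [hC] at hz ⊢
      obtain ⟨i, rfl⟩ := hz
      show m * (g : Matrix.ProjGenLinGroup (Fin 2) F) ^ i * m⁻¹ ∈ _
      rw [← conj_zpow]
      refine zpow_mem (hmemz (⟨m, hm⟩ * g * ⟨m, hm⟩⁻¹) ?_) _
      rw [map_mul, map_mul, map_inv, hg, MulEquiv.apply_symm_apply]
      exact dihedral_facts.1 _
    have hN : Subgroup.normalizer (C : Set (Matrix.ProjGenLinGroup (Fin 2) F)) = M := by
      refine (hM.le_iff.1 hMn).resolve_left fun h => hg1 ?_
      haveI : C.Normal := Subgroup.normalizer_eq_top_iff.1 h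
      have hb := normal_eq_bot_of_comm p hp2 hodd' h4' (K := C) inferInstance (fun a ha b hb => by
        rw [hC] at ha hb
        obtain ⟨i, rfl⟩ := ha
        obtain ⟨i', rfl⟩ := hb
        exact ((Commute.refl (g : Matrix.ProjGenLinGroup (Fin 2) F)).zpow_zpow i i').eq)
      have : (g : Matrix.ProjGenLinGroup (Fin 2) F) ∈ C := hC ▸ Subgroup.mem_zpowers _
      rw [hb] at this
      exact Subgroup.mem_bot.1 this
    have hcent : Subgroup.centralizer ({(g : Matrix.ProjGenLinGroup (Fin 2) F)} : Set _) ≤ C := by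
      intro z hz
      have hzM : z ∈ M := by
        rw [← hN, hC]
        exact Subgroup.centralizer_le_normalizer _ (Subgroup.mem_centralizer_iff.2 fun a ha => by
          obtain ⟨i, rfl⟩ := ha
          exact ((show Commute z (g : Matrix.ProjGenLinGroup (Fin 2) F) from
            (Subgroup.mem_centralizer_singleton_iff.1 hz).symm.symm).zpow_right i).eq.symm)
      rw [hC]
      refine hmemz ⟨z, hzM⟩ (dihedral_facts.2 hn3 _ ?_)
      have hc : (⟨z, hzM⟩ : M) * g = g * ⟨z, hzM⟩ := Subtype.ext (Subgroup.mem_centralizer_singleton_iff.1 hz)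
      have := congrArg eD hc
      rwa [map_mul, map_mul, hg, MulEquiv.apply_symm_apply] at this
    have hlow : q - 1 ≤ n := by
      rw [← hgo', ← Nat.card_zpowers, ← hC, ← hF]
      exact (card_centralizer_ge hg1).trans (Subgroup.card_le_of_le hcent)
    have hhigh : n ≤ q + 1 := by
      rw [← hgo', ← hF]
      exact pgl_semisimple_le p _ (by rw [hgo']; exact hcop)
    have hnq : n ≠ q := fun h => by
      rw [h, hj] at hcop
      exact hp.out.ne_one ((Nat.coprime_pow_left_iff hj0 _ _).1 hcop |>.eq_one_of_dvd dvd_rfl)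
    rcases (show n = q - 1 ∨ n = q + 1 by omega) with rfl | rfl
    · refine Or.inr (Or.inl ⟨fun h5 => ?_, ⟨eD⟩⟩)
      subst h5
      exact no_dihedral_four hF hM hL (by rw [Nat.card_congr eD.toEquiv, DihedralGroup.nat_card])
    · exact Or.inr (Or.inr (Or.inl ⟨eD⟩))
  · refine Or.inl ?_
    obtain ⟨v, hv⟩ := e.surjective u
    have hv1 : (v : Matrix.ProjGenLinGroup (Fin 2) F) ≠ 1 := fun h => hu (by
      rw [← hv, show v = 1 from Subtype.ext h, map_one])
    have hvx : fixSet (pglMap f v) = {x} := by rw [← hux, ← hv, hval]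
    have hfv : pglMap f v ≠ 1 := fun h => hv1 (pglMap_injective f (h.trans (map_one _).symm))
    have hvp : (v : Matrix.ProjGenLinGroup (Fin 2) F) ^ p = 1 := pglMap_injective f (by
      rw [map_pow, map_one]
      exact (order_of_fix p hfv (show x ∈ fixSet _ by rw [hvx]; rfl)).1 hvx)
    have hpv : IsPGroup p (Subgroup.zpowers (v : Matrix.ProjGenLinGroup (Fin 2) F)) := IsPGroup.of_card (n := 1) (by
      rw [Nat.card_zpowers, pow_one, orderOf_eq_prime hvp hv1])
    haveI : Finite (ℙ F (Fin 2 → F)) := Nat.finite_of_card_ne_zero (by rw [card_line hF]; omega)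
    obtain ⟨y, hy⟩ := hpv.nonempty_fixed_point_of_prime_not_dvd_card (ℙ F (Fin 2 → F)) (by
      rw [card_line hF, hj]
      intro hd
      exact hp.out.not_dvd_one ((Nat.dvd_add_right (dvd_pow_self p hj0.ne')).1 hd))
    have hyv : (v : Matrix.ProjGenLinGroup (Fin 2) F) • y = y := hy ⟨_, Subgroup.mem_zpowers _⟩
    have hyx : ptMap f y = x := by
      have : ptMap f y ∈ fixSet (pglMap f v) := by rw [mem_fixSet, ptMap_smul, hyv]
      rwa [hvx] at this
    have hle : M ≤ MulAction.stabilizer (Matrix.ProjGenLinGroup (Fin 2) F) y := fun m hm => by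
      refine MulAction.mem_stabilizer_iff.2 (ptMap_injective f ?_)
      rw [← ptMap_smul, hyx]
      exact hx (e ⟨m, hm⟩)
    have horb : MulAction.orbit (Matrix.ProjGenLinGroup (Fin 2) F) y = Set.univ := by
      refine Set.eq_univ_of_forall fun z => ?_
      obtain ⟨a, ha⟩ := exists_to_inf y
      obtain ⟨b, hb⟩ := exists_to_inf z
      exact ⟨b⁻¹ * a, show (b⁻¹ * a) • y = z by rw [mul_smul, ha, inv_smul_eq_iff, hb]⟩
    have hos := Nat.card_congr (MulAction.orbitProdStabilizerEquivGroup (Matrix.ProjGenLinGroup (Fin 2) F) y)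
    rw [Nat.card_prod, horb, Nat.card_congr (Equiv.Set.univ _), card_line hF, card_pgl hF,
      show q * ((q - 1) * (q + 1)) = (q + 1) * (q * (q - 1)) by ring] at hos
    have hstab := Nat.eq_of_mul_eq_mul_left (Nat.succ_pos q) hos
    rw [(hM.le_iff.1 hle).resolve_left fun h => ?_] at hstab
    · exact hstab
    rw [h, Subgroup.card_top, card_pgl hF] at hstab
    have : q * (q - 1) * 1 < q * (q - 1) * (q + 1) :=
      Nat.mul_lt_mul_of_pos_left (by omega) (Nat.mul_pos (by omega) (by omega))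
    rw [mul_one, mul_assoc] at this
    omega
  · exfalso
    refine no_index_two_alt_four (((pslImage F).subgroupOf M).map (e.trans φ).toMonoidHom) ?_
    exact (Subgroup.index_map_of_bijective (f := (e.trans φ).toMonoidHom) (e.trans φ).bijective _).trans hrel
  · obtain ⟨eS⟩ : Nonempty (M ≃* Equiv.Perm (Fin 4)) := ⟨e.trans φ⟩
    obtain ⟨a, b, ha, ha1, hb, hb1, hab4, hab2, hgen⟩ := pair_perm_four
    obtain ⟨ι, hι⟩ : ∃ ι : Equiv.Perm (Fin 4) →* Matrix.ProjGenLinGroup (Fin 2) F,
        ι = M.subtype.comp eS.symm.toMonoidHom := ⟨_, rfl⟩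
    have hιinj : Function.Injective ι := hι ▸ M.subtype_injective.comp eS.symm.injective
    have hιr : ι.range = M := by
      rw [hι, MonoidHom.range_comp, MonoidHom.range_eq_top.2 eS.symm.surjective, ← MonoidHom.range_eq_map,
        Subgroup.range_subtype]
    have hMgen : M = Subgroup.closure ({ι a, ι b} : Set _) := by
      rw [← hιr, ← Set.image_pair, ← MonoidHom.map_closure, hgen, ← MonoidHom.range_eq_map]
    have hia : ι a ^ 2 = 1 := by rw [← map_pow, ha, map_one]
    have hib : ι b ^ 3 = 1 := by rw [← map_pow, hb, map_one]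
    have hia1 : ι a ≠ 1 := fun h => ha1 (hιinj (h.trans (map_one ι).symm))
    have hib1 : ι b ≠ 1 := fun h => hb1 (hιinj (h.trans (map_one ι).symm))
    have hinv : HasInv (ι a * ι b) (2 : F) := inv_of_four (by rw [← map_mul, ← map_pow, hab4, map_one])
      (fun h => hab2 (hιinj (by rw [map_pow, map_mul, h, map_one])))
    have hns : ¬ IsSquare (2 : F) := by
      rintro ⟨s, hs⟩
      obtain ⟨C, hC, htC⟩ := hinv
      have hs0 : s ≠ 0 := fun h => h2 (by rw [hs, h, mul_zero])
      have h1 : ι a * ι b ∈ pslImage F := hC ▸ mk_mem_pslImage_of_isSquare (C := C) (r := C.val.trace / s) (by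
        rw [div_mul_div_comm, ← hs, ← pow_two, htC]
        field_simp)
      have h2' : ι b ∈ pslImage F := by
        have := Subgroup.pow_index_mem (pslImage F) (ι b)
        rw [(card_pslImage hF hodd).2] at this
        have h3 : ι b = (ι b ^ 2) ^ 2 := by rw [← pow_mul, pow_succ _ 3, hib, one_mul]
        rw [h3]
        exact pow_mem this 2
      refine hnle ?_
      rw [hMgen, Subgroup.closure_le]
      rintro z (rfl | rfl)
      · have := mul_mem h1 (inv_mem h2')
        rwa [mul_inv_cancel_right] at this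
      · exact h2'
    have h8 : q % 8 = 3 ∨ q % 8 = 5 := by
      rw [FiniteField.isSquare_two_iff, hF] at hns
      omega
    rcases (show j = 1 ∨ 2 ≤ j by omega) with rfl | hj2
    · exact Or.inr (Or.inr (Or.inr (Or.inl ⟨by rw [hj, pow_one], h8, ⟨eS⟩⟩)))
    refine Or.inr (Or.inr (Or.inr (Or.inr ?_)))
    obtain ⟨S, hS⟩ := exists_subfield_card (F := F) p 1 j (by rw [one_mul, hF, hj]) one_pos
    haveI : Fintype S := Fintype.ofFinite _
    have h3 : (2 : F) ≠ 3 := fun h => one_ne_zero (by linear_combination -h : (1 : F) = 0)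
    have h2S : (2 : F) ∈ S := by rw [← one_add_one_eq_two]; exact S.add_mem S.one_mem S.one_mem
    obtain ⟨α, β, hαβ⟩ := exists_conic_point (S := S)
      (fun h => h2 (by simpa [map_ofNat] using congrArg S.subtype h)) (⟨2, h2S⟩⁻¹ : S)
    have hαβ' := congrArg S.subtype hαβ
    simp only [map_add, map_mul, map_pow, map_inv₀, map_zero, Subfield.subtype_apply] at hαβ'
    obtain ⟨h, NA, NB, hA, hB, e1, e2⟩ := pair_normal_form hia hia1 hib hib1 hinv h2 h3 hαβ'
    have hrat : ∀ (N : GL (Fin 2) F) (N₀ : Matrix (Fin 2) (Fin 2) S), N₀.map S.subtype = N.val →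
        Matrix.ProjGenLinGroup.mk N ∈ (pglMap S.subtype).range := by
      intro N N₀ hN
      have hd : N₀.det ≠ 0 := fun h0 => gl_det_ne_zero N (by
        rw [← hN, ← RingHom.mapMatrix_apply, ← RingHom.map_det, h0, map_zero])
      refine ⟨Matrix.ProjGenLinGroup.mk (Matrix.GeneralLinearGroup.mkOfDetNeZero N₀ hd), ?_⟩
      rw [pglMap_mk]
      exact congrArg _ (Units.ext hN)
    refine pgl_subfield_list p hF hodd hM hL S hj2 (by rw [hS, pow_one, hj]) h⁻¹ fun z hz => ?_
    have hsub : M ≤ (pglMap S.subtype).range.map (MulAut.conj h).toMonoidHom := by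
      rw [hMgen, Subgroup.closure_le]
      rintro y (rfl | rfl)
      · exact ⟨_, hrat NA !![α, α + β + 1; β, -α] (by
          rw [hA, nfA]
          ext i j
          fin_cases i <;> fin_cases j <;> simp), e1⟩
      · exact ⟨_, hrat NB !![0, -1; 1, 1] (by
          rw [hB, nfB]
          ext i j
          fin_cases i <;> fin_cases j <;> simp), e2⟩
    obtain ⟨g, hg, rfl⟩ := hsub hz
    simpa [mul_assoc] using hg
  · exfalso
    refine no_index_two_alt_five (((pslImage F).subgroupOf M).map (e.trans φ).toMonoidHom) ?_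
    exact (Subgroup.index_map_of_bijective (f := (e.trans φ).toMonoidHom) (e.trans φ).bijective _).trans hrel
  · obtain ⟨R⟩ : Nonempty (Sylow p T) := inferInstance
    obtain ⟨S, c, hS, hle⟩ := wild_conjugate p M Q k hQ
      (fun P => (card_sylow_sub_congr p e.symm R P).symm.trans (hsyl R))
      ((card_sylow_congr p e.symm).symm.trans hm) ((Nat.card_congr e.toEquiv).trans hcard) hk
    haveI : Fintype S := Fintype.ofFinite _
    obtain ⟨m, hm'⟩ : ∃ m, Nat.card S ^ m = q :=
      ⟨Module.finrank S F, by rw [Nat.card_eq_fintype_card, ← Module.card_eq_pow_finrank (K := S) (V := F), hF]⟩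
    rcases (show m = 0 ∨ m = 1 ∨ 2 ≤ m by omega) with rfl | rfl | hm2
    · rw [pow_zero] at hm'; omega
    · exfalso
      rw [pow_one, hS] at hm'
      subst hm'
      have hMc : Nat.card M = Q * (Q + 1) * k := (Nat.card_congr e.toEquiv).trans hcard
      have hG := Subgroup.card_mul_index M
      rw [hMc, card_pgl hF] at hG
      have hMtop : M.index ≠ 1 := fun h => hM.1 (Subgroup.index_eq_one.1 h)
      rcases hk with hk | hk
      · rw [hk, show Q * (Q + 1) * (Q - 1) = Q * ((Q - 1) * (Q + 1)) by ring] at hG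
        exact hMtop (Nat.eq_of_mul_eq_mul_left (by
          have : 0 < (Q - 1) * (Q + 1) := Nat.mul_pos (by omega) (by omega)
          exact Nat.mul_pos (by omega) this) (hG.trans (mul_one _).symm))
      · rw [← hk] at hG
        have h2i : M.index = 2 := Nat.eq_of_mul_eq_mul_left
          (show 0 < Q * (Q + 1) * k from Nat.mul_pos (Nat.mul_pos (by omega) (by omega)) (by omega))
          (hG.trans (by ring))
        haveI := Subgroup.normal_of_index_eq_two h2i
        rcases le_or_commute h4' (K := M) inferInstance with h | h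
        · exact hL h
        · exact hab fun x y => Subtype.ext ((eq_one_of_centralizes p hp2 hodd' (h _ (x * y).2)).trans
            (eq_one_of_centralizes p hp2 hodd' (h _ (y * x).2)).symm)
    · exact Or.inr (Or.inr (Or.inr (Or.inr (pgl_subfield_list p hF hodd hM hL S hm2 hm' c fun z hz =>
        hle ⟨z, hz, rfl⟩))))

end CfsgLib.Classical22.PGLMax
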