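import Cfsg.Agent.Lib.Classical22.PSLMaxOddList
import Cfsg.Agent.Lib.Classical.SL2Small

/-
The maximal subgroups of `PGL_2(q)`, `q` odd: tools.
-/

set_option autoImplicit false

namespace CfsgLib.Classical22.PGLMax

open Matrix Projectivization CfsgLib.Classical CfsgLib.Classical.Dickson CfsgLib.Transfer
open scoped MatrixGroups LinearAlgebra.Projectivization

variable {F : Type*} [Field F] [Fintype F]

/-- The image of `PSL_2` in `PGL_2`. -/
abbrev pslImage (F : Type*) [Field F] : Subgroup (Matrix.ProjGenLinGroup (Fin 2) F) :=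
  (Matrix.ProjectiveSpecialLinearGroup.toPGL (n := Fin 2) (R := F)).range

theorem range_comp_toGL (F : Type*) [Field F] :
    ((Matrix.ProjGenLinGroup.mk (n := Fin 2) (R := F)).comp Matrix.SpecialLinearGroup.toGL).range = pslImage F := by
  ext g
  constructor
  · rintro ⟨M, rfl⟩
    exact ⟨QuotientGroup.mk M, rfl⟩
  · rintro ⟨x, rfl⟩
    induction x using QuotientGroup.induction_on with | _ M => exact ⟨M, rfl⟩

theorem pslImage_normal : (pslImage F).Normal := ⟨by
  rintro _ ⟨x, rfl⟩ g
  exact conj_mem_range_toPGL g x⟩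

theorem finite_pgl : Finite (Matrix.ProjGenLinGroup (Fin 2) F) :=
  Finite.of_surjective _ Matrix.ProjGenLinGroup.mk_surjective

theorem card_pslImage {q : ℕ} (hF : Fintype.card F = q) (hodd : q % 2 = 1) :
    2 * Nat.card (pslImage F) = Nat.card (Matrix.ProjGenLinGroup (Fin 2) F) ∧ (pslImage F).index = 2 := by
  haveI := finite_pgl (F := F)
  have h := gcd_mul_card_PSL hF
  rw [show Nat.gcd 2 (q - 1) = 2 from Nat.gcd_eq_left (by omega), Nat.card_congr
    (MonoidHom.ofInjective (Matrix.ProjectiveSpecialLinearGroup.toPGL_injective (n := Fin 2) (R := F))).toEquiv] at h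
  have h2 : 2 * Nat.card (pslImage F) = Nat.card (Matrix.ProjGenLinGroup (Fin 2) F) := by rw [h, card_pgl hF]
  refine ⟨h2, ?_⟩
  have h3 := Subgroup.card_mul_index (pslImage F)
  rw [← h2, mul_comm 2] at h3
  exact Nat.eq_of_mul_eq_mul_left Nat.card_pos h3

theorem isSimpleGroup_pslImage (h4 : 4 ≤ Fintype.card F) :
    IsSimpleGroup (pslImage F) ∧ ¬ Group.IsSolvable (pslImage F) := by
  have e := MonoidHom.ofInjective (Matrix.ProjectiveSpecialLinearGroup.toPGL_injective (n := Fin 2) (R := F))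
  obtain ⟨h1, -, h3⟩ := noncomm_of_four_le (F := F) rfl h4
  haveI := h1
  refine ⟨e.symm.isSimpleGroup, ?_⟩
  intro h
  exact h3 (Group.isSolvable_of_isSolvable_injective (f := e.toMonoidHom) e.injective)

/-- A normal subgroup of `PGL_2` contains `PSL_2` or centralises it. -/
theorem le_or_commute (h4 : 4 ≤ Fintype.card F) {K : Subgroup (Matrix.ProjGenLinGroup (Fin 2) F)} (hK : K.Normal) :
    pslImage F ≤ K ∨ ∀ k ∈ K, ∀ l ∈ pslImage F, k * l = l * k := by
  haveI := (isSimpleGroup_pslImage h4).1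
  haveI := pslImage_normal (F := F)
  haveI := hK
  rcases (inferInstance : (K.subgroupOf (pslImage F)).Normal).eq_bot_or_eq_top with h | h
  · refine Or.inr fun k hk l hl => ?_
    have : K ⊓ pslImage F = ⊥ := by
      rw [eq_bot_iff]
      rintro x ⟨hx1, hx2⟩
      have hx : (⟨x, hx2⟩ : pslImage F) ∈ K.subgroupOf (pslImage F) := hx1
      rw [h, Subgroup.mem_bot] at hx
      exact Subgroup.mem_bot.2 (congrArg Subtype.val hx)
    exact (Subgroup.commute_of_normal_of_disjoint K _ hK inferInstance (disjoint_iff.2 this) k l hk hl).eq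
  · exact Or.inl (Subgroup.subgroupOf_eq_top.1 h)

theorem aff_one_mem (p : ℕ) [hp : Fact p.Prime] [CharP F p] (hp2 : p ≠ 2) (hodd : Fintype.card F % 2 = 1) (b : F) :
    aff 1 b ∈ pslImage F := by
  haveI := finite_pgl (F := F)
  haveI := pslImage_normal (F := F)
  have h1 : aff (1 : Fˣ) b ^ p = 1 := by rw [aff_one_pow, CharP.cast_eq_zero, zero_mul, aff_one]
  have h2 := Subgroup.pow_index_mem (pslImage F) (aff (1 : Fˣ) b)
  rw [(card_pslImage rfl hodd).2] at h2
  obtain ⟨t, ht⟩ := hp.out.odd_of_ne_two hp2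
  have h3 : aff (1 : Fˣ) b * (aff (1 : Fˣ) b ^ 2) ^ t = 1 := by rw [← pow_mul, ← pow_succ', ← ht, h1]
  rw [eq_inv_of_mul_eq_one_left h3]
  exact inv_mem (pow_mem h2 t)

theorem eq_one_of_centralizes (p : ℕ) [hp : Fact p.Prime] [CharP F p] (hp2 : p ≠ 2) (hodd : Fintype.card F % 2 = 1)
    {k : Matrix.ProjGenLinGroup (Fin 2) F} (hk : ∀ l ∈ pslImage F, k * l = l * k) : k = 1 := by
  haveI := pslImage_normal (F := F)
  have hfix : ∀ x : ℙ F (Fin 2 → F), k • x = x := by
    intro x
    obtain ⟨h, hh⟩ := exists_to_inf x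
    have hu : h⁻¹ * aff 1 1 * h ∈ pslImage F := by
      simpa using (inferInstance : (pslImage F).Normal).conj_mem _ (aff_one_mem p hp2 hodd 1) h⁻¹
    have hx : fixSet (h⁻¹ * aff 1 1 * h) = {x} := by
      have := fixSet_conj h⁻¹ (aff (1 : Fˣ) (1 : F))
      rw [inv_inv, fixSet_aff_one one_ne_zero, Set.image_singleton, inv_smul_eq_iff.2 hh.symm] at this
      exact this
    have h2 : k • x ∈ fixSet (h⁻¹ * aff 1 1 * h) := by
      rw [mem_fixSet, ← mul_smul, ← hk _ hu, mul_smul]
      exact congrArg (k • ·) (show x ∈ fixSet (h⁻¹ * aff 1 1 * h) by rw [hx]; rfl)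
    rwa [hx] at h2
  obtain ⟨a, b, rfl⟩ := exists_aff_of_fix_inf (hfix lineInf)
  have h0 := hfix (linePt 0)
  rw [aff_smul_pt] at h0
  replace h0 := linePt_inj h0
  rw [mul_zero, zero_add] at h0
  have h1 := hfix (linePt 1)
  rw [aff_smul_pt] at h1
  replace h1 := linePt_inj h1
  rw [h0, mul_one, add_zero] at h1
  exact aff_eq_one.2 ⟨Units.ext h1, h0⟩

theorem normal_eq_bot_of_comm (p : ℕ) [Fact p.Prime] [CharP F p] (hp2 : p ≠ 2) (hodd : Fintype.card F % 2 = 1)
    (h4 : 4 ≤ Fintype.card F) {K : Subgroup (Matrix.ProjGenLinGroup (Fin 2) F)} (hK : K.Normal)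
    (hc : ∀ x ∈ K, ∀ y ∈ K, x * y = y * x) : K = ⊥ := by
  rcases le_or_commute h4 hK with h | h
  · refine absurd ?_ (isSimpleGroup_pslImage h4).2
    exact Group.isSolvable_of_comm fun a b => Subtype.ext (hc _ (h a.2) _ (h b.2))
  · exact eq_bot_iff.2 fun k hk => Subgroup.mem_bot.2 (eq_one_of_centralizes p hp2 hodd (h k hk))

theorem not_le_pslImage {q : ℕ} (hF : Fintype.card F = q) (hodd : q % 2 = 1)
    {M : Subgroup (Matrix.ProjGenLinGroup (Fin 2) F)} (hM : IsCoatom M) (hL : ¬ pslImage F ≤ M) :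
    ¬ M ≤ pslImage F ∧ (pslImage F).relIndex M = 2 := by
  haveI := pslImage_normal (F := F)
  have htop : pslImage F ⊔ M = ⊤ := hM.2 _ (lt_of_le_not_ge le_sup_right fun h => hL (le_sup_left.trans h))
  refine ⟨fun h => ?_, ?_⟩
  · rw [sup_eq_left.2 h] at htop
    have := (card_pslImage hF hodd).2
    rw [htop, Subgroup.index_top] at this
    omega
  · rw [sup_comm] at htop
    rw [← Subgroup.relIndex_sup_right, htop, Subgroup.relIndex_top_right]
    exact (card_pslImage hF hodd).2

theorem mk_mem_pslImage_of_isSquare {C : GL (Fin 2) F} {r : F} (hr : C.val.det = r * r) :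
    Matrix.ProjGenLinGroup.mk C ∈ pslImage F := by
  have hr0 : r ≠ 0 := fun e => gl_det_ne_zero C (by rw [hr, e, mul_zero])
  obtain ⟨N, hN⟩ : ∃ N : SpecialLinearGroup (Fin 2) F, ∀ i j, N.1 i j = r⁻¹ * C.val i j := ⟨⟨r⁻¹ • C.val, by
    rw [Matrix.det_smul, Fintype.card_fin, hr, pow_two]; field_simp⟩, fun i j => rfl⟩
  refine ⟨QuotientGroup.mk N, ?_⟩
  show Matrix.ProjGenLinGroup.mk (SpecialLinearGroup.toGL N) = _
  rw [Matrix.ProjGenLinGroup.mk_eq_mk_iff]
  refine ⟨Units.mk0 r hr0, Units.ext ?_⟩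
  ext i j
  fin_cases i <;> fin_cases j <;> simp [hN, hr0] <;> field_simp

/-- At most two scalar shifts of a matrix are singular. -/
theorem card_centralizer_ge {g : Matrix.ProjGenLinGroup (Fin 2) F} (hg : g ≠ 1) :
    Fintype.card F - 1 ≤ Nat.card (Subgroup.centralizer ({g} : Set (Matrix.ProjGenLinGroup (Fin 2) F))) := by
  classical
  haveI := finite_pgl (F := F)
  obtain ⟨A, hA⟩ := Matrix.ProjGenLinGroup.mk_surjective g
  have hns := not_scalar_of_ne_one hg hA
  obtain ⟨bad, hbad⟩ : ∃ bad : Finset F, bad = Finset.univ.filter fun t : F => (A.val + t • 1).det = 0 := ⟨_, rfl⟩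
  have hdet : ∀ t : F, (A.val + t • 1).det = t * t + A.val.trace * t + A.val.det := fun t => by
    rw [Matrix.det_fin_two, Matrix.trace_fin_two, Matrix.det_fin_two]
    simp
    ring
  have hbad2 : bad.card ≤ 2 := by
    by_contra hc
    obtain ⟨a, b, c, ha, hb, hc', hab, hac, hbc⟩ := Finset.two_lt_card_iff.1 (not_le.1 hc)
    simp only [hbad, Finset.mem_filter, Finset.mem_univ, true_and, hdet] at ha hb hc'
    have e1 : (a - b) * (a + b + A.val.trace) = 0 := by linear_combination ha - hb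
    have e2 : (a - c) * (a + c + A.val.trace) = 0 := by linear_combination ha - hc'
    have e3 := (mul_eq_zero.1 e1).resolve_left (sub_ne_zero.2 hab)
    have e4 := (mul_eq_zero.1 e2).resolve_left (sub_ne_zero.2 hac)
    exact hbc (by linear_combination e3 - e4)
  let el : Option {t : F // t ∉ bad} → GL (Fin 2) F := fun o => o.elim 1 fun t =>
    Matrix.GeneralLinearGroup.mkOfDetNeZero (A.val + (t : F) • 1) (by simpa [hbad] using t.2)
  have hmem : ∀ o, Matrix.ProjGenLinGroup.mk (el o) ∈ Subgroup.centralizer ({g} : Set (Matrix.ProjGenLinGroup (Fin 2) F)) := by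
    intro o
    rw [Subgroup.mem_centralizer_singleton_iff, ← hA, ← map_mul, ← map_mul]
    congr 1
    rcases o with _ | t
    · simp [el]
    · refine Units.ext ?_
      show (A.val + (t : F) • 1) * A.val = A.val * (A.val + (t : F) • 1)
      rw [add_mul, mul_add, smul_mul_assoc, mul_smul_comm, one_mul, mul_one]
  have hinj : Function.Injective fun o => (⟨_, hmem o⟩ :
      Subgroup.centralizer ({g} : Set (Matrix.ProjGenLinGroup (Fin 2) F))) := by
    have key : ∀ (M N : GL (Fin 2) F), Matrix.ProjGenLinGroup.mk M = Matrix.ProjGenLinGroup.mk N →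
        ∃ r : F, M.val = r • N.val := fun M N h => by
      obtain ⟨r, hr⟩ := scalar_of_mk_eq_one (A := M * N⁻¹) (by rw [map_mul, map_inv, h, mul_inv_cancel])
      refine ⟨r, ?_⟩
      have := congrArg (fun X : Matrix (Fin 2) (Fin 2) F => X * N.val) hr
      simpa [mul_assoc] using this
    intro o o' h
    obtain ⟨r, hr⟩ := key _ _ (congrArg Subtype.val h)
    have nsc : ∀ (x y : F), x • A.val = y • (1 : Matrix (Fin 2) (Fin 2) F) → x = 0 := fun x y h => coeff_zero hns h
    rcases o with _ | t <;> rcases o' with _ | t'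
    · rfl
    · exfalso
      have h1 : (1 : Matrix (Fin 2) (Fin 2) F) = r • (A.val + (t' : F) • 1) := hr
      have h2 := nsc r (1 - r * t') (by rw [sub_smul, one_smul, mul_smul, eq_sub_iff_add_eq, ← smul_add, ← h1])
      rw [h2, zero_smul] at h1
      exact one_ne_zero h1
    · exfalso
      have h1 : A.val + (t : F) • 1 = r • (1 : Matrix (Fin 2) (Fin 2) F) := hr
      exact hns (r - t) (by rw [sub_smul, eq_sub_iff_add_eq, h1])
    · have h1 : A.val + (t : F) • 1 = r • (A.val + (t' : F) • 1) := hr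
      rw [smul_add, smul_smul] at h1
      have h2 := nsc (1 - r) (r * t' - t) (by
        rw [sub_smul, one_smul, sub_smul, sub_eq_sub_iff_add_eq_add, add_comm _ (r • A.val), ← h1])
      rw [sub_eq_zero] at h2
      rw [← h2, one_smul, one_mul] at h1
      have h3 := congrFun (congrFun (@add_left_cancel (Matrix (Fin 2) (Fin 2) F) _ _ A.val _ _ h1) 0) 0
      simp at h3
      exact congrArg some (Subtype.ext h3)
  refine le_trans ?_ (Nat.card_le_card_of_injective _ hinj)
  rw [Nat.card_eq_fintype_card, Fintype.card_option, Fintype.card_subtype_compl, Fintype.card_coe]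
  omega

end CfsgLib.Classical22.PGLMax
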