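/-
The possible types of maximal subgroups of `PSL_2(q)`: tools.
-/
import Cfsg.Agent.Lib.Classical.Dickson.MinimalSimple
import Cfsg.Agent.Lib.Classical.Dickson.MaxDihedral
import Cfsg.Agent.Lib.Classical.Dickson.SmallSub
import Cfsg.Agent.Lib.Classical.Dickson.PSLList
import Cfsg.Agent.Lib.Solvable.AbelianMaximal

set_option autoImplicit false

namespace CfsgLib.Classical22

open Matrix Projectivization CfsgLib.Transfer CfsgLib.Classical CfsgLib.Classical.Dickson SL2Q
open scoped MatrixGroups LinearAlgebra.Projectivization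

variable {F : Type*} [Field F] [Fintype F]

theorem pglMap_id (g : Matrix.ProjGenLinGroup (Fin 2) F) : pglMap (RingHom.id F) g = g := by
  obtain ⟨M, rfl⟩ := Matrix.ProjGenLinGroup.mk_surjective g
  rw [pglMap_mk]
  exact congrArg _ (Units.ext (Matrix.ext fun i j => rfl))

/-- An abelian subgroup is not maximal. -/
theorem not_coatom_of_comm (h4 : 4 ≤ Fintype.card F) {M : Subgroup (ProjectiveSpecialLinearGroup (Fin 2) F)}
    (hM : IsCoatom M) : ¬ ∀ x ∈ M, ∀ y ∈ M, x * y = y * x := fun hc =>
  (noncomm_of_four_le rfl h4).2.2 ((Group.isSolvable_def _).2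
    ⟨3, CfsgLib.Solvable.derivedSeries_three_of_abelian_coatom hM hc⟩)

section Borel

variable (p : ℕ) [hp : Fact p.Prime] [CharP F p]

/-- A maximal subgroup with a non-trivial normal `p`-subgroup is a point stabiliser. -/
theorem card_of_normal_pGroup {q : ℕ} (hF : Fintype.card F = q)
    {M U : Subgroup (ProjectiveSpecialLinearGroup (Fin 2) F)} (hM : IsCoatom M) (hUM : U ≤ M) (hU : IsPGroup p U)
    (hne : U ≠ ⊥) (hn : ∀ m ∈ M, ∀ u ∈ U, m * u * m⁻¹ ∈ U) :
    Nat.gcd 2 (q - 1) * Nat.card M = q * (q - 1) := by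
  obtain ⟨y, hy⟩ := fixed_of_pGroup p hU
  obtain ⟨u, hu, hu1⟩ : ∃ u ∈ U, u ≠ 1 := by
    by_contra hc
    push Not at hc
    exact hne ((Subgroup.eq_bot_iff_forall _).2 hc)
  have hfix : ∀ m ∈ M, Matrix.ProjectiveSpecialLinearGroup.toPGL m • y = y := fun m hm => by
    have h1 := (hy _ (hn m hm u hu)).2 (fun h => hu1 (conj_eq_one_iff.1 h))
    rw [map_mul, map_mul, map_inv, fixSet_conj, (hy u hu).2 hu1, Set.image_singleton] at h1
    exact Set.singleton_eq_singleton_iff.1 h1
  obtain ⟨P, hP⟩ := exists_le_normalizer_sylow p M (RingHom.id F) y (fun m hm => by rw [pglMap_id]; exact hfix m hm)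
    u hu1 (by rw [pglMap_id]; exact (hy u hu).2 hu1)
  have hidx := index_normalizer_sylow p hF P
  have hq1 : 1 < q := hF ▸ Fintype.one_lt_card
  have hNM : M = Subgroup.normalizer ((P : Subgroup (ProjectiveSpecialLinearGroup (Fin 2) F)) : Set _) :=
    (hP.eq_or_lt).resolve_right fun h => by
      have := hM.2 _ h
      rw [this, Subgroup.index_top] at hidx
      omega
  have h := Subgroup.card_mul_index M
  rw [show M.index = q + 1 by rw [hNM, hidx]] at h
  refine Nat.eq_of_mul_eq_mul_right (Nat.succ_pos q) ?_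
  rw [mul_assoc, h, gcd_mul_card_PSL hF, mul_assoc]

/-- A maximal subgroup isomorphic to a subgroup of a Sylow normaliser is a point stabiliser. -/
theorem card_of_le_normalizer {q : ℕ} (hF : Fintype.card F = q) (h4 : 4 ≤ q)
    {M : Subgroup (ProjectiveSpecialLinearGroup (Fin 2) F)} (hM : IsCoatom M)
    (P : Sylow p (ProjectiveSpecialLinearGroup (Fin 2) F)) {N : Subgroup (ProjectiveSpecialLinearGroup (Fin 2) F)}
    (hN : N ≤ Subgroup.normalizer ((P : Subgroup (ProjectiveSpecialLinearGroup (Fin 2) F)) : Set _))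
    (e : M ≃* N) : Nat.gcd 2 (q - 1) * Nat.card M = q * (q - 1) := by
  by_cases hpd : p ∣ Nat.card M
  · let φ : M →* ProjectiveSpecialLinearGroup (Fin 2) F := N.subtype.comp e.toMonoidHom
    have hφ : Function.Injective φ := N.subtype_injective.comp e.injective
    let U₀ : Subgroup M := (P : Subgroup (ProjectiveSpecialLinearGroup (Fin 2) F)).comap φ
    have hU₀ : IsPGroup p U₀ := P.2.comap_of_injective φ hφ
    refine card_of_normal_pGroup p hF hM (U := U₀.map M.subtype) (Subgroup.map_subtype_le _)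
      (hU₀.map _) (fun h => ?_) ?_
    · obtain ⟨x, hx⟩ := exists_prime_orderOf_dvd_card' p hpd
      have hox : orderOf (φ x) = p := by rw [orderOf_injective φ hφ, hx]
      have hZ : IsPGroup p (Subgroup.zpowers (φ x)) := IsPGroup.of_card (n := 1) (by
        rw [Nat.card_zpowers, hox, pow_one])
      have hsup := IsPGroup.to_sup_of_normal_right' hZ P.2 (Subgroup.zpowers_le.2 (hN (e x).2))
      have hxP : φ x ∈ (P : Subgroup (ProjectiveSpecialLinearGroup (Fin 2) F)) :=
        (P.3 hsup le_sup_right).le (Subgroup.mem_sup_left (Subgroup.mem_zpowers _))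
      have hbot : (x : ProjectiveSpecialLinearGroup (Fin 2) F) ∈ (⊥ : Subgroup _) := h ▸ ⟨x, hxP, rfl⟩
      rw [Subgroup.mem_bot] at hbot
      rw [show x = 1 from Subtype.ext hbot, orderOf_one] at hx
      exact hp.out.ne_one hx.symm
    · rintro m hm _ ⟨u, hu, rfl⟩
      refine ⟨⟨m, hm⟩ * u * ⟨m, hm⟩⁻¹, ?_, rfl⟩
      change φ _ ∈ (P : Subgroup (ProjectiveSpecialLinearGroup (Fin 2) F))
      rw [map_mul, map_mul, map_inv]
      exact (Subgroup.mem_normalizer_iff.1 (hN (e ⟨m, hm⟩).2) _).1 hu
  · exfalso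
    refine not_coatom_of_comm (hF ▸ h4) hM fun x hx y hy => ?_
    let a := e ⟨x, hx⟩
    let b := e ⟨y, hy⟩
    obtain ⟨i, hi⟩ := P.2 ⟨_, commutator_mem_sylow p P (hN a.2) (hN b.2)⟩
    have hpow : (a * b * a⁻¹ * b⁻¹) ^ p ^ i = 1 := Subtype.ext (by simpa using congrArg Subtype.val hi)
    have hcop : Nat.Coprime (p ^ i) (Nat.card N) := by
      rw [← Nat.card_congr e.toEquiv]
      exact (hp.out.coprime_iff_not_dvd.2 hpd).pow_left i
    have h1 := orderOf_eq_one_iff.1 (Nat.eq_one_of_dvd_coprimes hcop (orderOf_dvd_of_pow_eq_one hpow)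
      (orderOf_dvd_natCard _))
    have h2 : a * b = b * a := by rwa [mul_inv_eq_one, mul_inv_eq_iff_eq_mul] at h1
    have h3 : (⟨x, hx⟩ : M) * ⟨y, hy⟩ = ⟨y, hy⟩ * ⟨x, hx⟩ := e.injective (by rw [map_mul, map_mul]; exact h2)
    exact congrArg Subtype.val h3

end Borel

/-- The norm-one conic has at least `q - 1` points. -/
theorem card_conic (t : F) (ht : t * t ≠ 4) :
    Fintype.card F ≤ Nat.card {z : F × F // z.1 * z.1 + t * z.1 * z.2 + z.2 * z.2 = 1} + 1 := by
  classical
  obtain ⟨X, hX⟩ : ∃ X, X = Finset.univ.filter fun m : F => 1 + t * m + m * m ≠ 0 := ⟨_, rfl⟩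
  have hroots : (Finset.univ.filter fun m : F => 1 + t * m + m * m = 0).card ≤ 2 := by
    rcases (Finset.univ.filter fun m : F => 1 + t * m + m * m = 0).eq_empty_or_nonempty with h | ⟨a, ha⟩
    · rw [h]; simp
    · have ha' := (Finset.mem_filter.1 ha).2
      refine (Finset.card_le_card (t := {a, -t - a}) fun m hm => ?_).trans Finset.card_le_two
      have hm' := (Finset.mem_filter.1 hm).2
      have h : (m - a) * (m - (-t - a)) = 0 := by linear_combination hm' - ha'
      rcases mul_eq_zero.1 h with h | h <;> simp [sub_eq_zero.1 h]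
  have hsum : X.card + (Finset.univ.filter fun m : F => 1 + t * m + m * m = 0).card = Fintype.card F := by
    rw [hX, add_comm, Finset.card_filter_add_card_filter_not, Finset.card_univ]
  have key : X.card + 1 ≤ Nat.card {z : F × F // z.1 * z.1 + t * z.1 * z.2 + z.2 * z.2 = 1} := by
    obtain ⟨s, hs⟩ : ∃ s : F → F, ∀ m, s m = -(2 + t * m) / (1 + t * m + m * m) := ⟨_, fun _ => rfl⟩
    have hmem : ∀ m ∈ X, (1 + s m) * (1 + s m) + t * (1 + s m) * (m * s m) + m * s m * (m * s m) = 1 := by
      intro m hm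
      rw [hX, Finset.mem_filter] at hm
      have h : s m * (1 + t * m + m * m) = -(2 + t * m) := by rw [hs, div_mul_cancel₀ _ hm.2]
      linear_combination s m * h
    obtain ⟨z0, hz0, hz0X⟩ : ∃ z0 : F × F, z0.1 * z0.1 + t * z0.1 * z0.2 + z0.2 * z0.2 = 1 ∧
        ∀ m ∈ X, z0 ≠ (1 + s m, m * s m) := by
      by_cases h0 : t = 0
      · refine ⟨(1, 0), by simp, fun m hm h => ?_⟩
        rw [hX, Finset.mem_filter] at hm
        have h1 : 1 + s m = 1 := (congrArg Prod.fst h).symm
        rw [add_eq_left, hs, div_eq_zero_iff] at h1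
        rcases h1 with h1 | h1
        · rw [h0, zero_mul, add_zero, neg_eq_zero] at h1
          exact ht (by rw [h0]; linear_combination (-2 : F) * h1)
        · exact hm.2 h1
      · refine ⟨(1, -t), by ring, fun m _ h => ?_⟩
        have h1 : 1 + s m = 1 := (congrArg Prod.fst h).symm
        have h2 : m * s m = -t := (congrArg Prod.snd h).symm
        rw [add_eq_left] at h1
        rw [h1, mul_zero] at h2
        exact h0 (neg_eq_zero.1 h2.symm)
    rw [Nat.card_eq_fintype_card, ← Fintype.card_coe X, ← Fintype.card_option]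
    refine Fintype.card_le_of_injective (fun o => o.elim ⟨z0, hz0⟩ fun m => ⟨(1 + s m, m * s m), hmem m m.2⟩) ?_
    rintro (_ | ⟨a, ha⟩) (_ | ⟨b, hb⟩) h
    · rfl
    · exact absurd (congrArg Subtype.val h) (hz0X b hb)
    · exact absurd (congrArg Subtype.val h).symm (hz0X a ha)
    · have h1 : 1 + s a = 1 + s b := congrArg (fun z => z.1.1) h
      have h2 : a * s a = b * s b := congrArg (fun z => z.1.2) h
      rw [add_right_inj] at h1
      refine congrArg some (Subtype.ext ?_)
      by_cases hs0 : s a = 0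
      · have hsb : s b = 0 := h1 ▸ hs0
        rw [hX, Finset.mem_filter] at ha hb
        rw [hs, div_eq_zero_iff] at hs0 hsb
        have e1 := hs0.resolve_right ha.2
        have e2 := hsb.resolve_right hb.2
        rw [neg_eq_zero] at e1 e2
        rcases eq_or_ne t 0 with h0 | h0
        · exfalso
          rw [h0, zero_mul, add_zero] at e1
          exact ht (by rw [h0]; linear_combination (-2 : F) * e1)
        · exact mul_left_cancel₀ h0 (by linear_combination e1 - e2)
      · rw [← h1] at h2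
        exact mul_right_cancel₀ hs0 h2
  omega

/-- A semisimple element commutes with at least `(q - 1)/d` elements. -/
theorem card_commute_le (p : ℕ) [hp : Fact p.Prime] [CharP F p] {q : ℕ} (hF : Fintype.card F = q)
    {x : ProjectiveSpecialLinearGroup (Fin 2) F} (hx : x ≠ 1) (hxp : (orderOf x).Coprime p) :
    q - 1 ≤ Nat.gcd 2 (q - 1) * Nat.card {u : ProjectiveSpecialLinearGroup (Fin 2) F // Commute u x} := by
  classical
  obtain ⟨g, rfl⟩ := QuotientGroup.mk_surjective x
  obtain ⟨t, ht⟩ : ∃ t, t = g.1 0 0 + g.1 1 1 := ⟨_, rfl⟩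
  have hdet := g.2
  rw [Matrix.det_fin_two] at hdet
  have hCH : g.1 * g.1 = t • g.1 - 1 := by
    ext i j
    fin_cases i <;> fin_cases j <;> simp [Matrix.mul_apply, Fin.sum_univ_two, ht] <;>
      first | linear_combination -hdet | ring
  have hns : ∀ r : F, g.1 ≠ Matrix.scalar (Fin 2) r := fun r hr => by
    refine hx ((QuotientGroup.eq_one_iff g).2 (Matrix.SpecialLinearGroup.mem_center_iff.2 ⟨r, ?_, hr.symm⟩))
    have h := g.2
    rw [hr] at h
    simpa using h
  have ht4 : t * t ≠ 4 := by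
    intro h4
    obtain ⟨e, he, hee⟩ : ∃ e : F, e * e = 1 ∧ t = 2 * e := by
      rcases eq_or_ne (2 : F) 0 with h2 | h2
      · have : t * t = 0 := by rw [h4]; linear_combination (2 : F) * h2
        exact ⟨1, one_mul 1, by rw [mul_self_eq_zero.1 this, h2, zero_mul]⟩
      · refine ⟨t / 2, ?_, (mul_div_cancel₀ t h2).symm⟩
        field_simp
        linear_combination h4
    obtain ⟨N, hN⟩ : ∃ N, N = g.1 - e • (1 : Matrix (Fin 2) (Fin 2) F) := ⟨_, rfl⟩
    have hN2 : N * N = 0 := by
      rw [hN, sub_mul, mul_sub, mul_sub, Algebra.mul_smul_comm, Algebra.smul_mul_assoc, Algebra.smul_mul_assoc, one_mul,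
        mul_one, Algebra.mul_smul_comm, mul_one, smul_smul, he, hCH, hee]
      module
    have hpow : ∀ n : ℕ, g.1 ^ n = e ^ n • (1 : Matrix (Fin 2) (Fin 2) F) + ((n : F) * e ^ (n + 1)) • N := by
      intro n
      induction n with
      | zero => simp
      | succ n ih =>
        have hg : g.1 = N + e • (1 : Matrix (Fin 2) (Fin 2) F) := by rw [hN, sub_add_cancel]
        rw [pow_succ, ih, hg, mul_add, add_mul, add_mul, Algebra.smul_mul_assoc, Algebra.smul_mul_assoc, Algebra.smul_mul_assoc,
          Algebra.smul_mul_assoc, hN2, smul_zero, Algebra.mul_smul_comm, Algebra.mul_smul_comm, one_mul, one_mul,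
          mul_one, smul_smul, smul_smul, Nat.cast_succ]
        rw [show ((n : F) + 1) * e ^ (n + 1 + 1) = e ^ n + (n : F) * e ^ (n + 1) * e by
          linear_combination (e ^ n) * he]
        module
    have hc : g ^ p ∈ Subgroup.center (SpecialLinearGroup (Fin 2) F) := by
      refine Matrix.SpecialLinearGroup.mem_center_iff.2 ⟨e ^ p, ?_, ?_⟩
      · rw [Fintype.card_fin, ← pow_mul, mul_comm, pow_mul, sq, he, one_pow]
      · rw [Matrix.SpecialLinearGroup.coe_pow, hpow, CharP.cast_eq_zero F p, zero_mul, zero_smul, add_zero,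
          Matrix.scalar_apply, Matrix.smul_one_eq_diagonal]
    have h1 : ((g : ProjectiveSpecialLinearGroup (Fin 2) F)) ^ p = 1 := (QuotientGroup.eq_one_iff _).2 hc
    exact hx (orderOf_eq_one_iff.1 (Nat.eq_one_of_dvd_coprimes hxp dvd_rfl (orderOf_dvd_of_pow_eq_one h1)))
  let π := QuotientGroup.mk' (Subgroup.center (SpecialLinearGroup (Fin 2) F))
  have hval : ∀ a b : F, (a • (1 : Matrix (Fin 2) (Fin 2) F) + b • g.1).det = a * a + t * a * b + b * b := by
    intro a b
    rw [Matrix.det_fin_two]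
    simp [ht]
    linear_combination b * b * hdet
  obtain ⟨f, hf⟩ : ∃ f : {z : F × F // z.1 * z.1 + t * z.1 * z.2 + z.2 * z.2 = 1} → SpecialLinearGroup (Fin 2) F,
      ∀ z, (f z).1 = z.1.1 • (1 : Matrix (Fin 2) (Fin 2) F) + z.1.2 • g.1 :=
    ⟨fun z => ⟨_, (hval z.1.1 z.1.2).trans z.2⟩, fun _ => rfl⟩
  have hfi : Function.Injective f := by
    rintro ⟨⟨a, b⟩, hz⟩ ⟨⟨a', b'⟩, hz'⟩ h
    have e := congrArg Subtype.val h
    rw [hf, hf] at e
    simp only at e
    have hb : b = b' := by
      by_contra hne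
      refine hns ((a' - a) / (b - b')) ?_
      rw [Matrix.scalar_apply, ← Matrix.smul_one_eq_diagonal]
      have e' : (b - b') • g.1 = (a' - a) • (1 : Matrix (Fin 2) (Fin 2) F) := by
        rw [sub_smul, sub_smul]
        linear_combination (norm := module) e
      rw [div_eq_inv_mul, mul_smul, ← e', inv_smul_smul₀ (sub_ne_zero.2 hne)]
    subst hb
    rw [add_left_inj] at e
    have := congrFun (congrFun e 0) 0
    simp at this
    subst this
    rfl
  have hcomm : ∀ z, Commute (π (f z)) (π g) := fun z => by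
    suffices h : Commute (f z) g from h.map π
    refine Subtype.ext ?_
    rw [Matrix.SpecialLinearGroup.coe_mul, Matrix.SpecialLinearGroup.coe_mul, hf, add_mul, mul_add,
      Algebra.smul_mul_assoc, Algebra.smul_mul_assoc, Algebra.mul_smul_comm, Algebra.mul_smul_comm, one_mul, mul_one]
  have hfib : ∀ u : ProjectiveSpecialLinearGroup (Fin 2) F, Nat.card {M : SpecialLinearGroup (Fin 2) F // π M = u} ≤
      Nat.gcd 2 (q - 1) := by
    intro u
    obtain ⟨M₀, rfl⟩ := QuotientGroup.mk_surjective u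
    have h := card_center_SL (F := F) (ι := Fin 2)
    rw [Fintype.card_fin, card_units_eq hF] at h
    rw [← h]
    refine Nat.card_le_card_of_injective (fun M => (⟨M₀⁻¹ * M.1, QuotientGroup.eq.1 M.2.symm⟩ :
      Subgroup.center (SpecialLinearGroup (Fin 2) F))) fun M M' hMM => ?_
    exact Subtype.ext (mul_left_cancel (congrArg Subtype.val hMM))
  refine le_trans (show q - 1 ≤ Nat.card {z : F × F // z.1 * z.1 + t * z.1 * z.2 + z.2 * z.2 = 1} by
    have := card_conic t ht4
    omega) ?_
  haveI : Fintype {u : ProjectiveSpecialLinearGroup (Fin 2) F // Commute u (π g)} := Fintype.ofFinite _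
  rw [Nat.card_eq_fintype_card]
  refine le_trans (Finset.card_le_mul_card_image (f := fun z =>
    (⟨π (f z), hcomm z⟩ : {u : ProjectiveSpecialLinearGroup (Fin 2) F // Commute u (π g)})) Finset.univ
      (Nat.gcd 2 (q - 1)) fun u _ => ?_) (Nat.mul_le_mul_left _ ?_)
  · rw [← Nat.card_eq_finsetCard]
    refine le_trans (Nat.card_le_card_of_injective (fun z => (⟨f z.1, congrArg Subtype.val
      (Finset.mem_filter.1 z.2).2⟩ : {M : SpecialLinearGroup (Fin 2) F // π M = u.1})) fun z z' h => ?_) (hfib u.1)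
    exact Subtype.ext (hfi (congrArg Subtype.val h))
  · exact (Finset.card_le_univ _).trans Nat.card_eq_fintype_card.ge

/-- A maximal dihedral subgroup has the order of a torus normaliser. -/
theorem dihedral_param (p : ℕ) [hp : Fact p.Prime] [CharP F p] {q : ℕ} (hF : Fintype.card F = q) (h4 : 4 ≤ q)
    {M : Subgroup (ProjectiveSpecialLinearGroup (Fin 2) F)} (hM : IsCoatom M) {k : ℕ} (hk3 : 3 ≤ k)
    (hkp : k.Coprime p) (e : M ≃* DihedralGroup k) : q - 1 ≤ Nat.gcd 2 (q - 1) * k := by
  classical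
  haveI : NeZero k := ⟨by omega⟩
  let r : M := e.symm (DihedralGroup.r 1)
  have hr : orderOf (r : ProjectiveSpecialLinearGroup (Fin 2) F) = k := by
    rw [Subgroup.orderOf_coe, MulEquiv.orderOf_eq, DihedralGroup.orderOf_r_one]
  have hr1 : (r : ProjectiveSpecialLinearGroup (Fin 2) F) ≠ 1 := fun h => by rw [h, orderOf_one] at hr; omega
  have hconj : ∀ x : DihedralGroup k, ∃ i : ℕ, x * DihedralGroup.r 1 * x⁻¹ = DihedralGroup.r 1 ^ i := by
    rintro (i | i)
    · exact ⟨1, by simp⟩
    · exact ⟨(-1 : ZMod k).val, by simp [DihedralGroup.r_one_pow]⟩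
  have hnorm : M ≤ Subgroup.normalizer ((Subgroup.zpowers (r : ProjectiveSpecialLinearGroup (Fin 2) F) :
      Subgroup (ProjectiveSpecialLinearGroup (Fin 2) F)) : Set _) := by
    have key : ∀ m ∈ M, ∀ z ∈ Subgroup.zpowers (r : ProjectiveSpecialLinearGroup (Fin 2) F),
        m * z * m⁻¹ ∈ Subgroup.zpowers (r : ProjectiveSpecialLinearGroup (Fin 2) F) := by
      rintro m hm _ ⟨j, rfl⟩
      obtain ⟨i, hi⟩ := hconj (e ⟨m, hm⟩)
      have h := congrArg (fun w => ((e.symm w : M) : ProjectiveSpecialLinearGroup (Fin 2) F)) hi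
      simp only [map_mul, map_inv, map_pow, e.symm_apply_apply, Subgroup.coe_mul, Subgroup.coe_inv,
        Subgroup.coe_pow] at h
      refine ⟨(i : ℤ) * j, ?_⟩
      simp only
      rw [_root_.zpow_mul, zpow_natCast, ← h, conj_zpow]
    intro m hm
    rw [Subgroup.mem_normalizer_iff]
    refine fun z => ⟨key m hm z, fun hz => ?_⟩
    have := key m⁻¹ (inv_mem hm) _ hz
    rwa [inv_inv, show m⁻¹ * (m * z * m⁻¹) * m = z by group] at this
  have hMN : M = Subgroup.normalizer ((Subgroup.zpowers (r : ProjectiveSpecialLinearGroup (Fin 2) F) :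
      Subgroup (ProjectiveSpecialLinearGroup (Fin 2) F)) : Set _) :=
    (hnorm.eq_or_lt).resolve_right fun h => by
      haveI := (noncomm_of_four_le hF h4).1
      haveI : (Subgroup.zpowers (r : ProjectiveSpecialLinearGroup (Fin 2) F)).Normal :=
        Subgroup.normalizer_eq_top_iff.1 (hM.2 _ h)
      rcases Subgroup.Normal.eq_bot_or_eq_top (H := Subgroup.zpowers (r : ProjectiveSpecialLinearGroup (Fin 2) F))
        inferInstance with hb | ht
      · exact hr1 (Subgroup.mem_bot.1 (hb ▸ Subgroup.mem_zpowers _))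
      · exact hM.1 (top_le_iff.1 (ht ▸ Subgroup.zpowers_le.2 r.2))
  have hmem : ∀ u : {u : ProjectiveSpecialLinearGroup (Fin 2) F // Commute u r}, u.1 ∈ M := fun u => by
    refine hMN.ge ?_
    rw [Subgroup.mem_normalizer_iff]
    intro z
    constructor
    · rintro ⟨j, rfl⟩
      exact ⟨j, by simp only; rw [(u.2.zpow_right j).eq, mul_inv_cancel_right]⟩
    · rintro ⟨j, hj⟩
      refine ⟨j, ?_⟩
      simp only at hj ⊢
      rw [eq_mul_inv_iff_mul_eq, ← (u.2.zpow_right j).eq] at hj
      exact mul_left_cancel hj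
  have hrot : ∀ u : {u : ProjectiveSpecialLinearGroup (Fin 2) F // Commute u r},
      ∃ i, e ⟨u.1, hmem u⟩ = DihedralGroup.r i := by
    intro u
    rcases hi : e ⟨u.1, hmem u⟩ with i | i
    · exact ⟨i, rfl⟩
    · exfalso
      have h : (⟨u.1, hmem u⟩ : M) * r = r * ⟨u.1, hmem u⟩ := Subtype.ext u.2.eq
      have h' := congrArg e h
      rw [map_mul, map_mul, hi, show e r = DihedralGroup.r 1 from e.apply_symm_apply _, DihedralGroup.sr_mul_r,
        DihedralGroup.r_mul_sr, DihedralGroup.sr.injEq] at h'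
      have h2 : ((2 : ℕ) : ZMod k) = 0 := by push_cast; linear_combination h'
      rw [ZMod.natCast_eq_zero_iff] at h2
      have := Nat.le_of_dvd two_pos h2
      omega
  have hle : Nat.card {u : ProjectiveSpecialLinearGroup (Fin 2) F // Commute u r} ≤ k := by
    refine le_of_le_of_eq (Nat.card_le_card_of_injective (fun u => (hrot u).choose) fun u v h => ?_)
      (Nat.card_zmod k)
    have h' : e ⟨u.1, hmem u⟩ = e ⟨v.1, hmem v⟩ := by
      rw [(hrot u).choose_spec, (hrot v).choose_spec]
      exact congrArg DihedralGroup.r h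
    exact Subtype.ext (by simpa using congrArg Subtype.val (e.injective h'))
  exact (card_commute_le p hF hr1 (by rwa [hr])).trans (Nat.mul_le_mul_left _ hle)

end CfsgLib.Classical22
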