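/-
The maximal subgroups of `PSL_2(q)`, `q` even.
-/
import Cfsg.Agent.Lib.Classical22.PSLMaxTypes
import Cfsg.Agent.Lib.Classical22.PSLWildConj

set_option autoImplicit false

namespace CfsgLib.Classical22

open Matrix Projectivization CfsgLib.Classical CfsgLib.Classical.Dickson
open scoped MatrixGroups LinearAlgebra.Projectivization

theorem alt_four_sq_mul : ∀ a b : alternatingGroup (Fin 4), a * a = 1 → b * b = 1 → a * b * (a * b) = 1 := by
  decide +kernel

theorem alt_four_sq_witness : ∃ a : alternatingGroup (Fin 4), a * a = 1 ∧ a ≠ 1 := by decide +kernel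

theorem toPGL_bijective_even {K : Type*} [Field K] [Fintype K] {Q : ℕ} (hK : Fintype.card K = Q) (he : Q % 2 = 0) :
    Function.Bijective (Matrix.ProjectiveSpecialLinearGroup.toPGL (n := Fin 2) (R := K)) := by
  haveI : Finite (Matrix.ProjGenLinGroup (Fin 2) K) :=
    Finite.of_surjective _ Matrix.ProjGenLinGroup.mk_surjective
  refine (Nat.bijective_iff_injective_and_card _).2
    ⟨Matrix.ProjectiveSpecialLinearGroup.toPGL_injective (n := Fin 2) (R := K), ?_⟩
  have h := gcd_mul_card_PSL (F := K) hK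
  have hQ : 1 < Q := hK ▸ Fintype.one_lt_card
  rw [show Nat.gcd 2 (Q - 1) = 1 from Nat.prime_two.coprime_iff_not_dvd.2 (by omega), one_mul] at h
  rw [h, card_pgl hK]

theorem card_pow_fixed_le {F : Type*} [Field F] {N : ℕ} (hN : 2 ≤ N) : ({z : F | z ^ N = z} : Set F).ncard ≤ N := by
  classical
  have hp : (Polynomial.X ^ N - Polynomial.X : Polynomial F) ≠ 0 := FiniteField.X_pow_card_sub_X_ne_zero F (by omega)
  refine (Set.ncard_le_ncard (t := ((Polynomial.X ^ N - Polynomial.X : Polynomial F).roots.toFinset : Set F))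
    (fun z hz => ?_) (Finset.finite_toSet _)).trans ?_
  · simp only [Set.mem_setOf_eq] at hz
    rw [Finset.mem_coe, Multiset.mem_toFinset, Polynomial.mem_roots hp]
    simp [hz]
  · rw [Set.ncard_coe_finset]
    exact ((Multiset.toFinset_card_le _).trans (Polynomial.card_roots' _)).trans
      (by rw [FiniteField.X_pow_card_sub_X_natDegree_eq F (by omega)])

variable {F : Type*} [Field F] [Fintype F]

/-- The subfield of a given order contains every smaller one. -/
theorem le_fieldRange {L : Type*} [Field L] [Fintype L] (σ : L →+* F) (S : Subfield F) {s : ℕ}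
    (hs : Fintype.card L = Nat.card S ^ s) : S ≤ σ.fieldRange := by
  classical
  haveI : Fintype S := Fintype.ofFinite _
  have hS : ({z : F | z ^ Fintype.card L = z} : Set F) = Set.range σ := by
    refine (Set.eq_of_subset_of_ncard_le ?_ ?_ (Set.toFinite _)).symm
    · rintro _ ⟨a, rfl⟩
      simp only [Set.mem_setOf_eq, ← map_pow, FiniteField.pow_card]
    · rw [Set.ncard_range_of_injective σ.injective, Nat.card_eq_fintype_card]
      exact card_pow_fixed_le (Fintype.one_lt_card)
  intro z hz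
  have h1 : z ^ Fintype.card L = z := by
    rw [hs, Nat.card_eq_fintype_card]
    exact congrArg Subtype.val (FiniteField.pow_card_pow s (⟨z, hz⟩ : S))
  have h2 : z ∈ ({z : F | z ^ Fintype.card L = z} : Set F) := h1
  rw [hS] at h2
  exact h2

theorem pglMap_range_le {L : Type*} [Field L] (σ : L →+* F) (S : Subfield F) (h : S ≤ σ.fieldRange) :
    (pglMap S.subtype).range ≤ (pglMap σ).range := by
  let ρ : S →+* L := (RingEquiv.ofBijective σ.rangeRestrictField
    ⟨fun a b e => σ.injective (congrArg Subtype.val e), σ.rangeRestrictField_bijective.2⟩).symm.toRingHom.comp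
      (Subfield.inclusion h)
  have hρ : ∀ z : S, σ (ρ z) = (z : F) := fun z =>
    congrArg Subtype.val ((RingEquiv.ofBijective σ.rangeRestrictField
      ⟨fun a b e => σ.injective (congrArg Subtype.val e), σ.rangeRestrictField_bijective.2⟩).apply_symm_apply
        (Subfield.inclusion h z))
  rintro _ ⟨g, rfl⟩
  obtain ⟨M, rfl⟩ := Matrix.ProjGenLinGroup.mk_surjective g
  refine ⟨pglMap ρ (Matrix.ProjGenLinGroup.mk M), ?_⟩
  rw [pglMap_mk, pglMap_mk, pglMap_mk]
  exact congrArg _ (Units.ext (Matrix.ext fun i j => hρ _))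

/-- A maximal subgroup isomorphic to `PSL_2` of a subfield: the degree is prime. -/
theorem prime_degree_even (p : ℕ) [hp : Fact p.Prime] [CharP F p] {q : ℕ} (hF : Fintype.card F = q) (he : q % 2 = 0)
    {M : Subgroup (ProjectiveSpecialLinearGroup (Fin 2) F)} (hM : IsCoatom M) {L : Type*} [Field L] [Fintype L]
    {R m : ℕ} (hL : Fintype.card L = R) (hR : 3 ≤ R) (hm : R ^ m = q) (e : M ≃* ProjectiveSpecialLinearGroup (Fin 2) L) :
    m.Prime := by
  classical
  obtain ⟨τ⟩ := exists_hom_of_card_pow (F := F) (K := L) m (by rw [hL, hm, hF])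
  haveI : CharP L p := (τ.charP_iff_charP p).2 inferInstance
  have hm0 : m ≠ 0 := fun h => by rw [h, pow_zero] at hm; omega
  have heR : R % 2 = 0 := by
    rw [← hm] at he
    exact (Nat.even_iff.1 ((Nat.even_pow.1 (Nat.even_iff.2 he)).1))
  have hdR : Nat.gcd 2 (R - 1) = 1 := Nat.prime_two.coprime_iff_not_dvd.2 (by omega)
  have hcL : Nat.card (ProjectiveSpecialLinearGroup (Fin 2) L) = R * ((R - 1) * (R + 1)) := by
    rw [← gcd_mul_card_PSL hL, hdR, one_mul]
  obtain ⟨⟨a, ha0⟩, -, ha⟩ := FiniteField.card L p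
  simp only [PNat.mk_coe, hL] at ha
  have hp2 : p = 2 := by
    rw [ha] at heR
    exact ((Nat.prime_dvd_prime_iff_eq Nat.prime_two hp.out).1 (Nat.prime_two.dvd_of_dvd_pow (Nat.dvd_of_mod_eq_zero heR))).symm
  have hsylow : ∀ P : Sylow p (ProjectiveSpecialLinearGroup (Fin 2) L), Nat.card (P : Subgroup (ProjectiveSpecialLinearGroup (Fin 2) L)) = R := by
    intro P
    rw [P.card_eq_multiplicity, hcL, ha]
    congr 1
    have h0 : (p ^ a - 1) * (p ^ a + 1) ≠ 0 := Nat.mul_ne_zero (by omega) (by omega)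
    rw [Nat.factorization_mul (by omega) h0, Finsupp.add_apply, Nat.Prime.factorization_pow hp.out, Finsupp.single_eq_same,
      Nat.factorization_eq_zero_of_not_dvd (fun hd => ?_), add_zero]
    have hpa : p ∣ p ^ a := dvd_pow_self p ha0.ne'
    rcases hp.out.dvd_mul.1 hd with h | h
    · have := Nat.dvd_sub hpa h
      rw [show p ^ a - (p ^ a - 1) = 1 by omega] at this
      exact hp.out.not_dvd_one this
    · exact hp.out.not_dvd_one ((Nat.dvd_add_right hpa).1 h)
  obtain ⟨T, hT⟩ : ∃ T, T = M.map (Matrix.ProjectiveSpecialLinearGroup.toPGL (n := Fin 2) (R := F)) := ⟨_, rfl⟩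
  let eT : M ≃* T := (Subgroup.equivMapOfInjective M _ Matrix.ProjectiveSpecialLinearGroup.toPGL_injective).trans
    (MulEquiv.subgroupCongr hT.symm)
  let eLT := e.symm.trans eT
  haveI : Finite T := Finite.of_equiv M eT.toEquiv
  obtain ⟨P₀⟩ : Nonempty (Sylow p (ProjectiveSpecialLinearGroup (Fin 2) L)) := inferInstance
  obtain ⟨S, c, hS, hle⟩ := wild_conjugate p T R (R - 1) hR
    (fun P => (card_sylow_sub_congr p eLT P₀ P).symm.trans (hsylow P₀))
    ((card_sylow_congr p eLT).symm.trans ((P₀.card_eq_index_normalizer).trans (index_normalizer_sylow p hL P₀)))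
    (by rw [← Nat.card_congr eLT.toEquiv, hcL]; ring) (Or.inl rfl)
  refine Nat.prime_def_lt'.2 ⟨?_, fun s hs2 hsm hsd => ?_⟩
  · by_contra hm2
    obtain rfl : m = 1 := by omega
    rw [pow_one] at hm
    refine hM.1 (Subgroup.eq_top_of_card_eq M ?_)
    have hG := gcd_mul_card_PSL hF
    rw [← hm, hdR, one_mul, ← hcL] at hG
    rw [Nat.card_congr e.toEquiv, hG]
  · obtain ⟨u, hu⟩ := hsd
    obtain ⟨j, hj⟩ : ∃ j, q = p ^ j := ⟨a * m, by rw [← hm, ha, ← pow_mul]⟩
    let L' := GaloisField p (a * s)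
    haveI : Fintype L' := Fintype.ofFinite _
    have hL' : Fintype.card L' = R ^ s := by
      rw [← Nat.card_eq_fintype_card, GaloisField.card p (a * s) (Nat.mul_ne_zero ha0.ne' (by omega)), ha, pow_mul]
    obtain ⟨σ⟩ := exists_hom_of_card_pow (F := F) (K := L') u (by rw [hL', ← pow_mul, ← hu, hm, hF])
    have hran := pglMap_range_le σ S (le_fieldRange σ S (s := s) (by rw [hL', hS]))
    obtain ⟨Y, hY⟩ : ∃ Y, Y = ((pglMap σ).range.map (MulAut.conj c⁻¹).toMonoidHom).comap
        (Matrix.ProjectiveSpecialLinearGroup.toPGL (n := Fin 2) (R := F)) := ⟨_, rfl⟩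
    have hMY : M ≤ Y := fun x hx => by
      rw [hY]
      refine ⟨c * Matrix.ProjectiveSpecialLinearGroup.toPGL x * c⁻¹, hran (hle ⟨_, hT ▸ ⟨x, hx, rfl⟩, rfl⟩), ?_⟩
      simp [mul_assoc]
    have hbij := toPGL_bijective_even hF he
    have hcY : Nat.card Y = R ^ s * ((R ^ s - 1) * (R ^ s + 1)) := by
      rw [hY, Nat.card_congr (Subgroup.equivMapOfInjective _ _
        Matrix.ProjectiveSpecialLinearGroup.toPGL_injective).toEquiv, Subgroup.map_comap_eq_self (fun y _ => hbij.2 y),
        ← Nat.card_congr (Subgroup.equivMapOfInjective _ _ (MulAut.conj c⁻¹).injective).toEquiv,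
        ← Nat.card_congr (MonoidHom.ofInjective (pglMap_injective σ)).toEquiv, card_pgl hL']
    have hmono : ∀ {x y : ℕ}, 2 ≤ x → x < y → x * ((x - 1) * (x + 1)) < y * ((y - 1) * (y + 1)) := fun h1 h2 =>
      Nat.mul_lt_mul_of_lt_of_le h2 (Nat.mul_le_mul (by omega) (by omega)) (Nat.mul_pos (by omega) (by omega))
    have hR1 : R < R ^ s := lt_of_eq_of_lt (pow_one R).symm (Nat.pow_lt_pow_right (by omega) (by omega))
    have hR2 : R ^ s < R ^ m := Nat.pow_lt_pow_right (by omega) hsm
    rcases hMY.eq_or_lt with h | h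
    · have h' := hcY
      rw [← h, Nat.card_congr e.toEquiv, hcL] at h'
      exact (hmono (by omega) hR1).ne h'
    · have htop := hM.2 Y h
      rw [htop, Subgroup.card_top] at hcY
      have hG := gcd_mul_card_PSL hF
      rw [show Nat.gcd 2 (q - 1) = 1 from Nat.prime_two.coprime_iff_not_dvd.2 (by
        have : 1 < q := hF ▸ Fintype.one_lt_card
        omega), one_mul, hcY, ← hm] at hG
      exact (hmono (by omega) hR2).ne hG

/-- Groups of order six are cyclic or dihedral. -/
theorem dihedral_of_six {G : Type*} [Group G] [Finite G] (hc : Nat.card G = 6)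
    (hnc : ¬ ∀ x y : G, x * y = y * x) : Nonempty (G ≃* DihedralGroup 3) := by
  haveI : Fact (Nat.Prime 2) := ⟨Nat.prime_two⟩
  haveI : Fact (Nat.Prime 3) := ⟨Nat.prime_three⟩
  obtain ⟨r, hr⟩ := exists_prime_orderOf_dvd_card' (G := G) 3 (hc ▸ by norm_num)
  obtain ⟨s, hs⟩ := exists_prime_orderOf_dvd_card' (G := G) 2 (hc ▸ by norm_num)
  have hs2 : s * s = 1 := by rw [← pow_two, ← hs, pow_orderOf_eq_one]
  have hns : s ∉ Subgroup.zpowers r := fun h => by
    have := orderOf_dvd_of_mem_zpowers h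
    rw [hs, hr] at this
    norm_num at this
  have hidx : (Subgroup.zpowers r).index = 2 := by
    have := Subgroup.card_mul_index (Subgroup.zpowers r)
    rw [Nat.card_zpowers, hr, hc] at this
    omega
  haveI := Subgroup.normal_of_index_eq_two hidx
  obtain ⟨j, hj : r ^ j = s * r * s⁻¹⟩ := Subgroup.Normal.conj_mem inferInstance r (Subgroup.mem_zpowers r) s
  rw [inv_eq_of_mul_eq_one_right hs2] at hj
  have hj' : r ^ (j % 3) = s * r * s := by
    rw [← hj, ← zpow_mod_orderOf r j, hr]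
    rfl
  rcases (show j % 3 = 0 ∨ j % 3 = 1 ∨ j % 3 = 2 by omega) with h | h | h <;> rw [h] at hj'
  · rw [zpow_zero] at hj'
    exfalso
    have : r = 1 := by
      have h2 := congrArg (fun z => s * z * s) hj'
      simpa [← mul_assoc, hs2, mul_assoc r s s] using h2.symm
    rw [this, orderOf_one] at hr
    norm_num at hr
  · rw [zpow_one] at hj'
    exfalso
    have hrs : Commute r s := by
      change r * s = s * r
      conv_lhs => rw [hj', mul_assoc, hs2, mul_one]
    have ho : orderOf (r * s) = 6 := by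
      rw [hrs.orderOf_mul_eq_mul_orderOf_of_coprime (by rw [hr, hs]; norm_num), hr, hs]
    haveI : IsCyclic G := isCyclic_of_orderOf_eq_card (r * s) (ho.trans hc.symm)
    letI : CommGroup G := IsCyclic.commGroup
    exact hnc mul_comm
  · have hinv : s * r * s = r⁻¹ := by
      rw [← hj']
      refine eq_inv_of_mul_eq_one_left ?_
      rw [show (2 : ℤ) = ((2 : ℕ) : ℤ) from rfl, zpow_natCast, ← pow_succ]
      rw [show 2 + 1 = orderOf r by omega]
      exact pow_orderOf_eq_one r
    obtain ⟨H, -, -, hH, ⟨eH⟩⟩ := exists_dihedral_sub (by norm_num : 0 < 3) hr hs2 hinv hns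
    exact ⟨(Subgroup.topEquiv.symm.trans (MulEquiv.subgroupCongr
      (Subgroup.eq_top_of_card_eq H (hH.trans (by rw [hc]))).symm)).trans eH⟩

theorem psl_even_maximal {q : ℕ} (hF : Fintype.card F = q) (he : q % 2 = 0) (h4 : 4 ≤ q)
    (M : Subgroup (ProjectiveSpecialLinearGroup (Fin 2) F)) (hM : IsCoatom M) :
    Nat.card M = q * (q - 1) ∨
    Nonempty (M ≃* DihedralGroup (q - 1)) ∨
    Nonempty (M ≃* DihedralGroup (q + 1)) ∨
    (∃ (F₀ : Type) (_ : Field F₀) (_ : Fintype F₀) (r : ℕ), r.Prime ∧ Fintype.card F₀ ≠ 2 ∧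
        q = Fintype.card F₀ ^ r ∧ Nonempty (M ≃* ProjectiveSpecialLinearGroup (Fin 2) F₀)) := by
  classical
  haveI : Fact (Nat.Prime 2) := ⟨Nat.prime_two⟩
  haveI : CharP F 2 := ringChar.of_eq (FiniteField.even_card_iff_char_two.2 (by rw [hF]; omega))
  have hd : Nat.gcd 2 (q - 1) = 1 := Nat.prime_two.coprime_iff_not_dvd.2 (by omega)
  have hab : ¬ ∀ x y : M, x * y = y * x := fun h => not_coatom_of_comm (hF ▸ h4) hM fun x hx y hy =>
    congrArg Subtype.val (h ⟨x, hx⟩ ⟨y, hy⟩)
  have hdih : ∀ k : ℕ, (k ∣ q + 1 ∨ k ∣ q - 1) → Nonempty (M ≃* DihedralGroup k) →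
      Nonempty (M ≃* DihedralGroup (q - 1)) ∨ Nonempty (M ≃* DihedralGroup (q + 1)) := by
    rintro k hk ⟨e⟩
    have hk0 : k ≠ 0 := by
      rintro rfl
      rcases hk with h | h <;> rw [zero_dvd_iff] at h <;> omega
    have hko : k % 2 = 1 := by
      by_contra hc
      rcases hk with h | h <;> have h2 := (Nat.dvd_of_mod_eq_zero (show k % 2 = 0 by omega)).trans h <;> omega
    rcases (show k = 1 ∨ 3 ≤ k by omega) with rfl | hk3
    · refine absurd (fun x y => e.injective ?_) hab
      rw [map_mul, map_mul]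
      revert x y
      suffices ∀ a b : DihedralGroup 1, a * b = b * a from fun x y => this _ _
      decide
    · have hle := dihedral_param 2 hF h4 hM hk3 (Nat.prime_two.coprime_iff_not_dvd.2 (by omega)).symm e
      rw [hd, one_mul] at hle
      rcases hk with ⟨c, hc⟩ | ⟨c, hc⟩
      · rcases (show c = 0 ∨ c = 1 ∨ 2 ≤ c by omega) with rfl | rfl | hc2
        · omega
        · rw [mul_one] at hc; rw [hc]; exact Or.inr ⟨e⟩
        · have := Nat.mul_le_mul_left k hc2; omega
      · rcases (show c = 0 ∨ c = 1 ∨ 2 ≤ c by omega) with rfl | rfl | hc2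
        · omega
        · rw [mul_one] at hc; rw [hc]; exact Or.inl ⟨e⟩
        · have := Nat.mul_le_mul_left k hc2; omega
  have hfield : ∀ (L : Type) (_ : Field L) (_ : Fintype L) (m : ℕ), Fintype.card L ^ m = q →
      Nonempty (M ≃* ProjectiveSpecialLinearGroup (Fin 2) L) →
      Nonempty (M ≃* DihedralGroup (q - 1)) ∨ Nonempty (M ≃* DihedralGroup (q + 1)) ∨
      (∃ (F₀ : Type) (_ : Field F₀) (_ : Fintype F₀) (r : ℕ), r.Prime ∧ Fintype.card F₀ ≠ 2 ∧
        q = Fintype.card F₀ ^ r ∧ Nonempty (M ≃* ProjectiveSpecialLinearGroup (Fin 2) F₀)) := by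
    intro L _ _ m hm ⟨e⟩
    rcases (show Fintype.card L = 2 ∨ 3 ≤ Fintype.card L by
      have := Fintype.one_lt_card (α := L); omega) with h2 | h3
    · have h6 : Nat.card M = 6 := by
        have hP := gcd_mul_card_PSL (F := L) h2
        rw [show Nat.gcd 2 (2 - 1) = 1 from rfl, one_mul] at hP
        rw [Nat.card_congr e.toEquiv, hP]
      obtain ⟨e'⟩ := dihedral_of_six h6 hab
      refine (hdih 3 ?_ ⟨e'⟩).imp_right Or.inl
      have hq3 : q % 3 ≠ 0 := fun h => by
        have h' := Nat.Prime.dvd_of_dvd_pow Nat.prime_three (Nat.dvd_of_mod_eq_zero (h2 ▸ hm.symm ▸ h : 2 ^ m % 3 = 0))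
        norm_num at h'
      rcases (show q % 3 = 1 ∨ q % 3 = 2 by omega) with h | h
      · exact Or.inr (Nat.dvd_of_mod_eq_zero (by omega))
      · exact Or.inl (Nat.dvd_of_mod_eq_zero (by omega))
    · exact Or.inr (Or.inr ⟨L, inferInstance, inferInstance, m,
        prime_degree_even 2 hF he hM rfl h3 hm e, by omega, hm.symm, ⟨e⟩⟩)
  rcases dickson_list 2 hF M with ⟨k, hk, hcase⟩ | ⟨P, N, hN, ⟨e⟩⟩ | ⟨⟨e⟩⟩ | ⟨⟨e⟩⟩ | ⟨⟨e⟩⟩ |
    ⟨L, _, _, m, hm, hcase⟩
  · rw [hd, Nat.div_one, Nat.div_one] at hk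
    rcases hcase with ⟨hc, -⟩ | he'
    · haveI := hc
      letI : CommGroup M := IsCyclic.commGroup
      exact absurd mul_comm hab
    · exact Or.inr ((hdih k hk he').imp_right Or.inl)
  · left
    have := card_of_le_normalizer 2 hF h4 hM P hN e
    rwa [hd, one_mul] at this
  · left
    let V : Subgroup (alternatingGroup (Fin 4)) :=
      { carrier := {x | x * x = 1}
        one_mem' := one_mul 1
        mul_mem' := fun {a b} => alt_four_sq_mul a b
        inv_mem' := fun {a} (ha : a * a = 1) => show a⁻¹ * a⁻¹ = 1 by rw [← _root_.mul_inv_rev, ha, inv_one] }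
    obtain ⟨w, hw, hw1⟩ := alt_four_sq_witness
    have := card_of_normal_pGroup 2 hF hM (U := (V.comap e.toMonoidHom).map M.subtype) (Subgroup.map_subtype_le _)
      ((IsPGroup.comap_of_injective (fun x => ⟨1, Subtype.ext (by
        rw [pow_one, pow_two]; exact x.2)⟩ : IsPGroup 2 V) _ e.injective).map _)
      (fun h => by
        have hmem : ((e.symm w : M) : ProjectiveSpecialLinearGroup (Fin 2) F) ∈ (⊥ : Subgroup _) :=
          h ▸ ⟨e.symm w, show e (e.symm w) * e (e.symm w) = 1 by rw [e.apply_symm_apply, hw], rfl⟩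
        rw [Subgroup.mem_bot] at hmem
        exact hw1 (e.symm.injective ((Subtype.ext hmem).trans (map_one _).symm)))
      (fun x hx _ ⟨y, hy, hyu⟩ => ⟨⟨x, hx⟩ * y * ⟨x, hx⟩⁻¹, by
        change e _ * e _ = 1
        have hy' : e y * e y = 1 := hy
        rw [map_mul, map_mul, map_inv]
        calc e ⟨x, hx⟩ * e y * (e ⟨x, hx⟩)⁻¹ * (e ⟨x, hx⟩ * e y * (e ⟨x, hx⟩)⁻¹)
            = e ⟨x, hx⟩ * (e y * e y) * (e ⟨x, hx⟩)⁻¹ := by group
          _ = 1 := by rw [hy', mul_one, mul_inv_cancel], by rw [← hyu]; rfl⟩)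
    rwa [hd, one_mul] at this
  · exfalso
    have h16 := (sym_four_iff hF).1 ⟨M, ⟨e⟩⟩
    have : q ^ 2 % 2 = 0 := by rw [Nat.pow_mod, he]
    omega
  · have h5 := (alt_five_iff hF).1 ⟨M, ⟨e⟩⟩
    obtain ⟨n, hn0, hn⟩ := q_even_pow hF he
    have hn2 : Even n := by
      by_contra hc
      obtain ⟨j, rfl⟩ := Nat.not_even_iff_odd.1 hc
      rcases (Nat.Prime.dvd_mul (by norm_num : Nat.Prime 5)).1 h5 with h | h
      · rw [hn] at h
        exact absurd (Nat.Prime.dvd_of_dvd_pow (by norm_num) h) (by norm_num)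
      · have h9 : q ^ 2 % 5 = 4 := by
          rw [hn, ← pow_mul, show (2 * j + 1) * 2 = 4 * j + 2 by ring, pow_add, pow_mul, Nat.mul_mod, Nat.pow_mod]
          norm_num
        have : 1 ≤ q ^ 2 := Nat.one_le_pow _ _ (by omega)
        omega
    obtain ⟨j, rfl⟩ := hn2
    let L := GaloisField 2 2
    haveI : Fintype L := Fintype.ofFinite _
    have hL : Fintype.card L = 4 := by rw [← Nat.card_eq_fintype_card, GaloisField.card 2 2 (by norm_num)]; norm_num
    obtain ⟨H, ⟨f⟩⟩ := (alt_five_iff (F := L) hL).2 (by norm_num)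
    have hH : H = ⊤ := Subgroup.eq_top_of_card_eq H (by
      have hP := gcd_mul_card_PSL (F := L) hL
      rw [show Nat.gcd 2 (4 - 1) = 1 from rfl, one_mul] at hP
      rw [Nat.card_congr f.toEquiv, nat_card_alternatingGroup, Nat.card_fin, hP]
      rfl)
    exact Or.inr (hfield L inferInstance inferInstance j
      (by rw [hL, hn, show (4 : ℕ) = 2 ^ 2 from rfl, ← pow_mul, two_mul])
      ⟨e.trans (f.symm.trans ((MulEquiv.subgroupCongr hH).trans Subgroup.topEquiv))⟩)
  · have hm0 : m ≠ 0 := fun h => by rw [h, pow_zero] at hm; omega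
    have heL : Fintype.card L % 2 = 0 := by
      rw [← hm] at he
      exact (Nat.even_iff.1 ((Nat.even_pow.1 (Nat.even_iff.2 he)).1))
    refine Or.inr (hfield L inferInstance inferInstance m hm ?_)
    rcases hcase with ⟨⟨e⟩⟩ | ⟨⟨e⟩⟩
    · exact ⟨e⟩
    · exact ⟨e.trans (MulEquiv.ofBijective _ (toPGL_bijective_even rfl heL)).symm⟩

end CfsgLib.Classical22
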