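/-
Normal form for pairs of elements of orders two and three in `PGL_2`.
-/
import Cfsg.Agent.Lib.Classical.Dickson.PSLMap

set_option autoImplicit false

namespace CfsgLib.Classical22

open Matrix CfsgLib.Classical CfsgLib.Classical.Dickson
open scoped MatrixGroups

variable {F : Type*} [Field F]

theorem ch_two (A : Matrix (Fin 2) (Fin 2) F) : A * A = A.trace • A - A.det • 1 := by
  ext i j
  fin_cases i <;> fin_cases j <;>
    simp [Matrix.mul_apply, Fin.sum_univ_two, Matrix.trace_fin_two, Matrix.det_fin_two] <;> ring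

theorem gl_det_ne_zero (A : GL (Fin 2) F) : A.val.det ≠ 0 := ((Matrix.isUnit_iff_isUnit_det A.val).1 A.isUnit).ne_zero

theorem scalar_of_mk_eq_one {A : GL (Fin 2) F} (h : Matrix.ProjGenLinGroup.mk A = 1) :
    ∃ r : F, A.val = r • (1 : Matrix (Fin 2) (Fin 2) F) := by
  rw [Matrix.ProjGenLinGroup.mk_eq_one, Matrix.GeneralLinearGroup.center_eq_range_scalar] at h
  obtain ⟨u, rfl⟩ := h
  exact ⟨u, (Matrix.smul_one_eq_diagonal (u : F)).symm⟩

theorem coeff_zero {A : Matrix (Fin 2) (Fin 2) F} (hA : ∀ r : F, A ≠ r • 1) {x r : F}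
    (h : x • A = r • (1 : Matrix (Fin 2) (Fin 2) F)) : x = 0 := by
  by_contra hx
  exact hA (x⁻¹ * r) (by rw [mul_smul, ← h, inv_smul_smul₀ hx])

/-- The invariant `tr² / det` of an element of `PGL_2`. -/
def HasInv (g : Matrix.ProjGenLinGroup (Fin 2) F) (c : F) : Prop :=
  ∃ C : GL (Fin 2) F, Matrix.ProjGenLinGroup.mk C = g ∧ C.val.trace ^ 2 = c * C.val.det

theorem not_scalar_of_ne_one {g : Matrix.ProjGenLinGroup (Fin 2) F} (hg : g ≠ 1) {C : GL (Fin 2) F}
    (hC : Matrix.ProjGenLinGroup.mk C = g) : ∀ r : F, C.val ≠ r • (1 : Matrix (Fin 2) (Fin 2) F) := by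
  intro r hr
  refine hg (hC ▸ ?_)
  rw [Matrix.ProjGenLinGroup.mk_eq_one, Matrix.GeneralLinearGroup.center_eq_range_scalar]
  have hr0 : r ≠ 0 := fun h => gl_det_ne_zero C (by rw [hr, h, zero_smul, Matrix.det_zero])
  exact ⟨Units.mk0 r hr0, Units.ext (hr.trans (Matrix.smul_one_eq_diagonal r)).symm⟩

theorem inv_of_sq {g : Matrix.ProjGenLinGroup (Fin 2) F} (h : g ^ 2 = 1) (hg : g ≠ 1) : HasInv g 0 := by
  obtain ⟨C, rfl⟩ := Matrix.ProjGenLinGroup.mk_surjective g
  refine ⟨C, rfl, ?_⟩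
  obtain ⟨r, hr⟩ := scalar_of_mk_eq_one (A := C ^ 2) (by rw [map_pow]; exact h)
  rw [Units.val_pow_eq_pow_val, pow_two, ch_two] at hr
  have h0 := coeff_zero (not_scalar_of_ne_one hg rfl) (x := C.val.trace) (r := r + C.val.det)
    (by rw [add_smul, ← hr]; abel)
  rw [h0, zero_mul, pow_two, mul_zero]

theorem inv_of_cube {g : Matrix.ProjGenLinGroup (Fin 2) F} (h : g ^ 3 = 1) (hg : g ≠ 1) : HasInv g 1 := by
  obtain ⟨C, rfl⟩ := Matrix.ProjGenLinGroup.mk_surjective g
  refine ⟨C, rfl, ?_⟩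
  obtain ⟨r, hr⟩ := scalar_of_mk_eq_one (A := C ^ 3) (by rw [map_pow]; exact h)
  rw [Units.val_pow_eq_pow_val, pow_succ, pow_two, ch_two, sub_mul, Algebra.smul_mul_assoc, ch_two,
    Algebra.smul_mul_assoc, one_mul, smul_sub, smul_smul, smul_smul] at hr
  have h0 := coeff_zero (not_scalar_of_ne_one hg rfl) (x := C.val.trace * C.val.trace - C.val.det)
    (r := r + C.val.trace * C.val.det) (by rw [sub_smul, add_smul, ← hr]; abel)
  linear_combination h0

theorem inv_of_four {g : Matrix.ProjGenLinGroup (Fin 2) F} (h : g ^ 4 = 1) (hg2 : g ^ 2 ≠ 1) : HasInv g 2 := by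
  obtain ⟨C, rfl⟩ := Matrix.ProjGenLinGroup.mk_surjective g
  refine ⟨C, rfl, ?_⟩
  have hg : Matrix.ProjGenLinGroup.mk C ≠ 1 := fun h1 => hg2 (by rw [h1, one_pow])
  obtain ⟨r, hr⟩ := scalar_of_mk_eq_one (A := C ^ 4) (by rw [map_pow]; exact h)
  obtain ⟨t, ht'⟩ : ∃ t, t = C.val.trace := ⟨_, rfl⟩
  obtain ⟨d, hd'⟩ : ∃ d, d = C.val.det := ⟨_, rfl⟩
  have hch : C.val * C.val = t • C.val - d • 1 := by rw [ht', hd']; exact ch_two _
  have h4 : C.val ^ 4 = (t * (t ^ 2 - 2 * d)) • C.val - ((t ^ 2 - d) * d) • 1 := by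
    rw [show C.val ^ 4 = C.val * C.val * (C.val * C.val) by
      simp only [pow_succ, pow_zero, one_mul, mul_assoc], hch]
    simp only [sub_mul, mul_sub, Algebra.smul_mul_assoc, Algebra.mul_smul_comm, one_mul, mul_one, hch, smul_sub]
    module
  rw [Units.val_pow_eq_pow_val, h4] at hr
  have h0 := coeff_zero (not_scalar_of_ne_one hg rfl) (x := t * (t ^ 2 - 2 * d))
    (r := r + (t ^ 2 - d) * d) (by rw [add_smul r, ← hr, sub_add_cancel])
  rw [ht', hd'] at h0
  rcases mul_eq_zero.1 h0 with ht | ht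
  · exfalso
    refine hg2 ?_
    rw [← map_pow, Matrix.ProjGenLinGroup.mk_eq_one, Matrix.GeneralLinearGroup.center_eq_range_scalar]
    refine ⟨Units.mk0 (-C.val.det) (neg_ne_zero.2 (gl_det_ne_zero C)), Units.ext ?_⟩
    rw [Units.val_pow_eq_pow_val, pow_two, ch_two, ht, zero_smul, zero_sub, ← neg_smul]
    exact (Matrix.smul_one_eq_diagonal _).symm
  · linear_combination ht

theorem inv_of_five {g : Matrix.ProjGenLinGroup (Fin 2) F} (h : g ^ 5 = 1) (hg : g ≠ 1) :
    ∃ c, c ^ 2 - 3 * c + 1 = 0 ∧ HasInv g c := by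
  obtain ⟨C, rfl⟩ := Matrix.ProjGenLinGroup.mk_surjective g
  obtain ⟨r, hr⟩ := scalar_of_mk_eq_one (A := C ^ 5) (by rw [map_pow]; exact h)
  obtain ⟨t, ht⟩ : ∃ t, t = C.val.trace := ⟨_, rfl⟩
  obtain ⟨d, hd⟩ : ∃ d, d = C.val.det := ⟨_, rfl⟩
  have hch : C.val * C.val = t • C.val - d • 1 := by rw [ht, hd]; exact ch_two _
  have h3 : C.val * C.val * C.val = (t * t - d) • C.val - (t * d) • 1 := by
    rw [hch, sub_mul, Algebra.smul_mul_assoc, hch, Algebra.smul_mul_assoc, one_mul]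
    module
  have h5 : C.val ^ 5 = (t ^ 4 - 3 * t ^ 2 * d + d ^ 2) • C.val - ((t ^ 3 - 2 * t * d) * d) • 1 := by
    rw [show C.val ^ 5 = C.val * C.val * C.val * (C.val * C.val) by
      simp only [pow_succ, pow_zero, one_mul, mul_assoc], h3, hch, sub_mul, Algebra.smul_mul_assoc,
      Algebra.smul_mul_assoc, one_mul, mul_sub, Algebra.mul_smul_comm, Algebra.mul_smul_comm, mul_one, hch]
    module
  rw [Units.val_pow_eq_pow_val, h5] at hr
  have h0 := coeff_zero (not_scalar_of_ne_one hg rfl) (x := t ^ 4 - 3 * t ^ 2 * d + d ^ 2)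
    (r := r + (t ^ 3 - 2 * t * d) * d) (by rw [add_smul r, ← hr, sub_add_cancel])
  have hd0 : d ≠ 0 := hd ▸ gl_det_ne_zero C
  refine ⟨t ^ 2 / d, ?_, C, rfl, by rw [← ht, ← hd, div_mul_cancel₀ _ hd0]⟩
  field_simp
  linear_combination h0

/-- The normal form of the element of order two. -/
def nfA (α β : F) : Matrix (Fin 2) (Fin 2) F := !![α, α + β + 1; β, -α]

/-- The normal form of the element of order three. -/
def nfB (F : Type*) [Field F] : Matrix (Fin 2) (Fin 2) F := !![0, -1; 1, 1]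

theorem GL_smul {A : GL (Fin 2) F} {r : F} (hr : r ≠ 0) :
    ∃ A' : GL (Fin 2) F, A'.val = r • A.val ∧ Matrix.ProjGenLinGroup.mk A' = Matrix.ProjGenLinGroup.mk A := by
  refine ⟨Matrix.GeneralLinearGroup.scalar (Fin 2) (Units.mk0 r hr) * A, ?_, ?_⟩
  · rw [Units.val_mul]
    change Matrix.scalar (Fin 2) r * A.val = _
    rw [Matrix.scalar_apply, ← Matrix.smul_one_eq_diagonal, Algebra.smul_mul_assoc, one_mul]
  · rw [map_mul, Matrix.ProjGenLinGroup.mk_scalar, one_mul]

/-- A pair with given invariants is conjugate to the normal form. -/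
theorem pair_normal_form {a b : Matrix.ProjGenLinGroup (Fin 2) F} (ha : a ^ 2 = 1) (ha1 : a ≠ 1) (hb : b ^ 3 = 1)
    (hb1 : b ≠ 1) {c : F} (hc : HasInv (a * b) c) (hc0 : c ≠ 0) (hc3 : c ≠ 3) {α β : F}
    (hαβ : c⁻¹ + α ^ 2 + α * β + β ^ 2 + β = 0) :
    ∃ (h : Matrix.ProjGenLinGroup (Fin 2) F) (NA NB : GL (Fin 2) F), NA.val = nfA α β ∧ NB.val = nfB F ∧
      h * Matrix.ProjGenLinGroup.mk NA * h⁻¹ = a ∧ h * Matrix.ProjGenLinGroup.mk NB * h⁻¹ = b := by
  obtain ⟨A₀, hA₀, htA⟩ := inv_of_sq ha ha1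
  rw [zero_mul, pow_eq_zero_iff two_ne_zero] at htA
  obtain ⟨B₀, hB₀, htB⟩ := inv_of_cube hb hb1
  rw [one_mul] at htB
  have hB0 : B₀.val.trace ≠ 0 := fun h => gl_det_ne_zero B₀ (by rw [← htB, h, pow_two, mul_zero])
  obtain ⟨B, hBv, hBm⟩ := GL_smul (A := B₀) (inv_ne_zero hB0)
  rw [hB₀] at hBm
  obtain ⟨C, hC, htC⟩ := hc
  have hBt : B.val.trace = 1 := by rw [hBv, Matrix.trace_smul, smul_eq_mul, inv_mul_cancel₀ hB0]
  have hBd : B.val.det = 1 := by
    rw [hBv, Matrix.det_smul, Fintype.card_fin, ← htB, inv_pow, inv_mul_cancel₀ (pow_ne_zero 2 hB0)]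
  obtain ⟨u, hu⟩ := (Matrix.ProjGenLinGroup.mk_eq_mk_iff).1
    (show Matrix.ProjGenLinGroup.mk C = Matrix.ProjGenLinGroup.mk (A₀ * B) by rw [map_mul, hA₀, hBm, hC])
  have hu' : (A₀ * B).val = (u : F) • C.val := by
    rw [← hu, Units.val_mul]
    change C.val * Matrix.scalar (Fin 2) (u : F) = _
    rw [Matrix.scalar_apply, ← Matrix.smul_one_eq_diagonal, Algebra.mul_smul_comm, mul_one]
  have htAB : (A₀.val * B.val).trace ^ 2 = c * A₀.val.det := by
    rw [← Units.val_mul, hu', Matrix.trace_smul, smul_eq_mul, mul_pow, htC]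
    have hd := congrArg Matrix.det hu'
    rw [Units.val_mul, Matrix.det_mul, hBd, mul_one, Matrix.det_smul, Fintype.card_fin] at hd
    rw [hd]; ring
  have hs0 : (A₀.val * B.val).trace ≠ 0 := fun h => by
    rw [h, zero_pow two_ne_zero, eq_comm, mul_eq_zero] at htAB
    exact htAB.elim hc0 (gl_det_ne_zero A₀)
  obtain ⟨A, hAv, hAm⟩ := GL_smul (A := A₀) (inv_ne_zero hs0)
  rw [hA₀] at hAm
  have hAt : A.val.trace = 0 := by rw [hAv, Matrix.trace_smul, htA, smul_zero]
  have hAB : (A.val * B.val).trace = 1 := by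
    rw [hAv, Algebra.smul_mul_assoc, Matrix.trace_smul, smul_eq_mul, inv_mul_cancel₀ hs0]
  have hAd : A.val.det = c⁻¹ := by
    rw [hAv, Matrix.det_smul, Fintype.card_fin, inv_pow, htAB, mul_inv, mul_assoc, inv_mul_cancel₀ (gl_det_ne_zero A₀),
      mul_one]
  -- the entries
  rw [Matrix.trace_fin_two] at hBt hAt
  rw [Matrix.trace_fin_two, Matrix.mul_apply, Matrix.mul_apply, Fin.sum_univ_two, Fin.sum_univ_two] at hAB
  have hAd' := hAd
  rw [Matrix.det_fin_two] at hAd'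
  have hBd' := hBd
  rw [Matrix.det_fin_two] at hBd'
  have hB2 : ∀ v : Fin 2 → F, B.val *ᵥ (B.val *ᵥ v) = B.val *ᵥ v - v := fun v => by
    rw [Matrix.mulVec_mulVec, ch_two, Matrix.trace_fin_two, hBt, hBd, one_smul, one_smul, Matrix.sub_mulVec,
      Matrix.one_mulVec]
  have hrel : A.val * B.val + B.val * A.val = A.val + 1 := by
    ext i j
    fin_cases i <;> fin_cases j <;>
      simp [Matrix.add_apply, Matrix.mul_apply, Fin.sum_univ_two, Matrix.one_apply]
    · linear_combination hAB + (A.val 0 0) * hBt - (B.val 1 1) * hAt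
    · linear_combination (A.val 0 1) * hBt + (B.val 0 1) * hAt
    · linear_combination (A.val 1 0) * hBt + (B.val 1 0) * hAt
    · linear_combination hAB + (A.val 1 1) * hBt - (B.val 0 0) * hAt
  -- the vector
  obtain ⟨N, hN⟩ : ∃ N, N = A.val - α • (1 : Matrix (Fin 2) (Fin 2) F) - β • B.val := ⟨_, rfl⟩
  have hNd : N.det = 0 := by
    rw [hN, Matrix.det_fin_two]
    simp only [Matrix.sub_apply, Matrix.smul_apply, Matrix.one_apply, smul_eq_mul]
    simp
    linear_combination hαβ + hAd' + β * hAB + (β ^ 2) * hBd' + (α * β) * hBt - α * hAt -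
      (β * B.val 0 0 + β * B.val 1 1) * hAt
  obtain ⟨v, hv, hNv⟩ := Matrix.exists_mulVec_eq_zero_iff.2 hNd
  have hAv' : A.val *ᵥ v = α • v + β • (B.val *ᵥ v) := by
    rw [hN, Matrix.sub_mulVec, Matrix.sub_mulVec, Matrix.smul_mulVec, Matrix.smul_mulVec, Matrix.one_mulVec,
      sub_sub, sub_eq_zero] at hNv
    exact hNv
  have hind : ∀ x y : F, x • v + y • (B.val *ᵥ v) = 0 → x = 0 ∧ y = 0 := by
    intro x y h
    by_cases hy : y = 0
    · rw [hy, zero_smul, add_zero, smul_eq_zero] at h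
      exact ⟨h.resolve_right hv, hy⟩
    exfalso
    obtain ⟨μ, hμ⟩ : ∃ μ : F, B.val *ᵥ v = μ • v := ⟨-x / y, by
      rw [neg_div, neg_smul, div_eq_inv_mul, mul_smul, ← smul_neg, eq_inv_smul_iff₀ hy, ← add_eq_zero_iff_eq_neg, add_comm]
      exact h⟩
    have h2 : (μ * μ - μ + 1) • v = 0 := by
      have := hB2 v
      rw [hμ, Matrix.mulVec_smul, hμ, smul_smul] at this
      rw [add_smul, sub_smul, this, one_smul]
      abel
    have e1 : μ * μ - μ + 1 = 0 := (smul_eq_zero.1 h2).resolve_right hv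
    obtain ⟨l, hl⟩ : ∃ l : F, A.val *ᵥ v = l • v := ⟨α + β * μ, by rw [hAv', hμ, smul_smul, ← add_smul]⟩
    have h3 : (l * l + c⁻¹) • v = 0 := by
      have := congrArg (fun M : Matrix (Fin 2) (Fin 2) F => M *ᵥ v) (ch_two A.val)
      simp only [← Matrix.mulVec_mulVec, hl, Matrix.mulVec_smul, smul_smul, Matrix.trace_fin_two, hAt, zero_smul,
        hAd, zero_sub, Matrix.neg_mulVec, Matrix.smul_mulVec, Matrix.one_mulVec] at this
      rw [add_smul, this, neg_add_cancel]
    have e2 : l * l + c⁻¹ = 0 := (smul_eq_zero.1 h3).resolve_right hv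
    have h4 : (l * μ + μ * l - l - 1) • v = 0 := by
      have := congrArg (fun M : Matrix (Fin 2) (Fin 2) F => M *ᵥ v) hrel
      simp only [Matrix.add_mulVec, ← Matrix.mulVec_mulVec, hμ, hl, Matrix.mulVec_smul, smul_smul,
        Matrix.one_mulVec] at this
      rw [sub_smul, sub_smul, add_smul, mul_comm l μ] at *
      rw [this, one_smul]
      abel
    have e3 : l * μ + μ * l - l - 1 = 0 := (smul_eq_zero.1 h4).resolve_right hv
    have e4 : c⁻¹ * 3 = 1 := by
      linear_combination (l * μ + μ * l - l + 1) * e3 - (4 * μ * μ - 4 * μ + 1) * e2 + 4 * c⁻¹ * e1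
    field_simp at e4
    exact hc3 e4.symm
  obtain ⟨w, hw⟩ : ∃ w, w = B.val *ᵥ v := ⟨_, rfl⟩
  have hBw : B.val *ᵥ w = w - v := by rw [hw, hB2]
  have hAw : A.val *ᵥ w = (α + β + 1) • v + (-α) • w := by
    have := congrArg (fun M : Matrix (Fin 2) (Fin 2) F => M *ᵥ v) hrel
    simp only [Matrix.add_mulVec, ← Matrix.mulVec_mulVec, Matrix.one_mulVec, hAv', Matrix.mulVec_add,
      Matrix.mulVec_smul, ← hw, hBw] at this
    rw [eq_sub_of_add_eq this]
    module
  rw [← hw] at hAv'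
  let P0 : Matrix (Fin 2) (Fin 2) F := !![v 0, w 0; v 1, w 1]
  have hP0 : P0.det ≠ 0 := by
    intro h0
    obtain ⟨z, hz, hz'⟩ := Matrix.exists_mulVec_eq_zero_iff.2 h0
    obtain ⟨h1, h2⟩ := hind (z 0) (z 1) (by
      rw [← hw]
      funext i
      have := congrFun hz' i
      fin_cases i <;> simp [P0, Matrix.mulVec, dotProduct, Fin.sum_univ_two] at this ⊢ <;> linear_combination this)
    exact hz (funext fun i => by fin_cases i <;> simp [h1, h2])
  let P : GL (Fin 2) F := Matrix.GeneralLinearGroup.mkOfDetNeZero P0 hP0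
  have hnA : (nfA α β).det ≠ 0 := by
    rw [nfA, Matrix.det_fin_two]
    simp
    intro h
    refine inv_ne_zero hc0 ?_
    linear_combination hαβ + h
  have hnB : (nfB F).det ≠ 0 := by rw [nfB, Matrix.det_fin_two]; simp
  refine ⟨Matrix.ProjGenLinGroup.mk P, Matrix.GeneralLinearGroup.mkOfDetNeZero _ hnA,
    Matrix.GeneralLinearGroup.mkOfDetNeZero _ hnB, rfl, rfl, ?_, ?_⟩
  · rw [← map_mul, ← map_inv, ← map_mul, ← hAm]
    congr 1
    rw [mul_inv_eq_iff_eq_mul]
    refine Units.ext ?_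
    ext i j
    have c0 := congrFun hAv' i
    have c1 := congrFun hAw i
    fin_cases i <;> fin_cases j <;>
      simp [P, P0, nfA, Matrix.GeneralLinearGroup.mkOfDetNeZero, Matrix.mul_apply, Fin.sum_univ_two,
        Matrix.mulVec, dotProduct] at c0 c1 ⊢
    · linear_combination -c0
    · linear_combination -c1
    · linear_combination -c0
    · linear_combination -c1
  · rw [← map_mul, ← map_inv, ← map_mul, ← hBm]
    congr 1
    rw [mul_inv_eq_iff_eq_mul]
    refine Units.ext ?_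
    ext i j
    have c0 := congrFun hw i
    have c1 : (B.val *ᵥ w) i = w i - v i := by rw [hw, hB2, ← hw, Pi.sub_apply]
    fin_cases i <;> fin_cases j <;>
      simp [P, P0, nfB, Matrix.GeneralLinearGroup.mkOfDetNeZero, Matrix.mul_apply, Fin.sum_univ_two,
        Matrix.mulVec, dotProduct] at c0 c1 ⊢
    · linear_combination c0
    · linear_combination -c1
    · linear_combination c0
    · linear_combination -c1

/-- The conic has a point in a finite field of odd order. -/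
theorem exists_conic_point {S : Type*} [Field S] [Fintype S] (h2 : (2 : S) ≠ 0) (d : S) :
    ∃ α β : S, d + α ^ 2 + α * β + β ^ 2 + β = 0 := by
  by_cases h3 : (3 : S) = 0
  · exact ⟨-d, -d, by linear_combination d ^ 2 * h3⟩
  have h4 : (4 : S) ≠ 0 := by rw [show (4 : S) = 2 * 2 by norm_num]; exact mul_ne_zero h2 h2
  have h34 : (3 / 4 : S) ≠ 0 := div_ne_zero h3 h4
  obtain ⟨a, b, hab⟩ := FiniteField.exists_root_sum_quadratic
    (f := (Polynomial.X ^ 2 : Polynomial S))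
    (g := Polynomial.C (3 / 4 : S) * Polynomial.X ^ 2 + Polynomial.C 1 * Polynomial.X + Polynomial.C d)
    (Polynomial.degree_X_pow 2) (Polynomial.degree_quadratic h34)
    (FiniteField.odd_card_of_char_ne_two fun h => h2 (by
      haveI := ringChar.of_eq h
      exact CharTwo.two_eq_zero))
  simp at hab
  refine ⟨a - b / 2, b, ?_⟩
  field_simp at hab ⊢
  linear_combination hab

end CfsgLib.Classical22
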