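/-
The maximal subgroups of `PSL_2(q)`, `q` odd: tools.
-/
import Cfsg.Agent.Lib.Classical22.PSLMaxEven
import Cfsg.Agent.Lib.Classical22.PSLPairNormal
import Cfsg.Agent.Lib.Classical.Dickson.Subfield

set_option autoImplicit false

namespace CfsgLib.Classical22

open Matrix Projectivization CfsgLib.Classical CfsgLib.Classical.Dickson
open scoped MatrixGroups LinearAlgebra.Projectivization

variable {F : Type*} [Field F] [Fintype F]

local notation "TT" => Matrix.ProjectiveSpecialLinearGroup.toPGL (n := Fin 2) (R := F)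

theorem conj_mem_range_toPGL (h : Matrix.ProjGenLinGroup (Fin 2) F) (x : ProjectiveSpecialLinearGroup (Fin 2) F) :
    h * TT x * h⁻¹ ∈ (TT).range := by
  obtain ⟨H, rfl⟩ := Matrix.ProjGenLinGroup.mk_surjective h
  obtain ⟨X, rfl⟩ := QuotientGroup.mk_surjective x
  have hdet : (H * SpecialLinearGroup.toGL X * H⁻¹).val.det = 1 := by
    rw [Units.val_mul, Units.val_mul, Matrix.det_mul, Matrix.det_mul, mul_comm, ← mul_assoc, ← Matrix.det_mul,
      ← Units.val_mul, inv_mul_cancel, Units.val_one, Matrix.det_one, one_mul]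
    exact X.2
  refine ⟨QuotientGroup.mk (⟨_, hdet⟩ : SpecialLinearGroup (Fin 2) F), ?_⟩
  refine (congrArg Matrix.ProjGenLinGroup.mk (Units.ext rfl :
    SpecialLinearGroup.toGL (⟨_, hdet⟩ : SpecialLinearGroup (Fin 2) F) =
      H * SpecialLinearGroup.toGL X * H⁻¹)).trans ?_
  rw [map_mul, map_mul, map_inv]
  rfl

theorem card_pull_conj (h : Matrix.ProjGenLinGroup (Fin 2) F) (Y : Subgroup (ProjectiveSpecialLinearGroup (Fin 2) F)) :
    Nat.card (((Y.map TT).map (MulAut.conj h).toMonoidHom).comap TT) = Nat.card Y := by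
  have hle : (Y.map TT).map (MulAut.conj h).toMonoidHom ≤ (TT).range := by
    rintro _ ⟨_, ⟨x, -, rfl⟩, rfl⟩
    exact conj_mem_range_toPGL h x
  rw [Nat.card_congr (Subgroup.equivMapOfInjective _ TT Matrix.ProjectiveSpecialLinearGroup.toPGL_injective).toEquiv,
    Subgroup.map_comap_eq_self hle,
    ← Nat.card_congr (Subgroup.equivMapOfInjective _ _ (MulAut.conj h).injective).toEquiv,
    ← Nat.card_congr (Subgroup.equivMapOfInjective _ TT Matrix.ProjectiveSpecialLinearGroup.toPGL_injective).toEquiv]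

/-- A maximal subgroup inside a conjugate of a maximal subfield group is that group. -/
theorem subfield_type {q : ℕ} (hF : Fintype.card F = q) (hodd : q % 2 = 1)
    {M : Subgroup (ProjectiveSpecialLinearGroup (Fin 2) F)} (hM : IsCoatom M) {L : Type*} [Field L] [Fintype L]
    (σ : L →+* F) {r : ℕ} (hr : r.Prime) (hq : Fintype.card L ^ r = q) (c : Matrix.ProjGenLinGroup (Fin 2) F)
    (hle : ∀ x ∈ M, c * TT x * c⁻¹ ∈ (pglMap σ).range) :
    (r = 2 ∧ Nonempty (M ≃* Matrix.ProjGenLinGroup (Fin 2) L)) ∨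
      (r ≠ 2 ∧ Nonempty (M ≃* ProjectiveSpecialLinearGroup (Fin 2) L)) := by
  obtain ⟨R, hR⟩ : ∃ R, Fintype.card L = R := ⟨_, rfl⟩
  rw [hR] at hq
  have hR1 : 1 < R := hR ▸ Fintype.one_lt_card
  haveI : Finite (Matrix.ProjGenLinGroup (Fin 2) L) := Finite.of_surjective _ Matrix.ProjGenLinGroup.mk_surjective
  obtain ⟨Y, hY⟩ : ∃ Y, Y = ((pglMap σ).range.map (MulAut.conj c⁻¹).toMonoidHom).comap TT := ⟨_, rfl⟩
  obtain ⟨T, hT⟩ : ∃ T, T = (TT).range.comap (pglMap σ) := ⟨_, rfl⟩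
  have hmap : T.map (pglMap σ) = (Y.map TT).map (MulAut.conj c).toMonoidHom := by
    rw [hT, hY, Subgroup.map_comap_eq, Subgroup.map_comap_eq]
    ext g
    constructor
    · rintro ⟨hg1, x, hx⟩
      refine ⟨c⁻¹ * g * c, ⟨?_, ⟨g, hg1, by simp [mul_assoc]⟩⟩, by simp [mul_assoc]⟩
      have := conj_mem_range_toPGL c⁻¹ x
      rwa [hx, inv_inv] at this
    · rintro ⟨y, ⟨⟨x, rfl⟩, g', hg', hgy⟩, rfl⟩
      refine ⟨?_, conj_mem_range_toPGL c x⟩
      change c * TT x * c⁻¹ ∈ (pglMap σ).range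
      rw [← hgy]
      simpa [mul_assoc] using hg'
  obtain ⟨eY⟩ : Nonempty (Y ≃* T) :=
    ⟨(((Subgroup.equivMapOfInjective Y TT Matrix.ProjectiveSpecialLinearGroup.toPGL_injective).trans
      (Subgroup.equivMapOfInjective _ _ (MulAut.conj c).injective)).trans (MulEquiv.subgroupCongr hmap.symm)).trans
        (Subgroup.equivMapOfInjective T _ (pglMap_injective σ)).symm⟩
  have hMY : M ≤ Y := fun x hx => by
    rw [hY]
    exact ⟨c * TT x * c⁻¹, hle x hx, by simp [mul_assoc]⟩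
  have hYtop : Y ≠ ⊤ := fun h => by
    have h1 : Nat.card Y ≤ R * ((R - 1) * (R + 1)) := by
      rw [Nat.card_congr eY.toEquiv, ← card_pgl hR]
      exact Subgroup.card_le_card_group T
    rw [h, Subgroup.card_top] at h1
    have hG := gcd_mul_card_PSL hF
    have hd : Nat.gcd 2 (q - 1) ≤ 2 := Nat.le_of_dvd two_pos (Nat.gcd_dvd_left _ _)
    have h5 : q * ((q - 1) * (q + 1)) ≤ 2 * (R * ((R - 1) * (R + 1))) := hG ▸ Nat.mul_le_mul hd h1
    have h6 : 2 * R ≤ q := (Nat.mul_le_mul_right R hR1).trans (by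
      rw [← hq, ← pow_two]; exact Nat.pow_le_pow_right (by omega) hr.two_le)
    have h7 : (R - 1) * (R + 1) < (q - 1) * (q + 1) := Nat.mul_lt_mul_of_le_of_lt (by omega) (by omega) (by omega)
    have h8 := Nat.mul_lt_mul_of_le_of_lt h6 h7 (by omega)
    rw [mul_assoc] at h8
    omega
  have hMeq : M = Y := hMY.eq_or_lt.resolve_right fun h => hYtop (hM.2 Y h)
  subst hMeq
  by_cases hr2 : r = 2
  · refine Or.inl ⟨hr2, ⟨eY.trans ((MulEquiv.subgroupCongr ?_).trans Subgroup.topEquiv)⟩⟩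
    rw [hT, eq_top_iff]
    intro g _
    exact pgl_le_range_toPGL σ (isSquare_of_even σ hF (Nat.odd_iff.2 hodd) r (hr2 ▸ even_two) (by rw [hR, hq]))
      ⟨g, rfl⟩
  · refine Or.inr ⟨hr2, ?_⟩
    let j := Matrix.ProjectiveSpecialLinearGroup.toPGL (n := Fin 2) (R := L)
    have hjT : j.range ≤ T := by
      rintro _ ⟨x, rfl⟩
      rw [hT]
      exact ⟨pslMap σ x, toPGL_pslMap σ x⟩
    have hTtop : T ≠ ⊤ := fun h => by
      refine Nat.not_even_iff_odd.2 (hr.odd_of_ne_two hr2) (even_of_exists_pgl hF (Nat.odd_iff.2 hodd) r (by rw [hR, hq]) ⟨M, ⟨eY.trans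
        ((MulEquiv.subgroupCongr h).trans Subgroup.topEquiv)⟩⟩)
    have hRodd : R % 2 = 1 := by
      rw [← hq, ← Nat.odd_iff, Nat.odd_pow_iff hr.ne_zero, Nat.odd_iff] at hodd
      exact hodd
    have hP := gcd_mul_card_PSL (F := L) hR
    rw [show Nat.gcd 2 (R - 1) = 2 from Nat.gcd_eq_left (by omega)] at hP
    have hc2 : Nat.card (Matrix.ProjGenLinGroup (Fin 2) L) = 2 * Nat.card j.range := by
      rw [card_pgl hR, ← hP,
        Nat.card_congr (MonoidHom.ofInjective (f := j) Matrix.ProjectiveSpecialLinearGroup.toPGL_injective).toEquiv]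
    have heq : j.range = T := by
      refine Subgroup.eq_of_le_of_card_ge hjT ?_
      obtain ⟨u, hu⟩ := Subgroup.card_dvd_of_le hjT
      have hdvd := Subgroup.card_subgroup_dvd_card T
      rw [hc2, hu, mul_comm 2, Nat.mul_dvd_mul_iff_left Nat.card_pos, Nat.dvd_prime Nat.prime_two] at hdvd
      rcases hdvd with rfl | rfl
      · rw [mul_one] at hu; exact hu.le
      · exact absurd (Subgroup.eq_top_of_card_eq T (by rw [hc2, hu, mul_comm])) hTtop
    exact ⟨eY.trans ((MulEquiv.subgroupCongr heq.symm).trans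
      (MonoidHom.ofInjective Matrix.ProjectiveSpecialLinearGroup.toPGL_injective).symm)⟩

theorem exists_subfield_card (p i j : ℕ) [Fact p.Prime] [CharP F p] (hF : Fintype.card F = p ^ (i * j)) (hi : 0 < i) :
    ∃ S : Subfield F, Nat.card S = p ^ i := by
  haveI : Fintype (GaloisField p i) := Fintype.ofFinite _
  obtain ⟨σ⟩ := exists_hom_of_card_pow (F := F) (K := GaloisField p i) j (by
    rw [← Nat.card_eq_fintype_card, GaloisField.card p i hi.ne', hF, pow_mul])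
  refine ⟨σ.fieldRange, ?_⟩
  rw [← GaloisField.card p i hi.ne']
  exact (Nat.card_congr (Equiv.ofBijective σ.rangeRestrictField
    ⟨fun a b e => σ.injective (congrArg Subtype.val e), σ.rangeRestrictField_bijective.2⟩)).symm

/-- A maximal subgroup in a conjugate of a proper subfield group is a subfield group. -/
theorem subfield_list (p : ℕ) [hp : Fact p.Prime] [CharP F p] {q : ℕ} (hF : Fintype.card F = q) (hodd : q % 2 = 1)
    {M : Subgroup (ProjectiveSpecialLinearGroup (Fin 2) F)} (hM : IsCoatom M) (S : Subfield F) {m : ℕ} (hm : 2 ≤ m)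
    (hS : Nat.card S ^ m = q) (c : Matrix.ProjGenLinGroup (Fin 2) F)
    (hle : ∀ x ∈ M, c * TT x * c⁻¹ ∈ (pglMap S.subtype).range) :
    (∃ (F₀ : Type) (_ : Field F₀) (_ : Fintype F₀), q = Fintype.card F₀ ^ 2 ∧
        Nonempty (M ≃* Matrix.ProjGenLinGroup (Fin 2) F₀)) ∨
    (∃ (F₀ : Type) (_ : Field F₀) (_ : Fintype F₀) (r : ℕ), r.Prime ∧ Odd r ∧ q = Fintype.card F₀ ^ r ∧
        Nonempty (M ≃* ProjectiveSpecialLinearGroup (Fin 2) F₀)) := by
  haveI : Fintype S := Fintype.ofFinite _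
  haveI : CharP S p := (RingHom.charP_iff_charP S.subtype p).2 inferInstance
  obtain ⟨⟨i, hi⟩, -, hi'⟩ := FiniteField.card S p
  simp only [PNat.mk_coe] at hi'
  obtain ⟨r, hr, u, hu⟩ := Nat.exists_prime_and_dvd (show m ≠ 1 by omega)
  have hu0 : u ≠ 0 := fun h => by rw [h, mul_zero] at hu; omega
  haveI : Fintype (GaloisField p (i * u)) := Fintype.ofFinite _
  have hL : Fintype.card (GaloisField p (i * u)) = Nat.card S ^ u := by
    rw [← Nat.card_eq_fintype_card, GaloisField.card p (i * u) (Nat.mul_ne_zero hi.ne' hu0),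
      Nat.card_eq_fintype_card, hi', pow_mul]
  obtain ⟨σ⟩ := exists_hom_of_card_pow (F := F) (K := GaloisField p (i * u)) r (by
    rw [hL, ← pow_mul, mul_comm u, ← hu, hS, hF])
  have hLq : Fintype.card (GaloisField p (i * u)) ^ r = q := by rw [hL, ← pow_mul, mul_comm u, ← hu, hS]
  rcases subfield_type hF hodd hM σ hr hLq c
      (fun x hx => pglMap_range_le σ S (le_fieldRange σ S hL) (hle x hx)) with ⟨rfl, h⟩ | ⟨hr2, h⟩
  · exact Or.inl ⟨_, inferInstance, inferInstance, hLq.symm, h⟩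
  · exact Or.inr ⟨_, inferInstance, inferInstance, r, hr, hr.odd_of_ne_two hr2, hLq.symm, h⟩

/-- A pair generating a group, of given invariant. -/
def PairIn (M : Subgroup (ProjectiveSpecialLinearGroup (Fin 2) F)) (c : F) : Prop :=
  ∃ a b : ProjectiveSpecialLinearGroup (Fin 2) F, a ∈ M ∧ b ∈ M ∧ a ^ 2 = 1 ∧ a ≠ 1 ∧ b ^ 3 = 1 ∧ b ≠ 1 ∧
    HasInv (TT (a * b)) c ∧ M ≤ Subgroup.closure {a, b}

theorem pair_conj_normal {a b : ProjectiveSpecialLinearGroup (Fin 2) F} (ha : a ^ 2 = 1) (ha1 : a ≠ 1)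
    (hb : b ^ 3 = 1) (hb1 : b ≠ 1) {c : F} (hc : HasInv (TT (a * b)) c) (hc0 : c ≠ 0) (hc3 : c ≠ 3) {α β : F}
    (hαβ : c⁻¹ + α ^ 2 + α * β + β ^ 2 + β = 0) :
    ∃ (h : Matrix.ProjGenLinGroup (Fin 2) F) (NA NB : GL (Fin 2) F), NA.val = nfA α β ∧ NB.val = nfB F ∧
      h * Matrix.ProjGenLinGroup.mk NA * h⁻¹ = TT a ∧ h * Matrix.ProjGenLinGroup.mk NB * h⁻¹ = TT b :=
  pair_normal_form (by rw [← map_pow, ha, map_one])
    (fun h => ha1 (Matrix.ProjectiveSpecialLinearGroup.toPGL_injective (h.trans (map_one _).symm)))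
    (by rw [← map_pow, hb, map_one])
    (fun h => hb1 (Matrix.ProjectiveSpecialLinearGroup.toPGL_injective (h.trans (map_one _).symm)))
    (by rwa [← map_mul]) hc0 hc3 hαβ

/-- A generated pair is rational over the subfield of its invariant. -/
theorem pair_rational (h2 : (2 : F) ≠ 0) {M : Subgroup (ProjectiveSpecialLinearGroup (Fin 2) F)} {c : F}
    (hM : PairIn M c) (S : Subfield F) (hcS : c ∈ S) (hc0 : c ≠ 0) (hc3 : c ≠ 3) :
    ∃ h : Matrix.ProjGenLinGroup (Fin 2) F, ∀ x ∈ M, h * TT x * h⁻¹ ∈ (pglMap S.subtype).range := by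
  obtain ⟨a, b, -, -, ha, ha1, hb, hb1, hc, hgen⟩ := hM
  haveI : Fintype S := Fintype.ofFinite _
  obtain ⟨α, β, hαβ⟩ := exists_conic_point (S := S) (fun h => h2 (by simpa [map_ofNat] using congrArg S.subtype h))
    (⟨c, hcS⟩⁻¹ : S)
  have hαβ' := congrArg S.subtype hαβ
  simp only [map_add, map_mul, map_pow, map_inv₀, map_zero, Subfield.subtype_apply] at hαβ'
  obtain ⟨h, NA, NB, hA, hB, e1, e2⟩ := pair_conj_normal ha ha1 hb hb1 hc hc0 hc3 hαβ'
  have hrat : ∀ (N : GL (Fin 2) F) (N₀ : Matrix (Fin 2) (Fin 2) S), N₀.map S.subtype = N.val →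
      Matrix.ProjGenLinGroup.mk N ∈ (pglMap S.subtype).range := by
    intro N N₀ hN
    have hd : N₀.det ≠ 0 := fun h0 => gl_det_ne_zero N (by
      rw [← hN, ← RingHom.mapMatrix_apply, ← RingHom.map_det, h0, map_zero])
    refine ⟨Matrix.ProjGenLinGroup.mk (Matrix.GeneralLinearGroup.mkOfDetNeZero N₀ hd), ?_⟩
    rw [pglMap_mk]
    exact congrArg _ (Units.ext hN)
  refine ⟨h⁻¹, fun x hx => ?_⟩
  have hsub : Subgroup.closure {a, b} ≤
      ((pglMap S.subtype).range.map (MulAut.conj h).toMonoidHom).comap TT := by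
    rw [Subgroup.closure_le]
    rintro y (rfl | rfl)
    · exact ⟨_, hrat NA !![α, α + β + 1; β, -α] (by
        rw [hA, nfA]
        ext i j
        fin_cases i <;> fin_cases j <;> simp), e1⟩
    · exact ⟨_, hrat NB !![0, -1; 1, 1] (by
        rw [hB, nfB]
        ext i j
        fin_cases i <;> fin_cases j <;> simp), e2⟩
  obtain ⟨g, hg, hgx⟩ := hsub (hgen hx)
  rw [← hgx]
  simpa [mul_assoc] using hg

/-- Transport of an overgroup along a pair with the same invariant. -/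
theorem pair_transport (h2 : (2 : F) ≠ 0) {M Y : Subgroup (ProjectiveSpecialLinearGroup (Fin 2) F)}
    (hM : IsCoatom M) {c : F} (hMc : PairIn M c) (hc0 : c ≠ 0) (hc3 : c ≠ 3)
    {a' b' : ProjectiveSpecialLinearGroup (Fin 2) F} (ha'Y : a' ∈ Y) (hb'Y : b' ∈ Y) (ha' : a' ^ 2 = 1)
    (ha1' : a' ≠ 1) (hb' : b' ^ 3 = 1) (hb1' : b' ≠ 1) (hc' : HasInv (TT (a' * b')) c) (hYtop : Y ≠ ⊤) :
    Nat.card Y ≤ Nat.card M := by
  obtain ⟨a, b, -, -, ha, ha1, hb, hb1, hc, hgen⟩ := hMc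
  obtain ⟨α, β, hαβ⟩ := exists_conic_point h2 c⁻¹
  obtain ⟨h₁, NA, NB, hA, hB, e1, e2⟩ := pair_conj_normal ha ha1 hb hb1 hc hc0 hc3 hαβ
  obtain ⟨h₂, NA', NB', hA', hB', e1', e2'⟩ := pair_conj_normal ha' ha1' hb' hb1' hc' hc0 hc3 hαβ
  obtain rfl : NA' = NA := Units.ext (hA'.trans hA.symm)
  obtain rfl : NB' = NB := Units.ext (hB'.trans hB.symm)
  obtain ⟨Z, hZ⟩ : ∃ Z, Z = ((Y.map TT).map (MulAut.conj (h₁ * h₂⁻¹)).toMonoidHom).comap TT := ⟨_, rfl⟩
  have hcard : Nat.card Z = Nat.card Y := hZ ▸ card_pull_conj _ Y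
  have hMZ : M ≤ Z := hgen.trans (by
    rw [hZ, Subgroup.closure_le]
    rintro y (rfl | rfl)
    · exact ⟨TT a', ⟨a', ha'Y, rfl⟩, by rw [← e1', ← e1]; simp [mul_assoc]⟩
    · exact ⟨TT b', ⟨b', hb'Y, rfl⟩, by rw [← e2', ← e2]; simp [mul_assoc]⟩)
  have hZtop : Z ≠ ⊤ := fun h => hYtop (Subgroup.eq_top_of_card_eq Y (by rw [← hcard, h, Subgroup.card_top]))
  rw [hMZ.eq_or_lt.resolve_right fun h => hZtop (hM.2 Z h), hcard]

end CfsgLib.Classical22
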