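/-
Generating pairs and small dihedral subgroups in `A_4`, `S_4`, `A_5`.
-/
import Mathlib

set_option autoImplicit false

namespace CfsgLib.Classical22

open Equiv

/-- One step of the enumeration of a generated subgroup. -/
def gstep {T : Type*} [Group T] [DecidableEq T] (a b : T) (s : Finset T) : Finset T :=
  s ∪ s.image (· * a) ∪ s.image (· * b)

/-- The elements reached in `n` steps. -/
def gwords {T : Type*} [Group T] [DecidableEq T] (a b : T) : ℕ → Finset T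
  | 0 => {1}
  | n + 1 => gstep a b (gwords a b n)

theorem closure_eq_top_of_words {T : Type*} [Group T] [DecidableEq T] [Fintype T] (a b : T) (n : ℕ)
    (h : gwords a b n = Finset.univ) : Subgroup.closure ({a, b} : Set T) = ⊤ := by
  have key : ∀ m, ∀ x ∈ gwords a b m, x ∈ Subgroup.closure ({a, b} : Set T) := by
    intro m
    induction m with
    | zero => simp [gwords]
    | succ m ih =>
      intro x hx
      simp only [gwords, gstep, Finset.mem_union, Finset.mem_image] at hx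
      rcases hx with (hx | ⟨y, hy, rfl⟩) | ⟨y, hy, rfl⟩
      · exact ih x hx
      · exact mul_mem (ih y hy) (Subgroup.subset_closure (by simp))
      · exact mul_mem (ih y hy) (Subgroup.subset_closure (by simp))
  exact eq_top_iff.2 fun x _ => key n x (h ▸ Finset.mem_univ x)

theorem pair_alt_four : ∃ a b : alternatingGroup (Fin 4), a ^ 2 = 1 ∧ a ≠ 1 ∧ b ^ 3 = 1 ∧ b ≠ 1 ∧
    (a * b) ^ 3 = 1 ∧ a * b ≠ 1 ∧ Subgroup.closure ({a, b} : Set (alternatingGroup (Fin 4))) = ⊤ := by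
  refine ⟨⟨swap 0 1 * swap 2 3, Equiv.Perm.mem_alternatingGroup.2 (by decide)⟩,
    ⟨swap 0 1 * swap 1 2, Equiv.Perm.mem_alternatingGroup.2 (by decide)⟩, ?_, ?_, ?_, ?_, ?_, ?_,
    closure_eq_top_of_words _ _ 6 ?_⟩
  all_goals decide +kernel

theorem pair_perm_four : ∃ a b : Perm (Fin 4), a ^ 2 = 1 ∧ a ≠ 1 ∧ b ^ 3 = 1 ∧ b ≠ 1 ∧
    (a * b) ^ 4 = 1 ∧ (a * b) ^ 2 ≠ 1 ∧ Subgroup.closure ({a, b} : Set (Perm (Fin 4))) = ⊤ := by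
  refine ⟨swap 0 1, swap 1 2 * swap 2 3, ?_, ?_, ?_, ?_, ?_, ?_, closure_eq_top_of_words _ _ 9 ?_⟩
  all_goals decide +kernel

theorem pair_alt_five : ∃ a b : alternatingGroup (Fin 5), a ^ 2 = 1 ∧ a ≠ 1 ∧ b ^ 3 = 1 ∧ b ≠ 1 ∧
    (a * b) ^ 5 = 1 ∧ a * b ≠ 1 ∧ Subgroup.closure ({a, b} : Set (alternatingGroup (Fin 5))) = ⊤ := by
  refine ⟨⟨swap 0 1 * swap 2 3, Equiv.Perm.mem_alternatingGroup.2 (by decide)⟩,
    ⟨swap 0 2 * swap 2 4, Equiv.Perm.mem_alternatingGroup.2 (by decide)⟩, ?_, ?_, ?_, ?_, ?_, ?_,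
    closure_eq_top_of_words _ _ 12 ?_⟩
  all_goals decide +kernel

theorem four_in_perm_four : ∃ a b : Perm (Fin 4), a ^ 2 = 1 ∧ a ≠ 1 ∧ b ^ 3 = 1 ∧ b ≠ 1 ∧
    (a * b) ^ 3 = 1 ∧ a * b ≠ 1 := ⟨swap 0 1 * swap 2 3, swap 0 1 * swap 1 2, by decide +kernel⟩

theorem four_in_alt_five : ∃ a b : alternatingGroup (Fin 5), a ^ 2 = 1 ∧ a ≠ 1 ∧ b ^ 3 = 1 ∧ b ≠ 1 ∧
    (a * b) ^ 3 = 1 ∧ a * b ≠ 1 :=
  ⟨⟨swap 0 1 * swap 2 3, Equiv.Perm.mem_alternatingGroup.2 (by decide)⟩,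
    ⟨swap 0 1 * swap 1 2, Equiv.Perm.mem_alternatingGroup.2 (by decide)⟩, by decide +kernel⟩

theorem flip_perm_four_three : ∃ r s : Perm (Fin 4), r ^ 3 = 1 ∧ r ≠ 1 ∧ s * s = 1 ∧ s * r * s = r⁻¹ ∧
    s ≠ 1 ∧ s ≠ r ∧ s ≠ r ^ 2 :=
  ⟨swap 0 1 * swap 1 2, swap 0 1, by decide +kernel⟩

theorem flip_perm_four_four : ∃ r s : Perm (Fin 4), r ^ 4 = 1 ∧ r ^ 2 ≠ 1 ∧ s * s = 1 ∧ s * r * s = r⁻¹ ∧
    s ≠ 1 ∧ s ≠ r ∧ s ≠ r ^ 2 ∧ s ≠ r ^ 3 :=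
  ⟨swap 0 1 * swap 1 2 * swap 2 3, swap 0 2, by decide +kernel⟩

theorem flip_alt_five : ∃ r s : alternatingGroup (Fin 5), r ^ 5 = 1 ∧ r ≠ 1 ∧ s * s = 1 ∧ s * r * s = r⁻¹ ∧
    s ≠ 1 ∧ s ≠ r ∧ s ≠ r ^ 2 ∧ s ≠ r ^ 3 ∧ s ≠ r ^ 4 :=
  ⟨⟨swap 0 1 * swap 1 2 * swap 2 3 * swap 3 4, Equiv.Perm.mem_alternatingGroup.2 (by decide)⟩,
    ⟨swap 0 4 * swap 1 3, Equiv.Perm.mem_alternatingGroup.2 (by decide)⟩, by decide +kernel⟩

end CfsgLib.Classical22
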