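/-
The list of maximal subgroups of `PSL_2(q)`, `q` odd.
-/
import Cfsg.Agent.Lib.Classical22.PSLMaxOdd
import Cfsg.Agent.Lib.Classical22.PSLWitness

set_option autoImplicit false

namespace CfsgLib.Classical22

open Matrix Projectivization CfsgLib.Classical CfsgLib.Classical.Dickson
open scoped MatrixGroups LinearAlgebra.Projectivization

section Sylow

variable {L : Type*} [Field L] [Fintype L] (p : ℕ) [hp : Fact p.Prime] [CharP L p]

theorem card_sylow_psl {R : ℕ} (hL : Fintype.card L = R) (h2 : p ≠ 2)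
    (P : Sylow p (ProjectiveSpecialLinearGroup (Fin 2) L)) :
    Nat.card (P : Subgroup (ProjectiveSpecialLinearGroup (Fin 2) L)) = R := by
  obtain ⟨⟨a, ha0⟩, -, ha⟩ := FiniteField.card L p
  simp only [PNat.mk_coe, hL] at ha
  have hP := gcd_mul_card_PSL (F := L) hL
  have hR1 : 1 < R := hL ▸ Fintype.one_lt_card
  have hnd : ∀ {n : ℕ}, n ∣ 2 → ¬ p ∣ n := fun hn hpn =>
    h2 ((Nat.prime_dvd_prime_iff_eq hp.out Nat.prime_two).1 (hpn.trans hn))
  rw [P.card_eq_multiplicity, ha]
  congr 1
  have h := congrArg (fun n => n.factorization p) hP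
  rw [Nat.factorization_mul (Nat.gcd_pos_of_pos_left _ two_pos).ne' Nat.card_pos.ne',
    Nat.factorization_mul (by omega) (Nat.mul_ne_zero (by omega) (by omega)), Finsupp.add_apply, Finsupp.add_apply,
    Nat.factorization_eq_zero_of_not_dvd (hnd (Nat.gcd_dvd_left 2 (R - 1))), zero_add, ha,
    Nat.Prime.factorization_pow hp.out, Finsupp.single_eq_same,
    Nat.factorization_eq_zero_of_not_dvd (n := (p ^ a - 1) * (p ^ a + 1)) (fun hd => ?_), add_zero] at h
  · exact h
  · have hpa : p ∣ p ^ a := dvd_pow_self p ha0.ne'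
    rcases hp.out.dvd_mul.1 hd with h' | h'
    · have := Nat.dvd_sub hpa h'
      rw [show p ^ a - (p ^ a - 1) = 1 by omega] at this
      exact hp.out.not_dvd_one this
    · exact hp.out.not_dvd_one ((Nat.dvd_add_right hpa).1 h')

theorem card_sylow_pgl {R : ℕ} (hL : Fintype.card L = R)
    (P : Sylow p (Matrix.ProjGenLinGroup (Fin 2) L)) :
    Nat.card (P : Subgroup (Matrix.ProjGenLinGroup (Fin 2) L)) = R := by
  haveI : Finite (Matrix.ProjGenLinGroup (Fin 2) L) := Finite.of_surjective _ Matrix.ProjGenLinGroup.mk_surjective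
  obtain ⟨⟨a, ha0⟩, -, ha⟩ := FiniteField.card L p
  simp only [PNat.mk_coe, hL] at ha
  have hR1 : 1 < R := hL ▸ Fintype.one_lt_card
  rw [P.card_eq_multiplicity, card_pgl hL, ha]
  congr 1
  rw [Nat.factorization_mul (by omega) (Nat.mul_ne_zero (by omega) (by omega)), Finsupp.add_apply,
    Nat.Prime.factorization_pow hp.out, Finsupp.single_eq_same, Nat.factorization_eq_zero_of_not_dvd (n := (p ^ a - 1) * (p ^ a + 1)) (fun hd => ?_),
    add_zero]
  have hpa : p ∣ p ^ a := dvd_pow_self p ha0.ne'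
  rcases hp.out.dvd_mul.1 hd with h' | h'
  · have := Nat.dvd_sub hpa h'
    rw [show p ^ a - (p ^ a - 1) = 1 by omega] at this
    exact hp.out.not_dvd_one this
  · exact hp.out.not_dvd_one ((Nat.dvd_add_right hpa).1 h')

theorem num_sylow_pgl {R : ℕ} (hL : Fintype.card L = R) (h2 : p ≠ 2) :
    Nat.card (Sylow p (Matrix.ProjGenLinGroup (Fin 2) L)) = R + 1 := by
  classical
  haveI : Finite (Matrix.ProjGenLinGroup (Fin 2) L) := Finite.of_surjective _ Matrix.ProjGenLinGroup.mk_surjective
  let j := Matrix.ProjectiveSpecialLinearGroup.toPGL (n := Fin 2) (R := L)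
  have hj : Function.Injective j := Matrix.ProjectiveSpecialLinearGroup.toPGL_injective
  obtain ⟨P₀⟩ : Nonempty (Sylow p (ProjectiveSpecialLinearGroup (Fin 2) L)) := inferInstance
  rw [← P₀.card_eq_index_normalizer.trans (index_normalizer_sylow p hL P₀)]
  have hmult : ∀ P : Sylow p (ProjectiveSpecialLinearGroup (Fin 2) L),
      Nat.card ((P : Subgroup (ProjectiveSpecialLinearGroup (Fin 2) L)).map j) =
        p ^ (Nat.card (Matrix.ProjGenLinGroup (Fin 2) L)).factorization p := by
    intro P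
    obtain ⟨Q⟩ : Nonempty (Sylow p (Matrix.ProjGenLinGroup (Fin 2) L)) := inferInstance
    rw [← Nat.card_congr (Subgroup.equivMapOfInjective _ j hj).toEquiv, card_sylow_psl p hL h2 P,
      ← Q.card_eq_multiplicity, card_sylow_pgl p hL Q]
  refine (Nat.card_congr (Equiv.ofBijective (fun P : Sylow p (ProjectiveSpecialLinearGroup (Fin 2) L) =>
    Sylow.ofCard ((P : Subgroup (ProjectiveSpecialLinearGroup (Fin 2) L)).map j) (hmult P))
      ⟨fun P P' h => ?_, fun Q => ?_⟩)).symm
  · have h' : (P : Subgroup (ProjectiveSpecialLinearGroup (Fin 2) L)).map j =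
        (P' : Subgroup (ProjectiveSpecialLinearGroup (Fin 2) L)).map j := congrArg Sylow.toSubgroup h
    exact Sylow.ext (Subgroup.map_injective hj h')
  · have hQ : (Q : Subgroup (Matrix.ProjGenLinGroup (Fin 2) L)) ≤ j.range := by
      intro x hx
      obtain ⟨i, hi⟩ := Q.2 ⟨x, hx⟩
      have hxi : x ^ p ^ i = 1 := congrArg Subtype.val hi
      have hjidx : j.range.index ∣ 2 := by
        have h := Subgroup.card_mul_index j.range
        rw [← Nat.card_congr (MonoidHom.ofInjective hj).toEquiv, card_pgl hL, ← gcd_mul_card_PSL (F := L) hL,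
          mul_comm (Nat.gcd 2 _)] at h
        rw [Nat.eq_of_mul_eq_mul_left Nat.card_pos h]
        exact Nat.gcd_dvd_left _ _
      have hsq : x ^ 2 ∈ j.range := by
        haveI : j.range.Normal := by
          rcases (Nat.dvd_prime Nat.prime_two).1 hjidx with h | h
          · rw [Subgroup.index_eq_one.1 h]; infer_instance
          · exact Subgroup.normal_of_index_eq_two h
        obtain ⟨u, hu⟩ := hjidx
        rw [show x ^ 2 = (x ^ j.range.index) ^ u by rw [← pow_mul, ← hu]]
        exact Subgroup.pow_mem _ (Subgroup.pow_index_mem j.range x) u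
      obtain ⟨e, he⟩ : Odd (p ^ i) := (hp.out.odd_of_ne_two h2).pow
      rw [show x = x ^ p ^ i * (x ^ 2) ^ (-(e : ℤ)) by
        rw [he, pow_succ', _root_.zpow_neg, zpow_natCast, ← pow_mul, mul_assoc, mul_inv_cancel, mul_one], hxi, one_mul]
      exact Subgroup.zpow_mem _ hsq _
    have hc : Nat.card ((Q : Subgroup (Matrix.ProjGenLinGroup (Fin 2) L)).comap j) =
        p ^ (Nat.card (ProjectiveSpecialLinearGroup (Fin 2) L)).factorization p := by
      obtain ⟨P⟩ : Nonempty (Sylow p (ProjectiveSpecialLinearGroup (Fin 2) L)) := inferInstance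
      rw [Nat.card_congr (Subgroup.equivMapOfInjective _ j hj).toEquiv, Subgroup.map_comap_eq_self hQ,
        card_sylow_pgl p hL Q, ← P.card_eq_multiplicity, card_sylow_psl p hL h2 P]
    exact ⟨Sylow.ofCard _ hc, Sylow.ext (Subgroup.map_comap_eq_self hQ)⟩

end Sylow

variable {F : Type*} [Field F] [Fintype F]

local notation "TT" => Matrix.ProjectiveSpecialLinearGroup.toPGL (n := Fin 2) (R := F)

theorem pairIn_of_iso {M : Subgroup (ProjectiveSpecialLinearGroup (Fin 2) F)} {G : Type*} [Group G] (e : M ≃* G)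
    {a b : G} (ha : a ^ 2 = 1) (ha1 : a ≠ 1) (hb : b ^ 3 = 1) (hb1 : b ≠ 1)
    (hgen : Subgroup.closure ({a, b} : Set G) = ⊤) {c : F}
    (hc : HasInv (TT ((e.symm (a * b) : M) : ProjectiveSpecialLinearGroup (Fin 2) F)) c) : PairIn M c := by
  obtain ⟨φ, hφ⟩ : ∃ φ : G →* ProjectiveSpecialLinearGroup (Fin 2) F, φ = M.subtype.comp e.symm.toMonoidHom :=
    ⟨_, rfl⟩
  have hi : Function.Injective φ := hφ ▸ M.subtype_injective.comp e.symm.injective
  have hmem : ∀ g, φ g ∈ M := fun g => hφ ▸ (e.symm g).2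
  refine ⟨φ a, φ b, hmem a, hmem b, by rw [← map_pow, ha, map_one], fun h => ha1 (hi (h.trans (map_one φ).symm)),
    by rw [← map_pow, hb, map_one], fun h => hb1 (hi (h.trans (map_one φ).symm)),
    by rw [← map_mul, hφ]; exact hc, fun x hx => ?_⟩
  rw [show ({φ a, φ b} : Set (ProjectiveSpecialLinearGroup (Fin 2) F)) = φ '' {a, b} by rw [Set.image_pair],
    ← MonoidHom.map_closure, hgen]
  exact ⟨e ⟨x, hx⟩, Subgroup.mem_top _, by rw [hφ]; simp⟩

theorem toPGL_pow_eq_one {G : Type*} [Group G] (φ : G →* ProjectiveSpecialLinearGroup (Fin 2) F) {g : G} {n : ℕ}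
    (h : g ^ n = 1) : TT (φ g) ^ n = 1 := by rw [← map_pow, ← map_pow, h, map_one, map_one]

theorem toPGL_pow_ne_one {G : Type*} [Group G] (φ : G →* ProjectiveSpecialLinearGroup (Fin 2) F)
    (hφ : Function.Injective φ) {g : G} {n : ℕ} (h : g ^ n ≠ 1) : TT (φ g) ^ n ≠ 1 := fun e => h (hφ (by
  refine Matrix.ProjectiveSpecialLinearGroup.toPGL_injective ?_
  rw [map_pow, map_pow, e, map_one, map_one]))

theorem toPGL_ne_one {G : Type*} [Group G] (φ : G →* ProjectiveSpecialLinearGroup (Fin 2) F)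
    (hφ : Function.Injective φ) {g : G} (h : g ≠ 1) : TT (φ g) ≠ 1 := fun e => h (hφ (by
  refine Matrix.ProjectiveSpecialLinearGroup.toPGL_injective ?_
  rw [e, map_one, map_one]))

/-- An element inverted by an involution gives a dihedral subgroup; conjugacy of Sylow subgroups moves it. -/
theorem dihedral_not_coatom {q : ℕ} (hF : Fintype.card F = q) (h4 : 4 ≤ q)
    {M : Subgroup (ProjectiveSpecialLinearGroup (Fin 2) F)} (hM : IsCoatom M) {k l v : ℕ} [Fact l.Prime]
    (e : M ≃* DihedralGroup k) {G : Type*} [Group G] {Y : Subgroup (ProjectiveSpecialLinearGroup (Fin 2) F)}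
    (eY : Y ≃* G) (hY : 2 * k < Nat.card Y) (hYtop : Y ≠ ⊤) {r s : G} (hr : orderOf r = k) (hs : s * s = 1)
    (hsr : s * r * s = r⁻¹) (hns : s ∉ Subgroup.zpowers r)
    (hv : (Nat.card (ProjectiveSpecialLinearGroup (Fin 2) F)).factorization l = v) (hk0 : 0 < k)
    (hP : k = l ^ v ∨ 2 * k = l ^ v) : False := by
  classical
  haveI : NeZero k := ⟨by omega⟩
  let φ : G →* ProjectiveSpecialLinearGroup (Fin 2) F := Y.subtype.comp eY.symm.toMonoidHom
  have hφ : Function.Injective φ := Y.subtype_injective.comp eY.symm.injective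
  obtain ⟨D, hrD, hsD, hDc, ⟨eD⟩⟩ := exists_dihedral_sub (r := φ r) (s := φ s) hk0
    (by rw [orderOf_injective φ hφ, hr]) (by rw [← map_mul, hs, map_one]) (by rw [← map_mul, ← map_mul, hsr, map_inv])
    (fun h => hns (by
      obtain ⟨i, hi⟩ := h
      exact ⟨i, hφ (by rw [map_zpow]; exact hi)⟩))
  have hDY : D ≤ Y := by
    have hgen : D = Subgroup.closure {φ r, φ s} := by
      refine (Subgroup.eq_of_le_of_card_ge ((Subgroup.closure_le _).2 (by
        rintro x (rfl | rfl) <;> assumption)) ?_).symm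
      have h1 : Subgroup.zpowers (φ r) < Subgroup.closure {φ r, φ s} := by
        refine lt_of_le_of_ne (Subgroup.zpowers_le.2 (Subgroup.subset_closure (by simp))) fun h => hns ?_
        obtain ⟨i, hi⟩ : φ s ∈ Subgroup.zpowers (φ r) := h ▸ Subgroup.subset_closure (by simp)
        exact ⟨i, hφ (by rw [map_zpow]; exact hi)⟩
      obtain ⟨u, hu⟩ := Subgroup.card_dvd_of_le h1.le
      rw [Nat.card_zpowers, orderOf_injective φ hφ, hr] at hu
      rcases (show u = 0 ∨ u = 1 ∨ 2 ≤ u by omega) with rfl | rfl | hu2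
      · have := Nat.card_pos (α := Subgroup.closure {φ r, φ s}); omega
      · exact absurd (Subgroup.eq_of_le_of_card_ge h1.le (by
          rw [Nat.card_zpowers, orderOf_injective φ hφ, hr, hu, mul_one])) h1.ne
      · rw [hDc, hu, mul_comm 2]; exact Nat.mul_le_mul_left k hu2
    rw [hgen, Subgroup.closure_le]
    rintro x (rfl | rfl) <;> exact (eY.symm _).2
  -- normal subgroups of Sylow order
  obtain ⟨P₀, hP₀, hP₀n⟩ : ∃ P₀ : Subgroup (DihedralGroup k), Nat.card P₀ = l ^ v ∧ P₀.Normal := by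
    rcases hP with h | h
    · refine ⟨Subgroup.zpowers (DihedralGroup.r 1), by rw [Nat.card_zpowers, DihedralGroup.orderOf_r_one, h], ?_⟩
      refine Subgroup.normal_of_index_eq_two ?_
      have := Subgroup.card_mul_index (Subgroup.zpowers (DihedralGroup.r (1 : ZMod k)))
      rw [Nat.card_zpowers, DihedralGroup.orderOf_r_one, DihedralGroup.nat_card, mul_comm 2] at this
      exact Nat.eq_of_mul_eq_mul_left hk0 this
    · exact ⟨⊤, by rw [Subgroup.card_top, DihedralGroup.nat_card, h], inferInstance⟩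
  have mk : ∀ (X : Subgroup (ProjectiveSpecialLinearGroup (Fin 2) F)) (f : X ≃* DihedralGroup k),
      ∃ P : Sylow l (ProjectiveSpecialLinearGroup (Fin 2) F),
        (P : Subgroup (ProjectiveSpecialLinearGroup (Fin 2) F)) ≤ X ∧
          X ≤ Subgroup.normalizer ((P : Subgroup (ProjectiveSpecialLinearGroup (Fin 2) F)) : Set _) := by
    intro X f
    obtain ⟨U, hU⟩ : ∃ U, U = (P₀.comap f.toMonoidHom).map X.subtype := ⟨_, rfl⟩
    have hUc : Nat.card U = l ^ (Nat.card (ProjectiveSpecialLinearGroup (Fin 2) F)).factorization l := by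
      rw [hv, ← hP₀, hU, ← Nat.card_congr (Subgroup.equivMapOfInjective _ _ X.subtype_injective).toEquiv]
      exact Nat.card_congr ((f.toEquiv).subtypeEquiv fun x => Iff.rfl)
    refine ⟨Sylow.ofCard U hUc, hU ▸ Subgroup.map_subtype_le _, fun x hx => ?_⟩
    change x ∈ Subgroup.normalizer ((U : Subgroup (ProjectiveSpecialLinearGroup (Fin 2) F)) : Set _)
    have key : ∀ x ∈ X, ∀ z ∈ U, x * z * x⁻¹ ∈ U := by
      intro x hx z hz
      rw [hU] at hz ⊢
      obtain ⟨w, hw, rfl⟩ := hz
      exact ⟨⟨x, hx⟩ * w * ⟨x, hx⟩⁻¹, (hP₀n.comap f.toMonoidHom).conj_mem w hw _, rfl⟩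
    rw [Subgroup.mem_normalizer_iff]
    refine fun z => ⟨key x hx z, fun hz => ?_⟩
    have := key x⁻¹ (inv_mem hx) _ hz
    rwa [inv_inv, show x⁻¹ * (x * z * x⁻¹) * x = z by group] at this
  obtain ⟨P, hPM, hMN⟩ := mk M e
  obtain ⟨Q, hQD, hDN⟩ := mk D eD
  obtain ⟨g, hg⟩ := MulAction.exists_smul_eq (ProjectiveSpecialLinearGroup (Fin 2) F) Q P
  have hMeq : M = Subgroup.normalizer ((P : Subgroup (ProjectiveSpecialLinearGroup (Fin 2) F)) : Set _) :=
    hMN.eq_or_lt.resolve_right fun h => by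
      haveI := (noncomm_of_four_le hF h4).1
      haveI : (P : Subgroup (ProjectiveSpecialLinearGroup (Fin 2) F)).Normal :=
        Subgroup.normalizer_eq_top_iff.1 (hM.2 _ h)
      rcases Subgroup.Normal.eq_bot_or_eq_top (H := (P : Subgroup (ProjectiveSpecialLinearGroup (Fin 2) F)))
        inferInstance with hb | ht
      · have hc := P.card_eq_multiplicity
        rw [hv, hb, Subgroup.card_bot] at hc
        rw [← hc] at hP
        have hk1 : k = 1 := by omega
        subst hk1
        refine not_coatom_of_comm (hF ▸ h4) hM fun x hx y hy => ?_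
        have : ∀ u w : DihedralGroup 1, u * w = w * u := by decide
        exact congrArg Subtype.val (show (⟨x, hx⟩ : M) * ⟨y, hy⟩ = ⟨y, hy⟩ * ⟨x, hx⟩ from
          e.injective (by rw [map_mul, map_mul, this]))
      · exact hM.1 (top_le_iff.1 (ht ▸ hPM))
  obtain ⟨Z, hZ⟩ : ∃ Z, Z = Y.map (MulAut.conj g).toMonoidHom := ⟨_, rfl⟩
  have hZc : Nat.card Z = Nat.card Y := by
    rw [hZ, ← Nat.card_congr (Subgroup.equivMapOfInjective _ _ (MulAut.conj g).injective).toEquiv]
  have hD' : D.map (MulAut.conj g).toMonoidHom = M := by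
    refine Subgroup.eq_of_le_of_card_ge ?_ ?_
    · rw [hMeq]
      rintro _ ⟨d, hd, rfl⟩
      have h1 : d • Q = Q := Sylow.smul_eq_iff_mem_normalizer.2 (hDN hd)
      refine Sylow.smul_eq_iff_mem_normalizer.1 ?_
      change (g * d * g⁻¹) • P = P
      rw [← hg, mul_smul, mul_smul, inv_smul_smul, h1]
    · rw [← Nat.card_congr (Subgroup.equivMapOfInjective _ _ (MulAut.conj g).injective).toEquiv,
        Nat.card_congr e.toEquiv, DihedralGroup.nat_card, hDc]
  have hMZ : M ≤ Z := hD' ▸ hZ ▸ Subgroup.map_mono hDY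
  rcases hMZ.eq_or_lt with h | h
  · rw [← h, Nat.card_congr e.toEquiv, DihedralGroup.nat_card] at hZc
    omega
  · exact hYtop (Subgroup.eq_top_of_card_eq Y (by rw [← hZc, hM.2 Z h, Subgroup.card_top]))

theorem psl_odd_maximal (p : ℕ) [hp : Fact p.Prime] [CharP F p] {q : ℕ} (hF : Fintype.card F = q) (hodd : q % 2 = 1)
    (h5 : 5 ≤ q) (M : Subgroup (ProjectiveSpecialLinearGroup (Fin 2) F)) (hM : IsCoatom M) :
    2 * Nat.card M = q * (q - 1) ∨
    (13 ≤ q ∧ (∃ k : ℕ, 2 * k = q - 1 ∧ Nonempty (M ≃* DihedralGroup k))) ∨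
    (q ≠ 7 ∧ q ≠ 9 ∧ (∃ k : ℕ, 2 * k = q + 1 ∧ Nonempty (M ≃* DihedralGroup k))) ∨
    (∃ (F₀ : Type) (_ : Field F₀) (_ : Fintype F₀), q = Fintype.card F₀ ^ 2 ∧
        Nonempty (M ≃* Matrix.ProjGenLinGroup (Fin 2) F₀)) ∨
    (∃ (F₀ : Type) (_ : Field F₀) (_ : Fintype F₀) (r : ℕ), r.Prime ∧ Odd r ∧ q = Fintype.card F₀ ^ r ∧
        Nonempty (M ≃* ProjectiveSpecialLinearGroup (Fin 2) F₀)) ∨
    ((q % 10 = 1 ∨ q % 10 = 9) ∧ (q = p ∨ (q = p ^ 2 ∧ (p % 10 = 3 ∨ p % 10 = 7))) ∧
        Nonempty (M ≃* alternatingGroup (Fin 5))) ∨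
    (q = p ∧ (p % 8 = 3 ∨ p % 8 = 5) ∧ ¬ (p % 10 = 1 ∨ p % 10 = 9) ∧ Nonempty (M ≃* alternatingGroup (Fin 4))) ∨
    (q = p ∧ (p % 8 = 1 ∨ p % 8 = 7) ∧ Nonempty (M ≃* Equiv.Perm (Fin 4))) := by
  classical
  obtain ⟨⟨j, hj0⟩, -, hj⟩ := FiniteField.card F p
  simp only [PNat.mk_coe, hF] at hj
  have hp2 : p ≠ 2 := by
    rintro rfl
    rw [hj, ← Nat.odd_iff, Nat.odd_pow_iff hj0.ne'] at hodd
    exact Nat.not_odd_iff_even.2 even_two hodd
  have h2 : (2 : F) ≠ 0 := Ring.two_ne_zero (by rw [ringChar.eq F p]; exact hp2)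
  have hd : Nat.gcd 2 (q - 1) = 2 := Nat.gcd_eq_left (by omega)
  have hG := gcd_mul_card_PSL hF
  rw [hd] at hG
  have h4 : 4 ≤ q := by omega
  have hab : ¬ ∀ x y : M, x * y = y * x := fun h => not_coatom_of_comm (hF ▸ h4) hM fun x hx y hy =>
    congrArg Subtype.val (h ⟨x, hx⟩ ⟨y, hy⟩)
  have hMlt : Nat.card M < Nat.card (ProjectiveSpecialLinearGroup (Fin 2) F) := by
    rcases lt_or_eq_of_le (Subgroup.card_le_card_group M) with h | h
    · exact h
    · exact absurd (Subgroup.eq_top_of_card_eq M h) hM.1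
  have hsub : ∀ (c : F) (S : Subfield F) (m : ℕ), PairIn M c → c ∈ S → c ≠ 0 → c ≠ 3 → 2 ≤ m → Nat.card S ^ m = q →
      (∃ (F₀ : Type) (_ : Field F₀) (_ : Fintype F₀), q = Fintype.card F₀ ^ 2 ∧
          Nonempty (M ≃* Matrix.ProjGenLinGroup (Fin 2) F₀)) ∨
      (∃ (F₀ : Type) (_ : Field F₀) (_ : Fintype F₀) (r : ℕ), r.Prime ∧ Odd r ∧ q = Fintype.card F₀ ^ r ∧
          Nonempty (M ≃* ProjectiveSpecialLinearGroup (Fin 2) F₀)) := by
    intro c S m hc hcS h0 h3 hm hS
    obtain ⟨h, hle⟩ := pair_rational h2 hc S hcS h0 h3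
    exact subfield_list p hF hodd hM S hm hS h hle
  rcases dickson_list p hF M with ⟨k, hk, hcase⟩ | ⟨P, N, hN, ⟨e⟩⟩ | ⟨⟨e⟩⟩ | ⟨⟨e⟩⟩ | ⟨⟨e⟩⟩ |
    ⟨L, _, _, m, hm, hcase⟩
  · rcases hcase with ⟨hc, -⟩ | ⟨⟨e⟩⟩
    · haveI := hc
      letI : CommGroup M := IsCyclic.commGroup
      exact absurd mul_comm hab
    rw [hd] at hk
    have hk3 : 3 ≤ k := by
      by_contra hlt
      refine hab fun x y => e.injective ?_
      rw [map_mul, map_mul]
      rcases (show k = 0 ∨ k = 1 ∨ k = 2 by omega) with rfl | rfl | rfl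
      · exact absurd hk (by simp only [zero_dvd_iff]; omega)
      · revert x y
        suffices ∀ a b : DihedralGroup 1, a * b = b * a from fun x y => this _ _
        decide
      · revert x y
        suffices ∀ a b : DihedralGroup 2, a * b = b * a from fun x y => this _ _
        decide
    have hkp : k.Coprime p := by
      refine (hp.out.coprime_iff_not_dvd.2 fun hd' => ?_).symm
      have hpq : p ∣ q := hj ▸ dvd_pow_self p hj0.ne'
      rcases hk with h | h
      · exact hp.out.not_dvd_one ((Nat.dvd_add_right hpq).1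
          ((hd'.trans h).trans (Nat.div_dvd_of_dvd (by omega))))
      · have := Nat.dvd_sub hpq ((hd'.trans h).trans (Nat.div_dvd_of_dvd (by omega)))
        rw [show q - (q - 1) = 1 by omega] at this
        exact hp.out.not_dvd_one this
    have hge := dihedral_param p hF h4 hM hk3 hkp e
    rw [hd] at hge
    have hk' : 2 * k = q + 1 ∨ 2 * k = q - 1 := by
      rcases hk with ⟨u, hu⟩ | ⟨u, hu⟩ <;> rcases (show u = 0 ∨ u = 1 ∨ 2 ≤ u by omega) with rfl | rfl | hu2
      · omega
      · omega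
      · have := Nat.mul_le_mul_left k hu2; omega
      · omega
      · omega
      · have := Nat.mul_le_mul_left k hu2; omega
    have hsmall : ∀ {G : Type} [Group G] [Finite G] {Y : Subgroup (ProjectiveSpecialLinearGroup (Fin 2) F)},
        Y ≃* G → Nat.card G < Nat.card (ProjectiveSpecialLinearGroup (Fin 2) F) → Y ≠ ⊤ := fun eY hlt h => by
      rw [← Nat.card_congr eY.toEquiv, h, Subgroup.card_top] at hlt
      exact lt_irrefl _ hlt
    have no4 : k = 4 → q % 8 = 1 ∨ q % 8 = 7 → q ≤ 9 → False := by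
      rintro rfl h8 hq
      haveI : Fact (Nat.Prime 2) := ⟨Nat.prime_two⟩
      obtain ⟨Y, ⟨eY⟩⟩ := exists_sym_four_odd (F := F) h2 (by rw [hF]; exact h8)
      obtain ⟨r, s, hr, hr2, hs, hsr, n0, n1, n2, n3⟩ := flip_perm_four_four
      have hor : orderOf r = 4 := orderOf_eq_prime_pow (p := 2) (n := 1) (by rw [pow_one]; exact hr2) hr
      have hc : Nat.card Y = 24 := by rw [Nat.card_congr eY.toEquiv, Nat.card_perm, Nat.card_fin]; rfl
      refine dihedral_not_coatom (l := 2) (v := 3) hF h4 hM e eY (by rw [hc]; norm_num) (hsmall eY ?_) hor hs hsr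
        (fun h => ?_) ?_ (by norm_num) (Or.inr (by norm_num))
      · rw [Nat.card_perm, Nat.card_fin]
        rcases (show q = 7 ∨ q = 9 by omega) with rfl | rfl <;> norm_num [Nat.factorial] at hG ⊢ <;> omega
      · obtain ⟨i, hi⟩ := Submonoid.mem_powers_iff _ _ |>.1 (mem_powers_iff_mem_zpowers.2 h)
        rw [← pow_mod_orderOf, hor] at hi
        rcases (show i % 4 = 0 ∨ i % 4 = 1 ∨ i % 4 = 2 ∨ i % 4 = 3 by omega) with e | e | e | e <;> rw [e] at hi
        · exact n0 (by rw [← hi, pow_zero])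
        · exact n1 (by rw [← hi, pow_one])
        · exact n2 hi.symm
        · exact n3 hi.symm
      · rcases (show q = 7 ∨ q = 9 by omega) with rfl | rfl
        · have e' : Nat.card (ProjectiveSpecialLinearGroup (Fin 2) F) = 2 ^ 3 * 21 := by norm_num at hG ⊢; omega
          rw [e', Nat.factorization_mul (by norm_num) (by norm_num), Finsupp.add_apply,
            Nat.Prime.factorization_pow Nat.prime_two, Finsupp.single_eq_same,
            Nat.factorization_eq_zero_of_not_dvd (by norm_num)]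
        · have e' : Nat.card (ProjectiveSpecialLinearGroup (Fin 2) F) = 2 ^ 3 * 45 := by norm_num at hG ⊢; omega
          rw [e', Nat.factorization_mul (by norm_num) (by norm_num), Finsupp.add_apply,
            Nat.Prime.factorization_pow Nat.prime_two, Finsupp.single_eq_same,
            Nat.factorization_eq_zero_of_not_dvd (by norm_num)]
    have no3 : k = 3 → q = 7 → False := by
      rintro rfl rfl
      haveI : Fact (Nat.Prime 3) := ⟨Nat.prime_three⟩
      obtain ⟨Y, ⟨eY⟩⟩ := exists_sym_four_odd (F := F) h2 (by rw [hF]; omega)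
      obtain ⟨r, s, hr, hr1, hs, hsr, n0, n1, n2⟩ := flip_perm_four_three
      have hor : orderOf r = 3 := orderOf_eq_prime hr hr1
      have hc : Nat.card Y = 24 := by rw [Nat.card_congr eY.toEquiv, Nat.card_perm, Nat.card_fin]; rfl
      refine dihedral_not_coatom (l := 3) (v := 1) hF h4 hM e eY (by rw [hc]; norm_num) (hsmall eY ?_) hor hs hsr
        (fun h => ?_) ?_ (by norm_num) (Or.inl (by norm_num))
      · rw [Nat.card_perm, Nat.card_fin]
        norm_num [Nat.factorial] at hG ⊢; omega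
      · obtain ⟨i, hi⟩ := Submonoid.mem_powers_iff _ _ |>.1 (mem_powers_iff_mem_zpowers.2 h)
        rw [← pow_mod_orderOf, hor] at hi
        rcases (show i % 3 = 0 ∨ i % 3 = 1 ∨ i % 3 = 2 by omega) with e | e | e <;> rw [e] at hi
        · exact n0 (by rw [← hi, pow_zero])
        · exact n1 (by rw [← hi, pow_one])
        · exact n2 hi.symm
      · have e' : Nat.card (ProjectiveSpecialLinearGroup (Fin 2) F) = 3 ^ 1 * 56 := by norm_num at hG ⊢; omega
        rw [e', Nat.factorization_mul (by norm_num) (by norm_num), Finsupp.add_apply,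
          Nat.Prime.factorization_pow Nat.prime_three, Finsupp.single_eq_same,
          Nat.factorization_eq_zero_of_not_dvd (by norm_num)]
    have no5 : k = 5 → q = 9 ∨ q = 11 → False := by
      rintro rfl hq
      haveI : Fact (Nat.Prime 5) := ⟨by norm_num⟩
      obtain ⟨Y, ⟨eY⟩⟩ := (alt_five_iff (F := F) hF).2 (by rcases hq with rfl | rfl <;> norm_num)
      obtain ⟨r, s, hr, hr1, hs, hsr, n0, n1, n2, n3, n4⟩ := flip_alt_five
      have hor : orderOf r = 5 := orderOf_eq_prime hr hr1
      have hc : Nat.card Y = 60 := by rw [Nat.card_congr eY.toEquiv, nat_card_alternatingGroup, Nat.card_fin]; rfl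
      refine dihedral_not_coatom (l := 5) (v := 1) hF h4 hM e eY (by rw [hc]; norm_num) (hsmall eY ?_) hor hs hsr
        (fun h => ?_) ?_ (by norm_num) (Or.inl (by norm_num))
      · rw [nat_card_alternatingGroup, Nat.card_fin]
        rcases hq with rfl | rfl <;> norm_num [Nat.factorial] at hG ⊢ <;> omega
      · obtain ⟨i, hi⟩ := Submonoid.mem_powers_iff _ _ |>.1 (mem_powers_iff_mem_zpowers.2 h)
        rw [← pow_mod_orderOf, hor] at hi
        rcases (show i % 5 = 0 ∨ i % 5 = 1 ∨ i % 5 = 2 ∨ i % 5 = 3 ∨ i % 5 = 4 by omega) with e | e | e | e | e <;>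
          rw [e] at hi
        · exact n0 (by rw [← hi, pow_zero])
        · exact n1 (by rw [← hi, pow_one])
        · exact n2 hi.symm
        · exact n3 hi.symm
        · exact n4 hi.symm
      · rcases hq with rfl | rfl
        · have e' : Nat.card (ProjectiveSpecialLinearGroup (Fin 2) F) = 5 ^ 1 * 72 := by norm_num at hG ⊢; omega
          rw [e', Nat.factorization_mul (by norm_num) (by norm_num), Finsupp.add_apply,
            Nat.Prime.factorization_pow (by norm_num), Finsupp.single_eq_same,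
            Nat.factorization_eq_zero_of_not_dvd (by norm_num)]
        · have e' : Nat.card (ProjectiveSpecialLinearGroup (Fin 2) F) = 5 ^ 1 * 132 := by norm_num at hG ⊢; omega
          rw [e', Nat.factorization_mul (by norm_num) (by norm_num), Finsupp.add_apply,
            Nat.Prime.factorization_pow (by norm_num), Finsupp.single_eq_same,
            Nat.factorization_eq_zero_of_not_dvd (by norm_num)]
    rcases hk' with hk' | hk'
    · refine Or.inr (Or.inr (Or.inl ⟨fun h => ?_, fun h => ?_, k, hk', ⟨e⟩⟩))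
      · exact no4 (by omega) (by omega) (by omega)
      · exact no5 (by omega) (Or.inl h)
    · by_cases h13 : 13 ≤ q
      · exact Or.inr (Or.inl ⟨h13, k, hk', ⟨e⟩⟩)
      · exfalso
        rcases (show q = 7 ∨ q = 9 ∨ q = 11 by omega) with h | h | h
        · exact no3 (by omega) h
        · exact no4 (by omega) (by omega) (by omega)
        · exact no5 (by omega) (Or.inr h)
  · left
    have := card_of_le_normalizer p hF h4 hM P hN e
    rwa [hd] at this
  · obtain ⟨a, b, ha, ha1, hb, hb1, hab3, hab1, hgen⟩ := pair_alt_four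
    let φ : alternatingGroup (Fin 4) →* ProjectiveSpecialLinearGroup (Fin 2) F := M.subtype.comp e.symm.toMonoidHom
    have hφ : Function.Injective φ := M.subtype_injective.comp e.symm.injective
    have hpair : PairIn M (1 : F) := pairIn_of_iso e ha ha1 hb hb1 hgen
      (inv_of_cube (toPGL_pow_eq_one φ hab3) (toPGL_ne_one φ hφ hab1))
    have h13 : (1 : F) ≠ 3 := fun h => h2 (by linear_combination -h)
    rcases (show j = 1 ∨ 2 ≤ j by omega) with rfl | hj2
    · rw [pow_one] at hj
      subst hj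
      refine Or.inr (Or.inr (Or.inr (Or.inr (Or.inr (Or.inr (Or.inl ⟨rfl, ?_, ?_, ⟨e⟩⟩))))))
      · by_contra hc
        obtain ⟨Y, ⟨eY⟩⟩ := exists_sym_four_odd (F := F) h2 (by rw [hF]; omega)
        obtain ⟨a', b', ha', ha1', hb', hb1', hab', hab1'⟩ := four_in_perm_four
        let ψ : Equiv.Perm (Fin 4) →* ProjectiveSpecialLinearGroup (Fin 2) F := Y.subtype.comp eY.symm.toMonoidHom
        have hψ : Function.Injective ψ := Y.subtype_injective.comp eY.symm.injective
        have h24 : Nat.card Y = 24 := by rw [Nat.card_congr eY.toEquiv, Nat.card_perm, Nat.card_fin]; rfl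
        have := pair_transport h2 hM hpair one_ne_zero h13 (Y := Y) (a' := ψ a') (b' := ψ b') (eY.symm a').2
          (eY.symm b').2 (by rw [← map_pow, ha', map_one]) (fun h => ha1' (hψ (h.trans (map_one ψ).symm)))
          (by rw [← map_pow, hb', map_one]) (fun h => hb1' (hψ (h.trans (map_one ψ).symm)))
          (by rw [← map_mul]; exact inv_of_cube (toPGL_pow_eq_one ψ hab') (toPGL_ne_one ψ hψ hab1'))
          (fun h => by
            rw [h, Subgroup.card_top] at h24
            have := Nat.mul_le_mul (show 7 ≤ q by omega)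
              (Nat.mul_le_mul (show 6 ≤ q - 1 by omega) (show 8 ≤ q + 1 by omega))
            omega)
        rw [h24, Nat.card_congr e.toEquiv, nat_card_alternatingGroup, Nat.card_fin] at this
        exact absurd this (by decide)
      · intro h10
        obtain ⟨Y, ⟨eY⟩⟩ := (alt_five_iff (F := F) hF).2 (by
          refine dvd_mul_of_dvd_right ?_ _
          have : 1 ≤ q ^ 2 := Nat.one_le_pow _ _ (by omega)
          have h1 : q ^ 2 % 5 = 1 := by
            rw [Nat.pow_mod]
            rcases (show q % 5 = 1 ∨ q % 5 = 4 by omega) with h | h <;> rw [h]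
          omega)
        obtain ⟨a', b', ha', ha1', hb', hb1', hab', hab1'⟩ := four_in_alt_five
        let ψ : alternatingGroup (Fin 5) →* ProjectiveSpecialLinearGroup (Fin 2) F :=
          Y.subtype.comp eY.symm.toMonoidHom
        have hψ : Function.Injective ψ := Y.subtype_injective.comp eY.symm.injective
        have h60 : Nat.card Y = 60 := by rw [Nat.card_congr eY.toEquiv, nat_card_alternatingGroup, Nat.card_fin]; rfl
        have := pair_transport h2 hM hpair one_ne_zero h13 (Y := Y) (a' := ψ a') (b' := ψ b') (eY.symm a').2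
          (eY.symm b').2 (by rw [← map_pow, ha', map_one]) (fun h => ha1' (hψ (h.trans (map_one ψ).symm)))
          (by rw [← map_pow, hb', map_one]) (fun h => hb1' (hψ (h.trans (map_one ψ).symm)))
          (by rw [← map_mul]; exact inv_of_cube (toPGL_pow_eq_one ψ hab') (toPGL_ne_one ψ hψ hab1'))
          (fun h => by
            rw [h, Subgroup.card_top] at h60
            have := Nat.mul_le_mul (show 9 ≤ q by omega)
              (Nat.mul_le_mul (show 8 ≤ q - 1 by omega) (show 10 ≤ q + 1 by omega))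
            omega)
        rw [h60, Nat.card_congr e.toEquiv, nat_card_alternatingGroup, Nat.card_fin] at this
        exact absurd this (by decide)
    · obtain ⟨S, hS⟩ := exists_subfield_card (F := F) p 1 j (by rw [one_mul, hF, hj]) one_pos
      rcases hsub 1 S j hpair S.one_mem one_ne_zero h13 hj2 (by rw [hS, pow_one, hj]) with h | h
      · exact Or.inr (Or.inr (Or.inr (Or.inl h)))
      · exact Or.inr (Or.inr (Or.inr (Or.inr (Or.inl h))))
  · have h16 := (sym_four_iff hF).1 ⟨M, ⟨e⟩⟩
    obtain ⟨a, b, ha, ha1, hb, hb1, hab4, hab2, hgen⟩ := pair_perm_four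
    let φ : Equiv.Perm (Fin 4) →* ProjectiveSpecialLinearGroup (Fin 2) F := M.subtype.comp e.symm.toMonoidHom
    have hφ : Function.Injective φ := M.subtype_injective.comp e.symm.injective
    have hpair : PairIn M (2 : F) := pairIn_of_iso e ha ha1 hb hb1 hgen
      (inv_of_four (toPGL_pow_eq_one φ hab4) (toPGL_pow_ne_one φ hφ hab2))
    rcases (show j = 1 ∨ 2 ≤ j by omega) with rfl | hj2
    · rw [pow_one] at hj
      subst hj
      refine Or.inr (Or.inr (Or.inr (Or.inr (Or.inr (Or.inr (Or.inr ⟨rfl, ?_, ⟨e⟩⟩))))))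
      have : q % 16 < 16 := Nat.mod_lt _ (by norm_num)
      rw [Nat.pow_mod] at h16
      interval_cases hr : q % 16 <;> omega
    · obtain ⟨S, hS⟩ := exists_subfield_card (F := F) p 1 j (by rw [one_mul, hF, hj]) one_pos
      rcases hsub 2 S j hpair (by rw [← one_add_one_eq_two]; exact S.add_mem S.one_mem S.one_mem) h2
          (fun h => one_ne_zero (by linear_combination -h : (1 : F) = 0)) hj2 (by rw [hS, pow_one, hj]) with h | h
      · exact Or.inr (Or.inr (Or.inr (Or.inl h)))
      · exact Or.inr (Or.inr (Or.inr (Or.inr (Or.inl h))))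
  · have h5' := (alt_five_iff hF).1 ⟨M, ⟨e⟩⟩
    have hMc : Nat.card M = 60 := by rw [Nat.card_congr e.toEquiv, nat_card_alternatingGroup, Nat.card_fin]; rfl
    have hcases : q % 5 = 0 ∨ q % 5 = 1 ∨ q % 5 = 4 := by
      rcases (Nat.Prime.dvd_mul (by norm_num : Nat.Prime 5)).1 h5' with h | h
      · omega
      · have h1 : 1 ≤ q ^ 2 := Nat.one_le_pow _ _ (by omega)
        have h6 : q ^ 2 % 5 = 1 := by omega
        rw [Nat.pow_mod] at h6
        have : q % 5 < 5 := Nat.mod_lt _ (by norm_num)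
        interval_cases hr : q % 5 <;> omega
    obtain ⟨a, b, ha, ha1, hb, hb1, hab5, hab1, hgen⟩ := pair_alt_five
    let φ : alternatingGroup (Fin 5) →* ProjectiveSpecialLinearGroup (Fin 2) F := M.subtype.comp e.symm.toMonoidHom
    have hφ : Function.Injective φ := M.subtype_injective.comp e.symm.injective
    obtain ⟨c, hc, hcinv⟩ := inv_of_five (toPGL_pow_eq_one φ hab5)
      (toPGL_ne_one φ hφ hab1)
    have hpair : PairIn M c := pairIn_of_iso e ha ha1 hb hb1 hgen hcinv
    have hc0 : c ≠ 0 := fun h => one_ne_zero (by rw [← hc, h]; ring : (1 : F) = 0)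
    have hc3 : c ≠ 3 := fun h => one_ne_zero (by rw [← hc, h]; ring : (1 : F) = 0)
    have hroot : ∀ (i u : ℕ), 0 < i → i * u = j → 5 ∣ p ^ i * ((p ^ i) ^ 2 - 1) →
        ∃ S : Subfield F, Nat.card S = p ^ i ∧ c ∈ S := by
      intro i u hi hiu h5i
      obtain ⟨S, hS⟩ := exists_subfield_card (F := F) p i u (by rw [hiu, hF, hj]) hi
      haveI : Fintype S := Fintype.ofFinite _
      refine ⟨S, hS, ?_⟩
      have hcS : Fintype.card S = p ^ i := by rw [← Nat.card_eq_fintype_card, hS]
      obtain ⟨t, ht⟩ := exists_trace_order_five (F := S)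
        (fun h => h2 (by simpa [map_ofNat] using congrArg S.subtype h)) (by
          rw [card_SL_two hcS]
          convert h5i using 2
          rw [mul_comm, ← Nat.sq_sub_sq, one_pow])
      have ht' := congrArg S.subtype ht
      simp only [map_add, map_sub, map_mul, map_one, map_zero, Subfield.subtype_apply] at ht'
      have hprod : (c - (t : F) * t) * (c - (3 - (t : F) * t)) = 0 := by
        linear_combination hc - ((t : F) * t - t - 1) * ht'
      rcases mul_eq_zero.1 hprod with h | h <;> rw [sub_eq_zero.1 h]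
      · exact S.mul_mem t.2 t.2
      · refine S.sub_mem ?_ (S.mul_mem t.2 t.2)
        rw [show (3 : F) = 1 + 1 + 1 by norm_num]
        exact S.add_mem (S.add_mem S.one_mem S.one_mem) S.one_mem
    have fin : ∀ (i u : ℕ), 0 < i → 2 ≤ u → i * u = j → 5 ∣ p ^ i * ((p ^ i) ^ 2 - 1) →
        (∃ (F₀ : Type) (_ : Field F₀) (_ : Fintype F₀), q = Fintype.card F₀ ^ 2 ∧
            Nonempty (M ≃* Matrix.ProjGenLinGroup (Fin 2) F₀)) ∨
        (∃ (F₀ : Type) (_ : Field F₀) (_ : Fintype F₀) (r : ℕ), r.Prime ∧ Odd r ∧ q = Fintype.card F₀ ^ r ∧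
            Nonempty (M ≃* ProjectiveSpecialLinearGroup (Fin 2) F₀)) := by
      intro i u hi hu hiu h5i
      obtain ⟨S, hS, hcS⟩ := hroot i u hi hiu h5i
      exact hsub c S u hpair hcS hc0 hc3 hu (by rw [hS, ← pow_mul, hiu, hj])
    have hdone : ∀ {P Q : Prop}, (P ∨ Q) → ∀ {A B C D E G : Prop}, A ∨ B ∨ C ∨ P ∨ Q ∨ D ∨ E ∨ G := by
      intro P Q h A B C D E G
      rcases h with h | h
      · exact Or.inr (Or.inr (Or.inr (Or.inl h)))
      · exact Or.inr (Or.inr (Or.inr (Or.inr (Or.inl h))))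
    have hp5 : ∀ n, p ^ n % 5 = 0 → p % 5 = 0 := fun n h =>
      Nat.mod_eq_zero_of_dvd (Nat.Prime.dvd_of_dvd_pow (by norm_num) (Nat.dvd_of_mod_eq_zero h))
    have hp5lt : p % 5 < 5 := Nat.mod_lt _ (by norm_num)
    rcases (show j = 1 ∨ 2 ≤ j by omega) with rfl | hj2
    · rw [pow_one] at hj
      subst hj
      refine Or.inr (Or.inr (Or.inr (Or.inr (Or.inr (Or.inl ⟨?_, Or.inl rfl, ⟨e⟩⟩)))))
      rcases hcases with h | h | h
      · exfalso
        obtain rfl : q = 5 := ((Nat.prime_dvd_prime_iff_eq (by norm_num) hp.out).1 (Nat.dvd_of_mod_eq_zero h)).symm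
        rw [hMc] at hMlt
        have h120 : 2 * Nat.card (ProjectiveSpecialLinearGroup (Fin 2) F) = 120 := hG.trans (by norm_num)
        omega
      · omega
      · omega
    by_cases hpm : p % 5 = 2 ∨ p % 5 = 3
    · obtain ⟨u, rfl⟩ : 2 ∣ j := by
        rcases Nat.even_or_odd j with he | ⟨v, rfl⟩
        · exact even_iff_two_dvd.1 he
        · exfalso
          have h5q : q % 5 = 2 ∨ q % 5 = 3 := by
            have key : (4 : ℕ) ^ v % 5 = 1 ∨ (4 : ℕ) ^ v % 5 = 4 := by
              clear * -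
              induction v with
              | zero => exact Or.inl rfl
              | succ n ih => rw [pow_succ, Nat.mul_mod]; rcases ih with h | h <;> rw [h] <;> simp
            rw [hj, pow_succ, pow_mul, Nat.mul_mod, Nat.pow_mod, show p ^ 2 % 5 = 4 by
              rw [Nat.pow_mod]; rcases hpm with h | h <;> rw [h]]
            rcases key with e | e <;> rw [e] <;> rcases hpm with h | h <;> rw [h] <;> simp
          omega
      rcases (show u = 1 ∨ 2 ≤ u by omega) with rfl | hu
      · refine Or.inr (Or.inr (Or.inr (Or.inr (Or.inr (Or.inl ⟨?_, Or.inr ⟨hj, ?_⟩, ⟨e⟩⟩)))))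
        · have h5q : q % 5 = 4 := by
            rw [hj, Nat.pow_mod]; rcases hpm with h | h <;> rw [h]
          omega
        · have : p % 2 = 1 := Nat.odd_iff.1 (hp.out.odd_of_ne_two hp2)
          omega
      · refine hdone (fin 2 u two_pos hu rfl (dvd_mul_of_dvd_right ?_ _))
        have h1 : (p ^ 2) ^ 2 % 5 = 1 := by
          rw [← pow_mul, Nat.pow_mod]; rcases hpm with h | h <;> rw [h]
        have : 1 ≤ (p ^ 2) ^ 2 := Nat.one_le_pow _ _ (pow_pos hp.out.pos 2)
        omega
    · refine hdone (fin 1 j one_pos hj2 (one_mul j) ?_)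
      rw [pow_one]
      rcases (show p % 5 = 0 ∨ p % 5 = 1 ∨ p % 5 = 4 by omega) with h | h | h
      · exact dvd_mul_of_dvd_left (Nat.dvd_of_mod_eq_zero h) _
      all_goals
        refine dvd_mul_of_dvd_right ?_ _
        have h1 : p ^ 2 % 5 = 1 := by rw [Nat.pow_mod, h]
        have : 1 ≤ p ^ 2 := Nat.one_le_pow _ _ hp.out.pos
        omega
  · obtain ⟨R, hR⟩ : ∃ R, Fintype.card L = R := ⟨_, rfl⟩
    rw [hR] at hm
    obtain ⟨τ⟩ := exists_hom_of_card_pow (F := F) (K := L) m (by rw [hR, hm, hF])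
    haveI : CharP L p := (τ.charP_iff_charP p).2 inferInstance
    have hm0 : m ≠ 0 := fun h => by rw [h, pow_zero] at hm; omega
    have hRodd : R % 2 = 1 := by
      rw [← hm, ← Nat.odd_iff, Nat.odd_pow_iff hm0, Nat.odd_iff] at hodd
      exact hodd
    have hR1 : 1 < R := hR ▸ Fintype.one_lt_card
    have hm2 : 2 ≤ m := by
      rcases (show m = 1 ∨ 2 ≤ m by omega) with rfl | h
      · exfalso
        rw [pow_one] at hm
        subst hm
        rcases hcase with ⟨⟨e⟩⟩ | ⟨⟨e⟩⟩ <;> rw [Nat.card_congr e.toEquiv] at hMlt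
        · rw [Nat.eq_of_mul_eq_mul_left (Nat.gcd_pos_of_pos_left _ two_pos)
            ((gcd_mul_card_PSL hR).trans (gcd_mul_card_PSL hF).symm)] at hMlt
          exact lt_irrefl _ hMlt
        · rw [card_pgl hR] at hMlt
          exact absurd hMlt (not_lt.2 (card_psl_le hF))
      · exact h
    obtain ⟨T, hT⟩ : ∃ T, T = M.map TT := ⟨_, rfl⟩
    let eT : M ≃* T := (Subgroup.equivMapOfInjective M _ Matrix.ProjectiveSpecialLinearGroup.toPGL_injective).trans
      (MulEquiv.subgroupCongr hT.symm)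
    haveI : Finite T := Finite.of_equiv M eT.toEquiv
    obtain ⟨S, c, hS, hle⟩ : ∃ (S : Subfield F) (c : Matrix.ProjGenLinGroup (Fin 2) F), Nat.card S = R ∧
        T.map (MulAut.conj c).toMonoidHom ≤ (pglMap S.subtype).range := by
      rcases hcase with ⟨⟨e⟩⟩ | ⟨⟨e⟩⟩
      · let eLT := e.symm.trans eT
        obtain ⟨P₀⟩ : Nonempty (Sylow p (ProjectiveSpecialLinearGroup (Fin 2) L)) := inferInstance
        have hP := gcd_mul_card_PSL (F := L) hR
        rw [show Nat.gcd 2 (R - 1) = 2 from Nat.gcd_eq_left (by omega)] at hP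
        refine wild_conjugate p T R ((R - 1) / 2) (by omega)
          (fun P => (card_sylow_sub_congr p eLT P₀ P).symm.trans (card_sylow_psl p hR hp2 P₀))
          ((card_sylow_congr p eLT).symm.trans (P₀.card_eq_index_normalizer.trans (index_normalizer_sylow p hR P₀)))
          ?_ (Or.inr (by omega))
        rw [← Nat.card_congr eLT.toEquiv]
        refine Nat.eq_of_mul_eq_mul_left two_pos ?_
        rw [hP, show 2 * (R * (R + 1) * ((R - 1) / 2)) = R * (R + 1) * (2 * ((R - 1) / 2)) by ring,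
          show 2 * ((R - 1) / 2) = R - 1 by omega]
        ring
      · haveI : Finite (Matrix.ProjGenLinGroup (Fin 2) L) :=
          Finite.of_surjective _ Matrix.ProjGenLinGroup.mk_surjective
        let eLT := e.symm.trans eT
        obtain ⟨P₀⟩ : Nonempty (Sylow p (Matrix.ProjGenLinGroup (Fin 2) L)) := inferInstance
        refine wild_conjugate p T R (R - 1) (by omega)
          (fun P => (card_sylow_sub_congr p eLT P₀ P).symm.trans (card_sylow_pgl p hR P₀))
          ((card_sylow_congr p eLT).symm.trans (num_sylow_pgl p hR hp2)) ?_ (Or.inl rfl)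
        rw [← Nat.card_congr eLT.toEquiv, card_pgl hR]
        ring
    rcases subfield_list p hF hodd hM S hm2 (by rw [hS, hm]) c
        (fun x hx => hle ⟨TT x, hT ▸ ⟨x, hx, rfl⟩, rfl⟩) with h | h
    · exact Or.inr (Or.inr (Or.inr (Or.inl h)))
    · exact Or.inr (Or.inr (Or.inr (Or.inr (Or.inl h))))

end CfsgLib.Classical22
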