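/-
Maximality of the subgroups `A_4`, `S_4`, `A_5` of `PSL_2(q)`.
-/
import Cfsg.Agent.Lib.Classical.Dickson.MaxDihedral
import Cfsg.Agent.Lib.Classical.Dickson.SmallSub
import Cfsg.Agent.Lib.Classical.Dickson.MinIndex

set_option autoImplicit false

namespace CfsgLib.Classical22

open Matrix CfsgLib.Classical CfsgLib.Classical.Dickson
open scoped MatrixGroups

/-- A pair whose commutator is a non-trivial involution, and two non-commuting elements of order three. -/
def SmallWitness (T : Type*) [Group T] : Prop :=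
  (∃ a b : T, a * b * a⁻¹ * b⁻¹ ≠ 1 ∧ (a * b * a⁻¹ * b⁻¹) ^ 2 = 1) ∧
    ∃ a b : T, a ^ 3 = 1 ∧ b ^ 3 = 1 ∧ ¬ Commute a b

theorem SmallWitness.of_hom {T U : Type*} [Group T] [Group U] (f : T →* U) (hf : Function.Injective f)
    (h : SmallWitness T) : SmallWitness U := by
  obtain ⟨⟨a, b, h1, h2⟩, ⟨c, d, h3, h4, h5⟩⟩ := h
  refine ⟨⟨f a, f b, fun h => h1 (hf ?_), ?_⟩, ⟨f c, f d, ?_, ?_, fun h => h5 (hf ?_)⟩⟩
  · rw [map_one, map_mul, map_mul, map_mul, map_inv, map_inv, h]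
  · rw [← map_inv, ← map_inv, ← map_mul, ← map_mul, ← map_mul, ← map_pow, h2, map_one]
  · rw [← map_pow, h3, map_one]
  · rw [← map_pow, h4, map_one]
  · rw [map_mul, map_mul]; exact h.eq

theorem smallWitness_alt_four : SmallWitness (alternatingGroup (Fin 4)) := by
  unfold SmallWitness Commute SemiconjBy
  decide +kernel

theorem smallWitness_perm_four : SmallWitness (Equiv.Perm (Fin 4)) :=
  smallWitness_alt_four.of_hom (alternatingGroup (Fin 4)).subtype Subtype.val_injective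

theorem smallWitness_alt_five : SmallWitness (alternatingGroup (Fin 5)) := by
  refine ⟨⟨⟨Equiv.swap 0 1 * Equiv.swap 1 2, Equiv.Perm.mem_alternatingGroup.2 (by decide)⟩, ⟨Equiv.swap 0 1 * Equiv.swap 2 3, Equiv.Perm.mem_alternatingGroup.2 (by decide)⟩, ?_, ?_⟩,
    ⟨⟨Equiv.swap 0 1 * Equiv.swap 1 2, Equiv.Perm.mem_alternatingGroup.2 (by decide)⟩, ⟨Equiv.swap 1 2 * Equiv.swap 2 3, Equiv.Perm.mem_alternatingGroup.2 (by decide)⟩, ?_, ?_, ?_⟩⟩
  all_goals (try unfold Commute SemiconjBy)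
  all_goals decide +kernel

variable {F : Type*} [Field F] [Fintype F]

/-- The criterion for maximality. -/
theorem small_coatom (p : ℕ) [hp : Fact p.Prime] [CharP F p] (hodd : p ≠ 2)
    (H : Subgroup (ProjectiveSpecialLinearGroup (Fin 2) F)) (hW : SmallWitness H)
    (htop : Nat.card H < Nat.card (ProjectiveSpecialLinearGroup (Fin 2) F))
    (hA4 : 12 ≤ Nat.card H)
    (hS4 : (∃ M : Subgroup (ProjectiveSpecialLinearGroup (Fin 2) F), Nonempty (M ≃* Equiv.Perm (Fin 4))) →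
      24 ≤ Nat.card H)
    (hA5 : (∃ M : Subgroup (ProjectiveSpecialLinearGroup (Fin 2) F), Nonempty (M ≃* alternatingGroup (Fin 5)) ∧
      Nat.card M < Nat.card (ProjectiveSpecialLinearGroup (Fin 2) F)) → Nat.card H ∣ 60 → 60 ≤ Nat.card H)
    (hq : Fintype.card F = p ∨ (Fintype.card F = p ^ 2 ∧ ¬ Nat.card H ∣ p * ((p - 1) * (p + 1)))) :
    IsCoatom H := by
  classical
  refine ⟨fun e => by rw [e, Subgroup.card_top] at htop; exact lt_irrefl _ htop, fun M hlt => by_contra fun hM => ?_⟩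
  obtain ⟨q, hF⟩ : ∃ q, Fintype.card F = q := ⟨_, rfl⟩
  have hdvd := Subgroup.card_dvd_of_le hlt.le
  have hstrict : Nat.card H < Nat.card M := lt_of_le_of_ne (Subgroup.card_le_of_le hlt.le) fun h' =>
    hlt.ne (Subgroup.eq_of_le_of_card_ge hlt.le h'.ge)
  have hMlt : Nat.card M < Nat.card (ProjectiveSpecialLinearGroup (Fin 2) F) := by
    rcases lt_or_eq_of_le (Subgroup.card_le_card_group M) with h' | h'
    · exact h'
    · exact absurd (Subgroup.eq_top_of_card_eq M h') hM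
  have hWM : SmallWitness M := hW.of_hom (Subgroup.inclusion hlt.le) (Subgroup.inclusion_injective hlt.le)
  rcases dickson_list p hF M with ⟨k', -, hcase⟩ | ⟨P, N, hN, ⟨e⟩⟩ | ⟨⟨e⟩⟩ | ⟨⟨e⟩⟩ | ⟨⟨e⟩⟩ |
    ⟨L, _, _, m, hm, hcase⟩
  · obtain ⟨-, a, b, ha, hb, hab⟩ := hWM
    refine hab ?_
    rcases hcase with ⟨hc, -⟩ | ⟨⟨e⟩⟩
    · haveI := hc
      letI : CommGroup M := IsCyclic.commGroup
      exact Commute.all a b
    · have hrot : ∀ x : DihedralGroup k', x ^ 3 = 1 → ∃ i, x = DihedralGroup.r i := by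
        intro x hx
        rcases x with i | i
        · exact ⟨i, rfl⟩
        · rw [pow_succ, pow_two, DihedralGroup.sr_mul_self, one_mul, DihedralGroup.one_def] at hx
          cases hx
      obtain ⟨i, hi⟩ := hrot (e a) (by rw [← map_pow, ha, map_one])
      obtain ⟨j, hj⟩ := hrot (e b) (by rw [← map_pow, hb, map_one])
      refine e.injective ?_
      rw [map_mul, map_mul, hi, hj, DihedralGroup.r_mul_r, DihedralGroup.r_mul_r, add_comm]
  · obtain ⟨⟨a, b, hne, hsq⟩, -⟩ := hWM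
    have hc := commutator_mem_sylow p P (hN (e a).2) (hN (e b).2)
    obtain ⟨i, hi⟩ := P.2 ⟨_, hc⟩
    have hi' : (a * b * a⁻¹ * b⁻¹) ^ p ^ i = 1 := e.injective (Subtype.ext (by
      simpa using congrArg Subtype.val hi))
    have hcop : Nat.Coprime 2 (p ^ i) :=
      ((Nat.coprime_primes Nat.prime_two hp.out).2 (Ne.symm hodd)).pow_right i
    exact hne (orderOf_eq_one_iff.1
      (Nat.eq_one_of_dvd_coprimes hcop (orderOf_dvd_of_pow_eq_one hsq) (orderOf_dvd_of_pow_eq_one hi')))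
  · have hMc : Nat.card M = 12 := by rw [Nat.card_congr e.toEquiv, nat_card_alternatingGroup, Nat.card_fin]; rfl
    omega
  · have hMc : Nat.card M = 24 := by rw [Nat.card_congr e.toEquiv, Nat.card_perm, Nat.card_fin]; rfl
    have := hS4 ⟨M, ⟨e⟩⟩
    omega
  · have hMc : Nat.card M = 60 := by rw [Nat.card_congr e.toEquiv, nat_card_alternatingGroup, Nat.card_fin]; rfl
    have := hA5 ⟨M, ⟨e⟩, hMlt⟩ (hMc ▸ hdvd)
    omega
  · have hfull : Fintype.card L = q → False := fun hL => by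
      rcases hcase with ⟨⟨e⟩⟩ | ⟨⟨e⟩⟩ <;> rw [Nat.card_congr e.toEquiv] at hMlt
      · rw [Nat.eq_of_mul_eq_mul_left (Nat.gcd_pos_of_pos_left _ two_pos)
          ((gcd_mul_card_PSL hL).trans (gcd_mul_card_PSL hF).symm)] at hMlt
        exact lt_irrefl _ hMlt
      · rw [card_pgl hL] at hMlt
        exact absurd hMlt (not_lt.2 (card_psl_le hF))
    obtain ⟨τ⟩ := exists_hom_of_card_pow (F := F) (K := L) m (hm.trans hF.symm)
    haveI : CharP L p := (τ.charP_iff_charP p).2 inferInstance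
    obtain ⟨⟨b, hb0⟩, -, hb⟩ := FiniteField.card L p
    simp only [PNat.mk_coe] at hb
    rcases hq with hq | ⟨hq, hnd⟩ <;> rw [hF] at hq
    · have h1 : b * m = 1 := Nat.pow_right_injective hp.out.two_le (by
        simp only; rw [pow_one, pow_mul, ← hb, hm, hq])
      rw [Nat.eq_one_of_mul_eq_one_right h1, pow_one] at hb
      exact hfull (hb.trans hq.symm)
    · have h1 : b * m = 2 := Nat.pow_right_injective hp.out.two_le (by
        simp only; rw [pow_mul, ← hb, hm, hq])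
      rcases (Nat.dvd_prime Nat.prime_two).1 (Dvd.intro _ h1) with rfl | rfl
      · rw [pow_one] at hb
        refine hnd (hdvd.trans ?_)
        rcases hcase with ⟨⟨e⟩⟩ | ⟨⟨e⟩⟩ <;> rw [Nat.card_congr e.toEquiv]
        · exact Dvd.intro_left _ (gcd_mul_card_PSL hb)
        · rw [card_pgl hb]
      · exact hfull (hb.trans hq.symm)

/-- A lower bound for the order of `PSL_2(q)`. -/
theorem card_psl_gt {q : ℕ} (hF : Fintype.card F = q) {B b : ℕ} (hb : b ≤ q) (hB : 2 * B < b * ((b - 1) * (b + 1))) :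
    B < Nat.card (ProjectiveSpecialLinearGroup (Fin 2) F) := by
  have h := gcd_mul_card_PSL hF
  have h2 : Nat.gcd 2 (q - 1) ≤ 2 := Nat.le_of_dvd two_pos (Nat.gcd_dvd_left _ _)
  have h3 := Nat.mul_le_mul hb (Nat.mul_le_mul (show b - 1 ≤ q - 1 by omega) (show b + 1 ≤ q + 1 by omega))
  have h4 := Nat.mul_le_mul_right (Nat.card (ProjectiveSpecialLinearGroup (Fin 2) F)) h2
  omega

end CfsgLib.Classical22
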