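import Mathlib

set_option autoImplicit false

/-!
# Pairings of eight points and Sylow 2-subgroups of `S₈`
-/

namespace CfsgLib.Classical22.Pairing8

open Equiv
open scoped Pointwise

variable {Ω : Type*} [Fintype Ω] [DecidableEq Ω]

/-- The standard pairing. -/
def m0 : Perm (Fin 4 × Fin 2) := Equiv.prodCongr (Equiv.refl _) (swap 0 1)

/-- Label maps of elements preserving the pairing. -/
def lab (g : Perm (Fin 4 × Fin 2)) (i : Fin 4) : Fin 4 := (g (i, 0)).1

theorem lab_apply {g : Perm (Fin 4 × Fin 2)} (hg : g * m0 = m0 * g) (x : Fin 4 × Fin 2) : (g x).1 = lab g x.1 := by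
  obtain ⟨i, e⟩ := x
  fin_cases e
  · rfl
  · have h := congrArg (fun t : Perm (Fin 4 × Fin 2) => (t (i, 0)).1) hg
    simpa [Perm.mul_apply, m0, lab] using h

/-- The permutations respecting the standard pairing. -/
def W0 : Subgroup (Perm (Fin 4 × Fin 2)) := Subgroup.centralizer {m0}

theorem mem_W0 {g : Perm (Fin 4 × Fin 2)} : g ∈ W0 ↔ g * m0 = m0 * g := Subgroup.mem_centralizer_singleton_iff

/-- The induced permutation of the four pairs. -/
def proj : W0 →* Perm (Fin 4) where
  toFun g :=
    { toFun := lab g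
      invFun := lab ((g⁻¹ : W0) : Perm (Fin 4 × Fin 2))
      left_inv := fun i => by
        rw [show lab (g : Perm (Fin 4 × Fin 2)) i = ((g : Perm (Fin 4 × Fin 2)) (i, 0)).1 from rfl,
          ← lab_apply (mem_W0.mp (g⁻¹).2)]
        simp
      right_inv := fun i => by
        rw [show lab ((g⁻¹ : W0) : Perm (Fin 4 × Fin 2)) i = (((g⁻¹ : W0) : Perm (Fin 4 × Fin 2)) (i, 0)).1 from rfl,
          ← lab_apply (mem_W0.mp g.2)]
        simp }
  map_one' := by ext i; rfl
  map_mul' g h := by
    ext i
    exact congrArg Fin.val (lab_apply (mem_W0.mp g.2) _)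

/-- The Klein four-group on the pairs. -/
def klein : Subgroup (Perm (Fin 4)) where
  carrier := {s | s * s = 1 ∧ (s = 1 ∨ ∀ i, s i ≠ i)}
  one_mem' := by simp
  mul_mem' := fun {s t} hs ht => by
    revert s t
    simp only [Set.mem_setOf_eq]
    decide +kernel
  inv_mem' := fun {s} hs => by
    simp only [Set.mem_setOf_eq] at hs ⊢
    rwa [inv_eq_of_mul_eq_one_right hs.1]

instance klein_normal : klein.Normal := ⟨fun s hs k => by
  revert s k
  simp only [klein, Subgroup.mem_mk, Submonoid.mem_mk, Subsemigroup.mem_mk, Set.mem_setOf_eq]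
  decide +kernel⟩

theorem isPGroup_preimage : IsPGroup 2 (klein.comap proj) := fun ⟨g, hg⟩ => by
  refine ⟨2, Subtype.ext (Subtype.ext ?_)⟩
  have h2 : proj (g ^ 2) = 1 := by rw [map_pow, sq]; exact hg.1
  have hfix : ∀ x, ((((g ^ 2 : W0) : Perm (Fin 4 × Fin 2))) x).1 = x.1 := fun x => by
    rw [lab_apply (mem_W0.mp (g ^ 2).2)]
    exact congrArg (fun t : Perm (Fin 4) => t x.1) h2
  generalize hh : (g ^ 2 : W0) = h at hfix
  have hh2 : ∀ x, (h : Perm (Fin 4 × Fin 2)) ((h : Perm (Fin 4 × Fin 2)) x) = x := by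
    rintro ⟨i, e⟩
    obtain ⟨e', he'⟩ : ∃ e', (h : Perm (Fin 4 × Fin 2)) (i, e) = (i, e') :=
      ⟨((h : Perm (Fin 4 × Fin 2)) (i, e)).2, Prod.ext (hfix _) rfl⟩
    rw [he']
    obtain ⟨e'', he''⟩ : ∃ e'', (h : Perm (Fin 4 × Fin 2)) (i, e') = (i, e'') :=
      ⟨((h : Perm (Fin 4 × Fin 2)) (i, e')).2, Prod.ext (hfix _) rfl⟩
    rw [he'']
    refine Prod.ext rfl (?_ : e'' = e)
    rcases eq_or_ne e e' with rfl | hne
    · exact (congrArg Prod.snd (he''.symm.trans he'))
    · have : e'' ≠ e' := fun h' => hne (congrArg Prod.snd ((h : Perm (Fin 4 × Fin 2)).injective (he'.trans (h' ▸ he''.symm))))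
      omega
  refine Equiv.ext fun x => ?_
  simp only [SubmonoidClass.coe_pow, OneMemClass.coe_one, Perm.one_apply]
  rw [show (g : Perm (Fin 4 × Fin 2)) ^ 2 ^ 2 = ((g : Perm (Fin 4 × Fin 2)) ^ 2) * ((g : Perm (Fin 4 × Fin 2)) ^ 2) by rw [← pow_add]; rfl,
    Perm.mul_apply]
  have := hh2 x
  rw [← hh] at this
  exact this

theorem isPGroup_top_card : (Nat.card W0) = 384 := by
  rw [W0, Perm.nat_card_centralizer]
  rw [show m0.cycleType = Multiset.replicate 4 2 by decide]
  rfl

/-- Every Sylow 2-subgroup respects a pairing and contains all its Klein elements. -/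
theorem exists_pairing (h8 : Fintype.card Ω = 8) (H : Sylow 2 (Perm Ω)) :
    ∃ m : Perm Ω, m * m = 1 ∧ (∀ x, m x ≠ x) ∧ ∀ g : Perm Ω, g * m = m * g →
      ((∀ x, g x = x ∨ g x = m x) ∨ (g * g = 1 ∧ ∀ x, g x ≠ x ∧ g x ≠ m x)) → g ∈ (H : Subgroup (Perm Ω)) := by
  haveI : Fact (Nat.Prime 2) := ⟨Nat.prime_two⟩
  let e : Fin 4 × Fin 2 ≃ Ω := Fintype.equivOfCardEq (by simp [h8])
  obtain ⟨P⟩ := Sylow.nonempty (p := 2) (G := W0)
  have hP : Nat.card (P : Subgroup W0) = 128 := by
    rw [P.card_eq_multiplicity, isPGroup_top_card, show (384 : ℕ) = 2 ^ 7 * 3 by norm_num,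
      Nat.factorization_mul (pow_ne_zero 7 two_ne_zero) (by norm_num), Nat.Prime.factorization_pow Nat.prime_two]
    simp [Nat.factorization_eq_zero_of_not_dvd (by norm_num : ¬ 2 ∣ 3), Nat.Prime.factorization_self Nat.prime_two]
  have hKP : klein.comap proj ≤ (P : Subgroup W0) := by
    haveI : (klein.comap proj).Normal := Subgroup.Normal.comap klein_normal proj
    have h := IsPGroup.to_sup_of_normal_left isPGroup_preimage P.isPGroup'
    exact le_sup_left.trans (P.is_maximal' h le_sup_right).le
  let φ : W0 →* Perm Ω := e.permCongrHom.toMonoidHom.comp W0.subtype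
  have hφ : Function.Injective φ := e.permCongrHom.injective.comp W0.subtype_injective
  have hQcard : Nat.card ((P : Subgroup W0).map φ) = 2 ^ (Nat.card (Perm Ω)).factorization 2 := by
    rw [Subgroup.card_map_of_injective hφ, hP, Nat.card_perm, Nat.card_eq_fintype_card, h8,
      show Nat.factorial 8 = 2 ^ 7 * 315 from rfl, Nat.factorization_mul (pow_ne_zero 7 two_ne_zero) (by norm_num), Nat.Prime.factorization_pow Nat.prime_two]
    simp [Nat.factorization_eq_zero_of_not_dvd (by norm_num : ¬ 2 ∣ 315), Nat.Prime.factorization_self Nat.prime_two]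
  obtain ⟨k, hk⟩ := MulAction.exists_smul_eq (Perm Ω) (Sylow.ofCard ((P : Subgroup W0).map φ) hQcard) H
  have hpc : ∀ x, e.permCongrHom m0 (e x) = e (m0 x) := fun x => by simp [Equiv.permCongrHom, Equiv.permCongr_apply]
  refine ⟨k * e.permCongrHom m0 * k⁻¹, ?_, fun x hx => ?_, fun g hg hcase => ?_⟩
  · rw [show k * e.permCongrHom m0 * k⁻¹ * (k * e.permCongrHom m0 * k⁻¹) = k * (e.permCongrHom (m0 * m0)) * k⁻¹ by rw [map_mul]; group,
      show m0 * m0 = 1 by decide, map_one]
    simp
  · obtain ⟨y, hy⟩ : ∃ y, k⁻¹ x = e y := ⟨e.symm (k⁻¹ x), (e.apply_symm_apply _).symm⟩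
    rw [Perm.mul_apply, Perm.mul_apply, hy, hpc] at hx
    have : e (m0 y) = e y := by rw [← hy]; exact k.eq_symm_apply.mpr hx
    exact (by decide : ∀ y, m0 y ≠ y) y (e.injective this)
  obtain ⟨u, hu⟩ : ∃ u : Perm (Fin 4 × Fin 2), k⁻¹ * g * k = e.permCongrHom u :=
    ⟨e.permCongrHom.symm (k⁻¹ * g * k), (e.permCongrHom.apply_symm_apply _).symm⟩
  have hg' : g = k * e.permCongrHom u * k⁻¹ := by rw [← hu]; group
  have happ : ∀ y, g (k (e y)) = k (e (u y)) := fun y => by
    rw [hg']; simp [Equiv.permCongrHom, Equiv.permCongr_apply]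
  have hmapp : ∀ y, (k * e.permCongrHom m0 * k⁻¹) (k (e y)) = k (e (m0 y)) := fun y => by
    simp [hpc]
  have huW : u ∈ W0 := mem_W0.mpr (Equiv.ext fun y => e.injective (k.injective (by
    generalize k * e.permCongrHom m0 * k⁻¹ = mm at hg hmapp
    have h1 := congrArg (fun t : Perm Ω => t (k (e y))) hg
    simp only [Perm.mul_apply] at h1
    rw [hmapp, happ, happ, hmapp] at h1
    exact h1)))
  have hklein : proj ⟨u, huW⟩ ∈ klein := by
    rcases hcase with h | ⟨h2, h⟩
    · have h1 : proj ⟨u, huW⟩ = 1 := Equiv.ext fun i => by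
        change (u (i, 0)).1 = i
        rcases h (k (e (i, 0))) with h' | h' <;> rw [happ] at h'
        · rw [e.injective (k.injective h')]
        · rw [hmapp] at h'; rw [e.injective (k.injective h')]; rfl
      rw [h1]; exact one_mem _
    · refine ⟨?_, Or.inr fun i hi => ?_⟩
      · rw [← map_mul, show (⟨u, huW⟩ : W0) * ⟨u, huW⟩ = 1 from Subtype.ext (Equiv.ext fun y => e.injective (k.injective (by
          rw [Subgroup.coe_mul, Perm.mul_apply, ← happ, ← happ, ← Perm.mul_apply, h2]; rfl))), map_one]
      · change (u (i, 0)).1 = i at hi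
        obtain ⟨h1, h2'⟩ := h (k (e (i, 0)))
        rw [happ] at h1 h2'
        rw [hmapp] at h2'
        rcases Fin.exists_fin_two.mp ⟨(u (i, 0)).2, rfl⟩ with hs | hs
        · exact h1 (congrArg (fun z => k (e z)) (Prod.ext hi hs))
        · exact h2' (congrArg (fun z => k (e z)) (Prod.ext hi hs))
  rw [← hk]
  change g ∈ MulAut.conj k • (Sylow.ofCard ((P : Subgroup W0).map φ) hQcard : Subgroup (Perm Ω))
  rw [Subgroup.mem_pointwise_smul_iff_inv_smul_mem]
  refine ⟨⟨u, huW⟩, hKP hklein, ?_⟩
  change e.permCongrHom u = (MulAut.conj k)⁻¹ g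
  rw [← hu]; simp

/-- Two pairings of eight points have a common Klein element. -/
theorem exists_common (h8 : Fintype.card Ω = 8) {m n : Perm Ω} (hm : m * m = 1) (hmx : ∀ x, m x ≠ x)
    (hn : n * n = 1) (hnx : ∀ x, n x ≠ x) :
    ∃ g : Perm Ω, g ≠ 1 ∧ (g * m = m * g ∧ g * n = n * g) ∧
      (((∀ x, g x = x ∨ g x = m x) ∨ (g * g = 1 ∧ ∀ x, g x ≠ x ∧ g x ≠ m x)) ∧
      ((∀ x, g x = x ∨ g x = n x) ∨ (g * g = 1 ∧ ∀ x, g x ≠ x ∧ g x ≠ n x))) := by
  have hmm : ∀ x, m (m x) = x := fun x => congrArg (fun t : Perm Ω => t x) hm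
  have hnn : ∀ x, n (n x) = x := fun x => congrArg (fun t : Perm Ω => t x) hn
  by_cases hcom : ∃ a, n a = m a
  · obtain ⟨a, ha⟩ := hcom
    have hc : ∀ t : Perm Ω, (∀ x, t (t x) = x) → t a = m a → swap a (m a) * t = t * swap a (m a) := fun t ht hta => by
      rw [← hta, mul_swap_eq_swap_mul, ht, swap_comm (t a) a]
    have hor : ∀ x, swap a (m a) x = x ∨ swap a (m a) x = m x := fun x => by
      rcases eq_or_ne x a with rfl | h1
      · exact Or.inr (swap_apply_left _ _)
      · rcases eq_or_ne x (m a) with rfl | h2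
        · rw [swap_apply_right, hmm]; exact Or.inr rfl
        · exact Or.inl (swap_apply_of_ne_of_ne h1 h2)
    refine ⟨swap a (m a), fun h => hmx a ((swap_apply_left a (m a)).symm.trans (by rw [h]; rfl)), ⟨hc m hmm rfl, hc n hnn ha⟩, Or.inl hor, Or.inl fun x => ?_⟩
    rcases eq_or_ne x a with rfl | h1
    · rw [swap_apply_left, ha]; exact Or.inr rfl
    · rcases eq_or_ne x (m a) with rfl | h2
      · rw [swap_apply_right, ← ha, hnn]; exact Or.inr rfl
      · exact Or.inl (swap_apply_of_ne_of_ne h1 h2)
  simp only [not_exists] at hcom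
  have hr : ∀ {x y}, n (m x) = y → m (n y) = x := fun {x y} h => by rw [← h, hnn, hmm]
  set r := n * m with hrdef
  have hrr : ∀ x, r x = n (m x) := fun x => rfl
  -- eight points a, b, c, d around the cycle
  have hstep : ∀ a, r (r a) = a ∨ (r (r (r (r a))) = a ∧ ∀ x, x = a ∨ x = r a ∨ x = r (r a) ∨ x = r (r (r a)) ∨
      x = m a ∨ x = m (r a) ∨ x = m (r (r a)) ∨ x = m (r (r (r a)))) := by
    intro a
    by_cases h2 : r (r a) = a
    · exact Or.inl h2
    right
    have h1 : ∀ x, r x ≠ x := fun x h => hcom (m x) (by rw [hmm]; exact h)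
    have hm1 : ∀ x, r x ≠ m x := fun x h => hnx (m x) h
    have hm2 : ∀ x, r (r x) ≠ m x := fun x h => by
      refine hmx (r x) ?_
      have e : n (m (r x)) = m x := h
      have := congrArg n e
      rw [hnn] at this
      exact this
    have hm3 : ∀ x, r (r (r x)) ≠ m x := fun x h => by
      refine hnx (m (r x)) ?_
      have e : n (m (r (r x))) = m x := h
      have h' := congrArg n e
      rw [hnn] at h'
      have h'' := congrArg m h'
      rw [hmm] at h''
      exact h''
    have hrm : ∀ x, r (m (r x)) = m x := fun x => by rw [hrr, hmm, hrr, hnn]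
    have h2' : r (r (r a)) ≠ a := by
      intro h3
      -- six points form an invariant set; the other two are a common pair
      let s : Finset Ω := {a, r a, r (r a), m a, m (r a), m (r (r a))}
      obtain ⟨z, -, hz⟩ := Finset.exists_mem_notMem_of_card_lt_card (s := s) (t := Finset.univ)
        (by rw [Finset.card_univ, h8]; exact lt_of_le_of_lt Finset.card_le_six (by norm_num))
      have hinvm : ∀ x, m x ∈ s → x ∈ s := fun x hx => by
        simp only [s, Finset.mem_insert, Finset.mem_singleton] at hx ⊢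
        rcases hx with h | h | h | h | h | h <;> have h' := congrArg m h <;> simp only [hmm] at h' <;> tauto
      have hinvn : ∀ x, n x ∈ s → x ∈ s := fun x hx => by
        simp only [s, Finset.mem_insert, Finset.mem_singleton] at hx ⊢
        rcases hx with h | h | h | h | h | h <;> have h' := congrArg n h <;> rw [hnn] at h'
        · right; right; right; right; right
          rw [h']; refine (n.injective ?_).symm; rw [hnn]; exact h3.symm ▸ rfl
        · right; right; right; left
          rw [h', hrr, hnn]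
        · right; right; right; right; left
          rw [h', hrr (r a), hnn]
        · right; left; rw [h']; rfl
        · right; right; left; rw [h']; rfl
        · left; rw [h']; exact h3
      have hcard : sᶜ.card ≤ 2 := by
        rw [Finset.card_compl, h8]
        have h6 : 6 ≤ s.card := by
          simp only [s]
          rw [Finset.card_insert_of_notMem, Finset.card_insert_of_notMem, Finset.card_insert_of_notMem,
            Finset.card_insert_of_notMem, Finset.card_insert_of_notMem, Finset.card_singleton]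
          all_goals simp only [Finset.mem_insert, Finset.mem_singleton, not_or]
          all_goals refine ?_
          · exact m.injective.ne (h1 (r a)).symm
          · exact ⟨m.injective.ne (h1 a).symm, m.injective.ne (Ne.symm h2)⟩
          · exact ⟨hm2 a, fun e => hm1 (r a) e, fun e => hmx _ e.symm⟩
          · exact ⟨(h1 (r a)).symm, hm1 a, fun e => hmx _ e.symm, fun e => hm1 (r a) (by conv_rhs => rw [e, hmm])⟩
          · exact ⟨(h1 a).symm, Ne.symm h2, fun e => hmx a e.symm, fun e => hm1 a (by conv_rhs => rw [e, hmm]), fun e => hm2 a (by conv_rhs => rw [e, hmm])⟩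
        omega
      have hzz : ∀ t : Perm Ω, (∀ x, t x ∈ s → x ∈ s) → t z ∈ sᶜ := fun t ht => Finset.mem_compl.mpr fun h => hz (ht z h)
      have hsub : ({z, m z, n z} : Finset Ω) ⊆ sᶜ := by
        intro x hx
        simp only [Finset.mem_insert, Finset.mem_singleton] at hx
        rcases hx with rfl | rfl | rfl
        · exact Finset.mem_compl.mpr hz
        · exact hzz m hinvm
        · exact hzz n hinvn
      have h3' := (Finset.card_le_card hsub).trans hcard
      rw [Finset.card_insert_of_notMem (by simp [(hmx z).symm, (hnx z).symm]), Finset.card_pair (Ne.symm (hcom z))] at h3'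
      omega
    let s : Finset Ω := {a, r a, r (r a), r (r (r a)), m a, m (r a), m (r (r a)), m (r (r (r a)))}
    have hs : s = Finset.univ := by
      apply Finset.eq_univ_of_card
      rw [h8]
      simp only [s]
      rw [Finset.card_insert_of_notMem, Finset.card_insert_of_notMem, Finset.card_insert_of_notMem,
        Finset.card_insert_of_notMem, Finset.card_insert_of_notMem, Finset.card_insert_of_notMem,
        Finset.card_insert_of_notMem, Finset.card_singleton]
      all_goals simp only [Finset.mem_insert, Finset.mem_singleton, not_or]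
      · exact m.injective.ne (h1 _).symm
      · exact ⟨m.injective.ne (h1 _).symm, m.injective.ne fun e => h2 (r.injective e.symm)⟩
      · exact ⟨m.injective.ne (h1 _).symm, m.injective.ne (Ne.symm h2), m.injective.ne (Ne.symm h2')⟩
      · exact ⟨hm3 a, hm2 (r a), hm1 (r (r a)), fun e => hmx _ e.symm⟩
      · exact ⟨(h1 _).symm, hm2 a, hm1 (r a), fun e => hmx _ e.symm, fun e => hm1 (r (r a)) (by conv_rhs => rw [e, hmm])⟩
      · exact ⟨(h1 _).symm, fun e => h2 (r.injective e.symm), hm1 a, fun e => hmx _ e.symm,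
          fun e => hm1 (r a) (by conv_rhs => rw [e, hmm]), fun e => hm2 (r a) (by conv_rhs => rw [e, hmm])⟩
      · exact ⟨(h1 _).symm, Ne.symm h2, Ne.symm h2', fun e => hmx a e.symm, fun e => hm1 a (by conv_rhs => rw [e, hmm]),
          fun e => hm2 a (by conv_rhs => rw [e, hmm]), fun e => hm3 a (by conv_rhs => rw [e, hmm])⟩
    have hall : ∀ x, x ∈ s := fun x => hs ▸ Finset.mem_univ x
    simp only [s, Finset.mem_insert, Finset.mem_singleton] at hall
    refine ⟨?_, hall⟩
    rcases hall (r (r (r (r a)))) with h | h | h | h | h | h | h | h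
    · exact h
    · exact absurd (r.injective h) h2'
    · exact absurd (r.injective (r.injective h)) h2
    · exact absurd (r.injective (r.injective (r.injective h))) (h1 a)
    · have e := congrArg m h
      rw [hmm] at e
      have : r (r (r (r a))) ≠ m a := fun e' => by
        have h5 : m (r (r a)) = r (r a) := by
          have e1 := hrm (r (r (r a)))
          have q1 : r (r (m a)) = r (r (r (r (r (r a))))) := by rw [e']
          have : m (r (r a)) = r (r (r (r (r (r a))))) → True := fun _ => trivial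
          have w1 : r (m (r (r (r (r a))))) = m (r (r (r a))) := hrm _
          rw [e', hmm] at w1
          have w2 := congrArg r w1
          rw [hrm] at w2
          exact w2.symm
        exact hmx _ h5
      exact absurd h this
    · exact absurd h (hm3 (r a))
    · exact absurd h (hm2 (r (r a)))
    · exact absurd h (hm1 (r (r (r a))))
  have hconj : ∀ x, m (r x) = r.symm (m x) := fun x => by
    apply r.injective; rw [r.apply_symm_apply, hrr, hmm, hrr, hnn]
  have hnconj : ∀ x, n (r x) = m x := fun x => by rw [hrr, hnn]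
  by_cases hall2 : ∀ a, r (r a) = a
  · have hsym : ∀ x, r.symm x = r x := fun x => r.injective (by rw [r.apply_symm_apply, hall2])
    refine ⟨r, fun h => ?_, ⟨Equiv.ext fun x => ?_, Equiv.ext fun x => ?_⟩,
      Or.inr ⟨Equiv.ext hall2, fun x => ⟨fun h => hcom (m x) (by rw [hmm]; exact h), fun h => hnx (m x) h⟩⟩,
      Or.inr ⟨Equiv.ext hall2, fun x => ⟨fun h => hcom (m x) (by rw [hmm]; exact h), fun h => hmx x (n.injective h)⟩⟩⟩
    · obtain ⟨a⟩ : Nonempty Ω := Fintype.card_pos_iff.mp (by omega)
      exact hcom (m a) (by rw [hmm]; exact congrArg (fun t : Perm Ω => t a) h)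
    · simp only [Perm.mul_apply]; rw [hconj, hsym]
    · simp only [Perm.mul_apply]
      rw [hnconj]
      apply r.injective
      rw [hall2, hrr, hmm]
  simp only [not_forall] at hall2
  obtain ⟨a, ha⟩ := hall2
  obtain ⟨h4, hall⟩ := (hstep a).resolve_left ha
  have hne2 : ∀ x, r (r x) ≠ x := by
    intro x hx
    rcases hall x with rfl | rfl | rfl | rfl | rfl | rfl | rfl | rfl
    · exact ha hx
    · exact ha (r.injective hx)
    · exact ha (r.injective (r.injective hx))
    · exact ha (r.injective (r.injective (r.injective hx)))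
    all_goals
      apply ha
      have e := congrArg m hx
      rw [hmm] at e
      have k1 : ∀ y, m (r y) = r.symm (m y) := hconj
    · have : m (r (r (m a))) = r.symm (r.symm a) := by rw [hconj, hconj, hmm]
      rw [this, Equiv.symm_apply_eq, Equiv.symm_apply_eq] at e; exact e.symm
    · have : m (r (r (m (r a)))) = r.symm (r.symm (r a)) := by rw [hconj, hconj, hmm]
      rw [this, Equiv.symm_apply_eq, Equiv.symm_apply_eq] at e; exact (r.injective e).symm
    · have : m (r (r (m (r (r a))))) = r.symm (r.symm (r (r a))) := by rw [hconj, hconj, hmm]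
      rw [this, Equiv.symm_apply_eq, Equiv.symm_apply_eq] at e; exact (r.injective (r.injective e)).symm
    · have : m (r (r (m (r (r (r a)))))) = r.symm (r.symm (r (r (r a)))) := by rw [hconj, hconj, hmm]
      rw [this, Equiv.symm_apply_eq, Equiv.symm_apply_eq] at e; exact (r.injective (r.injective (r.injective e))).symm
  have h44 : ∀ x, r (r (r (r x))) = x := fun x => ((hstep x).resolve_left (hne2 x)).1
  have hs2 : ∀ x, r.symm (r.symm x) = r (r x) := fun x => r.injective (r.injective (by rw [r.apply_symm_apply, r.apply_symm_apply, h44]))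
  refine ⟨r * r, fun h => hne2 a (congrArg (fun t : Perm Ω => t a) h), ⟨Equiv.ext fun x => ?_, Equiv.ext fun x => ?_⟩,
    Or.inr ⟨Equiv.ext h44, fun x => ⟨hne2 x, ?_⟩⟩, Or.inr ⟨Equiv.ext h44, fun x => ⟨hne2 x, ?_⟩⟩⟩
  · simp only [Perm.mul_apply]; rw [hconj, hconj, hs2]
  · simp only [Perm.mul_apply]
    rw [hnconj (r x), hconj, ← hs2, show r.symm (r.symm (n x)) = r.symm (r.symm (n x)) from rfl]
    congr 1
    apply r.injective
    rw [r.apply_symm_apply, hrr, hmm]
  · intro h
    refine hmx (r x) ?_
    have := congrArg n (show n (m (r x)) = m x from h)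
    rw [hnn] at this
    exact this
  · intro h
    have h' : m (r x) = x := n.injective h
    exact hnx (m x) (show r x = m x by
      have := congrArg m h'
      rwa [hmm] at this)

end CfsgLib.Classical22.Pairing8
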