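/-
Pairs of complementary totally singular subspaces of a hermitian space: elements preserving no pair.
-/
import Cfsg.Agent.Lib.Classical.HermBilin
import Cfsg.Agent.Lib.Classical.HermBasic
import Cfsg.Prelude.Def_GeometricClasses

set_option autoImplicit false

namespace CfsgLib.Classical22.PolarPair

open Module Matrix CfsgLib.Classical

universe u

variable {F : Type u} [Field F] {q n m : ℕ}

/-- A pair of complementary totally singular subspaces of dimension `m`. -/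
structure IsPolar (q m : ℕ) (U W : Submodule F (Fin n → F)) : Prop where
  compl : IsCompl U W
  dim₀ : finrank F U = m
  dim₁ : finrank F W = m
  sing₀ : ∀ u ∈ U, ∀ v ∈ U, Cfsg.hermForm n F q u v = 0
  sing₁ : ∀ u ∈ W, ∀ v ∈ W, Cfsg.hermForm n F q u v = 0

theorem IsPolar.symm {U W : Submodule F (Fin n → F)} (h : IsPolar q m U W) : IsPolar q m W U :=
  ⟨h.compl.symm, h.dim₁, h.dim₀, h.sing₁, h.sing₀⟩

theorem IsPolar.exists_add {U W : Submodule F (Fin n → F)} (h : IsPolar q m U W) (v : Fin n → F) :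
    ∃ a ∈ U, ∃ b ∈ W, v = a + b := by
  obtain ⟨a, ha, b, hb, e⟩ := Submodule.mem_sup.1 (h.compl.sup_eq_top ▸ Submodule.mem_top : v ∈ U ⊔ W)
  exact ⟨a, ha, b, hb, e.symm⟩

theorem IsPolar.ne_zero {U W : Submodule F (Fin n → F)} (h : IsPolar q m U W) {a b : Fin n → F} (ha : a ∈ U) (hb : b ∈ W)
    (e : a = b) : a = 0 :=
  (Submodule.mem_bot F).1 (h.compl.inf_eq_bot ▸ ⟨ha, e ▸ hb⟩)

/-- `x` fixes or interchanges some polar pair. -/
def Preserves (q m : ℕ) (x : Matrix (Fin n) (Fin n) F) : Prop :=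
  ∃ U W, IsPolar q m U W ∧ (((∀ u ∈ U, x *ᵥ u ∈ U) ∧ ∀ w ∈ W, x *ᵥ w ∈ W) ∨ ((∀ u ∈ U, x *ᵥ u ∈ W) ∧ ∀ w ∈ W, x *ᵥ w ∈ U))

theorem polar_of_decomp {D : Fin 2 → Submodule F (Fin n → F)} (hD : Cfsg.Geo.IsMDecomposition m D)
    (hDs : ∀ i, Cfsg.Geo.IsTotallySingularFor (Cfsg.hermForm n F q) (D i)) : IsPolar q m (D 0) (D 1) := by
  refine ⟨⟨?_, ?_⟩, hD.finrank_eq 0, hD.finrank_eq 1, hDs 0, hDs 1⟩
  · have h := hD.indep.pairwiseDisjoint (show (0 : Fin 2) ≠ 1 by decide)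
    exact h
  · rw [codisjoint_iff, ← hD.iSup_eq_top]
    refine le_antisymm (sup_le (le_iSup D 0) (le_iSup D 1)) (iSup_le fun i => ?_)
    fin_cases i
    · exact le_sup_left
    · exact le_sup_right

/-- A conjugate in the stabiliser gives a preserved pair. -/
theorem preserves_of_conj {D : Fin 2 → Submodule F (Fin n → F)} (hD : Cfsg.Geo.IsMDecomposition m D)
    (hDs : ∀ i, Cfsg.Geo.IsTotallySingularFor (Cfsg.hermForm n F q) (D i)) {g x : GL (Fin n) F}
    (hg : g ∈ Cfsg.GU n F q) (h : g⁻¹ * x * g ∈ Cfsg.Geo.decompositionStabilizer D) : Preserves q m x.1 := by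
  obtain ⟨σ, hσ⟩ := h
  obtain ⟨E, hE⟩ : ∃ E : Fin 2 → Submodule F (Fin n → F), ∀ i, E i = (D i).map (Matrix.toLin' g.1) := ⟨_, fun i => rfl⟩
  have hinj : Function.Injective (Matrix.toLin' g.1) := fun a b e => by
    simp only [Matrix.toLin'_apply] at e
    have e' := congrArg ((g⁻¹).1 *ᵥ ·) e
    simpa only [mulVec_mulVec, g.inv_mul, one_mulVec] using e'
  have hsurj : Function.Surjective (Matrix.toLin' g.1) := fun a =>
    ⟨(g⁻¹).1 *ᵥ a, by rw [Matrix.toLin'_apply, mulVec_mulVec, g.mul_inv, one_mulVec]⟩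
  have hP := polar_of_decomp hD hDs
  have hpol : IsPolar q m (E 0) (E 1) := by
    refine ⟨⟨?_, ?_⟩, ?_, ?_, ?_, ?_⟩
    · rw [disjoint_iff, hE, hE, ← Submodule.map_inf _ hinj, hP.compl.inf_eq_bot, Submodule.map_bot]
    · rw [codisjoint_iff, hE, hE, ← Submodule.map_sup, hP.compl.sup_eq_top, Submodule.map_top,
        LinearMap.range_eq_top.2 hsurj]
    · rw [hE, (Submodule.equivMapOfInjective _ hinj (D 0)).symm.finrank_eq, hP.dim₀]
    · rw [hE, (Submodule.equivMapOfInjective _ hinj (D 1)).symm.finrank_eq, hP.dim₁]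
    · rw [hE]; rintro _ ⟨u, hu, rfl⟩ _ ⟨v, hv, rfl⟩
      exact (hg u v).trans (hP.sing₀ u hu v hv)
    · rw [hE]; rintro _ ⟨u, hu, rfl⟩ _ ⟨v, hv, rfl⟩
      exact (hg u v).trans (hP.sing₁ u hu v hv)
  have hmap : ∀ i, ∀ u ∈ E i, x.1 *ᵥ u ∈ E (σ i) := by
    intro i u hu
    rw [hE] at hu ⊢
    obtain ⟨v, hv, rfl⟩ := hu
    refine ⟨(g⁻¹ * x * g).1 *ᵥ v, hσ i ▸ ⟨v, hv, Matrix.toLin'_apply _ _⟩, ?_⟩
    simp only [Matrix.toLin'_apply, mulVec_mulVec, Units.val_mul, ← mul_assoc, g.mul_inv, one_mul]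
  refine ⟨E 0, E 1, hpol, ?_⟩
  rcases (show σ 0 = 0 ∨ σ 0 = 1 by omega) with h0 | h0
  · have h1 : σ 1 = 1 := by
      rcases (show σ 1 = 0 ∨ σ 1 = 1 by omega) with h | h
      · exact absurd (σ.injective (h.trans h0.symm)) (by decide)
      · exact h
    exact Or.inl ⟨fun u hu => by simpa [h0] using hmap 0 u hu, fun u hu => by simpa [h1] using hmap 1 u hu⟩
  · have h1 : σ 1 = 0 := by
      rcases (show σ 1 = 0 ∨ σ 1 = 1 by omega) with h | h
      · exact h
      · exact absurd (σ.injective (h.trans h0.symm)) (by decide)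
    exact Or.inr ⟨fun u hu => by simpa [h0] using hmap 0 u hu, fun u hu => by simpa [h1] using hmap 1 u hu⟩

/-- Odd order modulo scalars excludes interchanging. -/
theorem fixes_of_odd {U W : Submodule F (Fin n → F)} (hP : IsPolar q m U W) (hm : 0 < m) {x : Matrix (Fin n) (Fin n) F}
    {r : ℕ} (hr : Odd r) {z : F} (hz0 : z ≠ 0) (hz : x ^ r = z • 1)
    (h₀ : ∀ u ∈ U, x *ᵥ u ∈ W) (h₁ : ∀ w ∈ W, x *ᵥ w ∈ U) : False := by
  have hn : ∀ k : ℕ, ∀ u ∈ U, if Even k then (x ^ k) *ᵥ u ∈ U else (x ^ k) *ᵥ u ∈ W := by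
    intro k
    induction k with
    | zero => intro u hu; simpa using hu
    | succ k ih =>
      intro u hu
      have h := ih u hu
      rw [pow_succ' x, ← mulVec_mulVec]
      by_cases hk : Even k
      · rw [if_pos hk] at h
        rw [if_neg (Nat.not_even_iff_odd.2 hk.add_one)]
        exact h₀ _ h
      · rw [if_neg hk] at h
        rw [if_pos (Nat.not_even_iff_odd.1 hk).add_one]
        exact h₁ _ h
  obtain ⟨u, hu, hu0⟩ := Submodule.exists_mem_ne_zero_of_ne_bot (p := U) fun h => by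
    have := hP.dim₀; rw [h, finrank_bot] at this; omega
  have h := hn r u hu
  rw [if_neg (Nat.not_even_iff_odd.2 hr), hz, smul_mulVec, one_mulVec] at h
  exact smul_ne_zero hz0 hu0 (hP.ne_zero (U.smul_mem z hu) h rfl)

/-- A simple invariant subspace that splits along a fixed pair is totally singular. -/
theorem fixes_split {U W : Submodule F (Fin n → F)} (hP : IsPolar q m U W) {x : Matrix (Fin n) (Fin n) F}
    (h₀ : ∀ u ∈ U, x *ᵥ u ∈ U) (h₁ : ∀ w ∈ W, x *ᵥ w ∈ W) {Z : Submodule F (Fin n → F)}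
    (hZ : ∀ v ∈ Z, x *ᵥ v ∈ Z) (hsimple : ∀ S ≤ Z, (∀ v ∈ S, x *ᵥ v ∈ S) → S = ⊥ ∨ S = Z)
    (hsplit : ∀ a ∈ U, ∀ b ∈ W, a + b ∈ Z → a ∈ Z) :
    ∀ v ∈ Z, ∀ w ∈ Z, Cfsg.hermForm n F q v w = 0 := by
  rcases hsimple (Z ⊓ U) inf_le_left (fun v hv => ⟨hZ v hv.1, h₀ v hv.2⟩) with h | h
  · have hW : Z ≤ W := by
      intro v hv
      obtain ⟨a, ha, b, hb, rfl⟩ := hP.exists_add v
      have ha0 : a = 0 := (Submodule.mem_bot F).1 (h ▸ ⟨hsplit a ha b hb hv, ha⟩)
      rwa [ha0, zero_add]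
    exact fun v hv w hw => hP.sing₁ v (hW hv) w (hW hw)
  · exact fun v hv w hw => hP.sing₀ v (h.ge hv).2 w (h.ge hw).2

/-- A non-isotropic eigenline excludes fixing a pair. -/
theorem fixes_line {U W : Submodule F (Fin n → F)} (hP : IsPolar q m U W) {x : Matrix (Fin n) (Fin n) F}
    (h₀ : ∀ u ∈ U, x *ᵥ u ∈ U) (h₁ : ∀ w ∈ W, x *ᵥ w ∈ W) {c : F} {v : Fin n → F} (hv : x *ᵥ v = c • v)
    (hone : ∀ w, x *ᵥ w = c • w → ∃ a : F, w = a • v) (hvv : Cfsg.hermForm n F q v v ≠ 0) : False := by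
  have hv0 : v ∈ Submodule.span F {v} := Submodule.mem_span_singleton_self v
  refine hvv (fixes_split hP h₀ h₁ (Z := Submodule.span F {v}) ?_ ?_ ?_ v hv0 v hv0)
  · intro w hw
    obtain ⟨a, rfl⟩ := Submodule.mem_span_singleton.1 hw
    rw [Matrix.mulVec_smul, hv]
    exact Submodule.smul_mem _ _ (Submodule.smul_mem _ _ hv0)
  · intro S hS _
    rcases eq_or_ne S ⊥ with h | h
    · exact Or.inl h
    · obtain ⟨s, hs, hs0⟩ := Submodule.exists_mem_ne_zero_of_ne_bot h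
      obtain ⟨a, rfl⟩ := Submodule.mem_span_singleton.1 (hS hs)
      refine Or.inr (le_antisymm hS ((Submodule.span_singleton_le_iff_mem v S).2 ?_))
      have ha : a ≠ 0 := fun e => hs0 (by rw [e, zero_smul])
      simpa [smul_smul, inv_mul_cancel₀ ha] using S.smul_mem a⁻¹ hs
  · intro a ha b hb hab
    obtain ⟨t, ht⟩ := Submodule.mem_span_singleton.1 hab
    have h1 : x *ᵥ (a + b) = c • (a + b) := by rw [← ht, Matrix.mulVec_smul, hv, smul_comm]
    rw [Matrix.mulVec_add, smul_add] at h1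
    have h2 : x *ᵥ a - c • a = c • b - x *ᵥ b := sub_eq_sub_iff_add_eq_add.2 (h1.trans (add_comm _ _))
    have h3 := hP.ne_zero (U.sub_mem (h₀ a ha) (U.smul_mem c ha)) (W.sub_mem (W.smul_mem c hb) (h₁ b hb)) h2
    obtain ⟨t', ht'⟩ := hone a (sub_eq_zero.1 h3)
    rw [ht']
    exact Submodule.smul_mem _ _ hv0

/-- Interchanged pairs give large moved spaces for unipotents. -/
theorem swap_span {U W : Submodule F (Fin n → F)} (hP : IsPolar q m U W) (hm : 2 ≤ m) {x : Matrix (Fin n) (Fin n) F}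
    (h₀ : ∀ u ∈ U, x *ᵥ u ∈ W) {c : F} (hc : c ≠ 0) {a : Fin n → F} (hx : ∀ u, ∃ t : F, x *ᵥ u - c • u = t • a) : False := by
  obtain ⟨L, hL⟩ : ∃ L : U →ₗ[F] (Fin n → F), ∀ u : U, L u = x *ᵥ (u : Fin n → F) - c • (u : Fin n → F) :=
    ⟨(Matrix.toLin' x - c • LinearMap.id).comp U.subtype, fun u => by simp⟩
  have hinj : Function.Injective L := by
    rw [injective_iff_map_eq_zero]
    intro u hu
    rw [hL, sub_eq_zero] at hu
    refine Subtype.ext ?_
    have h := hP.ne_zero (U.smul_mem c u.2) (h₀ u u.2) hu.symm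
    exact (smul_eq_zero.1 h).resolve_left hc
  have hle : LinearMap.range L ≤ Submodule.span F {a} := by
    rintro _ ⟨u, rfl⟩
    obtain ⟨t, ht⟩ := hx u
    rw [hL, ht]
    exact Submodule.smul_mem _ _ (Submodule.mem_span_singleton_self a)
  have h1 := Submodule.finrank_mono hle
  rw [LinearMap.finrank_range_of_inj hinj, hP.dim₀] at h1
  have h2 : finrank F (Submodule.span F {a}) ≤ 1 :=
    (finrank_span_le_card ({a} : Set (Fin n → F))).trans (by simp)
  omega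

end CfsgLib.Classical22.PolarPair
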