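/-
Elements of prime order modulo scalars preserving no polar pair.
-/
import Cfsg.Agent.Lib.Classical22.PolarPairBasic
import Cfsg.Agent.Lib.Classical22.PrimeOrderMaps
import Cfsg.Agent.Lib.Classical.UnitarySemisimple
import Cfsg.Agent.Lib.Classical.HermOrder
import Mathlib.FieldTheory.Perfect

set_option autoImplicit false

namespace CfsgLib.Classical22.PolarPair

open Module Matrix CfsgLib.Classical
open scoped MatrixGroups

universe u

variable {F : Type u} [Field F] [Fintype F] {q n m : ℕ}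

theorem mem_sl {g : GL (Fin n) F} : g ∈ Cfsg.Geo.specialLinear (Fin n) F ↔ (g : Matrix (Fin n) (Fin n) F).det = 1 := by
  rw [Cfsg.Geo.specialLinear, MonoidHom.mem_ker, Units.ext_iff, Matrix.GeneralLinearGroup.val_det_apply, Units.val_one]

/-- A transvection preserves no pair. -/
theorem exists_transv (hF : Fintype.card F = q ^ 2) {p : ℕ} [Fact p.Prime] [CharP F p] (hn : 4 ≤ n) (hm : 2 ≤ m) :
    ∃ x : GL (Fin n) F, x ∈ Cfsg.GU n F q ∧ x ∈ Cfsg.Geo.specialLinear (Fin n) F ∧ x ^ p = 1 ∧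
      (∀ z : F, (x : Matrix (Fin n) (Fin n) F) ≠ z • 1) ∧ ¬ Preserves q m (x : Matrix (Fin n) (Fin n) F) := by
  classical
  obtain ⟨σ, hσ, hσ2, hne⟩ := exists_qPow hF
  have hq := two_le_q hF
  obtain ⟨lam, hl0, hl⟩ : ∃ lam : F, lam ≠ 0 ∧ lam + σ lam = 0 := by
    obtain ⟨t, ht⟩ : ∃ t, σ t ≠ t := by
      by_contra! h
      exact hne (RingHom.ext h)
    refine ⟨t - σ t, sub_ne_zero.2 (Ne.symm ht), ?_⟩
    rw [map_sub, hσ2]; ring
  obtain ⟨c, hc⟩ : ∃ c : F, c ^ (q + 1) = -1 := exists_norm_eq hF (by rw [← hσ, map_neg, map_one])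
  obtain ⟨i₀, hi₀⟩ : ∃ i : Fin n, i.val = 0 := ⟨⟨0, by omega⟩, rfl⟩
  obtain ⟨i₁, hi₁⟩ : ∃ i : Fin n, i.val = 1 := ⟨⟨1, by omega⟩, rfl⟩
  have h01 : i₀ ≠ i₁ := fun h => by rw [h] at hi₀; omega
  obtain ⟨a, ha⟩ : ∃ a : Fin n → F, a = Pi.single i₀ 1 + Pi.single i₁ c := ⟨_, rfl⟩
  have haa : Cfsg.hermForm n F q a a = 0 := by
    rw [Cfsg.hermForm, ha, Finset.sum_eq_add i₀ i₁ h01 (fun k _ hk => by simp [hk.1, hk.2, zero_pow (show q ≠ 0 by omega)])
      (fun h => absurd (Finset.mem_univ _) h) (fun h => absurd (Finset.mem_univ _) h)]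
    simp [h01, h01.symm, ← pow_succ', hc]
  have hsl : ∀ u v : Fin n → F, ∀ t : F, Cfsg.hermForm n F q (u + t • a) v = Cfsg.hermForm n F q u v + t * Cfsg.hermForm n F q a v := fun u v t => by
    simp only [Cfsg.hermForm, Pi.add_apply, Pi.smul_apply, smul_eq_mul, add_mul, Finset.sum_add_distrib, Finset.mul_sum, mul_assoc]
  have hsr : ∀ u v : Fin n → F, ∀ t : F, Cfsg.hermForm n F q u (v + t • a) = Cfsg.hermForm n F q u v + σ t * Cfsg.hermForm n F q u a := fun u v t => by
    simp only [hermForm_apply n hσ, Pi.add_apply, Pi.smul_apply, smul_eq_mul, map_add, map_mul, mul_add, Finset.sum_add_distrib, Finset.mul_sum]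
    congr 1
    exact Finset.sum_congr rfl fun i _ => by ring
  obtain ⟨N, hN⟩ : ∃ N : Matrix (Fin n) (Fin n) F, N = lam • vecMulVec a (fun i => σ (a i)) := ⟨_, rfl⟩
  have hNv : ∀ v, N *ᵥ v = (lam * Cfsg.hermForm n F q v a) • a := fun v => by
    rw [hN, smul_mulVec, vecMulVec_mulVec, hermForm_apply n hσ, op_smul_eq_smul, smul_smul, dotProduct]
    congr 2
    exact Finset.sum_congr rfl fun i _ => mul_comm _ _
  have hNN : N * N = 0 := Matrix.ext_of_mulVec_single fun i => by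
    rw [← mulVec_mulVec, hNv (Pi.single i 1), Matrix.mulVec_smul, hNv, haa, mul_zero, zero_smul, smul_zero, Matrix.zero_mulVec]
  obtain ⟨x, hx⟩ : ∃ x : GL (Fin n) F, (x : Matrix (Fin n) (Fin n) F) = 1 + N :=
    ⟨⟨1 + N, 1 - N, by rw [mul_sub, mul_one, add_mul, one_mul, hNN]; abel,
      by rw [sub_mul, one_mul, mul_add, mul_one, hNN]; abel⟩, rfl⟩
  have hxv : ∀ v, (x : Matrix (Fin n) (Fin n) F) *ᵥ v = v + (lam * Cfsg.hermForm n F q v a) • a := fun v => by
    rw [hx, Matrix.add_mulVec, one_mulVec, hNv]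
  have hpow : ∀ k : ℕ, ((x ^ k : GL (Fin n) F) : Matrix (Fin n) (Fin n) F) = 1 + (k : F) • N := by
    intro k
    induction k with
    | zero => simp
    | succ k ih =>
      rw [pow_succ, Units.val_mul, ih, hx, add_mul, one_mul, mul_add, mul_one, smul_mul_assoc, hNN, smul_zero,
        Nat.cast_succ, add_smul, one_smul]
      abel
  have hxp : x ^ p = 1 := Units.ext (by rw [hpow, CharP.cast_eq_zero F p, zero_smul, add_zero, Units.val_one])
  have hgu : x ∈ Cfsg.GU n F q := fun u v => by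
    show Cfsg.hermForm n F q ((x : Matrix (Fin n) (Fin n) F) *ᵥ u) ((x : Matrix (Fin n) (Fin n) F) *ᵥ v) = _
    rw [hxv, hxv, hsl, hsr, hsr, haa]
    have hva : σ (Cfsg.hermForm n F q v a) = Cfsg.hermForm n F q a v := by rw [hσ, hermForm_conj hF]
    rw [map_mul, hva]
    linear_combination (Cfsg.hermForm n F q u a * Cfsg.hermForm n F q a v) * hl
  refine ⟨x, hgu, ?_, hxp, fun z hz => ?_, ?_⟩
  · rw [mem_sl]
    have h : (x : Matrix (Fin n) (Fin n) F).det ^ p = 1 ^ p := by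
      rw [← det_pow, ← Units.val_pow_eq_pow_val, hxp, Units.val_one, det_one, one_pow]
    exact frobenius_inj F p (by simpa [frobenius_def] using h)
  · have h := congrArg (· *ᵥ Pi.single i₀ (1 : F)) hz
    rw [hxv, smul_mulVec, one_mulVec] at h
    have h1 := congrFun h i₁
    have h2 : Cfsg.hermForm n F q (Pi.single i₀ 1) a = 1 := by
      rw [Cfsg.hermForm, Finset.sum_eq_single i₀ (fun k _ hk => by simp [hk]) (by simp), ha]
      simp [h01]
    rw [h2, ha] at h1
    have hc0 : c ≠ 0 := fun h0 => by rw [h0, zero_pow (by omega)] at hc; exact one_ne_zero (neg_eq_zero.1 hc.symm)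
    simp [h01, h01.symm, hl0, hc0] at h1
  · rintro ⟨U, W, hP, ⟨h₀, h₁⟩ | ⟨h₀, h₁⟩⟩
    · have key : ∀ (U W : Submodule F (Fin n → F)), IsPolar q m U W → (∀ u ∈ U, (x : Matrix (Fin n) (Fin n) F) *ᵥ u ∈ U) →
          (∀ w ∈ W, (x : Matrix (Fin n) (Fin n) F) *ᵥ w ∈ W) → ∀ u ∈ U, Cfsg.hermForm n F q u a = 0 := by
        intro U W hP h₀ h₁ u hu
        by_contra hne
        have haU : a ∈ U := by
          have h := U.sub_mem (h₀ u hu) hu
          rw [hxv, add_sub_cancel_left] at h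
          have h2 := U.smul_mem (lam * Cfsg.hermForm n F q u a)⁻¹ h
          rwa [inv_smul_smul₀ (mul_ne_zero hl0 hne)] at h2
        exact hne (hP.sing₀ u hu a haU)
      obtain ⟨a₀, h⟩ : ∃ w, Cfsg.hermForm n F q w a ≠ 0 := ⟨Pi.single i₀ 1, by
        rw [Cfsg.hermForm, Finset.sum_eq_single i₀ (fun k _ hk => by simp [hk]) (by simp), ha]
        simp [h01]⟩
      obtain ⟨b, hb, b', hb', rfl⟩ := hP.exists_add a₀
      apply h
      rw [show Cfsg.hermForm n F q (b + b') a = Cfsg.hermForm n F q b a + Cfsg.hermForm n F q b' a by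
        simp only [Cfsg.hermForm, Pi.add_apply, add_mul, Finset.sum_add_distrib],
        key U W hP h₀ h₁ b hb, key W U hP.symm h₁ h₀ b' hb', add_zero]
    · exact swap_span hP hm h₀ (c := 1) one_ne_zero (a := a) fun u =>
        ⟨_, by rw [hxv, one_smul, add_sub_cancel_left]⟩

/-- Diagonal witnesses with a simple eigenvalue. -/
theorem exists_line (hF : Fintype.card F = q ^ 2) {d : Fin n → F} (hd : ∀ i, d i ^ (q + 1) = 1) (hdet : ∏ i, d i = 1)
    {i₀ : Fin n} (hi : ∀ j, j ≠ i₀ → d j ≠ d i₀) (hm : 2 ≤ m)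
    (hcase : (∃ (r : ℕ) (z : F), Odd r ∧ z ≠ 0 ∧ ∀ i, d i ^ r = z) ∨ ∃ c : F, c ≠ 0 ∧ ∀ j, j ≠ i₀ → d j = c) :
    ∃ x : GL (Fin n) F, x ∈ Cfsg.GU n F q ∧ x ∈ Cfsg.Geo.specialLinear (Fin n) F ∧
      (x : Matrix (Fin n) (Fin n) F) = Matrix.diagonal d ∧ ¬ Preserves q m (x : Matrix (Fin n) (Fin n) F) := by
  classical
  obtain ⟨g, hg⟩ := exists_gu_diag hF d hd
  refine ⟨g.1, g.2, mem_sl.2 (by rw [hg, det_diagonal, hdet]), hg, ?_⟩
  rw [hg]
  have hline : ∀ v : Fin n → F, Matrix.diagonal d *ᵥ v = d i₀ • v → ∃ a : F, v = a • Pi.single i₀ 1 := by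
    intro v hv
    refine ⟨v i₀, funext fun j => ?_⟩
    by_cases hj : j = i₀
    · subst hj; simp
    · have h := congrFun hv j
      rw [Matrix.mulVec_diagonal, Pi.smul_apply, smul_eq_mul] at h
      simp [hj, mul_eq_mul_right_iff.1 h |>.resolve_left (hi j hj)]
  have heig : Matrix.diagonal d *ᵥ Pi.single i₀ 1 = d i₀ • (Pi.single i₀ 1 : Fin n → F) := by
    funext j
    by_cases hj : j = i₀
    · subst hj; simp
    · simp [hj]
  rintro ⟨U, W, hP, ⟨h₀, h₁⟩ | ⟨h₀, h₁⟩⟩
  · refine fixes_line hP h₀ h₁ heig hline ?_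
    rw [hermForm_single_one (by have := two_le_q hF; omega), if_pos rfl]
    exact one_ne_zero
  · rcases hcase with ⟨r, z, hr, hz0, hz⟩ | ⟨c, hc, hdc⟩
    · refine fixes_of_odd hP (by omega) hr hz0 ?_ h₀ h₁
      rw [Matrix.diagonal_pow, Matrix.smul_one_eq_diagonal]
      congr 1
      funext i
      exact hz i
    · refine swap_span hP hm h₀ (c := c) hc (a := Pi.single i₀ 1) fun u => ⟨(d i₀ - c) * u i₀, funext fun j => ?_⟩
      by_cases hj : j = i₀
      · subst hj; simp [Matrix.mulVec_diagonal]; ring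
      · simp [Matrix.mulVec_diagonal, hdc j hj, hj]

/-- An irreducible block witness. -/
theorem exists_block (hF : Fintype.card F = q ^ 2) {r e : ℕ} [hr : Fact r.Prime] (hr2 : r ≠ 2) (hrF : (r : F) ≠ 0)
    (he : e = orderOf (Fintype.card F : ZMod r)) (he2 : 2 ≤ e) (hen : e ≤ n) (hm : 0 < m)
    (hdvd : r ∣ Nat.card (Cfsg.GU e F q)) :
    ∃ x : GL (Fin n) F, x ∈ Cfsg.GU n F q ∧ x ∈ Cfsg.Geo.specialLinear (Fin n) F ∧ x ^ r = 1 ∧
      (∀ z : F, (x : Matrix (Fin n) (Fin n) F) ≠ z • 1) ∧ ¬ Preserves q m (x : Matrix (Fin n) (Fin n) F) := by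
  classical
  obtain ⟨y, hy⟩ := exists_prime_orderOf_dvd_card' r hdvd
  have hy1 : (y : GL (Fin e) F) ≠ 1 := fun h => by
    have : y = 1 := Subtype.ext h
    rw [this, orderOf_one] at hy
    exact hr.out.ne_one hy.symm
  have hyr : (y : GL (Fin e) F) ^ r = 1 := by
    rw [← SubgroupClass.coe_pow, ← hy, pow_orderOf_eq_one]; rfl
  obtain ⟨f, hf⟩ : ∃ f, f = Matrix.toLin' ((y : GL (Fin e) F) : Matrix (Fin e) (Fin e) F) := ⟨_, rfl⟩
  have hfr : ∀ v, (f ^ r) v = v := fun v => by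
    rw [hf, ← Matrix.toLin'_pow, ← Units.val_pow_eq_pow_val, hyr, Units.val_one, Matrix.toLin'_one]; rfl
  have hfix : PrimeMaps.fixed f = ⊥ := by
    have h := (PrimeMaps.order_spec hrF hfr (X := ⊤) fun _ _ => Submodule.mem_top).1
    rw [top_inf_eq, finrank_top, Module.finrank_fin_fun, ← he] at h
    have hlt : finrank F (PrimeMaps.fixed f) < e := by
      refine lt_of_le_of_ne ((Submodule.finrank_le _).trans (by rw [Module.finrank_fin_fun])) fun heq => hy1 ?_
      refine Units.ext (Matrix.ext_of_mulVec_single fun i => ?_)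
      have : Pi.single i (1 : F) ∈ PrimeMaps.fixed f := by
        rw [Submodule.eq_top_of_finrank_eq (S := PrimeMaps.fixed f) (by rw [heq, Module.finrank_fin_fun])]; trivial
      have h' := PrimeMaps.mem_fixed.1 this
      rw [hf, Matrix.toLin'_apply] at h'
      rw [h', Units.val_one, one_mulVec]
    exact Submodule.finrank_eq_zero.1 (by
      obtain ⟨c, hc⟩ := h
      rcases c with _ | _ | c
      · omega
      · omega
      · rw [Nat.mul_succ, Nat.mul_succ] at hc; omega)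
  have hsimple : ∀ S : Submodule F (Fin e → F), (∀ v ∈ S, f v ∈ S) → S = ⊥ ∨ S = ⊤ := by
    intro S hS
    have h := (PrimeMaps.order_spec hrF hfr hS).1
    rw [hfix, inf_bot_eq, finrank_bot, Nat.sub_zero, ← he] at h
    rcases Nat.eq_zero_or_pos (finrank F S) with h0 | h0
    · exact Or.inl (Submodule.finrank_eq_zero.1 h0)
    · refine Or.inr (Submodule.eq_top_of_finrank_eq ?_)
      have := Nat.le_of_dvd h0 h
      have h1 := Submodule.finrank_le S
      rw [Module.finrank_fin_fun] at h1 ⊢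
      omega
  obtain ⟨E, hE⟩ : ∃ E : Fin e ⊕ Fin (n - e) ≃ Fin n, E = finSumFinEquiv.trans (finCongr (by omega)) := ⟨_, rfl⟩
  obtain ⟨M, hM⟩ : ∃ M : Matrix (Fin n) (Fin n) F, M = Matrix.reindexAlgEquiv F F E
      (Matrix.fromBlocks ((y : GL (Fin e) F) : Matrix (Fin e) (Fin e) F) 0 0 1) := ⟨_, rfl⟩
  have hMr : M ^ r = 1 := by
    rw [hM, ← map_pow, Matrix.fromBlocks_diagonal_pow, ← Units.val_pow_eq_pow_val, hyr, one_pow, Units.val_one,
      Matrix.fromBlocks_one, map_one]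
  obtain ⟨x, hx⟩ : ∃ x : GL (Fin n) F, (x : Matrix (Fin n) (Fin n) F) = M :=
    ⟨(IsUnit.of_pow_eq_one hMr hr.out.ne_zero).unit, IsUnit.unit_spec _⟩
  have hstar : GUConj.starQ q M * M = 1 := by
    rw [hM, SUSemisimple.starQ_reindex hF, ← map_mul, Matrix.fromBlocks_multiply, (GUConj.mem_gu_iff_starQ hF _).1 y.2,
      GUConj.starQ_one hF]
    simp
  have hdet : M.det = 1 := by
    rw [hM, Matrix.det_reindexAlgEquiv, Matrix.det_fromBlocks_zero₂₁, det_one, mul_one]
    by_contra hne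
    have hp : ((y : GL (Fin e) F) : Matrix (Fin e) (Fin e) F).det ^ r = 1 := by
      rw [← det_pow, ← Units.val_pow_eq_pow_val, hyr, Units.val_one, det_one]
    have h0 : ((y : GL (Fin e) F) : Matrix (Fin e) (Fin e) F).det ≠ 0 := fun h => by
      rw [h, zero_pow hr.out.ne_zero] at hp; exact zero_ne_one hp
    have h1 := orderOf_dvd_of_pow_eq_one (FiniteField.pow_card_sub_one_eq_one _ h0)
    rw [orderOf_eq_prime hp hne] at h1
    have h2 : (Fintype.card F : ZMod r) = 1 := by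
      have h3 := (ZMod.natCast_eq_zero_iff _ r).2 h1
      rwa [Nat.cast_sub Fintype.card_pos, Nat.cast_one, sub_eq_zero] at h3
    rw [h2, orderOf_one] at he
    omega
  obtain ⟨ι', hι⟩ : ∃ ι' : (Fin e → F) →ₗ[F] (Fin n → F), ∀ a, ι' a = Sum.elim a 0 ∘ E.symm :=
    ⟨(LinearMap.funLeft F F E.symm).comp
      ((LinearEquiv.sumArrowLequivProdArrow (Fin e) (Fin (n - e)) F F).symm.toLinearMap.comp (LinearMap.inl F _ _)),
      fun a => funext fun i => by
        simp only [LinearMap.comp_apply, LinearMap.funLeft_apply, LinearMap.inl_apply, LinearEquiv.coe_coe, Function.comp_apply]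
        rcases E.symm i with c | c <;> simp⟩
  have hMv : ∀ w : Fin e ⊕ Fin (n - e) → F, M *ᵥ (w ∘ E.symm) =
      Sum.elim (((y : GL (Fin e) F) : Matrix (Fin e) (Fin e) F) *ᵥ (w ∘ Sum.inl)) (w ∘ Sum.inr) ∘ E.symm := by
    intro w
    rw [hM, Matrix.reindexAlgEquiv_apply, Matrix.reindex_apply, Matrix.submatrix_mulVec_equiv, Function.comp_assoc,
      Equiv.symm_symm, Equiv.symm_comp_self, Function.comp_id, Matrix.fromBlocks_mulVec]
    simp
  have hMι : ∀ a, M *ᵥ ι' a = ι' (f a) := fun a => by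
    rw [hι, hι, hMv, hf, Matrix.toLin'_apply]
    congr 1
  have hιinj : Function.Injective ι' := fun a b h => funext fun i => by
    have := congrFun h (E (Sum.inl i))
    simpa [hι] using this
  obtain ⟨Z, hZ⟩ : ∃ Z : Submodule F (Fin n → F), Z = LinearMap.range ι' := ⟨_, rfl⟩
  have hZim : ∀ v, v ∈ Z ↔ ∃ u, v = M *ᵥ u - u := by
    intro v
    constructor
    · rw [hZ]
      rintro ⟨a, rfl⟩
      have hinj : Function.Injective (f - 1 : Module.End F (Fin e → F)) := by
        rw [injective_iff_map_eq_zero]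
        intro w hw
        exact (Submodule.mem_bot F).1 (hfix ▸ (LinearMap.mem_ker.2 hw : w ∈ PrimeMaps.fixed f))
      obtain ⟨b, hb⟩ := (LinearMap.injective_iff_surjective.1 hinj) a
      exact ⟨ι' b, by rw [hMι, ← map_sub, ← hb]; rfl⟩
    · rintro ⟨u, rfl⟩
      rw [hZ]
      obtain ⟨w, rfl⟩ : ∃ w : Fin e ⊕ Fin (n - e) → F, u = w ∘ E.symm := ⟨u ∘ E, funext fun i => by simp⟩
      refine ⟨f (w ∘ Sum.inl) - w ∘ Sum.inl, funext fun i => ?_⟩
      rw [hι, hMv, hf, Matrix.toLin'_apply]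
      simp only [Pi.sub_apply, Function.comp_apply]
      rcases E.symm i with c | c <;> simp
  refine ⟨x, (GUConj.mem_gu_iff_starQ hF x).2 (by rw [hx]; exact hstar), mem_sl.2 (by rw [hx, hdet]),
    Units.ext (by rw [Units.val_pow_eq_pow_val, hx, hMr, Units.val_one]), fun z hz => ?_, ?_⟩
  · rw [hx] at hz
    obtain ⟨a, ha⟩ : ∃ a : Fin e → F, a ≠ 0 := ⟨Pi.single ⟨0, by omega⟩ 1, by simp⟩
    have hz' : f a = z • a := hιinj (by rw [← hMι, hz, smul_mulVec, one_mulVec, map_smul])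
    rcases hsimple (Submodule.span F {a}) (fun v hv => by
      obtain ⟨t, rfl⟩ := Submodule.mem_span_singleton.1 hv
      rw [map_smul, hz']
      exact Submodule.smul_mem _ _ (Submodule.smul_mem _ _ (Submodule.mem_span_singleton_self a))) with h | h
    · exact ha (Submodule.span_singleton_eq_bot.1 h)
    · have h1 := finrank_span_singleton (K := F) ha
      rw [h, finrank_top, Module.finrank_fin_fun] at h1
      omega
  · rw [hx]
    rintro ⟨U, W, hP, ⟨h₀, h₁⟩ | ⟨h₀, h₁⟩⟩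
    · have hts := fixes_split hP h₀ h₁ (Z := Z) (fun v hv => by
          rw [hZ] at hv ⊢
          obtain ⟨a, rfl⟩ := hv
          exact ⟨f a, (hMι a).symm⟩) (fun S hS hSi => by
          rcases hsimple (S.comap ι') (fun a ha => by
            show ι' (f a) ∈ S
            rw [← hMι]; exact hSi _ ha) with h | h
          · refine Or.inl (eq_bot_iff.2 fun v hv => ?_)
            obtain ⟨a, rfl⟩ := hZ ▸ hS hv
            have ha : a ∈ S.comap ι' := hv
            rw [h, Submodule.mem_bot] at ha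
            rw [ha, map_zero]; exact Submodule.zero_mem _
          · refine Or.inr (le_antisymm hS fun v hv => ?_)
            obtain ⟨a, rfl⟩ := hZ ▸ hv
            exact (h.ge Submodule.mem_top : a ∈ S.comap ι')) fun a ha b hb hab => by
          obtain ⟨u, hu⟩ := (hZim _).1 hab
          obtain ⟨u₁, hu₁, u₂, hu₂, rfl⟩ := hP.exists_add u
          rw [Matrix.mulVec_add] at hu
          have h : a - (M *ᵥ u₁ - u₁) = M *ᵥ u₂ - u₂ - b := by linear_combination (norm := abel) hu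
          have h' := hP.ne_zero (U.sub_mem ha (U.sub_mem (h₀ _ hu₁) hu₁))
            (W.sub_mem (W.sub_mem (h₁ _ hu₂) hu₂) hb) h
          rw [sub_eq_zero] at h'
          exact (hZim a).2 ⟨u₁, h'⟩
      have hmem : ι' (Pi.single ⟨0, by omega⟩ 1) ∈ Z := hZ ▸ ⟨_, rfl⟩
      have h := hts _ hmem _ hmem
      simp only [Cfsg.hermForm, hι, Function.comp_apply] at h
      rw [Equiv.sum_comp E.symm (fun c => Sum.elim (Pi.single (⟨0, by omega⟩ : Fin e) (1 : F)) 0 c *
        Sum.elim (Pi.single (⟨0, by omega⟩ : Fin e) (1 : F)) 0 c ^ q), Fintype.sum_sum_type] at h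
      have h1 := hermForm_single_one (F := F) (n := e) (q := q) (by have := two_le_q hF; omega) ⟨0, by omega⟩ ⟨0, by omega⟩
      rw [if_pos rfl, Cfsg.hermForm] at h1
      simp only [Sum.elim_inl, Sum.elim_inr, Pi.zero_apply, zero_mul, Finset.sum_const_zero, add_zero] at h
      exact one_ne_zero (h1.symm.trans h)
    · exact fixes_of_odd hP hm (hr.out.odd_of_ne_two hr2) one_ne_zero (by rw [hMr, one_smul]) h₀ h₁

end CfsgLib.Classical22.PolarPair
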