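/-
Coordinates adapted to a polar pair; the embedded general linear group and the index.
-/
import Cfsg.Agent.Lib.Classical22.PolarPairWitness
import Cfsg.Agent.Lib.Classical.HermOrder

set_option autoImplicit false

namespace CfsgLib.Classical22.PolarPair

open Module Matrix CfsgLib.Classical
open scoped MatrixGroups

universe u

variable {F : Type u} [Field F] [Fintype F] {q n m : ℕ}

/-- The hyperbolic hermitian form on pairs of coordinate vectors. -/
def hypForm (σ : F →+* F) (p r : Fin m ⊕ Fin m → F) : F :=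
  ∑ i, (p (Sum.inl i) * σ (r (Sum.inr i)) + p (Sum.inr i) * σ (r (Sum.inl i)))

theorem exists_coords (hF : Fintype.card F = q ^ 2) {σ : F →+* F} (hσ : ∀ a, σ a = a ^ q)
    {U W : Submodule F (Fin n → F)} (hP : IsPolar q m U W) :
    ∃ T : (Fin m ⊕ Fin m → F) ≃ₗ[F] (Fin n → F), (∀ p r, Cfsg.hermForm n F q (T p) (T r) = hypForm σ p r) ∧
      (∀ p, T p ∈ U ↔ ∀ i, p (Sum.inr i) = 0) ∧ (∀ p, T p ∈ W ↔ ∀ i, p (Sum.inl i) = 0) := by
  classical
  have hq := two_le_q hF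
  let b₀ : (Fin m → F) ≃ₗ[F] U := LinearEquiv.ofFinrankEq _ _ (by rw [Module.finrank_fin_fun, hP.dim₀])
  obtain ⟨ψ, hψ⟩ : ∃ ψ : W →ₗ[F] (Fin m → F), ∀ w i, ψ w i = Cfsg.hermForm n F q (w : Fin n → F) (b₀ (Pi.single i 1) : Fin n → F) :=
    ⟨{ toFun := fun w i => Cfsg.hermForm n F q (w : Fin n → F) (b₀ (Pi.single i 1) : Fin n → F)
       map_add' := fun a b => funext fun i => by
        simp only [Cfsg.hermForm, Submodule.coe_add, Pi.add_apply, add_mul, Finset.sum_add_distrib]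
       map_smul' := fun c a => funext fun i => by
        simp only [Cfsg.hermForm, Submodule.coe_smul, Pi.smul_apply, smul_eq_mul, mul_assoc, Finset.mul_sum, RingHom.id_apply] },
      fun w i => rfl⟩
  have hb₀ : ∀ x : Fin m → F, (b₀ x : Fin n → F) = ∑ i, x i • (b₀ (Pi.single i 1) : Fin n → F) := fun x => by
    conv_lhs => rw [pi_eq_sum_univ' x, map_sum]
    simp only [Submodule.coe_sum, map_smul, Submodule.coe_smul]
  have hr : ∀ (v : Fin n → F) (x : Fin m → F), Cfsg.hermForm n F q v (b₀ x : Fin n → F) =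
      ∑ i, σ (x i) * Cfsg.hermForm n F q v (b₀ (Pi.single i 1) : Fin n → F) := fun v x => by
    rw [hb₀]
    simp only [← hermB_apply hσ, map_sum, map_smulₛₗ, LinearMap.sum_apply, LinearMap.smul_apply, smul_eq_mul]
  have hinj : Function.Injective ψ := by
    rw [injective_iff_map_eq_zero]
    intro w hw
    refine Subtype.ext (hermForm_nondeg hσ (by omega) fun v => ?_)
    rw [hermB_apply]
    obtain ⟨a, ha, b, hb, rfl⟩ := hP.exists_add v
    obtain ⟨x, hx⟩ := b₀.surjective ⟨a, ha⟩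
    rw [← hermB_apply hσ, map_add, hermB_apply, hermB_apply, hP.sing₁ b hb w w.2,
      show a = (b₀ x : Fin n → F) by rw [hx], ← hermForm_conj hF, hr, add_zero,
      Finset.sum_eq_zero fun i _ => by rw [← hψ, hw, Pi.zero_apply, mul_zero], zero_pow (by omega)]
  obtain ⟨b₁, hb₁⟩ : ∃ b₁ : (Fin m → F) ≃ₗ[F] W, ∀ y i, Cfsg.hermForm n F q (b₁ y : Fin n → F) (b₀ (Pi.single i 1) : Fin n → F) = y i := by
    refine ⟨(LinearEquiv.ofBijective ψ ⟨hinj, ?_⟩).symm, fun y i => ?_⟩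
    · exact (LinearMap.injective_iff_surjective_of_finrank_eq_finrank
        (by rw [Module.finrank_fin_fun, hP.dim₁])).1 hinj
    · rw [← hψ]
      exact congrFun (LinearEquiv.apply_symm_apply (LinearEquiv.ofBijective ψ _) y) i
  let T₀ : (Fin m ⊕ Fin m → F) ≃ₗ[F] (Fin n → F) :=
    (LinearEquiv.sumArrowLequivProdArrow (Fin m) (Fin m) F F).trans
      ((b₀.prodCongr b₁).trans (Submodule.prodEquivOfIsCompl U W hP.compl))
  have hT₀ : ∀ p, T₀ p = (b₀ (p ∘ Sum.inl) : Fin n → F) + (b₁ (p ∘ Sum.inr) : Fin n → F) := fun p => by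
    simp [T₀, Submodule.coe_prodEquivOfIsCompl']
    rfl
  refine ⟨T₀, fun p r => ?_, fun p => ?_, fun p => ?_⟩
  · rw [hT₀, hT₀, ← hermB_apply hσ, map_add, map_add, LinearMap.add_apply, LinearMap.add_apply, hermB_apply,
      hermB_apply, hermB_apply, hermB_apply, hP.sing₀ _ (b₀ _).2 _ (b₀ _).2, hP.sing₁ _ (b₁ _).2 _ (b₁ _).2,
      hr (b₁ _ : Fin n → F), ← hermForm_conj hF (b₁ (r ∘ Sum.inr) : Fin n → F), hr (b₁ _ : Fin n → F), ← hσ, map_sum,
      zero_add, add_zero, hypForm, Finset.sum_add_distrib]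
    simp only [hb₁, map_mul, Function.comp_apply, show ∀ a, σ (σ a) = a from fun a => by rw [hσ, hσ, pow_q_q hF],
      mul_comm (σ _) _]

  · rw [hT₀]
    constructor
    · intro h i
      have h' : (b₁ (p ∘ Sum.inr) : Fin n → F) ∈ U := by simpa using U.sub_mem h (b₀ (p ∘ Sum.inl)).2
      have h0 : b₁ (p ∘ Sum.inr) = 0 := Subtype.ext (hP.ne_zero h' (b₁ _).2 rfl)
      exact congrFun ((b₁.map_eq_zero_iff).1 h0) i
    · intro h
      rw [show p ∘ Sum.inr = (0 : Fin m → F) from funext h, map_zero, Submodule.coe_zero, add_zero]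
      exact (b₀ _).2
  · rw [hT₀]
    constructor
    · intro h i
      have h' : (b₀ (p ∘ Sum.inl) : Fin n → F) ∈ W := by simpa using W.sub_mem h (b₁ (p ∘ Sum.inr)).2
      have h0 : b₀ (p ∘ Sum.inl) = 0 := Subtype.ext (hP.ne_zero (b₀ _).2 h' rfl)
      exact congrFun ((b₀.map_eq_zero_iff).1 h0) i
    · intro h
      rw [show p ∘ Sum.inl = (0 : Fin m → F) from funext h, map_zero, Submodule.coe_zero, zero_add]
      exact (b₁ _).2

/-- The matrix of coordinates map. -/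
theorem exists_lift (T : (Fin m ⊕ Fin m → F) ≃ₗ[F] (Fin n → F)) :
    ∃ L : Matrix (Fin m ⊕ Fin m) (Fin m ⊕ Fin m) F →* Matrix (Fin n) (Fin n) F,
      (∀ S p, L S *ᵥ T p = T (S *ᵥ p)) ∧ Function.Injective L ∧ ∀ S, (L S).charpoly = S.charpoly := by
  classical
  obtain ⟨L₀, hL⟩ : ∃ L₀ : Matrix (Fin m ⊕ Fin m) (Fin m ⊕ Fin m) F → Matrix (Fin n) (Fin n) F,
      ∀ S p, L₀ S *ᵥ T p = T (S *ᵥ p) :=
    ⟨fun S => LinearMap.toMatrix' (T.toLinearMap ∘ₗ Matrix.toLin' S ∘ₗ T.symm.toLinearMap), fun S p => by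
      rw [← Matrix.toLin'_apply (LinearMap.toMatrix' _), Matrix.toLin'_toMatrix']
      simp⟩
  have hext : ∀ {A B : Matrix (Fin n) (Fin n) F}, (∀ p, A *ᵥ T p = B *ᵥ T p) → A = B := fun {A B} h =>
    Matrix.ext_of_mulVec_single fun i => by
      have h' := h (T.symm (Pi.single i 1))
      rwa [T.apply_symm_apply] at h'
  refine ⟨{ toFun := L₀
            map_one' := hext fun p => by rw [hL, one_mulVec, one_mulVec]
            map_mul' := fun A B => hext fun p => by rw [hL, ← mulVec_mulVec, ← mulVec_mulVec, hL, hL] },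
    hL, fun A B h => ?_, fun S => ?_⟩
  · refine Matrix.ext_of_mulVec_single fun i => T.injective ?_
    rw [← hL, ← hL]
    exact congrArg (· *ᵥ _) h
  · show (L₀ S).charpoly = _
    rw [← Matrix.charpoly_toLin', ← LinearMap.charpoly_toMatrix _ ((Pi.basisFun F (Fin m ⊕ Fin m)).map T)]
    congr 1
    ext i j
    rw [LinearMap.toMatrix_apply, Module.Basis.map_apply, Matrix.toLin'_apply, hL, Module.Basis.map_repr,
      LinearEquiv.trans_apply, T.symm_apply_apply, Pi.basisFun_repr, Pi.basisFun_apply, Matrix.mulVec_single_one]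
    rfl

theorem hyp_diag (σ : F →+* F) {d d' : Fin m → F} (h : ∀ i, d i * σ (d' i) = 1) (h' : ∀ i, d' i * σ (d i) = 1)
    (p r : Fin m ⊕ Fin m → F) :
    hypForm σ (Matrix.diagonal (Sum.elim d d') *ᵥ p) (Matrix.diagonal (Sum.elim d d') *ᵥ r) = hypForm σ p r := by
  refine Finset.sum_congr rfl fun i _ => ?_
  simp only [Matrix.mulVec_diagonal, Sum.elim_inl, Sum.elim_inr, map_mul]
  linear_combination (p (Sum.inl i) * σ (r (Sum.inr i))) * h i + (p (Sum.inr i) * σ (r (Sum.inl i))) * h' i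

/-- A form-preserving coordinate matrix fixing or exchanging halves gives a stabiliser element. -/
theorem lift_mem (hF : Fintype.card F = q ^ 2) {σ : F →+* F} (hσ : ∀ a, σ a = a ^ q)
    {D : Fin 2 → Submodule F (Fin n → F)} (hD : Cfsg.Geo.IsMDecomposition m D)
    {T : (Fin m ⊕ Fin m → F) ≃ₗ[F] (Fin n → F)} (hT : ∀ p r, Cfsg.hermForm n F q (T p) (T r) = hypForm σ p r)
    (hT₀ : ∀ p, T p ∈ D 0 ↔ ∀ i, p (Sum.inr i) = 0) (hT₁ : ∀ p, T p ∈ D 1 ↔ ∀ i, p (Sum.inl i) = 0)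
    {L : Matrix (Fin m ⊕ Fin m) (Fin m ⊕ Fin m) F →* Matrix (Fin n) (Fin n) F}
    (hL : ∀ S p, L S *ᵥ T p = T (S *ᵥ p)) {S : Matrix (Fin m ⊕ Fin m) (Fin m ⊕ Fin m) F}
    (hS : ∀ p r, hypForm σ (S *ᵥ p) (S *ᵥ r) = hypForm σ p r)
    (hblocks : ((∀ i j, S (Sum.inr i) (Sum.inl j) = 0) ∧ ∀ i j, S (Sum.inl i) (Sum.inr j) = 0) ∨
      ((∀ i j, S (Sum.inl i) (Sum.inl j) = 0) ∧ ∀ i j, S (Sum.inr i) (Sum.inr j) = 0))
    {y : GL (Fin n) F} (hy : (y : Matrix (Fin n) (Fin n) F) = L S) :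
    y ∈ Cfsg.GU n F q ∧ y ∈ Cfsg.Geo.decompositionStabilizer D := by
  classical
  refine ⟨fun u v => ?_, ?_⟩
  · obtain ⟨p, rfl⟩ := T.surjective u
    obtain ⟨r, rfl⟩ := T.surjective v
    show Cfsg.hermForm n F q ((y : Matrix (Fin n) (Fin n) F) *ᵥ T p) ((y : Matrix (Fin n) (Fin n) F) *ᵥ T r) = _
    rw [hy, hL, hL, hT, hT, hS]
  have hinj : Function.Injective (Matrix.toLin' (y : Matrix (Fin n) (Fin n) F)) := fun a b e => by
    simp only [Matrix.toLin'_apply] at e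
    have e' := congrArg ((y⁻¹).1 *ᵥ ·) e
    simpa only [mulVec_mulVec, y.inv_mul, one_mulVec] using e'
  have himg : ∀ a b : Fin 2, (∀ p, T p ∈ D a → T (S *ᵥ p) ∈ D b) →
      (D a).map (Matrix.toLin' (y : Matrix (Fin n) (Fin n) F)) = D b := by
    intro a b h
    refine Submodule.eq_of_le_of_finrank_eq ?_ ?_
    · rintro _ ⟨u, hu, rfl⟩
      obtain ⟨p, rfl⟩ := T.surjective u
      rw [Matrix.toLin'_apply, hy, hL]
      exact h p hu
    · rw [(Submodule.equivMapOfInjective _ hinj (D a)).symm.finrank_eq, hD.finrank_eq, hD.finrank_eq]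
  rcases hblocks with ⟨h10, h01⟩ | ⟨h00, h11⟩
  · refine ⟨1, fun i => ?_⟩
    rcases (show i = 0 ∨ i = 1 by omega) with rfl | rfl
    · refine himg 0 0 fun p hp => (hT₀ _).2 fun i => ?_
      rw [Matrix.mulVec, dotProduct, Fintype.sum_sum_type]
      simp [h10, (hT₀ p).1 hp]
    · refine himg 1 1 fun p hp => (hT₁ _).2 fun i => ?_
      rw [Matrix.mulVec, dotProduct, Fintype.sum_sum_type]
      simp [h01, (hT₁ p).1 hp]
  · refine ⟨Equiv.swap 0 1, fun i => ?_⟩
    rcases (show i = 0 ∨ i = 1 by omega) with rfl | rfl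
    · rw [Equiv.swap_apply_left]
      refine himg 0 1 fun p hp => (hT₁ _).2 fun i => ?_
      rw [Matrix.mulVec, dotProduct, Fintype.sum_sum_type]
      simp [h00, (hT₀ p).1 hp]
    · rw [Equiv.swap_apply_right]
      refine himg 1 0 fun p hp => (hT₀ _).2 fun i => ?_
      rw [Matrix.mulVec, dotProduct, Fintype.sum_sum_type]
      simp [h11, (hT₁ p).1 hp]

theorem card_gu_sl : Nat.card ↥(Cfsg.GU n F q ⊓ Cfsg.Geo.specialLinear (Fin n) F) = Nat.card (Cfsg.SU n F q) :=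
  Nat.card_congr
    { toFun := fun g => ⟨⟨(g.1 : Matrix (Fin n) (Fin n) F), mem_sl.1 g.2.2⟩, g.2.1⟩
      invFun := fun s => ⟨SpecialLinearGroup.toGL s.1, s.2, mem_sl.2 s.1.2⟩
      left_inv := fun g => Subtype.ext (Units.ext rfl)
      right_inv := fun s => Subtype.ext (Subtype.ext rfl) }

theorem card_GL_fac (m : ℕ) : Nat.card (GL (Fin m) F) = (∏ k ∈ Finset.range m, Fintype.card F ^ k) *
    ∏ k ∈ Finset.range m, (Fintype.card F ^ (k + 1) - 1) := by
  obtain ⟨Q, hQ⟩ : ∃ Q, Fintype.card F = Q := ⟨_, rfl⟩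
  rw [Matrix.card_GL_field, hQ, Fin.prod_univ_eq_prod_range (fun i => Q ^ m - Q ^ i) m,
    ← Finset.prod_range_reflect (fun k => Q ^ (k + 1) - 1) m, ← Finset.prod_mul_distrib]
  refine Finset.prod_congr rfl fun k hk => ?_
  rw [Finset.mem_range] at hk
  rw [Nat.mul_sub, mul_one, ← pow_add]
  congr 2
  omega

theorem prod_parity (f : ℕ → ℕ) : ∀ m, ∏ i ∈ Finset.range (2 * m), f i =
    (∏ j ∈ Finset.range m, f (2 * j)) * ∏ j ∈ Finset.range m, f (2 * j + 1)
  | 0 => by simp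
  | (m + 1) => by
    rw [show 2 * (m + 1) = 2 * m + 1 + 1 by ring, Finset.prod_range_succ, Finset.prod_range_succ, prod_parity f m,
      Finset.prod_range_succ, Finset.prod_range_succ]
    ring

/-- The index divides a power of `q` times the odd factors `q ^ i + 1`. -/
theorem index_dvd (hF : Fintype.card F = q ^ 2) {D : Fin 2 → Submodule F (Fin n → F)} (hn : n = 2 * m) (hm : 0 < m)
    (hD : Cfsg.Geo.IsMDecomposition m D) (hDs : ∀ i, Cfsg.Geo.IsTotallySingularFor (Cfsg.hermForm n F q) (D i)) :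
    (Cfsg.Geo.decompositionStabilizer D).relIndex (Cfsg.GU n F q ⊓ Cfsg.Geo.specialLinear (Fin n) F) ∣
      q ^ (n * (n - 1) / 2) * ∏ j ∈ Finset.range m, (q ^ (2 * j + 1) + 1) := by
  classical
  subst hn
  have hq := two_le_q hF
  obtain ⟨σ, hσ, hσ2, -⟩ := exists_qPow hF
  obtain ⟨T, hT, hT₀, hT₁⟩ := exists_coords hF hσ (polar_of_decomp hD hDs)
  obtain ⟨L, hL, hLinj, -⟩ := exists_lift T
  obtain ⟨S, hSd⟩ : ∃ S : GL (Fin m) F → Matrix (Fin m ⊕ Fin m) (Fin m ⊕ Fin m) F,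
      ∀ A, S A = Matrix.fromBlocks A.1 0 0 (((A⁻¹).1.map σ)ᵀ) := ⟨_, fun A => rfl⟩
  have hS1 : S 1 = 1 := by
    rw [hSd, inv_one, Units.val_one, Matrix.map_one σ (map_zero σ) (map_one σ), transpose_one, Matrix.fromBlocks_one]
  have hSm : ∀ A B, S (A * B) = S A * S B := fun A B => by
    rw [hSd, hSd, hSd, Matrix.fromBlocks_multiply, _root_.mul_inv_rev, Units.val_mul, Units.val_mul, Matrix.map_mul,
      transpose_mul]
    simp
  have hSf : ∀ A p r, hypForm σ (S A *ᵥ p) (S A *ᵥ r) = hypForm σ p r := by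
    intro A p r
    have hdot : ∀ p r : Fin m ⊕ Fin m → F, hypForm σ p r =
        (p ∘ Sum.inl) ⬝ᵥ (σ ∘ (r ∘ Sum.inr)) + (p ∘ Sum.inr) ⬝ᵥ (σ ∘ (r ∘ Sum.inl)) := fun p r => by
      simp [hypForm, dotProduct, Finset.sum_add_distrib]
    have hmv : ∀ (M : Matrix (Fin m) (Fin m) F) (v : Fin m → F), σ ∘ (M *ᵥ v) = M.map σ *ᵥ (σ ∘ v) := fun M v =>
      funext fun i => RingHom.map_mulVec σ M v i
    have hA : ((A.1)ᵀ) * ((A⁻¹).1)ᵀ = 1 := by rw [← transpose_mul, A.inv_mul, transpose_one]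
    have hA' : (A⁻¹).1.map σ * A.1.map σ = 1 := by
      rw [← Matrix.map_mul, A.inv_mul, Matrix.map_one σ (map_zero σ) (map_one σ)]
    rw [hdot, hdot, hSd, Matrix.fromBlocks_mulVec, Matrix.fromBlocks_mulVec]
    simp only [Sum.elim_comp_inl, Sum.elim_comp_inr, Matrix.zero_mulVec, add_zero, zero_add, hmv, ← Matrix.transpose_map,
      Matrix.map_map]
    have hB : ((A⁻¹).1.map σ)ᵀ.map σ = ((A⁻¹).1)ᵀ := by
      ext i j; simp [hσ2]
    have hC : (A.1.map σ)ᵀ * ((A⁻¹).1.map σ)ᵀ = 1 := by rw [← transpose_mul, hA', transpose_one]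
    simp only [Matrix.transpose_map, Matrix.map_map] at hB hC ⊢
    simp only [show (σ : F → F) ∘ σ = id from funext hσ2, Matrix.map_id] at hB hC ⊢
    rw [Matrix.dotProduct_mulVec, ← Matrix.mulVec_transpose, Matrix.mulVec_mulVec, transpose_transpose, A.inv_mul,
      one_mulVec, Matrix.dotProduct_mulVec, ← Matrix.mulVec_transpose, Matrix.mulVec_mulVec]
    congr 2
    rw [← transpose_mul, hA', transpose_one, one_mulVec]
  obtain ⟨Φ, hΦ⟩ : ∃ Φ : GL (Fin m) F →* GL (Fin (2 * m)) F, ∀ A, (Φ A : Matrix (Fin (2 * m)) (Fin (2 * m)) F) = L (S A) :=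
    ⟨MonoidHom.toHomUnits (L.comp { toFun := S, map_one' := hS1, map_mul' := hSm }), fun A => rfl⟩
  have hmem : ∀ A, Φ A ∈ Cfsg.GU (2 * m) F q ⊓ Cfsg.Geo.decompositionStabilizer D := fun A =>
    lift_mem hF hσ hD hT hT₀ hT₁ hL (hSf A) (Or.inl ⟨fun i j => by rw [hSd]; rfl, fun i j => by rw [hSd]; rfl⟩) (hΦ A)
  have hinj : Function.Injective Φ := fun A B h => by
    have h1 := hLinj ((hΦ A).symm.trans (h ▸ hΦ B))
    rw [hSd, hSd, Matrix.fromBlocks_inj] at h1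
    exact Units.ext h1.1
  have hGL : Nat.card (GL (Fin m) F) ∣ Nat.card ↥(Cfsg.GU (2 * m) F q ⊓ Cfsg.Geo.decompositionStabilizer D) :=
    Subgroup.card_dvd_of_injective (MonoidHom.mk' (fun A => (⟨Φ A, hmem A⟩ : ↥(Cfsg.GU (2 * m) F q ⊓ Cfsg.Geo.decompositionStabilizer D)))
      fun A B => Subtype.ext (map_mul Φ A B)) fun A B h => hinj (congrArg Subtype.val h)
  obtain ⟨δ, hδ⟩ : ∃ δ : ↥(Cfsg.GU (2 * m) F q ⊓ Cfsg.Geo.decompositionStabilizer D) →* Fˣ,
      δ = (guDet (2 * m) F q).comp (Subgroup.inclusion inf_le_left) := ⟨_, rfl⟩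
  have hrange : Nat.card δ.range ∣ q + 1 := by
    have h : Nat.card (guDet (2 * m) F q).range = q + 1 := by
      rw [guDet_range hF (by omega), IsCyclic.card_powMonoidHom_ker, Nat.card_units, Nat.card_eq_fintype_card,
        hF, show q ^ 2 - 1 = (q + 1) * (q - 1) by rw [← Nat.sq_sub_sq, one_pow],
        Nat.gcd_eq_right (Dvd.intro _ rfl)]
    rw [← h]
    exact Subgroup.card_dvd_of_le (hδ ▸ fun z ⟨w, hw⟩ => ⟨_, hw⟩)
  have hker : Nat.card δ.ker = Nat.card ((Cfsg.Geo.decompositionStabilizer D).subgroupOf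
      (Cfsg.GU (2 * m) F q ⊓ Cfsg.Geo.specialLinear (Fin (2 * m)) F)) := by
    subst hδ
    refine Nat.card_congr
      { toFun := fun g => ⟨⟨g.1.1, g.1.2.1, mem_sl.2 (congrArg Units.val (MonoidHom.mem_ker.1 g.2))⟩, g.1.2.2⟩
        invFun := fun g => ⟨⟨g.1.1, g.1.2.1, g.2⟩, MonoidHom.mem_ker.2 (Units.ext (mem_sl.1 g.1.2.2))⟩
        left_inv := fun g => rfl
        right_inv := fun g => rfl }
  have h1 : Nat.card (GL (Fin m) F) ∣ (q + 1) * Nat.card δ.ker := by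
    refine hGL.trans ?_
    rw [← Subgroup.index_mul_card δ.ker, Subgroup.index_ker]
    exact mul_dvd_mul_right hrange _
  obtain ⟨c, hc⟩ := h1
  have hcard := Subgroup.index_mul_card ((Cfsg.Geo.decompositionStabilizer D).subgroupOf
      (Cfsg.GU (2 * m) F q ⊓ Cfsg.Geo.specialLinear (Fin (2 * m)) F))
  rw [← hker, card_gu_sl] at hcard
  have hsu := card_su hF (show 1 ≤ (2 * m) by omega)
  rw [← hcard, mul_left_comm, hc, card_GL_fac, hF, unitaryOrder, prod_parity] at hsu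
  have e0 : ∏ j ∈ Finset.range m, (if Even (2 * j) then q ^ (2 * j + 1) + 1 else q ^ (2 * j + 1) - 1) =
      ∏ j ∈ Finset.range m, (q ^ (2 * j + 1) + 1) :=
    Finset.prod_congr rfl fun j _ => if_pos (even_two_mul j)
  have e1 : ∏ j ∈ Finset.range m, (if Even (2 * j + 1) then q ^ (2 * j + 1 + 1) + 1 else q ^ (2 * j + 1 + 1) - 1) =
      ∏ j ∈ Finset.range m, ((q ^ 2) ^ (j + 1) - 1) :=
    Finset.prod_congr rfl fun j _ => by
      rw [if_neg (Nat.not_even_iff_odd.2 ⟨j, rfl⟩), ← pow_mul]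
      ring_nf
  rw [e0, e1] at hsu
  have hpos : 0 < ∏ j ∈ Finset.range m, ((q ^ 2) ^ (j + 1) - 1) := Finset.prod_pos fun j _ => by
    have : 1 < (q ^ 2) ^ (j + 1) := Nat.one_lt_pow (by omega) (Nat.one_lt_pow (by norm_num) (by omega))
    omega
  refine Dvd.intro ((∏ k ∈ Finset.range m, (q ^ 2) ^ k) * c) (Nat.eq_of_mul_eq_mul_right hpos ?_)
  show Subgroup.index _ * _ * _ = _
  linear_combination hsu

end CfsgLib.Classical22.PolarPair
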