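/-
Involutions modulo scalars of the special unitary group and polar pairs.
-/
import Cfsg.Agent.Lib.Classical22.PolarPairModel
import Cfsg.Agent.Lib.Classical22.InvolClasses
import Cfsg.Agent.Lib.Classical.UnitarySemisimpleClasses

set_option autoImplicit false

namespace CfsgLib.Classical22.PolarPair

open Module Matrix Polynomial CfsgLib.Classical
open scoped MatrixGroups

universe u

variable {F : Type u} [Field F] [Fintype F] {q n m : ℕ}

/-- Products over a two-valued family. -/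
theorem prod_two {R : Type*} [CommMonoid R] {ι : Type} [Fintype ι] {w : F} {c : ι → F} [DecidableEq F]
    (hc : ∀ i, c i = w ∨ c i = -w) (g : F → R) :
    ∏ i, g (c i) = g w ^ (Finset.univ.filter fun i => c i = w).card *
      g (-w) ^ (Fintype.card ι - (Finset.univ.filter fun i => c i = w).card) := by
  classical
  rw [← Finset.prod_filter_mul_prod_filter_not Finset.univ (fun i => c i = w),
    Finset.prod_congr rfl (fun i hi => show g (c i) = g w by rw [(Finset.mem_filter.1 hi).2]),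
    Finset.prod_congr (rfl : (Finset.univ.filter fun i => ¬ c i = w) = _)
      (fun i hi => show g (c i) = g (-w) by rw [(hc i).resolve_left (Finset.mem_filter.1 hi).2]),
    Finset.prod_const, Finset.prod_const]
  congr 2
  have h := Finset.card_filter_add_card_filter_not (s := (Finset.univ : Finset ι)) (fun i => c i = w)
  rw [Finset.card_univ] at h
  omega

/-- No power of two obstruction. -/
theorem pow_ne_neg_one {w : F} (h2 : (2 : F) ≠ 0) {a b : ℕ} (ha : a ≠ 0) (hb : b ≠ 0) (hw : w ^ a = 1)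
    (hv : padicValNat 2 a ≤ padicValNat 2 b) : w ^ b ≠ -1 := by
  intro hb1
  have h2b : w ^ (2 * b) = 1 := by rw [mul_comm, pow_mul, hb1]; ring
  have hg := pow_gcd_eq_one.2 ⟨hw, h2b⟩
  have hdvd : Nat.gcd a (2 * b) ∣ b := by
    have h1 := (Nat.factorization_le_iff_dvd (Nat.gcd_ne_zero_left ha) ha).2 (Nat.gcd_dvd_left a (2 * b))
    have h3 := (Nat.factorization_le_iff_dvd (Nat.gcd_ne_zero_left ha) (by omega)).2 (Nat.gcd_dvd_right a (2 * b))
    refine (Nat.factorization_le_iff_dvd (Nat.gcd_ne_zero_left ha) hb).1 fun p => ?_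
    by_cases hp : p = 2
    · subst hp
      refine (h1 2).trans ?_
      rw [Nat.factorization_def a Nat.prime_two, Nat.factorization_def b Nat.prime_two]
      exact hv
    · refine (h3 p).trans (le_of_eq ?_)
      rw [Nat.factorization_mul (by norm_num) hb, Finsupp.add_apply, Nat.prime_two.factorization,
        Finsupp.single_apply, if_neg (Ne.symm hp), zero_add]
  obtain ⟨c, hc⟩ := hdvd
  rw [hc, pow_mul, hg, one_pow] at hb1
  exact h2 (by linear_combination hb1)

/-- An element with a non-isotropic simple eigenline and square `w ^ 2`. -/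
theorem exists_bad_invol (hF : Fintype.card F = q ^ 2) (hodd : Odd q) (hn : 4 ≤ n) (hm : 2 ≤ m)
    (hv : padicValNat 2 n < padicValNat 2 (q + 1)) :
    ∃ x : GL (Fin n) F, x ∈ Cfsg.GU n F q ∧ x ∈ Cfsg.Geo.specialLinear (Fin n) F ∧
      (∃ z : F, ((x ^ 2 : GL (Fin n) F) : Matrix (Fin n) (Fin n) F) = z • 1) ∧
      (∀ z : F, (x : Matrix (Fin n) (Fin n) F) ≠ z • 1) ∧ ¬ Preserves q m (x : Matrix (Fin n) (Fin n) F) := by
  classical
  obtain ⟨v, hvd⟩ : ∃ v, v = padicValNat 2 n := ⟨_, rfl⟩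
  rw [← hvd] at hv
  have hdvd : 2 ^ (v + 1) ∣ q + 1 := (pow_dvd_pow 2 hv).trans pow_padicValNat_dvd
  have hq := two_le_q hF
  obtain ⟨G, hG⟩ := IsCyclic.exists_generator (α := Fˣ)
  have hGo : orderOf G = (q + 1) * (q - 1) := by
    rw [orderOf_eq_card_of_forall_mem_zpowers hG, Nat.card_units, Nat.card_eq_fintype_card, hF, ← Nat.sq_sub_sq, one_pow]
  obtain ⟨w, hwd⟩ : ∃ w : Fˣ, w = G ^ ((q + 1) * (q - 1) / 2 ^ (v + 1)) := ⟨_, rfl⟩
  have hdvd' : 2 ^ (v + 1) ∣ (q + 1) * (q - 1) := dvd_mul_of_dvd_left hdvd _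
  have hwo : orderOf w = 2 ^ (v + 1) := by
    have hpos : 0 < (q + 1) * (q - 1) := Nat.mul_pos (by omega) (by omega)
    rw [hwd, orderOf_pow' G (Nat.div_pos (Nat.le_of_dvd hpos hdvd') (by positivity)).ne', hGo,
      Nat.gcd_eq_right (Nat.div_dvd_of_dvd hdvd'), Nat.div_div_self hdvd' hpos.ne']
  have hwq : (w : F) ^ (q + 1) = 1 := by
    rw [← Units.val_pow_eq_pow_val, orderOf_dvd_iff_pow_eq_one.1 (hwo ▸ hdvd), Units.val_one]
  have h2 : (2 : F) ≠ 0 := fun h => by
    haveI : CharP F 2 := CharTwo.of_one_ne_zero_of_two_eq_zero one_ne_zero h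
    have := FiniteField.even_card_of_char_two (ringChar.eq F 2)
    rw [hF, Nat.pow_mod, Nat.odd_iff.1 hodd] at this
    simp at this
  have hwn : (w : F) ^ n = -1 := by
    obtain ⟨u, hu⟩ : 2 ^ v ∣ n := hvd ▸ pow_padicValNat_dvd
    have huo : ¬ 2 ∣ u := by
      rintro ⟨u', rfl⟩
      have : 2 ^ (v + 1) ∣ n := ⟨u', by rw [hu, pow_succ]; ring⟩
      rw [padicValNat_dvd_iff_le (by omega)] at this
      omega
    have hs : ((w : F) ^ 2 ^ v) * ((w : F) ^ 2 ^ v) = 1 := by
      rw [← pow_add, ← two_mul, ← pow_succ', ← hwo, ← Units.val_pow_eq_pow_val, pow_orderOf_eq_one, Units.val_one]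
    rcases mul_self_eq_one_iff.1 hs with h | h
    · have h' : w ^ 2 ^ v = 1 := Units.ext (by rw [Units.val_pow_eq_pow_val, h, Units.val_one])
      have := Nat.le_of_dvd (by positivity) (orderOf_dvd_of_pow_eq_one h')
      rw [hwo, pow_succ] at this
      have : 0 < 2 ^ v := by positivity
      omega
    · rw [hu, pow_mul, h, (Nat.odd_iff.2 (by omega : u % 2 = 1)).neg_one_pow]
  obtain ⟨i₀, hi₀⟩ : ∃ i : Fin n, i.val = 0 := ⟨⟨0, by omega⟩, rfl⟩
  obtain ⟨d, hd⟩ : ∃ d : Fin n → F, ∀ i, d i = if i = i₀ then -(w : F) else w := ⟨_, fun i => rfl⟩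
  have hw0 : (w : F) ≠ 0 := w.ne_zero
  have hne : -(w : F) ≠ w := fun h => hw0 (by
    have : (2 : F) * w = 0 := by linear_combination -h
    exact (mul_eq_zero.1 this).resolve_left h2)
  have hdet : ∏ i, d i = 1 := by
    rw [show ∏ i, d i = ∏ i, (if i = i₀ then (-1 : F) else 1) * w from Finset.prod_congr rfl fun i _ => by
      rw [hd]; split_ifs <;> simp, Finset.prod_mul_distrib, Finset.prod_ite_eq', if_pos (Finset.mem_univ _),
      Finset.prod_const, Finset.card_univ, Fintype.card_fin, hwn]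
    ring
  obtain ⟨x, h1, h3, h4, h5⟩ := exists_line (m := m) hF (d := d) (fun i => by
      rw [hd]; split_ifs
      · rw [neg_pow, hwq, mul_one, (hodd.add_one).neg_one_pow]
      · exact hwq) hdet (i₀ := i₀)
    (fun j hj => by rw [hd, hd, if_neg hj, if_pos rfl]; exact hne.symm) hm
    (Or.inr ⟨w, hw0, fun j hj => by rw [hd, if_neg hj]⟩)
  refine ⟨x, h1, h3, ⟨(w : F) * w, ?_⟩, fun z hz => ?_, h5⟩
  · rw [Units.val_pow_eq_pow_val, h4, Matrix.diagonal_pow, Matrix.smul_one_eq_diagonal]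
    congr 1
    funext i
    rw [Pi.pow_apply, hd]; split_ifs <;> ring
  · rw [h4, Matrix.smul_one_eq_diagonal] at hz
    have e := Matrix.diagonal_injective hz
    have e0 := congrFun e i₀
    have e1 := congrFun e ⟨1, by omega⟩
    rw [hd, if_pos rfl] at e0
    rw [hd, if_neg (fun h => by have := congrArg Fin.val h; simp only [hi₀] at this; omega)] at e1
    exact hne (e0.trans e1.symm)

/-- Involutions modulo scalars are conjugate into the stabiliser. -/
theorem invol_mem (hF : Fintype.card F = q ^ 2) (hodd : Odd q) {D : Fin 2 → Submodule F (Fin n → F)}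
    (hn : n = 2 * m) (hm : 0 < m) (hD : Cfsg.Geo.IsMDecomposition m D)
    (hDs : ∀ i, Cfsg.Geo.IsTotallySingularFor (Cfsg.hermForm n F q) (D i))
    (hv : padicValNat 2 (q + 1) ≤ padicValNat 2 n)
    (x : GL (Fin n) F) (hx : x ∈ Cfsg.GU n F q ⊓ Cfsg.Geo.specialLinear (Fin n) F) {z : F}
    (hz : ((x ^ 2 : GL (Fin n) F) : Matrix (Fin n) (Fin n) F) = z • 1) :
    ∃ g ∈ Cfsg.GU n F q ⊓ Cfsg.Geo.specialLinear (Fin n) F, g⁻¹ * x * g ∈ Cfsg.Geo.decompositionStabilizer D := by
  classical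
  obtain ⟨σ, hσ, hσ2, -⟩ := exists_qPow hF
  have hq := two_le_q hF
  obtain ⟨p, hpc⟩ := CharP.exists F
  haveI := hpc
  haveI : Fact p.Prime := ⟨CharP.char_is_prime F p⟩
  have h2 : (2 : F) ≠ 0 := fun h => by
    haveI : CharP F 2 := CharTwo.of_one_ne_zero_of_two_eq_zero one_ne_zero h
    have := FiniteField.even_card_of_char_two (ringChar.eq F 2)
    rw [hF, Nat.pow_mod, Nat.odd_iff.1 hodd] at this
    simp at this
  have hz2 : (x : Matrix (Fin n) (Fin n) F) * x.1 = z • 1 := by rw [← sq, ← Units.val_pow_eq_pow_val, hz]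
  have hz0 : z ≠ 0 := InvolClasses.sq_ne_zero hz2 (by omega)
  obtain ⟨i₀, -⟩ : ∃ i : Fin n, i.val = 0 := ⟨⟨0, by omega⟩, rfl⟩
  have hzn : z * σ z = 1 := by
    have h := (GUConj.mem_gu_iff_starQ hF (x ^ 2)).1 ((Cfsg.GU n F q).pow_mem hx.1 2)
    rw [hz] at h
    have h' := congrFun (congrFun h i₀) i₀
    simp [GUConj.starQ, Matrix.mul_apply, Matrix.one_apply, ← hσ] at h'
    rw [mul_comm]; exact h'
  obtain ⟨w, hw⟩ : IsSquare z := by
    have hchar : ringChar F ≠ 2 := fun h => h2 (by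
      haveI : CharP F 2 := ringChar.of_eq h
      exact_mod_cast CharP.cast_eq_zero F 2)
    rw [FiniteField.isSquare_iff hchar hz0, hF]
    obtain ⟨t, ht⟩ := hodd
    rw [show q ^ 2 / 2 = (q + 1) * t by
      rw [ht, show (2 * t + 1) ^ 2 = 2 * ((2 * t + 1 + 1) * t) + 1 by ring]; omega, pow_mul, pow_succ', ← hσ, hzn, one_pow]
  have hw0 : w ≠ 0 := fun h => hz0 (by rw [hw, h, mul_zero])
  have hwne : -w ≠ w := fun h => hw0 (by
    have : (2 : F) * w = 0 := by linear_combination -h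
    exact (mul_eq_zero.1 this).resolve_left h2)
  have hNw : w ^ (q + 1) = 1 ∨ w ^ (q + 1) = -1 := by
    refine mul_self_eq_one_iff.1 ?_
    rw [← hzn, hw, hσ, mul_pow, pow_succ]; ring
  obtain ⟨P, c, hP, hc⟩ := InvolClasses.exists_diag (s := Units.mk0 w hw0) h2 (g := x) (by
    rw [hz2, hw]; simp [sq])
  obtain ⟨cv, hcv⟩ : ∃ cv : Fin n → F, ∀ i, cv i = c i := ⟨_, fun i => rfl⟩
  have hmono : ((P⁻¹ * x * P : GL (Fin n) F) : Matrix (Fin n) (Fin n) F) = Matrix.diagonal cv := by
    rw [hP]; ext i j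
    rw [Monomial.mono_apply, Matrix.diagonal_apply, Equiv.Perm.one_apply]
    split_ifs with h
    · subst h; rw [hcv]
    · rfl
  have hcw : ∀ i, cv i = w ∨ cv i = -w := fun i => by
    rcases hc i with h | h <;> rw [hcv, h]
    · exact Or.inl rfl
    · exact Or.inr rfl
  obtain ⟨a, ha⟩ : ∃ a, a = (Finset.univ.filter fun i => cv i = w).card := ⟨_, rfl⟩
  have han : a ≤ n := ha ▸ (Finset.card_le_univ _).trans (by rw [Fintype.card_fin])
  have hchar : (x : Matrix (Fin n) (Fin n) F).charpoly = (X - C w) ^ a * (X - C (-w)) ^ (n - a) := by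
    have h := Matrix.charpoly_units_conj' P (x : Matrix (Fin n) (Fin n) F)
    rw [← Matrix.coe_units_inv] at h
    rw [← h, show ((P⁻¹ : GL (Fin n) F) : Matrix (Fin n) (Fin n) F) * x.1 * P.1 = Matrix.diagonal cv from hmono,
      Matrix.charpoly_diagonal, prod_two hcw (fun t => X - C t), ← ha, Fintype.card_fin]
  have hdet1 : w ^ a * (-w) ^ (n - a) = 1 := by
    have h : (x : Matrix (Fin n) (Fin n) F).det = (Matrix.diagonal cv).det := by
      rw [← hmono, Units.val_mul, Units.val_mul, Matrix.det_units_conj']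
    have hp := prod_two hcw id
    simp only [id] at hp
    rw [mem_sl.1 hx.2, Matrix.det_diagonal, hp, ← ha, Fintype.card_fin] at h
    exact h.symm
  have hbal : w ^ (q + 1) = -1 → a = m := by
    intro hneg
    have hst := (GUConj.mem_gu_iff_starQ hF x).1 hx.1
    have e1 : GUConj.starQ q (x : Matrix (Fin n) (Fin n) F) = z⁻¹ • (x : Matrix (Fin n) (Fin n) F) := by
      have h := congrArg (· * (x : Matrix (Fin n) (Fin n) F)) hst
      simp only [mul_assoc, hz2, Matrix.mul_smul, mul_one, one_mul] at h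
      conv_rhs => rw [← h]
      rw [smul_smul, inv_mul_cancel₀ hz0, one_smul]
    obtain ⟨P', hP'⟩ : ∃ P' : GL (Fin n) F, (P' : Matrix (Fin n) (Fin n) F) = GUConj.starQ q P.1 :=
      ⟨⟨GUConj.starQ q P.1, GUConj.starQ q (P⁻¹).1,
        by rw [← GUConj.starQ_mul hF, P.inv_mul, GUConj.starQ_one hF],
        by rw [← GUConj.starQ_mul hF, P.mul_inv, GUConj.starQ_one hF]⟩, rfl⟩
    have e2 : GUConj.starQ q (x : Matrix (Fin n) (Fin n) F) =
        (P'⁻¹).1 * Matrix.diagonal (fun i => z⁻¹ * -cv i) * P'.1 := by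
      have hd : GUConj.starQ q (Matrix.diagonal cv) = Matrix.diagonal (fun i => z⁻¹ * -cv i) := by
        ext i j
        rcases eq_or_ne i j with rfl | h
        · simp only [GUConj.starQ, Matrix.transpose_apply, Matrix.map_apply, Matrix.diagonal_apply_eq]
          have hwq : w ^ q = z⁻¹ * -w := by
            rw [hw, mul_inv, mul_neg, mul_assoc, inv_mul_cancel₀ hw0, mul_one]
            refine mul_right_cancel₀ hw0 ?_
            rw [← pow_succ, hneg, neg_mul, inv_mul_cancel₀ hw0]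
          rcases hcw i with h | h <;> rw [h]
          · exact hwq
          · rw [neg_pow, hodd.neg_one_pow, hwq]; ring
        · simp [GUConj.starQ, Matrix.diagonal_apply_ne _ h, Matrix.diagonal_apply_ne _ h.symm, zero_pow (show q ≠ 0 by omega)]
      rw [← hd, ← hmono, Units.val_mul, Units.val_mul, GUConj.starQ_mul hF, GUConj.starQ_mul hF, ← hP',
        show (P'⁻¹).1 * (P'.1 * (GUConj.starQ q x.1 * GUConj.starQ q (P⁻¹).1)) =
          GUConj.starQ q x.1 * GUConj.starQ q (P⁻¹).1 by rw [← mul_assoc, P'.inv_mul, one_mul],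
        mul_assoc, hP', ← GUConj.starQ_mul hF, P.mul_inv, GUConj.starQ_one hF, mul_one]
    have h := congrArg Matrix.charpoly (e1.symm.trans e2)
    have e3 : z⁻¹ • (x : Matrix (Fin n) (Fin n) F) = P.1 * Matrix.diagonal (fun i => z⁻¹ * cv i) * (P⁻¹).1 := by
      rw [show Matrix.diagonal (fun i => z⁻¹ * cv i) = z⁻¹ • Matrix.diagonal cv by rw [← Matrix.diagonal_smul]; rfl,
        ← hmono, Units.val_mul, Units.val_mul, Matrix.mul_smul, Matrix.smul_mul]
      simp only [← mul_assoc, P.mul_inv, one_mul]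
      rw [mul_assoc, P.mul_inv, mul_one]
    rw [e3, Matrix.coe_units_inv, Matrix.coe_units_inv, Matrix.charpoly_units_conj, Matrix.charpoly_units_conj', Matrix.charpoly_diagonal, Matrix.charpoly_diagonal,
      prod_two hcw (fun t => X - C (z⁻¹ * t)), prod_two hcw (fun t => X - C (z⁻¹ * -t)), ← ha, Fintype.card_fin, neg_neg] at h
    have hne' : z⁻¹ * w ≠ z⁻¹ * -w := fun e => hwne ((mul_left_cancel₀ (inv_ne_zero hz0) e).symm)
    have hk := congrArg (Polynomial.rootMultiplicity (z⁻¹ * w)) h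
    rw [Polynomial.rootMultiplicity_mul (mul_ne_zero (pow_ne_zero _ (X_sub_C_ne_zero _)) (pow_ne_zero _ (X_sub_C_ne_zero _))),
      Polynomial.rootMultiplicity_mul (mul_ne_zero (pow_ne_zero _ (X_sub_C_ne_zero _)) (pow_ne_zero _ (X_sub_C_ne_zero _))),
      Polynomial.rootMultiplicity_X_sub_C_pow, Polynomial.rootMultiplicity_X_sub_C_pow,
      Polynomial.rootMultiplicity_eq_zero (by rw [Polynomial.IsRoot.def, Polynomial.eval_pow, Polynomial.eval_sub, Polynomial.eval_X, Polynomial.eval_C]; exact pow_ne_zero _ (sub_ne_zero.2 hne')),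
      Polynomial.rootMultiplicity_eq_zero (by rw [Polynomial.IsRoot.def, Polynomial.eval_pow, Polynomial.eval_sub, Polynomial.eval_X, Polynomial.eval_C]; exact pow_ne_zero _ (sub_ne_zero.2 hne'))] at hk
    omega
  obtain ⟨T, hT, hT₀, hT₁⟩ := exists_coords hF hσ (polar_of_decomp hD hDs)
  obtain ⟨L, hL, -, hLc⟩ := exists_lift T
  -- the model
  obtain ⟨S, hSsq, hSf, hSb, hSc⟩ : ∃ S : Matrix (Fin m ⊕ Fin m) (Fin m ⊕ Fin m) F, S * S = z • 1 ∧
      (∀ p r, hypForm σ (S *ᵥ p) (S *ᵥ r) = hypForm σ p r) ∧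
      (((∀ i j, S (Sum.inr i) (Sum.inl j) = 0) ∧ ∀ i j, S (Sum.inl i) (Sum.inr j) = 0) ∨
        ((∀ i j, S (Sum.inl i) (Sum.inl j) = 0) ∧ ∀ i j, S (Sum.inr i) (Sum.inr j) = 0)) ∧
      S.charpoly = (X - C w) ^ a * (X - C (-w)) ^ (n - a) := by
    by_cases hsw : w ^ (q + 1) = 1 ∧ Odd a
    · obtain ⟨hw1, hao⟩ := hsw
      have ham : a = m := by
        by_contra hne
        have hbo : Odd (n - a) := by
          rcases Nat.even_or_odd (n - a) with h | h
          · exact absurd (Nat.even_iff.1 (show Even n from ⟨m, by omega⟩)) (by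
              rw [show n = a + (n - a) by omega, Nat.add_mod, Nat.odd_iff.1 hao, Nat.even_iff.1 h]; norm_num)
          · exact h
        rw [neg_pow, hbo.neg_one_pow, ← mul_assoc, mul_comm (w ^ a), mul_assoc, ← pow_add,
          show a + (n - a) = n by omega] at hdet1
        exact pow_ne_neg_one (w := w) (b := n) h2 (by omega : q + 1 ≠ 0) (by omega) hw1 hv (by linear_combination -hdet1)
      refine ⟨Matrix.fromBlocks 0 (w • 1) (w • 1) 0, ?_, fun p r => ?_, Or.inr ⟨fun i j => rfl, fun i j => rfl⟩, ?_⟩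
      · rw [Matrix.fromBlocks_multiply, ← Matrix.fromBlocks_one, Matrix.fromBlocks_smul, hw]
        simp [smul_smul]
      · rw [Matrix.fromBlocks_mulVec, Matrix.fromBlocks_mulVec]
        refine Finset.sum_congr rfl fun i _ => ?_
        have hww : w * σ w = 1 := by rw [hσ, ← pow_succ', hw1]
        simp [Matrix.smul_mulVec]
        linear_combination (p (Sum.inr i) * σ (r (Sum.inl i)) + p (Sum.inl i) * σ (r (Sum.inr i))) * hww
      · obtain ⟨Q, hQ⟩ : ∃ Q : Matrix (Fin m ⊕ Fin m) (Fin m ⊕ Fin m) F, Q = Matrix.fromBlocks 1 1 1 (-1) := ⟨_, rfl⟩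
        have hQQ : Q * Q = (2 : F) • 1 := by
          rw [hQ, Matrix.fromBlocks_multiply, ← Matrix.fromBlocks_one, Matrix.fromBlocks_smul]
          simp [two_smul]
        obtain ⟨Qu, hQu, hQu'⟩ : ∃ Qu : GL (Fin m ⊕ Fin m) F, Qu.1 = Q ∧ (Qu⁻¹).1 = (2 : F)⁻¹ • Q :=
          ⟨⟨Q, (2 : F)⁻¹ • Q, by rw [Matrix.mul_smul, hQQ, smul_smul, inv_mul_cancel₀ h2, one_smul],
            by rw [Matrix.smul_mul, hQQ, smul_smul, inv_mul_cancel₀ h2, one_smul]⟩, rfl, rfl⟩
        have hconj : Qu.1 * Matrix.diagonal (Sum.elim (fun _ => w) fun _ => -w) * (Qu⁻¹).1 =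
            Matrix.fromBlocks 0 (w • 1) (w • 1) 0 := by
          rw [hQu, hQu', Matrix.mul_smul, hQ, ← Matrix.fromBlocks_diagonal, Matrix.fromBlocks_multiply,
            Matrix.fromBlocks_multiply, Matrix.fromBlocks_smul]
          congr 1 <;> ext i j <;> by_cases hij : i = j <;> simp [hij, Matrix.diagonal] <;> field_simp <;> ring
        rw [← hconj, Matrix.coe_units_inv, Matrix.charpoly_units_conj, Matrix.charpoly_diagonal, Fintype.prod_sum_type]
        simp only [Sum.elim_inl, Sum.elim_inr, Finset.prod_const, Finset.card_univ, Fintype.card_fin]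
        rw [ham, show n - m = m by omega]
    · obtain ⟨d, d', hd, hd', hdp⟩ : ∃ d d' : Fin m → F, (∀ i, d i = w ∨ d i = -w) ∧
          (∀ i, d i * σ (d' i) = 1 ∧ d' i * σ (d i) = 1 ∧ (d' i = w ∨ d' i = -w)) ∧
          (∏ i, (X - C (d i))) * ∏ i, (X - C (d' i)) = (X - C w) ^ a * (X - C (-w)) ^ (n - a) := by
        rcases hNw with h1 | h1
        · have hae : Even a := (Nat.even_or_odd a).resolve_right fun h => hsw ⟨h1, h⟩
          obtain ⟨b, hb⟩ := hae
          obtain ⟨d, hd⟩ : ∃ d : Fin m → F, ∀ i, d i = if i.val < b then w else -w := ⟨_, fun i => rfl⟩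
          have hdw : ∀ i, d i = w ∨ d i = -w := fun i => by rw [hd]; split_ifs <;> simp
          have hnn : ∀ i, d i * σ (d i) = 1 := fun i => by
            rcases hdw i with h | h <;> rw [h, hσ, ← pow_succ']
            · exact h1
            · rw [neg_pow, hodd.add_one.neg_one_pow, one_mul, h1]
          refine ⟨d, d, hdw, fun i => ⟨hnn i, hnn i, hdw i⟩, ?_⟩
          have hcard : (Finset.univ.filter fun i => d i = w).card = b := by
            rw [show (Finset.univ.filter fun i => d i = w) = Finset.univ.filter (fun i : Fin m => i.val < b) from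
              Finset.filter_congr fun i _ => by rw [hd]; split_ifs with hh <;> simp [hh, hwne],
              Fin.card_filter_val_lt, min_eq_right (by omega)]
          rw [prod_two hdw (fun t => X - C t), hcard, Fintype.card_fin, show n - a = (m - b) + (m - b) by omega, hb,
            pow_add, pow_add]
          ring
        · have ham := hbal h1
          refine ⟨fun _ => w, fun _ => -w, fun i => Or.inl rfl, fun i => ⟨?_, ?_, Or.inr rfl⟩, ?_⟩
          · rw [map_neg, hσ, mul_neg, ← pow_succ', h1, neg_neg]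
          · rw [hσ, neg_mul, ← pow_succ', h1, neg_neg]
          · rw [Finset.prod_const, Finset.prod_const, Finset.card_univ, Fintype.card_fin, ham, show n - m = m by omega]
      refine ⟨Matrix.diagonal (Sum.elim d d'), ?_, hyp_diag σ (fun i => (hd' i).1) (fun i => (hd' i).2.1),
        Or.inl ⟨fun i j => Matrix.diagonal_apply_ne _ (by simp), fun i j => Matrix.diagonal_apply_ne _ (by simp)⟩, ?_⟩
      · rw [Matrix.diagonal_mul_diagonal, Matrix.smul_one_eq_diagonal]
        congr 1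
        funext i
        rcases i with i | i
        · rcases hd i with h | h <;> simp [h, hw]
        · rcases (hd' i).2.2 with h | h <;> simp [h, hw]
      · rw [Matrix.charpoly_diagonal, Fintype.prod_sum_type]
        simpa using hdp
  obtain ⟨y, hy⟩ : ∃ y : GL (Fin n) F, (y : Matrix (Fin n) (Fin n) F) = L S := by
    have hu : IsUnit S := by
      refine IsUnit.of_mul_eq_one (z⁻¹ • S) ?_
      rw [Matrix.mul_smul, hSsq, smul_smul, inv_mul_cancel₀ hz0, one_smul]
    exact ⟨(hu.map L).unit, IsUnit.unit_spec _⟩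
  obtain ⟨hygu, hyst⟩ := lift_mem hF hσ hD hT hT₀ hT₁ hL hSf hSb hy
  have hyc : (y : Matrix (Fin n) (Fin n) F).charpoly = (x : Matrix (Fin n) (Fin n) F).charpoly := by
    rw [hy, hLc, hSc, hchar]
  have hyd : (y : Matrix (Fin n) (Fin n) F).det = 1 := by
    rw [Matrix.det_eq_sign_charpoly_coeff, hyc, ← Matrix.det_eq_sign_charpoly_coeff, mem_sl.1 hx.2]
  have hyy : (y : Matrix (Fin n) (Fin n) F) * y.1 = z • 1 := by
    refine Matrix.ext_of_mulVec_single fun i => ?_
    obtain ⟨p, hp⟩ := T.surjective (Pi.single i 1)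
    rw [← hp, hy, ← mulVec_mulVec, hL, hL, mulVec_mulVec, hSsq, smul_mulVec, one_mulVec, map_smul, smul_mulVec,
      one_mulVec]
  have hp2 : p ≠ 2 := fun h => by
    subst h
    exact h2 (by exact_mod_cast CharP.cast_eq_zero F 2)
  have hcop : ∀ g : ↥(Cfsg.SU n F q), (g.1 : Matrix (Fin n) (Fin n) F) * g.1 = z • 1 → (orderOf g).Coprime p := by
    intro g hg
    have h1 : g ^ (2 * (q + 1)) = 1 := by
      refine Subtype.ext (Subtype.ext ?_)
      rw [SubmonoidClass.coe_pow, Matrix.SpecialLinearGroup.coe_pow, pow_mul, sq, hg, _root_.smul_pow, one_pow,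
        pow_succ', ← hσ, hzn, one_smul]
      rfl
    refine Nat.Coprime.coprime_dvd_left (orderOf_dvd_of_pow_eq_one h1) ?_
    rw [Nat.coprime_mul_iff_left]
    refine ⟨(Nat.coprime_primes Nat.prime_two Fact.out).2 (Ne.symm hp2), ?_⟩
    rw [Nat.coprime_comm, (Fact.out : p.Prime).coprime_iff_not_dvd]
    intro hd
    obtain ⟨k, hpp, hk⟩ := FiniteField.card F p
    have hpq : p ∣ q := (Fact.out : p.Prime).dvd_of_dvd_pow (n := 2) (hF ▸ hk ▸ dvd_pow_self p k.ne_zero)
    have := Nat.dvd_sub hd hpq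
    rw [Nat.add_sub_cancel_left] at this
    exact (Fact.out : p.Prime).not_dvd_one this
  obtain ⟨gx, hgx⟩ : ∃ gx : ↥(Cfsg.SU n F q), (gx.1 : Matrix (Fin n) (Fin n) F) = x :=
    ⟨⟨⟨x.1, mem_sl.1 hx.2⟩, hx.1⟩, rfl⟩
  obtain ⟨gy, hgy⟩ : ∃ gy : ↥(Cfsg.SU n F q), (gy.1 : Matrix (Fin n) (Fin n) F) = y :=
    ⟨⟨⟨y.1, hyd⟩, hygu⟩, rfl⟩
  obtain ⟨c', hc'⟩ := isConj_iff.1 (SUSemisimple.su_isConj hF p gy gx (hcop gy (by rw [hgy, hyy]))
    (hcop gx (by rw [hgx, hz2])) (by rw [hgx, hgy, hyc]))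
  obtain ⟨g, hg⟩ : ∃ g : GL (Fin n) F, g = SpecialLinearGroup.toGL c'.1 := ⟨_, rfl⟩
  refine ⟨g, ⟨hg ▸ c'.2, mem_sl.2 (hg ▸ c'.1.2)⟩, ?_⟩
  have : x = g * y * g⁻¹ := by
    have h := congrArg (fun u : ↥(Cfsg.SU n F q) => SpecialLinearGroup.toGL u.1) hc'
    simp only [Subgroup.coe_mul, Subgroup.coe_inv, map_mul, map_inv] at h
    rw [← hg, show SpecialLinearGroup.toGL gy.1 = y from Units.ext hgy,
      show SpecialLinearGroup.toGL gx.1 = x from Units.ext hgx] at h
    exact h.symm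
  rw [this, show g⁻¹ * (g * y * g⁻¹) * g = y by group]
  exact hyst

end CfsgLib.Classical22.PolarPair
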