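/-
Elements of prime order of `PSL_n(q)` fixing a pair of complementary subspaces.
-/
import Cfsg.Agent.Lib.Classical22.PrimeOrderSubspaces
import Cfsg.Agent.Lib.Classical22.NilpotentPartition

set_option autoImplicit false

namespace CfsgLib.Classical22.PrimeMaps

open Matrix NilPart

variable {F : Type*} [Field F] [Fintype F]

theorem dvd_grass_of_compl {p n m r : ℕ} [hp : Fact p.Prime] [CharP F p] [hr : Fact r.Prime] (hrp : r ≠ p)
    (hd : r ∣ Nat.card {P : Submodule F (Fin n → F) × Submodule F (Fin n → F) //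
      IsCompl P.1 P.2 ∧ Module.finrank F ↥P.1 = m}) : r ∣ Nat.card (Grass F (Fin n → F) m) := by
  classical
  have fib : ∀ U : Grass F (Fin n → F) m,
      Nonempty ({W : Submodule F (Fin n → F) // IsCompl U.1 W} ≃ (Fin m × Fin (n - m) → F)) := by
    intro U
    obtain ⟨C, hC⟩ := U.1.exists_isCompl
    have h : {W : Submodule F (Fin n → F) // IsCompl U.1 W} ≃ (C →ₗ[F] U.1) :=
      (Submodule.isComplEquivProj U.1).trans
        { toFun := fun f => f.1.comp C.subtype
          invFun := fun g => ⟨(LinearMap.ofIsCompl hC LinearMap.id g), fun x => by simp⟩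
          left_inv := fun f => Subtype.ext (LinearMap.ofIsCompl_eq hC (fun u => (f.2 u).symm) (fun c => rfl))
          right_inv := fun g => LinearMap.ext fun c => by simp }
    haveI : Finite (C →ₗ[F] U.1) := Module.finite_of_finite F
    haveI := Fintype.ofFinite (C →ₗ[F] U.1)
    refine ⟨h.trans (Fintype.equivOfCardEq ?_)⟩
    rw [Module.card_eq_pow_finrank (K := F), Module.finrank_linearMap, Fintype.card_fun, Fintype.card_prod,
      Fintype.card_fin, Fintype.card_fin, U.2]
    have := Submodule.finrank_add_eq_of_isCompl hC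
    rw [U.2, Module.finrank_fin_fun] at this
    rw [show Module.finrank F C = n - m by omega, mul_comm]
  have he : Nat.card {P : Submodule F (Fin n → F) × Submodule F (Fin n → F) //
      IsCompl P.1 P.2 ∧ Module.finrank F ↥P.1 = m} =
      Nat.card (Grass F (Fin n → F) m) * Fintype.card (Fin m × Fin (n - m) → F) := by
    rw [← Nat.card_eq_fintype_card, ← Nat.card_prod]
    refine Nat.card_congr (Equiv.trans ?_ ((Equiv.sigmaCongrRight fun U => (fib U).some).trans (Equiv.sigmaEquivProd _ _)))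
    exact
      { toFun := fun P => ⟨⟨P.1.1, P.2.2⟩, ⟨P.1.2, P.2.1⟩⟩
        invFun := fun P => ⟨(P.1.1, P.2.1), P.2.2, P.1.2⟩
        left_inv := fun P => rfl
        right_inv := fun P => rfl }
  rw [he, Fintype.card_fun] at hd
  refine (hr.out.dvd_mul.1 hd).resolve_right fun h => ?_
  obtain ⟨a, -, ha⟩ := FiniteField.card F p
  have := hr.out.dvd_of_dvd_pow h
  rw [ha] at this
  exact hrp ((Nat.prime_dvd_prime_iff_eq hr.out hp.out).1 (hr.out.dvd_of_dvd_pow this))

theorem exists_unipotent {p n : ℕ} [hp : Fact p.Prime] [CharP F p] (hn : 0 < n) {μ : Multiset ℕ}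
    (hμ : ∀ a ∈ μ, 0 < a ∧ a ≤ p) (hsum : μ.sum = n) :
    ∃ (A : Matrix (Fin n) (Fin n) F) (N : (Fin n → F) →ₗ[F] (Fin n → F)), A ^ p = 1 ∧ A.det = 1 ∧
      Matrix.toLin' A = 1 + N ∧ (∀ v, (N ^ p) v = 0) ∧
      (∀ k, Module.finrank F (LinearMap.range (N ^ k)) = prank μ k) ∧
      ((∀ a ∈ μ, a = 1) ∨ ∀ z : F, A ≠ z • 1) := by
  subst hsum
  obtain ⟨N, hN⟩ := exists_nilpotent F μ
  have hNp : ∀ v, (N ^ p) v = 0 := fun v => by
    have h0 : prank μ p = 0 := Multiset.sum_eq_zero fun x hx => by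
      obtain ⟨a, ha, rfl⟩ := Multiset.mem_map.1 hx
      have := (hμ a ha).2
      omega
    have h1 : LinearMap.range (N ^ p) = ⊥ := Submodule.finrank_eq_zero.1 ((hN p).trans h0)
    exact (Submodule.mem_bot F).1 (h1 ▸ LinearMap.mem_range_self _ v)
  obtain ⟨A, hA⟩ : ∃ A, A = LinearMap.toMatrix' (1 + N) := ⟨_, rfl⟩
  haveI : Nonempty (Fin μ.sum) := ⟨⟨0, hn⟩⟩
  have hpow : (1 + N) ^ p = 1 := by
    haveI : CharP ((Fin μ.sum → F) →ₗ[F] (Fin μ.sum → F)) p :=
      charP_of_injective_algebraMap (algebraMap F ((Fin μ.sum → F) →ₗ[F] (Fin μ.sum → F))).injective p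
    rw [add_pow_char_of_commute p (Commute.one_left _), one_pow, add_eq_left]
    exact LinearMap.ext hNp
  have hAp : A ^ p = 1 := by
    rw [hA]
    show LinearMap.toMatrixAlgEquiv' (1 + N) ^ p = 1
    rw [← map_pow, hpow, map_one]
  have hlin : Matrix.toLin' A = 1 + N := by rw [hA, Matrix.toLin'_toMatrix']
  have hdet : A.det = 1 := by
    have h : (A.det - 1) ^ p = 0 := by rw [sub_pow_char, ← Matrix.det_pow, hAp, Matrix.det_one, one_pow, sub_self]
    exact sub_eq_zero.1 (eq_zero_of_pow_eq_zero h)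
  refine ⟨A, N, hAp, hdet, hlin, hNp, hN, or_iff_not_imp_right.2 fun hs => ?_⟩
  push_neg at hs
  obtain ⟨z, hz⟩ := hs
  have hzp : z ^ p = 1 := by
    rw [hz, _root_.smul_pow, one_pow] at hAp
    simpa using congrFun (congrFun hAp ⟨0, hn⟩) ⟨0, hn⟩
  have hz1 : z = 1 := by
    have h : (z - 1) ^ p = 0 := by rw [sub_pow_char, hzp, one_pow, sub_self]
    exact sub_eq_zero.1 (eq_zero_of_pow_eq_zero h)
  rw [hz, hz1, one_smul, Matrix.toLin'_one] at hlin
  have hN0 : N = 0 := add_eq_left.1 hlin.symm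
  have h1 := hN 1
  rw [hN0, pow_one, LinearMap.range_zero, finrank_bot] at h1
  intro a ha
  have h2 := Multiset.single_le_sum (fun x _ => Nat.zero_le x) _ (Multiset.mem_map_of_mem (fun a => a - 1) ha)
  rw [← show prank μ 1 = (μ.map fun a => a - 1).sum from rfl, ← h1] at h2
  have := (hμ a ha).1
  omega

theorem fixed_decomp_iff {p q n m r : ℕ} [hp : Fact p.Prime] [CharP F p] (hq : Fintype.card F = q)
    (hm : 1 ≤ m) (hmn : 2 * m < n) [hr : Fact r.Prime]
    (hd : r ∣ Nat.card {P : Submodule F (Fin n → F) × Submodule F (Fin n → F) //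
      IsCompl P.1 P.2 ∧ Module.finrank F ↥P.1 = m}) :
    (∀ x : Matrix.SpecialLinearGroup (Fin n) F,
      (∃ c : F, ((x ^ r : Matrix.SpecialLinearGroup (Fin n) F) : Matrix (Fin n) (Fin n) F) =
        c • (1 : Matrix (Fin n) (Fin n) F)) →
      (∀ c : F, (x : Matrix (Fin n) (Fin n) F) ≠ c • (1 : Matrix (Fin n) (Fin n) F)) →
      ∃ U W : Submodule F (Fin n → F), IsCompl U W ∧ Module.finrank F ↥U = m ∧
        U.map (Matrix.toLin' (x : Matrix (Fin n) (Fin n) F)) ≤ U ∧
        W.map (Matrix.toLin' (x : Matrix (Fin n) (Fin n) F)) ≤ W) ↔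
    ((r = p ∧ 2 < p ∧ (∀ μ : Multiset ℕ, (∀ a ∈ μ, 0 < a ∧ a ≤ p) → μ.sum = n → ∃ ν : Multiset ℕ, ν ≤ μ ∧ ν.sum = m)) ∨
     (r = p ∧ p = 2 ∧ (Odd n ∨ Even m)) ∨
     (r ≠ p ∧
      ((orderOf (q : ZMod r) = 1 ∧ (r ∣ m ∨ (padicValNat r n ≤ padicValNat r (q - 1) ∧
          (r = 2 → Even n → q % 4 = 1)))) ∨
       (2 ≤ orderOf (q : ZMod r) ∧ orderOf (q : ZMod r) ≤ m ∧
          m % orderOf (q : ZMod r) ≤ n % orderOf (q : ZMod r))))) := by
  classical
  by_cases hrp : r = p
  · subst hrp
    rw [show ∀ P : Prop, (r ≠ r ∧ P) ↔ False from fun P => ⟨fun h => h.1 rfl, False.elim⟩, or_false]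
    have two : r = 2 → ((Odd n ∨ Even m) ↔
        ∀ μ : Multiset ℕ, (∀ a ∈ μ, 0 < a ∧ a ≤ r) → μ.sum = n → ∃ ν : Multiset ℕ, ν ≤ μ ∧ ν.sum = m) := by
      rintro rfl
      constructor
      · intro h μ hμ hsum
        have hsplit : μ = Multiset.replicate (μ.count 2) 2 + Multiset.replicate (μ.count 1) 1 := by
          refine Multiset.ext.2 fun a => ?_
          rw [Multiset.count_add, Multiset.count_replicate, Multiset.count_replicate]
          by_cases h2 : 2 = a
          · subst h2; simp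
          by_cases h1 : 1 = a
          · subst h1; simp
          rw [if_neg h2, if_neg h1, Multiset.count_eq_zero]
          intro ha
          have := hμ a ha
          omega
        obtain ⟨a, ha⟩ : ∃ a, a = μ.count 2 := ⟨_, rfl⟩
        obtain ⟨b, hb⟩ : ∃ b, b = μ.count 1 := ⟨_, rfl⟩
        rw [← ha, ← hb] at hsplit
        have hn : 2 * a + b = n := by
          rw [← hsum, hsplit, Multiset.sum_add, Multiset.sum_replicate, Multiset.sum_replicate]
          simp [mul_comm]
        obtain ⟨s, hs⟩ : ∃ s, s = min a (m / 2) := ⟨_, rfl⟩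
        refine ⟨Multiset.replicate s 2 + Multiset.replicate (m - 2 * s) 1, ?_, ?_⟩
        · rw [hsplit]
          refine add_le_add ((Multiset.replicate_le_replicate 2).2 (by omega))
            ((Multiset.replicate_le_replicate 1).2 ?_)
          rcases h with h | h
          · have := Nat.odd_iff.1 h; omega
          · have := Nat.even_iff.1 h; omega
        · rw [Multiset.sum_add, Multiset.sum_replicate, Multiset.sum_replicate]
          simp
          omega
      · intro h
        by_contra hc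
        push_neg at hc
        obtain ⟨k, hk⟩ : Even n := Nat.not_odd_iff_even.1 hc.1
        obtain ⟨ν, hν, hνm⟩ := h (Multiset.replicate k 2)
          (fun a ha => by rw [Multiset.eq_of_mem_replicate ha]; omega)
          (by rw [Multiset.sum_replicate, smul_eq_mul]; omega)
        rw [Multiset.eq_replicate_card.2 (fun b hb => Multiset.eq_of_mem_replicate (Multiset.mem_of_le hν hb)),
          Multiset.sum_replicate, smul_eq_mul] at hνm
        exact hc.2 ⟨ν.card, by omega⟩
    refine Iff.trans (b := ∀ μ : Multiset ℕ, (∀ a ∈ μ, 0 < a ∧ a ≤ r) → μ.sum = n → ∃ ν : Multiset ℕ, ν ≤ μ ∧ ν.sum = m) ?_ ?_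
    swap
    · constructor
      · intro h
        rcases (show r = 2 ∨ 2 < r by have := hp.out.two_le; omega) with h2 | h2
        · exact Or.inr ⟨rfl, h2, (two h2).2 h⟩
        · exact Or.inl ⟨rfl, h2, h⟩
      · rintro (⟨-, -, h⟩ | ⟨-, h2, h⟩)
        · exact h
        · exact (two h2).1 h
    constructor
    · intro h μ hμ hsum
      obtain ⟨A, N, hA, hdet, hlin, hNp, hrank, hns⟩ := exists_unipotent (F := F) (p := r) (n := n) (by omega) hμ hsum
      rcases hns with hall | hns
      · refine ⟨Multiset.replicate m 1, ?_, by simp⟩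
        rw [Multiset.eq_replicate_card.2 hall]
        refine (Multiset.replicate_le_replicate 1).2 ?_
        have := hsum
        rw [Multiset.eq_replicate_card.2 hall, Multiset.sum_replicate, smul_eq_mul, mul_one] at this
        omega
      · obtain ⟨x, hx⟩ : ∃ x : Matrix.SpecialLinearGroup (Fin n) F, (x : Matrix (Fin n) (Fin n) F) = A :=
          ⟨⟨A, hdet⟩, rfl⟩
        obtain ⟨U, W, hc, hU, hUx, hWx⟩ := h x
          ⟨1, by rw [Matrix.SpecialLinearGroup.coe_pow, hx, one_smul]; exact hA⟩ (by rw [hx]; exact hns)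
        rw [hx] at hUx hWx
        have hInv : ∀ X : Submodule F (Fin n → F), X.map (Matrix.toLin' A) ≤ X → Inv N X := by
          intro X hX w hw
          have h1 := (inv_iff_map A X).1 hX w hw
          rw [hlin, LinearMap.add_apply, Module.End.one_apply, X.add_mem_iff_right hw] at h1
          exact h1
        obtain ⟨ν, hν, hνs⟩ := split_partition hNp (fun a ha => (hμ a ha).1) hrank (hInv U hUx) (hInv W hWx) hc
        exact ⟨ν, hν, hνs.trans hU⟩
    · intro h x ⟨c, hc⟩ hns
      rw [Matrix.SpecialLinearGroup.coe_pow] at hc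
      have hc0 : c ≠ 0 := fun h0 => by
        have h := congrArg Matrix.det hc
        haveI : Nonempty (Fin n) := ⟨⟨0, by omega⟩⟩
        rw [Matrix.det_pow, x.det_coe, one_pow, h0, zero_smul, Matrix.det_zero] at h
        exact one_ne_zero h
      haveI : ExpChar F r := ExpChar.prime hp.out
      obtain ⟨s, rfl⟩ : ∃ s : F, s ^ r = c :=
        (frobenius_inj F r |> Finite.injective_iff_surjective.1) c
      have hs : s ≠ 0 := fun h0 => hc0 (by rw [h0, zero_pow hp.out.ne_zero])
      obtain ⟨N, hN⟩ : ∃ N, N = s⁻¹ • Matrix.toLin' (x : Matrix (Fin n) (Fin n) F) - 1 := ⟨_, rfl⟩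
      haveI : Nonempty (Fin n) := ⟨⟨0, by omega⟩⟩
      haveI : CharP ((Fin n → F) →ₗ[F] (Fin n → F)) r :=
        charP_of_injective_algebraMap (algebraMap F ((Fin n → F) →ₗ[F] (Fin n → F))).injective r
      have hNp : N ^ r = 0 := by
        rw [hN, sub_pow_char_of_commute r (Commute.one_right _), one_pow, _root_.smul_pow, ← Matrix.toLin'_pow, hc,
          map_smul, Matrix.toLin'_one, smul_smul, _root_.inv_pow, inv_mul_cancel₀ (pow_ne_zero _ hs), one_smul]
        exact sub_self _
      obtain ⟨μ, hμ, hsum, -, hsplit⟩ := exists_partition (N := N) (X := ⊤) (fun _ _ => Submodule.mem_top) (p := r)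
        fun v _ => by rw [hNp]; rfl
      rw [finrank_top, Module.finrank_fin_fun] at hsum
      obtain ⟨ν, hν, hνs⟩ := h μ hμ hsum
      obtain ⟨U, W, hU, hW, hi, hsup, hUd⟩ := hsplit ν hν
      have hInv : ∀ X : Submodule F (Fin n → F), Inv N X →
          X.map (Matrix.toLin' (x : Matrix (Fin n) (Fin n) F)) ≤ X := by
        intro X hX
        refine (inv_iff_map _ X).2 fun w hw => ?_
        have h1 := hX w hw
        rw [hN, LinearMap.sub_apply, Module.End.one_apply, LinearMap.smul_apply, X.sub_mem_iff_left hw,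
          X.smul_mem_iff (inv_ne_zero hs)] at h1
        exact h1
      exact ⟨U, W, ⟨disjoint_iff.2 hi, codisjoint_iff.2 hsup⟩, hUd.trans hνs, hInv U hU, hInv W hW⟩
  · have hd' := dvd_grass_of_compl hrp hd
    have key := fixed_subspace_iff (F := F) hq (show 2 ≤ n by omega) hm (show 2 * m ≤ n by omega) hd'
    rw [show ∀ P : Prop, (r = p ∧ P) ↔ False from fun P => ⟨fun h => hrp h.1, False.elim⟩,
      show ∀ P : Prop, (r = p ∧ P) ↔ False from fun P => ⟨fun h => hrp h.1, False.elim⟩, false_or, false_or]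
    constructor
    · intro h
      refine key.1 fun x hc hns => ?_
      obtain ⟨U, W, -, hU, hUx, -⟩ := h x hc hns
      exact ⟨U, hU, hUx⟩
    · intro h x hc hns
      obtain ⟨U, hU, hUx⟩ := key.2 h x hc hns
      obtain ⟨c, hc⟩ := hc
      rw [Matrix.SpecialLinearGroup.coe_pow] at hc
      have hc0 : c ≠ 0 := fun h0 => by
        have h := congrArg Matrix.det hc
        haveI : Nonempty (Fin n) := ⟨⟨0, by omega⟩⟩
        rw [Matrix.det_pow, x.det_coe, one_pow, h0, zero_smul, Matrix.det_zero] at h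
        exact one_ne_zero h
      obtain ⟨W, hW, -, hi, hsup⟩ := exists_compl_in (natCast_ne_zero_of_ne (p := p) hrp) hc0
        (f := Matrix.toLin' (x : Matrix (Fin n) (Fin n) F))
        (fun v => by rw [← Matrix.toLin'_pow, hc, map_smul, Matrix.toLin'_one]; rfl)
        (U := ⊤) (fun _ _ => Submodule.mem_top) ((inv_iff_map _ U).1 hUx) le_top
      exact ⟨U, W, ⟨disjoint_iff.2 hi, codisjoint_iff.2 hsup⟩, hU, hUx, (inv_iff_map _ W).2 hW⟩

end CfsgLib.Classical22.PrimeMaps
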