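/-
A single block commuting with a self-adjoint element of a field.
-/
import Cfsg.Agent.Lib.Classical22.PrimeOrderUnitaryTypeMain

set_option autoImplicit false

namespace CfsgLib.Classical22.PrimeMaps.FType

open Module Polynomial Matrix CfsgLib.Classical Cfsg CfsgLib.Classical22.PrimeMaps.Symp

universe u

variable {F : Type u} [Field F] [Fintype F] {d : ℕ}

/-- A commuting self-adjoint map satisfies `A ^ (q ^ b) = A` somewhere, `b` half the block dimension. -/
theorem block_fixed {r e : ℕ} [hr : Fact r.Prime] (hr2 : r ≠ 2) (hrF : (r : F) ≠ 0)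
    (he : e = orderOf (Fintype.card F : ZMod r)) (he0 : 0 < e)
    (hc : blockDim e ≤ 2 * d) {f : Module.End F (Fin d ⊕ Fin d → F)} (hf : ∀ v, (f ^ r) v = v)
    (hB : ∀ u v, spBilin d F (f u) (f v) = spBilin d F u v) (hfd : finrank F (fixed f) = 2 * d - blockDim e)
    {A : Module.End F (Fin d ⊕ Fin d → F)} (hAinj : Function.Injective A)
    (hAs : ∀ u v, spBilin d F (A u) v = spBilin d F u (A v)) (hfA : ∀ v, f (A v) = A (f v)) :
    ∃ s, s ≠ 0 ∧ (A ^ (Fintype.card F ^ (blockDim e / 2))) s = A s := by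
  classical
  obtain ⟨B, hBd⟩ : ∃ B, B = spBilin d F := ⟨_, rfl⟩
  rw [← hBd] at hB hAs
  have hA : B.IsAlt := hBd ▸ spBilin_isAlt
  obtain ⟨W, hWdef⟩ : ∃ W, W = LinearMap.range (f - 1) := ⟨_, rfl⟩
  have hWmem : ∀ w, w ∈ W ↔ ∃ u, f u - u = w := fun w => by rw [hWdef]; exact Iff.rfl
  have hWinv : Inv f W := fun w hw => by
    obtain ⟨u, rfl⟩ := (hWmem w).1 hw
    exact (hWmem _).2 ⟨f u, by rw [map_sub]⟩
  have hWA : ∀ w ∈ W, A w ∈ W := fun w hw => by
    obtain ⟨u, rfl⟩ := (hWmem w).1 hw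
    exact (hWmem _).2 ⟨A u, by rw [hfA, map_sub]⟩
  have horth : ∀ w ∈ W, ∀ y, f y = y → B w y = 0 := fun w hw y hy => by
    obtain ⟨u, rfl⟩ := (hWmem w).1 hw
    rw [map_sub, LinearMap.sub_apply, ← hB u y, hy, sub_self]
  have hfn : Nd B (fixed f) := by
    have h := fixed_nd hrF hf hB (X := (⊤ : Submodule F (Fin d ⊕ Fin d → F))) (fun _ _ => Submodule.mem_top)
      (hBd ▸ nd_top)
    rwa [top_inf_eq] at h
  have hWfix : ∀ w ∈ W, f w = w → w = 0 := fun w hw hw' =>
    hfn w (mem_fixed.2 hw') fun y hy => horth w hw y (mem_fixed.1 hy)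
  have hWd : finrank F W = blockDim e := by
    have h := LinearMap.finrank_range_add_finrank_ker (f - 1)
    rw [← hWdef, show LinearMap.ker (f - 1) = fixed f from rfl, hfd, finrank_std] at h
    omega
  have hsup : W ⊔ fixed f = ⊤ := by
    refine Submodule.eq_top_of_finrank_eq ?_
    have h := Submodule.finrank_sup_add_finrank_inf_eq W (fixed f)
    rw [show W ⊓ fixed f = ⊥ from eq_bot_iff.2 fun w hw => (Submodule.mem_bot F).2 (hWfix w hw.1 (mem_fixed.1 hw.2)),
      finrank_bot, add_zero, hWd, hfd] at h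
    rw [h, finrank_std]
    omega
  have hWn : Nd B W := fun u hu h => by
    subst hBd
    refine sympForm_nondeg fun v => ?_
    rw [← spBilin_apply]
    obtain ⟨a, ha, b, hb, rfl⟩ := Submodule.mem_sup.1 (hsup ▸ (Submodule.mem_top : v ∈ ⊤))
    rw [map_add, h a ha, horth u hu b (mem_fixed.1 hb), add_zero]
  obtain ⟨S, hS, hSW, hS0, hSm⟩ := exists_simple f hWinv fun h => by
    rw [h, finrank_bot] at hWd
    have := blockDim_pos he0
    omega
  have hSd : finrank F S = e :=
    he ▸ simple_dim_order f hf hS hS0 hSm hrF fun w hw => hWfix w (hSW hw)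
  obtain ⟨P, hP, hPr, hPd, hPS⟩ := simple_minpoly f hS hS0 hSm
    (A := X ^ r - 1) (by simpa using X_pow_sub_C_ne_zero hr.out.pos (1 : F)) (fun w _ => by simp [hf])
  rw [hSd] at hPd
  obtain ⟨s, hs, hs0⟩ := S.exists_mem_ne_zero_of_ne_bot hS0
  have hcomm : ∀ (a : F[X]) v, aeval f a (A v) = A (aeval f a v) := fun a => by
    induction a using Polynomial.induction_on with
    | C c => intro v; simp
    | add a b ha hb => intro v; simp [ha, hb]
    | monomial n c ih =>
      intro v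
      rw [show Polynomial.C c * X ^ (n + 1) = (Polynomial.C c * X ^ n) * X by ring, map_mul _ _ X, aeval_X,
        Module.End.mul_apply, hfA, ih, Module.End.mul_apply]
  have hAS : ∀ w ∈ S, A w ∈ S := by
    rcases Nat.even_or_odd e with hev | hod
    · have hSW' : S = W := Submodule.eq_of_le_of_finrank_eq hSW (by rw [hSd, hWd, blockDim, if_pos hev])
      rw [hSW']; exact hWA
    obtain ⟨S', hS'def⟩ : ∃ S', S' = S.map A := ⟨_, rfl⟩
    have hS'd : finrank F S' = e := by
      rw [hS'def, (Submodule.equivMapOfInjective A hAinj S).symm.finrank_eq, hSd]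
    by_contra hcon
    have hne : S ⊓ S' = ⊥ := by
      by_contra hne
      have hi : Inv f (S ⊓ S') := fun w hw => ⟨hS w hw.1, by
        obtain ⟨u, hu, rfl⟩ := hS'def ▸ hw.2
        rw [hfA, hS'def]; exact ⟨f u, hS u hu, rfl⟩⟩
      have heq := Submodule.eq_of_le_of_finrank_eq (inf_eq_left.1 (hSm _ hi inf_le_left hne) : S ≤ S') (by rw [hSd, hS'd])
      exact hcon fun w hw => by rw [heq, hS'def]; exact Submodule.mem_map_of_mem hw
    have hS'W : S' ≤ W := by
      rw [hS'def]; rintro _ ⟨u, hu, rfl⟩; exact hWA u (hSW hu)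
    have hSS : S ⊔ S' = W := by
      refine Submodule.eq_of_le_of_finrank_eq (sup_le hSW hS'W) ?_
      have h := Submodule.finrank_sup_add_finrank_inf_eq S S'
      rw [hne, finrank_bot, add_zero, hSd, hS'd] at h
      rw [h, hWd, blockDim, if_neg (Nat.not_even_iff_odd.2 hod)]
      omega
    have hPW : ∀ w ∈ W, aeval f P w = 0 := fun w hw => by
      obtain ⟨a, ha, b, hb, rfl⟩ := Submodule.mem_sup.1 (hSS.ge hw)
      rw [hS'def] at hb
      obtain ⟨c, hc', rfl⟩ := hb
      rw [map_add, hPS a ha, hcomm, hPS c hc', map_zero, add_zero]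
    have hP' : ∀ w ∈ W, aeval (f ^ (r - 1)) P w = 0 := fun w hw => by
      have hmem : aeval (f ^ (r - 1)) P w ∈ W := inv_aeval (pow_inv hWinv (r - 1)) P w hw
      refine hWn _ hmem fun x hx => ?_
      rw [← LinearMap.IsAlt.neg hA, ← adjoint hr.out.pos hf hB, hPW x hx, map_zero, LinearMap.zero_apply, neg_zero]
    have hPi : P ∣ P.comp (X ^ (r - 1)) := by
      by_contra hnd
      obtain ⟨u, v, huv⟩ := (hP.coprime_iff_not_dvd).2 hnd
      have h := congrArg (fun g : F[X] => aeval f g s) huv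
      simp only [map_add, map_mul, map_one, LinearMap.add_apply, Module.End.mul_apply, Module.End.one_apply,
        hPS s hs, aeval_comp, aeval_X_pow, hP' s (hSW hs), map_zero, add_zero] at h
      exact hs0 h.symm
    obtain ⟨Q, hQ⟩ := UType.eq_one_of_self_recip (r := r) hP hPd hod hr2 hPr hPi
    have h := congrArg (fun g : F[X] => aeval f g s) hQ
    rw [mul_comm] at h
    simp only [map_sub, aeval_X, map_one, LinearMap.sub_apply, Module.End.one_apply, map_mul, Module.End.mul_apply,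
      hPS s hs, map_zero] at h
    exact hs0 (hWfix s (hSW hs) (sub_eq_zero.1 h))
  obtain ⟨Z, hZ⟩ : ∃ Z : Submodule F (Fin d ⊕ Fin d → F), ∀ z, z ∈ Z ↔ ∃ a : F[X], aeval f a s = z :=
    ⟨LinearMap.range ((LinearMap.applyₗ s).comp (aeval f : F[X] →ₐ[F] _).toLinearMap), fun z => Iff.rfl⟩
  have hZS : Z = S := hSm _ (fun z hz => by
      obtain ⟨a, rfl⟩ := (hZ z).1 hz
      exact (hZ _).2 ⟨X * a, by rw [map_mul, aeval_X, Module.End.mul_apply]⟩)
    (fun z hz => by obtain ⟨a, rfl⟩ := (hZ z).1 hz; exact inv_aeval hS a s hs)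
    fun h => hs0 ((Submodule.mem_bot F).1 (h ▸ (hZ s).2 ⟨1, by rw [map_one, Module.End.one_apply]⟩))
  obtain ⟨g, hg⟩ := (hZ (A s)).1 (hZS.ge (hAS s hs))
  have hgA : ∀ x ∈ S, aeval f g x = A x := fun x hx => by
    obtain ⟨a, rfl⟩ := (hZ x).1 (hZS.ge hx)
    rw [← hcomm, ← hg, ← Module.End.mul_apply, ← map_mul, mul_comm, map_mul, Module.End.mul_apply]
  have hpowA : ∀ n : ℕ, ∀ x ∈ S, (A ^ n) x = aeval f (g ^ n) x := fun n => by
    induction n with
    | zero => intro x _; simp
    | succ n ih =>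
      intro x hx
      rw [pow_succ' A, Module.End.mul_apply, ih x hx, ← hgA _ (inv_aeval hS _ x hx), pow_succ' g, map_mul,
        Module.End.mul_apply]
  refine ⟨s, hs0, ?_⟩
  rcases Nat.even_or_odd e with hev | hod
  · obtain ⟨m, hm⟩ : ∃ m, e = m + m := hev
    rw [show blockDim e / 2 = m by rw [blockDim, if_pos ⟨m, hm⟩]; omega]
    have hfh := pow_half hf he hm (by omega)
    have hSW' : S = W := Submodule.eq_of_le_of_finrank_eq hSW (by rw [hSd, hWd, blockDim, if_pos ⟨m, hm⟩])
    rw [hpowA _ s hs, ← aeval_pow_card, hfh, ← sub_eq_zero]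
    refine hWn _ (W.sub_mem (inv_aeval (pow_inv hWinv (r - 1)) g s (hSW hs)) (hWA s (hSW hs))) fun x hx => ?_
    rw [← LinearMap.IsAlt.neg hA, map_sub, ← adjoint hr.out.pos hf hB, hgA x (hSW'.ge hx), hAs, sub_self, neg_zero]
  · rw [show blockDim e / 2 = e by rw [blockDim, if_neg (Nat.not_even_iff_odd.2 hod)]; omega]
    have hfe : f ^ (Fintype.card F ^ e) = f := by
      have h1 : ((Fintype.card F ^ e : ℕ) : ZMod r) = ((1 : ℕ) : ZMod r) := by
        rw [Nat.cast_pow, he, pow_orderOf_eq_one, Nat.cast_one]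
      rw [ZMod.natCast_eq_natCast_iff', Nat.mod_eq_of_lt hr.out.one_lt] at h1
      rw [← Nat.div_add_mod (Fintype.card F ^ e) r, h1, pow_add, pow_mul,
        show f ^ r = 1 from LinearMap.ext hf, one_pow, one_mul, pow_one]
    rw [hpowA _ s hs, ← aeval_pow_card, hfe, hgA s hs]

end CfsgLib.Classical22.PrimeMaps.FType
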