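/-
The symplectic group over a self-adjoint field of matrices, and the index.
-/
import Cfsg.Agent.Lib.Classical22.PrimeOrderFieldTypeBasic
import Cfsg.Agent.Lib.Classical.AltBasis
import Cfsg.Agent.Lib.Classical.SpSimple
import Cfsg.Agent.Lib.Classical.SpOrder
import Mathlib.RingTheory.Trace.Basic

set_option autoImplicit false

namespace CfsgLib.Classical22.PrimeMaps.FType

open Module Matrix CfsgLib.Classical Cfsg

universe u

variable {F : Type u} [Field F] [Fintype F] {d k : ℕ}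

theorem card_spGL' : Nat.card (Cfsg.spGL d F) = Nat.card (symplecticGroup (Fin d) F) := by
  refine (Nat.card_eq_of_bijective spToSpGL ⟨fun a b h => ?_, fun x => ?_⟩).symm
  · exact Subtype.ext (congrArg (fun y : Cfsg.spGL d F => y.1.1) h)
  · exact ⟨⟨x.1.1, mem_sp_iff.2 x.2⟩, Subtype.ext (Units.ext rfl)⟩

/-- The space is symplectic over the field. -/
theorem exists_embed (hd : 0 < d) (hk : k.Prime) {K : Subalgebra F (Matrix (Fin d ⊕ Fin d) (Fin d ⊕ Fin d) F)}
    (hK : Cfsg.Geo.IsFieldSubalgebra k K) (hKf : Cfsg.Geo.IsSelfAdjointFor (sympForm d F) K)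
    (hKalt : ∀ a ∈ K, ∀ v, sympForm d F (a *ᵥ v) v = 0) :
    ∃ m, d = k * m ∧ Fintype.card F ^ (k * m ^ 2) * ∏ i ∈ Finset.range m, (Fintype.card F ^ (2 * (k * (i + 1))) - 1) ∣
      Nat.card ((Cfsg.Geo.subalgebraNormalizer K).subgroupOf (Cfsg.spGL d F)) := by
  classical
  haveI : Nonempty (Fin d) := ⟨⟨0, hd⟩⟩
  letI : Field K := (isFieldK hK).toField
  haveI : Module.Finite F K := Module.finite_of_finrank_eq_succ (n := k - 1) (by
    rw [hK.finrank_eq]; have := hk.pos; omega)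
  haveI : Finite K := Module.finite_of_finite F
  letI := Fintype.ofFinite K
  letI : Module K (Fin d ⊕ Fin d → F) :=
    { smul := fun a v => a.1 *ᵥ v
      one_smul := fun v => Matrix.one_mulVec v
      mul_smul := fun a b v => (Matrix.mulVec_mulVec v a.1 b.1).symm
      smul_zero := fun a => Matrix.mulVec_zero a.1
      smul_add := fun a u v => Matrix.mulVec_add a.1 u v
      add_smul := fun a b v => Matrix.add_mulVec a.1 b.1 v
      zero_smul := fun v => Matrix.zero_mulVec v }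
  have hsmul : ∀ (a : K) (v : Fin d ⊕ Fin d → F), a • v = a.1 *ᵥ v := fun a v => rfl
  haveI : IsScalarTower F K (Fin d ⊕ Fin d → F) := ⟨fun c a v => by
    rw [hsmul, hsmul, Subalgebra.coe_smul, smul_mulVec]⟩
  haveI : Module.Finite K (Fin d ⊕ Fin d → F) := Module.Finite.right F K _
  have htr := traceForm_nondegenerate F K
  obtain ⟨ψ, hψ⟩ : ∃ ψ : (Fin d ⊕ Fin d → F) → (Fin d ⊕ Fin d → F) → Module.Dual F K,
      ∀ u v (a : K), ψ u v a = sympForm d F (a • u) v :=
    ⟨fun u v => { toFun := fun a => sympForm d F (a • u) v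
                  map_add' := fun a b => by rw [add_smul, sympForm_add_left]
                  map_smul' := fun c a => by rw [smul_assoc, sympForm_smul_left, RingHom.id_apply, smul_eq_mul] },
      fun u v a => rfl⟩
  obtain ⟨h, hh⟩ : ∃ h : (Fin d ⊕ Fin d → F) → (Fin d ⊕ Fin d → F) → K,
      ∀ u v (a : K), Algebra.trace F K (h u v * a) = sympForm d F (a • u) v :=
    ⟨fun u v => ((Algebra.traceForm F K).toDual htr).symm (ψ u v), fun u v a => by
      rw [← Algebra.traceForm_apply, ← LinearMap.BilinForm.toDual_def htr, LinearEquiv.apply_symm_apply, hψ]⟩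
  have hext : ∀ {x y : K}, (∀ a : K, Algebra.trace F K (x * a) = Algebra.trace F K (y * a)) → x = y := by
    intro x y e
    refine sub_eq_zero.1 (htr.1 (x - y) fun a => ?_)
    rw [Algebra.traceForm_apply, sub_mul, map_sub, e a, sub_self]
  obtain ⟨Bh, hBh⟩ : ∃ Bh : LinearMap.BilinForm K (Fin d ⊕ Fin d → F), ∀ u v, Bh u v = h u v :=
    ⟨LinearMap.mk₂ K h
      (fun u u' v => hext fun a => by rw [add_mul, map_add, hh, hh, hh, smul_add, sympForm_add_left])
      (fun c u v => hext fun a => by rw [hh, smul_eq_mul, mul_comm c, mul_assoc, hh, smul_smul, mul_comm a c])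
      (fun u v v' => hext fun a => by rw [add_mul, map_add, hh, hh, hh, sympForm_add_right])
      (fun c u v => hext fun a => by
        rw [hh, smul_eq_mul, mul_comm c, mul_assoc, hh, hsmul c v, ← hKf c.1 c.2, ← hsmul, smul_smul]), fun u v => rfl⟩
  obtain ⟨m, hm, e, he⟩ := exists_symp_equiv Bh
    (fun v => by
      rw [hBh]
      exact hext fun a => by rw [hh, zero_mul, map_zero, hsmul]; exact hKalt a.1 a.2 v)
    (fun v hv => sympForm_nondeg fun w => by
      rw [show sympForm d F v w = Algebra.trace F K (h v w * 1) by rw [hh, one_smul], ← hBh, hv w, zero_mul, map_zero])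
  have hdim := Module.finrank_mul_finrank F K (Fin d ⊕ Fin d → F)
  rw [hK.finrank_eq, hm, Module.finrank_pi, Fintype.card_sum, Fintype.card_fin] at hdim
  have hdkm : d = k * m := by linarith
  refine ⟨m, hdkm, ?_⟩
  have hform : ∀ u v, sympForm d F u v = Algebra.trace F K (h u v) := fun u v => by
    rw [← mul_one (h u v), hh, one_smul]
  obtain ⟨φ, hφ⟩ : ∃ φ : symplecticGroup (Fin m) K → Matrix (Fin d ⊕ Fin d) (Fin d ⊕ Fin d) F,
      ∀ g x, φ g *ᵥ e x = e (g.1 *ᵥ x) :=
    ⟨fun g => LinearMap.toMatrix' ((e.toLinearMap ∘ₗ g.1.mulVecLin ∘ₗ e.symm.toLinearMap).restrictScalars F),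
      fun g x => by
      rw [← Matrix.toLin'_apply (LinearMap.toMatrix' _), Matrix.toLin'_toMatrix']
      simp⟩
  have ext' : ∀ {A B : Matrix (Fin d ⊕ Fin d) (Fin d ⊕ Fin d) F}, (∀ x, A *ᵥ e x = B *ᵥ e x) → A = B :=
    fun {A B} h => Matrix.ext_of_mulVec_single fun i => by
      have h' := h (e.symm (Pi.single i 1))
      rwa [e.apply_symm_apply] at h'
  have hsp : ∀ g, φ g ∈ symplecticGroup (Fin d) F := by
    intro g
    rw [mem_sp_iff]
    intro u v
    obtain ⟨x, rfl⟩ := e.surjective u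
    obtain ⟨y, rfl⟩ := e.surjective v
    rw [hφ, hφ, hform, hform, ← hBh, ← hBh, he, he, sp_form]
  obtain ⟨Φ, hΦ⟩ : ∃ Φ : symplecticGroup (Fin m) K →* symplecticGroup (Fin d) F, ∀ g, (Φ g).1 = φ g :=
    ⟨MonoidHom.mk' (fun g => (⟨φ g, hsp g⟩ : symplecticGroup (Fin d) F)) (fun g g' => Subtype.ext (ext' fun x => by
      show φ (g * g') *ᵥ e x = (φ g * φ g') *ᵥ e x
      rw [← mulVec_mulVec, hφ, hφ, hφ, Submonoid.coe_mul, mulVec_mulVec])), fun g => rfl⟩
  have hcomm : ∀ g, ∀ a : K, φ g * a.1 = a.1 * φ g := fun g a => ext' fun x => by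
    rw [← mulVec_mulVec, ← mulVec_mulVec, hφ, ← hsmul, ← hsmul, ← map_smul e, hφ, ← map_smul e, Matrix.mulVec_smul]
  have hmem : ∀ g, spToSpGL (Φ g) ∈ (Cfsg.Geo.subalgebraNormalizer K).subgroupOf (Cfsg.spGL d F) := by
    intro g
    rw [Subgroup.mem_subgroupOf]
    have hval : ((spToSpGL (Φ g)).1 : Matrix (Fin d ⊕ Fin d) (Fin d ⊕ Fin d) F) = φ g := hΦ g
    intro x
    constructor
    · intro hx
      rw [hval, hcomm g ⟨x, hx⟩, mul_assoc, ← hval, Units.mul_inv, mul_one]
      exact hx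
    · intro hx
      have e1 := hcomm g ⟨_, hx⟩
      change φ g * (_ * _ * _) = _ * _ * _ * φ g at e1
      have e2 : x = (spToSpGL (Φ g)).1.1 * x * ((spToSpGL (Φ g)).1⁻¹ : GL (Fin d ⊕ Fin d) F).1 := by
        refine (spToSpGL (Φ g)).1.isUnit.mul_left_cancel ?_
        rw [hval] at e1 ⊢
        rw [e1, mul_assoc (φ g * x), show ((spToSpGL (Φ g)).1⁻¹ : GL (Fin d ⊕ Fin d) F).1 * φ g = 1 by
          rw [← hval, Units.inv_mul], mul_one]
      rw [e2]
      exact hx
  have hcardK : Fintype.card K = Fintype.card F ^ k := by rw [Module.card_eq_pow_finrank (K := F), hK.finrank_eq]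
  have hc := card_sp (F := K) m
  rw [hcardK, ← pow_mul] at hc
  rw [show ∏ i ∈ Finset.range m, (Fintype.card F ^ (2 * (k * (i + 1))) - 1) =
    ∏ i ∈ Finset.range m, ((Fintype.card F ^ k) ^ (2 * (i + 1)) - 1) from
      Finset.prod_congr rfl fun i _ => by rw [← pow_mul]; ring_nf, ← hc]
  refine Subgroup.card_dvd_of_injective
    (MonoidHom.mk' (fun g => (⟨spToSpGL (Φ g), hmem g⟩ : (Cfsg.Geo.subalgebraNormalizer K).subgroupOf (Cfsg.spGL d F)))
      fun g g' => Subtype.ext (by simp only [map_mul, Subgroup.coe_mul])) ?_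
  intro g g' hgg
  have h1 : (Φ g).1 = (Φ g').1 :=
    congrArg (fun x : (Cfsg.Geo.subalgebraNormalizer K).subgroupOf (Cfsg.spGL d F) => x.1.1.1) hgg
  rw [hΦ, hΦ] at h1
  refine sp_ext fun x => e.injective ?_
  rw [← hφ, ← hφ, h1]

/-- Splitting the order formula along the multiples of `k`. -/
theorem prod_split {k m : ℕ} (hk : 0 < k) (f : ℕ → ℕ) :
    ∏ i ∈ Finset.range (k * m), f (i + 1) =
      (∏ i ∈ Finset.range m, f (k * (i + 1))) * ∏ i ∈ (Finset.range (k * m)).filter (fun i => ¬ k ∣ i + 1), f (i + 1) := by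
  rw [← Finset.prod_filter_mul_prod_filter_not (Finset.range (k * m)) (fun i => k ∣ i + 1)]
  congr 1
  refine Finset.prod_nbij' (fun i => (i + 1) / k - 1) (fun j => k * (j + 1) - 1) ?_ ?_ ?_ ?_ ?_
  · intro i hi
    simp only [Finset.mem_filter, Finset.mem_range, Finset.mem_coe] at *
    obtain ⟨hi, c, hc⟩ := hi
    rw [hc, Nat.mul_div_cancel_left _ hk]
    have : c ≤ m := Nat.le_of_mul_le_mul_left (by omega : k * c ≤ k * m) hk
    rcases c with _ | c <;> omega
  · intro j hj
    simp only [Finset.mem_filter, Finset.mem_range, Finset.mem_coe] at *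
    have h1 : k * (j + 1) ≤ k * m := Nat.mul_le_mul_left k hj
    have h2 : 0 < k * (j + 1) := Nat.mul_pos hk (by omega)
    exact ⟨by omega, ⟨j + 1, by omega⟩⟩
  · intro i hi
    simp only [Finset.mem_filter, Finset.mem_range, Finset.mem_coe] at hi
    obtain ⟨hi, c, hc⟩ := hi
    rcases c with _ | c
    · rw [mul_zero] at hc; omega
    · rw [hc, Nat.mul_div_cancel_left _ hk, Nat.add_sub_cancel]
      omega
  · intro j hj
    have h2 : 0 < k * (j + 1) := Nat.mul_pos hk (by omega)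
    rw [show k * (j + 1) - 1 + 1 = k * (j + 1) by omega, Nat.mul_div_cancel_left _ hk, Nat.add_sub_cancel]
  · intro i hi
    simp only [Finset.mem_filter, Finset.mem_range] at hi
    obtain ⟨hi, c, hc⟩ := hi
    rcases c with _ | c
    · rw [mul_zero] at hc; omega
    · rw [hc, Nat.mul_div_cancel_left _ hk, Nat.add_sub_cancel]

/-- The index divides the factors prime to `k`. -/
theorem index_dvd (hd : 0 < d) (hk : k.Prime) {K : Subalgebra F (Matrix (Fin d ⊕ Fin d) (Fin d ⊕ Fin d) F)}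
    (hK : Cfsg.Geo.IsFieldSubalgebra k K) (hKf : Cfsg.Geo.IsSelfAdjointFor (sympForm d F) K)
    (hKalt : ∀ a ∈ K, ∀ v, sympForm d F (a *ᵥ v) v = 0) :
    k ∣ d ∧ (Cfsg.Geo.subalgebraNormalizer K).relIndex (Cfsg.spGL d F) ∣ Fintype.card F ^ (d ^ 2) *
      ∏ i ∈ (Finset.range d).filter (fun i => ¬ k ∣ i + 1), (Fintype.card F ^ (2 * (i + 1)) - 1) := by
  obtain ⟨m, rfl, c, hc⟩ := exists_embed hd hk hK hKf hKalt
  refine ⟨dvd_mul_right k m, ?_⟩
  obtain ⟨q, hq⟩ : ∃ q, q = Fintype.card F := ⟨_, rfl⟩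
  have hcard := Subgroup.index_mul_card ((Cfsg.Geo.subalgebraNormalizer K).subgroupOf (Cfsg.spGL (k * m) F))
  rw [card_spGL', card_sp, hc, prod_split hk.pos (fun i => Fintype.card F ^ (2 * i) - 1)] at hcard
  rw [← hq] at hcard hc ⊢
  have hU : 0 < ∏ i ∈ Finset.range m, (q ^ (2 * (k * (i + 1))) - 1) :=
    Finset.prod_pos fun i _ => by
      have h1 : 1 ≤ k * (i + 1) := Nat.mul_pos hk.pos (by omega)
      have h0 : 1 < q := hq ▸ Fintype.one_lt_card
      have : 1 < q ^ (2 * (k * (i + 1))) := Nat.one_lt_pow (by omega) h0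
      omega
  refine Dvd.intro (q ^ (k * m ^ 2) * c) (Nat.eq_of_mul_eq_mul_right hU ?_)
  show Subgroup.index _ * _ * _ = _
  linear_combination hcard

end CfsgLib.Classical22.PrimeMaps.FType
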