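/-
Involutions of the four dimensional symplectic group and quadratic fields.
-/
import Cfsg.Agent.Lib.Classical22.PrimeOrderFieldTypeBasic
import Cfsg.Agent.Lib.Classical22.PrimeOrderUnitaryTypeForms

set_option autoImplicit false

namespace CfsgLib.Classical22.PrimeMaps.FType

open Module Matrix CfsgLib.Classical Cfsg

universe u

variable {F : Type u} [Field F]

/-- The standard self-adjoint square root. -/
def quadRoot (ν : F) : Matrix (Fin 2 ⊕ Fin 2) (Fin 2 ⊕ Fin 2) F :=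
  Matrix.fromBlocks !![0, ν; 1, 0] 0 0 !![0, 1; ν, 0]

theorem quadRoot_apply (ν : F) (w : Fin 2 ⊕ Fin 2 → F) :
    quadRoot ν *ᵥ w = Sum.elim ![ν * w (Sum.inl 1), w (Sum.inl 0)] ![w (Sum.inr 1), ν * w (Sum.inr 0)] := by
  rw [quadRoot, Matrix.fromBlocks_mulVec]
  funext c
  rcases c with c | c <;> fin_cases c <;> simp [Matrix.mulVec, dotProduct, Fin.sum_univ_two]

theorem exists_quad_gen [Fintype F] (h2 : (2 : F) ≠ 0)
    {K : Subalgebra F (Matrix (Fin 2 ⊕ Fin 2) (Fin 2 ⊕ Fin 2) F)} (hK : Cfsg.Geo.IsFieldSubalgebra 2 K) :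
    ∃ (ν : F) (j : Matrix (Fin 2 ⊕ Fin 2) (Fin 2 ⊕ Fin 2) F), ¬ IsSquare ν ∧ j ∈ K ∧ j * j = ν • 1 ∧
      ∀ y ∈ K, ∃ a b : F, y = a • 1 + b • j := by
  classical
  obtain ⟨a₀, ha₀, hns⟩ := exists_nonscalar hK le_rfl
  have hspan : ∀ y ∈ K, ∃ a b : F, y = a • 1 + b • a₀ := by
    intro y hy
    have hli : LinearIndependent F ![(1 : K), ⟨a₀, ha₀⟩] := by
      rw [LinearIndependent.pair_iff]
      intro a b hab
      have h' := congrArg Subtype.val hab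
      simp at h'
      by_cases hb : b = 0
      · subst hb
        simp at h'
        exact ⟨h', rfl⟩
      · refine absurd ?_ (hns (-(b⁻¹ * a)))
        have h2 := congrArg (b⁻¹ • ·) h'
        simp only [smul_add, smul_smul, inv_mul_cancel₀ hb, one_smul, smul_zero] at h2
        rw [neg_smul]
        exact eq_neg_of_add_eq_zero_right h2
    have hsp := hli.span_eq_top_of_card_eq_finrank (by rw [hK.finrank_eq]; rfl)
    have hy' : (⟨y, hy⟩ : K) ∈ Submodule.span F ({1, ⟨a₀, ha₀⟩} : Set K) := by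
      rw [show ({1, ⟨a₀, ha₀⟩} : Set K) = Set.range ![(1 : K), ⟨a₀, ha₀⟩] by simp [Set.pair_comm], hsp]
      trivial
    obtain ⟨a, b, hab⟩ := Submodule.mem_span_pair.1 hy'
    exact ⟨a, b, by simpa using (congrArg Subtype.val hab).symm⟩
  obtain ⟨a, b, hab⟩ := hspan _ (K.mul_mem ha₀ ha₀)
  obtain ⟨c, hc⟩ : ∃ c : F, c + c = b := ⟨b / 2, by field_simp; ring⟩
  subst hc
  obtain ⟨j, hj⟩ : ∃ j, j = a₀ - c • 1 := ⟨_, rfl⟩
  have hjK : j ∈ K := hj ▸ K.sub_mem ha₀ (K.smul_mem K.one_mem c)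
  have hjj : j * j = (a + c * c) • 1 := by
    simp only [hj, sub_mul, mul_sub, hab, Matrix.smul_mul, Matrix.mul_smul, one_mul, mul_one, smul_smul]
    module
  have hjs : ∀ e : F, j ≠ e • 1 := fun e he => hns (e + c) (by rw [add_smul, ← he, hj, sub_add_cancel])
  refine ⟨a + c * c, j, ?_, hjK, hjj, fun y hy => ?_⟩
  · rintro ⟨e, he⟩
    rw [he] at hjj
    have hz : (j - e • 1) * (j + e • 1) = 0 := by
      rw [sub_mul, mul_add, mul_add, hjj, Matrix.smul_mul, Matrix.mul_smul, one_mul, mul_one, Matrix.smul_mul,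
        one_mul, smul_smul]
      module
    have h := no_zero_div hK (K.sub_mem hjK (K.smul_mem K.one_mem e)) hz (sub_ne_zero.2 (hjs e))
    exact hjs (-e) (by rw [neg_smul]; exact eq_neg_of_add_eq_zero_left h)
  · obtain ⟨a', b', h⟩ := hspan y hy
    exact ⟨a' + b' * c, b', by rw [h, hj]; module⟩

/-- Self-adjoint square roots of a non-square are conjugate. -/
theorem exists_quad_conj {ν : F} (hν : ¬ IsSquare ν) {j : Matrix (Fin 2 ⊕ Fin 2) (Fin 2 ⊕ Fin 2) F}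
    (hjj : j * j = ν • 1) (hjs : ∀ u v, sympForm 2 F (j *ᵥ u) v = sympForm 2 F u (j *ᵥ v))
    (hja : ∀ v, sympForm 2 F (j *ᵥ v) v = 0) :
    ∃ g : symplecticGroup (Fin 2) F, j * g.1 = g.1 * quadRoot ν := by
  classical
  have hν0 : ν ≠ 0 := fun h => hν ⟨0, by rw [h, mul_zero]⟩
  obtain ⟨u, hu⟩ : ∃ u : Fin 2 ⊕ Fin 2 → F, u = Pi.single (Sum.inl 0) 1 := ⟨_, rfl⟩
  have hu0 : u ≠ 0 := by rw [hu]; simp
  obtain ⟨L, hL⟩ : ∃ L : (Fin 2 ⊕ Fin 2 → F) →ₗ[F] (Fin 2 → F),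
      ∀ v, L v = ![sympForm 2 F u v, sympForm 2 F (j *ᵥ u) v] :=
    ⟨LinearMap.pi ![spBilin 2 F u, spBilin 2 F (j *ᵥ u)], fun v => funext fun c => by fin_cases c <;> simp⟩
  obtain ⟨v, hv1, hv2⟩ : ∃ v, sympForm 2 F u v = -1 ∧ sympForm 2 F (j *ᵥ u) v = 0 := by
    obtain ⟨w, hw⟩ := exists_sympForm_ne_zero hu0
    have hjv : ∀ v, sympForm 2 F (j *ᵥ u) (j *ᵥ v) = ν * sympForm 2 F u v := fun v => by
      rw [hjs, mulVec_mulVec, hjj, smul_mulVec, one_mulVec, sympForm_smul_right]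
    obtain ⟨a, ha⟩ : ∃ a, a = sympForm 2 F u w := ⟨_, rfl⟩
    obtain ⟨b, hb⟩ : ∃ b, b = sympForm 2 F (j *ᵥ u) w := ⟨_, rfl⟩
    obtain ⟨D, hD⟩ : ∃ D, D = a * a * ν - b * b := ⟨_, rfl⟩
    have hD0 : D ≠ 0 := fun h => hν ⟨b / a, by
      have ha0 : a ≠ 0 := ha ▸ hw
      field_simp
      linear_combination hD.symm.trans h⟩
    refine ⟨(-(a * ν) / D) • w + (b / D) • (j *ᵥ w), ?_, ?_⟩
    · rw [sympForm_add_right, sympForm_smul_right, sympForm_smul_right, ← hjs, ← ha, ← hb]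
      field_simp
      rw [hD]
      ring
    · rw [sympForm_add_right, sympForm_smul_right, sympForm_smul_right, hjv, ← ha, ← hb]
      field_simp
      ring
  obtain ⟨G, hG⟩ : ∃ G : Matrix (Fin 2 ⊕ Fin 2) (Fin 2 ⊕ Fin 2) F,
      ∀ a b, G a b = Sum.elim ![u, j *ᵥ u] ![v, ν⁻¹ • (j *ᵥ v)] b a := ⟨Matrix.of fun a b => _, fun _ _ => rfl⟩
  have hcol : ∀ w, G *ᵥ w = w (Sum.inl 0) • u + w (Sum.inl 1) • (j *ᵥ u) + w (Sum.inr 0) • v +
      w (Sum.inr 1) • (ν⁻¹ • (j *ᵥ v)) := by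
    intro w
    funext a
    simp only [Matrix.mulVec, dotProduct, hG, Fintype.sum_sum_type, Fin.sum_univ_two, Sum.elim_inl, Sum.elim_inr,
      Matrix.cons_val_zero, Matrix.cons_val_one, Pi.add_apply, Pi.smul_apply, smul_eq_mul]
    ring
  have h1 : sympForm 2 F u (j *ᵥ v) = 0 := by rw [← hjs]; exact hv2
  have h2 : sympForm 2 F (j *ᵥ u) (j *ᵥ v) = -ν := by
    rw [hjs, mulVec_mulVec, hjj, smul_mulVec, one_mulVec, sympForm_smul_right, hv1, mul_neg_one]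
  have hmem : G ∈ symplecticGroup (Fin 2) F := by
    rw [mem_sp_iff]
    intro x y
    conv_rhs => rw [sympForm_eq, Fin.sum_univ_two]
    rw [hcol, hcol]
    simp only [sympForm_add_left, sympForm_add_right, sympForm_smul_left, sympForm_smul_right, sympForm_self,
      hja u, hja v, hv1, hv2, h1, h2, sympForm_swap u v, sympForm_swap (j *ᵥ u) v, sympForm_swap u (j *ᵥ v),
      sympForm_swap (j *ᵥ u) (j *ᵥ v), sympForm_swap (j *ᵥ u) u, sympForm_swap (j *ᵥ v) v]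
    field_simp
    ring
  refine ⟨⟨G, hmem⟩, Matrix.ext_of_mulVec_single fun b => ?_⟩
  show (j * G) *ᵥ _ = (G * quadRoot ν) *ᵥ _
  rw [← mulVec_mulVec, ← mulVec_mulVec, hcol, hcol, quadRoot_apply]
  simp only [Matrix.mulVec_add, Matrix.mulVec_smul, mulVec_mulVec, hjj, smul_mulVec, one_mulVec, smul_smul,
    Sum.elim_inl, Sum.elim_inr, Matrix.cons_val_zero, Matrix.cons_val_one]
  match_scalars <;> field_simp

/-- Involutions of the projective group normalise some conjugate. -/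
theorem quad_invol [Fintype F] (h2 : (2 : F) ≠ 0) {K : Subalgebra F (Matrix (Fin 2 ⊕ Fin 2) (Fin 2 ⊕ Fin 2) F)}
    (hK : Cfsg.Geo.IsFieldSubalgebra 2 K) (hKf : Cfsg.Geo.IsSelfAdjointFor (sympForm 2 F) K)
    (hKalt : ∀ a ∈ K, ∀ v, sympForm 2 F (a *ᵥ v) v = 0)
    (x : GL (Fin 2 ⊕ Fin 2) F) (hx : x ∈ Cfsg.spGL 2 F) {z : F}
    (hz : ((x ^ 2 : GL (Fin 2 ⊕ Fin 2) F) : Matrix (Fin 2 ⊕ Fin 2) (Fin 2 ⊕ Fin 2) F) = z • 1)
    (hns : ∀ c : F, (x : Matrix (Fin 2 ⊕ Fin 2) (Fin 2 ⊕ Fin 2) F) ≠ c • 1) :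
    ∃ g ∈ Cfsg.spGL 2 F, g⁻¹ * x * g ∈ Cfsg.Geo.subalgebraNormalizer K := by
  classical
  obtain ⟨ν, j, hν, hjK, hjj, hspan⟩ := exists_quad_gen h2 hK
  obtain ⟨h, hh⟩ := exists_quad_conj hν hjj (hKf j hjK) (hKalt j hjK)
  obtain ⟨t, ht⟩ : ∃ t : symplecticGroup (Fin 2) F, t.1 = x.1 := ⟨⟨x.1, mem_sp_iff.2 hx⟩, rfl⟩
  have htt : (t * t).1 = z • 1 := by rw [Submonoid.coe_mul, ht, ← sq, ← Units.val_pow_eq_pow_val, hz]
  have hz1 : z * z = 1 := by
    obtain ⟨w, hw⟩ := exists_sympForm_ne_zero (F := F) (m := 2) (v := Pi.single (Sum.inl 0) 1) (by simp)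
    have h := sp_form (t * t) (Pi.single (Sum.inl 0) 1) w
    rw [htt, smul_mulVec, one_mulVec, smul_mulVec, one_mulVec, sympForm_smul_left, sympForm_smul_right, ← mul_assoc] at h
    exact (mul_eq_right₀ hw).1 h
  have key : ∀ (k : symplecticGroup (Fin 2) F),
      ((k * t * k⁻¹).1 * quadRoot ν = quadRoot ν * (k * t * k⁻¹).1 ∨
        (k * t * k⁻¹).1 * quadRoot ν = -(quadRoot ν * (k * t * k⁻¹).1)) →
      ∃ g ∈ Cfsg.spGL 2 F, g⁻¹ * x * g ∈ Cfsg.Geo.subalgebraNormalizer K := by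
    intro k hk
    refine ⟨(spToSpGL (k⁻¹ * h⁻¹)).1, (spToSpGL (k⁻¹ * h⁻¹)).2, ?_⟩
    have hxe : x = (spToSpGL t).1 := Units.ext ht.symm
    rw [hxe, ← Subgroup.coe_inv, ← map_inv, ← Subgroup.coe_mul, ← Subgroup.coe_mul, ← map_mul, ← map_mul]
    refine UType.mem_normalizer hjK hspan ?_
    obtain ⟨y, hy⟩ : ∃ y, y = k * t * k⁻¹ := ⟨_, rfl⟩
    rw [← hy] at hk
    rw [show (k⁻¹ * h⁻¹)⁻¹ * t * (k⁻¹ * h⁻¹) = h * y * h⁻¹ by rw [hy]; group]
    show (h * y * h⁻¹).1 * j = j * (h * y * h⁻¹).1 ∨ (h * y * h⁻¹).1 * j = -(j * (h * y * h⁻¹).1)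
    have hinv : (h⁻¹).1 * h.1 = (1 : Matrix (Fin 2 ⊕ Fin 2) (Fin 2 ⊕ Fin 2) F) := by
      rw [← Submonoid.coe_mul, inv_mul_cancel, Submonoid.coe_one]
    have hinv' : h.1 * (h⁻¹).1 = (1 : Matrix (Fin 2 ⊕ Fin 2) (Fin 2 ⊕ Fin 2) F) := by
      rw [← Submonoid.coe_mul, mul_inv_cancel, Submonoid.coe_one]
    have hj' : j = h.1 * quadRoot ν * (h⁻¹).1 := by rw [← hh, mul_assoc, hinv', mul_one]
    have c1 : (h * y * h⁻¹).1 * j = h.1 * (y.1 * quadRoot ν) * (h⁻¹).1 := by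
      rw [hj', Submonoid.coe_mul, Submonoid.coe_mul]
      calc h.1 * y.1 * (h⁻¹).1 * (h.1 * quadRoot ν * (h⁻¹).1)
          = h.1 * y.1 * ((h⁻¹).1 * h.1) * quadRoot ν * (h⁻¹).1 := by simp only [mul_assoc]
        _ = _ := by rw [hinv, mul_one, mul_assoc h.1]
    have c2 : j * (h * y * h⁻¹).1 = h.1 * (quadRoot ν * y.1) * (h⁻¹).1 := by
      rw [hj', Submonoid.coe_mul, Submonoid.coe_mul]
      calc h.1 * quadRoot ν * (h⁻¹).1 * (h.1 * y.1 * (h⁻¹).1)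
          = h.1 * quadRoot ν * ((h⁻¹).1 * h.1) * y.1 * (h⁻¹).1 := by simp only [mul_assoc]
        _ = _ := by rw [hinv, mul_one, mul_assoc h.1]
    rw [c1, c2]
    exact hk.imp (fun e => by rw [e]) (fun e => by rw [e, mul_neg, neg_mul])
  rcases mul_self_eq_one_iff.1 hz1 with rfl | rfl
  · obtain ⟨i, hi, k, hk⟩ := exists_conj_spSign h2 t (Subtype.ext (by rw [htt, one_smul]; rfl))
    have hscal : ∀ c : F, (spSign 2 F i).1 ≠ c • 1 := fun c hc => hns c (by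
      rw [← ht, show t = k⁻¹ * spSign 2 F i * k by rw [← hk]; group, Submonoid.coe_mul, Submonoid.coe_mul, hc,
        Matrix.mul_smul, Matrix.smul_mul, mul_one, ← Submonoid.coe_mul, inv_mul_cancel, Submonoid.coe_one])
    have hi1 : i = 1 := by
      by_contra hne
      rcases (show i = 0 ∨ i = 2 by omega) with rfl | rfl
      · exact hscal 1 (by rw [spSign_zero, one_smul]; rfl)
      · refine hscal (-1) (Matrix.ext_of_mulVec_single fun c => ?_)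
        rw [spSign_top, spNegOne_apply, smul_mulVec, one_mulVec, neg_one_smul]
    subst hi1
    refine key k (Or.inr ?_)
    rw [hk]
    refine Matrix.ext_of_mulVec_single fun c => ?_
    rw [← mulVec_mulVec, Matrix.neg_mulVec, ← mulVec_mulVec, quadRoot_apply, quadRoot_apply]
    funext a
    rw [spSign_apply]
    rcases a with a | a <;> fin_cases a <;> simp [spSign_apply, signFun]
  · obtain ⟨k, hk⟩ := exists_conj_spJ h2 t (sp_ext fun w => by
      rw [htt, spNegOne_apply, smul_mulVec, one_mulVec, neg_one_smul])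
    obtain ⟨Y, hY⟩ : ∃ Y : Matrix (Fin 2 ⊕ Fin 2) (Fin 2 ⊕ Fin 2) F,
        Y = Matrix.fromBlocks 0 !![0, -1; -1, 0] !![0, 1; 1, 0] 0 := ⟨_, rfl⟩
    have hYw : ∀ w, Y *ᵥ w = Sum.elim ![-w (Sum.inr 1), -w (Sum.inr 0)] ![w (Sum.inl 1), w (Sum.inl 0)] := by
      intro w
      rw [hY, Matrix.fromBlocks_mulVec]
      funext c
      rcases c with c | c <;> fin_cases c <;> simp [Matrix.mulVec, dotProduct, Fin.sum_univ_two]
    obtain ⟨y, hy⟩ : ∃ y : symplecticGroup (Fin 2) F, y.1 = Y := ⟨⟨Y, mem_sp_iff.2 fun a b => by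
      rw [hYw, hYw, sympForm_eq, sympForm_eq, Fin.sum_univ_two, Fin.sum_univ_two]
      simp
      ring⟩, rfl⟩
    have hyy : y * y = spNegOne := sp_ext fun w => by
      rw [Submonoid.coe_mul, ← mulVec_mulVec, hy, hYw, hYw, spNegOne_apply]
      funext c
      rcases c with c | c <;> fin_cases c <;> simp
    obtain ⟨k', hk'⟩ := exists_conj_spJ h2 y hyy
    refine key (k'⁻¹ * k) (Or.inl ?_)
    rw [show k'⁻¹ * k * t * (k'⁻¹ * k)⁻¹ = k'⁻¹ * (k * t * k⁻¹) * k' by group, hk, ← hk',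
      show k'⁻¹ * (k' * y * k'⁻¹) * k' = y by group, hy]
    refine Matrix.ext_of_mulVec_single fun c => ?_
    rw [← mulVec_mulVec, ← mulVec_mulVec, quadRoot_apply, quadRoot_apply, hYw, hYw]
    funext a
    rcases a with a | a <;> fin_cases a <;> simp

end CfsgLib.Classical22.PrimeMaps.FType
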