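/-
Prime order elements of the symplectic group and field extension subgroups.
-/
import Cfsg.Agent.Lib.Classical22.PrimeOrderFieldTypeBlock
import Cfsg.Agent.Lib.Classical22.PrimeOrderFieldTypeIndex
import Cfsg.Agent.Lib.Classical22.PrimeOrderFieldTypeQuad

set_option autoImplicit false

namespace CfsgLib.Classical22.PrimeMaps.FType

open Module Matrix CfsgLib.Classical Cfsg CfsgLib.Classical22.PrimeMaps.Symp
open scoped MatrixGroups

universe u

variable {F : Type u} [Field F] [Fintype F] {d k : ℕ}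

theorem rank_sub_one (f : Module.End F (Fin d ⊕ Fin d → F)) :
    (LinearMap.toMatrix' f - 1).rank + finrank F (fixed f) = 2 * d := by
  have h : (LinearMap.toMatrix' f - 1).rank = finrank F (LinearMap.range (f - 1)) := by
    rw [Matrix.rank, show (LinearMap.toMatrix' f - 1).mulVecLin = f - 1 from LinearMap.ext fun v => by
      rw [Matrix.mulVecLin_apply, Matrix.sub_mulVec, one_mulVec, ← Matrix.toLin'_apply, Matrix.toLin'_toMatrix']
      rfl]
  rw [h, show fixed f = LinearMap.ker (f - 1) from rfl, LinearMap.finrank_range_add_finrank_ker, finrank_std]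

/-- Small blocks for primes equal to the degree. -/
theorem blockDim_small {k e : ℕ} (hk : k.Prime) (h : e ∣ k - 1) (hk2 : k ≠ 2) : blockDim e ≤ k - 1 := by
  have := hk.two_le
  unfold blockDim
  split_ifs with he
  · exact Nat.le_of_dvd (by omega) h
  · refine Nat.le_of_dvd (by omega) (Nat.Coprime.mul_dvd_of_dvd_of_dvd
      (Nat.coprime_two_left.2 (Nat.not_even_iff_odd.1 he)) ?_ h)
    obtain ⟨c, hc⟩ := hk.odd_of_ne_two hk2
    exact ⟨c, by omega⟩

/-- The classification. -/
theorem main {p q r : ℕ} [Fact p.Prime] [CharP F p] [hr : Fact r.Prime] (hq : Fintype.card F = q)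
    (hd : 2 ≤ d) (hk : k.Prime) {K : Subalgebra F (Matrix (Fin d ⊕ Fin d) (Fin d ⊕ Fin d) F)}
    (hK : Cfsg.Geo.IsFieldSubalgebra k K) (hKf : Cfsg.Geo.IsSelfAdjointFor (Cfsg.sympForm d F) K)
    (hKalt : ∀ a ∈ K, ∀ v : Fin d ⊕ Fin d → F, Cfsg.sympForm d F (a *ᵥ v) v = 0)
    (hΩ : r ∣ (Cfsg.Geo.subalgebraNormalizer K).relIndex (Cfsg.spGL d F)) :
    (∀ x ∈ Cfsg.spGL d F, (∃ z : F, ((x ^ r : GL (Fin d ⊕ Fin d) F) : Matrix (Fin d ⊕ Fin d) (Fin d ⊕ Fin d) F) =
        z • (1 : Matrix (Fin d ⊕ Fin d) (Fin d ⊕ Fin d) F)) →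
      (∀ z : F, (x : Matrix (Fin d ⊕ Fin d) (Fin d ⊕ Fin d) F) ≠ z • (1 : Matrix (Fin d ⊕ Fin d) (Fin d ⊕ Fin d) F)) →
      ∃ g ∈ Cfsg.spGL d F, g⁻¹ * x * g ∈ Cfsg.Geo.subalgebraNormalizer K) ↔
      (r = 2 ∧ d = 2 ∧ k = 2 ∧ Odd q) := by
  classical
  subst hq
  haveI : Nonempty (Fin d) := ⟨⟨0, by omega⟩⟩
  obtain ⟨hkd, hidx⟩ := index_dvd (by omega) hk hK hKf hKalt
  have hk2 : d = 2 → k = 2 := fun h => (Nat.prime_dvd_prime_iff_eq hk Nat.prime_two).1 (h ▸ hkd)
  have hkle : k ≤ d := Nat.le_of_dvd (by omega) hkd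
  obtain ⟨a, ha, hans⟩ := exists_nonscalar hK hk.two_le
  constructor
  · intro h
    by_contra hcond
    -- witness commuting only with scalars
    obtain ⟨t, htr, hsmall, hts⟩ : ∃ t : symplecticGroup (Fin d) F, t ^ r = 1 ∧
        (r ≠ k ∨ 2 * (t.1 - 1).rank < 2 * d) ∧
        ∀ g : GL (Fin d ⊕ Fin d) F, g ∈ Cfsg.spGL d F → t.1 * (g.1 * a * (g⁻¹).1) ≠ (g.1 * a * (g⁻¹).1) * t.1 := by
      have heig : ∀ (g : GL (Fin d ⊕ Fin d) F) (v : Fin d ⊕ Fin d → F) (c : F), v ≠ 0 →
          (g.1 * a * (g⁻¹).1) *ᵥ v ≠ c • v := by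
        intro g v c hv he
        refine hans c (sub_eq_zero.1 (eq_zero_of_kill hK (K.sub_mem ha (K.smul_mem K.one_mem c))
          (v := (g⁻¹).1 *ᵥ v) ?_ ?_))
        · intro h0
          exact hv (by rw [← one_mulVec v, ← g.mul_inv, ← mulVec_mulVec, h0, mulVec_zero])
        · have h1 := congrArg ((g⁻¹).1 *ᵥ ·) he
          simp only [mulVec_mulVec, ← mul_assoc, g.inv_mul, one_mul, Matrix.mulVec_smul] at h1
          rw [Matrix.sub_mulVec, smul_mulVec, one_mulVec, mulVec_mulVec, h1, sub_self]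
      have hgalt : ∀ g : GL (Fin d ⊕ Fin d) F, g ∈ Cfsg.spGL d F → ∀ v,
          sympForm d F ((g.1 * a * (g⁻¹).1) *ᵥ v) v = 0 := by
        intro g hg v
        have e : v = g.1 *ᵥ ((g⁻¹).1 *ᵥ v) := by rw [mulVec_mulVec, g.mul_inv, one_mulVec]
        rw [← mulVec_mulVec, ← mulVec_mulVec]
        conv_lhs => arg 4; rw [e]
        exact (hg _ _).trans (hKalt a ha _)
      by_cases hrp : r = p
      · obtain ⟨v, hv⟩ : ∃ v : Fin d ⊕ Fin d → F, v ≠ 0 := ⟨Pi.single (Sum.inl ⟨0, by omega⟩) 1, by simp⟩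
        have hpow : ∀ n : ℕ, spT v (1 : F) ^ n = spT v (n : F) := by
          intro n
          induction n with
          | zero => simp [spT_zero]
          | succ n ih => rw [pow_succ, ih, spT_mul, Nat.cast_succ]
        refine ⟨spT v 1, by rw [hpow, hrp, CharP.cast_eq_zero F p, spT_zero], Or.inr ?_, fun g hg hcom => ?_⟩
        · have hle : ((spT v (1 : F)).1 - 1).rank ≤ 1 := by
            rw [Matrix.rank]
            refine le_trans (Submodule.finrank_mono (t := Submodule.span F {v}) ?_) (finrank_span_singleton hv).le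
            rintro _ ⟨x, rfl⟩
            rw [Matrix.mulVecLin_apply, Matrix.sub_mulVec, spT_apply, one_mulVec, add_sub_cancel_left]
            exact Submodule.smul_mem _ _ (Submodule.mem_span_singleton_self v)
          omega
        · obtain ⟨w, hw⟩ := exists_sympForm_ne_zero hv
          have hw' : sympForm d F w v ≠ 0 := by rwa [sympForm_swap, neg_ne_zero]
          have h1 := congrArg (· *ᵥ w) hcom
          obtain ⟨A, hA⟩ : ∃ A, A = g.1 * a * (g⁻¹).1 := ⟨_, rfl⟩
          rw [← hA] at h1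
          simp only [← mulVec_mulVec, spT_apply, Matrix.mulVec_add, Matrix.mulVec_smul, one_mul, add_right_inj] at h1
          refine heig g v (sympForm d F (A *ᵥ w) v / sympForm d F w v) hv ?_
          rw [← hA, div_eq_inv_mul, mul_smul, h1, inv_smul_smul₀ hw']
      have hrF : (r : F) ≠ 0 := by
        rw [Ne, CharP.cast_eq_zero_iff F p]
        exact fun h => hrp ((Nat.prime_dvd_prime_iff_eq Fact.out hr.out).1 h).symm
      by_cases hr2 : r = 2
      · subst hr2
        have h2F : (2 : F) ≠ 0 := by exact_mod_cast hrF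
        have hoddq : Odd (Fintype.card F) := Nat.odd_iff.2 (UType.odd_card h2F)
        have hd3 : 3 ≤ d := by
          by_contra hcon
          have hd2 : d = 2 := by omega
          exact hcond ⟨rfl, hd2, hk2 hd2, hoddq⟩
        obtain ⟨i₀, hi₀⟩ : ∃ i : Fin d, i.val = 0 := ⟨⟨0, by omega⟩, rfl⟩
        obtain ⟨e0, he0⟩ : ∃ e0 : Fin d ⊕ Fin d → F, e0 = Pi.single (Sum.inl i₀) 1 := ⟨_, rfl⟩
        obtain ⟨f0, hf0⟩ : ∃ f0 : Fin d ⊕ Fin d → F, f0 = Pi.single (Sum.inr i₀) 1 := ⟨_, rfl⟩
        have hsub : ∀ w, (spSign d F 1).1 *ᵥ w - w = ((-2 : F) * w (Sum.inl i₀)) • e0 + ((-2 : F) * w (Sum.inr i₀)) • f0 := by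
          intro w
          funext c
          rw [Pi.sub_apply, spSign_apply, he0, hf0]
          rcases c with c | c <;> by_cases hc : c = i₀
          · subst hc; simp [signFun, hi₀]; ring
          · have : c.val ≠ 0 := fun h => hc (Fin.ext (h.trans hi₀.symm))
            simp [signFun, hc, Nat.lt_one_iff, this]
          · subst hc; simp [signFun, hi₀]; ring
          · have : c.val ≠ 0 := fun h => hc (Fin.ext (h.trans hi₀.symm))
            simp [signFun, hc, Nat.lt_one_iff, this]
        refine ⟨spSign d F 1, ?_, Or.inr ?_, fun g hg hcom => ?_⟩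
        · refine sp_ext fun w => ?_
          rw [sq, Submonoid.coe_mul, ← mulVec_mulVec, Submonoid.coe_one, one_mulVec]
          funext c
          rw [spSign_apply, spSign_apply, ← mul_assoc]
          rcases c with c | c <;> simp [signFun_mul_self]
        · have hle : ((spSign d F 1).1 - 1).rank ≤ 2 := by
            rw [Matrix.rank]
            refine le_trans (Submodule.finrank_mono (t := Submodule.span F {e0} ⊔ Submodule.span F {f0}) ?_) ?_
            · rintro _ ⟨x, rfl⟩
              rw [Matrix.mulVecLin_apply, Matrix.sub_mulVec, one_mulVec, hsub]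
              exact Submodule.add_mem_sup (Submodule.smul_mem _ _ (Submodule.mem_span_singleton_self _))
                (Submodule.smul_mem _ _ (Submodule.mem_span_singleton_self _))
            · refine (Submodule.finrank_add_le_finrank_add_finrank _ _).trans ?_
              rw [finrank_span_singleton (by rw [he0]; simp), finrank_span_singleton (by rw [hf0]; simp)]
          omega
        · obtain ⟨A, hA⟩ : ∃ A, A = g.1 * a * (g⁻¹).1 := ⟨_, rfl⟩
          rw [← hA] at hcom
          have h1 := congrArg (· *ᵥ e0) hcom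
          simp only [← mulVec_mulVec] at h1
          have hse : (spSign d F 1).1 *ᵥ e0 = -e0 := by
            have h3 := hsub e0
            rw [sub_eq_iff_eq_add] at h3
            rw [h3, he0, hf0]
            simp
            module
          rw [hse, Matrix.mulVec_neg] at h1
          have h4 := hsub (A *ᵥ e0)
          rw [h1] at h4
          have h5 : A *ᵥ e0 = ((A *ᵥ e0) (Sum.inl i₀)) • e0 + ((A *ᵥ e0) (Sum.inr i₀)) • f0 := by
            have h6 : (-2 : F) • (A *ᵥ e0) = (-2 : F) • (((A *ᵥ e0) (Sum.inl i₀)) • e0 + ((A *ᵥ e0) (Sum.inr i₀)) • f0) := by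
              rw [smul_add, smul_smul, smul_smul, ← h4]
              module
            exact smul_right_injective _ (neg_ne_zero.2 h2F) h6
          have hβ : (A *ᵥ e0) (Sum.inr i₀) = 0 := by
            have h7 := hgalt g hg e0
            rw [← hA, h5, sympForm_add_left, sympForm_smul_left, sympForm_smul_left, sympForm_self, hf0, he0,
              sympForm_eq, Finset.sum_eq_single i₀ (fun b _ hb => by simp [hb]) (by simp)] at h7
            simpa [he0] using h7
          rw [hβ, zero_smul, add_zero, hA] at h5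
          exact heig g e0 _ (by rw [he0]; simp) h5
      -- r odd, different from p
      obtain ⟨n, hp, hn⟩ := FiniteField.card F p
      have hrq : ¬ r ∣ Fintype.card F := fun h => hrp ((Nat.prime_dvd_prime_iff_eq hr.out hp).1
        (hr.out.dvd_of_dvd_pow (hn ▸ h)))
      have hQ0 : (Fintype.card F : ZMod r) ≠ 0 := by rwa [Ne, ZMod.natCast_eq_zero_iff]
      obtain ⟨e, he⟩ : ∃ e, e = orderOf (Fintype.card F : ZMod r) := ⟨_, rfl⟩
      have he0 : 0 < e := he ▸ orderOf_pos_iff.2
        (isOfFinOrder_iff_pow_eq_one.2 ⟨r - 1, by have := hr.out.two_le; omega, ZMod.pow_card_sub_one_eq_one hQ0⟩)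
      have hcard : r ∣ Nat.card (symplecticGroup (Fin d) F) := by
        rw [← card_spGL']
        exact hΩ.trans (Subgroup.index_dvd_card _)
      have hc := (blockDim_le hrF hcard).1
      rw [← he] at hc
      have hsmallk : r = k → blockDim e ≤ k - 1 := fun hrk => by
        subst hrk
        exact blockDim_small hr.out (he ▸ ZMod.orderOf_dvd_card_sub_one hQ0) hr2
      obtain ⟨b, hb⟩ : ∃ b, blockDim e = b + b := blockDim_even e
      have hb2 : blockDim e / 2 = b := by omega
      have hkb : ¬ k ∣ b := by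
        intro hdvd
        by_cases hrk : r = k
        · have := hsmallk hrk
          have := Nat.le_of_dvd (by have := blockDim_pos he0; omega) hdvd
          have := hk.two_le
          omega
        rcases (hr.out.dvd_mul).1 (hΩ.trans hidx) with h | h
        · exact hrq (hr.out.dvd_of_dvd_pow h)
        obtain ⟨i, hi, hri⟩ := hr.out.prime.exists_mem_finset_dvd h
        rw [Finset.mem_filter] at hi
        rw [← ZMod.natCast_eq_zero_iff, Nat.cast_sub (Nat.one_le_pow _ _ Fintype.card_pos), Nat.cast_pow, Nat.cast_one,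
          sub_eq_zero] at hri
        have h1 := blockDim_dvd (orderOf_dvd_of_pow_eq_one hri) (even_two_mul (i + 1))
        rw [← he, hb, ← two_mul, Nat.mul_dvd_mul_iff_left (by norm_num)] at h1
        exact hi.2 (hdvd.trans h1)
      obtain ⟨f, hf, hB, hfd, -⟩ := exists_element (d := d) hrF (he ▸ he0) (l := 1) (by rw [← he, mul_one]; exact hc)
      rw [← he, mul_one] at hfd
      refine ⟨⟨LinearMap.toMatrix' f, mem_sp_iff.2 fun u v => ?_⟩, Subtype.ext ?_, ?_, fun g hg hcom => ?_⟩
      · rw [← Matrix.toLin'_apply (LinearMap.toMatrix' f), ← Matrix.toLin'_apply (LinearMap.toMatrix' f),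
          Matrix.toLin'_toMatrix']
        exact hB u v
      · rw [SubmonoidClass.coe_pow]
        show LinearMap.toMatrix' f ^ r = 1
        rw [show LinearMap.toMatrix' f = LinearMap.toMatrixAlgEquiv' f from rfl, ← map_pow,
          show f ^ r = 1 from LinearMap.ext hf, map_one]
      · by_cases hrk : r = k
        · refine Or.inr ?_
          show 2 * (LinearMap.toMatrix' f - 1).rank < 2 * d
          have := rank_sub_one f
          have := hsmallk hrk
          have := hk.two_le
          omega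
        · exact Or.inl hrk
      obtain ⟨A, hA⟩ : ∃ A, A = g.1 * a * (g⁻¹).1 := ⟨_, rfl⟩
      rw [← hA] at hcom
      have hAinj : Function.Injective (Matrix.toLin' A) := by
        rw [injective_iff_map_eq_zero]
        intro v hv
        by_contra hv0
        exact heig g v 0 hv0 (by rw [← hA, zero_smul, ← Matrix.toLin'_apply]; exact hv)
      have hAs : ∀ u v, spBilin d F (Matrix.toLin' A u) v = spBilin d F u (Matrix.toLin' A v) := fun u v => by
        have hg' : ∀ u v, sympForm d F (g.1 *ᵥ u) (g.1 *ᵥ v) = sympForm d F u v := hg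
        have h : ∀ w, g.1 *ᵥ ((g⁻¹).1 *ᵥ w) = w := fun w => by rw [mulVec_mulVec, g.mul_inv, one_mulVec]
        rw [spBilin_apply, spBilin_apply, Matrix.toLin'_apply, Matrix.toLin'_apply, hA]
        simp only [← mulVec_mulVec]
        conv_lhs => rw [← h v, hg', hKf a ha, ← hg', h]
      obtain ⟨s, hs0, hs⟩ := block_fixed hr2 hrF he he0 hc hf hB hfd hAinj hAs fun v => by
        have h1 := congrArg (· *ᵥ v) hcom
        simp only [← mulVec_mulVec] at h1
        rw [← Matrix.toLin'_apply (LinearMap.toMatrix' f), ← Matrix.toLin'_apply (LinearMap.toMatrix' f),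
          Matrix.toLin'_toMatrix'] at h1
        simpa using h1
      rw [hb2] at hs
      obtain ⟨c, hac⟩ := scalar_of_fixed hK hk hkb ha (sub_eq_zero.1 (eq_zero_of_kill hK
        (x := a ^ (Fintype.card F ^ b) - a) (K.sub_mem (K.pow_mem ha _) ha) (v := (g⁻¹).1 *ᵥ s)
        (fun h0 => hs0 (by rw [← one_mulVec s, ← g.mul_inv, ← mulVec_mulVec, h0, mulVec_zero])) (by
        rw [Matrix.sub_mulVec, sub_eq_zero]
        have hpow : Matrix.toLin' A ^ (Fintype.card F ^ b) = Matrix.toLin' (A ^ (Fintype.card F ^ b)) :=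
          (map_pow (Matrix.toLinAlgEquiv' (R := F) (n := Fin d ⊕ Fin d)) A _).symm
        rw [hpow, Matrix.toLin'_apply, Matrix.toLin'_apply, hA, Units.conj_pow g a] at hs
        have h1 := congrArg ((g⁻¹).1 *ᵥ ·) hs
        simp only [mulVec_mulVec, ← mul_assoc, g.inv_mul, one_mul] at h1
        rw [mulVec_mulVec, mulVec_mulVec]
        exact h1)))
      exact hans c hac
    obtain ⟨x, hx⟩ : ∃ x : GL (Fin d ⊕ Fin d) F, x = (spToSpGL t).1 := ⟨_, rfl⟩
    have hxt : x.1 = t.1 := by rw [hx]; rfl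
    have hxr : x ^ r = 1 := by rw [hx, ← SubgroupClass.coe_pow, ← map_pow, htr, map_one]; rfl
    have hxs : ∀ z : F, (x : Matrix (Fin d ⊕ Fin d) (Fin d ⊕ Fin d) F) ≠ z • 1 := fun z hz => by
      refine hts 1 (one_mem _) ?_
      rw [← hxt, hz, Matrix.smul_mul, Matrix.mul_smul, one_mul, mul_one]
    obtain ⟨g, hg, hgx⟩ := h x (hx ▸ (spToSpGL t).2) ⟨1, by rw [hxr, one_smul]; rfl⟩ hxs
    have hval : ((g⁻¹ * x * g : GL (Fin d ⊕ Fin d) F) : Matrix (Fin d ⊕ Fin d) (Fin d ⊕ Fin d) F) =
        (g⁻¹).1 * t.1 * g.1 := by rw [Units.val_mul, Units.val_mul, hxt]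
    have hcom : (g⁻¹).1 * t.1 * g.1 * a = a * ((g⁻¹).1 * t.1 * g.1) := by
      rw [← hval]
      rcases hsmall with hrk | hR
      · refine commute_of_order hK hk hr.out hrk hgx ?_ ha
        have : (g⁻¹ * x * g) ^ r = g⁻¹ * x ^ r * g := by simpa using conj_pow (i := r) (a := g⁻¹) (b := x)
        rw [this, hxr, mul_one, inv_mul_cancel]
      · refine commute_of_rank hK hgx ?_ ha
        have hle : ((g⁻¹ * x * g : GL (Fin d ⊕ Fin d) F).1 - 1).rank ≤ (t.1 - 1).rank := by
          rw [hval, show (g⁻¹).1 * t.1 * g.1 - 1 = (g⁻¹).1 * (t.1 - 1) * g.1 by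
            rw [mul_sub, sub_mul, mul_one, g.inv_mul]]
          exact (Matrix.rank_mul_le_left _ _).trans (Matrix.rank_mul_le_right _ _)
        rw [Fintype.card_sum, Fintype.card_fin]
        omega
    refine hts g hg ?_
    calc t.1 * (g.1 * a * (g⁻¹).1) = g.1 * ((g⁻¹).1 * t.1 * g.1 * a) * (g⁻¹).1 := by
          simp only [← mul_assoc, g.mul_inv, one_mul]
      _ = g.1 * a * (g⁻¹).1 * t.1 := by
          rw [hcom]; simp only [mul_assoc, g.mul_inv, mul_one]
  · rintro ⟨rfl, rfl, rfl, hodd⟩ x hx ⟨z, hz⟩ hns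
    have h2 : (2 : F) ≠ 0 := fun h => by
      haveI : CharP F 2 := CharTwo.of_one_ne_zero_of_two_eq_zero one_ne_zero h
      have := FiniteField.even_card_of_char_two (ringChar.eq F 2)
      rw [Nat.odd_iff] at hodd
      omega
    exact quad_invol h2 hK hKf hKalt x hx hz hns

end CfsgLib.Classical22.PrimeMaps.FType
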