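/-
Elements of prime order of `PSL_n(q)` fixing a nested pair of subspaces of dimensions `m` and `n - m`.
-/
import Cfsg.Agent.Lib.Classical22.PrimeOrderSubspaces

set_option autoImplicit false

namespace CfsgLib.Classical22.PrimeMaps

open Matrix

variable {F : Type*} [Field F] [Fintype F]

theorem card_nested {n a b : ℕ} :
    Nat.card {P : Submodule F (Fin n → F) × Submodule F (Fin n → F) //
        P.1 ≤ P.2 ∧ Module.finrank F ↥P.1 = a ∧ Module.finrank F ↥P.2 = b} =
      Nat.card (Grass F (Fin n → F) b) * Nat.card (Grass F (Fin b → F) a) := by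
  rw [← Nat.card_prod]
  have fib : ∀ W : Grass F (Fin n → F) b,
      Nonempty ({U : Submodule F (Fin n → F) // U ≤ W.1 ∧ Module.finrank F U = a} ≃ Grass F (Fin b → F) a) := by
    intro W
    have e : W.1 ≃ₗ[F] (Fin b → F) := LinearEquiv.ofFinrankEq _ _ (by rw [W.2, Module.finrank_fin_fun])
    haveI : Finite (Fin n → F) := inferInstance
    have h1 : {U : Submodule F (Fin n → F) // U ≤ W.1 ∧ Module.finrank F U = a} ≃ Grass F W.1 a :=
      { toFun := fun U => ⟨U.1.comap W.1.subtype, by
          rw [(Submodule.comapSubtypeEquivOfLe U.2.1).finrank_eq, U.2.2]⟩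
        invFun := fun J => ⟨J.1.map W.1.subtype, Submodule.map_subtype_le _ _, by
          rw [← (Submodule.equivMapOfInjective _ (Submodule.subtype_injective _) J.1).finrank_eq, J.2]⟩
        left_inv := fun U => Subtype.ext (Submodule.map_comap_eq_self (by rw [Submodule.range_subtype]; exact U.2.1))
        right_inv := fun J => Subtype.ext (Submodule.comap_map_eq_of_injective (Submodule.subtype_injective _) J.1) }
    exact ⟨h1.trans (Finite.equivFinOfCardEq (card_grass_congr e a) |>.trans (Finite.equivFin _).symm)⟩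
  refine Nat.card_congr (Equiv.trans ?_ ((Equiv.sigmaCongrRight fun W => (fib W).some).trans (Equiv.sigmaEquivProd _ _)))
  exact
    { toFun := fun P => ⟨⟨P.1.2, P.2.2.2⟩, ⟨P.1.1, P.2.1, P.2.2.1⟩⟩
      invFun := fun P => ⟨(P.2.1, P.1.1), P.2.2.1, P.2.2.2, P.1.2⟩
      left_inv := fun P => rfl
      right_inv := fun P => rfl }

theorem fixed_pair_iff {p q n m r : ℕ} [hp : Fact p.Prime] [CharP F p] (hq : Fintype.card F = q)
    (hm : 1 ≤ m) (hmn : 2 * m < n) [hr : Fact r.Prime]
    (hd : r ∣ Nat.card {P : Submodule F (Fin n → F) × Submodule F (Fin n → F) //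
        P.1 ≤ P.2 ∧ Module.finrank F ↥P.1 = m ∧ Module.finrank F ↥P.2 = n - m}) :
    (∀ x : Matrix.SpecialLinearGroup (Fin n) F,
      (∃ c : F, ((x ^ r : Matrix.SpecialLinearGroup (Fin n) F) : Matrix (Fin n) (Fin n) F) =
        c • (1 : Matrix (Fin n) (Fin n) F)) →
      (∀ c : F, (x : Matrix (Fin n) (Fin n) F) ≠ c • (1 : Matrix (Fin n) (Fin n) F)) →
      ∃ U W : Submodule F (Fin n → F), U ≤ W ∧ Module.finrank F ↥U = m ∧ Module.finrank F ↥W = n - m ∧
        U.map (Matrix.toLin' (x : Matrix (Fin n) (Fin n) F)) ≤ U ∧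
        W.map (Matrix.toLin' (x : Matrix (Fin n) (Fin n) F)) ≤ W) ↔
    (r ≠ p ∧
      ((orderOf (q : ZMod r) = 1 ∧ (r ∣ m ∨ (padicValNat r n ≤ padicValNat r (q - 1) ∧
          (r = 2 → Even n → q % 4 = 1)))) ∨
       (2 ≤ orderOf (q : ZMod r) ∧ orderOf (q : ZMod r) ≤ m ∧
          2 * (m % orderOf (q : ZMod r)) ≤ n % orderOf (q : ZMod r)))) := by
  classical
  rw [card_nested] at hd
  have hd' := hr.out.dvd_mul.1 hd
  have hrp : r ≠ p := fun e => by
    subst e
    rcases hd' with h | h
    · exact not_dvd_char (F := F) (V := Fin n → F) (by rw [Module.finrank_fin_fun]; omega) h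
    · exact not_dvd_char (F := F) (V := Fin (n - m) → F) (by rw [Module.finrank_fin_fun]; omega) h
  have hrF : (r : F) ≠ 0 := natCast_ne_zero_of_ne (p := p) hrp
  obtain ⟨hi0, hi1⟩ := order_facts (F := F) (p := p) (r := r) hq hrp
  obtain ⟨i, hi⟩ : ∃ i, i = orderOf (q : ZMod r) := ⟨_, rfl⟩
  have hiF : orderOf (Fintype.card F : ZMod r) = i := by rw [hq, hi]
  rw [← hi] at hi0 hi1 ⊢
  constructor
  · intro h
    refine ⟨hrp, ?_⟩
    rcases (show i = 1 ∨ 2 ≤ i by omega) with h1 | h2
    · refine Or.inl ⟨h1, or_iff_not_imp_left.2 fun hrm => ?_⟩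
      by_contra hcond
      obtain ⟨A, c, hdet, hA, hc⟩ := (nonpower_det_cond hq hrp (hi1.1 h1) (by omega)).2 hcond
      obtain ⟨x, hx⟩ : ∃ x : Matrix.SpecialLinearGroup (Fin n) F, (x : Matrix (Fin n) (Fin n) F) = A :=
        ⟨⟨A, hdet⟩, rfl⟩
      obtain ⟨U, W, -, hU, -, hUx, -⟩ := h x ⟨c, by rw [Matrix.SpecialLinearGroup.coe_pow, hx]; exact hA⟩ (fun z hz => by
        rw [hx] at hz
        rw [hz, _root_.smul_pow, one_pow] at hA
        haveI : Nonempty (Fin n) := ⟨⟨0, by omega⟩⟩
        exact hc z (by simpa using congrFun (congrFun hA ⟨0, by omega⟩) ⟨0, by omega⟩))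
      refine hrm (hU ▸ (nonpower_spec hr.out hrF hc (f := Matrix.toLin' A) (fun v => ?_)
        ((inv_iff_map A U).1 (hx ▸ hUx))).1)
      rw [← Matrix.toLin'_pow, hA, map_smul, Matrix.toLin'_one]; rfl
    · refine Or.inr ⟨h2, ?_⟩
      have hin : i ≤ n := by
        rcases hd' with h | h <;>
          have := order_le_finrank hrF (by rw [Module.finrank_fin_fun]; omega) h <;>
          rw [Module.finrank_fin_fun, hiF] at this <;> omega
      obtain ⟨A, hA, hdet, hns, hfix⟩ := exists_order_matrix (n := n) hrF (hiF.symm ▸ h2) (hiF.symm ▸ hin)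
      rw [hiF] at hfix
      obtain ⟨x, hx⟩ : ∃ x : Matrix.SpecialLinearGroup (Fin n) F, (x : Matrix (Fin n) (Fin n) F) = A :=
        ⟨⟨A, hdet⟩, rfl⟩
      obtain ⟨U, W, hUW, hU, hW, hUx, hWx⟩ := h x
        ⟨1, by rw [Matrix.SpecialLinearGroup.coe_pow, hx, one_smul]; exact hA⟩ (by rw [hx]; exact hns)
      rw [hx] at hUx hWx
      have hpow : ∀ v, ((Matrix.toLin' A) ^ r) v = v := fun v => by
        rw [← Matrix.toLin'_pow, hA, Matrix.toLin'_one]; rfl
      have h' : ∀ X : Submodule F (Fin n → F), Inv (Matrix.toLin' A) X →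
          ∃ j u, Module.finrank F (X ⊓ fixed (Matrix.toLin' A) : Submodule F (Fin n → F)) = j ∧ j ≤ n % i ∧
            Module.finrank F X = j + i * u := by
        intro X hX
        have h1 := (order_spec hrF hpow hX).1
        rw [hiF] at h1
        obtain ⟨u, hu⟩ := h1
        have := Submodule.finrank_mono (inf_le_left : X ⊓ fixed (Matrix.toLin' A) ≤ X)
        exact ⟨_, u, rfl, (Submodule.finrank_mono inf_le_right).trans hfix, by omega⟩
      obtain ⟨j, u, hj, hjk, hju⟩ := h' U ((inv_iff_map A U).1 hUx)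
      obtain ⟨j', u', hj', hjk', hju'⟩ := h' W ((inv_iff_map A W).1 hWx)
      have hjj : j ≤ j' := by rw [← hj, ← hj']; exact Submodule.finrank_mono (inf_le_inf_right _ hUW)
      have hlt := Nat.mod_lt n (show i > 0 by omega)
      have hmj : m % i = j := by
        rw [show m = j + i * u by omega, Nat.add_mul_mod_self_left, Nat.mod_eq_of_lt (by omega)]
      have hmj' : m % i = n % i - j' := by
        have hmd := Nat.div_add_mod n i
        have hle : u' ≤ n / i := Nat.le_of_not_lt fun hgt => by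
          have := Nat.mul_le_mul_left i (show n / i + 1 ≤ u' by omega)
          rw [Nat.mul_succ] at this
          omega
        obtain ⟨v, hv⟩ : ∃ v, n / i = u' + v := ⟨n / i - u', by omega⟩
        rw [hv, Nat.mul_add] at hmd
        rw [show m = (n % i - j') + i * v by omega, Nat.add_mul_mod_self_left, Nat.mod_eq_of_lt (by omega)]
      refine ⟨?_, by omega⟩
      by_contra hgt
      rw [Nat.mod_eq_of_lt (show m < i by omega)] at hmj hmj'
      rcases hd' with h0 | h0
      · have hdual := card_grass_dual (F := F) (V := Fin n → F) (m := n - m) (by rw [Module.finrank_fin_fun]; omega)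
        rw [Module.finrank_fin_fun, show n - (n - m) = m by omega] at hdual
        rw [hdual] at h0
        have := (mod_lt_of_dvd hrF (by omega) (hiF.symm ▸ h2) h0 (by rw [hiF]; omega)).2
        rw [hiF] at this
        omega
      · have := (mod_lt_of_dvd hrF (by omega) (hiF.symm ▸ h2) h0 (by rw [hiF]; omega)).2
        rw [hiF] at this
        have hmd := Nat.div_add_mod n i
        rw [show n - m = (n % i - m) + i * (n / i) by omega, Nat.add_mul_mod_self_left,
          Nat.mod_eq_of_lt (show n % i - m < i by omega)] at this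
        omega
  · rintro ⟨-, hcond⟩ x ⟨c, hc⟩ hns
    rw [Matrix.SpecialLinearGroup.coe_pow] at hc
    have hc0 : c ≠ 0 := fun h0 => by
      have h := congrArg Matrix.det hc
      haveI : Nonempty (Fin n) := ⟨⟨0, by omega⟩⟩
      rw [Matrix.det_pow, x.det_coe, one_pow, h0, zero_smul, Matrix.det_zero] at h
      exact one_ne_zero h
    by_cases hpow : ∃ s : F, s ^ r = c
    · obtain ⟨s, rfl⟩ := hpow
      obtain ⟨k, hkn, hdiv, hspec⟩ := power_spec hrF (fun h0 => hc0 (by rw [h0, zero_pow hr.out.ne_zero])) hc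
      rw [hiF] at hdiv hspec
      obtain ⟨u, hu⟩ := hdiv
      have hmd := Nat.div_add_mod m i
      have hk : n % i ≤ k := by rw [show n = k + i * u by omega, Nat.add_mul_mod_self_left]; exact Nat.mod_le _ _
      rcases le_or_gt (m / i) (u / 2) with hcase | hcase
      · obtain ⟨t, ht⟩ : ∃ t, t = m / i := ⟨_, rfl⟩
        obtain ⟨v, hv⟩ : ∃ v, u = t + v := ⟨u - t, by omega⟩
        have hu2 : i * u = i * t + i * v := by rw [hv, Nat.mul_add]
        rw [← ht] at hmd hcase
        have h2j : 2 * (m % i) ≤ k := by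
          rcases hcond with ⟨h1, -⟩ | ⟨-, -, h3⟩
          · rw [h1, Nat.mod_one, mul_zero]; exact Nat.zero_le _
          · omega
        obtain ⟨U, W, hU, hW, hUW, hUd, hWd⟩ := hspec (m % i) (k - m % i) t v (by omega) (by omega) (by omega)
          (by rw [mul_comm v]; omega)
        exact ⟨U, W, hUW, by rw [hUd, mul_comm t]; omega, by rw [hWd, mul_comm v]; omega, hU, hW⟩
      · obtain ⟨t, ht⟩ : ∃ t, t = u / 2 := ⟨_, rfl⟩
        obtain ⟨v, hv⟩ : ∃ v, u = t + v := ⟨u - t, by omega⟩
        have hu2 : i * u = i * t + i * v := by rw [hv, Nat.mul_add]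
        have hle : i * t ≤ i * (m / i) := Nat.mul_le_mul_left i (by omega)
        have hle2 : i * v ≤ i * (m / i) := Nat.mul_le_mul_left i (by omega)
        have hle3 : i * t ≤ i * v := Nat.mul_le_mul_left i (by omega)
        obtain ⟨U, W, hU, hW, hUW, hUd, hWd⟩ := hspec (m - i * t) (n - m - i * t) t t (by omega) le_rfl (by omega)
          (by rw [mul_comm t]; omega)
        exact ⟨U, W, hUW, by rw [hUd, mul_comm t]; omega, by rw [hWd, mul_comm t]; omega, hU, hW⟩
    · push_neg at hpow
      have hrq : r ∣ q - 1 := by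
        by_contra hnd
        have hco : (Nat.card Fˣ).Coprime r := by
          classical
          rw [Nat.card_eq_fintype_card, Fintype.card_units, hq]
          exact ((Nat.Prime.coprime_iff_not_dvd hr.out).2 hnd).symm
        refine hpow (((powCoprime hco).symm (Units.mk0 c hc0) : Fˣ) : F) ?_
        have h := congrArg Units.val ((powCoprime hco).apply_symm_apply (Units.mk0 c hc0))
        rw [powCoprime_apply, Units.val_pow_eq_pow_val, Units.val_mk0] at h
        exact h
      rcases hcond with ⟨-, hrm | hcond⟩ | ⟨h2, -⟩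
      · have hsq : ∀ v, ((Matrix.toLin' (x : Matrix (Fin n) (Fin n) F)) ^ r) v = c • v := fun v => by
          rw [← Matrix.toLin'_pow, hc, map_smul, Matrix.toLin'_one]; rfl
        have hrn : r ∣ n - m := by
          have h := (det_nonpower hr.out hpow _ hc).1
          exact Nat.dvd_sub h hrm
        obtain ⟨-, hspec⟩ := nonpower_spec hr.out hrF hpow hsq (X := ⊤) fun _ _ => Submodule.mem_top
        obtain ⟨W, hW, -, hWd⟩ := hspec ((n - m) / r) (by
          rw [Nat.div_mul_cancel hrn, finrank_top, Module.finrank_fin_fun]; omega)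
        rw [Nat.div_mul_cancel hrn] at hWd
        obtain ⟨U, hU, hUW, hUd⟩ := (nonpower_spec hr.out hrF hpow hsq hW).2 (m / r)
          (by rw [Nat.div_mul_cancel hrm, hWd]; omega)
        rw [Nat.div_mul_cancel hrm] at hUd
        exact ⟨U, W, hUW, hUd, hWd, (inv_iff_map _ U).2 hU, (inv_iff_map _ W).2 hW⟩
      · exact absurd hcond ((nonpower_det_cond hq hrp hrq (by omega)).1 ⟨x, c, x.det_coe, hc, hpow⟩)
      · have := hi1.2 hrq
        omega

end CfsgLib.Classical22.PrimeMaps
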