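/-
Totally isotropic subspaces invariant under symplectic maps with scalar square.
-/
import Cfsg.Agent.Lib.Classical22.PrimeOrderSympIso

set_option autoImplicit false

namespace CfsgLib.Classical22.PrimeMaps.Symp

open Module Polynomial

universe u

variable {F : Type u} [Field F] {V : Type u} [AddCommGroup V] [Module F V] [FiniteDimensional F V]

theorem exists_finrank_eq (E : Submodule F V) {j : ℕ} (hj : j ≤ finrank F E) :
    ∃ U, U ≤ E ∧ finrank F U = j := by
  let b := Module.finBasis F E
  refine ⟨Submodule.span F (Set.range fun i : Fin j => ((b (Fin.castLE hj i) : E) : V)), ?_, ?_⟩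
  · rw [Submodule.span_le]
    rintro _ ⟨i, rfl⟩
    exact (b (Fin.castLE hj i)).2
  · exact (finrank_span_eq_card ((b.linearIndependent.comp _ (Fin.castLE_injective hj)).map' E.subtype
      (Submodule.ker_subtype _))).trans (Fintype.card_fin j)

variable {B : LinearMap.BilinForm F V} {f : V →ₗ[F] V}

/-- A plane spanned by a vector and its image under a map of square `-1`. -/
theorem pair_span (hf : ∀ v, f (f v) = -v) (hns : ∀ w : F, w * w ≠ -1) {v : V} (hv : v ≠ 0) :
    Inv f (Submodule.span F {v, f v}) ∧ finrank F (Submodule.span F {v, f v}) = 2 := by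
  refine ⟨fun x hx => ?_, ?_⟩
  · obtain ⟨a, b, rfl⟩ := Submodule.mem_span_pair.1 hx
    rw [map_add, map_smul, map_smul, hf]
    exact Submodule.mem_span_pair.2 ⟨-b, a, by rw [smul_neg, neg_smul, add_comm]⟩
  · rw [show ({v, f v} : Set V) = Set.range ![v, f v] by simp [Set.pair_comm], finrank_span_eq_card ?_]
    · simp
    · refine linearIndependent_fin2.2 ⟨?_, ?_⟩
      · simp only [Matrix.cons_val_one, Matrix.cons_val_fin_one]
        intro h
        have := hf v
        rw [h, map_zero, eq_comm, neg_eq_zero] at this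
        exact hv this
      · intro x hx
        simp only [Matrix.cons_val_one, Matrix.cons_val_fin_one, Matrix.cons_val_zero] at hx
        have h := congrArg f hx
        rw [map_smul, hf, smul_neg] at h
        -- `f v = -(x • v)` and `x • f v = v`
        have h2 : (x * x + 1) • v = 0 := by
          rw [add_smul, one_smul, mul_smul, show x • v = -f v by rw [← h, neg_neg], smul_neg, hx, neg_add_cancel]
        exact hns x (eq_neg_of_add_eq_zero_left ((smul_eq_zero.1 h2).resolve_right hv))

theorem exists_iso_quad [Fintype F] (hA : B.IsAlt) (hq : Odd (Fintype.card F)) (h2 : (2 : F) ≠ 0)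
    (hns : ∀ w : F, w * w ≠ -1) (hf : ∀ v, f (f v) = -v) (hB : ∀ u v, B (f u) (f v) = B u v) :
    ∀ (g : ℕ) (Y : Submodule F V), Inv f Y → Nd B Y → 4 * g ≤ finrank F Y →
      ∃ U, Inv f U ∧ Iso B U ∧ U ≤ Y ∧ finrank F U = 2 * g := by
  have hsym : ∀ u v, B v (f u) = B u (f v) := fun u v => by
    rw [← hB v (f u), hf, map_neg, LinearMap.IsAlt.neg hA]
  have horth : ∀ {W : Submodule F V}, Inv f W → Inv f (B.orthogonal W) := fun hW x hx n hn => by
    have e : f (f (-n)) = n := by rw [hf, neg_neg]
    rw [← e]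
    exact (hB _ _).trans (hx _ (hW _ (Submodule.neg_mem _ hn)))
  have hplane : ∀ Y, Inv f Y → Nd B Y → Y ≠ ⊥ → ∃ v ∈ Y, B v (f v) ≠ 0 ∧ Nd B (Submodule.span F {v, f v}) := by
    intro Y hY hYn hY0
    obtain ⟨v, hv, hc⟩ : ∃ v ∈ Y, B v (f v) ≠ 0 := by
      by_contra hcon
      push Not at hcon
      obtain ⟨u, hu, hu0⟩ := Y.exists_mem_ne_zero_of_ne_bot hY0
      refine hu0 (hYn u hu fun y hy => ?_)
      have h := hcon (u + -f y) (Y.add_mem hu (Y.neg_mem (hY y hy)))
      have e1 := hcon u hu
      have e2 := hcon (-f y) (Y.neg_mem (hY y hy))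
      simp only [map_add, map_neg, LinearMap.add_apply, LinearMap.neg_apply, hf, neg_neg] at h e2
      have e3 := hsym u (f y)
      rw [hf, map_neg] at e3
      rw [e1, e3] at h
      have : (2 : F) * B u y = 0 := by linear_combination h - e2
      exact (mul_eq_zero.1 this).resolve_left h2
    refine ⟨v, hv, hc, fun u hu hu' => ?_⟩
    obtain ⟨a, b, rfl⟩ := Submodule.mem_span_pair.1 hu
    have h1 := hu' v (Submodule.subset_span (by simp))
    have h3 := hu' (f v) (Submodule.subset_span (by simp))
    simp only [map_add, map_smul, LinearMap.add_apply, LinearMap.smul_apply, hA v, hA (f v), smul_zero, zero_add,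
      add_zero, smul_eq_mul, mul_zero, mul_eq_zero] at h1 h3
    rw [h3.resolve_right hc, h1.resolve_right fun h => hc (hA.isRefl _ _ h)]
    simp
  intro g
  induction g with
  | zero =>
    intro Y _ _ _
    exact ⟨⊥, fun w hw => by rw [(Submodule.mem_bot F).1 hw, map_zero]; exact Submodule.zero_mem _,
      fun a ha b _ => by rw [(Submodule.mem_bot F).1 ha, map_zero, LinearMap.zero_apply], bot_le,
      by rw [finrank_bot, mul_zero]⟩
  | succ g ih =>
    intro Y hY hYn hd
    obtain ⟨v, hv, hcv, hPn⟩ := hplane Y hY hYn fun h => by rw [h, finrank_bot] at hd; omega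
    have hv0 : v ≠ 0 := fun h => hcv (by rw [h, map_zero, LinearMap.zero_apply])
    obtain ⟨hP, hPd⟩ := pair_span hf hns hv0
    have hPY : Submodule.span F {v, f v} ≤ Y := Submodule.span_le.2 (Set.insert_subset hv
      (Set.singleton_subset_iff.2 (hY v hv)))
    obtain ⟨h1, -, h3, h4⟩ := compl_in hA hPn hPY
    rw [hPd] at h4
    obtain ⟨w, hw, hcw, hQn⟩ := hplane (Y ⊓ B.orthogonal (Submodule.span F {v, f v})) (fun x hx => ⟨hY x hx.1, horth hP x hx.2⟩) (h3 hYn)
      fun h => by rw [h, finrank_bot] at h4; omega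
    have hw0 : w ≠ 0 := fun h => hcw (by rw [h, map_zero, LinearMap.zero_apply])
    obtain ⟨hQ, hQd⟩ := pair_span hf hns hw0
    have hQY : Submodule.span F {w, f w} ≤ Y ⊓ B.orthogonal (Submodule.span F {v, f v}) := Submodule.span_le.2
      (Set.insert_subset hw (Set.singleton_subset_iff.2 ⟨hY w hw.1, horth hP w hw.2⟩))
    obtain ⟨W, hW⟩ : ∃ W, W = Submodule.span F {v, f v} ⊔ Submodule.span F {w, f w} := ⟨_, rfl⟩
    have hWn : Nd B W := hW ▸ nd_sup hA hPn hQn (hQY.trans inf_le_right)
    have hWY : W ≤ Y := hW ▸ sup_le hPY (hQY.trans inf_le_left)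
    have hWinv : Inv f W := hW ▸ inv_sup hP hQ
    have hWd : finrank F W = 4 := by
      have h := Submodule.finrank_sup_add_finrank_inf_eq (Submodule.span F {v, f v}) (Submodule.span F {w, f w})
      rw [show Submodule.span F {v, f v} ⊓ Submodule.span F {w, f w} = ⊥ from
        eq_bot_iff.2 (h1 ▸ inf_le_inf_left _ hQY), finrank_bot, add_zero, hPd, hQd,
        ← hW] at h
      exact h
    -- an isotropic plane inside `W`
    obtain ⟨a, b, hab⟩ := FiniteField.exists_root_sum_quadratic (R := F)
      (degree_X_pow_sub_C (n := 2) two_pos (-(B w (f w) / B v (f v)))) (degree_X_pow (R := F) 2)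
      (Nat.odd_iff.1 hq)
    simp only [eval_sub, eval_pow, eval_X, eval_C] at hab
    obtain ⟨u, hu⟩ : ∃ u, u = a • v + b • f v + w := ⟨_, rfl⟩
    have hwv : ∀ x ∈ Submodule.span F {v, f v}, ∀ y ∈ Submodule.span F {w, f w}, B x y = 0 :=
      fun x hx y hy => (hQY hy).2 x hx
    have mv : v ∈ Submodule.span F {v, f v} := Submodule.subset_span (by simp)
    have mfv : f v ∈ Submodule.span F {v, f v} := Submodule.subset_span (by simp)
    have mw : w ∈ Submodule.span F {w, f w} := Submodule.subset_span (by simp)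
    have mfw : f w ∈ Submodule.span F {w, f w} := Submodule.subset_span (by simp)
    have huu : B u (f u) = 0 := by
      have e : B w (f w) = -(a ^ 2 + b ^ 2) * B v (f v) := by
        have h := congrArg (· * B v (f v)) hab
        simp only [zero_mul, sub_neg_eq_add, add_mul, div_mul_cancel₀ _ hcv] at h
        linear_combination h
      rw [hu]
      simp only [map_add, map_smul, hf, map_neg, LinearMap.add_apply, LinearMap.smul_apply, smul_eq_mul,
        hwv v mv w mw, hwv v mv _ mfw, hwv _ mfv w mw, hwv _ mfv _ mfw, hA.isRefl _ _ (hwv v mv w mw),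
        hA.isRefl _ _ (hwv v mv _ mfw), hA.isRefl _ _ (hwv _ mfv w mw), hA v, hA (f v),
        ← LinearMap.IsAlt.neg hA (f v) v, smul_neg, LinearMap.neg_apply]
      rw [← LinearMap.IsAlt.neg hA v (f v), e]
      ring
    have hu0 : u ≠ 0 := fun h => hcw (by
      have e : w = -(a • v + b • f v) := eq_neg_of_add_eq_zero_right (hu.symm.trans h)
      have hx : -(a • v + b • f v) ∈ Submodule.span F {v, f v} :=
        Submodule.neg_mem _ (Submodule.add_mem _ (Submodule.smul_mem _ _ mv) (Submodule.smul_mem _ _ mfv))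
      exact hwv w (e.symm ▸ hx) _ mfw)
    obtain ⟨hU, hUd⟩ := pair_span hf hns hu0
    have huW : Submodule.span F {u, f u} ≤ W := by
      have hm : u ∈ W := by
        rw [hu, hW]
        exact Submodule.add_mem_sup (Submodule.add_mem _ (Submodule.smul_mem _ _ mv) (Submodule.smul_mem _ _ mfv)) mw
      exact Submodule.span_le.2 (Set.insert_subset hm (Set.singleton_subset_iff.2 (hWinv u hm)))
    have hUi : Iso B (Submodule.span F {u, f u}) := by
      intro x hx y hy
      obtain ⟨a, b, rfl⟩ := Submodule.mem_span_pair.1 hx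
      obtain ⟨c, e, rfl⟩ := Submodule.mem_span_pair.1 hy
      simp [huu, hA.isRefl _ _ huu, hA u, hA (f u)]
    obtain ⟨g1, -, g3, g4⟩ := compl_in hA hWn hWY
    obtain ⟨U, hU', hUi', hUY, hUd'⟩ := ih (Y ⊓ B.orthogonal W) (fun x hx => ⟨hY x hx.1, horth hWinv x hx.2⟩)
      (g3 hYn) (by omega)
    have ho : U ≤ B.orthogonal (Submodule.span F {u, f u}) := fun x hx n hn => (hUY hx).2 n (huW hn)
    refine ⟨Submodule.span F {u, f u} ⊔ U, inv_sup hU hU', iso_sup hA hUi hUi' ho,
      sup_le (huW.trans hWY) (hUY.trans inf_le_left), ?_⟩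
    have h := Submodule.finrank_sup_add_finrank_inf_eq (Submodule.span F {u, f u}) U
    rw [eq_bot_iff.2 (g1 ▸ inf_le_inf huW hUY : Submodule.span F {u, f u} ⊓ U ≤ ⊥), finrank_bot, add_zero, hUd,
      hUd'] at h
    omega

end CfsgLib.Classical22.PrimeMaps.Symp
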