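/-
Counting totally isotropic subspaces, and witness isometries without invariant totally isotropic subspaces.
-/
import Cfsg.Agent.Lib.Classical22.PrimeOrderSympIso
import Cfsg.Agent.Lib.Classical22.PrimeOrderSympWreath
import Cfsg.Agent.Lib.Classical.SpOrthPrimeClasses
import Cfsg.Agent.Lib.Classical.SpFrames

set_option autoImplicit false

namespace CfsgLib.Classical22.PrimeMaps.Symp

open Module Polynomial CfsgLib.Classical22.PrimeMaps.Wreath CfsgLib.Classical CfsgLib.Classical.InvIdx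
  CfsgLib.Classical.SDBlock CfsgLib.Classical.SpOPrime Cfsg

universe u

variable {F : Type u} [Field F] [Fintype F] {d m : ℕ}

/-- The totally isotropic `m`-spaces. -/
abbrev IsoSpace (F : Type u) [Field F] (d m : ℕ) : Type u :=
  {W : Submodule F (Fin d ⊕ Fin d → F) // finrank F W = m ∧ ∀ u ∈ W, ∀ v ∈ W, Cfsg.sympForm d F u v = 0}

theorem card_iso_identity (hm : m ≤ d) :
    ∃ e, 2 * e = m * (m + 1) + 4 * m * (d - m) ∧
      Nat.card (IsoSpace F d m) * (∏ j : Fin m, (Fintype.card F ^ m - Fintype.card F ^ (j : ℕ))) *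
          (Fintype.card F ^ e * Nat.card (Matrix.symplecticGroup (Fin (d - m)) F)) =
        Nat.card (Matrix.symplecticGroup (Fin d) F) := by
  classical
  obtain ⟨n, rfl⟩ : ∃ n, d = n + m := ⟨d - m, by omega⟩
  rw [Nat.add_sub_cancel]
  obtain ⟨e, he, hc⟩ := card_sp_frame (F := F) m n
  refine ⟨e, he, ?_⟩
  rw [hc, mul_comm (Fintype.card F ^ e * _) (Nat.card (IsoFrame F (sympForm (n + m) F) m))]
  congr 1
  obtain ⟨π, hπ⟩ : ∃ π : IsoFrame F (sympForm (n + m) F) m → IsoSpace F (n + m) m,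
      ∀ f, (π f).1 = Submodule.span F (Set.range f.1) := by
    refine ⟨fun f => ⟨Submodule.span F (Set.range f.1), (finrank_span_eq_card f.2.1).trans (Fintype.card_fin m),
      fun u hu v hv => ?_⟩, fun f => rfl⟩
    induction hu using Submodule.span_induction with
    | zero => rw [← spBilin_apply', map_zero, LinearMap.zero_apply]
    | add y y' _ _ h h' => rw [sympForm_add_left, h, h', add_zero]
    | smul c y _ h => rw [sympForm_smul_left, h, mul_zero]
    | mem y hy =>
      induction hv using Submodule.span_induction with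
      | zero => rw [← spBilin_apply', map_zero]
      | add b b' _ _ h h' => rw [sympForm_add_right, h, h', add_zero]
      | smul c b _ h => rw [sympForm_smul_right, h, mul_zero]
      | mem b hb =>
        obtain ⟨k, rfl⟩ := hy
        obtain ⟨l, rfl⟩ := hb
        exact f.2.2 k l
  haveI : Finite (IsoSpace F (n + m) m) := Subtype.finite
  haveI := Fintype.ofFinite (IsoSpace F (n + m) m)
  rw [← Nat.card_congr (Equiv.sigmaFiberEquiv π), Nat.card_sigma, Nat.card_eq_fintype_card]
  rw [Finset.sum_congr rfl fun W _ => ?_, Finset.sum_const, Finset.card_univ, smul_eq_mul]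
  rw [← card_frames_in (sympForm (n + m) F) W.2.2 W.2.1]
  refine Nat.card_congr (Equiv.subtypeEquivRight fun f => ⟨fun h i => ?_, fun h => Subtype.ext ?_⟩)
  · rw [← h, hπ]; exact Submodule.subset_span ⟨i, rfl⟩
  · rw [hπ]
    refine Submodule.eq_of_le_of_finrank_eq (Submodule.span_le.2 ?_) ?_
    · rintro _ ⟨i, rfl⟩; exact h i
    · rw [finrank_span_eq_card f.2.1, Fintype.card_fin, W.2.1]

theorem card_iso_core (hm : m ≤ d) :
    Nat.card (IsoSpace F d m) * (∏ j ∈ Finset.range m, (Fintype.card F ^ (j + 1) - 1)) *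
        ∏ j ∈ Finset.range (d - m), (Fintype.card F ^ (2 * (j + 1)) - 1) =
      ∏ j ∈ Finset.range d, (Fintype.card F ^ (2 * (j + 1)) - 1) := by
  obtain ⟨e, he, h⟩ := card_iso_identity (F := F) hm
  rw [CfsgLib.Classical.card_sp, CfsgLib.Classical.card_sp] at h
  have hgl : ∏ j : Fin m, (Fintype.card F ^ m - Fintype.card F ^ (j : ℕ)) =
      Fintype.card F ^ (∑ j ∈ Finset.range m, j) * ∏ j ∈ Finset.range m, (Fintype.card F ^ (j + 1) - 1) := by
    rw [Fin.prod_univ_eq_prod_range (fun j => Fintype.card F ^ m - Fintype.card F ^ j), ← Finset.prod_pow_eq_pow_sum,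
      ← Finset.prod_range_reflect (fun j => Fintype.card F ^ (j + 1) - 1), ← Finset.prod_mul_distrib]
    refine Finset.prod_congr rfl fun j hj => ?_
    rw [Finset.mem_range] at hj
    rw [Nat.mul_sub, mul_one, ← pow_add, show j + (m - 1 - j + 1) = m by omega]
  rw [hgl] at h
  have hexp : (∑ j ∈ Finset.range m, j) + e + (d - m) ^ 2 = d ^ 2 := by
    have hs : 2 * (∑ j ∈ Finset.range m, j) + m = m * m := by
      clear h hgl hm he
      induction m with
      | zero => simp
      | succ k ih => rw [Finset.sum_range_succ]; nlinarith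
    obtain ⟨n, rfl⟩ : ∃ n, d = n + m := ⟨d - m, by omega⟩
    rw [Nat.add_sub_cancel] at he ⊢
    nlinarith
  refine Nat.eq_of_mul_eq_mul_left (pow_pos (Fintype.card_pos (α := F)) (d ^ 2)) ?_
  rw [← h]
  conv_lhs => rw [← hexp]
  rw [pow_add, pow_add]
  ring

theorem not_dvd_char {p : ℕ} [hp : Fact p.Prime] [CharP F p] (hm : m ≤ d) : ¬ p ∣ Nat.card (IsoSpace F d m) := by
  intro h
  have h1 : p ∣ ∏ j ∈ Finset.range d, (Fintype.card F ^ (2 * (j + 1)) - 1) := by
    rw [← card_iso_core hm]; exact (h.mul_right _).mul_right _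
  obtain ⟨j, -, hj⟩ := (Prime.dvd_finset_prod_iff hp.out.prime _).1 h1
  obtain ⟨k, -, hk⟩ := FiniteField.card F p
  have h2 : p ∣ Fintype.card F ^ (2 * (j + 1)) := hk ▸ dvd_pow (dvd_pow_self p k.pos.ne') (by omega)
  have h3 : 1 ≤ Fintype.card F ^ (2 * (j + 1)) := Nat.one_le_pow _ _ Fintype.card_pos
  have := Nat.dvd_sub h2 hj
  rw [Nat.sub_sub_self h3] at this
  exact hp.out.not_dvd_one this

theorem window_of_dvd {r : ℕ} [hr : Fact r.Prime] (hm : m ≤ d) (h : r ∣ Nat.card (IsoSpace F d m)) :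
    ∃ j < m, blockDim (orderOf (Fintype.card F : ZMod r)) ∣ 2 * (d - j) := by
  have hcore := card_iso_core (F := F) hm
  obtain ⟨n, rfl⟩ : ∃ n, d = n + m := ⟨d - m, by omega⟩
  rw [Nat.add_sub_cancel, Finset.prod_range_add] at hcore
  have hpos : 0 < ∏ j ∈ Finset.range n, (Fintype.card F ^ (2 * (j + 1)) - 1) :=
    Finset.prod_pos fun j _ => Nat.sub_pos_of_lt (Nat.one_lt_pow (by omega) Fintype.one_lt_card)
  rw [mul_comm (∏ j ∈ Finset.range n, _)] at hcore
  have h1 := Nat.eq_of_mul_eq_mul_right hpos hcore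
  have h2 : r ∣ ∏ j ∈ Finset.range m, (Fintype.card F ^ (2 * (n + j + 1)) - 1) := h1 ▸ h.mul_right _
  obtain ⟨j, hj, hd⟩ := (Prime.dvd_finset_prod_iff hr.out.prime _).1 h2
  rw [Finset.mem_range] at hj
  refine ⟨m - 1 - j, by omega, ?_⟩
  rw [show n + m - (m - 1 - j) = n + j + 1 by omega]
  refine blockDim_dvd (orderOf_dvd_of_pow_eq_one ?_) (even_two_mul _)
  rw [← (ZMod.natCast_eq_zero_iff _ r), Nat.cast_sub (Nat.one_le_pow _ _ Fintype.card_pos), Nat.cast_pow,
    Nat.cast_one, sub_eq_zero] at hd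
  exact hd

/-- An element with prescribed multiplicities of the types, and the bound on its invariant isotropic subspaces. -/
theorem exists_typed {r T i : ℕ} [hr : Fact r.Prime] {P : Option (Fin T) → F[X]} (hD : Data F r i T P)
    (hi : i = orderOf (Fintype.card F : ZMod r)) (hi0 : 0 < i) (hev : Even i) (b : Fin T → ℕ) {h : ℕ}
    (hd : i * ∑ j, b j + 2 * h = 2 * d) :
    ∃ f : (Fin d ⊕ Fin d → F) →ₗ[F] (Fin d ⊕ Fin d → F), (∀ v, (f ^ r) v = v) ∧
      (∀ u v, spBilin d F (f u) (f v) = spBilin d F u v) ∧ finrank F (fixed f) = 2 * h ∧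
      ∀ U, Inv f U → Iso (spBilin d F) U → finrank F U ≤ h + i * ∑ j, b j / 2 := by
  classical
  obtain ⟨δ, hδn, hδ0, hδ⟩ := exists_inv hD
  have hδ' : ∀ j, δ (some j) = some j := fun j =>
    ((hδ (some j) (some j)).1 ((fixed_iff hD rfl hi.symm hi0 j).2 hev)).symm
  obtain ⟨W, _, _, _, A, B, hA, hW, hk, hB, hBa, hBn⟩ := exists_alt_model hD δ hδ hδ0 id hδ' hi0 b (fun j => rfl)
  obtain ⟨BW, hBW⟩ : ∃ BW : LinearMap.BilinForm F (W × (Fin h ⊕ Fin h → F)),
      ∀ x y, BW x y = B x.1 y.1 + Cfsg.sympForm h F x.2 y.2 :=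
    ⟨B.compl₁₂ (LinearMap.fst F W (Fin h ⊕ Fin h → F)) (LinearMap.fst F W (Fin h ⊕ Fin h → F)) +
      (spBilin h F).compl₁₂ (LinearMap.snd F W (Fin h ⊕ Fin h → F)) (LinearMap.snd F W (Fin h ⊕ Fin h → F)),
      fun x y => by simp [spBilin_apply']⟩
  have hWA : BW.IsAlt := fun x => by
    show BW x x = 0
    rw [hBW, hBa x.1, sympForm_self, add_zero]
  have hWn : ∀ x, (∀ y, BW x y = 0) → x = 0 := fun x hx => Prod.ext (hBn _ fun y => by
      have h1 := hx (y, 0)
      rwa [hBW, ← spBilin_apply', map_zero, add_zero] at h1) (sympForm_nondeg fun y => by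
      have h1 := hx (0, y)
      rwa [hBW, map_zero, zero_add] at h1)
  obtain ⟨d', hd', e, he⟩ := exists_symp_equiv BW hWA hWn
  rw [Module.finrank_prod, hW, finrank_std] at hd'
  obtain rfl : d' = d := by omega
  obtain ⟨f, hf⟩ : ∃ f : Module.End F (Fin d' ⊕ Fin d' → F),
      f = e.symm.conjAlgEquiv F (A.prodMap (1 : Module.End F (Fin h ⊕ Fin h → F))) := ⟨_, rfl⟩
  have hfr : f ^ r = 1 := by
    rw [hf, ← map_pow, prodMap_pow, hA, one_pow]
    exact map_one _
  have hfr' : ∀ v, (f ^ r) v = v := fun v => by rw [hfr]; rfl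
  have hfB : ∀ u v, spBilin d' F (f u) (f v) = spBilin d' F u v := fun u v => by
    rw [spBilin_apply', spBilin_apply', ← he, ← he, hBW, hBW, hf]
    simp [hB]
  have hkd : ∀ j, kd P f (some j) = i * b j := fun j => by
    rw [← kd_of_intertwine (A.prodMap (1 : Module.End F (Fin h ⊕ Fin h → F))) f e.symm (fun x => by rw [hf]; simp),
      kd_prodMap, hk, kd_one hD, add_zero]
  have hnone : ∀ {U : Submodule F (Fin d' ⊕ Fin d' → F)} (hU : Inv f U),
      LinearMap.ker (aeval f (P none)) = fixed f ∧ kd P f none = finrank F (fixed f) := fun hU => by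
    have : LinearMap.ker (aeval f (P none)) = fixed f := by rw [hD.zero, map_sub, aeval_X, aeval_C, map_one]; rfl
    exact ⟨this, by rw [kd, this]⟩
  have hfix : finrank F (fixed f) = 2 * h := by
    have hs := kd_sum hD hfr
    rw [(hnone (U := ⊤) fun _ _ => Submodule.mem_top).2, Finset.sum_congr rfl fun j _ => hkd j, ← Finset.mul_sum,
      finrank_std] at hs
    omega
  refine ⟨f, hfr', hfB, hfix, fun U hU hUi => ?_⟩
  -- each primary part is non-degenerate
  have hnd : ∀ o, Nd (spBilin d' F) (LinearMap.ker (aeval f (P o))) := fun o => by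
    have hker : ∀ x, aeval f (P o) x = 0 → aeval (f ^ (r - 1)) (P o) x = 0 := fun x hx => by
      have hc := ker_comp_inv hD δ hδ hfr o
      have : δ o = o := by
        rcases o with _ | j
        exacts [hδn, hδ' j]
      rw [this] at hc
      exact LinearMap.mem_ker.1 (hc ▸ LinearMap.mem_ker.2 hx)
    have hn := ker_nd (B := spBilin d' F) (P := P o) (Q := ∏ l ∈ Finset.univ.erase o, P l) hr.out.pos hfr' hfB
      (by rw [Finset.mul_prod_erase _ _ (Finset.mem_univ o), hD.prod])
      (IsCoprime.prod_right fun l hl => hD.coprime (Finset.ne_of_mem_erase hl).symm) hker (X₀ := ⊤)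
      (fun _ _ => Submodule.mem_top) nd_top
    rwa [top_inf_eq] at hn
  obtain ⟨g, hg⟩ : ∃ g : Module.End F U, ∀ v, (g v : Fin d' ⊕ Fin d' → F) = f v := ⟨f.restrict hU, fun v => rfl⟩
  have hres : ∀ (Q : F[X]) (v : U), ((aeval g Q v : U) : Fin d' ⊕ Fin d' → F) = aeval f Q (v : Fin d' ⊕ Fin d' → F) := by
    intro Q
    induction Q using Polynomial.induction_on' with
    | add a b ha hb => intro v; simp [ha, hb]
    | monomial k c =>
      intro v
      have hp : ∀ k (v : U), ((g ^ k) v : Fin d' ⊕ Fin d' → F) = (f ^ k) (v : Fin d' ⊕ Fin d' → F) := fun k => by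
        induction k with
        | zero => exact fun v => rfl
        | succ k ih => intro v; rw [pow_succ', pow_succ' f, Module.End.mul_apply, Module.End.mul_apply, hg, ih]
      rw [aeval_monomial, aeval_monomial, Module.End.mul_apply, Module.End.mul_apply]
      simp [Module.algebraMap_end_apply, hp]
  have hgr : g ^ r = 1 := LinearMap.ext fun v => Subtype.ext (by
    have h1 := hres (X ^ r) v
    rw [map_pow, map_pow, aeval_X, aeval_X, hfr'] at h1
    exact h1)
  have hle : ∀ o, 2 * kd P g o ≤ kd P f o := fun o => by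
    have hi1 : (LinearMap.ker (aeval g (P o))).map U.subtype = U ⊓ LinearMap.ker (aeval f (P o)) := by
      ext v
      constructor
      · rintro ⟨x, hx, rfl⟩
        refine ⟨x.2, LinearMap.mem_ker.2 ?_⟩
        rw [Submodule.subtype_apply, ← hres, LinearMap.mem_ker.1 hx]; rfl
      · rintro ⟨hv, hv'⟩
        exact ⟨⟨v, hv⟩, LinearMap.mem_ker.2 (Subtype.ext (by rw [hres]; exact LinearMap.mem_ker.1 hv')), rfl⟩
    have h1 := iso_le_half spBilin_isAlt (hnd o) (U := U ⊓ LinearMap.ker (aeval f (P o))) inf_le_right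
      (fun x hx y hy => hUi x hx.1 y hy.1)
    rw [← hi1, ← (Submodule.equivMapOfInjective U.subtype U.injective_subtype _).finrank_eq] at h1
    exact h1
  rw [← kd_sum hD hgr, Finset.mul_sum]
  refine add_le_add ?_ (Finset.sum_le_sum fun j _ => ?_)
  · have h1 := hle none
    rw [(hnone hU).2, hfix] at h1
    omega
  · obtain ⟨s, hs⟩ := dvd_kd hD g j
    have h1 := hle (some j)
    rw [hs, hkd, mul_left_comm] at h1
    rw [hs]
    refine Nat.mul_le_mul_left i ((Nat.le_div_iff_mul_le two_pos).2 ?_)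
    rw [mul_comm]
    exact Nat.le_of_mul_le_mul_left h1 hi0

end CfsgLib.Classical22.PrimeMaps.Symp
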