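/-
Counting non-degenerate subspaces of a symplectic space, and invariant ones for maps with scalar square.
-/
import Cfsg.Agent.Lib.Classical22.PrimeOrderSympWreath
import Cfsg.Agent.Lib.Classical22.InvolSpDecomp
import Cfsg.Agent.Lib.Classical.SpInvolutions

set_option autoImplicit false

namespace CfsgLib.Classical22.PrimeMaps.Symp

open Module CfsgLib.Classical Cfsg

universe u

variable {F : Type u} [Field F]

/-- The non-degenerate `m`-spaces. -/
abbrev NdSpace (F : Type u) [Field F] (d m : ℕ) : Type u :=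
  {W : Submodule F (Fin d ⊕ Fin d → F) // finrank F W = m ∧ ∀ u ∈ W, u ≠ 0 → ∃ v ∈ W, Cfsg.sympForm d F u v ≠ 0}

theorem nd_iff {d : ℕ} {W : Submodule F (Fin d ⊕ Fin d → F)} :
    Nd (spBilin d F) W ↔ ∀ u ∈ W, u ≠ 0 → ∃ v ∈ W, Cfsg.sympForm d F u v ≠ 0 := by
  constructor
  · intro h u hu hu0
    by_contra hcon
    push Not at hcon
    exact hu0 (h u hu hcon)
  · intro h u hu hu'
    by_contra hu0
    obtain ⟨v, hv, hv0⟩ := h u hu hu0
    exact hv0 (hu' v hv)

theorem card_nd_identity [Fintype F] {d h : ℕ} (hh : h ≤ d) :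
    Nat.card (NdSpace F d (2 * h)) * (Nat.card (Matrix.symplecticGroup (Fin h) F) *
      Nat.card (Matrix.symplecticGroup (Fin (d - h)) F)) = Nat.card (Matrix.symplecticGroup (Fin d) F) := by
  classical
  haveI : Finite (Matrix.symplecticGroup (Fin d) F) := Finite.of_injective _ Subtype.val_injective
  obtain ⟨W₀, hW₀, -, hW₀d⟩ : ∃ W, Nd (spBilin d F) W ∧ W ≤ ⊤ ∧ finrank F W = h * 2 := by
    obtain ⟨W, -, hW, hWX, hWd⟩ := exists_mult (B := spBilin d F) (f := (LinearMap.id : (Fin d ⊕ Fin d → F) →ₗ[F] (Fin d ⊕ Fin d → F))) (r := 1) spBilin_isAlt one_pos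
      (fun v => by rw [pow_one]; rfl) (fun u v => rfl) two_pos h ⊤ (fun _ _ => Submodule.mem_top) nd_top
      (fun Y' _ hY' _ hne => by
        obtain ⟨W, h1, h2, h3⟩ := exists_plane spBilin_isAlt hY' hne
        exact ⟨W, fun w hw => hw, h2, h1, h3⟩) (by rw [finrank_top, finrank_std]; omega)
    exact ⟨W, hW, hWX, hWd⟩
  rw [mul_comm h 2] at hW₀d
  letI : MulAction (Matrix.symplecticGroup (Fin d) F) (Submodule F (Fin d ⊕ Fin d → F)) :=
    { smul := fun g W => W.map (Matrix.toLin' (g : Matrix (Fin d ⊕ Fin d) (Fin d ⊕ Fin d) F))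
      one_smul := fun W => by
        show W.map (Matrix.toLin' (1 : Matrix (Fin d ⊕ Fin d) (Fin d ⊕ Fin d) F)) = W
        rw [Matrix.toLin'_one]; exact Submodule.map_id _
      mul_smul := fun g k W => by
        show W.map (Matrix.toLin' ((g * k : Matrix.symplecticGroup (Fin d) F) : Matrix (Fin d ⊕ Fin d) (Fin d ⊕ Fin d) F)) =
          (W.map (Matrix.toLin' (k : Matrix (Fin d ⊕ Fin d) (Fin d ⊕ Fin d) F))).map
            (Matrix.toLin' (g : Matrix (Fin d ⊕ Fin d) (Fin d ⊕ Fin d) F))
        rw [Submonoid.coe_mul, Matrix.toLin'_mul, Submodule.map_comp] }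
  have hsmul : ∀ (g : Matrix.symplecticGroup (Fin d) F) (W : Submodule F (Fin d ⊕ Fin d → F)),
      g • W = W.map (Matrix.toLin' (g : Matrix (Fin d ⊕ Fin d) (Fin d ⊕ Fin d) F)) := fun g W => rfl
  have horb : MulAction.orbit (Matrix.symplecticGroup (Fin d) F) W₀ =
      {W : Submodule F (Fin d ⊕ Fin d → F) | finrank F W = 2 * h ∧ ∀ u ∈ W, u ≠ 0 → ∃ v ∈ W, Cfsg.sympForm d F u v ≠ 0} := by
    ext W
    constructor
    · rintro ⟨g, rfl⟩
      show finrank F (g • W₀ : Submodule F _) = 2 * h ∧ ∀ u ∈ g • W₀, u ≠ 0 → ∃ v ∈ g • W₀, Cfsg.sympForm d F u v ≠ 0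
      rw [hsmul]
      refine ⟨((Submodule.equivMapOfInjective _ (by intro u v huv; exact sp_mulVec_injective g huv) W₀).finrank_eq).symm.trans
        hW₀d, nd_iff.1 ?_⟩
      rintro _ ⟨u, hu, rfl⟩ h'
      rw [hW₀ u hu fun v hv => (form_sp g u v).symm.trans (h' _ ⟨v, hv, rfl⟩), map_zero]
    · rintro ⟨hWd, hW⟩
      obtain ⟨T, hT, hTW⟩ := exists_sp_split h W₀ hW₀d fun u hu hu' => hW₀ u hu hu'
      obtain ⟨T', hT', hTW'⟩ := exists_sp_split h W hWd fun u hu hu' => nd_iff.2 hW u hu hu'
      obtain ⟨g, hg⟩ := spMk_exists (T'.toLinearMap ∘ₗ T.symm.toLinearMap) fun u v => by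
        simp only [LinearMap.comp_apply, LinearEquiv.coe_coe, hT']
        rw [← hT, T.apply_symm_apply, T.apply_symm_apply]
      refine ⟨g, ?_⟩
      show g • W₀ = W
      rw [hsmul]
      ext y
      constructor
      · rintro ⟨x, hx, rfl⟩
        obtain ⟨p, rfl⟩ := T.surjective x
        rw [Matrix.toLin'_apply, hg]
        simpa [hTW'] using (hTW p).1 hx
      · intro hy
        obtain ⟨p, rfl⟩ := T'.surjective y
        refine ⟨T p, (hTW p).2 ((hTW' p).1 hy), ?_⟩
        rw [Matrix.toLin'_apply, hg]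
        simp
  obtain ⟨e⟩ := sp_stab_nondeg_equiv h W₀ hW₀d fun u hu hu' => hW₀ u hu hu'
  have hstab : MulAction.stabilizer (Matrix.symplecticGroup (Fin d) F) W₀ =
      stabilizing (spToMat d F) (W₀ : Set (Fin d ⊕ Fin d → F)) := by
    ext g
    rw [MulAction.mem_stabilizer_iff, hsmul]
    constructor
    · intro hg v
      constructor
      · intro hv
        exact hg.le ⟨v, hv, Matrix.toLin'_apply _ _⟩
      · intro hv
        obtain ⟨x, hx, hxv⟩ := hg.ge hv
        have : x = v := sp_mulVec_injective g ((Matrix.toLin'_apply _ x).symm.trans hxv)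
        exact this ▸ hx
    · intro hg
      refine Submodule.eq_of_le_of_finrank_eq ?_ ?_
      · rintro _ ⟨x, hx, rfl⟩
        exact (hg x).1 hx
      · exact ((Submodule.equivMapOfInjective _ (by intro u v huv; exact sp_mulVec_injective g huv) W₀).finrank_eq).symm
  rw [← Nat.card_prod, ← Nat.card_congr e.toEquiv, ← hstab,
    show Nat.card (NdSpace F d (2 * h)) = Nat.card (MulAction.orbit (Matrix.symplecticGroup (Fin d) F) W₀) by
      rw [horb]; rfl,
    ← Nat.card_prod]
  exact Nat.card_congr (MulAction.orbitProdStabilizerEquivGroup (Matrix.symplecticGroup (Fin d) F) W₀)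

theorem nd_window [Fintype F] {p : ℕ} [Fact p.Prime] [CharP F p] {r d h : ℕ} [hr : Fact r.Prime] (hrp : r ≠ p)
    (hh : h ≤ d) (hdvd : r ∣ Nat.card (NdSpace F d (2 * h))) :
    ∃ j < h, blockDim (orderOf (Fintype.card F : ZMod r)) ∣ 2 * (d - j) := by
  have hid := card_nd_identity (F := F) hh
  obtain ⟨n, rfl⟩ : ∃ n, d = n + h := ⟨d - h, by omega⟩
  rw [Nat.add_sub_cancel, CfsgLib.Classical.card_sp, CfsgLib.Classical.card_sp, CfsgLib.Classical.card_sp,
    Finset.prod_range_add] at hid
  have hpos : 0 < ∏ j ∈ Finset.range n, (Fintype.card F ^ (2 * (j + 1)) - 1) :=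
    Finset.prod_pos fun j _ => Nat.sub_pos_of_lt (Nat.one_lt_pow (by omega) Fintype.one_lt_card)
  have h1 : Nat.card (NdSpace F (n + h) (2 * h)) * (Fintype.card F ^ (h ^ 2 + n ^ 2) *
      ∏ j ∈ Finset.range h, (Fintype.card F ^ (2 * (j + 1)) - 1)) =
      Fintype.card F ^ ((n + h) ^ 2) * ∏ j ∈ Finset.range h, (Fintype.card F ^ (2 * (n + j + 1)) - 1) := by
    refine Nat.eq_of_mul_eq_mul_right hpos ?_
    rw [pow_add]
    linear_combination hid
  have h2 : r ∣ Fintype.card F ^ ((n + h) ^ 2) * ∏ j ∈ Finset.range h, (Fintype.card F ^ (2 * (n + j + 1)) - 1) :=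
    h1 ▸ hdvd.mul_right _
  rcases hr.out.dvd_mul.1 h2 with h3 | h3
  · exfalso
    obtain ⟨k, hp, hk⟩ := FiniteField.card F p
    exact hrp ((Nat.prime_dvd_prime_iff_eq hr.out hp).1 (hr.out.dvd_of_dvd_pow (hk ▸ hr.out.dvd_of_dvd_pow h3)))
  obtain ⟨j, hj, hd⟩ := (Prime.dvd_finset_prod_iff hr.out.prime _).1 h3
  rw [Finset.mem_range] at hj
  refine ⟨h - 1 - j, by omega, ?_⟩
  rw [show n + h - (h - 1 - j) = n + j + 1 by omega]
  refine blockDim_dvd (orderOf_dvd_of_pow_eq_one ?_) (even_two_mul _)
  rw [← (ZMod.natCast_eq_zero_iff _ r), Nat.cast_sub (Nat.one_le_pow _ _ Fintype.card_pos), Nat.cast_pow,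
    Nat.cast_one, sub_eq_zero] at hd
  exact hd

section Square

variable {V : Type u} [AddCommGroup V] [Module F V] [FiniteDimensional F V] {B : LinearMap.BilinForm F V}
  {f : V →ₗ[F] V}

/-- In odd characteristic a map with scalar square leaves some non-degenerate plane invariant. -/
theorem exists_inv_plane (h2 : (2 : F) ≠ 0) (hA : B.IsAlt) {z : F} (hz : z = 1 ∨ z = -1) (hf : ∀ v, f (f v) = z • v)
    (hB : ∀ u v, B (f u) (f v) = B u v) {Y : Submodule F V} (hY : Inv f Y) (hYn : Nd B Y) (hY0 : Y ≠ ⊥) :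
    ∃ W, Inv f W ∧ Nd B W ∧ W ≤ Y ∧ finrank F W = 2 := by
  rcases hz with rfl | rfl
  · have hf' : ∀ v, (f ^ 2) v = v := fun v => by rw [pow_two, Module.End.mul_apply, hf, one_smul]
    have hXn := fixed_nd (by exact_mod_cast h2) hf' hB hY hYn
    by_cases h0 : Y ⊓ fixed f = ⊥
    · obtain ⟨W, hWY, hW, hWd⟩ := exists_plane hA hYn hY0
      refine ⟨W, fun w hw => ?_, hW, hWY, hWd⟩
      have h := (Submodule.mem_bot F).1 (h0 ▸ ⟨Y.add_mem (hWY hw) (hY w (hWY hw)),
        mem_fixed.2 (by rw [map_add, hf, one_smul, add_comm])⟩ : w + f w ∈ (⊥ : Submodule F V))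
      rw [eq_neg_of_add_eq_zero_right h]
      exact W.neg_mem hw
    · obtain ⟨W, hWY, hW, hWd⟩ := exists_plane hA hXn h0
      exact ⟨W, fun w hw => by rw [mem_fixed.1 (hWY hw).2]; exact hw, hW, hWY.trans inf_le_left, hWd⟩
  · have hsym : ∀ u v, B v (f u) = B u (f v) := fun u v => by
      rw [← hB v (f u), hf, neg_one_smul, map_neg, LinearMap.IsAlt.neg hA]
    obtain ⟨v, hv, hc⟩ : ∃ v ∈ Y, B v (f v) ≠ 0 := by
      by_contra hcon
      push Not at hcon
      obtain ⟨u, hu, hu0⟩ := Y.exists_mem_ne_zero_of_ne_bot hY0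
      refine hu0 (hYn u hu fun y hy => ?_)
      have h := hcon (u + f y) (Y.add_mem hu (hY y hy))
      have e3 := hsym u (f y)
      rw [hf, neg_one_smul, map_neg] at e3
      simp only [map_add, LinearMap.add_apply, hf, neg_one_smul, map_neg] at h
      rw [hcon u hu, e3] at h
      have e2 := hcon (f y) (hY y hy)
      rw [hf, neg_one_smul, map_neg] at e2
      have : (2 : F) * B u y = 0 := by linear_combination -h + e2
      exact (mul_eq_zero.1 this).resolve_left h2
    refine ⟨Submodule.span F {v, f v}, fun x hx => ?_, ?_, Submodule.span_le.2 (Set.insert_subset hv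
      (Set.singleton_subset_iff.2 (hY v hv))), ?_⟩
    · obtain ⟨a, b, rfl⟩ := Submodule.mem_span_pair.1 hx
      rw [map_add, map_smul, map_smul, hf, neg_one_smul]
      exact Submodule.mem_span_pair.2 ⟨-b, a, by rw [smul_neg, neg_smul, add_comm]⟩
    · intro u hu hu'
      obtain ⟨a, b, rfl⟩ := Submodule.mem_span_pair.1 hu
      have h1 := hu' v (Submodule.subset_span (by simp))
      have h3 := hu' (f v) (Submodule.subset_span (by simp))
      simp only [map_add, map_smul, LinearMap.add_apply, LinearMap.smul_apply, hA v, hA (f v), smul_zero, zero_add,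
        add_zero, smul_eq_mul, mul_zero, mul_eq_zero] at h1 h3
      rw [h3.resolve_right hc, h1.resolve_right fun h => hc (hA.isRefl _ _ h)]
      simp
    · rw [show ({v, f v} : Set V) = Set.range ![v, f v] by simp [Set.pair_comm], finrank_span_eq_card ?_]
      · simp
      · refine linearIndependent_fin2.2 ⟨?_, ?_⟩
        · simp only [Matrix.cons_val_one, Matrix.cons_val_fin_one]
          exact fun h => hc (by rw [h, map_zero])
        · intro x hx
          simp only [Matrix.cons_val_one, Matrix.cons_val_fin_one, Matrix.cons_val_zero] at hx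
          refine hc ?_
          rw [show B v (f v) = B (x • f v) (f v) by rw [hx], map_smul, LinearMap.smul_apply, hA (f v), smul_zero]

/-- A set closed under an involution with a closed subset of given size. -/
theorem exists_closed_subset {ι : Type} [DecidableEq ι] {π : Equiv.Perm ι} (hπ : ∀ i, π (π i) = i) :
    ∀ (s : Finset ι), (∀ i ∈ s, π i ∈ s) → ∀ k, k ≤ s.card → (Even k ∨ Odd s.card) →
      ∃ S : Finset ι, S ⊆ s ∧ S.card = k ∧ ∀ i ∈ S, π i ∈ S := by
  intro s
  induction s using Finset.strongInduction with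
  | _ s ih =>
    intro hs k hk hpar
    rcases Nat.eq_zero_or_pos k with rfl | hk0
    · exact ⟨∅, Finset.empty_subset _, rfl, by simp⟩
    obtain ⟨i, hi⟩ : s.Nonempty := Finset.card_pos.1 (by omega)
    by_cases hfix : π i = i
    · have hcl : ∀ j ∈ s.erase i, π j ∈ s.erase i := fun j hj => by
        rw [Finset.mem_erase] at hj ⊢
        exact ⟨fun e => hj.1 (π.injective (e.trans hfix.symm)), hs j hj.2⟩
      have hc := Finset.card_erase_of_mem hi
      by_cases hin : k = s.card ∨ Odd k ∨ Even s.card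
      · obtain ⟨S, h1, h2, h3⟩ := ih _ (Finset.erase_ssubset hi) hcl (k - 1) (by omega) (by
          rw [hc]
          rcases Nat.even_or_odd k with hek | hok
          · right
            rcases hin with h | h | h
            · subst h; obtain ⟨a, ha⟩ := hek; exact ⟨a - 1, by omega⟩
            · exact absurd hek (Nat.not_even_iff_odd.2 h)
            · obtain ⟨a, ha⟩ := h; exact ⟨a - 1, by omega⟩
          · left; obtain ⟨a, ha⟩ := hok; exact ⟨a, by omega⟩)
        have hnot : i ∉ S := fun h => Finset.notMem_erase i s (h1 h)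
        refine ⟨insert i S, ?_, by rw [Finset.card_insert_of_notMem hnot, h2]; omega, fun j hj => ?_⟩
        · exact Finset.insert_subset hi (h1.trans (Finset.erase_subset _ _))
        · rcases Finset.mem_insert.1 hj with rfl | h
          · rw [hfix]; exact Finset.mem_insert_self _ _
          · exact Finset.mem_insert_of_mem (h3 j h)
      · push Not at hin
        obtain ⟨S, h1, h2, h3⟩ := ih _ (Finset.erase_ssubset hi) hcl k (by omega) (Or.inl (Nat.not_odd_iff_even.1 hin.2.1))
        exact ⟨S, h1.trans (Finset.erase_subset _ _), h2, h3⟩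
    · obtain ⟨s', hs'⟩ : ∃ s', s' = (s.erase i).erase (π i) := ⟨_, rfl⟩
      have hmem : π i ∈ s.erase i := Finset.mem_erase.2 ⟨hfix, hs i hi⟩
      have hc : s'.card + 2 = s.card := by
        rw [hs', Finset.card_erase_of_mem hmem, Finset.card_erase_of_mem hi]
        have : 2 ≤ s.card := by
          refine le_trans (le_of_eq ?_) (Finset.card_le_card (Finset.insert_subset hi (Finset.singleton_subset_iff.2 (hs i hi))))
          rw [Finset.card_pair (Ne.symm hfix)]
        omega
      have hlt : s' ⊂ s := hs' ▸ lt_of_le_of_lt (Finset.erase_subset _ _) (Finset.erase_ssubset hi)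
      have hcl : ∀ j ∈ s', π j ∈ s' := fun j hj => by
        rw [hs', Finset.mem_erase, Finset.mem_erase] at hj ⊢
        exact ⟨fun e => hj.2.1 (π.injective e), fun e => hj.1 (by rw [← hπ j, e]), hs j hj.2.2⟩
      by_cases hk2 : k + 2 ≤ s.card
      · obtain ⟨S, h1, h2, h3⟩ := ih s' hlt hcl k (by omega) (hpar.imp_right fun h => by
          obtain ⟨a, ha⟩ := h; exact ⟨a - 1, by omega⟩)
        exact ⟨S, h1.trans hlt.subset, h2, h3⟩
      · have hkn : k = s.card ∨ k + 1 = s.card := by omega
        rcases hkn with rfl | hkn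
        · exact ⟨s, subset_rfl, rfl, hs⟩
        · obtain ⟨S, h1, h2, h3⟩ := ih s' hlt hcl (k - 2) (by
            omega) (by
            rcases hpar with h | h
            · left; obtain ⟨a, ha⟩ := h; exact ⟨a - 1, by omega⟩
            · right; obtain ⟨a, ha⟩ := h; exact ⟨a - 1, by omega⟩)
          have n1 : π i ∉ S := fun h => by
            have := h1 h; rw [hs', Finset.mem_erase] at this; exact this.1 rfl
          have n2 : i ∉ S := fun h => by
            have := h1 h; rw [hs', Finset.mem_erase, Finset.mem_erase] at this; exact this.2.1 rfl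
          have hk2' : 2 ≤ k := by
            rcases hpar with h | h <;> obtain ⟨a, ha⟩ := h <;> omega
          refine ⟨insert i (insert (π i) S), ?_, ?_, fun j hj => ?_⟩
          · exact Finset.insert_subset hi (Finset.insert_subset (hs i hi) (h1.trans hlt.subset))
          · rw [Finset.card_insert_of_notMem (by simp [n2, Ne.symm hfix]), Finset.card_insert_of_notMem n1, h2]; omega
          · rcases Finset.mem_insert.1 hj with rfl | hj
            · simp
            · rcases Finset.mem_insert.1 hj with rfl | hj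
              · simp [hπ]
              · exact Finset.mem_insert_of_mem (Finset.mem_insert_of_mem (h3 j hj))

/-- Invariant non-degenerate subspaces of a map with scalar square, in any characteristic. -/
theorem exists_nd_of_planes (hA : B.IsAlt) (hn : Nd B (⊤ : Submodule F V)) {z : F} (hz : z ≠ 0)
    (hf : ∀ v, f (f v) = z • v) (hB : ∀ u v, B (f u) (f v) = B u v) {n k : ℕ} (hd : finrank F V = 2 * n) (hk : k ≤ n)
    (hpar : Even k ∨ Odd n) : ∃ W, Inv f W ∧ Nd B W ∧ finrank F W = 2 * k := by
  classical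
  obtain ⟨ι, hι, v, w, π, ⟨hπ, h1, h2, h3⟩, hspan⟩ := InvolSpDecomp.exists_planes (B := B) (fun v => hA v) hz hf hB
    (X := ⊤) (fun _ _ => Submodule.mem_top) hn
  obtain ⟨Wof, hWof⟩ : ∃ Wof : Finset ι → Submodule F V,
      ∀ S, Wof S = Submodule.span F (v '' (S : Set ι) ∪ w '' (S : Set ι)) := ⟨_, fun S => rfl⟩
  have hWd : ∀ S : Finset ι, finrank F (Wof S) ≤ 2 * S.card := fun S => by
    have e : v '' (S : Set ι) ∪ w '' (S : Set ι) = ((S.image v ∪ S.image w : Finset V) : Set V) := by simp
    rw [hWof, e]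
    refine (finrank_span_finset_le_card _).trans ((Finset.card_union_le _ _).trans ?_)
    rw [two_mul]
    exact add_le_add Finset.card_image_le Finset.card_image_le
  have hsupall : Wof Finset.univ = ⊤ := by
    rw [hWof, ← hspan, Finset.coe_univ, Set.image_univ, Set.image_univ]
  have hcard : Fintype.card ι = n := by
    refine le_antisymm ?_ ?_
    · have hind : LinearIndependent F (Sum.elim v w) := by
        rw [Fintype.linearIndependent_iff]
        intro g hg
        simp only [Fintype.sum_sum_type, Sum.elim_inl, Sum.elim_inr] at hg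
        rintro (j | j)
        · have h := congrArg (fun y => B y (w j)) hg
          simp only [map_add, LinearMap.add_apply, map_sum, LinearMap.sum_apply, map_smul, LinearMap.smul_apply,
            (h2 _ _).2.1, smul_zero, Finset.sum_const_zero, add_zero, map_zero, LinearMap.zero_apply] at h
          rw [Finset.sum_eq_single j (fun i _ hi => by rw [(h2 i j).2.2 hi, smul_zero]) (by simp), h1, smul_eq_mul,
            mul_one] at h
          exact h
        · have h := congrArg (fun y => B y (v j)) hg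
          simp only [map_add, LinearMap.add_apply, map_sum, LinearMap.sum_apply, map_smul, LinearMap.smul_apply,
            (h2 _ _).1, smul_zero, Finset.sum_const_zero, zero_add, map_zero, LinearMap.zero_apply] at h
          rw [Finset.sum_eq_single j (fun i _ hi => by
              rw [← LinearMap.IsAlt.neg hA (v j) (w i), (h2 j i).2.2 (Ne.symm hi), neg_zero, smul_zero]) (by simp),
            ← LinearMap.IsAlt.neg hA (v j) (w j), h1, smul_eq_mul, mul_neg, mul_one, neg_eq_zero] at h
          exact h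
      have := hind.fintype_card_le_finrank
      rw [Fintype.card_sum, hd] at this
      omega
    · have := hWd Finset.univ
      rw [hsupall, finrank_top, hd, Finset.card_univ] at this
      omega
  obtain ⟨S, -, hSk, hScl⟩ := exists_closed_subset hπ Finset.univ (fun i _ => Finset.mem_univ _) k
    (by rw [Finset.card_univ, hcard]; exact hk) (by rw [Finset.card_univ, hcard]; exact hpar)
  have hmem : ∀ (S : Finset ι) i, i ∈ S → v i ∈ Wof S ∧ w i ∈ Wof S := fun S i hi => by
    rw [hWof]
    exact ⟨Submodule.subset_span (Or.inl ⟨i, hi, rfl⟩), Submodule.subset_span (Or.inr ⟨i, hi, rfl⟩)⟩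
  have horth : ∀ (S : Finset ι) i, i ∉ S → ∀ y ∈ Wof S, B y (v i) = 0 ∧ B y (w i) = 0 := by
    intro S i hi y hy
    rw [hWof] at hy
    induction hy using Submodule.span_induction with
    | zero => simp
    | add a b _ _ ha hb => simp [ha.1, ha.2, hb.1, hb.2]
    | smul c a _ ha => simp [ha.1, ha.2]
    | mem y hy =>
      rcases hy with ⟨j, hj, rfl⟩ | ⟨j, hj, rfl⟩
      · exact ⟨(h2 j i).1, (h2 j i).2.2 fun e => hi (e ▸ hj)⟩
      · refine ⟨?_, (h2 j i).2.1⟩
        rw [← LinearMap.IsAlt.neg hA (v i) (w j), (h2 i j).2.2 fun e => hi (e ▸ hj), neg_zero]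
  have hnd : Nd B (Wof S) := fun u hu hu' => hn u Submodule.mem_top fun y hyT => by
    clear hyT
    have hy : y ∈ Wof Finset.univ := hsupall ▸ Submodule.mem_top
    rw [hWof] at hy
    induction hy using Submodule.span_induction with
    | zero => simp
    | add a b _ _ ha hb => rw [map_add, ha, hb, add_zero]
    | smul c a _ ha => rw [map_smul, ha, smul_zero]
    | mem y hy =>
      rcases hy with ⟨j, -, rfl⟩ | ⟨j, -, rfl⟩
      · by_cases hj : j ∈ S
        · exact hu' _ (hmem S j hj).1
        · exact (horth S j hj u hu).1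
      · by_cases hj : j ∈ S
        · exact hu' _ (hmem S j hj).2
        · exact (horth S j hj u hu).2
  refine ⟨Wof S, ?_, hnd, le_antisymm (hSk ▸ hWd S) ?_⟩
  · intro x hx
    rw [hWof] at hx
    induction hx using Submodule.span_induction with
    | zero => rw [map_zero]; exact Submodule.zero_mem _
    | add a b _ _ ha hb => rw [map_add]; exact Submodule.add_mem _ ha hb
    | smul c a _ ha => rw [map_smul]; exact Submodule.smul_mem _ _ ha
    | mem y hy =>
      have hle : ∀ i ∈ S, Submodule.span F {v (π i), w (π i)} ≤ Wof S := fun i hi => by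
        rw [Submodule.span_le, Set.insert_subset_iff, Set.singleton_subset_iff]
        exact hmem S _ (hScl i hi)
      rcases hy with ⟨j, hj, rfl⟩ | ⟨j, hj, rfl⟩
      · exact hle j hj (h3 j).1
      · exact hle j hj (h3 j).2
  · have hsup : Wof S ⊔ Wof Sᶜ = ⊤ := by
      rw [← hsupall, hWof, hWof, hWof, ← Submodule.span_union]
      congr 1
      ext y
      simp only [Set.mem_union, Set.mem_image, Finset.mem_coe, Finset.mem_compl, Finset.mem_univ, true_and]
      constructor
      · rintro ((⟨i, -, h⟩ | ⟨i, -, h⟩) | (⟨i, -, h⟩ | ⟨i, -, h⟩))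
        exacts [Or.inl ⟨i, h⟩, Or.inr ⟨i, h⟩, Or.inl ⟨i, h⟩, Or.inr ⟨i, h⟩]
      · rintro (⟨i, h⟩ | ⟨i, h⟩) <;> by_cases hi : i ∈ S
        exacts [Or.inl (Or.inl ⟨i, hi, h⟩), Or.inr (Or.inl ⟨i, hi, h⟩), Or.inl (Or.inr ⟨i, hi, h⟩),
          Or.inr (Or.inr ⟨i, hi, h⟩)]
    have h := Submodule.finrank_sup_add_finrank_inf_eq (Wof S) (Wof Sᶜ)
    rw [hsup, finrank_top, hd] at h
    have h' := hWd Sᶜ
    rw [Finset.card_compl, hcard, hSk] at h'
    omega

end Square

/-- In characteristic `2`: an involution whose invariant non-degenerate spaces have dimension divisible by `4`. -/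
theorem exists_derangement_two (h : ℕ) (h0 : 0 < h) (h2 : (2 : F) = 0) :
    ∃ f : (Fin (h + h) ⊕ Fin (h + h) → F) →ₗ[F] (Fin (h + h) ⊕ Fin (h + h) → F),
      (∀ v, f (f v) = v) ∧ (∀ u v, spBilin (h + h) F (f u) (f v) = spBilin (h + h) F u v) ∧
      (∀ w : F, f ≠ w • LinearMap.id) ∧
      ∀ W, Inv f W → Nd (spBilin (h + h) F) W → 4 ∣ finrank F W := by
  classical
  obtain ⟨σ, hσ⟩ : ∃ σ : Equiv.Perm (Fin (h + h)), σ = (finSumFinEquiv.symm.trans (Equiv.sumComm _ _)).trans finSumFinEquiv :=
    ⟨_, rfl⟩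
  have hσ2 : ∀ i, σ (σ i) = i := fun i => by rw [hσ]; simp
  obtain ⟨f, hfd⟩ : ∃ f, f = Matrix.toLin' (spPerm σ : Matrix.symplecticGroup (Fin (h + h)) F).1 := ⟨_, rfl⟩
  have hfa : ∀ v, f v = v ∘ Sum.map σ σ := fun v => by rw [hfd, Matrix.toLin'_apply, spPerm_apply]
  have hff : ∀ v, f (f v) = v := fun v => by
    rw [hfa, hfa]
    funext i
    rcases i with i | i <;> simp [hσ2]
  have hB : ∀ u v, spBilin (h + h) F (f u) (f v) = spBilin (h + h) F u v := fun u v => by rw [hfd]; exact form_sp _ u v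
  have hneg : ∀ x : F, -x = x := fun x => by
    rw [neg_eq_iff_add_eq_zero, ← two_mul, h2, zero_mul]
  have hzero : ∀ v, spBilin (h + h) F v (f v) = 0 := fun v => by
    rw [spBilin_apply', sympForm_eq, Finset.sum_sub_distrib, sub_eq_zero, ← Equiv.sum_comp σ]
    refine Finset.sum_congr rfl fun i _ => ?_
    simp [hfa, hσ2, mul_comm]
  obtain ⟨N, hN⟩ : ∃ N, N = f - 1 := ⟨_, rfl⟩
  have hNa : ∀ v, N v = f v - v := fun v => by rw [hN]; rfl
  have hNN : ∀ v, N (N v) = 0 := fun v => by
    rw [hNa, hNa, map_sub, hff]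
    have e : v - f v - (f v - v) = -((2 : F) • (f v - v)) := by rw [two_smul]; abel
    rw [e, h2, zero_smul, neg_zero]
  have hBN : ∀ u v, spBilin (h + h) F (N u) v = spBilin (h + h) F u (N v) := fun u v => by
    rw [hNa, hNa, map_sub, LinearMap.sub_apply, map_sub, ← hB u (f v), hff]
  -- the fixed space has dimension `2h`
  have hker : finrank F (LinearMap.ker N) ≤ h + h := by
    obtain ⟨φ, hφ⟩ : ∃ φ : LinearMap.ker N →ₗ[F] (Fin h ⊕ Fin h → F), ∀ v i, φ v i =
        (v : Fin (h + h) ⊕ Fin (h + h) → F) (Sum.map (fun k => finSumFinEquiv (Sum.inl k)) (fun k => finSumFinEquiv (Sum.inl k)) i) :=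
      ⟨(LinearMap.funLeft F F (Sum.map (fun k => finSumFinEquiv (Sum.inl k)) (fun k => finSumFinEquiv (Sum.inl k)))).comp
        (LinearMap.ker N).subtype, fun v i => rfl⟩
    have hle := LinearMap.finrank_le_finrank_of_injective (f := φ) ((injective_iff_map_eq_zero _).2 fun v hv => by
      refine Subtype.ext (funext fun j => ?_)
      have hfix : f (v : Fin (h + h) ⊕ Fin (h + h) → F) = v := sub_eq_zero.1 ((hNa _).symm.trans (LinearMap.mem_ker.1 v.2))
      rcases j with j | j <;> obtain ⟨k | k, rfl⟩ := finSumFinEquiv.surjective j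
      · exact (hφ v (Sum.inl k)).symm.trans (congrFun hv _)
      · rw [← congrFun hfix, hfa]
        simp only [Function.comp_apply, Sum.map_inl, hσ, Equiv.trans_apply, Equiv.symm_apply_apply, Equiv.sumComm_apply,
          Sum.swap_inr]
        exact (hφ v (Sum.inl k)).symm.trans (congrFun hv _)
      · exact (hφ v (Sum.inr k)).symm.trans (congrFun hv _)
      · rw [← congrFun hfix, hfa]
        simp only [Function.comp_apply, Sum.map_inr, hσ, Equiv.trans_apply, Equiv.symm_apply_apply, Equiv.sumComm_apply,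
          Sum.swap_inr]
        exact (hφ v (Sum.inr k)).symm.trans (congrFun hv _))
    rwa [finrank_std, two_mul] at hle
  refine ⟨f, hff, hB, fun w hw => ?_, fun W hW hWn => ?_⟩
  · obtain ⟨a, ha⟩ : ∃ a : Fin (h + h), a = finSumFinEquiv (Sum.inl ⟨0, h0⟩) := ⟨_, rfl⟩
    have hne : σ a ≠ a := fun e => by
      rw [hσ, ha] at e
      simp only [Equiv.trans_apply, Equiv.symm_apply_apply, Equiv.sumComm_apply, Sum.swap_inl] at e
      exact absurd (finSumFinEquiv.injective e) (by simp)
    obtain ⟨e₀, he₀⟩ : ∃ e₀ : Fin (h + h) ⊕ Fin (h + h) → F, e₀ = Pi.single (Sum.inl a) 1 := ⟨_, rfl⟩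
    have hw0 : w = 0 := by
      have h1 := congrFun (hfa e₀) (Sum.inl a)
      rw [hw, he₀, Function.comp_apply, Sum.map_inl, Pi.single_eq_of_ne (by simpa using hne), LinearMap.smul_apply,
        LinearMap.id_apply, Pi.smul_apply, Pi.single_eq_same, smul_eq_mul, mul_one] at h1
      exact h1
    have h3 := congrFun (hff e₀) (Sum.inl a)
    rw [hw, hw0, zero_smul, LinearMap.zero_apply, he₀, Pi.zero_apply, Pi.single_eq_same] at h3
    exact zero_ne_one h3
  have hA : (spBilin (h + h) F).IsAlt := spBilin_isAlt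
  obtain ⟨g1, g2, g3, g4⟩ := compl_in hA hWn (le_top : W ≤ ⊤)
  obtain ⟨W', hW'd⟩ : ∃ W', W' = (⊤ : Submodule F _) ⊓ (spBilin (h + h) F).orthogonal W := ⟨_, rfl⟩
  rw [← hW'd] at g1 g2 g3 g4
  have hW' : Inv f W' := hW'd ▸ fun x hx => ⟨Submodule.mem_top,
    inv_orth two_pos (fun v => by rw [pow_two, Module.End.mul_apply, hff]) hB hW x hx.2⟩
  -- the rank on each part is at most half the dimension
  have hpart : ∀ U : Submodule F (Fin (h + h) ⊕ Fin (h + h) → F), Inv f U →
      2 * finrank F (U.map N : Submodule F _) ≤ finrank F U ∧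
      finrank F (U.map N : Submodule F _) + finrank F (U ⊓ LinearMap.ker N : Submodule F _) = finrank F U := by
    intro U hU
    have h1 := LinearMap.finrank_range_add_finrank_ker (N.domRestrict U)
    rw [LinearMap.range_domRestrict, LinearMap.ker_domRestrict] at h1
    have h2 : finrank F ((LinearMap.ker N).comap U.subtype) = finrank F (U ⊓ LinearMap.ker N : Submodule F _) := by
      rw [(Submodule.equivMapOfInjective U.subtype U.injective_subtype _).finrank_eq, Submodule.map_comap_subtype]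
    rw [h2] at h1
    have h3 : U.map N ≤ U ⊓ LinearMap.ker N := by
      rintro _ ⟨x, hx, rfl⟩
      exact ⟨hNa x ▸ U.sub_mem (hU x hx) hx, LinearMap.mem_ker.2 (hNN x)⟩
    have := Submodule.finrank_mono h3
    omega
  obtain ⟨a1, a2⟩ := hpart W hW
  obtain ⟨b1, b2⟩ := hpart W' hW'
  have hrange : h + h ≤ finrank F (LinearMap.range N) := by
    have := LinearMap.finrank_range_add_finrank_ker N
    rw [finrank_std] at this
    omega
  have hsum : finrank F (LinearMap.range N) ≤ finrank F (W.map N : Submodule F _) + finrank F (W'.map N : Submodule F _) := by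
    rw [← Submodule.map_top, ← g2, Submodule.map_sup]
    exact Submodule.finrank_add_le_finrank_add_finrank _ _
  rw [finrank_top, finrank_std] at g4
  obtain ⟨K, hK⟩ := Submodule.exists_isCompl ((W ⊓ LinearMap.ker N).comap W.subtype)
  obtain ⟨K', hK'⟩ : ∃ K', K' = K.map W.subtype := ⟨_, rfl⟩
  have hKd : finrank F K' + finrank F (W ⊓ LinearMap.ker N : Submodule F _) = finrank F W := by
    rw [hK', ← (Submodule.equivMapOfInjective W.subtype W.injective_subtype K).finrank_eq,
      ← Submodule.finrank_add_eq_of_isCompl hK, add_comm]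
    congr 1
    exact (Submodule.comapSubtypeEquivOfLe inf_le_left).finrank_eq.symm
  obtain ⟨β, hβ⟩ : ∃ β : LinearMap.BilinForm F (Fin (h + h) ⊕ Fin (h + h) → F), ∀ u v, β u v = spBilin (h + h) F u (N v) :=
    ⟨(spBilin (h + h) F).compl₂ N, fun u v => rfl⟩
  have hβA : β.IsAlt := fun v => by rw [hβ, hNa, map_sub, hzero, hA v, sub_zero]
  have hKn : Nd β K' := by
    rintro u hu hu'
    rw [hK'] at hu hu'
    obtain ⟨x, hx, rfl⟩ := hu
    have hNx : N (x : Fin (h + h) ⊕ Fin (h + h) → F) = 0 := by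
      refine hWn _ (hNa (x : Fin (h + h) ⊕ Fin (h + h) → F) ▸ W.sub_mem (hW _ x.2) x.2) fun y hy => ?_
      rw [hBN]
      obtain ⟨c, hc, k, hk, hck⟩ := Submodule.mem_sup.1 (hK.sup_eq_top ▸ Submodule.mem_top :
        (⟨y, hy⟩ : W) ∈ (W ⊓ LinearMap.ker N).comap W.subtype ⊔ K)
      have e : (c : Fin (h + h) ⊕ Fin (h + h) → F) + k = y := congrArg Subtype.val hck
      rw [← e, map_add, (LinearMap.mem_ker.1 hc.2 : N (c : Fin (h + h) ⊕ Fin (h + h) → F) = 0), zero_add, ← hβ]
      exact hu' _ ⟨k, hk, rfl⟩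
    have : x ∈ (⊥ : Submodule F W) := hK.inf_eq_bot ▸ ⟨⟨x.2, LinearMap.mem_ker.2 hNx⟩, hx⟩
    rw [(Submodule.mem_bot F).1 this]
    rfl
  obtain ⟨e, he⟩ := even_finrank hβA hKn
  exact ⟨e, by omega⟩

end CfsgLib.Classical22.PrimeMaps.Symp
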