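/-
The number of unordered equidimensional decompositions divides the order of the general linear group.
-/
import Cfsg.Agent.Lib.Classical22.SubspaceCount
import Cfsg.Prelude.Def_GeometricClasses

set_option autoImplicit false

namespace CfsgLib.Classical22.PrimeMaps.Wreath

open Module

variable {F : Type*} [Field F] [Fintype F] {n a t : ℕ}

theorem exists_equiv_decomp {D E : Fin t → Submodule F (Fin n → F)} (hD : Cfsg.Geo.IsMDecomposition a D)
    (hE : Cfsg.Geo.IsMDecomposition a E) :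
    ∃ e : (Fin n → F) ≃ₗ[F] (Fin n → F), ∀ j, (D j).map (e : (Fin n → F) →ₗ[F] (Fin n → F)) = E j := by
  classical
  have iD := (DirectSum.isInternal_submodule_iff_iSupIndep_and_iSup_eq_top D).2 ⟨hD.indep, hD.iSup_eq_top⟩
  have iE := (DirectSum.isInternal_submodule_iff_iSupIndep_and_iSup_eq_top E).2 ⟨hE.indep, hE.iSup_eq_top⟩
  let b : ∀ j, Basis (Fin a) F (D j) := fun j => Module.finBasisOfFinrankEq F _ (hD.finrank_eq j)
  let b' : ∀ j, Basis (Fin a) F (E j) := fun j => Module.finBasisOfFinrankEq F _ (hE.finrank_eq j)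
  refine ⟨(iD.collectedBasis b).equiv (iE.collectedBasis b') (Equiv.refl _), fun j => ?_⟩
  refine Submodule.eq_of_le_of_finrank_eq ?_ ((LinearEquiv.finrank_map_eq _ _).trans
    ((hD.finrank_eq j).trans (hE.finrank_eq j).symm))
  rintro _ ⟨v, hv, rfl⟩
  obtain ⟨v, rfl⟩ : ∃ w : D j, (w : Fin n → F) = v := ⟨⟨v, hv⟩, rfl⟩
  rw [← (b j).sum_repr v]
  simp only [Submodule.coe_sum, Submodule.coe_smul, map_sum, map_smul]
  refine Submodule.sum_mem _ fun i _ => Submodule.smul_mem _ _ ?_
  have h1 := congrFun (iD.collectedBasis_coe b) ⟨j, i⟩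
  simp only at h1
  rw [LinearEquiv.coe_coe, ← h1, Basis.equiv_apply, Equiv.refl_apply, congrFun (iE.collectedBasis_coe b') ⟨j, i⟩]
  exact (b' j i).2

theorem unordered_dvd (ha : 1 ≤ a)
    (hN0' : Nat.card {D : Fin t → Submodule F (Fin n → F) // Cfsg.Geo.IsMDecomposition a D} ≠ 0) :
    Nat.card {D : Fin t → Submodule F (Fin n → F) // Cfsg.Geo.IsMDecomposition a D} / Nat.factorial t ∣
      Nat.card ((Fin n → F) ≃ₗ[F] (Fin n → F)) := by
  classical
  haveI : Finite (Fin n → F) := inferInstance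
  haveI : Finite ((Fin n → F) ≃ₗ[F] (Fin n → F)) := Finite.of_injective _ DFunLike.coe_injective
  obtain ⟨N, hN⟩ : ∃ N, Nat.card {D : Fin t → Submodule F (Fin n → F) // Cfsg.Geo.IsMDecomposition a D} = N :=
    ⟨_, rfl⟩
  rw [hN]
  rcases Nat.eq_zero_or_pos N with hzero | hpos
  · exact absurd (hN.trans hzero) hN0'
  obtain ⟨⟨D₀, hD₀⟩⟩ := (Nat.card_pos_iff.1 (hN ▸ hpos)).1
  obtain ⟨X, hX⟩ : ∃ X : Set (Fin t → Submodule F (Fin n → F)), X = {D | Cfsg.Geo.IsMDecomposition a D} := ⟨_, rfl⟩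
  -- transitivity
  letI : MulAction ((Fin n → F) ≃ₗ[F] (Fin n → F)) (Fin t → Submodule F (Fin n → F)) :=
    { smul := fun e D j => (D j).map (e : (Fin n → F) →ₗ[F] (Fin n → F))
      one_smul := fun D => funext fun j => Submodule.map_id _
      mul_smul := fun e e' D => funext fun j => Submodule.map_comp _ _ _ }
  have horb : MulAction.orbit ((Fin n → F) ≃ₗ[F] (Fin n → F)) D₀ = X := by
    ext D
    rw [hX]
    constructor
    · rintro ⟨e, rfl⟩
      refine ⟨hD₀.two_le, hD₀.pos, fun j => (LinearEquiv.finrank_map_eq e _).trans (hD₀.finrank_eq j), ?_, ?_⟩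
      · exact hD₀.indep.map_orderIso (Submodule.orderIsoMapComap e)
      · show ⨆ j, (D₀ j).map (e : (Fin n → F) →ₗ[F] (Fin n → F)) = ⊤
        rw [← Submodule.map_iSup, hD₀.iSup_eq_top, Submodule.map_top, LinearEquiv.range]
    · intro hD
      obtain ⟨e, he⟩ := exists_equiv_decomp hD₀ hD
      exact ⟨e, funext he⟩
  have hdvd : N ∣ Nat.card ((Fin n → F) ≃ₗ[F] (Fin n → F)) := by
    rw [← hN, show Nat.card {D : Fin t → Submodule F (Fin n → F) // Cfsg.Geo.IsMDecomposition a D} = Nat.card X by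
      rw [hX]; rfl, ← horb, Nat.card_congr (MulAction.orbitEquivQuotientStabilizer _ D₀)]
    exact Subgroup.card_quotient_dvd_card _
  by_cases hfac : Nat.factorial t ∣ N
  · exact (Nat.div_dvd_of_dvd hfac).trans hdvd
  exfalso
  apply hfac
  -- permuting the parts is free
  letI : MulAction (Equiv.Perm (Fin t)) {D : Fin t → Submodule F (Fin n → F) // Cfsg.Geo.IsMDecomposition a D} :=
    { smul := fun σ D => ⟨D.1 ∘ σ.symm, D.2.two_le, D.2.pos, fun j => D.2.finrank_eq _,
        D.2.indep.comp σ.symm.injective, by rw [← D.2.iSup_eq_top]; exact Equiv.iSup_comp (g := D.1) σ.symm⟩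
      one_smul := fun D => rfl
      mul_smul := fun σ τ D => rfl }
  rw [← hN, Nat.card_congr (MulAction.selfEquivSigmaOrbits (Equiv.Perm (Fin t)) _), Nat.card_sigma]
  refine Finset.dvd_sum fun q _ => ?_
  have hst : MulAction.stabilizer (Equiv.Perm (Fin t)) q.out = ⊥ := by
    refine eq_bot_iff.2 fun σ hσ => Equiv.ext fun j => ?_
    have h := congrFun (congrArg Subtype.val hσ) (σ j)
    change q.out.1 (σ.symm (σ j)) = q.out.1 (σ j) at h
    rw [Equiv.symm_apply_apply] at h
    by_contra hne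
    have hd := q.out.2.indep j
    rw [disjoint_iff] at hd
    have h0 : q.out.1 j = ⊥ := eq_bot_iff.2 (le_trans (le_inf le_rfl (h ▸ le_iSup₂
      (f := fun k (_ : k ≠ j) => q.out.1 k) (σ j) hne)) hd.le)
    have := q.out.2.finrank_eq j
    rw [h0, finrank_bot] at this
    omega
  refine dvd_of_eq ?_
  have h := MulAction.index_stabilizer (Equiv.Perm (Fin t)) q.out
  rw [hst, Subgroup.index_bot, Nat.card_perm, Nat.card_fin] at h
  rw [h]
  rfl

end CfsgLib.Classical22.PrimeMaps.Wreath
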