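/-
Linear maps of prime order: forms over a subfield, determinants of centralisers.
-/
import Cfsg.Agent.Lib.Classical22.PrimeOrderMaps

set_option autoImplicit false

namespace CfsgLib.Classical22.SubfieldDescent

open Polynomial CfsgLib.Classical22.PrimeMaps

variable {F : Type*} [Field F]

section Model

variable {V : Type*} [AddCommGroup V] [Module F V] [FiniteDimensional F V]

/-- A simple invariant subspace is the field of an irreducible annihilator. -/
theorem simple_model (f : V →ₗ[F] V) {W : Submodule F V} (hW : Inv f W) (hW0 : W ≠ ⊥)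
    (hmin : ∀ W', Inv f W' → W' ≤ W → W' ≠ ⊥ → W' = W) {A : F[X]} (hA : A ≠ 0)
    (hAW : ∀ w ∈ W, aeval f A w = 0) :
    ∃ P : F[X], Irreducible P ∧ P.Monic ∧ P ∣ A ∧ (∀ w ∈ W, aeval f P w = 0) ∧
      ∃ g : AdjoinRoot P ≃ₗ[F] W, ∀ (a : F[X]) (x : AdjoinRoot P),
        (g (AdjoinRoot.mk P a * x) : V) = aeval f a (g x : V) := by
  obtain ⟨P₀, hP₀, hdvd, hdeg, hPW₀⟩ := simple_minpoly f hW hW0 hmin hA hAW
  have hlc : P₀.leadingCoeff⁻¹ ≠ 0 := inv_ne_zero (leadingCoeff_ne_zero.2 hP₀.ne_zero)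
  have hass : Associated P₀ (P₀ * C P₀.leadingCoeff⁻¹) :=
    associated_mul_unit_right _ _ (isUnit_C.2 (Ne.isUnit hlc))
  obtain ⟨P, hP⟩ : ∃ P, P = P₀ * C P₀.leadingCoeff⁻¹ := ⟨_, rfl⟩
  rw [← hP] at hass
  have hirr : Irreducible P := hass.irreducible hP₀
  have hm : P.Monic := hP ▸ monic_mul_leadingCoeff_inv hP₀.ne_zero
  have hPW : ∀ w ∈ W, aeval f P w = 0 := fun w hw => by
    rw [hP, mul_comm, map_mul, Module.End.mul_apply, hPW₀ w hw, map_zero]
  refine ⟨P, hirr, hm, hass.symm.dvd.trans hdvd, hPW, ?_⟩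
  obtain ⟨w, hw, hw0⟩ := W.exists_mem_ne_zero_of_ne_bot hW0
  obtain ⟨Φ, hΦ⟩ : ∃ Φ : AdjoinRoot P →ₗ[F] W, ∀ a : F[X], (Φ (AdjoinRoot.mk P a) : V) = aeval f a w := by
    refine ⟨LinearMap.codRestrict W ((LinearMap.applyₗ w).comp
      ((aeval f).toLinearMap.comp (AdjoinRoot.modByMonicHom hm))) (fun x => inv_aeval hW _ w hw), fun a => ?_⟩
    show aeval f (AdjoinRoot.modByMonicHom hm (AdjoinRoot.mk P a)) w = _
    rw [AdjoinRoot.modByMonicHom_mk]
    conv_rhs => rw [← modByMonic_add_div a P, map_add, map_mul, LinearMap.add_apply]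
    rw [show aeval f P * aeval f (a /ₘ P) = aeval f (a /ₘ P) * aeval f P by rw [← map_mul, ← map_mul, mul_comm],
      Module.End.mul_apply, hPW w hw, map_zero, add_zero]
  have hinj : Function.Injective Φ := by
    rw [← LinearMap.ker_eq_bot, LinearMap.ker_eq_bot']
    intro x hx
    induction x using AdjoinRoot.induction_on with | _ a =>
    by_contra ha
    obtain ⟨u, v, huv⟩ : IsCoprime a P :=
      ((hirr.coprime_iff_not_dvd).2 fun hd => ha (AdjoinRoot.mk_eq_zero.2 hd)).symm
    have h := congrArg (fun g : F[X] => aeval f g w) huv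
    have hax : aeval f a w = 0 := by rw [← hΦ, hx, Submodule.coe_zero]
    simp only [map_add, map_mul, LinearMap.add_apply, Module.End.mul_apply, hax, hPW w hw, map_zero, add_zero,
      map_one, Module.End.one_apply] at h
    exact hw0 h.symm
  have hdim : Module.finrank F (AdjoinRoot P) = Module.finrank F W := by
    rw [(AdjoinRoot.powerBasis hirr.ne_zero).finrank, AdjoinRoot.powerBasis_dim, ← hdeg]
    exact natDegree_eq_of_degree_eq (degree_eq_degree_of_associated hass.symm)
  haveI : Module.Finite F (AdjoinRoot P) := (AdjoinRoot.powerBasis hirr.ne_zero).finite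
  refine ⟨LinearEquiv.ofBijective Φ ⟨hinj, (LinearMap.injective_iff_surjective_of_finrank_eq_finrank hdim).1 hinj⟩,
    fun a x => ?_⟩
  induction x using AdjoinRoot.induction_on with | _ b =>
  show ((Φ (AdjoinRoot.mk P a * AdjoinRoot.mk P b) : W) : V) = aeval f a ((Φ (AdjoinRoot.mk P b) : W) : V)
  rw [← map_mul, hΦ, hΦ, map_mul, Module.End.mul_apply]

/-- An invariant subspace has a basis on which the matrix of the map lies in a subfield. -/
theorem exists_rational (F₀ : Subfield F) {f : V →ₗ[F] V} {r : ℕ} (hr0 : 0 < r) (hr : (r : F) ≠ 0) {c : F} (hc : c ≠ 0)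
    (hf : ∀ v, (f ^ r) v = c • v)
    (hP : ∀ P : F[X], Irreducible P → P.Monic → P ∣ X ^ r - C c → ∀ i, P.coeff i ∈ F₀)
    {U : Submodule F V} (hU : Inv f U) :
    ∃ (ι : Type) (_ : Fintype ι) (b : ι → V) (M : ι → ι → F), LinearIndependent F b ∧
      Submodule.span F (Set.range b) = U ∧ (∀ i j, M i j ∈ F₀) ∧ ∀ j, f (b j) = ∑ i, M i j • b i := by
  classical
  obtain ⟨d, hd⟩ : ∃ d, Module.finrank F U = d := ⟨_, rfl⟩
  induction d using Nat.strong_induction_on generalizing U with
  | _ d ih =>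
    by_cases h0 : U = ⊥
    · subst h0
      exact ⟨Empty, inferInstance, Empty.elim, fun i => i.elim, linearIndependent_empty_type, by simp,
        fun i => i.elim, fun i => i.elim⟩
    obtain ⟨W, hW, hWU, hW0, hWm⟩ := exists_simple f hU h0
    obtain ⟨D, hD, hDU, hi, hsup⟩ := exists_compl_in hr hc hf hU hW hWU
    obtain ⟨P, hirr, hm, hdvd, hPW, g, hg⟩ := simple_model f hW hW0 hWm (X_pow_sub_C_ne_zero hr0 c)
      (fun w _ => by simp [hf])
    have hadd := Submodule.finrank_sup_add_finrank_inf_eq W D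
    rw [hsup, hi, finrank_bot, add_zero] at hadd
    have hWpos : 0 < Module.finrank F W := Nat.pos_of_ne_zero fun h => hW0 (Submodule.finrank_eq_zero.1 h)
    obtain ⟨ι, _, b, M, hb, hbs, hM, hfb⟩ := ih _ (by omega) hD rfl
    obtain ⟨e, he⟩ : ∃ e : ℕ, e = P.natDegree := ⟨_, rfl⟩
    obtain ⟨v, hv⟩ : ∃ v : ℕ → V, ∀ j, v j = (g (AdjoinRoot.root P ^ j) : V) := ⟨_, fun j => rfl⟩
    have hvs : ∀ j, f (v j) = v (j + 1) := fun j => by
      rw [hv, hv, pow_succ', ← AdjoinRoot.mk_X, hg, aeval_X]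
    have hLI : LinearIndependent F (fun i : Fin e => v i) := by
      subst he
      have := ((AdjoinRoot.powerBasis hirr.ne_zero).basis.linearIndependent.map' g.toLinearMap
        (LinearEquiv.ker g)).map' W.subtype W.ker_subtype
      refine (linearIndependent_equiv' (finCongr (AdjoinRoot.powerBasis_dim hirr.ne_zero).symm) ?_).2 this
      funext i
      simp [hv, PowerBasis.basis_eq_pow]
    have hspanW : Submodule.span F (Set.range fun i : Fin e => v i) = W := by
      refine Submodule.eq_of_le_of_finrank_eq (Submodule.span_le.2 ?_) ?_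
      · rintro _ ⟨i, rfl⟩
        show v (i : ℕ) ∈ W
        rw [hv]
        exact (g _).2
      · rw [finrank_span_eq_card hLI, Fintype.card_fin, ← g.finrank_eq,
          (AdjoinRoot.powerBasis hirr.ne_zero).finrank, AdjoinRoot.powerBasis_dim, he]
    have hlast : v e = ∑ i : Fin e, (-P.coeff i) • v i := by
      have h := congrArg (fun x : AdjoinRoot P => (g x : V)) (AdjoinRoot.mk_self (f := P))
      beta_reduce at h
      rw [← AdjoinRoot.aeval_eq, aeval_eq_sum_range, Finset.sum_range_succ, map_add, map_sum, map_zero,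
        hm.coeff_natDegree, one_smul] at h
      simp only [map_smul, Submodule.coe_add, Submodule.coe_sum, Submodule.coe_smul, Submodule.coe_zero, ← hv] at h
      rw [he, eq_neg_of_add_eq_zero_right h, ← Finset.sum_range (fun i => (-P.coeff i) • v i), ← Finset.sum_neg_distrib]
      exact Finset.sum_congr rfl fun i _ => (neg_smul _ _).symm
    obtain ⟨N, hN⟩ : ∃ N : Fin e → Fin e → F, ∀ i j, N i j =
        if (j : ℕ) + 1 < e then (if (i : ℕ) = j + 1 then 1 else 0) else -P.coeff i := ⟨_, fun i j => rfl⟩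
    have hNb : ∀ j : Fin e, f (v j) = ∑ i, N i j • v i := fun j => by
      rw [hvs]
      by_cases hj : (j : ℕ) + 1 < e
      · rw [Finset.sum_eq_single (⟨j + 1, hj⟩ : Fin e) (fun i _ hi => by
          rw [hN, if_pos hj, if_neg (fun h => hi (Fin.ext h)), zero_smul]) (fun h => absurd (Finset.mem_univ _) h),
          hN, if_pos hj, if_pos rfl, one_smul]
      · rw [show (j : ℕ) + 1 = e by have := j.2; omega, hlast]
        exact Finset.sum_congr rfl fun i _ => by rw [hN, if_neg hj]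
    have hNF : ∀ i j, N i j ∈ F₀ := fun i j => by
      rw [hN]
      split_ifs
      exacts [F₀.one_mem, F₀.zero_mem, F₀.neg_mem (hP P hirr hm hdvd _)]
    refine ⟨Fin e ⊕ ι, inferInstance, Sum.elim (fun i => v i) b,
      fun i j => Sum.elim (fun i' => Sum.elim (fun j' => N i' j') (fun _ => 0) j)
        (fun i' => Sum.elim (fun _ => 0) (fun j' => M i' j') j) i, ?_, ?_, ?_, ?_⟩
    · exact hLI.sum_type hb (by rw [hspanW, hbs, disjoint_iff]; exact hi)
    · rw [Set.Sum.elim_range, Submodule.span_union, hspanW, hbs, hsup]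
    · rintro (i | i) (j | j) <;> simp [hNF, hM, F₀.zero_mem]
    · rintro (j | j) <;> simp [Fintype.sum_sum_type, hNb, hfb]

/-- Every invariant decomposition piece contributes every determinant to the centraliser. -/
theorem det_centralizer [Finite F] {f : V →ₗ[F] V} {r : ℕ} (hr0 : 0 < r) (hr : (r : F) ≠ 0) {c : F} (hc : c ≠ 0)
    (hf : ∀ v, (f ^ r) v = c • v) (hV : 0 < Module.finrank F V) (t : F) :
    ∃ L : V →ₗ[F] V, (∀ v, L (f v) = f (L v)) ∧ LinearMap.det L = t := by
  classical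
  have htop : Inv f (⊤ : Submodule F V) := fun w _ => trivial
  obtain ⟨W, hW, -, hW0, hWm⟩ := exists_simple f htop (fun h => by rw [← finrank_top, h, finrank_bot] at hV; omega)
  obtain ⟨D, hD, -, hi, hsup⟩ := exists_compl_in hr hc hf htop hW le_top
  obtain ⟨P, hirr, hm, -, hPW, g, hg⟩ := simple_model f hW hW0 hWm (X_pow_sub_C_ne_zero hr0 c)
    (fun w _ => by simp [hf])
  haveI : Fact (Irreducible P) := ⟨hirr⟩
  haveI : Module.Finite F (AdjoinRoot P) := (AdjoinRoot.powerBasis hirr.ne_zero).finite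
  haveI : Finite (AdjoinRoot P) := Module.finite_of_finite F
  obtain ⟨x, hx⟩ := FiniteField.norm_surjective F (AdjoinRoot P) t
  obtain ⟨a, rfl⟩ := AdjoinRoot.mk_surjective x
  have hc' : IsCompl W D := ⟨disjoint_iff.2 hi, codisjoint_iff.2 hsup⟩
  obtain ⟨LW, hLW⟩ : ∃ LW : W →ₗ[F] W, ∀ w, LW w = g (AdjoinRoot.mk P a * g.symm w) :=
    ⟨g.toLinearMap.comp ((Algebra.lmul F (AdjoinRoot P) (AdjoinRoot.mk P a)).comp g.symm.toLinearMap), fun w => rfl⟩
  have hdet : LinearMap.det LW = t := by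
    rw [← hx, Algebra.norm_apply]
    have : LW = g.toLinearMap.comp ((Algebra.lmul F (AdjoinRoot P) (AdjoinRoot.mk P a)).comp g.symm.toLinearMap) :=
      LinearMap.ext hLW
    rw [this, LinearMap.det_conj]
  obtain ⟨Ψ, hΨ⟩ : ∃ Ψ : (W × D) ≃ₗ[F] V, ∀ w d, Ψ (w, d) = (w : V) + d :=
    ⟨Submodule.prodEquivOfIsCompl W D hc', fun w d => rfl⟩
  refine ⟨Ψ.toLinearMap.comp ((LW.prodMap LinearMap.id).comp Ψ.symm.toLinearMap), fun v => ?_, ?_⟩
  · obtain ⟨⟨w, d⟩, rfl⟩ := Ψ.surjective v
    have e1 : f (Ψ (w, d)) = Ψ (⟨f w, hW w w.2⟩, ⟨f d, hD d d.2⟩) := by rw [hΨ, hΨ, map_add]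
    rw [e1]
    simp only [LinearMap.comp_apply, LinearEquiv.coe_coe]
    rw [LinearEquiv.symm_apply_apply, LinearEquiv.symm_apply_apply, LinearMap.prodMap_apply, LinearMap.prodMap_apply,
      hΨ, hΨ, map_add, hLW, hLW, LinearMap.id_apply, LinearMap.id_apply]
    congr 1
    obtain ⟨y, rfl⟩ := g.surjective w
    have e2 : (⟨f (g y : V), hW _ (g y).2⟩ : W) = g (AdjoinRoot.mk P X * y) := Subtype.ext (by
      rw [hg, aeval_X])
    have hcomm : aeval f a * f = f * aeval f a := by
      have := congrArg (aeval f) (mul_comm a X); rwa [map_mul, map_mul, aeval_X] at this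
    rw [e2, LinearEquiv.symm_apply_apply, LinearEquiv.symm_apply_apply, hg, hg, hg, aeval_X,
      ← Module.End.mul_apply, hcomm, Module.End.mul_apply]
  · rw [LinearMap.det_conj, LinearMap.det_prodMap, hdet, LinearMap.det_id, mul_one]

end Model

/-- Rational form of a matrix of prime order modulo scalars. -/
theorem exists_rational_matrix {n r : ℕ} (F₀ : Subfield F) (hr0 : 0 < r) (hr : (r : F) ≠ 0) {c : F} (hc : c ≠ 0)
    {A : Matrix (Fin n) (Fin n) F} (hA : A ^ r = c • 1)
    (hP : ∀ P : F[X], Irreducible P → P.Monic → P ∣ X ^ r - C c → ∀ i, P.coeff i ∈ F₀) :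
    ∃ (Q : GL (Fin n) F) (M : Matrix (Fin n) (Fin n) F₀), A * Q.val = Q.val * M.map F₀.subtype := by
  classical
  have hf : ∀ v, ((Matrix.toLin' A) ^ r) v = c • v := fun v => by
    rw [← Matrix.toLin'_pow, hA, Matrix.toLin'_apply, Matrix.smul_mulVec, Matrix.one_mulVec]
  obtain ⟨ι, _, b, M, hb, hbs, hM, hfb⟩ := exists_rational F₀ hr0 hr hc hf hP (U := ⊤) fun w _ => trivial
  have hcard : Fintype.card ι = n := by
    rw [← finrank_span_eq_card hb, hbs, finrank_top, Module.finrank_fin_fun]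
  let σ : Fin n ≃ ι := (finCongr hcard.symm).trans (Fintype.equivFin ι).symm
  obtain ⟨Qm, hQ⟩ : ∃ Qm : Matrix (Fin n) (Fin n) F, ∀ i j, Qm i j = b (σ j) i := ⟨fun i j => _, fun i j => rfl⟩
  have hunit : IsUnit Qm := by
    rw [← Matrix.linearIndependent_cols_iff_isUnit]
    have : Qm.col = b ∘ σ := funext fun j => funext fun i => hQ i j
    rw [this]
    exact hb.comp σ σ.injective
  refine ⟨hunit.unit, fun i j => ⟨M (σ i) (σ j), hM _ _⟩, ?_⟩
  rw [IsUnit.unit_spec]
  ext i j
  have h := congrFun (hfb (σ j)) i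
  rw [Matrix.toLin'_apply, Matrix.mulVec, dotProduct, Finset.sum_apply] at h
  rw [Matrix.mul_apply, Matrix.mul_apply, ← σ.sum_comp] at *
  simp only [hQ, Matrix.map_apply, Subfield.subtype_apply, Pi.smul_apply, smul_eq_mul] at h ⊢
  rw [h]
  exact Finset.sum_congr rfl fun k _ => mul_comm _ _

/-- The centraliser of a matrix of prime order modulo scalars has every determinant. -/
theorem exists_det_centralizer [Finite F] {n r : ℕ} (hn : 0 < n) (hr0 : 0 < r) (hr : (r : F) ≠ 0) {c : F} (hc : c ≠ 0)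
    {A : Matrix (Fin n) (Fin n) F} (hA : A ^ r = c • 1) (t : Fˣ) :
    ∃ C : GL (Fin n) F, C.val * A = A * C.val ∧ Matrix.GeneralLinearGroup.det C = t := by
  have hf : ∀ v, ((Matrix.toLin' A) ^ r) v = c • v := fun v => by
    rw [← Matrix.toLin'_pow, hA, Matrix.toLin'_apply, Matrix.smul_mulVec, Matrix.one_mulVec]
  obtain ⟨L, hL, hdet⟩ := det_centralizer hr0 hr hc hf (by rw [Module.finrank_fin_fun]; exact hn) (t : F)
  have hdet' : (LinearMap.toMatrix' L).det = t := by rw [LinearMap.det_toMatrix', hdet]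
  refine ⟨Matrix.GeneralLinearGroup.mkOfDetNeZero (LinearMap.toMatrix' L) (hdet' ▸ t.ne_zero), ?_, Units.ext hdet'⟩
  show LinearMap.toMatrix' L * A = A * LinearMap.toMatrix' L
  apply Matrix.toLin'.injective
  rw [Matrix.toLin'_mul, Matrix.toLin'_mul, Matrix.toLin'_toMatrix']
  exact LinearMap.ext hL

end CfsgLib.Classical22.SubfieldDescent
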