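/-
Elements of prime order modulo scalars and membership in a subfield group.
-/
import Cfsg.Agent.Lib.Classical22.InvolSubfield
import Cfsg.Agent.Lib.Classical22.PrimeSubfieldDescent
import Cfsg.Agent.Lib.Classical22.PrimeOrderSubspaces
import Cfsg.Agent.Lib.Classical22.PrimeOrderWitness
import Cfsg.Agent.Lib.BlockArith.FieldRank

set_option autoImplicit false

namespace CfsgLib.Classical22.SubfieldMember

open Matrix

variable {F : Type*} [Field F] {n : ℕ}

/-- `x` is conjugate in `SL_n` to a scalar multiple of a matrix over `F₀`. -/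
def Into (F₀ : Subfield F) (x : SpecialLinearGroup (Fin n) F) : Prop :=
  ∃ (P : SpecialLinearGroup (Fin n) F) (a : F) (M : Matrix (Fin n) (Fin n) F₀), a ≠ 0 ∧
    (x : Matrix (Fin n) (Fin n) F) * P = (P : Matrix (Fin n) (Fin n) F) * (a • M.map F₀.subtype)

theorem mem_iff [Fintype F] (F₀ : Subfield F) (g : GL (Fin n) F) :
    g ∈ Cfsg.Geo.subfieldSubgroup F₀ 1 ↔
      ∃ (a : F) (M : Matrix (Fin n) (Fin n) F₀), a ≠ 0 ∧ g.val = a • M.map F₀.subtype := by
  haveI : (Cfsg.Geo.scalars (Fin n) F).Normal := ⟨by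
    rintro _ ⟨a, rfl⟩ b
    have e : Commute b (Units.map (Matrix.scalar (Fin n) : F →+* Matrix (Fin n) (Fin n) F).toMonoidHom a) := by
      refine Units.ext ?_
      simp only [Units.val_mul, Units.coe_map]
      exact (Matrix.scalar_commute _ (fun r => Commute.all _ r) _).symm.eq
    rw [e.eq, mul_inv_cancel_right]
    exact ⟨a, rfl⟩⟩
  have hsc : ∀ (a : Fˣ) (N : Matrix (Fin n) (Fin n) F),
      N * (Units.map (Matrix.scalar (Fin n) : F →+* Matrix (Fin n) (Fin n) F).toMonoidHom a).val = (a : F) • N := by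
    intro a N
    ext i j
    simp [Matrix.mul_diagonal, mul_comm]
  rw [InvolSubfield.subfieldSubgroup_one, Subgroup.mem_sup_of_normal_right]
  constructor
  · rintro ⟨_, ⟨g₀, rfl⟩, _, ⟨a, rfl⟩, rfl⟩
    refine ⟨a, g₀.val, a.ne_zero, ?_⟩
    rw [Units.val_mul, hsc]
    rfl
  · rintro ⟨a, M, ha, h⟩
    have hM : M.det ≠ 0 := fun h0 => by
      have hg := (GeneralLinearGroup.det g).ne_zero
      apply hg
      show g.val.det = 0
      rw [h, det_smul]
      show a ^ _ * (F₀.subtype.mapMatrix M).det = 0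
      rw [← RingHom.map_det, h0, map_zero, mul_zero]
    refine ⟨_, ⟨GeneralLinearGroup.mkOfDetNeZero M hM, rfl⟩, _, ⟨Units.mk0 a ha, rfl⟩, Units.ext ?_⟩
    rw [Units.val_mul, hsc, h]
    rfl

theorem conj_mem_iff [Fintype F] (F₀ : Subfield F) (x : SpecialLinearGroup (Fin n) F) :
    (∃ P : SpecialLinearGroup (Fin n) F, P⁻¹ * x * P ∈ (Cfsg.Geo.subfieldSubgroup F₀ 1).comap
      (SpecialLinearGroup.toGL : SpecialLinearGroup (Fin n) F →* GL (Fin n) F)) ↔ Into F₀ x := by
  refine ⟨fun ⟨P, hP⟩ => ?_, fun ⟨P, a, M, ha, h⟩ => ⟨P, ?_⟩⟩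
  · obtain ⟨a, M, ha, h⟩ := (mem_iff F₀ _).1 (Subgroup.mem_comap.1 hP)
    refine ⟨P, a, M, ha, ?_⟩
    rw [← h]
    exact congrArg Subtype.val (show x * P = P * (P⁻¹ * x * P) by rw [mul_assoc P⁻¹, mul_inv_cancel_left])
  · refine Subgroup.mem_comap.2 ((mem_iff F₀ _).2 ⟨a, M, ha, ?_⟩)
    show (((P⁻¹).val * x.val) * P.val : Matrix (Fin n) (Fin n) F) = _
    exact (Matrix.mul_assoc _ _ _).trans ((congrArg ((P⁻¹).val * ·) h).trans ((Matrix.mul_assoc _ _ _).symm.trans
      ((congrArg (· * (a • M.map F₀.subtype)) (congrArg Subtype.val (inv_mul_cancel P))).trans (Matrix.one_mul _))))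

theorem scalar_ne_zero {r : ℕ} (hn : 0 < n) (x : SpecialLinearGroup (Fin n) F) {z : F}
    (hx : (x : Matrix (Fin n) (Fin n) F) ^ r = z • 1) : z ≠ 0 := fun h => by
  haveI : Nonempty (Fin n) := ⟨⟨0, hn⟩⟩
  have hd : (x : Matrix (Fin n) (Fin n) F).det = 1 := x.2
  have h2 : (1 : F) = (z • (1 : Matrix (Fin n) (Fin n) F)).det :=
    ((one_pow r).symm.trans ((congrArg (· ^ r) hd.symm).trans (det_pow _ r).symm)).trans (congrArg Matrix.det hx)
  rw [h, zero_smul, det_zero] at h2
  · exact one_ne_zero h2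

/-- A determinant can be repaired inside the centraliser. -/
theorem into_of_conj [Fintype F] (F₀ : Subfield F) {r : ℕ} (hn : 0 < n) (hr0 : 0 < r) (hr : (r : F) ≠ 0)
    (x : SpecialLinearGroup (Fin n) F) {z : F} (hx : (x : Matrix (Fin n) (Fin n) F) ^ r = z • 1) {a : F}
    (ha : a ≠ 0) {M : Matrix (Fin n) (Fin n) F₀} (Q : GL (Fin n) F)
    (h : (x : Matrix (Fin n) (Fin n) F) * Q.val = Q.val * (a • M.map F₀.subtype)) : Into F₀ x := by
  obtain ⟨C, hC, hdet⟩ := SubfieldDescent.exists_det_centralizer hn hr0 hr (scalar_ne_zero hn x hx) hx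
    (GeneralLinearGroup.det Q)⁻¹
  have hd : (C * Q).val.det = 1 := by
    show ((GeneralLinearGroup.det (C * Q) : Fˣ) : F) = 1
    rw [map_mul, hdet, inv_mul_cancel, Units.val_one]
  refine ⟨⟨(C * Q).val, hd⟩, a, M, ha, ?_⟩
  show (x : Matrix (Fin n) (Fin n) F) * (C * Q).val = (C * Q).val * _
  rw [Units.val_mul, ← Matrix.mul_assoc, ← hC, Matrix.mul_assoc, h, Matrix.mul_assoc]

theorem pow_relation (F₀ : Subfield F) {r : ℕ} (hn : 0 < n) (P : SpecialLinearGroup (Fin n) F) {x : Matrix (Fin n) (Fin n) F}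
    {c a : F} (ha : a ≠ 0) {M : Matrix (Fin n) (Fin n) F₀} (h : x * P = (P : Matrix (Fin n) (Fin n) F) * (a • M.map F₀.subtype))
    (hx : x ^ r = c • 1) : ∃ w : F₀, (w : F) * a ^ r = c ∧ M ^ r = w • 1 := by
  have h1 : x ^ r * P = (P : Matrix (Fin n) (Fin n) F) * (a • M.map F₀.subtype) ^ r :=
    ((show SemiconjBy (P : Matrix (Fin n) (Fin n) F) (a • M.map F₀.subtype) x from h.symm).pow_right r).eq.symm
  rw [hx, smul_mul_assoc, Matrix.one_mul, smul_pow] at h1
  have h2 : c • (1 : Matrix (Fin n) (Fin n) F) = a ^ r • (M.map F₀.subtype) ^ r := by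
    have h3 := congrArg (fun N => ((P⁻¹ : SpecialLinearGroup (Fin n) F) : Matrix (Fin n) (Fin n) F) * N) h1
    beta_reduce at h3
    have hP : ((P⁻¹ : SpecialLinearGroup (Fin n) F) : Matrix (Fin n) (Fin n) F) * (P : Matrix (Fin n) (Fin n) F) = 1 :=
      congrArg Subtype.val (inv_mul_cancel P)
    rwa [← Matrix.mul_assoc, Matrix.mul_smul, hP, Matrix.one_mul] at h3
  have h4 : (M.map F₀.subtype) ^ r = (M ^ r).map F₀.subtype := (map_pow F₀.subtype.mapMatrix M r).symm
  rw [h4] at h2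
  have he : ∀ i j, c * (1 : Matrix (Fin n) (Fin n) F) i j = a ^ r * ((M ^ r) i j : F) := fun i j => by
    simpa using congrArg (fun N : Matrix (Fin n) (Fin n) F => N i j) h2
  have h00 : ((M ^ r) ⟨0, hn⟩ ⟨0, hn⟩ : F) * a ^ r = c := by
    have := he ⟨0, hn⟩ ⟨0, hn⟩
    rw [one_apply_eq, mul_one] at this
    rw [this, mul_comm]
  refine ⟨_, h00, Matrix.ext fun i j => Subtype.ext (mul_left_cancel₀ (pow_ne_zero r ha) ?_)⟩
  rw [← he i j]
  by_cases hij : i = j
  · subst hij
    rw [one_apply_eq, mul_one, ← h00, mul_comm]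
    simp
  · simp [one_apply_ne hij]

theorem pow_bijective {K : Type*} [Field K] [Finite K] {r : ℕ} (hr : r.Prime) (h : ¬ r ∣ Nat.card K - 1) :
    (∀ y : K, ∃ b, b ^ r = y) ∧ Function.Injective fun b : K => b ^ r := by
  have hco : (Nat.card Kˣ).Coprime r := by
    rw [Nat.card_units]
    exact (hr.coprime_iff_not_dvd.2 h).symm
  refine ⟨fun y => ?_, fun a b hab => ?_⟩
  · by_cases hy : y = 0
    · exact ⟨0, by rw [hy, zero_pow hr.ne_zero]⟩
    · obtain ⟨u, hu⟩ := (powCoprime hco).surjective (Units.mk0 y hy)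
      exact ⟨u, by rw [← Units.val_pow_eq_pow_val]; exact congrArg Units.val hu⟩
  · beta_reduce at hab
    by_cases ha : a = 0
    · rw [ha, zero_pow hr.ne_zero] at hab
      rw [ha, (pow_eq_zero_iff hr.ne_zero).1 hab.symm]
    · have hb : b ≠ 0 := fun hb => ha ((pow_eq_zero_iff hr.ne_zero).1 (by rw [hab, hb, zero_pow hr.ne_zero]))
      exact congrArg Units.val ((powCoprime hco).injective (a₁ := Units.mk0 a ha) (a₂ := Units.mk0 b hb)
        (Units.ext hab))

/-- The Frobenius map fixing exactly `F₀`. -/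
theorem exists_frob [Fintype F] {p : ℕ} [hp : Fact p.Prime] [CharP F p] (F₀ : Subfield F) {q₀ : ℕ}
    (h : Nat.card F₀ = q₀) :
    ∃ j, q₀ = p ^ j ∧ ∀ x : F, iterateFrobenius F p j x = x ↔ x ∈ F₀ := by
  classical
  letI := Fintype.ofFinite F₀
  haveI : CharP F₀ p := (F₀.subtype.charP_iff F₀.subtype.injective p).2 inferInstance
  obtain ⟨j, -, hj⟩ := FiniteField.card F₀ p
  have hq : q₀ = p ^ (j : ℕ) := by rw [← h, Nat.card_eq_fintype_card, hj]
  refine ⟨j, hq, fun x => ?_⟩
  rw [iterateFrobenius_def, ← hq]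
  have hmem : ∀ y ∈ F₀, y ^ q₀ = y := fun y hy => by
    rw [← h, Nat.card_eq_fintype_card]
    exact congrArg Subtype.val (FiniteField.pow_card (⟨y, hy⟩ : F₀))
  refine ⟨fun hx => ?_, hmem x⟩
  have h1 : 1 < q₀ := by rw [← h, Nat.card_eq_fintype_card]; exact Fintype.one_lt_card
  have hne : (Polynomial.X ^ q₀ - Polynomial.X : Polynomial F) ≠ 0 := FiniteField.X_pow_card_sub_X_ne_zero F h1
  have hsub : (Finset.univ.filter fun y : F => y ∈ F₀) ⊆ (Finset.univ.filter fun y : F => y ^ q₀ = y) :=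
    fun y hy => Finset.mem_filter.2 ⟨Finset.mem_univ _, hmem y (Finset.mem_filter.1 hy).2⟩
  have hcard : (Finset.univ.filter fun y : F => y ^ q₀ = y).card ≤ (Finset.univ.filter fun y : F => y ∈ F₀).card := by
    rw [← Fintype.card_subtype fun y : F => y ∈ F₀, ← Nat.card_eq_fintype_card, h]
    refine (Polynomial.card_le_degree_of_subset_roots fun y hy => ?_).trans
      (FiniteField.X_pow_card_sub_X_natDegree_eq F h1).le
    rw [Polynomial.mem_roots hne, Polynomial.IsRoot.def, Polynomial.eval_sub, Polynomial.eval_pow,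
      Polynomial.eval_X, (Finset.mem_filter.1 hy).2, sub_self]
  have hmem' : x ∈ (Finset.univ.filter fun y : F => y ∈ F₀) := by
    rw [Finset.eq_of_subset_of_card_le hsub hcard]
    exact Finset.mem_filter.2 ⟨Finset.mem_univ _, hx⟩
  exact (Finset.mem_filter.1 hmem').2

open Polynomial in
/-- If `q ≡ q₀ mod r` then the factors of `X^r - 1` are defined over `F₀`. -/
theorem rational_factor [Fintype F] {p : ℕ} [Fact p.Prime] [CharP F p] {q q₀ r : ℕ} (hq : Fintype.card F = q)
    (F₀ : Subfield F) (h : Nat.card F₀ = q₀) (hmod : q ≡ q₀ [MOD r]) {P : F[X]} (hP : Irreducible P) (hm : P.Monic)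
    (hdvd : P ∣ X ^ r - 1) (i : ℕ) : P.coeff i ∈ F₀ := by
  haveI : Fact (Irreducible P) := ⟨hP⟩
  haveI : CharP (AdjoinRoot P) p := charP_of_injective_algebraMap (algebraMap F (AdjoinRoot P)).injective p
  obtain ⟨j, hj, hfix⟩ := exists_frob (p := p) F₀ h
  obtain ⟨α, hα⟩ : ∃ α, α = AdjoinRoot.root P := ⟨_, rfl⟩
  have h0 : aeval α P = 0 := by rw [hα, AdjoinRoot.aeval_eq, AdjoinRoot.mk_self]
  have hr : α ^ r = 1 := by
    obtain ⟨d, hd⟩ := hdvd
    have := congrArg (aeval α) hd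
    rw [map_mul, h0, zero_mul, map_sub, map_pow, aeval_X, map_one, sub_eq_zero] at this
    exact this
  have hpow : α ^ q = α ^ q₀ := by
    rw [← Nat.div_add_mod q r, ← Nat.div_add_mod q₀ r, show q % r = q₀ % r from hmod, pow_add, pow_add, pow_mul,
      pow_mul, hr, one_pow, one_pow]
  have h1 : aeval (α ^ q₀) P = 0 := by
    rw [← hpow, ← expand_aeval, ← hq, FiniteField.expand_card, map_pow, h0, zero_pow Fintype.card_ne_zero]
  have h2 : aeval (α ^ q₀) (P.map (iterateFrobenius F p j)) = 0 := by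
    have := congrArg (iterateFrobenius (AdjoinRoot P) p j) h0
    rw [aeval_def, hom_eval₂, map_zero, iterateFrobenius_def, ← hj] at this
    rw [aeval_def, eval₂_map]
    have hcomp : (algebraMap F (AdjoinRoot P)).comp (iterateFrobenius F p j) =
        (iterateFrobenius (AdjoinRoot P) p j).comp (algebraMap F (AdjoinRoot P)) :=
      RingHom.ext fun x => by
        rw [RingHom.comp_apply, RingHom.comp_apply, iterateFrobenius_def, iterateFrobenius_def, map_pow]
    rw [hcomp]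
    exact this
  have hdiv : P ∣ P.map (iterateFrobenius F p j) := by
    rw [minpoly.eq_of_irreducible_of_monic hP h1 hm]
    exact minpoly.dvd F _ (by rwa [← minpoly.eq_of_irreducible_of_monic hP h1 hm])
  have heq : P.map (iterateFrobenius F p j) = P := by
    refine eq_of_monic_of_dvd_of_natDegree_le hm (hm.map _) hdiv ?_
    rw [natDegree_map]
  refine (hfix _).1 ?_
  conv_rhs => rw [← heq, coeff_map]

end CfsgLib.Classical22.SubfieldMember
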