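/-
Diagonalisable elements of prime order and subfield groups: eigenvalue exponents.
-/
import Cfsg.Agent.Lib.Classical22.PrimeSubfieldMem

set_option autoImplicit false

namespace CfsgLib.Classical22.SubfieldEigen

open Matrix CfsgLib.Classical22.SubfieldMember

variable {F : Type*} [Field F] {r : ℕ} [hr : Fact r.Prime]

theorem exists_char [Fintype F] (h : r ∣ Fintype.card F - 1) :
    ∃ χ : AddChar (ZMod r) F, Function.Injective χ ∧ ∀ y : F, y ^ r = 1 → ∃ a, χ a = y := by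
  classical
  obtain ⟨w, hw⟩ := exists_prime_orderOf_dvd_card' (G := Fˣ) r
    (by rwa [Nat.card_units, Nat.card_eq_fintype_card])
  obtain ⟨ω, hω⟩ : ∃ ω : F, IsPrimitiveRoot ω r :=
    ⟨(w : F), IsPrimitiveRoot.coe_units_iff.2 (hw ▸ IsPrimitiveRoot.orderOf w)⟩
  haveI : NeZero r := ⟨hr.out.ne_zero⟩
  refine ⟨AddChar.zmodChar r hω.pow_eq_one, fun a b hab => ?_, fun y hy => ?_⟩
  · rw [AddChar.zmodChar_apply, AddChar.zmodChar_apply] at hab
    exact ZMod.val_injective r (hω.pow_inj a.val_lt b.val_lt hab)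
  · obtain ⟨i, -, hi⟩ := hω.eq_pow_of_pow_eq_one hy
    exact ⟨i, by rw [AddChar.zmodChar_apply', hi]⟩

variable {χ : AddChar (ZMod r) F}

theorem char_pow (χ : AddChar (ZMod r) F) (a : ZMod r) (m : ℕ) : χ a ^ m = χ ((m : ZMod r) * a) := by
  rw [← AddChar.map_nsmul_eq_pow, nsmul_eq_mul]

theorem char_pow_self (χ : AddChar (ZMod r) F) (a : ZMod r) : χ a ^ r = 1 := by
  rw [char_pow, ZMod.natCast_self, zero_mul, AddChar.map_zero_eq_one]

theorem char_ne_zero (χ : AddChar (ZMod r) F) (a : ZMod r) : χ a ≠ 0 := fun h => by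
  have := char_pow_self χ a
  rw [h, zero_pow hr.out.ne_zero] at this
  exact zero_ne_one this

theorem char_sum {ι : Type*} (χ : AddChar (ZMod r) F) (s : Finset ι) (f : ι → ZMod r) :
    χ (∑ i ∈ s, f i) = ∏ i ∈ s, χ (f i) := by
  classical
  induction s using Finset.induction_on with
  | empty => simp
  | insert a t ha ih => rw [Finset.sum_insert ha, Finset.prod_insert ha, AddChar.map_add_eq_mul, ih]

theorem char_orth (hχ : Function.Injective χ) (i : ℕ) (hi : i < r) :
    ∑ a : ZMod r, χ a ^ i = if i = 0 then (r : F) else 0 := by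
  split_ifs with h0
  · subst h0
    simp
  · have hne : χ (i : ZMod r) ≠ 1 := fun h => h0 (by
      have := hχ (h.trans χ.map_zero_eq_one.symm)
      rw [ZMod.natCast_eq_zero_iff] at this
      exact Nat.eq_zero_of_dvd_of_lt this hi)
    have hS : (∑ a : ZMod r, χ a ^ i) * χ (i : ZMod r) = ∑ a : ZMod r, χ a ^ i := by
      refine Eq.trans ?_ (Equiv.sum_comp (Equiv.addRight (1 : ZMod r)) (fun a => χ a ^ i))
      rw [Finset.sum_mul]
      refine Finset.sum_congr rfl fun a _ => ?_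
      rw [Equiv.coe_addRight, AddChar.map_add_eq_mul, mul_pow, char_pow χ 1, mul_one]
    by_contra hS0
    exact hne (mul_left_cancel₀ hS0 (hS.trans (mul_one _).symm))

theorem exists_diag_char (hχ : Function.Injective χ) (hrF : (r : F) ≠ 0) {n : ℕ} {A : Matrix (Fin n) (Fin n) F}
    (hA : A ^ r = 1) :
    ∃ (Q : GL (Fin n) F) (e : Fin n → ZMod r), A * Q.val = Q.val * diagonal fun j => χ (e j) := by
  classical
  obtain ⟨S, hS⟩ : ∃ S, S = {v : Fin n → F | ∃ a : ZMod r, A *ᵥ v = χ a • v} := ⟨_, rfl⟩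
  have hspan : ⊤ ≤ Submodule.span F S := by
    intro v _
    obtain ⟨W, hW⟩ : ∃ W : ZMod r → Fin n → F, ∀ a, W a = ∑ i ∈ Finset.range r, χ a ^ i • ((A ^ i) *ᵥ v) :=
      ⟨_, fun a => rfl⟩
    have hmem : ∀ a, W a ∈ S := fun a => by
      rw [hS]
      refine ⟨-a, ?_⟩
      have h1 : χ a • (A *ᵥ W a) = W a := by
        obtain ⟨G, hG⟩ : ∃ G : ℕ → Fin n → F, ∀ i, G i = χ a ^ i • ((A ^ i) *ᵥ v) := ⟨_, fun i => rfl⟩
        have hGr : G r = G 0 := by rw [hG, hG, char_pow_self, hA, pow_zero, pow_zero]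
        have hterm : ∀ i, χ a • (A *ᵥ G i) = G (i + 1) := fun i => by
          rw [hG, hG, mulVec_smul, mulVec_mulVec, ← pow_succ' A, smul_smul, ← pow_succ' (χ a)]
        rw [hW, Finset.sum_congr rfl (fun i _ => (hG i).symm), mulVec_sum, Finset.smul_sum,
          Finset.sum_congr rfl (fun i _ => hterm i)]
        have := (Finset.sum_range_succ' G r).symm.trans (Finset.sum_range_succ G r)
        rw [hGr] at this
        exact add_right_cancel this
      conv_rhs => rw [← h1, smul_smul, ← AddChar.map_add_eq_mul, neg_add_cancel, AddChar.map_zero_eq_one, one_smul]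
    have hsum : ∑ a, W a = (r : F) • v := by
      rw [Finset.sum_congr rfl (fun a _ => hW a), Finset.sum_comm,
        Finset.sum_congr rfl (fun i hi => by
          rw [← Finset.sum_smul, char_orth hχ i (Finset.mem_range.1 hi), ite_smul, zero_smul]),
        Finset.sum_ite_eq' (Finset.range r) 0, if_pos (Finset.mem_range.2 hr.out.pos), pow_zero, one_mulVec]
    rw [← inv_smul_smul₀ hrF v, ← hsum]
    exact Submodule.smul_mem _ _ (Submodule.sum_mem _ fun a _ => Submodule.subset_span (hmem a))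
  let b₀ := Module.Basis.ofSpan hspan
  let b := b₀.reindex (b₀.indexEquiv (Pi.basisFun F (Fin n)))
  have hb : ∀ j, ∃ a, A *ᵥ b j = χ a • b j := fun j => by
    have hmem : b j ∈ S := by
      rw [Module.Basis.reindex_apply]
      exact Module.Basis.ofSpan_subset hspan ⟨_, rfl⟩
    rwa [hS] at hmem
  choose e he using hb
  obtain ⟨Qm, hQ⟩ : ∃ Qm : Matrix (Fin n) (Fin n) F, ∀ i j, Qm i j = b j i := ⟨fun i j => _, fun i j => rfl⟩
  have hunit : IsUnit Qm := by
    rw [← Matrix.linearIndependent_cols_iff_isUnit]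
    have : Qm.col = b := funext fun j => funext fun i => hQ i j
    rw [this]
    exact b.linearIndependent
  refine ⟨hunit.unit, e, ?_⟩
  rw [IsUnit.unit_spec]
  ext i j
  rw [Matrix.mul_diagonal, hQ, mul_comm, Matrix.mul_apply, ← smul_eq_mul, ← Pi.smul_apply, ← he, mulVec, dotProduct]
  simp only [hQ]

theorem equiv_of_map_eq {α ι κ : Type*} [Fintype ι] [Fintype κ] (f : ι → α) (g : κ → α)
    (h : (Finset.univ.val.map f) = Finset.univ.val.map g) : ∃ π : ι ≃ κ, ∀ i, g (π i) = f i := by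
  classical
  have key : ∀ v, Fintype.card {i // f i = v} = Fintype.card {i // g i = v} := fun v => by
    have := congrArg (Multiset.count v) h
    rw [Multiset.count_map, Multiset.count_map] at this
    rw [Fintype.card_subtype, Fintype.card_subtype, Finset.card_def, Finset.card_def, Finset.filter_val, Finset.filter_val]
    simpa [eq_comm] using this
  exact ⟨Equiv.ofFiberEquiv fun v => Fintype.equivOfCardEq (key v), fun i => Equiv.ofFiberEquiv_map _ i⟩

section Rat

variable {ι κ : Type*} [Fintype ι] [DecidableEq ι] [Fintype κ] [DecidableEq κ]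

/-- Conjugate to a matrix over `F₀`. -/
def RatConj (F₀ : Subfield F) (D : Matrix ι ι F) : Prop :=
  ∃ (Q : Matrix ι ι F) (M : Matrix ι ι F₀), Q.det ≠ 0 ∧ D * Q = Q * M.map F₀.subtype

theorem rat_one (F₀ : Subfield F) : RatConj F₀ (1 : Matrix ι ι F) :=
  ⟨1, 1, by rw [det_one]; exact one_ne_zero, by rw [Matrix.map_one _ (map_zero _) (map_one _)]⟩

theorem rat_pair (F₀ : Subfield F) {u : F} (hu : u ≠ 0) (hs : u + u⁻¹ ∈ F₀) (h1 : u = u⁻¹ → u = 1) :
    RatConj F₀ (diagonal ![u, u⁻¹]) := by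
  by_cases h : u = u⁻¹
  · rw [h1 h, inv_one, show (![1, 1] : Fin 2 → F) = fun _ => 1 from funext fun i => by fin_cases i <;> rfl, diagonal_one]
    exact rat_one F₀
  · refine ⟨!![1, u; 1, u⁻¹], !![0, -1; 1, ⟨_, hs⟩], by rw [det_fin_two]; simp [sub_eq_zero, Ne.symm h], ?_⟩
    ext i j
    fin_cases i <;> fin_cases j <;> simp [Matrix.mul_apply, Fin.sum_univ_two, mul_add, hu]

theorem rat_sum (F₀ : Subfield F) {f : ι → F} {g : κ → F} (hf : RatConj F₀ (diagonal f))
    (hg : RatConj F₀ (diagonal g)) : RatConj F₀ (diagonal (Sum.elim f g)) := by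
  obtain ⟨Q₁, M₁, h₁, e₁⟩ := hf
  obtain ⟨Q₂, M₂, h₂, e₂⟩ := hg
  refine ⟨fromBlocks Q₁ 0 0 Q₂, fromBlocks M₁ 0 0 M₂, by rw [det_fromBlocks_zero₂₁]; exact mul_ne_zero h₁ h₂, ?_⟩
  rw [← fromBlocks_diagonal, fromBlocks_map, fromBlocks_multiply, fromBlocks_multiply]
  simp [e₁, e₂]

theorem rat_reindex (F₀ : Subfield F) {f : κ → F} (π : ι ≃ κ) (hf : RatConj F₀ (diagonal f)) :
    RatConj F₀ (diagonal (f ∘ π)) := by
  obtain ⟨Q, M, hQ, e⟩ := hf
  refine ⟨Q.submatrix π π, M.submatrix π π, by rwa [det_submatrix_equiv_self], ?_⟩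
  rw [← submatrix_map, ← submatrix_diagonal_equiv, submatrix_mul_equiv, submatrix_mul_equiv, e]

end Rat

theorem five_sorted : ∀ e0 e1 : Fin 5, e0 ≤ e1 → ∀ e2, e1 ≤ e2 → ∀ e3, e2 ≤ e3 → e3 ≤ -(e0 + e1 + e2 + e3) →
    ∃ t a b : Fin 5, ∀ v : Fin 5, [e0 + t, e1 + t, e2 + t, e3 + t, -(e0 + e1 + e2 + e3) + t].count v =
      [0, a, -a, b, -b].count v := by decide +kernel

theorem three_list : ∀ e : Fin 3 → ZMod 3, ∑ i, e i = 0 → ∃ t a : ZMod 3, ∀ v,
    [e 0 + t, e 1 + t, e 2 + t].count v = [0, a, -a].count v := by decide +kernel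

theorem map_eq_of_count {α : Type*} [DecidableEq α] {m : ℕ} (f g : Fin m → α)
    (h : ∀ v, (List.ofFn f).count v = (List.ofFn g).count v) :
    (Finset.univ.val.map f) = Finset.univ.val.map g := by
  refine Multiset.ext.2 fun v => ?_
  rw [Fin.univ_val_map, Fin.univ_val_map, Multiset.coe_count, Multiset.coe_count]
  exact h v

/-- Exponents with zero sum are symmetric about some point. -/
theorem symmetric_exponents_five (e : Fin 5 → ZMod 5) (he : ∑ i, e i = 0) :
    ∃ (t a b : ZMod 5) (π : Fin 5 ≃ Fin 5), ∀ i, ![0, a, -a, b, -b] (π i) = e i + t := by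
  obtain ⟨f, hf⟩ : ∃ f : Fin 5 → Fin 5, f = fun i => (e (Tuple.sort (α := Fin 5) e i) : Fin 5) := ⟨_, rfl⟩
  have hmon : Monotone f := hf ▸ Tuple.monotone_sort (α := Fin 5) e
  have hsum : f 4 = -(f 0 + f 1 + f 2 + f 3) := by
    have hs : ∑ i, f i = 0 := by
      rw [hf]
      exact (Equiv.sum_comp (Tuple.sort (α := Fin 5) e) e).trans he
    rw [Fin.sum_univ_five] at hs
    rwa [eq_neg_iff_add_eq_zero, add_comm]
  obtain ⟨t, a, b, h⟩ := five_sorted (f 0) (f 1) (hmon (by decide)) (f 2) (hmon (by decide)) (f 3) (hmon (by decide))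
    (hsum ▸ hmon (show (3 : Fin 5) ≤ 4 by decide))
  rw [← hsum] at h
  have hmap : (Finset.univ.val.map fun i => f i + t) = Finset.univ.val.map ![0, a, -a, b, -b] := by
    refine map_eq_of_count _ _ fun v => ?_
    simpa [List.ofFn_succ] using h v
  obtain ⟨π, hπ⟩ := equiv_of_map_eq _ _ hmap
  refine ⟨t, a, b, (Tuple.sort (α := Fin 5) e).symm.trans π, fun i => ?_⟩
  have h2 := hπ ((Tuple.sort (α := Fin 5) e).symm i)
  rw [Equiv.trans_apply]
  refine h2.trans ?_
  have hfi : f ((Tuple.sort (α := Fin 5) e).symm i) = e i := by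
    rw [hf]; exact congrArg e (Equiv.apply_symm_apply _ _)
  exact congrArg (· + t) hfi

theorem symmetric_exponents_three (e : Fin 3 → ZMod 3) (he : ∑ i, e i = 0) :
    ∃ (t a : ZMod 3) (π : Fin 3 ≃ Fin 3), ∀ i, ![0, a, -a] (π i) = e i + t := by
  obtain ⟨t, a, h⟩ := three_list e he
  obtain ⟨π, hπ⟩ := equiv_of_map_eq (fun i => e i + t) ![0, a, -a]
    (map_eq_of_count _ _ fun v => by simpa [List.ofFn_succ] using h v)
  exact ⟨t, a, π, hπ⟩

/-- An element over `F₀` up to scalars has Frobenius-stable eigenvalue multiset. -/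
theorem diag_stable [Fintype F] {p : ℕ} [Fact p.Prime] [CharP F p] {n q₀ : ℕ} (F₀ : Subfield F)
    (h : Nat.card F₀ = q₀) (x : SpecialLinearGroup (Fin n) F) (d : Fin n → F)
    (hd : (x : Matrix (Fin n) (Fin n) F) = diagonal d) (hx : Into F₀ x) :
    ∃ (a : F) (π : Fin n ≃ Fin n), a ≠ 0 ∧ ∀ i, d (π i) = a * (a⁻¹ * d i) ^ q₀ := by
  classical
  obtain ⟨P, a, M, ha, hP⟩ := hx
  obtain ⟨j, hj, hfix⟩ := exists_frob (p := p) F₀ h
  obtain ⟨U, hUP⟩ : ∃ U : (Matrix (Fin n) (Fin n) F)ˣ, U.val = (P : Matrix (Fin n) (Fin n) F) :=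
    ⟨SpecialLinearGroup.toGL P, rfl⟩
  rw [← hUP] at hP
  have h1 : diagonal (fun i => a⁻¹ * d i) = U.val * M.map F₀.subtype * U⁻¹.val := by
    have hU : (x : Matrix (Fin n) (Fin n) F) * U.val = U.val * (a • M.map F₀.subtype) := hP
    rw [hd] at hU
    rw [Units.eq_mul_inv_iff_mul_eq, show diagonal (fun i => a⁻¹ * d i) = a⁻¹ • diagonal d from
      (diagonal_smul a⁻¹ d), smul_mul_assoc, hU, Matrix.mul_smul, smul_smul, inv_mul_cancel₀ ha, one_smul]
  have hc := congrArg Matrix.charpoly h1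
  rw [charpoly_diagonal, Matrix.coe_units_inv, Matrix.charpoly_units_conj, Matrix.charpoly_map] at hc
  have hσ : (M.charpoly.map F₀.subtype).map (iterateFrobenius F p j) = M.charpoly.map F₀.subtype := by
    rw [Polynomial.map_map]
    congr 1
    exact RingHom.ext fun w => (hfix _).2 w.2
  rw [← hc, Polynomial.map_prod] at hσ
  have hroots := congrArg Polynomial.roots hσ
  simp only [Polynomial.map_sub, Polynomial.map_X, Polynomial.map_C, Finset.prod_eq_multiset_prod] at hroots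
  rw [show (fun i => Polynomial.X - Polynomial.C (iterateFrobenius F p j (a⁻¹ * d i))) =
      (fun y => Polynomial.X - Polynomial.C y) ∘ fun i => iterateFrobenius F p j (a⁻¹ * d i) from rfl,
    show (fun i => Polynomial.X - Polynomial.C (a⁻¹ * d i)) =
      (fun y => Polynomial.X - Polynomial.C y) ∘ fun i => a⁻¹ * d i from rfl,
    ← Multiset.map_map, ← Multiset.map_map, Polynomial.roots_multiset_prod_X_sub_C,
    Polynomial.roots_multiset_prod_X_sub_C] at hroots
  obtain ⟨π, hπ⟩ := equiv_of_map_eq _ _ hroots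
  refine ⟨a, π, ha, fun i => ?_⟩
  rw [hj, ← iterateFrobenius_def, ← hπ i, ← mul_assoc, mul_inv_cancel₀ ha, one_mul]

/-- The exponents are permuted affinely by multiplication with `q₀`. -/
theorem exponents_affine [Fintype F] {p : ℕ} [Fact p.Prime] [CharP F p] {n q₀ : ℕ} (F₀ : Subfield F)
    (h : Nat.card F₀ = q₀) (hχ : Function.Injective χ) (hn : 0 < n) (x : SpecialLinearGroup (Fin n) F) {s : F}
    (hs : s ≠ 0) (e : Fin n → ZMod r) (hd : (x : Matrix (Fin n) (Fin n) F) = diagonal fun i => s * χ (e i))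
    (hx : Into F₀ x) : ∃ (π : Fin n ≃ Fin n) (d : ZMod r), ∀ i, e (π i) = (q₀ : ZMod r) * e i + d := by
  obtain ⟨a, π, ha, hπ⟩ := diag_stable (p := p) F₀ h x _ hd hx
  refine ⟨π, e (π ⟨0, hn⟩) - (q₀ : ZMod r) * e ⟨0, hn⟩, fun i => ?_⟩
  obtain ⟨K, hK⟩ : ∃ K, K = a * (a⁻¹ * s) ^ q₀ := ⟨_, rfl⟩
  have hK0 : K ≠ 0 := hK ▸ mul_ne_zero ha (pow_ne_zero _ (mul_ne_zero (inv_ne_zero ha) hs))
  have key : ∀ i, s * χ (e (π i)) = K * χ ((q₀ : ZMod r) * e i) := fun i => by
    rw [hπ i, hK, ← char_pow, ← mul_assoc a⁻¹, mul_pow, mul_assoc]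
  have h2 : s * χ (e (π i) + (q₀ : ZMod r) * e ⟨0, hn⟩) = s * χ (e (π ⟨0, hn⟩) + (q₀ : ZMod r) * e i) := by
    rw [AddChar.map_add_eq_mul, AddChar.map_add_eq_mul, ← mul_assoc, key, ← mul_assoc, key]
    ring
  linear_combination hχ (mul_left_cancel₀ hs h2)

end CfsgLib.Classical22.SubfieldEigen
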