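/-
Prime divisors of the index of a subfield group in `SL_n`.
-/
import Cfsg.Agent.Lib.Classical22.InvolSubfield

set_option autoImplicit false

namespace CfsgLib.Classical22.SubfieldIndex

open Matrix

theorem geom_add_one {x : ℕ} (hx : 1 ≤ x) (k : ℕ) : (x - 1) * ∑ i ∈ Finset.range k, x ^ i + 1 = x ^ k := by
  induction k with
  | zero => simp
  | succ k ih =>
    obtain ⟨y, rfl⟩ : ∃ y, x = y + 1 := ⟨x - 1, by omega⟩
    rw [Finset.sum_range_succ, mul_add, Nat.add_sub_cancel, pow_succ]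
    rw [Nat.add_sub_cancel] at ih
    have h : y * ∑ i ∈ Finset.range k, (y + 1) ^ i + y * (y + 1) ^ k + 1 = (y + 1) ^ k + y * (y + 1) ^ k := by omega
    rw [h]; ring

theorem prime_not_dvd_prod {r : ℕ} (hr : r.Prime) {ι : Type*} (s : Finset ι) (f : ι → ℕ) (h : ∀ i ∈ s, ¬ r ∣ f i) :
    ¬ r ∣ ∏ i ∈ s, f i := fun hd => by
  obtain ⟨i, hi, hid⟩ := (hr.prime.dvd_finset_prod_iff f).1 hd
  exact h i hi hid

/-- The order of `SL_{m+1}`. -/
theorem card_SL_eq {K : Type*} [Field K] [Fintype K] {Q : ℕ} (hQ : Fintype.card K = Q) (m : ℕ) :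
    Nat.card (SpecialLinearGroup (Fin (m + 1)) K) = (∏ i : Fin m, (Q ^ (i : ℕ) * (Q ^ (m + 1 - i) - 1))) * Q ^ m := by
  have hQ1 : 1 < Q := hQ ▸ Fintype.one_lt_card
  have h := CfsgLib.Classical.card_units_mul_card_SL (F := K) (ι := Fin (m + 1))
  rw [CfsgLib.Classical.card_units_eq hQ, Matrix.card_GL_field, hQ, Fin.prod_univ_castSucc] at h
  simp only [Fin.val_castSucc, Fin.val_last] at h
  have hlast : Q ^ (m + 1) - Q ^ m = (Q - 1) * Q ^ m := by rw [pow_succ', Nat.sub_mul, one_mul]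
  have hterm : ∀ i : Fin m, Q ^ (m + 1) - Q ^ (i : ℕ) = Q ^ (i : ℕ) * (Q ^ (m + 1 - i) - 1) := fun i => by
    rw [Nat.mul_sub, mul_one, ← pow_add, Nat.add_sub_cancel' (by omega)]
  rw [hlast, Finset.prod_congr rfl (fun i _ => hterm i), mul_left_comm] at h
  exact Nat.eq_of_mul_eq_mul_left (by omega) h

variable {F : Type*} [Field F] [Fintype F] {q q₀ k r : ℕ}

theorem not_dvd_of_small (hq : Fintype.card F = q) [hr : Fact r.Prime] (hq0 : (q : ZMod r) ≠ 0) {n : ℕ}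
    (hn : n < orderOf (q : ZMod r)) (H : Subgroup (SpecialLinearGroup (Fin n) F)) : ¬ r ∣ H.index := by
  intro hd
  have hd' := hd.trans H.index_dvd_card
  rcases n with _ | m
  · rw [Nat.card_unique] at hd'
    exact hr.out.not_dvd_one hd'
  rw [card_SL_eq hq] at hd'
  have hrq : ¬ r ∣ q := fun h => hq0 ((ZMod.natCast_eq_zero_iff _ _).2 h)
  rcases (hr.out.dvd_mul).1 hd' with h | h
  · refine prime_not_dvd_prod hr.out _ _ (fun i _ hi => ?_) h
    rcases (hr.out.dvd_mul).1 hi with hi | hi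
    · exact hrq (hr.out.dvd_of_dvd_pow hi)
    · rw [← ZMod.natCast_eq_zero_iff, Nat.cast_sub (Nat.one_le_pow _ _ (hq ▸ Fintype.card_pos)), sub_eq_zero,
        Nat.cast_pow, Nat.cast_one] at hi
      have := Nat.le_of_dvd (by omega) (orderOf_dvd_of_pow_eq_one hi)
      have hc1 : (i : ℕ) < m := i.2
      rcases Nat.eq_zero_or_pos (i : ℕ) with h0 | h0 <;> omega
  · exact hrq (hr.out.dvd_of_dvd_pow h)

theorem not_dvd_of_ratio (hq : Fintype.card F = q) [hr : Fact r.Prime] (F₀ : Subfield F) (hF₀ : Nat.card F₀ = q₀)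
    (hqk : q = q₀ ^ k) (hk : 1 ≤ k) (hr0 : ¬ r ∣ q₀) {n : ℕ} (hn : 0 < n)
    (h : ∀ j, 2 ≤ j → j ≤ n → ∃ cc, ¬ r ∣ cc ∧ q ^ j - 1 = (q₀ ^ j - 1) * cc) :
    ¬ r ∣ ((Cfsg.Geo.subfieldSubgroup F₀ 1).comap
      (Matrix.SpecialLinearGroup.toGL : Matrix.SpecialLinearGroup (Fin n) F →* GL (Fin n) F)).index := by
  classical
  letI := Fintype.ofFinite F₀
  rw [Nat.card_eq_fintype_card] at hF₀
  obtain ⟨m, rfl⟩ : ∃ m, n = m + 1 := ⟨n - 1, by omega⟩
  obtain ⟨O, hO, hOe⟩ : ∃ O, ¬ r ∣ O ∧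
      Nat.card (SpecialLinearGroup (Fin (m + 1)) F) = Nat.card (SpecialLinearGroup (Fin (m + 1)) F₀) * O := by
    rw [card_SL_eq hq, card_SL_eq hF₀]
    obtain ⟨l, rfl⟩ : ∃ l, k = l + 1 := ⟨k - 1, by omega⟩
    choose cc hcc hce using fun i : Fin m => h (m + 1 - i) (by omega) (by omega)
    refine ⟨(∏ i : Fin m, (q₀ ^ (i : ℕ)) ^ l * cc i) * (q₀ ^ m) ^ l, ?_, ?_⟩
    · intro hd
      rcases (hr.out.dvd_mul).1 hd with hd | hd
      · refine prime_not_dvd_prod hr.out _ _ (fun i _ hi => ?_) hd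
        rcases (hr.out.dvd_mul).1 hi with hi | hi
        · exact hr0 (hr.out.dvd_of_dvd_pow (hr.out.dvd_of_dvd_pow hi))
        · exact hcc i hi
      · exact hr0 (hr.out.dvd_of_dvd_pow (hr.out.dvd_of_dvd_pow hd))
    · rw [mul_mul_mul_comm, ← Finset.prod_mul_distrib]
      congr 1
      · refine Finset.prod_congr rfl fun i _ => ?_
        rw [hce, hqk, ← pow_mul, ← pow_mul, Nat.mul_comm (i : ℕ) l, show (l + 1) * (i : ℕ) = i + l * i by ring, pow_add]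
        ring
      · rw [hqk, ← pow_mul, ← pow_mul, show (l + 1) * m = m + m * l by ring, pow_add]
  obtain ⟨H, hH⟩ : ∃ H, H = (Cfsg.Geo.subfieldSubgroup F₀ 1).comap
      (Matrix.SpecialLinearGroup.toGL : Matrix.SpecialLinearGroup (Fin (m + 1)) F →* GL (Fin (m + 1)) F) := ⟨_, rfl⟩
  obtain ⟨t, ht⟩ : Nat.card (SpecialLinearGroup (Fin (m + 1)) F₀) ∣ Nat.card H := by
    have hinj : Function.Injective (SpecialLinearGroup.map (F₀.subtype : F₀ →+* F) :
        SpecialLinearGroup (Fin (m + 1)) F₀ →* _) := fun a b h => Subtype.ext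
      (Matrix.map_injective F₀.subtype.injective (congrArg Subtype.val h))
    rw [Nat.card_congr (MonoidHom.ofInjective hinj).toEquiv]
    refine Subgroup.card_dvd_of_le ?_
    rintro _ ⟨a, rfl⟩
    rw [hH, Subgroup.mem_comap, InvolSubfield.subfieldSubgroup_one]
    exact Subgroup.mem_sup_left ⟨SpecialLinearGroup.toGL a, Units.ext rfl⟩
  rw [← hH]
  intro hd
  rw [← Subgroup.index_mul_card H, ht, mul_left_comm] at hOe
  exact hO (Nat.eq_of_mul_eq_mul_left Nat.card_pos hOe ▸ dvd_mul_of_dvd_left hd _)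

variable [hr : Fact r.Prime]

/-- The index is prime to `r` unless the exponent divides the order of `q₀`. -/
theorem dvd_order (hq : Fintype.card F = q) (F₀ : Subfield F) (hF₀ : Nat.card F₀ = q₀) (hqk : q = q₀ ^ k)
    (hk : k.Prime) (hrk : r ≠ k) (hr0 : ¬ r ∣ q₀) {n : ℕ} (hn : 0 < n)
    (hd : r ∣ ((Cfsg.Geo.subfieldSubgroup F₀ 1).comap
      (Matrix.SpecialLinearGroup.toGL : Matrix.SpecialLinearGroup (Fin n) F →* GL (Fin n) F)).index) :
    k ∣ orderOf (q₀ : ZMod r) := by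
  by_contra hkc
  refine not_dvd_of_ratio hq F₀ hF₀ hqk hk.pos hr0 hn (fun j _ _ => ?_) hd
  have h1 : 1 ≤ q₀ ^ j := Nat.one_le_iff_ne_zero.2 fun h => hr0 (by rw [(pow_eq_zero_iff'.1 h).1]; exact dvd_zero r)
  have hg := geom_add_one h1 k
  refine ⟨∑ i ∈ Finset.range k, (q₀ ^ j) ^ i, fun hdd => ?_, by rw [hqk, ← pow_mul, mul_comm k j, pow_mul]; omega⟩
  have hs : ((∑ i ∈ Finset.range k, (q₀ ^ j) ^ i : ℕ) : ZMod r) = 0 := (ZMod.natCast_eq_zero_iff _ _).2 hdd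
  have hx : ((q₀ ^ j : ℕ) : ZMod r) = 1 := by
    have h2 := congrArg (fun a : ℕ => (a : ZMod r)) hg
    rw [Nat.cast_add, Nat.cast_mul, hs, mul_zero, zero_add, Nat.cast_one, Nat.cast_pow, Nat.cast_pow, ← pow_mul] at h2
    have hco : (orderOf (q₀ : ZMod r)).Coprime k := ((hk.coprime_iff_not_dvd).2 hkc).symm
    rw [Nat.cast_pow]
    exact orderOf_dvd_iff_pow_eq_one.1 (hco.dvd_of_dvd_mul_right (orderOf_dvd_of_pow_eq_one h2.symm))
  rw [Nat.cast_sum, Finset.sum_congr rfl (fun i _ => by rw [Nat.cast_pow, hx, one_pow])] at hs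
  simp only [Finset.sum_const, Finset.card_range, nsmul_eq_mul, mul_one] at hs
  rw [ZMod.natCast_eq_zero_iff] at hs
  exact hrk ((Nat.prime_dvd_prime_iff_eq hr.out hk).1 hs)

/-- For `n = 2` and `r ∣ q₀ + 1` the index is prime to `r`. -/
theorem two_case (hq : Fintype.card F = q) (F₀ : Subfield F) (hF₀ : Nat.card F₀ = q₀) (hqk : q = q₀ ^ 2)
    (hr2 : r ≠ 2) (hr0 : ¬ r ∣ q₀) (h : (q₀ : ZMod r) ^ 2 = 1) :
    ¬ r ∣ ((Cfsg.Geo.subfieldSubgroup F₀ 1).comap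
      (Matrix.SpecialLinearGroup.toGL : Matrix.SpecialLinearGroup (Fin 2) F →* GL (Fin 2) F)).index := by
  refine not_dvd_of_ratio hq F₀ hF₀ hqk one_le_two hr0 two_pos fun j hj2 hjn => ?_
  obtain rfl : j = 2 := by omega
  have h1 : 1 ≤ q₀ ^ 2 := Nat.one_le_iff_ne_zero.2 fun h => hr0 (by rw [(pow_eq_zero_iff'.1 h).1]; exact dvd_zero r)
  have hg := geom_add_one h1 2
  refine ⟨∑ i ∈ Finset.range 2, (q₀ ^ 2) ^ i, fun hdd => hr2 ?_, by rw [hqk]; omega⟩
  have h2 : (((∑ i ∈ Finset.range 2, (q₀ ^ 2) ^ i : ℕ)) : ZMod r) = ((2 : ℕ) : ZMod r) := by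
    simp only [Finset.sum_range_succ, Finset.range_zero, Finset.sum_empty, zero_add, Nat.cast_add, Nat.cast_pow, h,
      pow_zero, pow_one, Nat.cast_ofNat]
    norm_num
  rw [(ZMod.natCast_eq_zero_iff _ _).2 hdd] at h2
  exact (Nat.prime_dvd_prime_iff_eq hr.out Nat.prime_two).1 ((ZMod.natCast_eq_zero_iff _ _).1 h2.symm)

end CfsgLib.Classical22.SubfieldIndex
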