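/-
Elements of order `r` that are not conjugate into a subfield group.
-/
import Cfsg.Agent.Lib.Classical22.PrimeSubfieldDiag

set_option autoImplicit false

namespace CfsgLib.Classical22.SubfieldWitness

open Matrix CfsgLib.Classical22.SubfieldMember CfsgLib.Classical22.SubfieldEigen
open CfsgLib.Classical22.PrimeMaps

variable {F : Type*} [Field F] [Fintype F]

/-- An element of prime order outside all conjugates of the subfield group. -/
def Outside (F₀ : Subfield F) (n r : ℕ) : Prop :=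
  ∃ x : SpecialLinearGroup (Fin n) F,
    (∃ z : F, (x : Matrix (Fin n) (Fin n) F) ^ r = z • 1) ∧
      (∀ z : F, (x : Matrix (Fin n) (Fin n) F) ≠ z • 1) ∧ ¬ Into F₀ x

theorem small_support {p q q₀ n r c : ℕ} [Fact p.Prime] [CharP F p] [hr : Fact r.Prime] (hq : Fintype.card F = q)
    (hrp : r ≠ p) (F₀ : Subfield F) (h : Nat.card F₀ = q₀) (hc : orderOf (q : ZMod r) = c)
    (hc2 : 2 ≤ c) (hlt : c < orderOf (q₀ : ZMod r)) (hcn : c ≤ n) : Outside F₀ n r := by
  classical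
  have hrF : (r : F) ≠ 0 := natCast_ne_zero_of_ne hrp
  obtain ⟨A, hAr, hAd, hAs, -⟩ := exists_order_matrix (F := F) (n := c) (r := r) hrF
    (by rw [hq, hc]; exact hc2) (by rw [hq, hc])
  obtain ⟨m, rfl⟩ : ∃ m, n = c + m := ⟨n - c, by omega⟩
  obtain ⟨σ, hσ⟩ : ∃ σ : Fin c ⊕ Fin m ≃ Fin (c + m), σ = finSumFinEquiv := ⟨_, rfl⟩
  obtain ⟨B, hB⟩ : ∃ B : Matrix (Fin c ⊕ Fin m) (Fin c ⊕ Fin m) F, B = fromBlocks A 0 0 1 := ⟨_, rfl⟩
  obtain ⟨X, hX⟩ : ∃ X : Matrix (Fin (c + m)) (Fin (c + m)) F, X = reindexAlgEquiv F F σ B := ⟨_, rfl⟩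
  have hXr : X ^ r = 1 := by
    rw [hX, ← map_pow, hB, fromBlocks_diagonal_pow, hAr, one_pow, fromBlocks_one, map_one]
  have hXd : X.det = 1 := by
    rw [hX, reindexAlgEquiv_apply, det_reindex_self, hB, det_fromBlocks_zero₂₁, hAd, det_one, one_mul]
  have hXs : ∀ z : F, X ≠ z • 1 := fun z hz => hAs z <| by
    have h1 : B = z • 1 := by
      refine (reindexAlgEquiv F F σ).injective ?_
      rw [← hX, hz, map_smul, map_one]
    ext i j
    have := congrArg (fun N : Matrix (Fin c ⊕ Fin m) (Fin c ⊕ Fin m) F => N (.inl i) (.inl j)) h1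
    simpa [hB, Matrix.one_apply] using this
  have hrank : (X - 1).rank ≤ c := by
    have : X - 1 = (fromRows (A - 1) 0 * fromCols (1 : Matrix (Fin c) (Fin c) F) (0 : Matrix (Fin c) (Fin m) F)).submatrix σ.symm σ.symm := by
      rw [fromRows_mul_fromCols, Matrix.mul_one, Matrix.mul_zero, Matrix.zero_mul, Matrix.zero_mul, hX,
        reindexAlgEquiv_apply, reindex_apply, ← submatrix_one_equiv σ.symm, hB, ← fromBlocks_one]
      ext i j
      simp only [Matrix.sub_apply, submatrix_apply]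
      rcases σ.symm i with a | a <;> rcases σ.symm j with b | b <;> simp
    rw [this, rank_submatrix]
    exact (rank_mul_le_right _ _).trans ((rank_le_card_height _).trans_eq (Fintype.card_fin c))
  refine ⟨⟨X, hXd⟩, ⟨1, by rw [one_smul]; exact hXr⟩, hXs, ?_⟩
  rintro ⟨P, a, M, ha, hP⟩
  obtain ⟨w, hw, -⟩ := pow_relation F₀ (by omega) P ha hP (show X ^ r = (1 : F) • 1 by rw [one_smul, hXr])
  have hord : ∀ Q : ℕ, 1 ≤ Q → r ∣ Q - 1 → orderOf (Q : ZMod r) = 1 := fun Q hQ hd => by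
    rw [orderOf_eq_one_iff]
    rw [← ZMod.natCast_eq_zero_iff, Nat.cast_sub hQ, sub_eq_zero, Nat.cast_one] at hd
    exact hd
  have hb0 : ¬ r ∣ Nat.card F₀ - 1 := fun hd => by
    have := hord q₀ (h ▸ Nat.card_pos) (h ▸ hd)
    omega
  have hb : ¬ r ∣ Nat.card F - 1 := fun hd => by
    rw [Nat.card_eq_fintype_card, hq] at hd
    have := hord q (hq ▸ Fintype.card_pos) hd
    omega
  obtain ⟨b, hb'⟩ := (pow_bijective hr.out hb0).1 w
  have hab : (b : F) * a = 1 := (pow_bijective hr.out hb).2 (by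
    show ((b : F) * a) ^ r = (1 : F) ^ r
    rw [mul_pow, one_pow, ← hw, ← hb', SubmonoidClass.coe_pow])
  have hb_ne : (b : F) ≠ 0 := left_ne_zero_of_mul_eq_one hab
  obtain ⟨N, hN⟩ : ∃ N : Matrix (Fin (c + m)) (Fin (c + m)) F₀, a • M.map F₀.subtype = N.map F₀.subtype := by
    refine ⟨b⁻¹ • M, ?_⟩
    ext i j
    simp [eq_inv_of_mul_eq_one_right hab]
  rw [hN] at hP
  obtain ⟨w', hw', hN'⟩ := pow_relation F₀ (by omega) P one_ne_zero
    (show X * (P : Matrix (Fin (c + m)) (Fin (c + m)) F) = (P : Matrix (Fin (c + m)) (Fin (c + m)) F) *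
      ((1 : F) • N.map F₀.subtype) by rw [one_smul]; exact hP)
    (show X ^ r = (1 : F) • 1 by rw [one_smul, hXr])
  rw [one_pow, mul_one] at hw'
  rw [show w' = 1 from Subtype.ext hw', one_smul] at hN'
  have hPi : ((P⁻¹ : SpecialLinearGroup (Fin (c + m)) F) : Matrix (Fin (c + m)) (Fin (c + m)) F) *
      (P : Matrix (Fin (c + m)) (Fin (c + m)) F) = 1 := congrArg Subtype.val (inv_mul_cancel P)
  have hrk : (N - 1).rank ≤ c := by
    rw [← BlockArith.rank_map_field F₀.subtype (N - 1)]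
    have e1 : (N - 1).map F₀.subtype = ((P⁻¹ : SpecialLinearGroup (Fin (c + m)) F) : Matrix (Fin (c + m)) (Fin (c + m)) F) *
        ((X - 1) * (P : Matrix (Fin (c + m)) (Fin (c + m)) F)) := by
      have hm : (N - 1).map F₀.subtype = N.map F₀.subtype - 1 := by
        rw [Matrix.map_sub _ (map_sub _), Matrix.map_one _ (map_zero _) (map_one _)]
      rw [hm, Matrix.sub_mul, Matrix.one_mul, hP, Matrix.mul_sub, hPi, ← Matrix.mul_assoc, hPi, Matrix.one_mul]
    rw [e1]
    exact ((rank_mul_le_right _ _).trans (rank_mul_le_left _ _)).trans hrank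
  letI := Fintype.ofFinite F₀
  haveI : CharP F₀ p := (F₀.subtype.charP_iff F₀.subtype.injective p).2 inferInstance
  have hf : ∀ v, (Matrix.toLin' N ^ r) v = v := fun v => by
    rw [← Matrix.toLin'_pow, hN', Matrix.toLin'_one, LinearMap.id_apply]
  obtain ⟨hdvd, -⟩ := order_spec (natCast_ne_zero_of_ne (F := F₀) hrp) hf (X := ⊤) fun v _ => trivial
  rw [top_inf_eq, finrank_top, ← Nat.card_eq_fintype_card, h,
    ← LinearMap.finrank_range_add_finrank_ker (Matrix.toLin' N - 1), fixed, Nat.add_sub_cancel_right] at hdvd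
  have hrge : Module.finrank F₀ (LinearMap.range (Matrix.toLin' N - 1)) = (N - 1).rank := by
    rw [show Matrix.toLin' N - 1 = Matrix.toLin' (N - 1) by rw [map_sub, Matrix.toLin'_one]; rfl]
    rfl
  rw [hrge] at hdvd
  have h0 : (N - 1).rank = 0 := Nat.eq_zero_of_dvd_of_lt hdvd (by omega)
  have hN1 : N = 1 := by
    have hr0 : LinearMap.range (Matrix.toLin' N - 1) = ⊥ := Submodule.finrank_eq_zero.1 (hrge.trans h0)
    rw [LinearMap.range_eq_bot, sub_eq_zero] at hr0
    exact Matrix.toLin'.injective (hr0.trans Matrix.toLin'_one.symm)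
  refine hXs 1 ?_
  rw [hN1, Matrix.map_one _ (map_zero _) (map_one _), Matrix.mul_one] at hP
  have hPP : (P : Matrix (Fin (c + m)) (Fin (c + m)) F) *
      ((P⁻¹ : SpecialLinearGroup (Fin (c + m)) F) : Matrix (Fin (c + m)) (Fin (c + m)) F) = 1 :=
    congrArg Subtype.val (mul_inv_cancel P)
  rw [one_smul, ← Matrix.mul_one X, ← hPP, ← Matrix.mul_assoc]
  exact congrArg (· * _) hP

theorem nonpower {p q q₀ n r : ℕ} [Fact p.Prime] [CharP F p] [hr : Fact r.Prime] (hq : Fintype.card F = q)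
    (hrp : r ≠ p) (F₀ : Subfield F) (h : Nat.card F₀ = q₀) (hrq : r ∣ q - 1) (hr0 : ¬ r ∣ q₀ - 1) (hn : 0 < n)
    (hv : ¬ padicValNat r n ≤ padicValNat r (q - 1)) : Outside F₀ n r := by
  obtain ⟨A, c, hd, hA, hc⟩ := (nonpower_det_cond hq hrp hrq hn).2 fun hh => hv hh.1
  refine ⟨⟨A, hd⟩, ⟨c, hA⟩, fun z hz => hc z ?_, ?_⟩
  · have h1 : A ^ r = z ^ r • (1 : Matrix (Fin n) (Fin n) F) := by
      rw [show A = z • 1 from hz, smul_pow, one_pow]
    rw [hA] at h1
    simpa using congrArg (fun N : Matrix (Fin n) (Fin n) F => N ⟨0, hn⟩ ⟨0, hn⟩) h1.symm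
  · rintro ⟨P, a, M, ha, hP⟩
    obtain ⟨w, hw, -⟩ := pow_relation F₀ hn P ha hP hA
    obtain ⟨b, hb⟩ := (pow_bijective hr.out (h.symm ▸ hr0)).1 w
    exact hc ((b : F) * a) (by rw [mul_pow, ← hw, ← hb, SubmonoidClass.coe_pow])

theorem power_root {r n : ℕ} [hr : Fact r.Prime] (hn : n ≠ 0)
    (hv : padicValNat r n < padicValNat r (Fintype.card F - 1)) {y : F} (hy : y ^ r = 1) : ∃ b : F, b ^ n = y := by
  have key : ∀ i ≤ padicValNat r n, ∃ b : F, b ^ r ^ i = y := by
    intro i hi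
    induction i with
    | zero => exact ⟨y, by rw [pow_zero, pow_one]⟩
    | succ i ih =>
      obtain ⟨b, hb⟩ := ih (by omega)
      obtain ⟨b', hb'⟩ := power_of_root (r := r) (l := r ^ (i + 1)) (pow_ne_zero _ hr.out.ne_zero)
        (by rw [padicValNat.prime_pow]; omega) (c := b) (by rw [pow_succ, pow_mul, hb, hy])
      exact ⟨b', by rw [pow_succ', pow_mul, hb', hb]⟩
  obtain ⟨u, hu⟩ := pow_padicValNat_dvd (p := r) (n := n)
  have hru : ¬ r ∣ u := fun hd => pow_succ_padicValNat_not_dvd hn (p := r) (by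
    rw [pow_succ]
    conv_rhs => rw [hu]
    exact mul_dvd_mul_left _ hd)
  obtain ⟨j, hj⟩ : ∃ j : ℕ, u * j ≡ 1 [MOD r] := by
    refine ⟨((u : ZMod r)⁻¹).val, (ZMod.natCast_eq_natCast_iff _ _ _).1 ?_⟩
    rw [Nat.cast_mul, ZMod.natCast_zmod_val, Nat.cast_one,
      mul_inv_cancel₀ (fun h0 => hru ((ZMod.natCast_eq_zero_iff _ _).1 h0))]
  obtain ⟨b, hb⟩ := key _ le_rfl
  refine ⟨b ^ j, ?_⟩
  rw [hu, ← pow_mul, show j * (r ^ padicValNat r n * u) = r ^ padicValNat r n * (u * j) by ring, pow_mul, hb,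
    ← Nat.div_add_mod (u * j) r, hj, Nat.one_mod_eq_one.2 hr.out.ne_one, pow_add, pow_mul, hy, one_pow, one_mul,
    pow_one]

/-- The diagonal witness attached to an exponent vector. -/
theorem of_exponents {p q₀ n r : ℕ} [Fact p.Prime] [CharP F p] [hr : Fact r.Prime] (F₀ : Subfield F)
    (h : Nat.card F₀ = q₀) {χ : AddChar (ZMod r) F} (hχ : Function.Injective χ) (hn : 0 < n) (e : Fin n → ZMod r)
    {s : F} (hs : s ^ n * χ (∑ i, e i) = 1) (hne : ∃ i j, e i ≠ e j)
    (hno : ∀ (π : Fin n ≃ Fin n) (d : ZMod r), (∀ i, e (π i) = (q₀ : ZMod r) * e i + d) → False) :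
    Outside F₀ n r := by
  have hs0 : s ≠ 0 := fun h0 => by rw [h0, zero_pow hn.ne', zero_mul] at hs; exact zero_ne_one hs
  have hd : (diagonal fun i => s * χ (e i)).det = 1 := by
    rw [det_diagonal, Finset.prod_mul_distrib, Finset.prod_const, Finset.card_univ, Fintype.card_fin,
      ← char_sum, hs]
  refine ⟨⟨_, hd⟩, ⟨s ^ r, ?_⟩, fun z hz => ?_, fun hin => ?_⟩
  · show (diagonal fun i => s * χ (e i)) ^ r = _
    rw [diagonal_pow, smul_one_eq_diagonal]
    congr 1
    funext i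
    rw [Pi.pow_apply, mul_pow, char_pow_self, mul_one]
  · obtain ⟨i, j, hij⟩ := hne
    have e1 : ∀ i, s * χ (e i) = z := fun i => by
      simpa using congrArg (fun N : Matrix (Fin n) (Fin n) F => N i i)
        (show (diagonal fun i => s * χ (e i)) = z • (1 : Matrix (Fin n) (Fin n) F) from hz)
    exact hij (hχ (mul_left_cancel₀ hs0 ((e1 i).trans (e1 j).symm)))
  · obtain ⟨π, d, hπ⟩ := exponents_affine (p := p) F₀ h hχ hn _ hs0 e rfl hin
    exact hno π d hπ

end CfsgLib.Classical22.SubfieldWitness
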