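/-
Exponent vectors with no affine symmetry, and the negative direction.
-/
import Cfsg.Agent.Lib.Classical22.PrimeSubfieldWitness
import Cfsg.Agent.Lib.Classical22.PrimeSubfieldIndex

set_option autoImplicit false

namespace CfsgLib.Classical22.SubfieldExponents

variable {r : ℕ} [hr : Fact r.Prime]

theorem natCast_ne_zero_lt {j : ℕ} (hj : j < r) (hj0 : j ≠ 0) : (j : ZMod r) ≠ 0 := fun h =>
  hj0 (Nat.eq_zero_of_dvd_of_lt ((ZMod.natCast_eq_zero_iff _ _).1 h) hj)

/-- `0,…,0,1,-1`. -/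
theorem high_order {m : ZMod r} (hm : m ≠ 0) (hm1 : m ≠ 1) (hm2 : m ≠ -1) (h2 : r ≠ 2) (l : ℕ)
    (hl : 2 ≤ l ∨ ¬ r ∣ l + 2) (e : Fin (l + 2) → ZMod r) (he : e = Fin.cons 1 (Fin.cons (-1) fun _ => 0))
    (π : Fin (l + 2) ≃ Fin (l + 2)) (d : ZMod r) (hπ : ∀ i, e (π i) = m * e i + d) : False := by
  have hone : e 0 = 1 := by rw [he]; rfl
  have hval : ∀ i, e i = 0 ∨ e i = 1 ∨ e i = -1 := fun i => by
    refine Fin.cases ?_ (fun j => ?_) i
    · exact Or.inr (Or.inl hone)
    · rw [he, Fin.cons_succ]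
      refine Fin.cases ?_ (fun k => ?_) j
      · exact Or.inr (Or.inr rfl)
      · exact Or.inl (by rw [Fin.cons_succ])
  have hd : d = 0 := by
    rcases hl with hl | hl
    · by_contra hd
      have hzero : ∀ j : Fin l, e j.succ.succ = 0 := fun j => by rw [he, Fin.cons_succ, Fin.cons_succ]
      have hlow : ∀ j : Fin l, π j.succ.succ = 0 ∨ π j.succ.succ = (0 : Fin (l + 1)).succ := fun j => by
        by_contra hh
        refine hd ?_
        have h1 := hπ j.succ.succ
        rw [hzero, mul_zero, zero_add] at h1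
        obtain ⟨a, ha⟩ : ∃ a : Fin (l + 1), π j.succ.succ = a.succ :=
          ⟨_, (Fin.succ_pred _ fun h => hh (Or.inl h)).symm⟩
        obtain ⟨b, hb⟩ : ∃ b : Fin l, a = b.succ :=
          ⟨_, (Fin.succ_pred _ fun h => hh (Or.inr (by rw [ha, h]))).symm⟩
        rw [← h1, ha, hb, hzero]
      have key : ∀ i j : Fin l, π i.succ.succ = 0 → π j.succ.succ = (0 : Fin (l + 1)).succ → False := fun i j hi hj => by
        have h1 := hπ i.succ.succ
        have h2' := hπ j.succ.succ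
        rw [hzero, mul_zero, zero_add, hi, hone] at h1
        rw [hzero, mul_zero, zero_add, hj, he, Fin.cons_succ, Fin.cons_zero] at h2'
        have h3 : ((2 : ℕ) : ZMod r) = 0 := by
          push_cast
          linear_combination h1 - h2'
        exact h2 ((Nat.prime_dvd_prime_iff_eq hr.out Nat.prime_two).1 ((ZMod.natCast_eq_zero_iff _ _).1 h3))
      have hne : (⟨0, by omega⟩ : Fin l).succ.succ ≠ (⟨1, by omega⟩ : Fin l).succ.succ := fun h => by
        simp [Fin.ext_iff] at h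
      rcases hlow ⟨0, by omega⟩ with h0 | h0 <;> rcases hlow ⟨1, by omega⟩ with h1 | h1
      · exact hne (π.injective (h0.trans h1.symm))
      · exact key _ _ h0 h1
      · exact key _ _ h1 h0
      · exact hne (π.injective (h0.trans h1.symm))
    · have hs := Finset.sum_congr rfl (fun i (_ : i ∈ Finset.univ) => hπ i)
      rw [Equiv.sum_comp π e, Finset.sum_add_distrib, ← Finset.mul_sum, Finset.sum_const, Finset.card_univ,
        Fintype.card_fin, nsmul_eq_mul] at hs
      have h0 : ∑ i, e i = 0 := by rw [he, Fin.sum_cons, Fin.sum_cons]; simp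
      rw [h0, mul_zero, zero_add] at hs
      exact (mul_eq_zero.1 hs.symm).resolve_left fun h => hl ((ZMod.natCast_eq_zero_iff _ _).1 h)
  have h1 := hπ 0
  rw [hone, hd, add_zero, mul_one] at h1
  rcases hval (π 0) with h | h | h <;> rw [h] at h1
  exacts [hm h1.symm, hm1 h1.symm, hm2 h1.symm]

/-- `1-n,1,…,1` for `r ∤ n`. -/
theorem two_coprime (h2 : r ≠ 2) (l : ℕ) (hl : 2 ≤ l) (hrn : ¬ r ∣ l + 1) (e : Fin (l + 1) → ZMod r)
    (he : e = Fin.cons (-(l : ZMod r)) fun _ => 1) (π : Fin (l + 1) ≃ Fin (l + 1)) (d : ZMod r)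
    (hπ : ∀ i, e (π i) = -1 * e i + d) : False := by
  have hone : ∀ j : Fin l, e j.succ = 1 := fun j => by rw [he, Fin.cons_succ]
  obtain ⟨j, hj⟩ : ∃ j : Fin l, π j.succ ≠ 0 := by
    by_contra hh
    push Not at hh
    have := π.injective ((hh ⟨0, by omega⟩).trans (hh ⟨1, by omega⟩).symm)
    simp [Fin.ext_iff] at this
  have h1 := hπ j.succ
  rw [← Fin.succ_pred _ hj, hone, hone, mul_one] at h1
  have h0 := hπ 0
  have hl0 : ((l + 1 : ℕ) : ZMod r) ≠ 0 := fun h => hrn ((ZMod.natCast_eq_zero_iff _ _).1 h)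
  have hz : e 0 = -(l : ZMod r) := by rw [he]; rfl
  rw [hz] at h0
  rcases eq_or_ne (π 0) 0 with h | h
  · rw [h, hz] at h0
    have h3 : (2 : ZMod r) * ((l + 1 : ℕ) : ZMod r) = 0 := by
      push_cast
      linear_combination h1 - h0
    refine hl0 ((mul_eq_zero.1 h3).resolve_left ?_)
    intro h20
    exact h2 ((Nat.prime_dvd_prime_iff_eq hr.out Nat.prime_two).1 ((ZMod.natCast_eq_zero_iff _ _).1 (by simpa using h20)))
  · rw [← Fin.succ_pred _ h, hone] at h0
    refine hl0 ?_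
    push_cast
    linear_combination h1 - h0

/-- `1,0,…,0`. -/
theorem two_single (h2 : r ≠ 2) (l : ℕ) (hl : 2 ≤ l) (e : Fin (l + 1) → ZMod r) (he : e = Fin.cons 1 fun _ => 0)
    (π : Fin (l + 1) ≃ Fin (l + 1)) (d : ZMod r) (hπ : ∀ i, e (π i) = -1 * e i + d) : False := by
  have hz : ∀ j : Fin l, e j.succ = 0 := fun j => by rw [he, Fin.cons_succ]
  obtain ⟨j, hj⟩ : ∃ j : Fin l, π j.succ ≠ 0 := by
    by_contra hh
    push Not at hh
    have := π.injective ((hh ⟨0, by omega⟩).trans (hh ⟨1, by omega⟩).symm)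
    simp [Fin.ext_iff] at this
  have h1 := hπ j.succ
  rw [← Fin.succ_pred _ hj, hz, hz, mul_zero, zero_add] at h1
  have h0 := hπ 0
  rw [show e 0 = 1 by rw [he]; rfl, ← h1, add_zero, mul_one] at h0
  rcases eq_or_ne (π 0) 0 with h | h
  · rw [h, show e 0 = 1 by rw [he]; rfl] at h0
    refine natCast_ne_zero_lt (r := r) (j := 2) (by have := hr.out.two_le; omega) two_ne_zero ?_
    push_cast
    linear_combination h0
  · rw [← Fin.succ_pred _ h, hz] at h0
    exact one_ne_zero (by linear_combination h0 : (1 : ZMod r) = 0)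

/-- `1,1,-2,0,…,0`. -/
theorem two_triple (h2 : r ≠ 2) (l : ℕ) (hl : 3 ≤ l) (h63 : ¬ (l = 3 ∧ r = 3)) (e : Fin (l + 3) → ZMod r)
    (he : e = Fin.cons 1 (Fin.cons 1 (Fin.cons (-2) fun _ => 0)))
    (π : Fin (l + 3) ≃ Fin (l + 3)) (d : ZMod r) (hπ : ∀ i, e (π i) = -1 * e i + d) : False := by
  classical
  have e0 : e 0 = 1 := by rw [he]; rfl
  have e1 : e ⟨1, by omega⟩ = 1 := by rw [he]; rfl
  have e2 : e ⟨2, by omega⟩ = -2 := by rw [he]; rfl
  have hz : ∀ i : Fin (l + 3), 3 ≤ (i : ℕ) → e i = 0 := fun i hi => by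
    obtain ⟨b, rfl⟩ : ∃ b : Fin l, i = b.succ.succ.succ := ⟨⟨i - 3, by omega⟩, Fin.ext (by simp; omega)⟩
    rw [he, Fin.cons_succ, Fin.cons_succ, Fin.cons_succ]
  have two0 : (2 : ZMod r) ≠ 0 := fun h => h2 ((Nat.prime_dvd_prime_iff_eq hr.out Nat.prime_two).1
    ((ZMod.natCast_eq_zero_iff _ _).1 (by simpa using h)))
  have hd : d = 0 := by
    by_contra hd
    have hlow : ∀ i : Fin (l + 3), 3 ≤ (i : ℕ) → ((π i : Fin (l + 3)) : ℕ) < 3 := fun i hi => by
      by_contra hh
      have h := hπ i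
      rw [hz i hi, hz (π i) (by omega), mul_zero, zero_add] at h
      exact hd h.symm
    have hcard : l ≤ 3 := by
      have h := Fintype.card_le_of_injective
        (fun b : Fin l => (⟨(π b.succ.succ.succ : Fin (l + 3)), hlow _ (by simp)⟩ : Fin 3))
        (fun a b h => by
          simpa using π.injective (Fin.ext (by simpa using congrArg Fin.val h) : π a.succ.succ.succ = π b.succ.succ.succ))
      simpa using h
    obtain rfl : l = 3 := by omega
    refine h63 ⟨rfl, ?_⟩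
    have hall : ∀ v : Fin 3, ∃ i : Fin (3 + 3), 3 ≤ (i : ℕ) ∧ ((π i : Fin (3 + 3)) : ℕ) = v := by
      intro v
      have hinj : Function.Injective
          (fun b : Fin 3 => (⟨(π b.succ.succ.succ : Fin (3 + 3)), hlow _ (by simp)⟩ : Fin 3)) :=
        fun a b h => by
          simpa using π.injective (Fin.ext (by simpa using congrArg Fin.val h) : π a.succ.succ.succ = π b.succ.succ.succ)
      obtain ⟨b, hb⟩ := (Finite.injective_iff_surjective.1 hinj) v
      exact ⟨b.succ.succ.succ, by simp, congrArg Fin.val hb⟩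
    have hv : ∀ v : Fin (3 + 3), (v : ℕ) < 3 → e v = d := fun v hv => by
      obtain ⟨i, hi, hvi⟩ := hall ⟨v, hv⟩
      have h := hπ i
      rw [hz i hi, mul_zero, zero_add, show π i = v from Fin.ext hvi] at h
      exact h
    have ha := hv 0 (by simp)
    have hb := hv ⟨2, by omega⟩ (by simp)
    rw [e0] at ha
    rw [e2] at hb
    refine (Nat.prime_dvd_prime_iff_eq hr.out Nat.prime_three).1 ((ZMod.natCast_eq_zero_iff _ _).1 ?_)
    push_cast
    linear_combination ha - hb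
  have h := hπ 0
  rw [e0, hd, add_zero, mul_one] at h
  by_cases hh : 3 ≤ ((π 0 : Fin (l + 3)) : ℕ)
  · rw [hz _ hh] at h
    exact one_ne_zero (by linear_combination h : (1 : ZMod r) = 0)
  · rcases (show ((π 0 : Fin (l + 3)) : ℕ) = 0 ∨ ((π 0 : Fin (l + 3)) : ℕ) = 1 ∨ ((π 0 : Fin (l + 3)) : ℕ) = 2 by omega) with
      hc | hc | hc
    · rw [show π 0 = 0 from Fin.ext hc, e0] at h
      exact two0 (by linear_combination h)
    · rw [show π 0 = ⟨1, by omega⟩ from Fin.ext hc, e1] at h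
      exact two0 (by linear_combination h)
    · rw [show π 0 = ⟨2, by omega⟩ from Fin.ext hc, e2] at h
      exact one_ne_zero (by linear_combination -h : (1 : ZMod r) = 0)

end CfsgLib.Classical22.SubfieldExponents

namespace CfsgLib.Classical22.SubfieldWitness

open SubfieldMember SubfieldEigen SubfieldExponents

/-- The negative direction. -/
theorem exists_outside {F : Type*} [Field F] [Fintype F] {p q q₀ n k r : ℕ} [Fact p.Prime] [CharP F p]
    [hr : Fact r.Prime] (hq : Fintype.card F = q) (F₀ : Subfield F) (hk : k.Prime) (h : Nat.card F₀ = q₀)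
    (hqk : q = q₀ ^ k) (hn : 2 ≤ n) (hr2 : r ≠ 2) (hrp : r ≠ p) (hgap : ¬ (n = 6 ∧ r = 3))
    (hd : r ∣ ((Cfsg.Geo.subfieldSubgroup F₀ 1).comap (Matrix.SpecialLinearGroup.toGL :
      Matrix.SpecialLinearGroup (Fin n) F →* GL (Fin n) F)).index)
    (hrk : r ≠ k) (hex : ¬ (k = 2 ∧ r = n ∧ (n = 3 ∨ n = 5) ∧ padicValNat r (q₀ + 1) = 1)) :
    Outside F₀ n r := by
  obtain ⟨j, hj, -⟩ := exists_frob (p := p) F₀ h
  have hr0 : ¬ r ∣ q₀ := by
    rw [hj]
    exact fun hdd => hrp ((Nat.prime_dvd_prime_iff_eq hr.out Fact.out).1 (hr.out.dvd_of_dvd_pow hdd))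
  have hq0 : (q₀ : ZMod r) ≠ 0 := fun hh => hr0 ((ZMod.natCast_eq_zero_iff _ _).1 hh)
  have hqz : (q : ZMod r) ≠ 0 := by rw [hqk, Nat.cast_pow]; exact pow_ne_zero _ hq0
  have hpos : 1 ≤ q₀ := h ▸ Nat.card_pos
  have hqpos : 1 < q := hq ▸ Fintype.one_lt_card
  have hdvd := SubfieldIndex.dvd_order hq F₀ h hqk hk hrk hr0 (by omega) hd
  obtain ⟨c0, hc0⟩ : ∃ c0, c0 = orderOf (q₀ : ZMod r) := ⟨_, rfl⟩
  rw [← hc0] at hdvd
  obtain ⟨c, rfl⟩ := hdvd
  have hfin : 0 < orderOf (q₀ : ZMod r) := Nat.pos_of_ne_zero fun h0 =>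
    orderOf_eq_zero_iff'.1 h0 (r - 1) (by have := hr.out.two_le; omega) (ZMod.pow_card_sub_one_eq_one hq0)
  have hc : orderOf (q : ZMod r) = c := by
    rw [hqk, Nat.cast_pow, orderOf_pow' _ hk.ne_zero, ← hc0, Nat.gcd_mul_right_left, Nat.mul_div_cancel_left _ hk.pos]
  have hcn : c ≤ n := by
    by_contra hh
    exact SubfieldIndex.not_dvd_of_small hq hqz (by rw [hc]; omega) _ hd
  have hc1 : 1 ≤ c := by
    rcases Nat.eq_zero_or_pos c with rfl | hh
    · rw [← hc0, mul_zero] at hfin; omega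
    · exact hh
  rcases Nat.lt_or_ge 1 c with hc2 | hc2
  · exact small_support hq hrp F₀ h hc hc2 (by rw [← hc0]; exact (lt_mul_iff_one_lt_left hc1).2 hk.one_lt) hcn
  obtain rfl : c = 1 := by omega
  rw [mul_one] at hc0
  have hrq : r ∣ q - 1 := by
    rw [← ZMod.natCast_eq_zero_iff, Nat.cast_sub hqpos.le, sub_eq_zero, Nat.cast_one]
    exact orderOf_eq_one_iff.1 hc
  have hm1 : (q₀ : ZMod r) ≠ 1 := fun hh => hk.ne_one (by rw [hc0, hh, orderOf_one])
  have hr01 : ¬ r ∣ q₀ - 1 := fun hh => hm1 (by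
    rw [← ZMod.natCast_eq_zero_iff, Nat.cast_sub hpos, sub_eq_zero, Nat.cast_one] at hh
    exact hh)
  by_cases hv : padicValNat r n ≤ padicValNat r (q - 1)
  swap
  · exact nonpower hq hrp F₀ h hrq hr01 (by omega) hv
  obtain ⟨χ, hχ, -⟩ := exists_char (F := F) (r := r) (by rwa [hq])
  obtain ⟨l, rfl⟩ : ∃ l, n = l + 2 := ⟨n - 2, by omega⟩
  have hkr : k ≤ r - 1 := hc0 ▸ Nat.le_of_dvd (by have := hr.out.two_le; omega)
    (orderOf_dvd_of_pow_eq_one (ZMod.pow_card_sub_one_eq_one hq0))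
  have two0 : (2 : ZMod r) ≠ 0 := fun hh => hr2 ((Nat.prime_dvd_prime_iff_eq hr.out Nat.prime_two).1
    ((ZMod.natCast_eq_zero_iff _ _).1 (by simpa using hh)))
  by_cases hk2 : k = 2
  swap
  · refine of_exponents (p := p) (s := 1) F₀ h hχ (by omega) (Fin.cons 1 (Fin.cons (-1) fun _ => 0)) ?_ ?_ ?_
    · rw [one_pow, one_mul, Fin.sum_cons, Fin.sum_cons]
      simp
    · refine ⟨0, (0 : Fin (l + 1)).succ, ?_⟩
      rw [Fin.cons_zero, Fin.cons_succ, Fin.cons_zero]
      exact fun hh => two0 (by linear_combination hh)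
    · refine fun π d => high_order hq0 hm1 (fun hh => hk2 ?_) hr2 l ?_ _ rfl π d
      · have h2 : (q₀ : ZMod r) ^ 2 = 1 := by rw [hh, neg_one_sq]
        exact (Nat.prime_dvd_prime_iff_eq hk Nat.prime_two).1 (hc0 ▸ orderOf_dvd_of_pow_eq_one h2)
      · rcases Nat.lt_or_ge l 2 with hl | hl
        · have := hk.two_le
          refine Or.inr fun hh => ?_
          have := Nat.le_of_dvd (by omega) hh
          omega
        · exact Or.inl hl
  subst hk2
  have hsq : (q₀ : ZMod r) ^ 2 = 1 := hc0 ▸ pow_orderOf_eq_one _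
  have hm : (q₀ : ZMod r) = -1 := ((mul_self_eq_one_iff).1 (by rw [← pow_two, hsq])).resolve_left hm1
  rcases Nat.eq_zero_or_pos l with rfl | hl
  · exact absurd hd (SubfieldIndex.two_case hq F₀ h hqk hr2 hr0 hsq)
  by_cases hrn : r ∣ l + 2
  swap
  · refine of_exponents (p := p) (s := 1) F₀ h hχ (by omega) (Fin.cons (-((l + 1 : ℕ) : ZMod r)) fun _ => 1) ?_ ?_ ?_
    · rw [one_pow, one_mul, Fin.sum_cons]
      simp
    · refine ⟨0, (0 : Fin (l + 1)).succ, ?_⟩
      rw [Fin.cons_zero, Fin.cons_succ]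
      refine fun hh => hrn ((ZMod.natCast_eq_zero_iff _ _).1 ?_)
      push_cast at hh ⊢
      linear_combination -hh
    · rw [hm]
      exact fun π d => two_coprime hr2 (l + 1) (by omega) hrn _ rfl π d
  by_cases hv' : padicValNat r (l + 2) < padicValNat r (q - 1)
  · obtain ⟨s, hs⟩ := power_root (F := F) (r := r) (n := l + 2) (by omega) (by rwa [hq]) (char_pow_self χ (-1))
    refine of_exponents (p := p) (s := s) F₀ h hχ (by omega) (Fin.cons 1 fun _ => 0) ?_ ?_ ?_
    · rw [hs, Fin.sum_cons]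
      simp [← AddChar.map_add_eq_mul]
    · refine ⟨0, (0 : Fin (l + 1)).succ, ?_⟩
      rw [Fin.cons_zero, Fin.cons_succ]
      exact one_ne_zero
    · rw [hm]
      exact fun π d => two_single hr2 (l + 1) (by omega) _ rfl π d
  have hl6 : 4 ≤ l := by
    by_contra hh
    have hrl := Nat.le_of_dvd (by omega) hrn
    have hr3 : 3 ≤ r := by have := hr.out.two_le; omega
    have hrne : r = l + 2 := by
      obtain ⟨t, ht⟩ := hrn
      rcases Nat.lt_or_ge t 2 with ht2 | ht2
      · interval_cases t <;> omega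
      · have := Nat.mul_le_mul hr3 ht2
        omega
    have hq1 : q - 1 = (q₀ + 1) * (q₀ - 1) := by
      rw [hqk, show 1 = 1 ^ 2 from rfl, Nat.sq_sub_sq, one_pow]
    refine hex ⟨rfl, hrne, ?_, ?_⟩
    · rcases (show l = 1 ∨ l = 2 ∨ l = 3 by omega) with rfl | rfl | rfl
      · exact Or.inl rfl
      · subst hrne; exact absurd hr.out (by norm_num)
      · exact Or.inr rfl
    · have e1 : padicValNat r (q - 1) = padicValNat r (q₀ + 1) := by
        rw [hq1, padicValNat.mul (a := q₀ + 1) (b := q₀ - 1) (by omega)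
          (fun h0 => hr01 (by rw [h0]; exact dvd_zero r)), padicValNat.eq_zero_of_not_dvd hr01, add_zero]
      have e2 : padicValNat r (l + 2) = 1 := by rw [← hrne, padicValNat_self]
      omega
  obtain ⟨m, rfl⟩ : ∃ m, l = m + 1 := ⟨l - 1, by omega⟩
  refine of_exponents (p := p) (s := 1) F₀ h hχ (n := m + 3) (by omega)
    (Fin.cons 1 (Fin.cons 1 (Fin.cons (-2) fun _ => 0))) ?_ ?_ ?_
  · rw [one_pow, one_mul, Fin.sum_cons, Fin.sum_cons, Fin.sum_cons]
    rw [Finset.sum_const_zero, show (1 : ZMod r) + (1 + (-2 + 0)) = 0 by ring, AddChar.map_zero_eq_one]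
  · refine ⟨0, ⟨3, by omega⟩, ?_⟩
    rw [show (⟨3, by omega⟩ : Fin (m + 3)) = (⟨0, by omega⟩ : Fin m).succ.succ.succ from rfl, Fin.cons_zero,
      Fin.cons_succ, Fin.cons_succ, Fin.cons_succ]
    exact one_ne_zero
  · rw [hm]
    exact fun π d => two_triple hr2 m (by omega) (fun hh => hgap ⟨by omega, hh.2⟩) _ rfl π d

end CfsgLib.Classical22.SubfieldWitness
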