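/-
When every element of order `r` lies in a subfield group up to conjugation.
-/
import Cfsg.Agent.Lib.Classical22.PrimeSubfieldDiag

set_option autoImplicit false

namespace CfsgLib.Classical22.SubfieldPositive

open Matrix CfsgLib.Classical22.SubfieldMember CfsgLib.Classical22.SubfieldEigen
open CfsgLib.Classical22.PrimeMaps

variable {F : Type*} [Field F] [Fintype F]

theorem exists_root {p q n r : ℕ} [Fact p.Prime] [CharP F p] [hr : Fact r.Prime] (hq : Fintype.card F = q)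
    (hr2 : r ≠ 2) (hrp : r ≠ p) (hn : 0 < n)
    (hv : r ∣ q - 1 → padicValNat r n ≤ padicValNat r (q - 1)) (x : SpecialLinearGroup (Fin n) F) {z : F}
    (hx : (x : Matrix (Fin n) (Fin n) F) ^ r = z • 1) : ∃ s : F, s ^ r = z := by
  by_cases hrq : r ∣ q - 1
  · by_contra h
    exact (nonpower_det_cond hq hrp hrq hn).1
      ⟨(x : Matrix (Fin n) (Fin n) F), z, x.2, hx, fun b hb => h ⟨b, hb⟩⟩ ⟨hv hrq, fun h2 => absurd h2 hr2⟩
  · exact (pow_bijective hr.out (by rwa [Nat.card_eq_fintype_card, hq])).1 z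

/-- The case `r = k`. -/
theorem same_prime {p q q₀ n r : ℕ} [Fact p.Prime] [CharP F p] [hr : Fact r.Prime] (hq : Fintype.card F = q)
    (F₀ : Subfield F) (h : Nat.card F₀ = q₀) (hqk : q = q₀ ^ r) (hr2 : r ≠ 2) (hrp : r ≠ p) (hn : 0 < n)
    (hgap : r ∣ q₀ - 1 → padicValNat r n ≤ padicValNat r (q - 1)) (x : SpecialLinearGroup (Fin n) F) {z : F}
    (hx : (x : Matrix (Fin n) (Fin n) F) ^ r = z • 1) : Into F₀ x := by
  have hmod : q ≡ q₀ [MOD r] := by
    rw [← ZMod.natCast_eq_natCast_iff, hqk, Nat.cast_pow, ZMod.pow_card]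
  have hpos : 1 ≤ q₀ := h ▸ Nat.card_pos
  have hpos' : 1 ≤ q := hq ▸ Fintype.card_pos
  obtain ⟨s, hs⟩ := exists_root hq hr2 hrp hn (fun hd => hgap (by
    rw [← Nat.modEq_iff_dvd' hpos]
    exact ((Nat.modEq_iff_dvd' hpos').2 hd).trans hmod)) x hx
  have hrF : (r : F) ≠ 0 := natCast_ne_zero_of_ne hrp
  have hs0 : s ≠ 0 := fun h0 => scalar_ne_zero hn x hx (by rw [← hs, h0, zero_pow hr.out.ne_zero])
  have hA : (s⁻¹ • (x : Matrix (Fin n) (Fin n) F)) ^ r = (1 : F) • 1 := by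
    rw [smul_pow, hx, smul_smul, ← hs, ← mul_pow, inv_mul_cancel₀ hs0, one_pow]
  obtain ⟨Q, M, hQ⟩ := SubfieldDescent.exists_rational_matrix F₀ hr.out.pos hrF one_ne_zero hA
    fun P hP hm hd => rational_factor hq F₀ h hmod hP hm (by rwa [map_one] at hd)
  refine into_of_conj F₀ hn hr.out.pos hrF x hx hs0 Q (M := M) ?_
  rw [Matrix.mul_smul, ← hQ, smul_mul_assoc, smul_smul, mul_inv_cancel₀ hs0, one_smul]

theorem rat_symm_three (F₀ : Subfield F) {u : F} (hu : u ≠ 0) (hs : u + u⁻¹ ∈ F₀) (h1 : u = u⁻¹ → u = 1) :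
    RatConj F₀ (diagonal ![1, u, u⁻¹]) := by
  have h := rat_reindex F₀ (finSumFinEquiv (m := 1) (n := 2)).symm
    (rat_sum F₀ (f := fun _ : Fin 1 => (1 : F)) (g := ![u, u⁻¹]) (by rw [diagonal_one]; exact rat_one F₀)
      (rat_pair F₀ hu hs h1))
  convert h using 2
  funext i
  fin_cases i <;> rfl

theorem rat_symm_five (F₀ : Subfield F) {u w : F} (hu : u ≠ 0) (hs : u + u⁻¹ ∈ F₀) (h1 : u = u⁻¹ → u = 1)
    (hw : w ≠ 0) (hsw : w + w⁻¹ ∈ F₀) (hw1 : w = w⁻¹ → w = 1) :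
    RatConj F₀ (diagonal ![1, u, u⁻¹, w, w⁻¹]) := by
  have h := rat_reindex F₀ (finSumFinEquiv (m := 3) (n := 2)).symm
    (rat_sum F₀ (rat_symm_three F₀ hu hs h1) (rat_pair F₀ hw hsw hw1))
  convert h using 2
  funext i
  fin_cases i <;> rfl

/-- The exceptional case `k = 2`, `r = n ∈ {3, 5}`. -/
theorem exceptional {p q q₀ n r : ℕ} [Fact p.Prime] [CharP F p] [hr : Fact r.Prime] (hq : Fintype.card F = q)
    (F₀ : Subfield F) (h : Nat.card F₀ = q₀) (hqk : q = q₀ ^ 2) (hr2 : r ≠ 2) (hrp : r ≠ p) (hrn : r = n)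
    (h35 : n = 3 ∨ n = 5) (hv : padicValNat r (q₀ + 1) = 1) (x : SpecialLinearGroup (Fin n) F) {z : F}
    (hx : (x : Matrix (Fin n) (Fin n) F) ^ r = z • 1) : Into F₀ x := by
  subst hrn
  have hn : 0 < r := hr.out.pos
  have hd : r ∣ q₀ + 1 := dvd_of_one_le_padicValNat hv.ge
  have hpos : 1 ≤ q₀ := h ▸ Nat.card_pos
  have hdn : ¬ r ∣ q₀ - 1 := fun hdd => hr2 <| (Nat.prime_dvd_prime_iff_eq hr.out Nat.prime_two).1 (by
    have := Nat.dvd_sub hd hdd
    rwa [show q₀ + 1 - (q₀ - 1) = 2 by omega] at this)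
  have hfac : q - 1 = (q₀ + 1) * (q₀ - 1) := by
    rw [hqk, show 1 = 1 ^ 2 from rfl, Nat.sq_sub_sq, one_pow]
  have h1lt : 1 < q := hq ▸ Fintype.one_lt_card
  have hN : padicValNat r (q - 1) = 1 := by
    rw [hfac, padicValNat.mul (a := q₀ + 1) (b := q₀ - 1) (by omega) (fun h0 => hdn (by rw [h0]; exact dvd_zero r)), hv,
      padicValNat.eq_zero_of_not_dvd hdn]
  obtain ⟨s, hs⟩ := exists_root hq hr2 hrp hn (fun _ => by rw [hN, padicValNat_self]) x hx
  have hz : z ^ r = 1 := by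
    have hdet : ((x : Matrix (Fin r) (Fin r) F) ^ r).det = (z • (1 : Matrix (Fin r) (Fin r) F)).det :=
      congrArg Matrix.det hx
    have hd1 : ((x : Matrix (Fin r) (Fin r) F) ^ r).det = 1 :=
      (det_pow _ r).trans ((congrArg (· ^ r) x.2).trans (one_pow r))
    rw [hd1, det_smul, det_one, mul_one, Fintype.card_fin] at hdet
    exact hdet.symm
  have hs0 : s ≠ 0 := fun h0 => scalar_ne_zero hn x hx (by rw [← hs, h0, zero_pow hr.out.ne_zero])
  have hs1 : s ^ r = 1 := by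
    have hg : s ^ Nat.gcd (r ^ 2) (q - 1) = 1 := pow_gcd_eq_one.2 ⟨by rw [pow_two, pow_mul, hs, hz],
      by rw [← hq]; exact FiniteField.pow_card_sub_one_eq_one s hs0⟩
    obtain ⟨i, -, hi⟩ := (Nat.dvd_prime_pow hr.out).1 (Nat.gcd_dvd_left (r ^ 2) (q - 1))
    have hi1 : i ≤ 1 := hN ▸ (padicValNat_dvd_iff_le (by omega)).1 (hi ▸ Nat.gcd_dvd_right _ _)
    rw [hi] at hg
    rcases Nat.le_one_iff_eq_zero_or_eq_one.1 hi1 with rfl | rfl
    · rw [pow_zero, pow_one] at hg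
      rw [hg, one_pow]
    · rwa [pow_one] at hg
  have hx1 : (x : Matrix (Fin r) (Fin r) F) ^ r = 1 := by rw [hx, ← hs, hs1, one_smul]
  have hrF : (r : F) ≠ 0 := natCast_ne_zero_of_ne hrp
  obtain ⟨χ, hχ, -⟩ := exists_char (F := F) (r := r) (by rw [hq, hfac]; exact dvd_mul_of_dvd_left hd _)
  obtain ⟨Q, e, hQ⟩ := exists_diag_char hχ hrF hx1
  have he : ∑ i, e i = 0 := by
    refine hχ ?_
    rw [AddChar.map_zero_eq_one, char_sum]
    have hdet : ((x : Matrix (Fin r) (Fin r) F) * Q.val).det = (Q.val * diagonal fun j => χ (e j)).det :=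
      congrArg Matrix.det hQ
    have hd1 : ((x : Matrix (Fin r) (Fin r) F) * Q.val).det = Q.val.det :=
      (det_mul _ _).trans ((congrArg (· * Q.val.det) x.2).trans (one_mul _))
    rw [hd1, det_mul, det_diagonal] at hdet
    exact mul_left_cancel₀ (GeneralLinearGroup.det Q).ne_zero (hdet.symm.trans (mul_one _).symm)
  have hsym : ∀ a, χ a ≠ 0 ∧ χ a + (χ a)⁻¹ ∈ F₀ ∧ (χ a = (χ a)⁻¹ → χ a = 1) ∧ χ (-a) = (χ a)⁻¹ := by
    intro a
    obtain ⟨j, hj, hfix⟩ := exists_frob (p := p) F₀ h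
    have hinv : χ (-a) = (χ a)⁻¹ := eq_inv_of_mul_eq_one_left (by
      rw [← AddChar.map_add_eq_mul, neg_add_cancel, AddChar.map_zero_eq_one])
    refine ⟨char_ne_zero χ a, (hfix _).1 ?_, fun hh => ?_, hinv⟩
    · have hm : ((q₀ : ℕ) : ZMod r) = -1 := by
        rw [eq_neg_iff_add_eq_zero]
        have := (ZMod.natCast_eq_zero_iff _ _).2 hd
        simpa using this
      rw [map_add, map_inv₀, iterateFrobenius_def, ← hj, char_pow, hm, neg_one_mul, hinv, inv_inv, add_comm]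
    · rw [← hinv] at hh
      have h2 : (2 : ZMod r) * a = 0 := by linear_combination hχ hh
      have h20 : ((2 : ℕ) : ZMod r) ≠ 0 := fun h0 =>
        hr2 ((Nat.prime_dvd_prime_iff_eq hr.out Nat.prime_two).1 ((ZMod.natCast_eq_zero_iff _ _).1 h0))
      rw [(mul_eq_zero.1 h2).resolve_left h20, AddChar.map_zero_eq_one]
  obtain ⟨g, π, t, hg, hπ⟩ : ∃ (g : Fin r → ZMod r) (π : Fin r ≃ Fin r) (t : ZMod r),
      RatConj F₀ (diagonal (χ ∘ g)) ∧ ∀ i, g (π i) = e i + t := by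
    rcases h35 with rfl | rfl
    · obtain ⟨t, a, π, hπ⟩ := symmetric_exponents_three e he
      refine ⟨![0, a, -a], π, t, ?_, hπ⟩
      obtain ⟨h0, hs, h1, hi⟩ := hsym a
      convert rat_symm_three F₀ h0 hs h1 using 2
      funext i
      fin_cases i <;> simp [hi]
    · obtain ⟨t, a, b, π, hπ⟩ := symmetric_exponents_five e he
      refine ⟨![0, a, -a, b, -b], π, t, ?_, hπ⟩
      obtain ⟨h0, hs, h1, hi⟩ := hsym a
      obtain ⟨h0', hs', h1', hi'⟩ := hsym b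
      convert rat_symm_five F₀ h0 hs h1 h0' hs' h1' using 2
      funext i
      fin_cases i <;> simp [hi, hi']
  obtain ⟨Q', M, hQ', hM⟩ := rat_reindex F₀ π hg
  have hdiag : (diagonal fun j => χ (e j)) = χ (-t) • diagonal ((χ ∘ g) ∘ π) := by
    rw [← diagonal_smul]
    congr 1
    funext i
    rw [Pi.smul_apply, Function.comp_apply, Function.comp_apply, hπ, smul_eq_mul, ← AddChar.map_add_eq_mul]
    congr 1
    ring
  refine into_of_conj F₀ hn hr.out.pos hrF x hx (char_ne_zero χ (-t)) (Q * GeneralLinearGroup.mkOfDetNeZero Q' hQ')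
    (M := M) ?_
  show (x : Matrix (Fin r) (Fin r) F) * (Q.val * Q') = Q.val * Q' * (χ (-t) • M.map F₀.subtype)
  rw [← Matrix.mul_assoc, hQ, hdiag, Matrix.mul_assoc, Matrix.mul_assoc, smul_mul_assoc, hM, ← Matrix.mul_smul]

end CfsgLib.Classical22.SubfieldPositive
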