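/-
Elements of prime order of `PSL_2(p)` and the normaliser of a quaternion subgroup of `GL_2(p)`.
-/
import Mathlib
import Cfsg.Prelude.Def_GeometricClasses

set_option autoImplicit false

namespace CfsgLib.Classical22.Q8Norm

open Matrix

variable {F : Type*} [Field F]

/-- The map of the quaternion group sending the two generators to `A`, `B`. -/
def fQ (A B : QuaternionGroup 2) : QuaternionGroup 2 → QuaternionGroup 2
  | .a i => A ^ i.val
  | .xa i => B * A ^ i.val

theorem fQ_period : ∀ A B : QuaternionGroup 2, A * B ≠ B * A → ∀ u, (fQ A B)^[12] u = u := by decide +kernel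

theorem q8_gen : (QuaternionGroup.a 1 : QuaternionGroup 2) * QuaternionGroup.xa 0 ≠ QuaternionGroup.xa 0 * QuaternionGroup.a 1 := by
  decide

theorem q8_a : ∀ i, (QuaternionGroup.a i : QuaternionGroup 2) = (QuaternionGroup.a 1) ^ i.val := by decide

theorem q8_xa : ∀ i, (QuaternionGroup.xa i : QuaternionGroup 2) =
    QuaternionGroup.xa 0 * (QuaternionGroup.a 1) ^ i.val := by decide

theorem anti {w c : Matrix (Fin 2) (Fin 2) F} (hw : w.trace = 0) (hc : c.trace = 0) :
    w * c + c * w = (w * c).trace • 1 := by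
  rw [trace_fin_two] at hw hc
  ext i j
  fin_cases i <;> fin_cases j <;> simp [mul_apply, Fin.sum_univ_two, trace_fin_two]
  · linear_combination c 0 0 * hw - w 1 1 * hc
  · linear_combination c 0 1 * hw + w 0 1 * hc
  · linear_combination c 1 0 * hw + w 1 0 * hc
  · linear_combination c 1 1 * hw - w 0 0 * hc

theorem q8_aut_fix (φ : MulAut (QuaternionGroup 2)) {r : ℕ} (hr : r.Prime) (h5 : 5 ≤ r) (hφ : φ ^ r = 1) :
    φ = 1 := by
  have h12 : φ ^ 12 = 1 := by
    have hf : ⇑φ = fQ (φ (.a 1)) (φ (.xa 0)) := by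
      funext u
      rcases u with i | i
      · conv_lhs => rw [q8_a i]
        rw [map_pow]; rfl
      · conv_lhs => rw [q8_xa i]
        rw [map_mul, map_pow]; rfl
    have hne : φ (.a 1) * φ (.xa 0) ≠ φ (.xa 0) * φ (.a 1) := fun h => by
      rw [← map_mul, ← map_mul] at h
      exact q8_gen (φ.injective h)
    have hit : ∀ (k : ℕ) (u : QuaternionGroup 2), (φ ^ k) u = (⇑φ)^[k] u := by
      intro k
      induction k with
      | zero => intro u; rfl
      | succ k ih => intro u; rw [pow_succ, MulAut.mul_apply, ih, Function.iterate_succ_apply]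
    refine MulEquiv.ext fun u => ?_
    rw [hit, hf, fQ_period _ _ hne]; rfl
  have hc : Nat.Coprime r 12 := (hr.coprime_iff_not_dvd).2 fun h => by
    have := Nat.le_of_dvd (by norm_num) h
    interval_cases r
    all_goals revert h hr
    all_goals decide
  have h1 : φ ^ Nat.gcd r 12 = 1 := pow_gcd_eq_one.2 ⟨hφ, h12⟩
  rwa [hc, pow_one] at h1

/-- Two determinant-one matrices with the same trace `t`, `t² ≠ 4`, are conjugate by a determinant-one matrix. -/
theorem sl_conj [Fintype F] (h2 : (2 : F) ≠ 0) {t : F} (ht : t ^ 2 ≠ 4) (x y : Matrix (Fin 2) (Fin 2) F)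
    (hx : x.det = 1) (hy : y.det = 1) (htx : x.trace = t) (hty : y.trace = t) :
    ∃ P : Matrix (Fin 2) (Fin 2) F, P.det = 1 ∧ x * P = P * y := by
  have main : ∀ x : Matrix (Fin 2) (Fin 2) F, x.det = 1 → x.trace = t →
      ∃ P : Matrix (Fin 2) (Fin 2) F, P.det = 1 ∧ x * P = P * !![0, -1; 1, t] := by
    intro x hx htx
    rw [det_fin_two] at hx
    rw [trace_fin_two] at htx
    obtain ⟨u, w, huw⟩ : ∃ u w : F, x 1 0 * u ^ 2 + (x 1 1 - x 0 0) * u * w - x 0 1 * w ^ 2 = 1 := by
      have hD : (x 1 1 - x 0 0) ^ 2 + 4 * x 0 1 * x 1 0 = t ^ 2 - 4 := by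
        linear_combination (t + x 0 0 + x 1 1) * htx - 4 * hx
      have hD0 : t ^ 2 - 4 ≠ 0 := sub_ne_zero.2 ht
      rcases eq_or_ne (x 1 0) 0 with h0 | h0
      · have hb : x 1 1 - x 0 0 ≠ 0 := fun h => hD0 (by rw [← hD, h, h0]; ring)
        exact ⟨(1 + x 0 1) / (x 1 1 - x 0 0), 1, by rw [h0]; field_simp; ring⟩
      · obtain ⟨s, w, hs⟩ := FiniteField.exists_root_sum_quadratic
          (f := Polynomial.X ^ 2 - Polynomial.C (4 * x 1 0))
          (g := Polynomial.C (-(t ^ 2 - 4)) * Polynomial.X ^ 2)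
          (by rw [Polynomial.degree_X_pow_sub_C two_pos]; rfl)
          (by rw [Polynomial.degree_C_mul_X_pow 2 (neg_ne_zero.2 hD0)]; rfl)
          (Nat.odd_iff.1 (Nat.not_even_iff_odd.1 fun he => h2 (by
            have h' : ringChar F = 2 := FiniteField.even_card_iff_char_two.2 (Nat.even_iff.1 he)
            haveI := (ringChar.eq_iff (R := F) (p := 2)).1 h'
            exact CharTwo.two_eq_zero)))
        simp only [Polynomial.eval_sub, Polynomial.eval_pow, Polynomial.eval_X, Polynomial.eval_C,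
          Polynomial.eval_mul] at hs
        refine ⟨(s - (x 1 1 - x 0 0) * w) / (2 * x 1 0), w, ?_⟩
        field_simp
        linear_combination hs - w ^ 2 * hD
    refine ⟨!![u, x 0 0 * u + x 0 1 * w; w, x 1 0 * u + x 1 1 * w], ?_, ?_⟩
    · rw [det_fin_two_of]; linear_combination huw
    · ext i j
      fin_cases i <;> fin_cases j <;> simp [mul_apply, Fin.sum_univ_two]
      · linear_combination (x 0 0 * u + x 0 1 * w) * htx - u * hx
      · linear_combination (x 1 0 * u + x 1 1 * w) * htx - w * hx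
  obtain ⟨P, hP, hPx⟩ := main x hx htx
  obtain ⟨Q, hQ, hQy⟩ := main y hy hty
  refine ⟨P * Q.adjugate, by rw [det_mul, hP, det_adjugate, hQ]; simp, ?_⟩
  have hQQ : Q * Q.adjugate = 1 := by rw [mul_adjugate, hQ, one_smul]
  have hQQ' : Q.adjugate * Q = 1 := by rw [adjugate_mul, hQ, one_smul]
  have hy' : Q.adjugate * y = !![0, -1; 1, t] * Q.adjugate := by
    calc Q.adjugate * y = Q.adjugate * y * (Q * Q.adjugate) := by rw [hQQ, mul_one]
      _ = Q.adjugate * (y * Q) * Q.adjugate := by simp only [mul_assoc]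
      _ = _ := by rw [hQy, ← mul_assoc, hQQ', one_mul]
  rw [← mul_assoc, hPx, mul_assoc, mul_assoc, hy']

theorem ch2 (A : Matrix (Fin 2) (Fin 2) F) : A * A = A.trace • A - A.det • 1 := by
  ext i j
  fin_cases i <;> fin_cases j <;> simp [mul_apply, Fin.sum_univ_two, trace_fin_two, det_fin_two] <;> ring

theorem comm_two (h2 : (2 : F) ≠ 0) {a b y : Matrix (Fin 2) (Fin 2) F} (ha2 : a * a = -1) (hta : a.trace = 0)
    (hb2 : b * b = -1) (htb : b.trace = 0) (hab : a * b = -(b * a)) (hya : y * a = a * y) (hyb : y * b = b * y) :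
    ∃ s : F, y = s • 1 := by
  refine ⟨y.trace / 2, ?_⟩
  obtain ⟨z, hz⟩ : ∃ z, z = y - (y.trace / 2) • 1 := ⟨_, rfl⟩
  have htz : z.trace = 0 := by
    rw [hz, trace_sub, trace_smul, trace_one, Fintype.card_fin, smul_eq_mul]
    push_cast
    field_simp
    ring
  have key : ∀ c : Matrix (Fin 2) (Fin 2) F, c * c = -1 → c.trace = 0 → y * c = c * y →
      z * c = c * z ∧ ∃ s : F, z = s • c := by
    intro c hc htc hyc
    have hzc : z * c = c * z := by
      rw [hz, sub_mul, mul_sub, hyc, smul_mul_assoc, mul_smul_comm, one_mul, mul_one]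
    have h : z * c + c * z = (z * c).trace • 1 := anti htz htc
    refine ⟨hzc, -((z * c).trace / 2), ?_⟩
    have h' : z * c = ((z * c).trace / 2) • (1 : Matrix (Fin 2) (Fin 2) F) := by
      rw [div_eq_inv_mul, mul_smul, ← h, ← hzc, ← two_smul F (z * c), ← mul_smul, inv_mul_cancel₀ h2, one_smul]
    calc z = -(z * c * c) := by rw [mul_assoc, hc, mul_neg, mul_one, neg_neg]
      _ = -((((z * c).trace / 2) • (1 : Matrix (Fin 2) (Fin 2) F)) * c) := congrArg (fun m => -(m * c)) h'
      _ = _ := by rw [smul_mul_assoc, one_mul, neg_smul]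
  obtain ⟨-, s, hs⟩ := key a ha2 hta hya
  obtain ⟨hzb, -⟩ := key b hb2 htb hyb
  rw [hs, smul_mul_assoc, mul_smul_comm, hab, smul_neg, neg_eq_iff_add_eq_zero, ← two_smul F, ← mul_smul] at hzb
  have hba : b * a ≠ 0 := fun h => by
    have h1 : b * a * (a * b) = 1 := by
      rw [mul_assoc, ← mul_assoc a a b, ha2, neg_one_mul, mul_neg, hb2, neg_neg]
    rw [h, zero_mul] at h1
    exact zero_ne_one h1
  rcases smul_eq_zero.1 hzb with h | h
  · rw [(mul_eq_zero.1 h).resolve_left h2, zero_smul] at hs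
    rw [hs] at hz
    exact sub_eq_zero.1 hz.symm
  · exact absurd h hba

theorem q8_data (h2 : (2 : F) ≠ 0) (R : Subgroup (GL (Fin 2) F)) (e : R ≃* QuaternionGroup 2) :
    ∃ A B : GL (Fin 2) F, A ∈ R ∧ B ∈ R ∧ (∀ u ∈ R, u ∈ Subgroup.closure ({A, B} : Set (GL (Fin 2) F))) ∧
      A.val * A.val = -1 ∧ A.val.trace = 0 ∧ A.val.det = 1 ∧ B.val * B.val = -1 ∧ B.val.trace = 0 ∧
      B.val.det = 1 ∧ A.val * B.val = -(B.val * A.val) := by
  obtain ⟨φ, hφ⟩ : ∃ φ : QuaternionGroup 2 →* GL (Fin 2) F, φ = R.subtype.comp e.symm.toMonoidHom := ⟨_, rfl⟩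
  have hi : Function.Injective φ := hφ ▸ R.subtype_injective.comp e.symm.injective
  have hm : ∀ g, φ g ∈ R := fun g => hφ ▸ (e.symm g).2
  refine ⟨φ (.a 1), φ (.xa 0), hm _, hm _, fun u hu => ?_, ?_⟩
  · obtain ⟨g, rfl⟩ : ∃ g, φ g = u := ⟨e ⟨u, hu⟩, by rw [hφ]; simp⟩
    rcases g with i | i
    · rw [q8_a i, map_pow]
      exact Subgroup.pow_mem _ (Subgroup.subset_closure (by simp)) _
    · rw [q8_xa i, map_mul, map_pow]
      exact Subgroup.mul_mem _ (Subgroup.subset_closure (by simp))
        (Subgroup.pow_mem _ (Subgroup.subset_closure (by simp)) _)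
  obtain ⟨Z, hZ⟩ : ∃ Z, Z = (φ (.a 2)).val := ⟨_, rfl⟩
  have hv : ∀ g h : QuaternionGroup 2, (φ (g * h)).val = (φ g).val * (φ h).val := fun g h => by
    rw [map_mul, Units.val_mul]
  have hA : (φ (.a 1)).val * (φ (.a 1)).val = Z := by rw [hZ, ← hv]; rfl
  have hB : (φ (.xa 0)).val * (φ (.xa 0)).val = Z := by rw [hZ, ← hv]; rfl
  have hφ1 : (φ 1).val = 1 := by rw [map_one, Units.val_one]
  have hZ1 : Z * Z = 1 := by rw [hZ, ← hv, ← hφ1]; rfl
  have hne : ∀ g h : QuaternionGroup 2, g ≠ h → (φ g).val ≠ (φ h).val := fun g h hgh e' => hgh (hi (Units.ext e'))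
  have hZne : Z ≠ 1 := by
    rw [hZ, ← hφ1]; exact hne _ _ (by decide)
  have hnc : (φ (.a 1)).val * (φ (.xa 0)).val ≠ (φ (.xa 0)).val * (φ (.a 1)).val := by
    rw [← hv, ← hv]; exact hne _ _ q8_gen
  have hns : ∀ s : F, (φ (.a 1)).val ≠ s • 1 := fun s h => hnc (by
    rw [h, smul_mul_assoc, mul_smul_comm, one_mul, mul_one])
  have hns' : ∀ s : F, (φ (.xa 0)).val ≠ s • 1 := fun s h => hnc (by
    rw [h, smul_mul_assoc, mul_smul_comm, one_mul, mul_one])
  have hrel : (φ (.a 1)).val * (φ (.xa 0)).val = (φ (.xa 0)).val * (φ (.a 1)).val * Z := by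
    rw [hZ, ← hv, ← hv, ← hv]; rfl
  -- the central involution is `-1`
  have hZs : Z = -1 := by
    by_contra hne1
    have hch := ch2 Z
    rw [hZ1] at hch
    have hZt : Z.trace = 0 := by
      by_contra ht
      have hs : Z = ((1 + Z.det) / Z.trace) • 1 := by
        have h' : Z.trace • Z = (1 + Z.det) • (1 : Matrix (Fin 2) (Fin 2) F) := by
          rw [add_smul, one_smul, ← sub_eq_iff_eq_add]; exact hch.symm
        rw [div_eq_inv_mul, mul_smul, ← h', ← mul_smul, inv_mul_cancel₀ ht, one_smul]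
      rw [hs, smul_mul_smul_comm, mul_one] at hZ1
      have h11 := congrFun (congrFun hZ1 0) 0
      simp only [Matrix.smul_apply, one_apply_eq, smul_eq_mul, mul_one] at h11
      rcases mul_self_eq_one_iff.1 h11 with h | h
      · exact hZne (by rw [hs, h, one_smul])
      · exact hne1 (by rw [hs, h, neg_one_smul])
    have sp : ∀ y : Matrix (Fin 2) (Fin 2) F, y * Z = Z * y → ∃ s v : F, y = s • 1 + v • Z := by
      intro y hy
      refine ⟨y.trace / 2, (y * Z).trace / 2, ?_⟩
      have hw : ∀ w : Matrix (Fin 2) (Fin 2) F, w.trace = 0 → w * Z + Z * w = (w * Z).trace • 1 :=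
        fun w htw => anti htw hZt
      obtain ⟨w, hwd⟩ : ∃ w, w = y - (y.trace / 2) • (1 : Matrix (Fin 2) (Fin 2) F) := ⟨_, rfl⟩
      have hwt : w.trace = 0 := by
        rw [hwd, trace_sub, trace_smul, trace_one, Fintype.card_fin, smul_eq_mul]; push_cast; field_simp; ring
      have hwZ : (w * Z).trace = (y * Z).trace := by
        rw [hwd, sub_mul, trace_sub, smul_mul_assoc, one_mul, trace_smul, hZt, smul_zero, sub_zero]
      have h := hw w hwt
      have hwc : Z * w = w * Z := by
        rw [hwd, sub_mul, mul_sub, hy, smul_mul_assoc, mul_smul_comm, one_mul, mul_one]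
      rw [hwc, hwZ, ← two_smul F] at h
      have h' : w * Z = ((y * Z).trace / 2) • (1 : Matrix (Fin 2) (Fin 2) F) := by
        rw [div_eq_inv_mul, mul_smul, ← h, ← mul_smul, inv_mul_cancel₀ h2, one_smul]
      have hw1 : w = ((y * Z).trace / 2) • Z := by
        calc w = w * Z * Z := by rw [mul_assoc, hZ1, mul_one]
          _ = _ := by rw [h', smul_mul_assoc, one_mul]
      rw [← hw1, hwd]; abel
    obtain ⟨s1, v1, h1⟩ := sp (φ (.a 1)).val (by rw [← hA, ← mul_assoc])
    obtain ⟨s2, v2, h3⟩ := sp (φ (.xa 0)).val (by rw [← hB, ← mul_assoc])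
    apply hnc
    rw [h1, h3]
    simp only [add_mul, mul_add, smul_mul_assoc, mul_smul_comm, one_mul, mul_one, smul_smul]
    simp only [smul_add, smul_smul, mul_comm s1 s2, mul_comm v1 s2, mul_comm s1 v2, mul_comm v1 v2]
    abel
  have fin : ∀ M : Matrix (Fin 2) (Fin 2) F, M * M = -1 → (∀ s : F, M ≠ s • 1) → M.trace = 0 ∧ M.det = 1 := by
    intro M hM hMs
    have hch := ch2 M
    rw [hM] at hch
    have ht : M.trace = 0 := by
      by_contra ht
      have h' : M.trace • M = (M.det - 1) • (1 : Matrix (Fin 2) (Fin 2) F) := by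
        rw [sub_smul, one_smul]
        calc M.trace • M = (M.trace • M - M.det • 1) + M.det • (1 : Matrix (Fin 2) (Fin 2) F) := by abel
          _ = -1 + M.det • (1 : Matrix (Fin 2) (Fin 2) F) := by rw [← hch]
          _ = _ := by abel
      exact hMs ((M.det - 1) / M.trace) (by
        rw [div_eq_inv_mul, mul_smul, ← h', ← mul_smul, inv_mul_cancel₀ ht, one_smul])
    refine ⟨ht, ?_⟩
    rw [ht, zero_smul, zero_sub] at hch
    have h00 := congrFun (congrFun (neg_injective hch) 0) 0
    simpa using h00.symm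
  rw [hZs] at hA hB hrel
  obtain ⟨hta, hda⟩ := fin _ hA hns
  obtain ⟨htb, hdb⟩ := fin _ hB hns'
  exact ⟨hA, hta, hda, hB, htb, hdb, by rw [hrel, mul_neg, mul_one]⟩

theorem normalizes {R : Subgroup (GL (Fin 2) F)} [Finite F] {A B g : GL (Fin 2) F}
    (hgen : ∀ u ∈ R, u ∈ Subgroup.closure ({A, B} : Set (GL (Fin 2) F))) (hA : g * A * g⁻¹ ∈ R)
    (hB : g * B * g⁻¹ ∈ R) : g ∈ Cfsg.Geo.subgroupNormalizer R := by
  have key : ∀ u ∈ R, g * u * g⁻¹ ∈ R := fun u hu => by
    have hle : Subgroup.closure ({A, B} : Set (GL (Fin 2) F)) ≤ R.comap (MulAut.conj g).toMonoidHom :=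
      (Subgroup.closure_le _).2 (by rintro x (rfl | rfl) <;> assumption)
    exact hle (hgen u hu)
  exact Subgroup.mem_normalizer_fintype (S := (R : Set (GL (Fin 2) F))) key

theorem main [Fintype F] {p : ℕ} [hpp : Fact p.Prime] [CharP F p] (hp : 5 ≤ p)
    (R : Subgroup (GL (Fin 2) F)) (hR : Nonempty (↥R ≃* QuaternionGroup 2))
    (r : ℕ) [hr : Fact r.Prime]
    (hΩ : r ∣ (Cfsg.Geo.subgroupNormalizer R).relIndex (Cfsg.Geo.specialLinear (Fin 2) F)) :
    (∀ x ∈ Cfsg.Geo.specialLinear (Fin 2) F, (∃ z : F, ((x ^ r : GL (Fin 2) F) : Matrix (Fin 2) (Fin 2) F) =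
        z • (1 : Matrix (Fin 2) (Fin 2) F)) →
      (∀ z : F, (x : Matrix (Fin 2) (Fin 2) F) ≠ z • (1 : Matrix (Fin 2) (Fin 2) F)) →
      ∃ g ∈ Cfsg.Geo.specialLinear (Fin 2) F, g⁻¹ * x * g ∈ Cfsg.Geo.subgroupNormalizer R) ↔ (r = 2 ∨ r = 3) := by
  obtain ⟨e⟩ := hR
  have h2 : (2 : F) ≠ 0 := Ring.two_ne_zero (by rw [ringChar.eq F p]; omega)
  have h3 : (3 : F) ≠ 0 := fun h => by
    have : p ∣ 3 := (CharP.cast_eq_zero_iff F p 3).1 (by exact_mod_cast h)
    have := Nat.le_of_dvd (by norm_num) this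
    omega
  obtain ⟨A, B, hAR, hBR, hgen, hA2, hAt, hAd, hB2, hBt, hBd, hAB⟩ := q8_data h2 R e
  have hsl : ∀ x : GL (Fin 2) F, x ∈ Cfsg.Geo.specialLinear (Fin 2) F ↔ x.val.det = 1 := fun x => by
    rw [Cfsg.Geo.specialLinear, MonoidHom.mem_ker, Units.ext_iff]
    rfl
  constructor
  · intro h
    by_contra hn
    push_neg at hn
    have hr5 : 5 ≤ r := by
      by_contra hlt
      have := hr.out.two_le
      interval_cases r
      · exact hn.1 rfl
      · exact hn.2 rfl
      · exact absurd hr.out (by norm_num)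
    obtain ⟨x, hx⟩ := exists_prime_orderOf_dvd_card' (G := Cfsg.Geo.specialLinear (Fin 2) F) r
      (hΩ.trans (by rw [Subgroup.relIndex]; exact Subgroup.index_dvd_card _))
    have hxr : x.val ^ r = 1 := by
      rw [← SubmonoidClass.coe_pow, ← hx, pow_orderOf_eq_one]; rfl
    have hxns : ∀ z : F, x.val.val ≠ z • (1 : Matrix (Fin 2) (Fin 2) F) := by
      intro z hz
      have hd := (hsl _).1 x.2
      have hp' := congrArg Units.val hxr
      rw [Units.val_pow_eq_pow_val, hz, smul_pow, one_pow, Units.val_one] at hp'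
      rw [hz, det_smul, det_one, mul_one, Fintype.card_fin] at hd
      have h00 := congrFun (congrFun hp' 0) 0
      simp only [Matrix.smul_apply, one_apply_eq, smul_eq_mul, mul_one] at h00
      obtain ⟨k, hk⟩ := hr.out.odd_of_ne_two hn.1
      rw [hk, pow_succ, pow_mul, hd, one_pow, one_mul] at h00
      refine hr.out.ne_one (hx.symm.trans (orderOf_eq_one_iff.2 (Subtype.ext (Units.ext ?_))))
      rw [hz, h00, one_smul]; rfl
    obtain ⟨g, hg, hgN⟩ := h x.val x.2 ⟨1, by rw [hxr, Units.val_one, one_smul]⟩ hxns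
    obtain ⟨y, hy⟩ : ∃ y, y = g⁻¹ * x.val * g := ⟨_, rfl⟩
    rw [← hy] at hgN
    have hyr : y ^ r = 1 := by
      rw [hy, show g⁻¹ * x.val * g = MulAut.conj g⁻¹ x.val by simp, ← map_pow, hxr, map_one]
    obtain ⟨σ, hσ⟩ : ∃ σ : MulAut R, ∀ u : R, (σ u : GL (Fin 2) F) = y * u * y⁻¹ :=
      ⟨Subgroup.normalizerMonoidHom R ⟨y, hgN⟩, fun u => rfl⟩
    have hσk : ∀ (k : ℕ) (u : R), ((σ ^ k) u : GL (Fin 2) F) = y ^ k * u * (y ^ k)⁻¹ := by
      intro k
      induction k with
      | zero => intro u; simp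
      | succ k ih =>
        intro u
        rw [pow_succ, MulAut.mul_apply, ih, hσ, pow_succ, _root_.mul_inv_rev]
        simp only [mul_assoc]
    let τ : MulAut (QuaternionGroup 2) := (e.symm.trans σ).trans e
    have hτk : ∀ (k : ℕ) (u : QuaternionGroup 2), (τ ^ k) u = e ((σ ^ k) (e.symm u)) := by
      intro k
      induction k with
      | zero => intro u; simp
      | succ k ih =>
        intro u
        rw [pow_succ, MulAut.mul_apply, ih, pow_succ, MulAut.mul_apply]
        simp [τ]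
    have hτ : τ = 1 := q8_aut_fix τ hr.out hr5 (MulEquiv.ext fun u => by
      rw [hτk, show (σ ^ r) (e.symm u) = e.symm u from Subtype.ext (by rw [hσk, hyr]; simp)]
      simp)
    have hcom : ∀ u : GL (Fin 2) F, u ∈ R → y.val * u.val = u.val * y.val := by
      intro u hu
      have h1 : σ ⟨u, hu⟩ = ⟨u, hu⟩ := by
        have h1 := DFunLike.congr_fun hτ (e ⟨u, hu⟩)
        simp only [τ, MulEquiv.trans_apply, MulEquiv.symm_apply_apply, MulAut.one_apply] at h1
        exact e.injective h1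
      have h2 := congrArg Subtype.val h1
      rw [hσ] at h2
      have h3 : y * u = u * y := mul_inv_eq_iff_eq_mul.1 h2
      exact congrArg Units.val h3
    obtain ⟨s, hs⟩ := comm_two h2 hA2 hAt hB2 hBt hAB (hcom A hAR) (hcom B hBR)
    refine hxns s ?_
    have hxy : x.val = g * y * g⁻¹ := by rw [hy]; group
    rw [hxy, Units.val_mul, Units.val_mul, hs, mul_smul_comm, mul_one, smul_mul_assoc, ← Units.val_mul,
      mul_inv_cancel, Units.val_one]
  · intro hr23 x hx ⟨z, hz⟩ hxns
    rw [hsl] at hx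
    obtain ⟨t, htr, htar⟩ : ∃ t : F, x.val.trace = t ∧ t ^ 2 ≠ 4 ∧
        ∃ T : GL (Fin 2) F, T ∈ Cfsg.Geo.subgroupNormalizer R ∧ T.val.det = 1 ∧ T.val.trace = t := by
      rw [Units.val_pow_eq_pow_val] at hz
      have hch := ch2 x.val
      rw [hx, one_smul] at hch
      have nsc : ∀ a c : F, a • x.val = c • (1 : Matrix (Fin 2) (Fin 2) F) → a = 0 := fun a c hac => by
        by_contra ha
        exact hxns (c / a) (by rw [div_eq_inv_mul, mul_smul, ← hac, ← mul_smul, inv_mul_cancel₀ ha, one_smul])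
      rcases hr23 with rfl | rfl
      · rw [pow_two, hch] at hz
        have ht : x.val.trace = 0 := nsc _ (z + 1) (by rw [add_smul, one_smul, ← sub_eq_iff_eq_add]; exact hz)
        refine ⟨0, ht, fun h => mul_ne_zero h2 h2 (by linear_combination -h), A,
          Subgroup.le_normalizer hAR, hAd, hAt⟩
      · have h3' : x.val ^ 3 = (x.val.trace ^ 2 - 1) • x.val - x.val.trace • 1 := by
          rw [pow_succ, pow_two, hch, sub_mul, smul_mul_assoc, one_mul, hch, smul_sub, ← mul_smul, ← pow_two,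
            sub_smul, one_smul]
          abel
        rw [h3'] at hz
        have ht : x.val.trace ^ 2 - 1 = 0 := nsc _ (z + x.val.trace) (by
          rw [add_smul, ← sub_eq_iff_eq_add]; exact hz)
        refine ⟨x.val.trace, rfl, fun h => h3 (by linear_combination ht - h), ?_⟩
        obtain ⟨t, ht'⟩ : ∃ t, t = x.val.trace := ⟨_, rfl⟩
        rw [← ht'] at ht ⊢
        obtain ⟨W, hW⟩ : ∃ W, W = 1 + A.val + B.val + A.val * B.val := ⟨_, rfl⟩
        have hBA : B.val * A.val = -(A.val * B.val) := by rw [hAB, neg_neg]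
        have hABA : A.val * B.val * A.val = B.val := by
          rw [mul_assoc, hBA, mul_neg, ← mul_assoc, hA2, neg_one_mul, neg_neg]
        have hABB : A.val * B.val * B.val = -A.val := by rw [mul_assoc, hB2, mul_neg, mul_one]
        have hBAB : B.val * (A.val * B.val) = A.val := by
          rw [← mul_assoc, hBA, neg_mul, hABB, neg_neg]
        have hAAB : A.val * (A.val * B.val) = -B.val := by rw [← mul_assoc, hA2, neg_one_mul]
        have w1 : W * A.val = B.val * W := by
          rw [hW]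
          simp only [add_mul, mul_add, one_mul, mul_one, hA2, hB2, hBA, hABA, hBAB]
          abel
        have w2 : W * B.val = A.val * B.val * W := by
          rw [hW]
          simp only [add_mul, mul_add, one_mul, mul_one, hB2, hABA, hABB,
            show A.val * B.val * (A.val * B.val) = -1 by rw [← mul_assoc, hABA, hB2]]
          abel
        have hABt : (A.val * B.val).trace = 0 := by
          have h := congrArg Matrix.trace hAB
          rw [trace_neg, trace_mul_comm B.val] at h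
          exact (mul_eq_zero.1 (by linear_combination h : (2 : F) * (A.val * B.val).trace = 0)).resolve_left h2
        have hWt : W.trace = 2 := by
          rw [hW, trace_add, trace_add, trace_add, hAt, hBt, hABt, trace_one, Fintype.card_fin]; simp
        have hWW : W * W = (2 : F) • W - (4 : F) • 1 := by
          rw [hW]
          simp only [add_mul, mul_add, one_mul, mul_one, hA2, hB2, hBA, hABA, hBAB, hAAB, hABB,
            show A.val * B.val * (A.val * B.val) = -1 by rw [← mul_assoc, hABA, hB2], two_smul,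
            show (4 : F) = 1 + 1 + 1 + 1 by norm_num, add_smul, one_smul]
          abel
        have hWd : W.det = 4 := by
          have h := (ch2 W).symm.trans hWW
          rw [hWt, sub_right_inj] at h
          simpa using congrFun (congrFun h 0) 0
        have hcd : (t / 2) ^ 2 * 4 = 1 := by field_simp; linear_combination 4 * ht
        have hTd : ((t / 2) • W).det = 1 := by rw [det_smul, Fintype.card_fin, hWd, hcd]
        obtain ⟨T, hT⟩ : ∃ T : GL (Fin 2) F, T.val = (t / 2) • W :=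
          ⟨Matrix.GeneralLinearGroup.mkOfDetNeZero _ (by rw [hTd]; exact one_ne_zero), rfl⟩
        refine ⟨T, normalizes hgen ?_ ?_, by rw [hT, hTd], by rw [hT, trace_smul, hWt, smul_eq_mul]; field_simp⟩
        · rw [show T * A * T⁻¹ = B from mul_inv_eq_iff_eq_mul.2 (Units.ext (by
            rw [Units.val_mul, Units.val_mul, hT, smul_mul_assoc, mul_smul_comm, w1]))]
          exact hBR
        · rw [show T * B * T⁻¹ = A * B from mul_inv_eq_iff_eq_mul.2 (Units.ext (by
            rw [Units.val_mul, Units.val_mul, Units.val_mul, hT, smul_mul_assoc, mul_smul_comm, w2]))]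
          exact R.mul_mem hAR hBR
    obtain ⟨ht4, T, hTN, hTd, hTt⟩ := htar
    obtain ⟨P, hP, hPx⟩ := sl_conj h2 ht4 x.val T.val hx hTd htr hTt
    obtain ⟨g, hg⟩ : ∃ g : GL (Fin 2) F, g.val = P :=
      ⟨Matrix.GeneralLinearGroup.mkOfDetNeZero P (by rw [hP]; exact one_ne_zero), rfl⟩
    refine ⟨g, (hsl g).2 (by rw [hg, hP]), ?_⟩
    have : x * g = g * T := Units.ext (by rw [Units.val_mul, Units.val_mul, hg, hPx])
    rw [mul_assoc, this, inv_mul_cancel_left]
    exact hTN

end CfsgLib.Classical22.Q8Norm
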