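/-
Identities between the root elements of a unitary group, and overgroups of a rational unitary or orthogonal group.
-/
import Cfsg.Agent.Lib.Classical22.UnitSubfieldSpace

set_option autoImplicit false

namespace CfsgLib.Classical22.UnitSubfield

open Matrix CfsgLib.Transvec CfsgLib.Transvec.Unitary
open scoped MatrixGroups

variable {ι : Type} [Fintype ι] [DecidableEq ι] {F : Type*} [Field F] [Finite F]
variable {σ : F ≃+* F} {f : (ι → F) → (ι → F) → F}

section Identities

variable (hf : Cfsg.Geo.IsUnitaryForm σ f)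
include hf

theorem uX_smul_right {u a : ι → F} (ha : f a a = 0) (h : f u a = 0) (k μ : F) :
    uX σ f u (k • a) μ = uX σ f u a (μ * σ k) := gl_ext fun x => by
  rw [uX_mulVec hf (by rw [hf.smul_left, smul_right' hf, ha, mul_zero, mul_zero])
    (by rw [smul_right' hf, h, mul_zero]), uX_mulVec hf ha h, smul_right' hf, smul_smul, map_mul, hf.involutive]
  module

theorem uX_smul_left {u a : ι → F} (ha : f a a = 0) (h : f u a = 0) (k μ : F) :
    uX σ f (k • u) a μ = uX σ f u a (μ * k) := gl_ext fun x => by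
  rw [uX_mulVec hf ha (by rw [hf.smul_left, h, mul_zero]), uX_mulVec hf ha h, smul_right' hf, map_mul, smul_smul]
  module

theorem uX_one {u a : ι → F} (ha : f a a = 0) (h : f u a = 0) (μ : F) :
    uX σ f u a μ = uX σ f u (σ μ • a) 1 := by
  rw [uX_smul_right hf ha h, hf.involutive, one_mul]

theorem uX_add_scalar {u a : ι → F} (hu : f u u = 0) (ha : f a a = 0) (h : f u a = 0) (μ ν : F) :
    uX σ f u a μ * uX σ f u a ν = uX σ f u a (μ + ν) := gl_ext fun x => by
  have h' : f a u = 0 := (eq_zero_comm hf).1 h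
  simp only [mul_mulVec, uX_mulVec hf ha h, hf.add_left, sub_left' hf, hf.smul_left, hu, ha, h, h', map_add]
  module

/-- Adding two second vectors costs a transvection. -/
theorem uX_add_uT {u a b : ι → F} (hu : f u u = 0) (ha : f a a = 0) (hb : f b b = 0)
    (hab : f (a + b) (a + b) = 0) (hua : f u a = 0) (hub : f u b = 0) (μ : F) :
    uX σ f u a μ * uX σ f u b μ = uX σ f u (a + b) μ * uT f u (-(μ * σ μ * f b a)) := gl_ext fun x => by
  have hau : f a u = 0 := (eq_zero_comm hf).1 hua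
  have hbu : f b u = 0 := (eq_zero_comm hf).1 hub
  have huab : f u (a + b) = 0 := by rw [add_right' hf, hua, hub, add_zero]
  simp only [mul_mulVec, uX_mulVec hf ha hua, uX_mulVec hf hb hub, uX_mulVec hf hab huab, uT_mulVec hf hu,
    hf.add_left, sub_left' hf, add_right' hf, hf.smul_left, hu, hua, hub, hau, hbu]
  module

theorem uX_add {u a b : ι → F} (hu : f u u = 0) (ha : f a a = 0) (hb : f b b = 0) (hab : f a b = 0)
    (hua : f u a = 0) (hub : f u b = 0) (μ : F) :
    uX σ f u a μ * uX σ f u b μ = uX σ f u (a + b) μ := by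
  have hba : f b a = 0 := (eq_zero_comm hf).1 hab
  rw [uX_add_uT hf hu ha hb (by simp only [hf.add_left, add_right' hf, ha, hb, hab, hba]; ring) hua hub, hba,
    mul_zero, neg_zero, uT, zero_smul, transv_zero, mul_one]

theorem uX_zero {u : ι → F} (μ : F) : uX σ f u 0 μ = 1 := gl_ext fun x => by
  rw [uX_mulVec hf (zero_left' hf 0) (zero_right' hf u), zero_right' hf]
  simp

theorem uX_inv {u a : ι → F} (hu : f u u = 0) (ha : f a a = 0) (h : f u a = 0) (μ : F) :
    (uX σ f u a μ)⁻¹ = uX σ f u (-a) μ := by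
  refine inv_eq_of_mul_eq_one_right ?_
  rw [uX_add hf hu ha (by rw [← neg_one_smul F a, hf.smul_left, smul_right' hf, ha]; ring)
    (by rw [← neg_one_smul F a, smul_right' hf, ha, mul_zero]) h (by rw [← neg_one_smul F a, smul_right' hf, h, mul_zero]),
    add_neg_cancel, uX_zero hf]

theorem uT_commute {g : GL ι F} (hg : Iso f g) {u : ι → F} (hu : f u u = 0)
    (hgu : (g : Matrix ι ι F) *ᵥ u = u) (c : F) : g * uT f u c * g⁻¹ = uT f u c := by
  rw [conj_uT hf hg hu, hgu]

theorem uX_diff_uT {M : Subgroup (GL ι F)} {h : GL ι F} (hM : h ∈ M) (hi : Iso f h) {u l : ι → F}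
    (hu : f u u = 0) (hhu : (h : Matrix ι ι F) *ᵥ u = u) (hl : f l l = 0) (hul : f u l = 0) {μ : F}
    (hm : uX σ f u l μ ∈ M) (hd : f ((h : Matrix ι ι F) *ᵥ l - l) ((h : Matrix ι ι F) *ᵥ l - l) = 0) :
    ∃ c, uX σ f u ((h : Matrix ι ι F) *ᵥ l - l) μ * uT f u c ∈ M := by
  have h1 := M.mul_mem (M.mul_mem (M.mul_mem hM hm) (M.inv_mem hM)) (M.inv_mem hm)
  rw [conj_uX hf hi hul, hhu, uX_inv hf hu hl hul, uX_add_uT hf hu (by rw [hi]; exact hl)
    (by rw [← neg_one_smul F l, hf.smul_left, smul_right' hf, hl]; ring) (by rw [← sub_eq_add_neg]; exact hd)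
    (by rw [← hi u l, hhu] at hul; exact hul) (by rw [← neg_one_smul F l, smul_right' hf, hul, mul_zero]),
    ← sub_eq_add_neg] at h1
  exact ⟨_, h1⟩

theorem uX_diff {M : Subgroup (GL ι F)} {h : GL ι F} (hM : h ∈ M) (hi : Iso f h) {u d : ι → F}
    (hu : f u u = 0) (hhu : (h : Matrix ι ι F) *ᵥ u = u) (hd : f d d = 0) (hud : f u d = 0) {μ c : F}
    (hm : uX σ f u d μ * uT f u c ∈ M) (hhd : f ((h : Matrix ι ι F) *ᵥ d) d = 0) :
    uX σ f u ((h : Matrix ι ι F) *ᵥ d - d) μ ∈ M := by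
  have h1 := M.mul_mem (M.mul_mem (M.mul_mem hM hm) (M.inv_mem hM)) (M.inv_mem hm)
  have e : h * (uX σ f u d μ * uT f u c) * h⁻¹ * (uX σ f u d μ * uT f u c)⁻¹ =
      h * uX σ f u d μ * h⁻¹ * (h * uT f u c * h⁻¹ * (uT f u c)⁻¹) * (uX σ f u d μ)⁻¹ := by group
  rw [e, uT_commute hf hi hu hhu, mul_inv_cancel, mul_one, conj_uX hf hi hud, hhu, uX_inv hf hu hd hud,
    uX_add hf hu (by rw [hi]; exact hd) (by rw [← neg_one_smul F d, hf.smul_left, smul_right' hf, hd]; ring)
      (by rw [← neg_one_smul F d, smul_right' hf, hhd, mul_zero])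
      (by rw [← hi u d, hhu] at hud; exact hud) (by rw [← neg_one_smul F d, smul_right' hf, hud, mul_zero]),
    ← sub_eq_add_neg] at h1
  exact h1

/-- Conjugating a root element twice by an element fixing its centre. -/
theorem uX_diff_twice {M : Subgroup (GL ι F)} {h : GL ι F} (hM : h ∈ M) (hi : Iso f h) {v l d e : ι → F}
    (hv : f v v = 0) (hhv : (h : Matrix ι ι F) *ᵥ v = v) (hl : f l l = 0) (hvl : f v l = 0)
    (hm : uX σ f v l 1 ∈ M) (hd : (h : Matrix ι ι F) *ᵥ l - l = d) (he : (h : Matrix ι ι F) *ᵥ d - d = e)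
    (hee : f e e = 0) (hde : f d e = 0) : uX σ f v e 1 ∈ M := by
  obtain ⟨b, hb⟩ : ∃ b, b = (h : Matrix ι ι F) *ᵥ l := ⟨_, rfl⟩
  obtain ⟨a, ha⟩ : ∃ a, a = (h : Matrix ι ι F) *ᵥ b := ⟨_, rfl⟩
  rw [← hb] at hd
  have hbb : f b b = 0 := by rw [hb, hi]; exact hl
  have haa : f a a = 0 := by rw [ha, hi]; exact hbb
  have hvb : f v b = 0 := by rw [hb, ← hhv, hi]; exact hvl
  have hva : f v a = 0 := by rw [ha, ← hhv, hi]; exact hvb
  have hbv : f b v = 0 := (eq_zero_comm hf).1 hvb
  have hav : f a v = 0 := (eq_zero_comm hf).1 hva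
  have hlv : f l v = 0 := (eq_zero_comm hf).1 hvl
  have he' : e = a - b - (b - l) := by rw [← he, ← hd, mulVec_sub, ← hb, ← ha]
  have hve : f v e = 0 := by simp only [he', sub_right' hf, hva, hvb, hvl, sub_zero]
  have hba : f b a = f l b := by rw [ha]; nth_rewrite 1 [hb]; rw [hi]
  have hnb : f (-b) (-b) = 0 := by rw [← neg_one_smul F b, hf.smul_left, smul_right' hf, hbb]; ring
  have hvnb : f v (-b) = 0 := by rw [← neg_one_smul F b, smul_right' hf, hvb, mul_zero]
  have h1 : uX σ f v b 1 * (uX σ f v l 1)⁻¹ ∈ M := by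
    have := M.mul_mem (M.mul_mem (M.mul_mem hM hm) (M.inv_mem hM)) (M.inv_mem hm)
    rwa [conj_uX hf hi hvl, hhv, ← hb] at this
  have h2 := M.mul_mem (M.mul_mem (M.mul_mem hM h1) (M.inv_mem hM)) (M.inv_mem h1)
  rw [show h * (uX σ f v b 1 * (uX σ f v l 1)⁻¹) * h⁻¹ =
      h * uX σ f v b 1 * h⁻¹ * (h * uX σ f v l 1 * h⁻¹)⁻¹ by group, conj_uX hf hi hvb, conj_uX hf hi hvl, hhv,
    ← hb, ← ha, _root_.mul_inv_rev, inv_inv, uX_inv hf hv hbb hvb] at h2
  convert h2 using 1
  refine gl_ext fun x => ?_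
  rw [← hd, he', sub_left' hf, sub_right' hf, sub_right' hf, sub_right' hf, sub_right' hf, sub_right' hf,
    sub_right' hf, hba, hl, hbb] at hde
  simp only [mul_mulVec, uX_mulVec hf hee hve, uX_mulVec hf hl hvl, uX_mulVec hf hnb hvnb,
    uX_mulVec hf haa hva, map_one, one_mul]
  simp only [he', ← neg_one_smul F b, hf.add_left, sub_left' hf, hf.smul_left, add_right' hf, sub_right' hf,
    smul_right' hf, map_neg, map_one, hv, hva, hvb, hvl, hav, hbv, hlv, hba, hbb, hl, mul_zero, add_zero, sub_zero]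
  match_scalars <;> first | ring1 | linear_combination (f x v) * hde | linear_combination (-f x v) * hde

end Identities

variable {F₀ : Subfield F}

/-- A subgroup of isometries containing the rational root elements. -/
structure Over (σ : F ≃+* F) (f : (ι → F) → (ι → F) → F) (R₀ : Submodule F₀ (ι → F)) (M : Subgroup (GL ι F)) :
    Prop where
  root : ∀ a ∈ R₀, ∀ b ∈ R₀, f a a = 0 → f b b = 0 → f a b = 0 → uX σ f a b 1 ∈ M
  iso : ∀ g ∈ M, Iso f g

/-- The root elements of `M` with rational centre are rational. -/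
def Tight (σ : F ≃+* F) (f : (ι → F) → (ι → F) → F) (R₀ : Submodule F₀ (ι → F)) (M : Subgroup (GL ι F)) : Prop :=
  ∀ x ∈ R₀, x ≠ 0 → f x x = 0 → ∀ y, f y y = 0 → f x y = 0 → uX σ f x y 1 ∈ M →
    ∃ r ∈ R₀, ∃ s : F, y = r + s • x

end CfsgLib.Classical22.UnitSubfield
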