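/-
An image of a rational isotropic point with small rational support is rational; elements mapping one such point to a
rational point preserve the rational structure.
-/
import Cfsg.Agent.Lib.Classical22.UnitSubfieldRoots

set_option autoImplicit false

namespace CfsgLib.Classical22.UnitSubfield

open Matrix CfsgLib.Transvec CfsgLib.Transvec.Unitary
open scoped MatrixGroups

variable {ι : Type} [Fintype ι] [DecidableEq ι] {F : Type*} [Field F] [Finite F]
variable {σ : F ≃+* F} {f : (ι → F) → (ι → F) → F} {F₀ : Subfield F} {R₀ : Submodule F₀ (ι → F)}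

namespace Setting

variable (E : Setting σ f F₀ R₀)
include E

omit E in
/-- The rational vectors orthogonal to a subspace. -/
def perpAll (hf : Cfsg.Geo.IsUnitaryForm σ f) (R₀ P : Submodule F₀ (ι → F)) : Submodule F₀ (ι → F) where
  carrier := {r | r ∈ R₀ ∧ ∀ p ∈ P, f r p = 0}
  zero_mem' := ⟨R₀.zero_mem, fun p _ => zero_left' hf p⟩
  add_mem' ha hb := ⟨R₀.add_mem ha.1 hb.1, fun p hp => by rw [hf.add_left, ha.2 p hp, hb.2 p hp, add_zero]⟩
  smul_mem' c a ha := ⟨R₀.smul_mem c ha.1, fun p hp => by rw [coe_smul_eq, hf.smul_left, ha.2 p hp, mul_zero]⟩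

theorem finrank_le_perpAll {P : Submodule F₀ (ι → F)} (hP : P ≤ R₀) :
    Module.finrank F₀ R₀ ≤ Module.finrank F₀ (perpAll E.uni R₀ P) + Module.finrank F₀ P := by
  let b := Module.finBasis F₀ P
  obtain ⟨φ, hφ⟩ : ∃ φ : R₀ →ₗ[F₀] (Fin (Module.finrank F₀ P) → F₀),
      φ = LinearMap.pi fun i => E.lin (b i : ι → F) (hP (b i).2) := ⟨_, rfl⟩
  have h1 := LinearMap.finrank_range_add_finrank_ker φ
  have h2 := Submodule.finrank_le (LinearMap.range φ)
  rw [Module.finrank_fin_fun] at h2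
  have hle : (LinearMap.ker φ).map R₀.subtype ≤ perpAll E.uni R₀ P := by
    rintro _ ⟨⟨v, hv⟩, hvk, rfl⟩
    refine ⟨hv, fun p hp => ?_⟩
    rw [hφ] at hvk
    have hi : ∀ i, f v (b i : ι → F) = 0 := fun i =>
      congrArg Subtype.val (congrFun (LinearMap.mem_ker.1 hvk) i)
    clear hvk
    suffices key : ∀ q : P, f v (q : ι → F) = 0 from key ⟨p, hp⟩
    intro q
    have := b.mem_span q
    induction this using Submodule.span_induction with
    | mem q hq => obtain ⟨i, rfl⟩ := hq; exact hi i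
    | zero => exact zero_right' E.uni v
    | add q q' _ _ hq hq' => rw [Submodule.coe_add, add_right' E.uni, hq, hq', add_zero]
    | smul c q _ hq => rw [Submodule.coe_smul, coe_smul_eq, smul_right' E.uni, hq, mul_zero]
  have h3 := Submodule.finrank_mono hle
  rw [Submodule.finrank_map_subtype_eq] at h3
  omega

omit [Fintype ι] [DecidableEq ι] [Finite F] E in
theorem finrank_span_pair_le {F : Type*} [Field F] {F₀ : Subfield F} (a b : ι → F) :
    Module.finrank F₀ (Submodule.span F₀ ({a, b} : Set (ι → F))) ≤ 2 := by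
  classical
  have h := finrank_span_le_card (R := F₀) ({a, b} : Set (ι → F))
  rw [Set.toFinset_insert, Set.toFinset_singleton] at h
  have h2 : ({a, b} : Finset (ι → F)).card ≤ 2 := Finset.card_le_two
  omega

omit [Fintype ι] [DecidableEq ι] [Finite F] E in
theorem span_pair_le {a b : ι → F} (ha : a ∈ R₀) (hb : b ∈ R₀) : Submodule.span F₀ ({a, b} : Set (ι → F)) ≤ R₀ :=
  Submodule.span_le.2 fun x hx => by
    rcases hx with rfl | rfl
    · exact ha
    · exact hb

/-- The radical of a space of dimension at most four containing two non-orthogonal isotropic vectors. -/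
theorem finrank_rad_le {P : Submodule F₀ (ι → F)} (hd : Module.finrank F₀ P ≤ 4) {x y : ι → F} (hx : x ∈ P)
    (hy : y ∈ P) (hxx : f x x = 0) (hyy : f y y = 0) (hyx : f y x ≠ 0) :
    Module.finrank F₀ (P ⊓ perpAll E.uni R₀ P : Submodule F₀ (ι → F)) ≤ 2 := by
  obtain ⟨Q, hQ⟩ : ∃ Q, Q = Submodule.span F₀ (Set.range ![x, y]) := ⟨_, rfl⟩
  have hind : LinearIndependent F₀ ![x, y] := by
    rw [LinearIndependent.pair_iff]
    intro s t h
    have hxy : f x y ≠ 0 := fun h0 => hyx ((eq_zero_comm E.uni).1 h0)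
    have h1 := congrArg (fun v => f v x) h
    have h2 := congrArg (fun v => f v y) h
    simp only [coe_smul_eq, E.uni.add_left, E.uni.smul_left, hxx, hyy, zero_left' E.uni, mul_zero, zero_add,
      add_zero, mul_eq_zero, hyx, hxy, or_false] at h1 h2
    exact ⟨Subtype.ext h2, Subtype.ext h1⟩
  have hQP : Q ≤ P := hQ ▸ Submodule.span_le.2 (by rintro _ ⟨i, rfl⟩; fin_cases i <;> assumption)
  have hdis : (P ⊓ perpAll E.uni R₀ P) ⊓ Q = ⊥ := by
    refine eq_bot_iff.2 fun v hv => ?_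
    obtain ⟨⟨-, -, hv1⟩, hv2⟩ := hv
    rw [hQ, SetLike.mem_coe, Submodule.mem_span_range_iff_exists_fun] at hv2
    obtain ⟨c, rfl⟩ := hv2
    have hxy : f x y ≠ 0 := fun h0 => hyx ((eq_zero_comm E.uni).1 h0)
    have h1 := hv1 x hx
    have h2 := hv1 y hy
    simp only [Fin.sum_univ_two, coe_smul_eq, E.uni.add_left, E.uni.smul_left, Matrix.cons_val_zero,
      Matrix.cons_val_one, hxx, hyy, mul_zero, zero_add, add_zero, mul_eq_zero, hyx, hxy, or_false] at h1 h2
    simp [coe_smul_eq, h1, h2]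
  have h := Submodule.finrank_sup_add_finrank_inf_eq (P ⊓ perpAll E.uni R₀ P) Q
  have h1 := Submodule.finrank_mono (sup_le (inf_le_left : P ⊓ perpAll E.uni R₀ P ≤ P) hQP)
  rw [hdis, finrank_bot] at h
  have h2 : Module.finrank F₀ Q = 2 := by rw [hQ, finrank_span_eq_card hind, Fintype.card_fin]
  omega

/-- An isotropic vector outside a given subspace. -/
theorem exists_iso_notMem {k : ℕ} (hk : ∀ S ≤ R₀, k ≤ Module.finrank F₀ S → ∃ u ∈ S, u ≠ 0 ∧ f u u = 0)
    {S P : Submodule F₀ (ι → F)} (hS : S ≤ R₀)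
    (hd : Module.finrank F₀ (P ⊓ S : Submodule F₀ (ι → F)) + k ≤ Module.finrank F₀ S) :
    ∃ u ∈ S, u ≠ 0 ∧ f u u = 0 ∧ u ∉ P := by
  obtain ⟨C, hC⟩ := Submodule.exists_isCompl (P.comap S.subtype)
  have h1 := Submodule.finrank_add_eq_of_isCompl hC
  have h2 : Module.finrank F₀ (P.comap S.subtype) ≤ Module.finrank F₀ (P ⊓ S : Submodule F₀ (ι → F)) := by
    rw [← Submodule.finrank_map_subtype_eq S (P.comap S.subtype)]
    exact Submodule.finrank_mono (le_inf (Submodule.map_comap_le _ _) (Submodule.map_subtype_le S _))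
  obtain ⟨u, hu, hu0, huu⟩ := hk (C.map S.subtype)
    ((Submodule.map_subtype_le S C).trans hS) (by rw [Submodule.finrank_map_subtype_eq]; omega)
  obtain ⟨⟨u, huS⟩, huC, rfl⟩ := Submodule.mem_map.1 hu
  refine ⟨u, huS, hu0, huu, fun hP => hu0 ?_⟩
  have : (⟨u, huS⟩ : S) ∈ P.comap S.subtype ⊓ C := ⟨hP, huC⟩
  rw [hC.inf_eq_bot, Submodule.mem_bot] at this
  exact congrArg Subtype.val this

/-- A rational space on which all vectors are isotropic is totally isotropic. -/
theorem orth_of_iso {S : Submodule F₀ (ι → F)} (hS : S ≤ R₀) (h : ∀ w ∈ S, f w w = 0) :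
    ∀ a ∈ S, ∀ b ∈ S, f a b = 0 := by
  intro a ha b hb
  by_contra hne
  obtain ⟨e, he, heq⟩ := E.trace 1 (one_mem F₀) (map_one σ)
  have ht : e / f a b ∈ F₀ := div_mem he (E.rat a (hS ha) b (hS hb))
  have hba : f b a = σ (f a b) := E.uni.herm b a
  have hne' : σ (f a b) ≠ 0 := (map_ne_zero_iff _ σ.injective).2 hne
  have h0 := h ((e / f a b) • a + b) (S.add_mem (smul_mem_rat ht ha) hb)
  rw [E.uni.add_left, add_right' E.uni, add_right' E.uni, E.uni.smul_left, E.uni.smul_left, smul_right' E.uni,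
    smul_right' E.uni, h a ha, h b hb, hba, map_div₀, div_mul_cancel₀ _ hne, div_mul_cancel₀ _ hne', mul_zero,
    mul_zero, zero_add, add_zero, heq] at h0
  exact one_ne_zero h0

/-- An anisotropic vector orthogonal to a small subspace. -/
theorem exists_aniso_perpAll {P : Submodule F₀ (ι → F)} (hP : P ≤ R₀)
    (hd : Module.finrank F₀ P + Module.finrank F₀ (P ⊓ perpAll E.uni R₀ P : Submodule F₀ (ι → F)) <
      Module.finrank F₀ R₀) : ∃ w ∈ perpAll E.uni R₀ P, f w w ≠ 0 := by
  by_contra hcon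
  simp only [not_exists, not_and, not_not] at hcon
  have hts := E.orth_of_iso (S := perpAll E.uni R₀ P) (fun r hr => hr.1) hcon
  have hle : perpAll E.uni R₀ P ≤ P := by
    intro a ha
    by_contra haP
    obtain ⟨r, hr, hrP, hra⟩ := E.exists_sep hP ha.1 haP
    exact one_ne_zero (hra.symm.trans (hts r ⟨hr, hrP⟩ a ha))
  have h1 := E.finrank_le_perpAll hP
  have h2 := Submodule.finrank_mono (le_inf hle le_rfl : perpAll E.uni R₀ P ≤ P ⊓ perpAll E.uni R₀ P)
  omega

variable {M : Subgroup (GL ι F)} (O : Over σ f R₀ M)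
include O

/-- Products of two root elements with centre `z`: the maps `x ↦ x + f(x,w) z - f(x,z) w + κ f(x,z) z`. -/
theorem exists_siegel {z w : ι → F} (hz : z ∈ R₀) (hz0 : z ≠ 0) (hzz : f z z = 0) (hw : w ∈ R₀)
    (hwz : f w z = 0) :
    ∃ κ ∈ F₀, ∀ γ ∈ F₀, ∃ h ∈ M, ∀ x,
      (h : Matrix ι ι F) *ᵥ x = x + f x w • z - f x z • w + ((σ γ - γ + κ) * f x z) • z := by
  obtain ⟨a, b, ha, hb, haa, hbb, haz, hbz, rfl⟩ : ∃ a b, a ∈ R₀ ∧ b ∈ R₀ ∧ f a a = 0 ∧ f b b = 0 ∧ f a z = 0 ∧
      f b z = 0 ∧ a + b = w := by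
    by_cases hww : f w w = 0
    · exact ⟨w, 0, hw, R₀.zero_mem, hww, zero_left' E.uni 0, hwz, zero_left' E.uni z, add_zero w⟩
    obtain ⟨u, hu, huu, huz, huw⟩ : ∃ u ∈ R₀, f u u = 0 ∧ f u z = 0 ∧ f u w ≠ 0 := by
      by_contra hcon
      simp only [not_exists, not_and, not_not] at hcon
      refine hww ?_
      have key : ∀ y, y ∈ Submodule.span F₀ {s | s ∈ R₀ ∧ f s s = 0 ∧ f s z = 0} → f y w = 0 := by
        intro y hy
        induction hy using Submodule.span_induction with
        | mem s hs => exact hcon s hs.1 hs.2.1 hs.2.2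
        | zero => exact zero_left' E.uni w
        | add a b _ _ ha hb => rw [E.uni.add_left, ha, hb, add_zero]
        | smul t a _ ha => rw [coe_smul_eq, E.uni.smul_left, ha, mul_zero]
      exact key w (E.mem_span_iso_perp hz hz0 hzz hw hwz)
    obtain ⟨t, ht, hte⟩ := E.trace (f w w) (E.rat w hw w hw) (self_fixed E.uni w)
    obtain ⟨a, had⟩ : ∃ a, a = (t / f u w) • u := ⟨_, rfl⟩
    have haR : a ∈ R₀ := had ▸ smul_mem_rat (div_mem ht (E.rat u hu w hw)) hu
    have haa : f a a = 0 := by rw [had, E.uni.smul_left, smul_right' E.uni, huu]; ring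
    have haw : f a w = t := by rw [had, E.uni.smul_left, div_mul_cancel₀ _ huw]
    have haz : f a z = 0 := by rw [had, E.uni.smul_left, huz, mul_zero]
    refine ⟨a, w - a, haR, R₀.sub_mem hw haR, haa, ?_, haz, ?_, add_sub_cancel a w⟩
    · rw [sub_left' E.uni, sub_right' E.uni, sub_right' E.uni, haa, haw, E.uni.herm w a, haw]
      linear_combination -hte
    · rw [sub_left' E.uni, hwz, haz, sub_zero]
  refine ⟨-f b a, neg_mem (E.rat b hb a ha), fun γ hγ => ?_⟩
  have hza : f z a = 0 := (eq_zero_comm E.uni).1 haz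
  have hzb : f z b = 0 := (eq_zero_comm E.uni).1 hbz
  have ha'a' : f (a + γ • z) (a + γ • z) = 0 := by
    rw [E.uni.add_left, add_right' E.uni, add_right' E.uni, E.uni.smul_left, E.uni.smul_left, smul_right' E.uni,
      smul_right' E.uni, haa, haz, hza, hzz]
    ring
  have hza' : f z (a + γ • z) = 0 := by rw [add_right' E.uni, smul_right' E.uni, hza, hzz]; ring
  refine ⟨uX σ f z (a + γ • z) 1 * uX σ f z b 1,
    M.mul_mem (O.root z hz _ (R₀.add_mem ha (smul_mem_rat hγ hz)) hzz ha'a' hza') (O.root z hz b hb hzz hbb hzb),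
    fun x => ?_⟩
  rw [mul_mulVec, uX_mulVec E.uni ha'a' hza', uX_mulVec E.uni hbb hzb, map_one]
  simp only [one_mul, E.uni.add_left, sub_left' E.uni, E.uni.smul_left, add_right' E.uni, smul_right' E.uni, hzz, hza,
    hbz, mul_zero, add_zero, sub_zero]
  module

variable (hT : Tight σ f R₀ M)
include hT

/-- An image of a rational isotropic point in the span of few rational vectors is a rational point. -/
theorem isPoint_of_small {m : GL ι F} (hm : m ∈ M) {w : ι → F} (hw : w ∈ R₀) (hww : f w w = 0)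
    {P : Submodule F₀ (ι → F)} (hP : P ≤ R₀) (hdP : Module.finrank F₀ P + Module.finrank F₀ (P ⊓ perpAll E.uni R₀ P : Submodule F₀ (ι → F)) + 3 ≤
      Module.finrank F₀ R₀)
    (hv : (m : Matrix ι ι F) *ᵥ w ∈ Submodule.span F (P : Set (ι → F))) :
    IsPoint R₀ ((m : Matrix ι ι F) *ᵥ w) := by
  obtain ⟨v, hvd⟩ : ∃ v, v = (m : Matrix ι ι F) *ᵥ w := ⟨_, rfl⟩
  rw [← hvd] at hv ⊢
  have hi := O.iso m hm
  have hvv : f v v = 0 := by rw [hvd, hi]; exact hww
  rcases eq_or_ne w 0 with rfl | hw0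
  · exact ⟨0, R₀.zero_mem, 1, by rw [hvd, mulVec_zero, smul_zero]⟩
  obtain ⟨S, hSd⟩ : ∃ S, S = perpAll E.uni R₀ P := ⟨_, rfl⟩
  have hS : S ≤ R₀ := fun r hr => by rw [hSd] at hr; exact hr.1
  have hSP : ∀ s ∈ S, ∀ p ∈ P, f s p = 0 := fun s hs p hp => by rw [hSd] at hs; exact hs.2 p hp
  have hdimS : Module.finrank F₀ R₀ ≤ Module.finrank F₀ S + Module.finrank F₀ P := by
    rw [hSd]; exact E.finrank_le_perpAll hP
  rw [← hSd] at hdP
  have hSv : ∀ s ∈ S, f s v = 0 := by
    intro s hs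
    clear hvd hvv
    induction hv using Submodule.span_induction with
    | mem a ha => exact hSP s hs a ha
    | zero => exact zero_right' E.uni s
    | add a b _ _ ha hb => rw [add_right' E.uni, ha, hb, add_zero]
    | smul t a _ ha => rw [smul_right' E.uni, ha, mul_zero]
  -- a hyperbolic pair in `S`
  obtain ⟨u, hu, hu0, huu, huP⟩ := E.exists_iso_notMem E.iso3 (P := P) hS (by omega)
  obtain ⟨r, hr, hrP, hru⟩ := E.exists_sep hP (hS hu) huP
  obtain ⟨zu, hzu, hzuu, hzu1, -⟩ := E.exists_partner hS hu (show r ∈ S by rw [hSd]; exact ⟨hr, hrP⟩) huu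
    (by rw [hru]; exact one_ne_zero)
  -- some image is not orthogonal to an isotropic vector of `S`
  obtain ⟨w', hw', hw'w', hw'w, s, hs, hss, ⟨rs, hrs, hrss⟩, hne⟩ : ∃ w' ∈ R₀, f w' w' = 0 ∧ f w' w = 0 ∧
      ∃ s ∈ S, f s s = 0 ∧ (∃ r ∈ S, f r s ≠ 0) ∧ f s ((m : Matrix ι ι F) *ᵥ w') ≠ 0 := by
    by_contra hcon
    simp only [not_exists, not_and, not_not] at hcon
    have key : ∀ s ∈ S, ∃ c : F, s = c • v := by
      intro s hs
      obtain ⟨c, hc⟩ := E.mem_line_of_perp hw hw0 (z := ((m⁻¹ : GL ι F) : Matrix ι ι F) *ᵥ s) (fun p hp hpw => by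
        rw [← hi, mulVec_inv_cancel, eq_zero_comm E.uni]
        have hspan := E.mem_span_iso_perp hw hw0 hww hp hpw
        clear hp hpw
        induction hspan using Submodule.span_induction with
        | mem a ha =>
          have hall := E.mem_span_paired hS hu hzu huu hzuu hzu1 hs
          clear hs
          induction hall using Submodule.span_induction with
          | mem b hb =>
            obtain ⟨hb1, hb2, rb, hrb1, hrb2⟩ := hb
            exact hcon a ha.1 ha.2.1 ha.2.2 b hb1 hb2 ⟨rb, hrb1, hrb2⟩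
          | zero => exact zero_left' E.uni _
          | add a b _ _ ha hb => rw [E.uni.add_left, ha, hb, add_zero]
          | smul t a _ ha => rw [coe_smul_eq, E.uni.smul_left, ha, mul_zero]
        | zero => rw [mulVec_zero]; exact zero_right' E.uni s
        | add a b _ _ ha hb => rw [mulVec_add, add_right' E.uni, ha, hb, add_zero]
        | smul t a _ ha => rw [coe_smul_eq, mulVec_smul, smul_right' E.uni, ha, mul_zero])
      refine ⟨c, ?_⟩
      rw [hvd, ← mulVec_smul, ← hc, mulVec_inv_cancel]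
    obtain ⟨c, hc⟩ := key u hu
    obtain ⟨c', hc'⟩ := key zu hzu
    rw [hc, hc', E.uni.smul_left, smul_right' E.uni, hvv, mul_zero, mul_zero] at hzu1
    exact zero_ne_one hzu1
  obtain ⟨l, hld⟩ : ∃ l, l = (m : Matrix ι ι F) *ᵥ w' := ⟨_, rfl⟩
  rw [← hld] at hne
  have hll : f l l = 0 := by rw [hld, hi]; exact hw'w'
  have hvl : f v l = 0 := by rw [hvd, hld, hi]; exact (eq_zero_comm E.uni).1 hw'w
  have hroot : uX σ f v l 1 ∈ M := by
    rw [hvd, hld, ← conj_uX E.uni hi ((eq_zero_comm E.uni).1 hw'w)]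
    exact M.mul_mem (M.mul_mem hm (O.root w hw w' hw' hww hw'w' ((eq_zero_comm E.uni).1 hw'w))) (M.inv_mem hm)
  obtain ⟨z, hz, hzz, hzs, hsz⟩ := E.exists_partner hS hs hrs hss hrss
  have hsR := hS hs
  have hzR := hS hz
  have hs0 : s ≠ 0 := fun h0 => hrss (by rw [h0]; exact zero_right' E.uni rs)
  obtain ⟨P', hP'⟩ : ∃ P', P' = P ⊔ Submodule.span F₀ {s} := ⟨_, rfl⟩
  have hsP : s ∈ P' := hP' ▸ Submodule.mem_sup_right (Submodule.mem_span_singleton_self s)
  obtain ⟨y, hy, hyy⟩ := E.exists_aniso_perpAll (P := P')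
    (hP' ▸ sup_le hP (Submodule.span_le.2 (Set.singleton_subset_iff.2 hsR))) (by
      have hspan : Module.finrank F₀ (Submodule.span F₀ {s}) ≤ 1 := (finrank_span_singleton hs0).le
      have hrad : P' ⊓ perpAll E.uni R₀ P' ≤ (P ⊓ perpAll E.uni R₀ P) ⊔ Submodule.span F₀ {s} := by
        rintro u ⟨huP', -, huperp⟩
        rw [hP', SetLike.mem_coe] at huP'
        obtain ⟨p, hp, t, ht, rfl⟩ := Submodule.mem_sup.1 huP'
        refine Submodule.add_mem_sup ⟨hp, hP hp, fun p' hp' => ?_⟩ ht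
        obtain ⟨b, rfl⟩ := Submodule.mem_span_singleton.1 ht
        have h1 := huperp p' (hP' ▸ Submodule.mem_sup_left hp')
        rwa [E.uni.add_left, coe_smul_eq, E.uni.smul_left, hSP s hs p' hp', mul_zero, add_zero] at h1
      have h1 := Submodule.finrank_mono hrad
      have h2 := Submodule.finrank_add_le_finrank_add_finrank (P ⊓ perpAll E.uni R₀ P) (Submodule.span F₀ {s})
      have h3 : Module.finrank F₀ P' ≤ Module.finrank F₀ P + Module.finrank F₀ (Submodule.span F₀ {s}) :=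
        hP' ▸ Submodule.finrank_add_le_finrank_add_finrank P (Submodule.span F₀ {s})
      rw [← hSd] at h1 h2
      omega)
  have hyS : y ∈ S := by
    rw [hSd]
    exact ⟨hy.1, fun p hp => hy.2 p (hP' ▸ Submodule.mem_sup_left hp)⟩
  have hys : f y s = 0 := hy.2 s hsP
  have hsy : f s y = 0 := (eq_zero_comm E.uni).1 hys
  have hvs : f v s = 0 := (eq_zero_comm E.uni).1 (hSv s hs)
  have hvy : f v y = 0 := (eq_zero_comm E.uni).1 (hSv y hyS)
  obtain ⟨κ, -, hκ⟩ := E.exists_siegel O hsR hs0 hss hy.1 hys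
  obtain ⟨h, hhM, happ⟩ := hκ 0 (zero_mem F₀)
  simp only [map_zero, sub_zero, zero_add] at happ
  have hhv : (h : Matrix ι ι F) *ᵥ v = v := by rw [happ, hvs, hvy]; simp
  obtain ⟨d, hd⟩ : ∃ d, d = (h : Matrix ι ι F) *ᵥ l - l := ⟨_, rfl⟩
  have hde : d = (f l y + κ * f l s) • s - f l s • y := by rw [hd, happ]; module
  have hhll : f ((h : Matrix ι ι F) *ᵥ l) ((h : Matrix ι ι F) *ᵥ l) = 0 := by rw [O.iso h hhM]; exact hll
  have hds : f d s = 0 := by rw [hde, sub_left' E.uni, E.uni.smul_left, E.uni.smul_left, hss, hys]; ring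
  have hdy : f d y = -(f l s * f y y) := by
    rw [hde, sub_left' E.uni, E.uni.smul_left, E.uni.smul_left, hsy]; ring
  -- double difference along `s`
  have hdiff : (h : Matrix ι ι F) *ᵥ d - d = (-(f l s * f y y)) • s := by rw [happ, hdy, hds]; module
  have hm2 := uX_diff_twice E.uni hhM (O.iso h hhM) hvv hhv hll hvl hroot hd.symm hdiff
    (by rw [E.uni.smul_left, smul_right' E.uni, hss]; ring) (by rw [smul_right' E.uni, hds, mul_zero])
  rw [uX_smul_right E.uni hss hvs, one_mul, uX_comm E.uni hss hvv (hSv s hs),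
    E.uni.involutive, uX_one E.uni hvv (hSv s hs), neg_neg] at hm2
  obtain ⟨k, hk⟩ : ∃ k, k = σ (f l s * f y y) := ⟨_, rfl⟩
  rw [← hk] at hm2
  have hk0 : k ≠ 0 := hk ▸ (map_ne_zero_iff _ σ.injective).2
    (mul_ne_zero (fun h0 => hne ((eq_zero_comm E.uni).1 h0)) hyy)
  obtain ⟨q, hq, t, hqt⟩ := hT s hsR hs0 hss (k • v)
    (by rw [E.uni.smul_left, smul_right' E.uni, hvv, mul_zero, mul_zero])
    (by rw [smul_right' E.uni, hSv s hs, mul_zero]) hm2
  have hqm : q ∈ Submodule.span F ((P ⊔ Submodule.span F₀ {s} : Submodule F₀ (ι → F)) : Set (ι → F)) := by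
    rw [eq_sub_of_add_eq hqt.symm]
    refine Submodule.sub_mem _ (Submodule.smul_mem _ _ (Submodule.span_mono ?_ hv)) (Submodule.smul_mem _ _
      (Submodule.subset_span (Submodule.mem_sup_right (Submodule.mem_span_singleton_self s))))
    exact fun a ha => Submodule.mem_sup_left ha
  have hq' := E.mem_of_mem_span (sup_le hP (Submodule.span_le.2 (Set.singleton_subset_iff.2 hsR))) hq hqm
  obtain ⟨p, hp, _, hb, hpq⟩ := Submodule.mem_sup.1 hq'
  obtain ⟨b, rfl⟩ := Submodule.mem_span_singleton.1 hb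
  rw [← hpq, coe_smul_eq, add_assoc, ← add_smul] at hqt
  have hz0 := congrArg (f z) hqt
  rw [smul_right' E.uni, hSv z hz, mul_zero, add_right' E.uni, smul_right' E.uni, hSP z hz p hp, hzs, zero_add,
    mul_one] at hz0
  rw [(map_eq_zero_iff _ σ.injective).1 hz0.symm, zero_smul, add_zero] at hqt
  exact ⟨p, hP hp, k⁻¹, by rw [← hqt, smul_smul, inv_mul_cancel₀ hk0, one_smul]⟩

/-- An image of a rational isotropic point in a rational totally isotropic line is a rational point. -/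
theorem isPoint_of_line {m : GL ι F} (hm : m ∈ M) {w : ι → F} (hw : w ∈ R₀) (hw0 : w ≠ 0) (hww : f w w = 0)
    {a b : ι → F} (ha : a ∈ R₀) (hb : b ∈ R₀) (haa : f a a = 0) (hbb : f b b = 0) (hab : f a b = 0)
    (hv : (m : Matrix ι ι F) *ᵥ w ∈ Submodule.span F ({a, b} : Set (ι → F))) :
    IsPoint R₀ ((m : Matrix ι ι F) *ᵥ w) := by
  obtain ⟨v, hvd⟩ : ∃ v, v = (m : Matrix ι ι F) *ᵥ w := ⟨_, rfl⟩
  rw [← hvd] at hv ⊢
  have hi := O.iso m hm
  have hvv : f v v = 0 := by rw [hvd, hi]; exact hww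
  have hba : f b a = 0 := (eq_zero_comm E.uni).1 hab
  by_contra hnp
  obtain ⟨α, β, hαβ⟩ := Submodule.mem_span_pair.1 hv
  have hα : α ≠ 0 := fun h0 => hnp ⟨b, hb, β, by rw [← hαβ, h0, zero_smul, zero_add]⟩
  have hβ : β ≠ 0 := fun h0 => hnp ⟨a, ha, α, by rw [← hαβ, h0, zero_smul, add_zero]⟩
  have hind : a ∉ Submodule.span F₀ {b} := fun h => by
    obtain ⟨c, hc⟩ := Submodule.mem_span_singleton.1 h
    exact hnp ⟨b, hb, α * c + β, by rw [← hαβ, ← hc, coe_smul_eq, smul_smul, add_smul]⟩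
  have hind' : b ∉ Submodule.span F₀ {a} := fun h => by
    obtain ⟨c, hc⟩ := Submodule.mem_span_singleton.1 h
    exact hnp ⟨a, ha, α + β * c, by rw [← hαβ, ← hc, coe_smul_eq, smul_smul, add_smul]⟩
  -- an image paired with `b`
  obtain ⟨w', hw', hw'w', hw'w, hne⟩ : ∃ w' ∈ R₀, f w' w' = 0 ∧ f w' w = 0 ∧
      f ((m : Matrix ι ι F) *ᵥ w') b ≠ 0 := by
    by_contra hcon
    simp only [not_exists, not_and, not_not] at hcon
    obtain ⟨c, hc⟩ := E.mem_line_of_perp hw hw0 (z := ((m⁻¹ : GL ι F) : Matrix ι ι F) *ᵥ b) (fun p hp hpw => by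
      rw [← hi, mulVec_inv_cancel]
      have hspan := E.mem_span_iso_perp hw hw0 hww hp hpw
      clear hp hpw
      induction hspan using Submodule.span_induction with
      | mem a ha => exact hcon a ha.1 ha.2.1 ha.2.2
      | zero => rw [mulVec_zero]; exact zero_left' E.uni b
      | add a b' _ _ ha hb' => rw [mulVec_add, E.uni.add_left, ha, hb', add_zero]
      | smul t a _ ha => rw [coe_smul_eq, mulVec_smul, E.uni.smul_left, ha, mul_zero])
    have hbv : b = c • v := by rw [hvd, ← mulVec_smul, ← hc, mulVec_inv_cancel]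
    have hc0 : c ≠ 0 := fun h0 => hind' (by rw [hbv, h0, zero_smul]; exact Submodule.zero_mem _)
    exact hnp ⟨b, hb, c⁻¹, by rw [hbv, smul_smul, inv_mul_cancel₀ hc0, one_smul]⟩
  obtain ⟨l, hld⟩ : ∃ l, l = (m : Matrix ι ι F) *ᵥ w' := ⟨_, rfl⟩
  rw [← hld] at hne
  have hll : f l l = 0 := by rw [hld, hi]; exact hw'w'
  have hvl : f v l = 0 := by rw [hvd, hld, hi]; exact (eq_zero_comm E.uni).1 hw'w
  have hroot : uX σ f v l 1 ∈ M := by
    rw [hvd, hld, ← conj_uX E.uni hi ((eq_zero_comm E.uni).1 hw'w)]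
    exact M.mul_mem (M.mul_mem hm (O.root w hw w' hw' hww hw'w' ((eq_zero_comm E.uni).1 hw'w))) (M.inv_mem hm)
  obtain ⟨y, hy, hyy⟩ := E.exists_aniso_perpAll (span_pair_le (F₀ := F₀) ha hb) (by
    have h1 := finrank_span_pair_le (F₀ := F₀) a b
    have h2 := Submodule.finrank_mono (inf_le_left : Submodule.span F₀ ({a, b} : Set (ι → F)) ⊓
      perpAll E.uni R₀ (Submodule.span F₀ ({a, b} : Set (ι → F))) ≤ _)
    have := E.dim
    omega)
  have hya : f y a = 0 := hy.2 a (Submodule.subset_span (by simp))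
  have hyb : f y b = 0 := hy.2 b (Submodule.subset_span (by simp))
  -- the information from the point `a + t • b`
  have hkey : ∀ t ∈ F₀, (β - t * α) * (f l a + σ t * f l b) ≠ 0 →
      (β - t * α) * (σ ((f l a + σ t * f l b) * f y y)) ∈ F₀ := by
    intro t ht hne'
    obtain ⟨p, hp⟩ : ∃ p, p = a + t • b := ⟨_, rfl⟩
    have hpR : p ∈ R₀ := hp ▸ R₀.add_mem ha (smul_mem_rat ht hb)
    have hp0 : p ≠ 0 := fun h0 => hind (Submodule.mem_span_singleton.2 ⟨-⟨t, ht⟩, by
      rw [neg_smul, coe_smul_eq]; exact (eq_neg_of_add_eq_zero_left (hp.symm.trans h0)).symm⟩)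
    have hpp : f p p = 0 := by
      simp only [hp, E.uni.add_left, add_right' E.uni, E.uni.smul_left, smul_right' E.uni, haa, hbb, hab, hba]
      ring
    have hbp : f b p = 0 := by
      simp only [hp, add_right' E.uni, smul_right' E.uni, hbb, hba, mul_zero, add_zero]
    have hap : f a p = 0 := by
      simp only [hp, add_right' E.uni, smul_right' E.uni, haa, hab, mul_zero, add_zero]
    have hyp : f y p = 0 := by
      simp only [hp, add_right' E.uni, smul_right' E.uni, hya, hyb, mul_zero, add_zero]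
    have hpy : f p y = 0 := (eq_zero_comm E.uni).1 hyp
    have hvp : f v p = 0 := by rw [← hαβ, E.uni.add_left, E.uni.smul_left, E.uni.smul_left, hap, hbp]; ring
    have hvy : f v y = 0 := by
      rw [← hαβ, E.uni.add_left, E.uni.smul_left, E.uni.smul_left, (eq_zero_comm E.uni).1 hya,
        (eq_zero_comm E.uni).1 hyb]
      ring
    have hlp : f l p = f l a + σ t * f l b := by rw [hp, add_right' E.uni, smul_right' E.uni]
    obtain ⟨κ, -, hκ⟩ := E.exists_siegel O hpR hp0 hpp hy.1 hyp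
    obtain ⟨h, hhM, happ⟩ := hκ 0 (zero_mem F₀)
    simp only [map_zero, sub_zero, zero_add] at happ
    have hhv : (h : Matrix ι ι F) *ᵥ v = v := by rw [happ, hvp, hvy]; simp
    obtain ⟨d, hd⟩ : ∃ d, d = (h : Matrix ι ι F) *ᵥ l - l := ⟨_, rfl⟩
    have hde : d = (f l y + κ * f l p) • p - f l p • y := by rw [hd, happ]; module
    have hdp : f d p = 0 := by rw [hde, sub_left' E.uni, E.uni.smul_left, E.uni.smul_left, hpp, hyp]; ring
    have hdy : f d y = -(f l p * f y y) := by
      rw [hde, sub_left' E.uni, E.uni.smul_left, E.uni.smul_left, hpy]; ring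
    have hdiff : (h : Matrix ι ι F) *ᵥ d - d = (-(f l p * f y y)) • p := by rw [happ, hdy, hdp]; module
    have hm2 := uX_diff_twice E.uni hhM (O.iso h hhM) hvv hhv hll hvl hroot hd.symm hdiff
      (by rw [E.uni.smul_left, smul_right' E.uni, hpp]; ring) (by rw [smul_right' E.uni, hdp, mul_zero])
    have hpv : f p v = 0 := (eq_zero_comm E.uni).1 hvp
    rw [uX_smul_right E.uni hpp hvp, one_mul, uX_comm E.uni hpp hvv hpv,
      E.uni.involutive, uX_one E.uni hvv hpv, neg_neg] at hm2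
    obtain ⟨k, hk⟩ : ∃ k, k = σ (f l p * f y y) := ⟨_, rfl⟩
    rw [← hk] at hm2
    obtain ⟨r, hr, s, hrs⟩ := hT p hpR hp0 hpp (k • v)
      (by rw [E.uni.smul_left, smul_right' E.uni, hvv, mul_zero, mul_zero])
      (by rw [smul_right' E.uni, hpv, mul_zero]) hm2
    -- coordinates of `r`
    obtain ⟨ra, hra, hra', hraa⟩ :=
      E.exists_sep (Submodule.span_le.2 (Set.singleton_subset_iff.2 hb)) ha hind
    obtain ⟨rb, hrb, hrb', hrbb⟩ :=
      E.exists_sep (Submodule.span_le.2 (Set.singleton_subset_iff.2 ha)) hb hind'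
    have hab0 := hra' b (Submodule.mem_span_singleton_self b)
    have hba0 := hrb' a (Submodule.mem_span_singleton_self a)
    have e1 := congrArg (fun z => f z ra) hrs
    have e2 := congrArg (fun z => f z rb) hrs
    have haR : f a ra = 1 := by rw [E.uni.herm, hraa, map_one]
    have hbR : f b rb = 1 := by rw [E.uni.herm, hrbb, map_one]
    simp only [← hαβ, hp, E.uni.smul_left, E.uni.add_left, haR, hbR, (eq_zero_comm E.uni).1 hab0,
      (eq_zero_comm E.uni).1 hba0, mul_zero, mul_one, add_zero, zero_add] at e1 e2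
    have : (β - t * α) * k = f r rb - t * f r ra := by linear_combination e2 - t * e1
    rw [← hlp, ← hk, this]
    exact sub_mem (E.rat r hr rb hrb) (mul_mem ht (E.rat r hr ra hra))
  obtain ⟨x, hxd⟩ : ∃ x, x = β / α := ⟨_, rfl⟩
  refine hnp ?_
  suffices hx : x ∈ F₀ by
    exact ⟨a + x • b, R₀.add_mem ha (smul_mem_rat hx hb), α, by
      rw [← hαβ, smul_add, smul_smul, hxd, mul_div_cancel₀ _ hα]⟩
  have hla : f l a = -(σ x * f l b) := by
    have h1 : f l v = 0 := (eq_zero_comm E.uni).1 hvl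
    rw [← hαβ, add_right' E.uni, smul_right' E.uni, smul_right' E.uni] at h1
    rw [hxd, map_div₀]
    have hα' : σ α ≠ 0 := (map_ne_zero_iff _ σ.injective).2 hα
    field_simp
    linear_combination h1
  have hy' : σ (f y y) = f y y := self_fixed E.uni y
  have hyR : f y y ∈ F₀ := E.rat y hy.1 y hy.1
  obtain ⟨G, hG⟩ : ∃ G, G = α * σ (f l b) := ⟨_, rfl⟩
  have hsq : ∀ t ∈ F₀, (x - t) * (x - t) * G ∈ F₀ := by
    intro t ht
    by_cases hxt : x - t = 0
    · rw [hxt, zero_mul, zero_mul]; exact zero_mem F₀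
    have hσxt : σ t - σ x ≠ 0 := by
      rw [← map_sub, Ne, map_eq_zero_iff _ σ.injective, sub_eq_zero]
      exact fun h => hxt (by rw [h, sub_self])
    have hbt : β - t * α = (x - t) * α := by rw [hxd]; field_simp
    have hlt : f l a + σ t * f l b = (σ t - σ x) * f l b := by rw [hla]; ring
    have h1 := hkey t ht (by rw [hbt, hlt]; exact mul_ne_zero (mul_ne_zero hxt hα) (mul_ne_zero hσxt hne))
    rw [hbt, hlt, map_mul, map_mul, map_sub, E.uni.involutive, E.uni.involutive, hy'] at h1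
    have h2 := neg_mem (div_mem h1 hyR)
    convert h2 using 1
    rw [hG]
    field_simp
    ring
  have h0 := hsq 0 (zero_mem F₀)
  have h1 := hsq 1 (one_mem F₀)
  rw [sub_zero] at h0
  have hG0 : G ≠ 0 := hG ▸ mul_ne_zero hα ((map_ne_zero_iff _ σ.injective).2 hne)
  by_cases hchar : (2 : F) = 0
  · have hGm : G ∈ F₀ := by
      have := sub_mem h1 h0
      convert this using 1
      linear_combination (x * G) * hchar
    have hxx : x * x ∈ F₀ := by
      have := div_mem h0 hGm
      rwa [mul_div_assoc, div_self hG0, mul_one] at this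
    obtain ⟨⟨r, hr⟩, hrr⟩ := Finite.surjective_of_injective (f := fun r : F₀ => r * r) (fun u u' huu => by
      have h' : (u : F) * u = u' * u' := by simpa using congrArg Subtype.val huu
      have e : ((u : F) - u') * ((u : F) - u') = 0 := by
        linear_combination h' + ((u' : F) * u' - u * u') * hchar
      exact Subtype.ext (sub_eq_zero.1 (mul_self_eq_zero.1 e))) ⟨x * x, hxx⟩
    have h' : r * r = x * x := by simpa using congrArg Subtype.val hrr
    have e : (x - r) * (x - r) = 0 := by linear_combination (r * r - x * r) * hchar - h'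
    rw [sub_eq_zero.1 (mul_self_eq_zero.1 e)]
    exact hr
  · have hm1 := hsq (-1) (neg_mem (one_mem F₀))
    have hGm : G ∈ F₀ := by
      have := div_mem (add_mem (sub_mem h1 h0) (sub_mem hm1 h0)) (ofNat_mem F₀ 2)
      convert this using 1
      field_simp
      ring
    have hxG : (x * G) ∈ F₀ := by
      have := div_mem (sub_mem hm1 h1) (mul_mem (ofNat_mem F₀ 2) (ofNat_mem F₀ 2))
      convert this using 1
      field_simp
      ring
    have := div_mem hxG hGm
    rwa [mul_div_assoc, div_self hG0, mul_one] at this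

/-- An image of a rational isotropic point in the span of two rational vectors is a rational point. -/
theorem isPoint_of_pair {m : GL ι F} (hm : m ∈ M) {w : ι → F} (hw : w ∈ R₀) (hww : f w w = 0)
    {a b : ι → F} (ha : a ∈ R₀) (hb : b ∈ R₀)
    (hv : (m : Matrix ι ι F) *ᵥ w ∈ Submodule.span F ({a, b} : Set (ι → F))) :
    IsPoint R₀ ((m : Matrix ι ι F) *ᵥ w) := by
  rcases eq_or_ne w 0 with rfl | hw0
  · exact ⟨0, R₀.zero_mem, 1, by rw [mulVec_zero, smul_zero]⟩
  obtain ⟨P, hP⟩ : ∃ P, P = Submodule.span F₀ ({a, b} : Set (ι → F)) := ⟨_, rfl⟩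
  have hdP : Module.finrank F₀ P ≤ 2 := hP ▸ finrank_span_pair_le a b
  by_cases hrad : Module.finrank F₀ (P ⊓ perpAll E.uni R₀ P : Submodule F₀ (ι → F)) ≤ 1
  · refine E.isPoint_of_small O hT hm hw hww (hP ▸ span_pair_le ha hb) (by have := E.dim; omega) ?_
    exact Submodule.span_mono (hP ▸ Submodule.subset_span) hv
  have hsub : P ≤ perpAll E.uni R₀ P :=
    inf_eq_left.1 (Submodule.eq_of_le_of_finrank_le inf_le_left (by omega))
  have hma : a ∈ P := hP ▸ Submodule.subset_span (by simp)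
  have hmb : b ∈ P := hP ▸ Submodule.subset_span (by simp)
  exact E.isPoint_of_line O hT hm hw hw0 hww ha hb ((hsub hma).2 a hma) ((hsub hmb).2 b hmb) ((hsub hma).2 b hmb) hv

/-- An element of `M` mapping one rational isotropic point to a rational point preserves the structure up to a
scalar. -/
theorem preserve_of_point {m : GL ι F} (hm : m ∈ M) {x : ι → F} (hx : x ∈ R₀) (hx0 : x ≠ 0) (hxx : f x x = 0)
    (hmx : IsPoint R₀ ((m : Matrix ι ι F) *ᵥ x)) :
    ∃ l : F, ∀ r ∈ R₀, ∃ r' ∈ R₀, (m : Matrix ι ι F) *ᵥ r = l • r' := by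
  have hi := O.iso m hm
  have step : ∀ x, x ∈ R₀ → x ≠ 0 → f x x = 0 → IsPoint R₀ ((m : Matrix ι ι F) *ᵥ x) →
      ∀ w, w ∈ R₀ → f w w = 0 → f x w = 0 → IsPoint R₀ ((m : Matrix ι ι F) *ᵥ w) := by
    intro x hx hx0 hxx hp w hw hww hxw
    obtain ⟨x', hx', l, hl⟩ := hp
    have hl0 : l ≠ 0 := fun h0 => mulVec_ne_zero m hx0 (by rw [hl, h0, zero_smul])
    have hx'0 : x' ≠ 0 := fun h0 => mulVec_ne_zero m hx0 (by rw [hl, h0, smul_zero])
    have hmw : f ((m : Matrix ι ι F) *ᵥ w) ((m : Matrix ι ι F) *ᵥ w) = 0 := by rw [hi]; exact hww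
    have hx'w : f x' ((m : Matrix ι ι F) *ᵥ w) = 0 := by
      have := hi x w
      rw [hl, E.uni.smul_left, hxw, mul_eq_zero] at this
      exact this.resolve_left hl0
    have hx'x' : f x' x' = 0 := by
      have := hi x x
      rw [hl, E.uni.smul_left, smul_right' E.uni, hxx, ← mul_assoc, mul_eq_zero] at this
      exact this.resolve_left (mul_ne_zero hl0 ((map_ne_zero_iff _ σ.injective).2 hl0))
    have hmem := M.mul_mem (M.mul_mem hm (O.root x hx w hw hxx hww hxw)) (M.inv_mem hm)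
    rw [conj_uX E.uni hi hxw, hl, uX_smul_left E.uni hmw hx'w, one_mul, uX_one E.uni hmw hx'w] at hmem
    obtain ⟨r, hr, s, hrs⟩ := hT x' hx' hx'0 hx'x' (σ l • (m : Matrix ι ι F) *ᵥ w)
      (by rw [E.uni.smul_left, smul_right' E.uni, hmw, mul_zero, mul_zero])
      (by rw [smul_right' E.uni, hx'w, mul_zero]) hmem
    refine E.isPoint_of_pair O hT hm hw hww hr hx' ?_
    refine (Submodule.smul_mem_iff _ ((map_ne_zero_iff _ σ.injective).2 hl0)).1 ?_
    rw [hrs]
    exact Submodule.add_mem _ (Submodule.subset_span (by simp))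
      (Submodule.smul_mem _ _ (Submodule.subset_span (by simp)))
  have hperp2 : ∀ a ∈ R₀, ∀ b ∈ R₀, ∃ p ∈ R₀, p ≠ 0 ∧ f p p = 0 ∧ f p a = 0 ∧ f p b = 0 := by
    intro a ha b hb
    obtain ⟨p, hp, hp0, hpp⟩ := E.iso3 (perpIn E.uni (perpIn E.uni R₀ a) b)
      ((E.perpIn_le b).trans (E.perpIn_le a)) (by
        have h1 := E.finrank_le_perpIn le_rfl ha
        have h2 := E.finrank_le_perpIn (E.perpIn_le (S := R₀) a) hb
        have := E.dim
        omega)
    exact ⟨p, hp.1.1, hp0, hpp, hp.1.2, hp.2⟩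
  have hall : ∀ u ∈ R₀, f u u = 0 → IsPoint R₀ ((m : Matrix ι ι F) *ᵥ u) := by
    intro u hu huu
    obtain ⟨p, hp, hp0, hpp, hpx, hpu⟩ := hperp2 x hx u hu
    exact step p hp hp0 hpp (step x hx hx0 hxx hmx p hp hpp ((eq_zero_comm E.uni).1 hpx)) u hu huu hpu
  obtain ⟨x', hx', l, hl⟩ := hmx
  -- scalars of two points with a common non-orthogonal neighbour
  have link : ∀ a ∈ R₀, ∀ b ∈ R₀, a ≠ 0 → b ≠ 0 → f a a = 0 → f b b = 0 → f a b = 0 → ∀ la : F, ∀ a' ∈ R₀,
      (m : Matrix ι ι F) *ᵥ a = la • a' → ∃ b' ∈ R₀, (m : Matrix ι ι F) *ᵥ b = la • b' := by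
    intro a ha b hb ha0 hb0 haa hbb hab la a' ha' hla
    by_cases hba : b ∈ Submodule.span F₀ {a}
    · obtain ⟨c, rfl⟩ := Submodule.mem_span_singleton.1 hba
      exact ⟨(c : F) • a', smul_mem_rat c.2 ha', by rw [coe_smul_eq, mulVec_smul, hla, smul_comm]⟩
    have hab' : a ∉ Submodule.span F₀ {b} := fun h => by
      obtain ⟨c, hc⟩ := Submodule.mem_span_singleton.1 h
      rcases eq_or_ne c 0 with rfl | hc0
      · exact ha0 (by rw [← hc, zero_smul])
      · exact hba (Submodule.mem_span_singleton.2 ⟨c⁻¹, by rw [← hc, smul_smul, inv_mul_cancel₀ hc0, one_smul]⟩)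
    obtain ⟨r₁, hr₁, hr₁', hr₁a⟩ :=
      E.exists_sep (Submodule.span_le.2 (Set.singleton_subset_iff.2 hb)) ha hab'
    obtain ⟨r₂, hr₂, hr₂', hr₂b⟩ :=
      E.exists_sep (Submodule.span_le.2 (Set.singleton_subset_iff.2 ha)) hb hba
    obtain ⟨y, hy⟩ : ∃ y, y = r₁ + r₂ := ⟨_, rfl⟩
    have hyR : y ∈ R₀ := hy ▸ R₀.add_mem hr₁ hr₂
    have hya : f y a = 1 := by
      rw [hy, E.uni.add_left, hr₁a, hr₂' a (Submodule.mem_span_singleton_self a), add_zero]
    have hyb : f y b = 1 := by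
      rw [hy, E.uni.add_left, hr₂b, hr₁' b (Submodule.mem_span_singleton_self b), zero_add]
    obtain ⟨t, ht, htr⟩ := E.trace (-f y y) (neg_mem (E.rat y hyR y hyR)) (by rw [map_neg, self_fixed E.uni])
    obtain ⟨w, hw⟩ : ∃ w, w = y + t • a := ⟨_, rfl⟩
    have hwR : w ∈ R₀ := hw ▸ R₀.add_mem hyR (smul_mem_rat ht ha)
    have hay : f a y = 1 := by rw [E.uni.herm, hya, map_one]
    have hww : f w w = 0 := by
      simp only [hw, E.uni.add_left, add_right' E.uni, E.uni.smul_left, smul_right' E.uni, hya, hay, haa]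
      linear_combination htr
    have hwa : f w a = 1 := by rw [hw, E.uni.add_left, E.uni.smul_left, hya, haa]; ring
    have hwb : f w b = 1 := by rw [hw, E.uni.add_left, E.uni.smul_left, hyb, hab]; ring
    obtain ⟨b', hb', lb, hlb⟩ := hall b hb hbb
    obtain ⟨w', hw', lw, hlw⟩ := hall w hwR hww
    have e1 := hi w a
    have e2 := hi w b
    rw [hlw, hla, E.uni.smul_left, smul_right' E.uni, hwa] at e1
    rw [hlw, hlb, E.uni.smul_left, smul_right' E.uni, hwb] at e2
    have hne1 : lw * (σ la * f w' a') ≠ 0 := by rw [e1]; exact one_ne_zero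
    have hne2 : lw * (σ lb * f w' b') ≠ 0 := by rw [e2]; exact one_ne_zero
    have hla0 : la ≠ 0 := fun h => mulVec_ne_zero m ha0 (by rw [hla, h, zero_smul])
    have hc : σ lb / σ la = f w' a' / f w' b' := by
      rw [div_eq_div_iff ((map_ne_zero_iff _ σ.injective).2 hla0)
        (right_ne_zero_of_mul (right_ne_zero_of_mul hne2))]
      refine mul_left_cancel₀ (left_ne_zero_of_mul hne1) ?_
      linear_combination e2 - e1
    have hmem : lb / la ∈ F₀ := by
      have := E.stable _ (div_mem (E.rat w' hw' a' ha') (E.rat w' hw' b' hb'))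
      rwa [← hc, map_div₀, E.uni.involutive, E.uni.involutive] at this
    refine ⟨(lb / la) • b', smul_mem_rat hmem hb', ?_⟩
    rw [hlb, smul_smul, mul_div_cancel₀ _ hla0]
  refine ⟨l, fun r hr => ?_⟩
  have hsp := E.mem_span_iso hr
  clear hr
  induction hsp using Submodule.span_induction with
  | mem u hu =>
    rcases eq_or_ne u 0 with rfl | hu0
    · exact ⟨0, R₀.zero_mem, by rw [mulVec_zero, smul_zero]⟩
    by_cases hxu : f x u = 0
    · exact link x hx u hu.1 hx0 hu0 hxx hu.2 hxu l x' hx' hl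
    · obtain ⟨p, hp, hp0, hpp, hpx, hpu⟩ := hperp2 x hx u hu.1
      obtain ⟨p', hp', hlp⟩ := link x hx p hp hx0 hp0 hxx hpp ((eq_zero_comm E.uni).1 hpx) l x' hx' hl
      exact link p hp u hu.1 hp0 hu0 hpp hu.2 hpu l p' hp' hlp
  | zero => exact ⟨0, R₀.zero_mem, by rw [mulVec_zero, smul_zero]⟩
  | add a b _ _ ha hb =>
    obtain ⟨a', ha', hae⟩ := ha
    obtain ⟨b', hb', hbe⟩ := hb
    exact ⟨a' + b', R₀.add_mem ha' hb', by rw [mulVec_add, hae, hbe, smul_add]⟩
  | smul c a _ ha =>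
    obtain ⟨a', ha', hae⟩ := ha
    exact ⟨(c : F) • a', smul_mem_rat c.2 ha', by rw [coe_smul_eq, mulVec_smul, hae, smul_comm]⟩

end Setting

end CfsgLib.Classical22.UnitSubfield
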