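/-
A non-rational root element with rational centre gives all unitary transvections.
-/
import Cfsg.Agent.Lib.Classical22.UnitSubfieldKey

set_option autoImplicit false

namespace CfsgLib.Classical22.UnitSubfield

open Matrix CfsgLib.Transvec CfsgLib.Transvec.Unitary
open scoped MatrixGroups

variable {ι : Type} [Fintype ι] [DecidableEq ι] {F : Type*} [Field F] [Finite F]
variable {σ : F ≃+* F} {f : (ι → F) → (ι → F) → F} {F₀ : Subfield F} {R₀ : Submodule F₀ (ι → F)}

/-- Two rational isotropic vectors spanning a totally isotropic line. -/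
structure IsPair (f : (ι → F) → (ι → F) → F) (R₀ : Submodule F₀ (ι → F)) (p q : ι → F) : Prop where
  mem₁ : p ∈ R₀
  mem₂ : q ∈ R₀
  iso₁ : f p p = 0
  iso₂ : f q q = 0
  orth : f p q = 0
  indep₁ : p ∉ Submodule.span F₀ {q}
  indep₂ : q ∉ Submodule.span F₀ {p}

/-- The scalars of all rational lines. -/
def scalSet (σ : F ≃+* F) (f : (ι → F) → (ι → F) → F) (R₀ : Submodule F₀ (ι → F)) (M : Subgroup (GL ι F)) :
    Set F :=
  {μ | ∀ p q, IsPair f R₀ p q → uX σ f p q μ ∈ M}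

namespace Setting

variable (E : Setting σ f F₀ R₀)
include E

theorem isPair_symm {p q : ι → F} (h : IsPair f R₀ p q) : IsPair f R₀ q p :=
  ⟨h.mem₂, h.mem₁, h.iso₂, h.iso₁, (eq_zero_comm E.uni).1 h.orth, h.indep₂, h.indep₁⟩

omit E in
theorem isPair_of_notMem {p b : ι → F} (hp : p ∈ R₀) (hb : b ∈ R₀) (hpp : f p p = 0) (hbb : f b b = 0)
    (h : f p b = 0) (hp0 : p ≠ 0) {P : Submodule F₀ (ι → F)} (hpP : p ∈ P) (hbP : b ∉ P) :
    IsPair f R₀ p b := by
  have h2 : b ∉ Submodule.span F₀ {p} := fun hm =>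
    hbP ((Submodule.span_le.2 (Set.singleton_subset_iff.2 hpP)) hm)
  refine ⟨hp, hb, hpp, hbb, h, fun hm => ?_, h2⟩
  obtain ⟨c, hc⟩ := Submodule.mem_span_singleton.1 hm
  rcases eq_or_ne c 0 with rfl | hc0
  · exact hp0 (by rw [← hc, zero_smul])
  · exact h2 (Submodule.mem_span_singleton.2 ⟨c⁻¹, by rw [← hc, smul_smul, inv_mul_cancel₀ hc0, one_smul]⟩)

/-- A hyperbolic pair orthogonal to a small subspace, its first member outside it. -/
theorem exists_pair_perp {k : ℕ} (hk : ∀ S ≤ R₀, k ≤ Module.finrank F₀ S → ∃ u ∈ S, u ≠ 0 ∧ f u u = 0)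
    {P : Submodule F₀ (ι → F)} (hP : P ≤ R₀)
    (hd : Module.finrank F₀ P + Module.finrank F₀ (P ⊓ perpAll E.uni R₀ P : Submodule F₀ (ι → F)) + k ≤
      Module.finrank F₀ R₀) :
    ∃ a b, a ∈ perpAll E.uni R₀ P ∧ b ∈ perpAll E.uni R₀ P ∧ f a a = 0 ∧ f b b = 0 ∧ f b a = 1 ∧ f a b = 1 ∧
      a ∉ P := by
  have hS : perpAll E.uni R₀ P ≤ R₀ := fun r hr => hr.1
  obtain ⟨a, ha, -, haa, haP⟩ := E.exists_iso_notMem hk (P := P) hS (by
    have := E.finrank_le_perpAll hP
    omega)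
  obtain ⟨r, hr, hrP, hra⟩ := E.exists_sep hP (hS ha) haP
  obtain ⟨b, hb, hbb, hba, hab⟩ := E.exists_partner hS ha (show r ∈ perpAll E.uni R₀ P from ⟨hr, hrP⟩) haa
    (by rw [hra]; exact one_ne_zero)
  exact ⟨a, b, ha, hb, haa, hbb, hba, hab, haP⟩

/-- A hyperbolic pair orthogonal to a non-zero vector. -/
theorem exists_pair_perp_one {x : ι → F} (hx : x ∈ R₀) :
    ∃ a b, a ∈ perpAll E.uni R₀ (Submodule.span F₀ {x}) ∧ b ∈ perpAll E.uni R₀ (Submodule.span F₀ {x}) ∧
      f a a = 0 ∧ f b b = 0 ∧ f b a = 1 ∧ f a b = 1 ∧ a ∉ Submodule.span F₀ {x} :=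
  E.exists_pair_perp E.iso3 (Submodule.span_le.2 (Set.singleton_subset_iff.2 hx)) (by
    have h1 : Module.finrank F₀ (Submodule.span F₀ ({x} : Set (ι → F))) ≤ 1 :=
      (finrank_span_le_card _).trans (by simp)
    have := Submodule.finrank_mono (inf_le_left : Submodule.span F₀ ({x} : Set (ι → F)) ⊓
      perpAll E.uni R₀ (Submodule.span F₀ {x}) ≤ _)
    have := E.dim
    omega)

/-- An isotropic vector orthogonal to `p` pairing with two given ones. -/
theorem exists_iso_two {p q q' : ι → F} (hpq : IsPair f R₀ p q) (hpq' : IsPair f R₀ p q') :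
    ∃ z ∈ R₀, f z z = 0 ∧ f z p = 0 ∧ f z q ≠ 0 ∧ f z q' ≠ 0 := by
  have hp0 : p ≠ 0 := fun h => hpq.indep₁ (h ▸ Submodule.zero_mem _)
  have hqp : f q p = 0 := (eq_zero_comm E.uni).1 hpq.orth
  have hq'p : f q' p = 0 := (eq_zero_comm E.uni).1 hpq'.orth
  have single : ∀ w, IsPair f R₀ p w → ∃ z ∈ R₀, f z z = 0 ∧ f z p = 0 ∧ f z w ≠ 0 := by
    intro w hw
    by_contra hcon
    simp only [not_exists, not_and, not_not] at hcon
    have key : ∀ y, y ∈ Submodule.span F₀ {s | s ∈ R₀ ∧ f s s = 0 ∧ f s p = 0} → f y w = 0 := by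
      intro y hy
      induction hy using Submodule.span_induction with
      | mem s hs => exact hcon s hs.1 hs.2.1 hs.2.2
      | zero => exact zero_left' E.uni w
      | add a b _ _ ha hb => rw [E.uni.add_left, ha, hb, add_zero]
      | smul t a _ ha => rw [coe_smul_eq, E.uni.smul_left, ha, mul_zero]
    obtain ⟨r, hr, hrp, hrw⟩ :=
      E.exists_sep (Submodule.span_le.2 (Set.singleton_subset_iff.2 hpq.mem₁)) hw.mem₂ hw.indep₂
    exact one_ne_zero (hrw.symm.trans (key r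
      (E.mem_span_iso_perp hpq.mem₁ hp0 hpq.iso₁ hr (hrp p (Submodule.mem_span_singleton_self p)))))
  by_cases hqq : f q q' = 0
  · have hq'q : f q' q = 0 := (eq_zero_comm E.uni).1 hqq
    obtain ⟨z1, hz1, hz1z1, hz1p, hz1q⟩ := single q hpq
    obtain ⟨z2, hz2, hz2z2, hz2p, hz2q⟩ := single q' hpq'
    by_cases h1 : f z1 q' = 0
    swap
    · exact ⟨z1, hz1, hz1z1, hz1p, hz1q, h1⟩
    by_cases h2 : f z2 q = 0
    swap
    · exact ⟨z2, hz2, hz2z2, hz2p, h2, hz2q⟩
    have hc : f z1 z2 + f z2 z1 ∈ F₀ := add_mem (E.rat _ hz1 _ hz2) (E.rat _ hz2 _ hz1)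
    obtain ⟨t, ht, htr⟩ := E.trace (-(f z1 z2 + f z2 z1)) (neg_mem hc)
      (by rw [map_neg, map_add, ← E.uni.herm, ← E.uni.herm]; ring)
    have hqz1 : f q z1 ≠ 0 := fun h => hz1q ((eq_zero_comm E.uni).1 h)
    have hθ : t / f q z1 ∈ F₀ := div_mem ht (E.rat q hpq.mem₂ z1 hz1)
    refine ⟨z1 + z2 + (t / f q z1) • q, R₀.add_mem (R₀.add_mem hz1 hz2) (smul_mem_rat hθ hpq.mem₂), ?_, ?_, ?_, ?_⟩
    · simp only [E.uni.add_left, add_right' E.uni, E.uni.smul_left, smul_right' E.uni, hz1z1, hz2z2, hpq.iso₂,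
        (eq_zero_comm E.uni).1 h2, h2, map_div₀]
      rw [← E.uni.herm z1 q, div_mul_cancel₀ _ hz1q, div_mul_cancel₀ _ hqz1]
      linear_combination htr
    · simp only [E.uni.add_left, E.uni.smul_left, hz1p, hz2p, hqp]; ring
    · simp only [E.uni.add_left, E.uni.smul_left, h2, hpq.iso₂, mul_zero, add_zero]; exact hz1q
    · simp only [E.uni.add_left, E.uni.smul_left, h1, hqq, mul_zero, add_zero, zero_add]; exact hz2q
  · have hq'q : f q' q ≠ 0 := fun h => hqq ((eq_zero_comm E.uni).1 h)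
    obtain ⟨P, hP⟩ : ∃ P, P = Submodule.span F₀ ({q, q'} : Set (ι → F)) ⊔ Submodule.span F₀ {p} := ⟨_, rfl⟩
    have hPR : P ≤ R₀ := hP ▸ sup_le (span_pair_le hpq.mem₂ hpq'.mem₂)
      (Submodule.span_le.2 (Set.singleton_subset_iff.2 hpq.mem₁))
    have hmq : q ∈ P := hP ▸ Submodule.mem_sup_left (Submodule.subset_span (by simp))
    have hmq' : q' ∈ P := hP ▸ Submodule.mem_sup_left (Submodule.subset_span (by simp))
    have hmp : p ∈ P := hP ▸ Submodule.mem_sup_right (Submodule.mem_span_singleton_self p)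
    obtain ⟨v, hv, hvv⟩ := E.exists_aniso_perpAll hPR (by
      have h1 : Module.finrank F₀ P ≤ 3 := by
        rw [hP]
        refine (Submodule.finrank_add_le_finrank_add_finrank _ _).trans ?_
        have := finrank_span_pair_le (F₀ := F₀) q q'
        have : Module.finrank F₀ (Submodule.span F₀ ({p} : Set (ι → F))) ≤ 1 :=
          (finrank_span_le_card _).trans (by simp)
        omega
      have h2 := E.finrank_rad_le (P := P) (by omega) hmq' hmq hpq'.iso₂ hpq.iso₂ hqq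
      have := E.dim
      omega)
    obtain ⟨t, ht, htr⟩ := E.trace (-f v v) (neg_mem (E.rat v hv.1 v hv.1)) (by rw [map_neg, self_fixed E.uni])
    have hθ : t / f q q' ∈ F₀ := div_mem ht (E.rat q hpq.mem₂ q' hpq'.mem₂)
    have ht0 : t ≠ 0 := fun h0 => hvv (by rw [h0, map_zero, add_zero] at htr; linear_combination htr)
    have hvq := hv.2 q hmq
    have hvq' := hv.2 q' hmq'
    refine ⟨(t / f q q') • q + q' + v, R₀.add_mem (R₀.add_mem (smul_mem_rat hθ hpq.mem₂) hpq'.mem₂) hv.1,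
      ?_, ?_, ?_, ?_⟩
    · simp only [E.uni.add_left, add_right' E.uni, E.uni.smul_left, smul_right' E.uni, hpq.iso₂, hpq'.iso₂, hvq, hvq',
        (eq_zero_comm E.uni).1 hvq, (eq_zero_comm E.uni).1 hvq', map_div₀]
      rw [← E.uni.herm q' q, div_mul_cancel₀ _ hqq, div_mul_cancel₀ _ hq'q]
      linear_combination htr
    · simp only [E.uni.add_left, E.uni.smul_left, hqp, hq'p, hv.2 p hmp]; ring
    · simp only [E.uni.add_left, E.uni.smul_left, hpq.iso₂, hvq, mul_zero, add_zero, zero_add]; exact hq'q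
    · simp only [E.uni.add_left, E.uni.smul_left, hpq'.iso₂, hvq', add_zero, div_mul_cancel₀ _ hqq]; exact ht0

variable {M : Subgroup (GL ι F)} (O : Over σ f R₀ M)
include O

theorem root_scalar {a b : ι → F} (ha : a ∈ R₀) (hb : b ∈ R₀) (haa : f a a = 0) (hbb : f b b = 0) (hab : f a b = 0)
    {μ : F} (hμ : μ ∈ F₀) : uX σ f a b μ ∈ M := by
  rw [uX_one E.uni hbb hab]
  exact O.root a ha _ (smul_mem_rat (E.stable μ hμ) hb) haa
    (by rw [E.uni.smul_left, smul_right' E.uni, hbb, mul_zero, mul_zero])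
    (by rw [smul_right' E.uni, hab, mul_zero])

theorem second_step {p q q' : ι → F} (hpq : IsPair f R₀ p q) (hpq' : IsPair f R₀ p q') (hqq' : f q q' ≠ 0)
    {μ : F} (hm : uX σ f p q μ ∈ M) : uX σ f p q' μ ∈ M := by
  have hq'q : f q' q ≠ 0 := fun h => hqq' ((eq_zero_comm E.uni).1 h)
  have hqp : f q p = 0 := (eq_zero_comm E.uni).1 hpq.orth
  have hq'p : f q' p = 0 := (eq_zero_comm E.uni).1 hpq'.orth
  -- a centre pairing equally with both
  obtain ⟨v, hv, hvq, hvq', hvp, hvv⟩ : ∃ v ∈ R₀, f v q = 0 ∧ f v q' = 0 ∧ f v p = 0 ∧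
      f v v = -(f q q' + f q' q) := by
    obtain ⟨c, hc⟩ : ∃ c, c = f q q' + f q' q := ⟨_, rfl⟩
    have hcR : c ∈ F₀ := hc ▸ add_mem (E.rat q hpq.mem₂ q' hpq'.mem₂) (E.rat q' hpq'.mem₂ q hpq.mem₂)
    have hcσ : σ c = c := by rw [hc, map_add, ← E.uni.herm, ← E.uni.herm, add_comm]
    rw [← hc]
    obtain ⟨P, hP⟩ : ∃ P, P = Submodule.span F₀ ({q, q'} : Set (ι → F)) ⊔ Submodule.span F₀ {p} := ⟨_, rfl⟩
    have hPR : P ≤ R₀ := hP ▸ sup_le (span_pair_le hpq.mem₂ hpq'.mem₂)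
      (Submodule.span_le.2 (Set.singleton_subset_iff.2 hpq.mem₁))
    have hmq : q ∈ P := hP ▸ Submodule.mem_sup_left (Submodule.subset_span (by simp))
    have hmq' : q' ∈ P := hP ▸ Submodule.mem_sup_left (Submodule.subset_span (by simp))
    have hmp : p ∈ P := hP ▸ Submodule.mem_sup_right (Submodule.mem_span_singleton_self p)
    have hdP : Module.finrank F₀ P ≤ 3 := by
      rw [hP]
      refine (Submodule.finrank_add_le_finrank_add_finrank _ _).trans ?_
      have := finrank_span_pair_le (F₀ := F₀) q q'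
      have : Module.finrank F₀ (Submodule.span F₀ ({p} : Set (ι → F))) ≤ 1 :=
        (finrank_span_le_card _).trans (by simp)
      omega
    obtain ⟨t, ht⟩ : ∃ t, t = q + q' := ⟨_, rfl⟩
    have htR : t ∈ R₀ := ht ▸ R₀.add_mem hpq.mem₂ hpq'.mem₂
    have htt : f t t = c := by
      simp only [ht, hc, E.uni.add_left, add_right' E.uni, hpq.iso₂, hpq'.iso₂]; ring
    by_cases hc0 : c = 0
    · exact ⟨0, R₀.zero_mem, zero_left' E.uni q, zero_left' E.uni q', zero_left' E.uni p,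
        by rw [hc0, neg_zero, zero_left' E.uni]⟩
    obtain ⟨S, hS⟩ : ∃ S, S = perpAll E.uni R₀ P ⊔ Submodule.span F₀ {t} := ⟨_, rfl⟩
    have hSR : S ≤ R₀ :=
      hS ▸ sup_le (fun r hr => hr.1) (Submodule.span_le.2 (Set.singleton_subset_iff.2 htR))
    have htD : t ∉ perpAll E.uni R₀ P := fun h => hqq' (by
      have := h.2 q' hmq'
      rwa [ht, E.uni.add_left, hpq'.iso₂, add_zero] at this)
    have hdim : Module.finrank F₀ R₀ ≤ Module.finrank F₀ S + 2 := by
      have hlt : perpAll E.uni R₀ P < S := lt_of_le_of_ne (hS ▸ le_sup_left) fun h => htD (by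
        rw [h, hS]; exact Submodule.mem_sup_right (Submodule.mem_span_singleton_self t))
      have := Submodule.finrank_lt_finrank_of_lt hlt
      have := E.finrank_le_perpAll hPR
      omega
    obtain ⟨u, hu, -, huu, hup⟩ := E.exists_iso_notMem E.iso3 (P := Submodule.span F₀ {p}) hSR (by
      have := Submodule.finrank_mono (inf_le_left : Submodule.span F₀ {p} ⊓ S ≤ _)
      have : Module.finrank F₀ (Submodule.span F₀ ({p} : Set (ι → F))) ≤ 1 :=
        (finrank_span_le_card _).trans (by simp)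
      have := E.dim
      omega)
    rw [hS] at hu
    obtain ⟨d, hd, _, ht', rfl⟩ := Submodule.mem_sup.1 hu
    obtain ⟨⟨l, hl⟩, rfl⟩ := Submodule.mem_span_singleton.1 ht'
    rw [coe_smul_eq] at huu hup
    change f (d + l • t) (d + l • t) = 0 at huu
    change d + l • t ∉ _ at hup
    have hdt : f d t = 0 := by rw [ht, add_right' E.uni, hd.2 q hmq, hd.2 q' hmq', add_zero]
    by_cases hl0 : l = 0
    · -- an isotropic vector outside the radical
      rw [hl0, zero_smul, add_zero] at huu hup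
      have hdP' : d ∉ P := by
        intro hdP'
        rw [hP] at hdP'
        obtain ⟨x, hx, y, hy, rfl⟩ := Submodule.mem_sup.1 hdP'
        obtain ⟨⟨i, hi⟩, ⟨j, hj⟩, rfl⟩ := Submodule.mem_span_pair.1 hx
        obtain ⟨⟨m, hm⟩, rfl⟩ := Submodule.mem_span_singleton.1 hy
        have h1 := hd.2 q hmq
        have h2 := hd.2 q' hmq'
        simp only [coe_smul_eq, E.uni.add_left, E.uni.smul_left, hpq.iso₂, hpq'.iso₂, hpq.orth, hpq'.orth, mul_zero,
          zero_add, add_zero, mul_eq_zero, hqq', hq'q, or_false] at h1 h2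
        refine hup (Submodule.mem_span_singleton.2 ⟨⟨m, hm⟩, ?_⟩)
        simp [coe_smul_eq, h1, h2]
      obtain ⟨r, hr, hrP, hrd⟩ := E.exists_sep hPR hd.1 hdP'
      obtain ⟨w, hw, hww, hwd, hdw⟩ := E.exists_partner (fun x (hx : x ∈ perpAll E.uni R₀ P) => hx.1) hd
        (show r ∈ perpAll E.uni R₀ P from ⟨hr, hrP⟩) huu (by rw [hrd]; exact one_ne_zero)
      obtain ⟨s, hs, hse⟩ := E.trace (-c) (neg_mem hcR) (by rw [map_neg, hcσ])
      refine ⟨w + s • d, R₀.add_mem hw.1 (smul_mem_rat hs hd.1), ?_, ?_, ?_, ?_⟩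
      · rw [E.uni.add_left, E.uni.smul_left, hw.2 q hmq, hd.2 q hmq]; ring
      · rw [E.uni.add_left, E.uni.smul_left, hw.2 q' hmq', hd.2 q' hmq']; ring
      · rw [E.uni.add_left, E.uni.smul_left, hw.2 p hmp, hd.2 p hmp]; ring
      · simp only [E.uni.add_left, add_right' E.uni, E.uni.smul_left, smul_right' E.uni, hww, huu, hwd, hdw]
        linear_combination hse
    · refine ⟨l⁻¹ • d, smul_mem_rat (inv_mem hl) hd.1, by rw [E.uni.smul_left, hd.2 q hmq, mul_zero],
        by rw [E.uni.smul_left, hd.2 q' hmq', mul_zero], by rw [E.uni.smul_left, hd.2 p hmp, mul_zero], ?_⟩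
      simp only [E.uni.add_left, add_right' E.uni, E.uni.smul_left, smul_right' E.uni, hdt,
        (eq_zero_comm E.uni).1 hdt, htt] at huu
      have hσl : σ l ≠ 0 := (map_ne_zero_iff _ σ.injective).2 hl0
      rw [E.uni.smul_left, smul_right' E.uni, map_inv₀]
      field_simp
      linear_combination huu
  obtain ⟨b, hbd⟩ : ∃ b, b = f q q' / f q' q := ⟨_, rfl⟩
  have hbF : b ∈ F₀ := hbd ▸ div_mem (E.rat q hpq.mem₂ q' hpq'.mem₂) (E.rat q' hpq'.mem₂ q hpq.mem₂)
  have hbm : b * f q' q = f q q' := by rw [hbd, div_mul_cancel₀ _ hq'q]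
  have hbm' : σ b * f q q' = f q' q := by
    have := congrArg σ hbm
    rwa [map_mul, ← E.uni.herm, ← E.uni.herm] at this
  obtain ⟨s, hsd⟩ : ∃ s, s = q + b • q' + v := ⟨_, rfl⟩
  have hs : s ∈ R₀ := hsd ▸ R₀.add_mem (R₀.add_mem hpq.mem₂ (smul_mem_rat hbF hpq'.mem₂)) hv
  have hsq : f s q = f q q' := by
    simp only [hsd, E.uni.add_left, E.uni.smul_left, hpq.iso₂, hvq, zero_add, add_zero, hbm]
  have hsq' : f s q' = f q q' := by
    simp only [hsd, E.uni.add_left, E.uni.smul_left, hpq'.iso₂, hvq', mul_zero, add_zero]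
  have hsp : f s p = 0 := by simp only [hsd, E.uni.add_left, E.uni.smul_left, hqp, hq'p, hvp]; ring
  have hss : f s s = 0 := by
    simp only [hsd, E.uni.add_left, add_right' E.uni, E.uni.smul_left, smul_right' E.uni, hpq.iso₂, hpq'.iso₂, hvq, hvq',
      (eq_zero_comm E.uni).1 hvq, (eq_zero_comm E.uni).1 hvq', hvv]
    linear_combination hbm + hbm'
  have hs0 : s ≠ 0 := fun h => hqq' (by rw [← hsq, h, zero_left' E.uni])
  obtain ⟨β, hβ⟩ : ∃ β, β = f q s := ⟨_, rfl⟩
  have hβq' : β = f q' s := by rw [hβ, E.uni.herm, hsq, E.uni.herm q' s, hsq']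
  have hqs : β ≠ 0 := by
    rw [hβ, E.uni.herm, hsq]; exact (map_ne_zero_iff _ σ.injective).2 hqq'
  have hq's : f q' s ≠ 0 := hβq' ▸ hqs
  obtain ⟨r, hr⟩ : ∃ r, r = β / f q' s := ⟨_, rfl⟩
  have hr1 : r = 1 := by rw [hr, hβq', div_self hq's]
  have hβR : β ∈ F₀ := hβ ▸ E.rat q hpq.mem₂ s hs
  have hrF : r ∈ F₀ := hr ▸ div_mem hβR (E.rat q' hpq'.mem₂ s hs)
  have hr0 : r ≠ 0 := hr ▸ div_ne_zero hqs hq's
  obtain ⟨w, hw⟩ : ∃ w, w = β⁻¹ • (q - r • q') := ⟨_, rfl⟩
  have hwR : w ∈ R₀ := hw ▸ smul_mem_rat (inv_mem hβR) (R₀.sub_mem hpq.mem₂ (smul_mem_rat hrF hpq'.mem₂))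
  have hws : f w s = 0 := by
    rw [hw, E.uni.smul_left, sub_left' E.uni, E.uni.smul_left, ← hβ, hr, div_mul_cancel₀ _ hq's, sub_self, mul_zero]
  have hps : f p s = 0 := (eq_zero_comm E.uni).1 hsp
  have hwp : f w p = 0 := by
    rw [hw, E.uni.smul_left, sub_left' E.uni, E.uni.smul_left, (eq_zero_comm E.uni).1 hpq.orth,
      (eq_zero_comm E.uni).1 hpq'.orth]
    ring
  obtain ⟨κ, hκF, hκ⟩ := E.exists_siegel O hs hs0 hss hwR hws
  -- choose the correction so that `q` goes exactly to a multiple of `q'`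
  obtain ⟨B, hB⟩ : ∃ B, B = f q w + κ * β := ⟨_, rfl⟩
  obtain ⟨h₀, hh₀, happ₀⟩ := hκ 0 (zero_mem F₀)
  have hq0 : (h₀ : Matrix ι ι F) *ᵥ q = r • q' + B • s := by
    rw [happ₀, ← hβ, hB, hw, map_zero, sub_zero, zero_add, smul_smul, mul_inv_cancel₀ hqs, one_smul]
    module
  have hskew : B / β + σ (B / β) = 0 := by
    have h1 := O.iso h₀ hh₀ q q
    rw [hq0, hpq.iso₂] at h1
    have hsq'β : f s q' = σ β := by rw [hβq', ← E.uni.herm]
    simp only [E.uni.add_left, add_right' E.uni, E.uni.smul_left, smul_right' E.uni, hss, hpq'.iso₂, hsq'β,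
      ← hβq', hr1, map_one, one_mul, mul_one, mul_zero, add_zero, zero_add] at h1
    have hσβ : σ β ≠ 0 := (map_ne_zero_iff _ σ.injective).2 hqs
    rw [map_div₀, div_add_div _ _ hqs hσβ, div_eq_zero_iff]
    left
    linear_combination h1
  obtain ⟨e, he, hee⟩ := E.trace 1 (one_mem F₀) (map_one σ)
  obtain ⟨γ, hγd⟩ : ∃ γ, γ = B / β * e := ⟨_, rfl⟩
  have hBF : B ∈ F₀ := hB ▸ add_mem (E.rat q hpq.mem₂ w hwR) (mul_mem hκF hβR)
  have hγF : γ ∈ F₀ := hγd ▸ mul_mem (div_mem hBF hβR) he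
  obtain ⟨h, hhM, happ⟩ := hκ γ hγF
  have hγs : (σ γ - γ) * β = -B := by
    have hσB : σ (B / β) = -(B / β) := by linear_combination hskew
    rw [hγd, map_mul, hσB, show σ e = 1 - e by linear_combination hee]
    field_simp
    ring
  have hhq : (h : Matrix ι ι F) *ᵥ q = r • q' := by
    have e2 : (σ γ - γ + κ) * β = -f q w := by rw [add_mul, hγs, hB]; ring
    rw [happ, ← hβ, e2, hw, smul_smul, mul_inv_cancel₀ hqs, one_smul]
    module
  have hhp : (h : Matrix ι ι F) *ᵥ p = p := by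
    rw [happ, hps, (eq_zero_comm E.uni).1 hwp]; simp
  have h1 := M.mul_mem (M.mul_mem hhM hm) (M.inv_mem hhM)
  rwa [conj_uX E.uni (O.iso h hhM) hpq.orth, hhp, hhq, hr1, one_smul] at h1

theorem second_move {p q q' : ι → F} (hpq : IsPair f R₀ p q) (hpq' : IsPair f R₀ p q') {μ : F}
    (hm : uX σ f p q μ ∈ M) : uX σ f p q' μ ∈ M := by
  obtain ⟨z, hz, hzz, hzp, hzq, hzq'⟩ := E.exists_iso_two hpq hpq'
  have hpz : IsPair f R₀ p z := by
    refine isPair_of_notMem hpq.mem₁ hz hpq.iso₁ hzz ((eq_zero_comm E.uni).1 hzp)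
      (fun h => hpq.indep₁ (h ▸ Submodule.zero_mem _)) (Submodule.mem_span_singleton_self p) fun hm => hzq ?_
    obtain ⟨c, rfl⟩ := Submodule.mem_span_singleton.1 hm
    rw [coe_smul_eq, E.uni.smul_left, hpq.orth, mul_zero]
  exact E.second_step O hpz hpq' hzq' (E.second_step O hpq hpz (fun h => hzq ((eq_zero_comm E.uni).1 h)) hm)

theorem mem_scalSet_of_pair {p q : ι → F} (hpq : IsPair f R₀ p q) {μ : F} (hm : uX σ f p q μ ∈ M) :
    μ ∈ scalSet σ f R₀ M := by
  intro p' q' hpq'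
  have hp0 : p ≠ 0 := fun h => hpq.indep₁ (h ▸ Submodule.zero_mem _)
  have hp'0 : p' ≠ 0 := fun h => hpq'.indep₁ (h ▸ Submodule.zero_mem _)
  obtain ⟨b, hb, hbb, hbp, hbp', hpb', hp'b'⟩ : ∃ b ∈ R₀, f b b = 0 ∧ f b p = 0 ∧ f b p' = 0 ∧
      b ∉ Submodule.span F₀ {p} ∧ b ∉ Submodule.span F₀ {p'} := by
    by_cases hdep : p' ∈ Submodule.span F₀ {p}
    · obtain ⟨a, -, ha, -, haa, -, -, -, haP⟩ := E.exists_pair_perp_one hpq.mem₁
      exact ⟨a, ha.1, haa, ha.2 p (Submodule.mem_span_singleton_self p), ha.2 p' hdep, haP,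
        fun h => haP ((Submodule.span_singleton_le_iff_mem _ _).2 hdep h)⟩
    by_cases hpp' : f p p' = 0
    · have hp'p : f p' p = 0 := (eq_zero_comm E.uni).1 hpp'
      refine ⟨p + p', R₀.add_mem hpq.mem₁ hpq'.mem₁, ?_, ?_, ?_, fun h => hdep ?_, fun h => ?_⟩
      · simp only [E.uni.add_left, add_right' E.uni, hpq.iso₁, hpq'.iso₁, hpp', hp'p, add_zero]
      · rw [E.uni.add_left, hpq.iso₁, hp'p, add_zero]
      · rw [E.uni.add_left, hpq'.iso₁, hpp', add_zero]
      · exact ((Submodule.span F₀ {p}).add_mem_iff_right (Submodule.mem_span_singleton_self p)).1 h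
      · obtain ⟨c, hc⟩ := Submodule.mem_span_singleton.1
          (((Submodule.span F₀ {p'}).add_mem_iff_left (Submodule.mem_span_singleton_self p')).1 h)
        rcases eq_or_ne c 0 with rfl | hc0
        · exact hp0 (by rw [← hc, zero_smul])
        · exact hdep (Submodule.mem_span_singleton.2 ⟨c⁻¹, by rw [← hc, inv_smul_smul₀ hc0]⟩)
    · obtain ⟨P, hP⟩ : ∃ P, P = Submodule.span F₀ ({p, p'} : Set (ι → F)) := ⟨_, rfl⟩
      have hmp : p ∈ P := hP ▸ Submodule.subset_span (by simp)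
      have hmp' : p' ∈ P := hP ▸ Submodule.subset_span (by simp)
      obtain ⟨b, hb, hb0, hbb⟩ := E.iso3 (perpAll E.uni R₀ P) (fun r hr => hr.1) (by
        have h1 := E.finrank_le_perpAll (hP ▸ span_pair_le hpq.mem₁ hpq'.mem₁ : P ≤ R₀)
        have h2 : Module.finrank F₀ P ≤ 2 := hP ▸ finrank_span_pair_le p p'
        have := E.dim
        omega)
      refine ⟨b, hb.1, hbb, hb.2 p hmp, hb.2 p' hmp', fun h => ?_, fun h => ?_⟩
      · obtain ⟨c, rfl⟩ := Submodule.mem_span_singleton.1 h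
        have h1 := hb.2 p' hmp'
        rw [coe_smul_eq, E.uni.smul_left, mul_eq_zero, or_iff_left hpp'] at h1
        exact hb0 (by rw [coe_smul_eq, h1, zero_smul])
      · obtain ⟨c, rfl⟩ := Submodule.mem_span_singleton.1 h
        have h1 := hb.2 p hmp
        rw [coe_smul_eq, E.uni.smul_left, mul_eq_zero,
          or_iff_left (fun h0 => hpp' ((eq_zero_comm E.uni).1 h0))] at h1
        exact hb0 (by rw [coe_smul_eq, h1, zero_smul])
  have hpb : IsPair f R₀ p b :=
    isPair_of_notMem hpq.mem₁ hb hpq.iso₁ hbb ((eq_zero_comm E.uni).1 hbp) hp0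
      (Submodule.mem_span_singleton_self p) hpb'
  have hp'b : IsPair f R₀ p' b :=
    isPair_of_notMem hpq'.mem₁ hb hpq'.iso₁ hbb ((eq_zero_comm E.uni).1 hbp') hp'0
      (Submodule.mem_span_singleton_self p') hp'b'
  have h1 := E.second_move O hpq hpb hm
  rw [uX_comm E.uni hbb hpb.iso₁ hbp] at h1
  have h2 := E.second_move O (E.isPair_symm hpb) (E.isPair_symm hp'b) h1
  rw [← uX_comm E.uni hbb hp'b.iso₁ hbp'] at h2
  exact E.second_move O hp'b hpq' h2

theorem scalSet_mul (hiso2 : ∀ S ≤ R₀, 2 ≤ Module.finrank F₀ S → ∃ u ∈ S, u ≠ 0 ∧ f u u = 0)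
    {c d : F} (hc : c ∈ scalSet σ f R₀ M) (hd : d ∈ scalSet σ f R₀ M) :
    c * σ d ∈ scalSet σ f R₀ M := by
  intro p p' h
  have hP : Submodule.span F₀ ({p, p'} : Set (ι → F)) ≤ R₀ := span_pair_le h.mem₁ h.mem₂
  obtain ⟨a, b, ha, hb, haa, hbb, hba, hab, haP⟩ :=
    E.exists_pair_perp hiso2 hP (by
      have h1 := finrank_span_pair_le (F₀ := F₀) p p'
      have h2 := Submodule.finrank_mono (inf_le_left : Submodule.span F₀ ({p, p'} : Set (ι → F)) ⊓
        perpAll E.uni R₀ (Submodule.span F₀ ({p, p'} : Set (ι → F))) ≤ _)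
      have := E.dim
      omega)
  have hpm : p ∈ Submodule.span F₀ ({p, p'} : Set (ι → F)) := Submodule.subset_span (by simp)
  have hp'm : p' ∈ Submodule.span F₀ ({p, p'} : Set (ι → F)) := Submodule.subset_span (by simp)
  have hp0 : p ≠ 0 := fun h0 => h.indep₁ (h0 ▸ Submodule.zero_mem _)
  have hp'0 : p' ≠ 0 := fun h0 => h.indep₂ (h0 ▸ Submodule.zero_mem _)
  have hpa : IsPair f R₀ p a :=
    isPair_of_notMem h.mem₁ ha.1 h.iso₁ haa ((eq_zero_comm E.uni).1 (ha.2 p hpm)) hp0 hpm haP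
  have hp'b : IsPair f R₀ p' b := by
    refine isPair_of_notMem h.mem₂ hb.1 h.iso₂ hbb ((eq_zero_comm E.uni).1 (hb.2 p' hp'm)) hp'0
      (P := Submodule.span F₀ {p'}) (Submodule.mem_span_singleton_self p') fun hm => ?_
    obtain ⟨t, rfl⟩ := Submodule.mem_span_singleton.1 hm
    rw [coe_smul_eq, E.uni.smul_left, (eq_zero_comm E.uni).1 (ha.2 p' hp'm), mul_zero] at hba
    exact zero_ne_one hba
  obtain ⟨g, hg⟩ : ∃ g, g = uX σ f p' b d := ⟨_, rfl⟩
  have hgM : g ∈ M := hg ▸ hd p' b hp'b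
  have hpb : f p b = 0 := (eq_zero_comm E.uni).1 (hb.2 p hpm)
  have happ : ∀ x, (g : Matrix ι ι F) *ᵥ x = x + (d * f x b) • p' - (σ d * f x p') • b := fun x => by
    rw [hg, uX_mulVec E.uni hbb hp'b.orth]
  have hdiff : (g : Matrix ι ι F) *ᵥ a - a = d • p' := by
    rw [happ, hab, ha.2 p' hp'm, mul_one, mul_zero, zero_smul, sub_zero, add_sub_cancel_left]
  have h0 : uT f p 0 = 1 := by rw [uT, zero_smul, transv_zero]
  have hm := uX_diff E.uni hgM (O.iso g hgM) h.iso₁ (by rw [happ, h.orth, hpb]; simp) haa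
    ((eq_zero_comm E.uni).1 (ha.2 p hpm)) (c := 0) (by rw [h0, mul_one]; exact hc p a hpa)
    (by rw [eq_add_of_sub_eq hdiff, E.uni.add_left, E.uni.smul_left, (eq_zero_comm E.uni).1 (ha.2 p' hp'm), haa]
        ring)
  rwa [hdiff, uX_smul_right E.uni h.iso₂ h.orth] at hm

theorem scalSet_eq_univ (hgen : ∀ K : Subfield F, F₀ < K → K = ⊤)
    (hkind : Module.finrank F₀ F = 2 ∨ ∀ S ≤ R₀, 2 ≤ Module.finrank F₀ S → ∃ u ∈ S, u ≠ 0 ∧ f u u = 0)
    {c : F} (hc : c ∈ scalSet σ f R₀ M) (hc0 : c ∉ F₀) (d : F) : d ∈ scalSet σ f R₀ M := by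
  rcases hkind with h2 | hiso2
  · intro p q h
    have hind : LinearIndependent F₀ ![(1 : F), c] := by
      rw [LinearIndependent.pair_iff]
      intro s t hst
      simp only [Subfield.smul_def, smul_eq_mul, mul_one] at hst
      by_cases ht : t = 0
      · subst ht; simp at hst; exact ⟨hst, rfl⟩
      · refine absurd ?_ hc0
        rw [show c = -(s : F) / (t : F) by
          rw [eq_div_iff (fun h => ht (Subtype.ext h))]; linear_combination hst]
        exact div_mem (neg_mem s.2) t.2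
    have hspan := hind.span_eq_top_of_card_eq_finrank' (by simp [h2])
    have hm : d ∈ Submodule.span F₀ (Set.range ![(1 : F), c]) := hspan ▸ Submodule.mem_top
    rw [Matrix.range_cons, Matrix.range_cons, Matrix.range_empty, Set.union_empty, Set.singleton_union] at hm
    obtain ⟨a, b, rfl⟩ := Submodule.mem_span_pair.1 hm
    rw [Subfield.smul_def, Subfield.smul_def, smul_eq_mul, smul_eq_mul, mul_one,
      ← uX_add_scalar E.uni h.iso₁ h.iso₂ h.orth]
    refine M.mul_mem (E.root_scalar O h.mem₁ h.mem₂ h.iso₁ h.iso₂ h.orth a.2) ?_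
    rcases eq_or_ne b 0 with rfl | hb
    · rw [ZeroMemClass.coe_zero, zero_mul]; exact E.root_scalar O h.mem₁ h.mem₂ h.iso₁ h.iso₂ h.orth (zero_mem F₀)
    have hbp : IsPair f R₀ ((b : F) • p) q := by
      refine ⟨smul_mem_rat b.2 h.mem₁, h.mem₂, by rw [E.uni.smul_left, smul_right' E.uni, h.iso₁]; ring, h.iso₂,
        by rw [E.uni.smul_left, h.orth, mul_zero], ?_, ?_⟩
      · rw [← coe_smul_eq]; exact fun hm => h.indep₁ ((Submodule.smul_mem_iff _ hb).1 hm)
      · rw [← coe_smul_eq, Submodule.span_singleton_smul_eq (Ne.isUnit hb)]; exact h.indep₂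
    have := hc _ _ hbp
    rwa [uX_smul_left E.uni h.iso₂ h.orth, mul_comm c] at this
  haveI := Fintype.ofFinite F
  have hsub : ∀ x ∈ F₀, x ∈ scalSet σ f R₀ M := fun x hx p q h =>
    E.root_scalar O h.mem₁ h.mem₂ h.iso₁ h.iso₂ h.orth hx
  have hsigma : ∀ {x : F}, x ∈ scalSet σ f R₀ M → σ x ∈ scalSet σ f R₀ M := fun {x} hx => by
    have := E.scalSet_mul O hiso2 (hsub 1 (one_mem F₀)) hx
    rwa [one_mul] at this
  have hmul : ∀ {x y : F}, x ∈ scalSet σ f R₀ M → y ∈ scalSet σ f R₀ M → x * y ∈ scalSet σ f R₀ M :=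
    fun {x y} hx hy => by
      have := E.scalSet_mul O hiso2 hx (hsigma hy)
      rwa [E.uni.involutive] at this
  let K : Subfield F :=
    { carrier := scalSet σ f R₀ M
      mul_mem' := hmul
      one_mem' := hsub 1 (one_mem F₀)
      add_mem' := fun {x y} hx hy p q h => by
        rw [← uX_add_scalar E.uni h.iso₁ h.iso₂ h.orth]
        exact M.mul_mem (hx p q h) (hy p q h)
      zero_mem' := hsub 0 (zero_mem F₀)
      neg_mem' := fun {x} hx => by
        have := hmul (hsub (-1) (neg_mem (one_mem F₀))) hx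
        rwa [neg_one_mul] at this
      inv_mem' := fun x hx => by
        rcases eq_or_ne x 0 with rfl | hx0
        · rw [_root_.inv_zero]; exact hsub 0 (zero_mem F₀)
        have e : x⁻¹ = x ^ (Fintype.card F - 2) := by
          have hq : 1 < Fintype.card F := Fintype.one_lt_card
          refine inv_eq_of_mul_eq_one_right ?_
          rw [← pow_succ', show Fintype.card F - 2 + 1 = Fintype.card F - 1 by omega,
            FiniteField.pow_card_sub_one_eq_one x hx0]
        rw [e]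
        induction Fintype.card F - 2 with
        | zero => rw [pow_zero]; exact hsub 1 (one_mem F₀)
        | succ k ih => rw [pow_succ]; exact hmul ih hx }
  have hlt : F₀ < K := lt_of_le_of_ne (fun x hx => hsub x hx) fun h => hc0 (by rw [h]; exact hc)
  have : d ∈ K := by rw [hgen K hlt]; trivial
  exact this

theorem ufull_of_scalSet (hall : ∀ μ, μ ∈ scalSet σ f R₀ M) {x : ι → F} (hx : x ∈ R₀) (hx0 : x ≠ 0)
    (hxx : f x x = 0) : UFull σ f M x := by
  refine ⟨hxx, fun c hc => ?_⟩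
  obtain ⟨e, he⟩ := exists_sub_conj E.uni hc
  obtain ⟨a, b, ha, hb, haa, hbb, hba, hab, haP⟩ := E.exists_pair_perp_one hx
  have hxm := Submodule.mem_span_singleton_self (R := F₀) x
  have hxa : f x a = 0 := (eq_zero_comm E.uni).1 (ha.2 x hxm)
  have hxb : f x b = 0 := (eq_zero_comm E.uni).1 (hb.2 x hxm)
  have hbP : b ∉ Submodule.span F₀ {x} := fun hm => by
    obtain ⟨t, rfl⟩ := Submodule.mem_span_singleton.1 hm
    rw [coe_smul_eq, E.uni.smul_left, hxa, mul_zero] at hba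
    exact zero_ne_one hba
  have h1 := hall (-e) x a (isPair_of_notMem hx ha.1 hxx haa hxa hx0 hxm haP)
  have h2 := hall 1 x b (isPair_of_notMem hx hb.1 hxx hbb hxb hx0 hxm hbP)
  have hcomm := uX_commutator E.uni hxx haa hbb hxa hxb (-e) 1
  rw [hab, hba, map_neg, map_one, one_mul, mul_one, mul_one, mul_one,
    show -σ e - -e = c by rw [← he]; ring] at hcomm
  have := M.mul_mem (M.inv_mem (M.mul_mem h2 h1)) (M.mul_mem h1 h2)
  rwa [hcomm, inv_mul_cancel_left] at this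

theorem exists_unipotent (hall : ∀ μ, μ ∈ scalSet σ f R₀ M) {x y : ι → F} (hx : x ∈ R₀) (hx0 : x ≠ 0)
    (hxx : f x x = 0) (hy : y ∈ R₀) (hyx : f y x = 1) {w : ι → F} (hw : f w x = 0) :
    ∃ k ∈ M, (k : Matrix ι ι F) *ᵥ x = x ∧ (∀ z, f z x = 0 → ∃ t : F, (k : Matrix ι ι F) *ᵥ z = z + t • x) ∧
      ∃ t : F, (k : Matrix ι ι F) *ᵥ y = y + w + t • x := by
  obtain ⟨Φ, hΦ⟩ : ∃ Φ : (ι → F) → Prop, ∀ v, Φ v ↔
      ∃ k ∈ M, (k : Matrix ι ι F) *ᵥ x = x ∧ (∀ z, f z x = 0 → ∃ t : F, (k : Matrix ι ι F) *ᵥ z = z + t • x) ∧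
        f v x = 0 ∧ ∃ t : F, (k : Matrix ι ι F) *ᵥ y = y + v + t • x :=
    ⟨_, fun _ => Iff.rfl⟩
  have h0 : ∀ t : F, Φ (t • x) := fun t => (hΦ _).2 ⟨1, M.one_mem, by simp, fun z _ => ⟨0, by simp⟩,
    by rw [E.uni.smul_left, hxx, mul_zero], -t, by simp [neg_smul]⟩
  have hadd : ∀ v v', Φ v → Φ v' → Φ (v + v') := by
    intro v v' h h'
    obtain ⟨k, hk, hkx, hkz, hvx, t, hky⟩ := (hΦ _).1 h
    obtain ⟨k', hk', hk'x, hk'z, hv'x, t', hk'y⟩ := (hΦ _).1 h'
    obtain ⟨s, hs⟩ := hkz v' hv'x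
    refine (hΦ _).2 ⟨k * k', M.mul_mem hk hk', by rw [mul_mulVec, hk'x, hkx], fun z hz => ?_,
      by rw [E.uni.add_left, hvx, hv'x, add_zero], t + s + t', ?_⟩
    · obtain ⟨a, ha⟩ := hk'z z hz
      obtain ⟨b, hb⟩ := hkz z hz
      exact ⟨b + a, by rw [mul_mulVec, ha, mulVec_add, mulVec_smul, hb, hkx]; module⟩
    · rw [mul_mulVec, hk'y, mulVec_add, mulVec_add, mulVec_smul, hky, hs, hkx]
      module
  have hgen : ∀ b ∈ R₀, f b b = 0 → f b x = 0 → ∀ μ : F, Φ (μ • b) := by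
    intro b hb hbb hbx μ
    by_cases hbm : b ∈ Submodule.span F₀ {x}
    · obtain ⟨c, rfl⟩ := Submodule.mem_span_singleton.1 hbm
      rw [coe_smul_eq, smul_smul]
      exact h0 _
    have hxb : f x b = 0 := (eq_zero_comm E.uni).1 hbx
    have hk := hall (-σ μ) x b (isPair_of_notMem hx hb hxx hbb hxb hx0 (Submodule.mem_span_singleton_self x) hbm)
    refine (hΦ _).2 ⟨_, hk, ?_, fun z hz => ⟨-σ μ * f z b, ?_⟩, by rw [E.uni.smul_left, hbx, mul_zero],
      -σ μ * f y b, ?_⟩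
    · rw [uX_mulVec E.uni hbb hxb, hxx, hxb]; simp
    · rw [uX_mulVec E.uni hbb hxb, hz, mul_zero, zero_smul, sub_zero]
    · rw [uX_mulVec E.uni hbb hxb, hyx, map_neg, E.uni.involutive]
      module
  have hmem : ∀ v, v - f v x • y ∈ Submodule.span F {s | s ∈ R₀ ∧ f s s = 0 ∧ f s x = 0} := by
    intro v
    induction E.span v using Submodule.span_induction with
    | mem a ha =>
      have h := E.mem_span_iso_perp hx hx0 hxx (a := a - f a x • y)
        (R₀.sub_mem ha (smul_mem_rat (E.rat a ha x hx) hy))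
        (by rw [sub_left' E.uni, E.uni.smul_left, hyx, mul_one, sub_self])
      exact Submodule.span_le_restrictScalars F₀ F _ h
    | zero => rw [zero_left' E.uni, zero_smul, sub_zero]; exact Submodule.zero_mem _
    | add a b _ _ ha hb =>
      rw [show a + b - f (a + b) x • y = (a - f a x • y) + (b - f b x • y) by rw [E.uni.add_left]; module]
      exact Submodule.add_mem _ ha hb
    | smul t a _ ha =>
      rw [show t • a - f (t • a) x • y = t • (a - f a x • y) by rw [E.uni.smul_left]; module]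
      exact Submodule.smul_mem _ _ ha
  have hall' : ∀ t : F, Φ (t • w) := by
    have := hmem w
    rw [hw, zero_smul, sub_zero] at this
    clear hw
    induction this using Submodule.span_induction with
    | mem a ha => exact fun t => hgen a ha.1 ha.2.1 ha.2.2 t
    | zero => intro t; rw [smul_zero]; simpa using h0 0
    | add a b _ _ ha hb => intro t; rw [smul_add]; exact hadd _ _ (ha t) (hb t)
    | smul c a _ ha => intro t; rw [smul_smul]; exact ha _
  obtain ⟨k, hk, hkx, hkz, -, t, hky⟩ := (hΦ _).1 (hall' 1)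
  rw [one_smul] at hky
  exact ⟨k, hk, hkx, hkz, t, hky⟩

theorem transv_mem_of_scalSet (hall : ∀ μ, μ ∈ scalSet σ f R₀ M) (v : ι → F) (hv : f v v = 0) (c : F)
    (hc : c + σ c = 0) : uT f v c ∈ M := by
  rcases eq_or_ne v 0 with rfl | hv0
  · have : uT f (0 : ι → F) c = 1 := gl_ext fun z => by
      rw [uT_mulVec E.uni (zero_left' E.uni 0)]; simp
    rw [this]
    exact M.one_mem
  obtain ⟨x, hx, hxx, hxv⟩ := E.exists_iso_ne hv0
  have hx0 : x ≠ 0 := fun h => hxv (by rw [h]; exact zero_left' E.uni v)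
  have hvx : f v x ≠ 0 := fun h => hxv ((eq_zero_comm E.uni).1 h)
  obtain ⟨r, hr, hrx⟩ := E.exists_dual hx hx0
  obtain ⟨y, hy, hyy, hyx, hxy⟩ := E.exists_partner le_rfl hx hr hxx (by rw [hrx]; exact one_ne_zero)
  have hy0 : y ≠ 0 := fun h => by rw [h, zero_left' E.uni] at hyx; exact zero_ne_one hyx
  obtain ⟨w, hw⟩ : ∃ w, w = (f v x)⁻¹ • v - y := ⟨_, rfl⟩
  have hwx : f w x = 0 := by
    rw [hw, sub_left' E.uni, E.uni.smul_left, inv_mul_cancel₀ hvx, hyx, sub_self]
  obtain ⟨k, hk, hkx, -, t, hky⟩ := E.exists_unipotent O hall hx hx0 hxx hy hyx hwx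
  have hv1 : (f v x)⁻¹ • v = y + w := by rw [hw, add_sub_cancel]
  have hfv1 : f ((f v x)⁻¹ • v) x = 1 := by rw [E.uni.smul_left, inv_mul_cancel₀ hvx]
  have hfv1' : f x ((f v x)⁻¹ • v) = 1 := by rw [E.uni.herm, hfv1, map_one]
  have ht : t + σ t = 0 := by
    have h := O.iso k hk y y
    rw [hky, ← hv1, hyy, E.uni.add_left, add_right' E.uni, add_right' E.uni, E.uni.smul_left t, E.uni.smul_left t,
      smul_right' E.uni t, smul_right' E.uni t, hfv1, hfv1', hxx] at h
    rw [show f ((f v x)⁻¹ • v) ((f v x)⁻¹ • v) = 0 by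
      rw [E.uni.smul_left, smul_right' E.uni, hv, mul_zero, mul_zero]] at h
    linear_combination h
  have hfull := ufull_conj E.uni hk (O.iso k hk) (E.ufull_of_scalSet O hall hy hy0 hyy)
  have hnegt : -t + σ (-t) = 0 := by rw [map_neg]; linear_combination -ht
  have hT2 := (E.ufull_of_scalSet O hall hx hx0 hxx).2 (-t) hnegt
  have hfull2 := uT_add_smul E.uni hfull hxx hnegt hT2
  have hk1 : f ((k : Matrix ι ι F) *ᵥ y) x = 1 := by
    conv_lhs => arg 2; rw [← hkx]
    rw [O.iso k hk, hyx]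
  rw [hk1, mul_one, hky, neg_smul, add_neg_cancel_right, ← hv1] at hfull2
  have := (ufull_smul E.uni hfull2 (f v x)).2 c hc
  rwa [smul_smul, mul_inv_cancel₀ hvx, one_smul] at this

theorem transv_mem_of_not_tight (hgen : ∀ K : Subfield F, F₀ < K → K = ⊤)
    (hkind : Module.finrank F₀ F = 2 ∨ ∀ S ≤ R₀, 2 ≤ Module.finrank F₀ S → ∃ u ∈ S, u ≠ 0 ∧ f u u = 0) (hnt : ¬ Tight σ f R₀ M) :
    ∀ v, f v v = 0 → ∀ c, c + σ c = 0 → uT f v c ∈ M := by
  simp only [Tight, not_forall] at hnt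
  obtain ⟨x, hx, hx0, hxx, y, hyy, hxy, hm, hno⟩ := hnt
  obtain ⟨y0, hy0, hy0x⟩ := E.exists_dual hx hx0
  have hyx : f y x = 0 := (eq_zero_comm E.uni).1 hxy
  obtain ⟨z, hz, hzz, hzx, hne⟩ : ∃ z ∈ R₀, f z z = 0 ∧ f z x = 0 ∧ f y z ∉ F₀ := by
    by_contra hcon
    simp only [not_exists, not_and, not_not] at hcon
    refine hno ?_
    have hperp : ∀ a ∈ R₀, f a x = 0 → f a y ∈ F₀ := by
      intro a ha hax
      have hs := E.mem_span_iso_perp hx hx0 hxx ha hax
      clear ha hax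
      induction hs using Submodule.span_induction with
      | mem s hs => rw [E.uni.herm]; exact E.stable _ (hcon s hs.1 hs.2.1 hs.2.2)
      | zero => rw [zero_left' E.uni]; exact zero_mem F₀
      | add a b _ _ ha hb => rw [E.uni.add_left]; exact add_mem ha hb
      | smul t a _ ha => rw [coe_smul_eq, E.uni.smul_left]; exact mul_mem t.2 ha
    let g : R₀ →ₗ[F₀] F₀ :=
      { toFun := fun r => ⟨f ((r : ι → F) - f r x • y0) y, hperp _
          (R₀.sub_mem r.2 (smul_mem_rat (E.rat r r.2 x hx) hy0))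
          (by rw [sub_left' E.uni, E.uni.smul_left, hy0x, mul_one, sub_self])⟩
        map_add' := fun a b => Subtype.ext (by
          simp only [Submodule.coe_add, E.uni.add_left, sub_left' E.uni, E.uni.smul_left, AddMemClass.mk_add_mk]
          ring)
        map_smul' := fun t a => Subtype.ext (by
          simp only [Submodule.coe_smul, coe_smul_eq, E.uni.smul_left, sub_left' E.uni, RingHom.id_apply,
            smul_eq_mul, MulMemClass.coe_mul]
          ring) }
    obtain ⟨u, hu, hug⟩ := E.exists_rep_lin g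
    obtain ⟨c, hc⟩ := E.mem_line_of_perp hx hx0 (z := y - u) (fun r hr hrx => by
      rw [sub_right' E.uni, hug ⟨r, hr⟩]
      show f r y - f (r - f r x • y0) y = 0
      rw [hrx, zero_smul, sub_zero, sub_self])
    exact ⟨u, hu, c, by rw [← hc, add_sub_cancel]⟩
  have hzm : z ∉ Submodule.span F₀ {x} := fun h => hne (by
    obtain ⟨t, rfl⟩ := Submodule.mem_span_singleton.1 h
    rw [coe_smul_eq, smul_right' E.uni, hyx, mul_zero]
    exact zero_mem F₀)
  have hxz : f x z = 0 := (eq_zero_comm E.uni).1 hzx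
  obtain ⟨w, hw, hww⟩ := E.exists_aniso_perpAll (span_pair_le (F₀ := F₀) hx hz) (by
    have h1 := finrank_span_pair_le (F₀ := F₀) x z
    have h2 := Submodule.finrank_mono (inf_le_left : Submodule.span F₀ ({x, z} : Set (ι → F)) ⊓
      perpAll E.uni R₀ (Submodule.span F₀ ({x, z} : Set (ι → F))) ≤ _)
    have := E.dim
    omega)
  have hwz : f w z = 0 := hw.2 z (Submodule.subset_span (by simp))
  have hwx : f w x = 0 := hw.2 x (Submodule.subset_span (by simp))
  have hz0 : z ≠ 0 := fun h => hzm (h ▸ Submodule.zero_mem _)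
  obtain ⟨κ, -, hκ⟩ := E.exists_siegel O hz hz0 hzz hw.1 hwz
  obtain ⟨h, hhM, happ⟩ := hκ 0 (zero_mem F₀)
  simp only [map_zero, sub_zero, zero_add] at happ
  have hhx : (h : Matrix ι ι F) *ᵥ x = x := by
    rw [happ, hxz, (eq_zero_comm E.uni).1 hwx]; simp
  obtain ⟨d, hd⟩ : ∃ d, d = (h : Matrix ι ι F) *ᵥ y - y := ⟨_, rfl⟩
  have hde : d = (f y w + κ * f y z) • z - f y z • w := by rw [hd, happ]; module
  have hdz : f d z = 0 := by rw [hde, sub_left' E.uni, E.uni.smul_left, E.uni.smul_left, hzz, hwz]; ring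
  have hdw : f d w = -(f y z * f w w) := by
    rw [hde, sub_left' E.uni, E.uni.smul_left, E.uni.smul_left, (eq_zero_comm E.uni).1 hwz]; ring
  have hdiff : (h : Matrix ι ι F) *ᵥ d - d = (-(f y z * f w w)) • z := by rw [happ, hdw, hdz]; module
  have hm2 := uX_diff_twice E.uni hhM (O.iso h hhM) hxx hhx hyy hxy hm hd.symm hdiff
    (by rw [E.uni.smul_left, smul_right' E.uni, hzz]; ring) (by rw [smul_right' E.uni, hdz, mul_zero])
  rw [uX_smul_right E.uni hzz hxz, one_mul] at hm2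
  have hpair : IsPair f R₀ x z :=
    isPair_of_notMem hx hz hxx hzz hxz hx0 (Submodule.mem_span_singleton_self x) hzm
  refine E.transv_mem_of_scalSet O (E.scalSet_eq_univ O hgen hkind (E.mem_scalSet_of_pair O hpair hm2) fun h' => hne ?_)
  have := neg_mem (div_mem (E.stable _ h') (E.rat w hw.1 w hw.1))
  rwa [E.uni.involutive, neg_div, neg_neg, mul_div_assoc, div_self hww, mul_one] at this

end Setting

end CfsgLib.Classical22.UnitSubfield
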