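/-
Images of rational isotropic points: Sylow conjugacy of transvections, and the quadratic extension.
-/
import Cfsg.Agent.Lib.Classical22.UnitSubfieldFull
import Mathlib.GroupTheory.Sylow
import Mathlib.LinearAlgebra.Eigenspace.Minpoly
import Mathlib.LinearAlgebra.Matrix.Charpoly.Eigs

set_option autoImplicit false

namespace CfsgLib.Classical22.UnitSubfield

open Matrix CfsgLib.Transvec CfsgLib.Transvec.Unitary
open scoped MatrixGroups Pointwise

variable {ι : Type} [Fintype ι] [DecidableEq ι] {F : Type*} [Field F] [Finite F]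
variable {σ : F ≃+* F} {f : (ι → F) → (ι → F) → F}

theorem uT_pow (hf : Cfsg.Geo.IsUnitaryForm σ f) {v : ι → F} (hv : f v v = 0) (c : F) (n : ℕ) :
    uT f v c ^ n = uT f v ((n : F) * c) := by
  induction n with
  | zero => rw [pow_zero, Nat.cast_zero, zero_mul, uT, zero_smul, transv_zero]
  | succ k ih =>
    rw [pow_succ, ih, uT, uT, transv_mul (uT_dot hf hv _) (uT_dot hf hv _), uT, ← add_smul, Nat.cast_succ, add_mul,
      one_mul]

/-- Two transvections with non-orthogonal centres: a member of the group moves one centre to the other. -/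
theorem exists_conjugate_point (hf : Cfsg.Geo.IsUnitaryForm σ f) {M : Subgroup (GL ι F)}
    (hM : ∀ g ∈ M, Iso f g) {x v : ι → F} (hx : f x x = 0) (hv : f v v = 0) (hxv : f x v ≠ 0) {c : F} (hc : c ≠ 0)
    (hXM : uT f x c ∈ M) (hYM : uT f v c ∈ M) :
    ∃ k ∈ M, (∃ t : F, t ≠ 0 ∧ (k : Matrix ι ι F) *ᵥ v = t • x) ∧
      (∀ u, f u x = 0 → f u v = 0 → (k : Matrix ι ι F) *ᵥ u = u) ∧
      ∀ u, (k : Matrix ι ι F) *ᵥ u - u ∈ Submodule.span F ({x, v} : Set (ι → F)) := by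
  obtain ⟨G, hG⟩ : ∃ G : Subgroup (GL ι F), ∀ k, k ∈ G ↔
      k ∈ M ∧ ∀ u, f u x = 0 → f u v = 0 → (k : Matrix ι ι F) *ᵥ u = u :=
    ⟨{ carrier := {k | k ∈ M ∧ ∀ u, f u x = 0 → f u v = 0 → (k : Matrix ι ι F) *ᵥ u = u}
       one_mem' := ⟨M.one_mem, fun u _ _ => by simp⟩
       mul_mem' := fun {a b} ha hb => ⟨M.mul_mem ha.1 hb.1, fun u h1 h2 => by
         rw [mul_mulVec, hb.2 u h1 h2, ha.2 u h1 h2]⟩
       inv_mem' := fun {a} ha => ⟨M.inv_mem ha.1, fun u h1 h2 => by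
         conv_lhs => rw [← ha.2 u h1 h2]
         exact inv_mulVec_cancel a u⟩ }, fun k => Iff.rfl⟩
  have hvx : f v x ≠ 0 := fun h => hxv ((eq_zero_comm hf).1 h)
  have hdec : ∀ u : ι → F, ∃ α β : F, ∃ r, u = α • x + β • v + r ∧ f r x = 0 ∧ f r v = 0 := by
    intro u
    refine ⟨f u v / f x v, f u x / f v x, u - (f u v / f x v) • x - (f u x / f v x) • v, by abel, ?_, ?_⟩
    · rw [sub_left' hf, sub_left' hf, hf.smul_left, hf.smul_left, hx, div_mul_cancel₀ _ hvx]; ring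
    · rw [sub_left' hf, sub_left' hf, hf.smul_left, hf.smul_left, hv, div_mul_cancel₀ _ hxv]; ring
  have hspan : ∀ k ∈ G, ∀ z ∈ ({x, v} : Set (ι → F)), ∃ α β : F, (k : Matrix ι ι F) *ᵥ z = α • x + β • v := by
    intro k hk z hz
    obtain ⟨α, β, r, hr, hrx, hrv⟩ := hdec ((k : Matrix ι ι F) *ᵥ z)
    refine ⟨α, β, ?_⟩
    have key : ∀ y, f y x = 0 → f y v = 0 → f y r = 0 := by
      intro y hy1 hy2
      have h1 : f y ((k : Matrix ι ι F) *ᵥ z) = 0 := by
        rw [← ((hG k).1 hk).2 y hy1 hy2, hM k ((hG k).1 hk).1]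
        rcases hz with rfl | rfl
        · exact hy1
        · exact hy2
      rwa [hr, add_right' hf, add_right' hf, smul_right' hf, smul_right' hf, hy1, hy2, mul_zero, mul_zero, add_zero,
        zero_add] at h1
    have hr0 : r = 0 := by
      by_contra hr0
      obtain ⟨y, hy⟩ := (hf.nondegenerate r hr0).1
      obtain ⟨α', β', r', hr', hr'x, hr'v⟩ := hdec y
      refine hy ?_
      rw [hr', hf.add_left, hf.add_left, hf.smul_left, hf.smul_left, key r' hr'x hr'v,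
        (eq_zero_comm hf).1 hrx, (eq_zero_comm hf).1 hrv]
      ring
    rw [hr, hr0, add_zero]
  obtain ⟨p, hp⟩ := CharP.exists F
  haveI : Fact p.Prime := ⟨CharP.char_is_prime F p⟩
  have hXG : uT f x c ∈ G := (hG _).2 ⟨hXM, fun u h1 _ => by
    rw [uT_mulVec hf hx, h1, mul_zero, zero_smul, add_zero]⟩
  have hYG : uT f v c ∈ G := (hG _).2 ⟨hYM, fun u _ h2 => by
    rw [uT_mulVec hf hv, h2, mul_zero, zero_smul, add_zero]⟩
  have hp' : ∀ {a : ι → F} (ha : f a a = 0) (hm : uT f a c ∈ G),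
      IsPGroup p (Subgroup.zpowers (⟨uT f a c, hm⟩ : G)) := by
    intro a ha hm z
    refine ⟨1, ?_⟩
    obtain ⟨z, hz⟩ := z
    obtain ⟨i, rfl⟩ := Subgroup.mem_zpowers_iff.1 hz
    refine Subtype.ext ?_
    have h1 : (⟨uT f a c, hm⟩ : G) ^ p = 1 := Subtype.ext (by
      rw [Subgroup.coe_pow, uT_pow hf ha, CharP.cast_eq_zero, zero_mul, uT, zero_smul, transv_zero]
      rfl)
    rw [pow_one, Subgroup.coe_pow, Subgroup.coe_one]
    show ((⟨uT f a c, hm⟩ : G) ^ i) ^ p = 1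
    rw [← _root_.zpow_natCast, ← _root_.zpow_mul, mul_comm, _root_.zpow_mul, _root_.zpow_natCast, h1,
      _root_.one_zpow]
  obtain ⟨P, hP⟩ := (hp' hx hXG).exists_le_sylow
  obtain ⟨Q, hQ⟩ := (hp' hv hYG).exists_le_sylow
  obtain ⟨⟨h, hh⟩, hQP⟩ := MulAction.exists_smul_eq G Q P
  have hX : (⟨uT f x c, hXG⟩ : G) ∈ (P : Subgroup G) := hP (Subgroup.mem_zpowers _)
  have hY : (⟨h, hh⟩ * ⟨uT f v c, hYG⟩ * (⟨h, hh⟩ : G)⁻¹ : G) ∈ (P : Subgroup G) := by
    rw [← hQP, Sylow.coe_subgroup_smul]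
    exact Subgroup.smul_mem_pointwise_smul _ (MulAut.conj (⟨h, hh⟩ : G)) _ (hQ (Subgroup.mem_zpowers _))
  obtain ⟨hhM, hhfix⟩ := (hG h).1 hh
  have hi := hM h hhM
  obtain ⟨α, β, hhv⟩ := hspan h hh v (by simp)
  have hv0 : v ≠ 0 := fun h0 => hxv (by rw [h0]; exact zero_right' hf x)
  refine ⟨h, hhM, ?_, hhfix, fun u => ?_⟩
  swap
  · obtain ⟨α₁, β₁, hhx⟩ := hspan h hh x (by simp)
    obtain ⟨a, b, r, hr, hrx, hrv⟩ := hdec u
    refine Submodule.mem_span_pair.2 ⟨a * α₁ + b * α - a, a * β₁ + b * β - b, ?_⟩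
    conv_rhs => rw [hr, mulVec_add, mulVec_add, mulVec_smul, mulVec_smul, hhfix r hrx hrv, hhx, hhv]
    module
  by_cases hβ : β = 0
  · refine ⟨α, fun hα => ?_, by rw [hhv, hβ, zero_smul, add_zero]⟩
    exact mulVec_ne_zero h hv0 (by rw [hhv, hα, hβ, zero_smul, zero_smul, add_zero])
  exfalso
  haveI : Nontrivial (P : Subgroup G) := by
    refine ⟨⟨⟨_, hX⟩, 1, fun e => ?_⟩⟩
    have e' := congrArg (fun g : GL ι F => (g : Matrix ι ι F) *ᵥ v)
      (congrArg (fun z : (P : Subgroup G) => ((z : G) : GL ι F)) e)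
    simp only [Subgroup.coe_one, Units.val_one, one_mulVec, uT_mulVec hf hx, add_eq_left] at e'
    rcases smul_eq_zero.1 e' with h0 | h0
    · exact mul_ne_zero hc hvx h0
    · exact hxv (by rw [h0]; exact zero_left' hf v)
  haveI := P.isPGroup'.center_nontrivial
  obtain ⟨⟨⟨⟨z, hzG⟩, hzP⟩, hzc⟩, hz1⟩ := exists_ne (1 : Subgroup.center (P : Subgroup G))
  obtain ⟨hzM, hzfix⟩ := (hG z).1 hzG
  obtain ⟨e, he⟩ := P.isPGroup' ⟨⟨z, hzG⟩, hzP⟩
  have hzpow : z ^ (p ^ e) = 1 := by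
    simpa using congrArg (fun w : (P : Subgroup G) => ((w : G) : GL ι F)) he
  have fix : ∀ a : ι → F, f a a = 0 → a ≠ 0 → z * uT f a c = uT f a c * z → (z : Matrix ι ι F) *ᵥ a = a := by
    intro a ha ha0 hcomm
    have hconj : uT f ((z : Matrix ι ι F) *ᵥ a) c = uT f a c := by
      rw [← conj_uT hf (hM z hzM) ha, hcomm, mul_inv_cancel_right]
    obtain ⟨y, hy⟩ := (hf.nondegenerate a ha0).1
    have := congrArg (fun g : GL ι F => (g : Matrix ι ι F) *ᵥ y) hconj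
    simp only [uT_mulVec hf ha, uT_mulVec hf (show f ((z : Matrix ι ι F) *ᵥ a) ((z : Matrix ι ι F) *ᵥ a) = 0 by
      rw [hM z hzM]; exact ha), add_right_inj] at this
    have hne : c * f y ((z : Matrix ι ι F) *ᵥ a) ≠ 0 := fun h0 => by
      rw [h0, zero_smul] at this
      exact smul_ne_zero (mul_ne_zero hc hy) ha0 this.symm
    obtain ⟨μ, hμ⟩ : ∃ μ : F, (z : Matrix ι ι F) *ᵥ a = μ • a :=
      ⟨(c * f y ((z : Matrix ι ι F) *ᵥ a))⁻¹ * (c * f y a), by
        rw [mul_smul, ← this, smul_smul, inv_mul_cancel₀ hne, one_smul]⟩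
    have hpowk : ∀ k : ℕ, ((z ^ k : GL ι F) : Matrix ι ι F) *ᵥ a = μ ^ k • a := by
      intro k
      induction k with
      | zero => simp
      | succ k ih => rw [pow_succ, mul_mulVec, hμ, mulVec_smul, ih, smul_smul, pow_succ']
    have h1 := hpowk (p ^ e)
    rw [hzpow, Units.val_one, one_mulVec] at h1
    have h2 : (μ ^ p ^ e - 1) • a = 0 := by rw [sub_smul, one_smul, ← h1, sub_self]
    have h3 : (μ - 1) ^ p ^ e = 0 := by
      rw [sub_pow_char_pow, one_pow]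
      exact (smul_eq_zero.1 h2).resolve_right ha0
    rw [hμ, sub_eq_zero.1 (eq_zero_of_pow_eq_zero h3), one_smul]
  have hzx : (z : Matrix ι ι F) *ᵥ x = x := by
    refine fix x hx (fun h0 => hxv (by rw [h0]; exact zero_left' hf v)) ?_
    exact (congrArg (fun w : (P : Subgroup G) => ((w : G) : GL ι F))
      (Subgroup.mem_center_iff.1 hzc ⟨_, hX⟩)).symm
  have hzhv : (z : Matrix ι ι F) *ᵥ ((h : Matrix ι ι F) *ᵥ v) = (h : Matrix ι ι F) *ᵥ v := by
    refine fix _ (by rw [hi]; exact hv) (mulVec_ne_zero h hv0) ?_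
    rw [← conj_uT hf hi hv]
    exact (congrArg (fun w : (P : Subgroup G) => ((w : G) : GL ι F))
      (Subgroup.mem_center_iff.1 hzc ⟨_, hY⟩)).symm
  have hzv : (z : Matrix ι ι F) *ᵥ v = v := by
    rw [hhv, mulVec_add, mulVec_smul, mulVec_smul, hzx, add_right_inj] at hzhv
    exact smul_right_injective _ hβ hzhv
  refine hz1 (Subtype.ext (Subtype.ext (Subtype.ext (gl_ext fun u => ?_))))
  obtain ⟨a, b, r, hr, hrx, hrv⟩ := hdec u
  show (z : Matrix ι ι F) *ᵥ u = ((1 : GL ι F) : Matrix ι ι F) *ᵥ u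
  rw [Units.val_one, one_mulVec, hr, mulVec_add, mulVec_add, mulVec_smul, mulVec_smul, hzx, hzv, hzfix r hrx hrv]

variable {F₀ : Subfield F} {R₀ : Submodule F₀ (ι → F)}

namespace Setting

variable (E : Setting σ f F₀ R₀)

section Multiplier

include E

/-- Rational vectors independent over the subfield are independent. -/
theorem linearIndependent_rat {κ : Type*} [Fintype κ] {v : κ → (ι → F)} (hv : ∀ i, v i ∈ R₀)
    (hli : LinearIndependent F₀ v) : LinearIndependent F v := by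
  rw [linearIndependent_iff_notMem_span]
  intro i hi
  refine linearIndependent_iff_notMem_span.1 hli i
    (E.mem_of_mem_span (Submodule.span_le.2 (by rintro _ ⟨j, -, rfl⟩; exact hv j)) (hv i) ?_)
  exact Submodule.span_mono Submodule.subset_span hi

/-- The scalar of a semisimilarity of the rational structure which moves everything into a small subspace. -/
theorem mult_mem (h9 : ∀ μ : F, μ ∉ F₀ → ∃ τ : F ≃+* F, (∀ a ∈ F₀, τ a = a) ∧ τ μ ≠ μ ∧ τ (τ μ) ≠ μ)
    {m : GL ι F} {l : F} (hm : ∀ r ∈ R₀, ∃ r' ∈ R₀, (m : Matrix ι ι F) *ᵥ r = l • r') {y : Fin 3 → (ι → F)}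
    (hall : ∀ u, (m : Matrix ι ι F) *ᵥ u - u ∈ Submodule.span F (Set.range y)) :
    ∀ r ∈ R₀, (m : Matrix ι ι F) *ᵥ r ∈ R₀ := by
  classical
  by_cases hl : l ∈ F₀
  · intro r hr
    obtain ⟨r', hr', he⟩ := hm r hr
    rw [he]
    exact smul_mem_rat hl hr'
  exfalso
  obtain ⟨τ, hτ, hτ1, hτ2⟩ := h9 l⁻¹ (fun h => hl (by simpa using inv_mem h))
  have hl0 : l ≠ 0 := fun h => hl (h ▸ zero_mem F₀)
  let b := Module.finBasis F₀ R₀
  have hind : LinearIndependent F fun i => (b i : ι → F) :=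
    E.linearIndependent_rat (fun i => (b i).2) (b.linearIndependent.map' R₀.subtype R₀.ker_subtype)
  have hspanR : ∀ r ∈ R₀, r ∈ Submodule.span F (Set.range fun i => (b i : ι → F)) := by
    intro r hr
    rw [show r = ((⟨r, hr⟩ : R₀) : ι → F) from rfl, ← b.sum_repr ⟨r, hr⟩, Submodule.coe_sum]
    refine Submodule.sum_mem _ fun i _ => ?_
    rw [Submodule.coe_smul, coe_smul_eq]
    exact Submodule.smul_mem _ _ (Submodule.subset_span ⟨i, rfl⟩)
  let B := Module.Basis.mk hind (fun v _ => Submodule.span_le.2 hspanR (E.span v))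
  have hB : ∀ i, B i = (b i : ι → F) := fun i => Module.Basis.mk_apply _ _ i
  obtain ⟨Φ, hΦ⟩ : ∃ Φ : (ι → F) → (ι → F), ∀ v, Φ v = ∑ i, τ (B.repr v i) • B i := ⟨_, fun _ => rfl⟩
  have hΦsum : ∀ c : Fin (Module.finrank F₀ R₀) → F, Φ (∑ i, c i • B i) = ∑ i, τ (c i) • B i := by
    intro c
    rw [hΦ, B.repr_sum_self]
  have hΦadd : ∀ v w, Φ (v + w) = Φ v + Φ w := fun v w => by
    simp only [hΦ, map_add, Finsupp.add_apply, add_smul, Finset.sum_add_distrib]
  have hΦsmul : ∀ (a : F) v, Φ (a • v) = τ a • Φ v := fun a v => by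
    simp only [hΦ, map_smul, Finsupp.smul_apply, smul_eq_mul, map_mul, mul_smul, Finset.smul_sum]
  have hΦrat : ∀ r ∈ R₀, Φ r = r := by
    intro r hr
    have e : r = ∑ i, (b.repr ⟨r, hr⟩ i : F) • B i := by
      have h := congrArg Subtype.val (b.sum_repr ⟨r, hr⟩)
      simp only [Submodule.coe_sum, Submodule.coe_smul, coe_smul_eq] at h
      simp only [hB, h]
    conv_lhs => rw [e, hΦsum]
    conv_rhs => rw [e]
    simp only [hτ _ (SetLike.coe_mem _)]
  have hΦinj : Function.Injective Φ := fun v w h => by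
    rw [hΦ, hΦ] at h
    refine B.repr.injective (Finsupp.ext fun i => τ.injective ?_)
    have h' := congrArg (fun z => (B.repr z : Fin (Module.finrank F₀ R₀) → F) i) h
    simpa only [B.repr_sum_self] using h'
  let A : (ι → F) →ₗ[F] (ι → F) := l⁻¹ • Matrix.toLin' (m : Matrix ι ι F)
  have hA : ∀ v, A v = l⁻¹ • ((m : Matrix ι ι F) *ᵥ v) := fun v => rfl
  have hcomm : ∀ v, A (Φ v) = Φ (A v) := by
    intro v
    conv_rhs => rw [← B.sum_repr v, map_sum]
    rw [hΦ, map_sum]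
    obtain ⟨s, hs⟩ : ∃ s, s = (Finset.univ : Finset (Fin (Module.finrank F₀ R₀))) := ⟨_, rfl⟩
    rw [← hs]
    clear hs
    induction s using Finset.induction_on with
    | empty =>
      rw [Finset.sum_empty, Finset.sum_empty]
      simpa using (hΦsmul 0 0).symm
    | insert i s hi ih =>
      rw [Finset.sum_insert hi, Finset.sum_insert hi, hΦadd, ih]
      congr 1
      obtain ⟨r', hr', he⟩ := hm _ (b i).2
      have hr : A (B i) = r' := by rw [hA, hB, he, inv_smul_smul₀ hl0]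
      rw [map_smul, map_smul, hr, hΦsmul, hΦrat r' hr']
  obtain ⟨N, hN⟩ : ∃ N : F → Submodule F (ι → F), ∀ μ, N μ = Module.End.eigenspace A μ := ⟨_, fun _ => rfl⟩
  have hstep : ∀ μ, Module.finrank F (N μ) ≤ Module.finrank F (N (τ μ)) := by
    intro μ
    let w := Module.finBasis F (N μ)
    have hmem : ∀ j, Φ (w j : ι → F) ∈ N (τ μ) := fun j => by
      have hw := Module.End.mem_eigenspace_iff.1 ((SetLike.ext_iff.1 (hN μ) _).1 (w j).2)
      refine (SetLike.ext_iff.1 (hN (τ μ)) _).2 (Module.End.mem_eigenspace_iff.2 ?_)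
      rw [hcomm, hw, hΦsmul]
    have hli : LinearIndependent F fun j => (⟨Φ (w j : ι → F), hmem j⟩ : N (τ μ)) := by
      rw [Fintype.linearIndependent_iff]
      intro g hg j
      have h0 : Φ (∑ j, τ.symm (g j) • (w j : ι → F)) = Φ 0 := by
        have hz : Φ 0 = 0 := by simpa using hΦsmul 0 0
        have hsum : ∀ s : Finset (Fin (Module.finrank F (N μ))),
            Φ (∑ j ∈ s, τ.symm (g j) • (w j : ι → F)) = ∑ j ∈ s, g j • Φ (w j : ι → F) := by
          intro s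
          induction s using Finset.induction_on with
          | empty => simpa using hz
          | insert i s hi ih =>
            rw [Finset.sum_insert hi, Finset.sum_insert hi, hΦadd, ih, hΦsmul, RingEquiv.apply_symm_apply]
        have h := congrArg Subtype.val hg
        simp only [Submodule.coe_sum, Submodule.coe_smul, ZeroMemClass.coe_zero] at h
        rw [hz, hsum, h]
      have h1 := hΦinj h0
      have h2 := Fintype.linearIndependent_iff.1 (w.linearIndependent.map' (N μ).subtype (N μ).ker_subtype)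
        (fun j => τ.symm (g j)) h1 j
      simpa using h2
    simpa using hli.fintype_card_le_finrank
  have hfix : Module.finrank F (ι → F) ≤ Module.finrank F (N l⁻¹) + 3 := by
    let T : (ι → F) →ₗ[F] (ι → F) := Matrix.toLin' (m : Matrix ι ι F) - LinearMap.id
    have h1 := LinearMap.finrank_range_add_finrank_ker T
    have h2 := Submodule.finrank_mono (show LinearMap.range T ≤ Submodule.span F (Set.range y) by
      rintro _ ⟨u, rfl⟩; exact hall u)
    have h3 : Module.finrank F (Submodule.span F (Set.range y)) ≤ 3 :=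
      (finrank_range_le_card (R := F) (b := y)).trans (by simp)
    have h4 := Submodule.finrank_mono (show LinearMap.ker T ≤ N l⁻¹ by
      intro u hu
      rw [hN, Module.End.mem_eigenspace_iff, hA]
      have : (m : Matrix ι ι F) *ᵥ u - u = 0 := hu
      rw [sub_eq_zero.1 this])
    omega
  have hn : Module.finrank F (ι → F) = Module.finrank F₀ R₀ := by
    rw [Module.finrank_eq_card_basis B, Fintype.card_fin]
  have hidx := Module.End.eigenspaces_iSupIndep A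
  have d12 : Disjoint (N l⁻¹) (N (τ l⁻¹)) := by
    rw [hN, hN]; exact hidx.pairwiseDisjoint (Ne.symm hτ1)
  have d3 : Disjoint (N (τ (τ l⁻¹))) (N l⁻¹ ⊔ N (τ l⁻¹)) := by
    rw [hN, hN, hN]
    refine (hidx (τ (τ l⁻¹))).mono_right (sup_le ?_ ?_)
    · exact le_iSup₂ (f := fun j (_ : j ≠ τ (τ l⁻¹)) => Module.End.eigenspace A j) l⁻¹ (Ne.symm hτ2)
    · exact le_iSup₂ (f := fun j (_ : j ≠ τ (τ l⁻¹)) => Module.End.eigenspace A j) (τ l⁻¹)
        (fun h => hτ1 (τ.injective h).symm)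
  have e1 := Submodule.finrank_sup_add_finrank_inf_eq (N l⁻¹) (N (τ l⁻¹))
  have e2 := Submodule.finrank_sup_add_finrank_inf_eq (N (τ (τ l⁻¹))) (N l⁻¹ ⊔ N (τ l⁻¹))
  rw [d12.eq_bot, finrank_bot] at e1
  rw [d3.eq_bot, finrank_bot] at e2
  have e3 := Submodule.finrank_le (N (τ (τ l⁻¹)) ⊔ (N l⁻¹ ⊔ N (τ l⁻¹)))
  have := hstep l⁻¹
  have := hstep (τ l⁻¹)
  have := E.dim
  omega

/-- The fixed rational vectors of such a map. -/
theorem finrank_fixed {m : GL ι F} (hmR : ∀ r ∈ R₀, (m : Matrix ι ι F) *ᵥ r ∈ R₀) {y : Fin 3 → (ι → F)}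
    (hall : ∀ u, (m : Matrix ι ι F) *ᵥ u - u ∈ Submodule.span F (Set.range y)) {W : Submodule F₀ (ι → F)}
    (hW : ∀ z, z ∈ W ↔ z ∈ R₀ ∧ (m : Matrix ι ι F) *ᵥ z = z) :
    4 ≤ Module.finrank F₀ W ∨ (3 ≤ Module.finrank F₀ W ∧ ∀ z ∈ W, Iso f m → ∀ u ∈ Submodule.span F (Set.range y),
      f z u = 0) := by
  let T : R₀ →ₗ[F₀] (ι → F) :=
    { toFun := fun r => (m : Matrix ι ι F) *ᵥ (r : ι → F) - r
      map_add' := fun a b => by rw [Submodule.coe_add, mulVec_add]; abel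
      map_smul' := fun c a => by
        rw [Submodule.coe_smul, coe_smul_eq, mulVec_smul, RingHom.id_apply, coe_smul_eq, smul_sub] }
  have h1 := LinearMap.finrank_range_add_finrank_ker T
  have h2 : Module.finrank F₀ (LinearMap.ker T) ≤ Module.finrank F₀ W := by
    rw [← Submodule.finrank_map_subtype_eq R₀ (LinearMap.ker T)]
    refine Submodule.finrank_mono ?_
    rintro _ ⟨r, hr, rfl⟩
    exact (hW _).2 ⟨r.2, sub_eq_zero.1 (LinearMap.mem_ker.1 hr)⟩
  let c := Module.finBasis F₀ (LinearMap.range T)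
  have hc : ∀ i, (c i : ι → F) ∈ R₀ := fun i => by
    obtain ⟨r, hr⟩ := (c i).2
    rw [← hr]
    exact R₀.sub_mem (hmR r r.2) r.2
  have hli : LinearIndependent F fun i => (c i : ι → F) :=
    E.linearIndependent_rat hc (c.linearIndependent.map' (LinearMap.range T).subtype (LinearMap.range T).ker_subtype)
  have hsub : Submodule.span F (Set.range fun i => (c i : ι → F)) ≤ Submodule.span F (Set.range y) := by
    rw [Submodule.span_le]
    rintro _ ⟨i, rfl⟩
    obtain ⟨r, hr⟩ := (c i).2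
    show (c i : ι → F) ∈ _
    rw [← hr]
    exact hall r
  have h3 := Submodule.finrank_mono hsub
  rw [finrank_span_eq_card hli, Fintype.card_fin] at h3
  have h4 : Module.finrank F (Submodule.span F (Set.range y)) ≤ 3 :=
    (finrank_range_le_card (R := F) (b := y)).trans (by simp)
  have := E.dim
  by_cases h5 : 4 ≤ Module.finrank F₀ W
  · exact Or.inl h5
  refine Or.inr ⟨by omega, fun z hz him u hu => ?_⟩
  have heq : Submodule.span F (Set.range fun i => (c i : ι → F)) = Submodule.span F (Set.range y) :=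
    Submodule.eq_of_le_of_finrank_le hsub (by rw [finrank_span_eq_card hli, Fintype.card_fin]; omega)
  rw [← heq] at hu
  induction hu using Submodule.span_induction with
  | mem u hu =>
    obtain ⟨i, rfl⟩ := hu
    obtain ⟨r, hr⟩ := (c i).2
    show f z (c i : ι → F) = 0
    rw [← hr]
    show f z ((m : Matrix ι ι F) *ᵥ (r : ι → F) - r) = 0
    rw [sub_right' E.uni]
    nth_rewrite 1 [← ((hW z).1 hz).2]
    rw [him, sub_self]
  | zero => exact zero_right' E.uni z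
  | add a b _ _ ha hb => rw [add_right' E.uni, ha, hb, add_zero]
  | smul t a _ ha => rw [smul_right' E.uni, ha, mul_zero]

end Multiplier

variable {M : Subgroup (GL ι F)} (O : Over σ f R₀ M) (hT : Tight σ f R₀ M)
include E O hT

/-- When the form on the rational vectors is hermitian, images of rational points are rational. -/
theorem isPoint_of_transv (h9 : ∀ μ : F, μ ∉ F₀ → ∃ τ : F ≃+* F, (∀ a ∈ F₀, τ a = a) ∧ τ μ ≠ μ ∧ τ (τ μ) ≠ μ)
    {c : F} (hc : c ≠ 0) (hcF : c ∈ F₀) (hcs : c + σ c = 0)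
    (hiso2 : ∀ S ≤ R₀, 2 ≤ Module.finrank F₀ S → ∃ u ∈ S, u ≠ 0 ∧ f u u = 0) (hU : ∀ x ∈ R₀, f x x = 0 → uT f x c ∈ M) {g : GL ι F}
    (hg : g ∈ M) {u₀ : ι → F} (hu₀ : u₀ ∈ R₀) (hu₀0 : u₀ ≠ 0) (huu : f u₀ u₀ = 0) :
    IsPoint R₀ ((g : Matrix ι ι F) *ᵥ u₀) := by
  by_contra hnp
  obtain ⟨v, hvd⟩ : ∃ v, v = (g : Matrix ι ι F) *ᵥ u₀ := ⟨_, rfl⟩
  rw [← hvd] at hnp
  have hig := O.iso g hg
  have hv : f v v = 0 := by rw [hvd, hig]; exact huu
  have hv0 : v ≠ 0 := hvd ▸ mulVec_ne_zero g hu₀0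
  have hY : uT f v c ∈ M := by
    rw [hvd, ← conj_uT E.uni hig huu]
    exact M.mul_mem (M.mul_mem hg (hU u₀ hu₀ huu)) (M.inv_mem hg)
  -- no rational isotropic point is orthogonal to `v`
  have hZ : ∀ w ∈ R₀, w ≠ 0 → f w w = 0 → f w v ≠ 0 := by
    intro w hw hw0 hww hwv
    obtain ⟨x, hx, hxx, hxw, hxv⟩ : ∃ x ∈ R₀, f x x = 0 ∧ f x w = 0 ∧ f x v ≠ 0 := by
      by_contra hcon
      simp only [not_exists, not_and, not_not] at hcon
      obtain ⟨c, hc⟩ := E.mem_line_of_perp hw hw0 (z := v) (fun p hp hpw => by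
        have hspan := E.mem_span_iso_perp hw hw0 hww hp hpw
        clear hp hpw
        induction hspan using Submodule.span_induction with
        | mem a ha => exact hcon a ha.1 ha.2.1 ha.2.2
        | zero => exact zero_left' E.uni v
        | add a b _ _ ha hb => rw [E.uni.add_left, ha, hb, add_zero]
        | smul t a _ ha => rw [coe_smul_eq, E.uni.smul_left, ha, mul_zero])
      exact hnp ⟨w, hw, c, hc⟩
    obtain ⟨k, hk, ⟨τ, hτ, hkv⟩, hkfix, -⟩ :=
      exists_conjugate_point E.uni O.iso hxx hv hxv hc (hU x hx hxx) hY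
    obtain ⟨l, hl⟩ := E.preserve_of_point O hT hk hw hw0 hww
      ⟨w, hw, 1, by rw [one_smul]; exact hkfix w ((eq_zero_comm E.uni).1 hxw) hwv⟩
    have hl0 : l ≠ 0 := fun h0 => by
      obtain ⟨w', -, hw'⟩ := hl w hw
      exact mulVec_ne_zero k hw0 (by rw [hw', h0, zero_smul])
    choose φ hφR hφ using hl
    obtain ⟨⟨s, hs⟩, hsx⟩ := Finite.surjective_of_injective
      (f := fun s : R₀ => (⟨φ s.1 s.2, hφR s.1 s.2⟩ : R₀)) (fun a b hab => Subtype.ext (mulVec_injective k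
        (show (k : Matrix ι ι F) *ᵥ (a : ι → F) = (k : Matrix ι ι F) *ᵥ (b : ι → F) by
          rw [hφ a.1 a.2, hφ b.1 b.2, show φ a.1 a.2 = φ b.1 b.2 from congrArg Subtype.val hab]))) ⟨x, hx⟩
    refine hnp ⟨s, hs, τ / l, mulVec_injective k ?_⟩
    show (k : Matrix ι ι F) *ᵥ v = (k : Matrix ι ι F) *ᵥ ((τ / l) • s)
    rw [hkv, mulVec_smul, hφ s hs, show φ s hs = x from congrArg Subtype.val hsx, smul_smul, div_mul_cancel₀ _ hl0]
  obtain ⟨x, hx, hxx, hxv⟩ := E.exists_iso_ne hv0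
  have hx0 : x ≠ 0 := fun h => hxv (by rw [h]; exact zero_left' E.uni v)
  obtain ⟨x', hx', hx'x', hx'v, hx'x, hx'xne⟩ : ∃ x' ∈ R₀, f x' x' = 0 ∧ f x' v ≠ 0 ∧
      x' ∉ Submodule.span F₀ {x} ∧ f x' x ≠ 0 := by
    obtain ⟨r, hr, hrx⟩ := E.exists_dual hx hx0
    obtain ⟨y, hy, hyy, hyx, hxy⟩ := E.exists_partner le_rfl hx hr hxx (by rw [hrx]; exact one_ne_zero)
    have hout : ∀ w, f w x ≠ 0 → w ∉ Submodule.span F₀ {x} := fun w hw h => hw (by
      obtain ⟨a, rfl⟩ := Submodule.mem_span_singleton.1 h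
      rw [coe_smul_eq, E.uni.smul_left, hxx, mul_zero])
    by_cases hyv : f y v = 0
    · have h1 : f (y + c • x) x ≠ 0 := by rw [E.uni.add_left, E.uni.smul_left, hyx, hxx]; simp
      refine ⟨y + c • x, R₀.add_mem hy (smul_mem_rat hcF hx), ?_, ?_, hout _ h1, h1⟩
      · simp only [E.uni.add_left, add_right' E.uni, E.uni.smul_left, smul_right' E.uni, hyy, hxx, hyx, hxy]
        linear_combination hcs
      · rw [E.uni.add_left, E.uni.smul_left, hyv, zero_add]; exact mul_ne_zero hc hxv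
    · have h1 : f y x ≠ 0 := by rw [hyx]; exact one_ne_zero
      exact ⟨y, hy, hyy, hyv, hout _ h1, h1⟩
  have hxx'm : x ∉ Submodule.span F₀ {x'} := fun h => by
    obtain ⟨a, ha⟩ := Submodule.mem_span_singleton.1 h
    rcases eq_or_ne a 0 with rfl | ha0
    · exact hx0 (by rw [← ha, zero_smul])
    · exact hx'x (Submodule.mem_span_singleton.2 ⟨a⁻¹, by rw [← ha, smul_smul, inv_mul_cancel₀ ha0, one_smul]⟩)
  obtain ⟨k, hk, ⟨τ, hτ, hkv⟩, hkfix, hkspan⟩ :=
    exists_conjugate_point E.uni O.iso hxx hv hxv hc (hU x hx hxx) hY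
  obtain ⟨k', hk', ⟨τ', hτ', hk'v⟩, hk'fix, hk'span⟩ :=
    exists_conjugate_point E.uni O.iso hx'x' hv hx'v hc (hU x' hx' hx'x') hY
  obtain ⟨lA, hA⟩ := E.preserve_of_point O hT (M.mul_mem hk hg) hu₀ hu₀0 huu
    ⟨x, hx, τ, by rw [mul_mulVec, ← hvd, hkv]⟩
  obtain ⟨lB, hB⟩ := E.preserve_of_point O hT (M.mul_mem hk' hg) hu₀ hu₀0 huu
    ⟨x', hx', τ', by rw [mul_mulVec, ← hvd, hk'v]⟩
  choose φ hφR hφ using hA
  have hlA : lA ≠ 0 := fun h0 => by
    have := hφ u₀ hu₀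
    rw [h0, zero_smul] at this
    exact mulVec_ne_zero _ hu₀0 this
  have hsurj : ∀ r ∈ R₀, ∃ s ∈ R₀, ((k * g : GL ι F) : Matrix ι ι F) *ᵥ s = lA • r := by
    intro r hr
    obtain ⟨⟨s, hs⟩, hsr⟩ := Finite.surjective_of_injective
      (f := fun s : R₀ => (⟨φ s.1 s.2, hφR s.1 s.2⟩ : R₀)) (fun a b hab => Subtype.ext (mulVec_injective (k * g)
        (show ((k * g : GL ι F) : Matrix ι ι F) *ᵥ (a : ι → F) = ((k * g : GL ι F) : Matrix ι ι F) *ᵥ (b : ι → F) by
          rw [hφ a.1 a.2, hφ b.1 b.2, show φ a.1 a.2 = φ b.1 b.2 from congrArg Subtype.val hab]))) ⟨r, hr⟩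
    exact ⟨s, hs, by rw [hφ s hs, show φ s hs = r from congrArg Subtype.val hsr]⟩
  obtain ⟨m, hmd⟩ : ∃ m, m = k' * k⁻¹ := ⟨_, rfl⟩
  have hmR : ∀ r ∈ R₀, ∃ r' ∈ R₀, (m : Matrix ι ι F) *ᵥ r = (lB / lA) • r' := by
    intro r hr
    obtain ⟨s, hs, hsr⟩ := hsurj r hr
    obtain ⟨r', hr', hsr'⟩ := hB s hs
    refine ⟨r', hr', smul_right_injective _ hlA ?_⟩
    show lA • ((m : Matrix ι ι F) *ᵥ r) = lA • ((lB / lA) • r')
    rw [← mulVec_smul, ← hsr, ← mul_mulVec, hmd, show k' * k⁻¹ * (k * g) = k' * g by group, hsr', smul_smul,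
      mul_div_cancel₀ _ hlA]
  have him : Iso f m := O.iso m (hmd ▸ M.mul_mem hk' (M.inv_mem hk))
  have hall : ∀ u, (m : Matrix ι ι F) *ᵥ u - u ∈ Submodule.span F (Set.range ![x, x', v]) := by
    intro u
    obtain ⟨w, hw⟩ : ∃ w, w = ((k⁻¹ : GL ι F) : Matrix ι ι F) *ᵥ u := ⟨_, rfl⟩
    have huw : u = (k : Matrix ι ι F) *ᵥ w := by rw [hw, mulVec_inv_cancel]
    have hmu : (m : Matrix ι ι F) *ᵥ u = (k' : Matrix ι ι F) *ᵥ w := by rw [hmd, mul_mulVec, hw]
    obtain ⟨a1, b1, h1⟩ := Submodule.mem_span_pair.1 (hkspan w)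
    obtain ⟨a2, b2, h2⟩ := Submodule.mem_span_pair.1 (hk'span w)
    rw [← huw] at h1
    rw [← hmu] at h2
    refine (Submodule.mem_span_range_iff_exists_fun F).2 ⟨![-a1, a2, b2 - b1], ?_⟩
    rw [← sub_sub_sub_cancel_right _ u w, ← h1, ← h2]
    simp [Fin.sum_univ_three]
    module
  obtain ⟨W, hWfix⟩ : ∃ W : Submodule F₀ (ι → F), ∀ z, z ∈ W ↔ z ∈ R₀ ∧ (m : Matrix ι ι F) *ᵥ z = z :=
    ⟨{ carrier := {z | z ∈ R₀ ∧ (m : Matrix ι ι F) *ᵥ z = z}
       zero_mem' := ⟨R₀.zero_mem, mulVec_zero _⟩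
       add_mem' := fun ha hb => ⟨R₀.add_mem ha.1 hb.1, by rw [mulVec_add, ha.2, hb.2]⟩
       smul_mem' := fun c a ha => ⟨R₀.smul_mem c ha.1, by rw [coe_smul_eq, mulVec_smul, ha.2]⟩ }, fun z => Iff.rfl⟩
  have hmrat := E.mult_mem h9 hmR hall
  have hdimW := E.finrank_fixed hmrat hall hWfix
  obtain ⟨z, hz0, hzW, hzz, hzx, hzx'⟩ : ∃ z, z ≠ 0 ∧ z ∈ W ∧ f z z = 0 ∧ f z x = 0 ∧ f z x' = 0 := by
    have hWR : W ≤ R₀ := fun z hz => ((hWfix z).1 hz).1
    rcases hdimW with hbig | ⟨hW3, hperp⟩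
    · obtain ⟨z, hz, hz0, hzz⟩ := hiso2 (perpIn E.uni (perpIn E.uni W x) x')
        (fun z hz => hWR hz.1.1) (by
          have h1 := E.finrank_le_perpIn hWR hx
          have h2 := E.finrank_le_perpIn (fun z (hz : z ∈ perpIn E.uni W x) => hWR hz.1) hx'
          omega)
      exact ⟨z, hz0, hz.1.1, hzz, hz.1.2, hz.2⟩
    · obtain ⟨z, hz, hz0, hzz⟩ := hiso2 W hWR (by omega)
      exact ⟨z, hz0, hz, hzz, hperp z hz him x (Submodule.subset_span ⟨0, rfl⟩),
        hperp z hz him x' (Submodule.subset_span ⟨1, rfl⟩)⟩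
  obtain ⟨hz, hmz⟩ := (hWfix z).1 hzW
  have hzv := hZ z hz hz0 hzz
  have key : ∀ (k₁ : GL ι F) (x₁ : ι → F) (t : F), t ≠ 0 → (k₁ : Matrix ι ι F) *ᵥ v = t • x₁ →
      (∀ u, f u x₁ = 0 → f u v = 0 → (k₁ : Matrix ι ι F) *ᵥ u = u) → f x₁ v ≠ 0 → f x₁ x₁ = 0 → f z x₁ = 0 →
      ((k₁⁻¹ : GL ι F) : Matrix ι ι F) *ᵥ z =
        z - (f z v / f x₁ v) • x₁ + (f z v / f x₁ v * t⁻¹) • v := by
    intro k₁ x₁ t ht hkv₁ hfix hx₁v hx₁x₁ hzx₁
    refine mulVec_injective k₁ ?_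
    show (k₁ : Matrix ι ι F) *ᵥ (((k₁⁻¹ : GL ι F) : Matrix ι ι F) *ᵥ z) = (k₁ : Matrix ι ι F) *ᵥ _
    rw [mulVec_inv_cancel, mulVec_add, mulVec_smul, hkv₁, smul_smul, mul_assoc, inv_mul_cancel₀ ht, mul_one,
      hfix _ (by rw [sub_left' E.uni, E.uni.smul_left, hx₁x₁, hzx₁]; ring)
        (by rw [sub_left' E.uni, E.uni.smul_left, div_mul_cancel₀ _ hx₁v, sub_self]), sub_add_cancel]
  have e1 := key k x τ hτ hkv hkfix hxv hxx hzx
  have e2 := key k' x' τ' hτ' hk'v hk'fix hx'v hx'x' hzx'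
  have e3 : ((k⁻¹ : GL ι F) : Matrix ι ι F) *ᵥ z = ((k'⁻¹ : GL ι F) : Matrix ι ι F) *ᵥ z := by
    refine mulVec_injective k' ?_
    show (k' : Matrix ι ι F) *ᵥ _ = (k' : Matrix ι ι F) *ᵥ _
    rw [mulVec_inv_cancel, ← mul_mulVec, ← hmd, hmz]
  rw [e1, e2] at e3
  obtain ⟨γ, hγ⟩ : ∃ γ, γ = f z v / f x v := ⟨_, rfl⟩
  obtain ⟨γ', hγ'⟩ : ∃ γ', γ' = f z v / f x' v := ⟨_, rfl⟩
  rw [← hγ, ← hγ'] at e3
  obtain ⟨δ, hδ⟩ : ∃ δ, δ = γ * τ⁻¹ - γ' * τ'⁻¹ := ⟨_, rfl⟩
  have e4 : δ • v = γ • x + (-γ') • x' := by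
    rw [hδ, sub_smul, neg_smul, ← sub_eq_zero]
    rw [← sub_eq_zero] at e3
    rw [← e3]
    module
  have notPair : v ∉ Submodule.span F ({x, x'} : Set (ι → F)) := fun h => hnp (by
    rw [hvd] at h ⊢
    exact E.isPoint_of_pair O hT hg hu₀ huu hx hx' h)
  by_cases hd : δ = 0
  · rw [hd, zero_smul] at e4
    have hγ0 : γ ≠ 0 := hγ ▸ div_ne_zero hzv hxv
    refine hxx'm (E.mem_of_mem_span (Submodule.span_le.2 (Set.singleton_subset_iff.2 hx')) hx
      ((Submodule.smul_mem_iff _ hγ0).1 ?_))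
    rw [eq_neg_of_add_eq_zero_left e4.symm, neg_smul, neg_neg]
    exact Submodule.smul_mem _ _ (Submodule.subset_span (Submodule.mem_span_singleton_self x'))
  · exact notPair ((Submodule.smul_mem_iff _ hd).1 (e4 ▸ Submodule.mem_span_pair.2 ⟨_, _, rfl⟩))

/-- For a quadratic extension images of rational points are rational. -/
theorem isPoint_of_quadratic (h2 : Module.finrank F₀ F = 2) {g : GL ι F} (hg : g ∈ M) {u₀ : ι → F}
    (hu₀ : u₀ ∈ R₀) (huu : f u₀ u₀ = 0) : IsPoint R₀ ((g : Matrix ι ι F) *ᵥ u₀) := by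
  obtain ⟨θ, hθ⟩ : ∃ θ : F, θ ∉ F₀ := by
    by_contra hcon
    simp only [not_exists, not_not] at hcon
    have : Module.finrank F₀ F ≤ 1 := finrank_le_one (1 : F) fun w => ⟨⟨w, hcon w⟩, by
      rw [Subfield.smul_def, smul_eq_mul, mul_one]⟩
    omega
  have hbasis : ∀ μ : F, ∃ a b : F₀, μ = (a : F) + (b : F) * θ := by
    intro μ
    have hind : LinearIndependent F₀ ![(1 : F), θ] := by
      rw [LinearIndependent.pair_iff]
      intro s t hst
      simp only [Subfield.smul_def, smul_eq_mul, mul_one] at hst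
      by_cases ht : t = 0
      · subst ht
        simp at hst
        exact ⟨hst, rfl⟩
      · refine absurd ?_ hθ
        have : θ = -(s : F) / (t : F) := by
          rw [eq_div_iff (fun h => ht (Subtype.ext h))]
          linear_combination hst
        rw [this]
        exact div_mem (neg_mem s.2) t.2
    have hspan := hind.span_eq_top_of_card_eq_finrank' (by simp [h2])
    have hm : μ ∈ Submodule.span F₀ (Set.range ![(1 : F), θ]) := hspan ▸ Submodule.mem_top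
    rw [Matrix.range_cons, Matrix.range_cons, Matrix.range_empty, Set.union_empty, Set.singleton_union] at hm
    obtain ⟨a, b, hab⟩ := Submodule.mem_span_pair.1 hm
    exact ⟨a, b, by rw [← hab, Subfield.smul_def, Subfield.smul_def, smul_eq_mul, smul_eq_mul, mul_one]⟩
  have hdecomp : ∀ v : ι → F, ∃ a ∈ R₀, ∃ b ∈ R₀, v = a + θ • b := by
    intro v
    induction E.span v using Submodule.span_induction with
    | mem a ha => exact ⟨a, ha, 0, R₀.zero_mem, by simp⟩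
    | zero => exact ⟨0, R₀.zero_mem, 0, R₀.zero_mem, by simp⟩
    | add p q _ _ hp hq =>
      obtain ⟨a, ha, b, hb, rfl⟩ := hp
      obtain ⟨a', ha', b', hb', rfl⟩ := hq
      exact ⟨a + a', R₀.add_mem ha ha', b + b', R₀.add_mem hb hb', by rw [smul_add]; abel⟩
    | smul t p _ hp =>
      obtain ⟨a, ha, b, hb, rfl⟩ := hp
      obtain ⟨t0, t1, rfl⟩ := hbasis t
      obtain ⟨s0, s1, hs⟩ := hbasis (θ * θ)
      refine ⟨(t0 : F) • a + ((t1 : F) * s0) • b, R₀.add_mem (smul_mem_rat t0.2 ha)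
          (smul_mem_rat (mul_mem t1.2 s0.2) hb),
        (t1 : F) • a + ((t0 : F) + t1 * s1) • b, R₀.add_mem (smul_mem_rat t1.2 ha)
          (smul_mem_rat (add_mem t0.2 (mul_mem t1.2 s1.2)) hb), ?_⟩
      have e : (t1 : F) * θ * θ = t1 * s0 + t1 * s1 * θ := by linear_combination (t1 : F) * hs
      calc ((t0 : F) + (t1 : F) * θ) • (a + θ • b)
          = (t0 : F) • a + ((t1 : F) * θ) • a + ((t0 : F) * θ) • b + ((t1 : F) * θ * θ) • b := by module
        _ = _ := by rw [e]; module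
  obtain ⟨a, ha, b, hb, hab⟩ := hdecomp ((g : Matrix ι ι F) *ᵥ u₀)
  refine E.isPoint_of_pair O hT hg hu₀ huu ha hb ?_
  rw [hab]
  exact Submodule.add_mem _ (Submodule.subset_span (by simp))
    (Submodule.smul_mem _ _ (Submodule.subset_span (by simp)))

end Setting

end CfsgLib.Classical22.UnitSubfield
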