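/-
The subfield subgroups of special unitary groups are maximal.
-/
import Cfsg.Agent.Lib.Classical22.UnitSubfieldMain
import Cfsg.Agent.Lib.Classical22.OrthSubfieldMatrix
import Cfsg.Agent.Lib.Transvec.HermForm
import Cfsg.Agent.Lib.Transvec.Subfield

set_option autoImplicit false

namespace CfsgLib.Classical22.UnitSubfield

open Matrix Cfsg CfsgLib.Transvec CfsgLib.Transvec.Unitary
open scoped MatrixGroups

section Conditions

variable {ι : Type} [Fintype ι] [DecidableEq ι] {F : Type*} [Field F] [Finite F]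
variable {σ : F ≃+* F} {f : (ι → F) → (ι → F) → F} {F₀ : Subfield F} {R₀ : Submodule F₀ (ι → F)}

theorem exists_skew_mem (hstable : ∀ c ∈ F₀, σ c ∈ F₀) (hinv : ∀ c, σ (σ c) = c) (hne : ∃ a ∈ F₀, σ a ≠ a) :
    ∃ c ∈ F₀, c ≠ 0 ∧ c + σ c = 0 := by
  obtain ⟨a, ha, hne⟩ := hne
  exact ⟨a - σ a, sub_mem ha (hstable a ha), sub_ne_zero.2 (Ne.symm hne), by rw [map_sub, hinv]; ring⟩

theorem trace_of_moves (hstable : ∀ c ∈ F₀, σ c ∈ F₀) (hinv : ∀ c, σ (σ c) = c) (hne : ∃ a ∈ F₀, σ a ≠ a)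
    (b : F) (hb : b ∈ F₀) (hbf : σ b = b) : ∃ a ∈ F₀, a + σ a = b := by
  obtain ⟨e, heF, he⟩ : ∃ e ∈ F₀, e + σ e ≠ 0 := by
    by_contra h
    simp only [not_exists, not_and, not_not] at h
    obtain ⟨a, ha, hne⟩ := hne
    have h1 := h 1 (one_mem F₀)
    rw [map_one] at h1
    exact hne (by linear_combination h a ha - a * h1)
  have hfix : σ (e + σ e) = e + σ e := by rw [map_add, hinv]; ring
  refine ⟨b / (e + σ e) * e, mul_mem (div_mem hb (add_mem heF (hstable e heF))) heF, ?_⟩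
  rw [map_mul, map_div₀, hbf, hfix, ← mul_add, div_mul_cancel₀ b he]

/-- Isotropic vectors in three-dimensional rational spaces, hermitian case. -/
theorem iso3_of_moves (hf : Cfsg.Geo.IsUnitaryForm σ f) (hstable : ∀ c ∈ F₀, σ c ∈ F₀)
    (hne : ∃ a ∈ F₀, σ a ≠ a) (hrat : ∀ a ∈ R₀, ∀ b ∈ R₀, f a b ∈ F₀) (S : Submodule F₀ (ι → F)) (hS : S ≤ R₀)
    (hd : 2 ≤ Module.finrank F₀ S) : ∃ u ∈ S, u ≠ 0 ∧ f u u = 0 := by
  let σh : F₀ →+* F₀ := ((σ : F →+* F).comp F₀.subtype).codRestrict F₀ fun x => hstable x x.2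
  let σ₀ : F₀ ≃+* F₀ := RingEquiv.ofBijective σh (Finite.injective_iff_bijective.1 σh.injective)
  have happ : ∀ x : F₀, (σ₀ x : F) = σ x := fun x => rfl
  have hne₀ : σ₀ ≠ RingEquiv.refl F₀ := fun h => by
    obtain ⟨a, ha, hne⟩ := hne
    exact hne (congrArg Subtype.val (DFunLike.congr_fun h (⟨a, ha⟩ : F₀)))
  obtain ⟨a, ha, ha0⟩ := Submodule.exists_mem_ne_zero_of_ne_bot (p := S) fun h => by
    rw [h, finrank_bot] at hd; omega
  by_cases haa : f a a = 0
  · exact ⟨a, ha, ha0, haa⟩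
  let φ : S →ₗ[F₀] F₀ :=
    { toFun := fun v => ⟨f v a, hrat v (hS v.2) a (hS ha)⟩
      map_add' := fun v w => Subtype.ext (hf.add_left v w a)
      map_smul' := fun c v => Subtype.ext (by
        show f ((c • v : S) : ι → F) a = _
        rw [Submodule.coe_smul, coe_smul_eq, hf.smul_left]
        rfl) }
  obtain ⟨b, hb, hb0⟩ := Submodule.exists_mem_ne_zero_of_ne_bot (p := LinearMap.ker φ) fun h => by
    have h1 := LinearMap.finrank_range_add_finrank_ker φ
    have h2 := Submodule.finrank_le (LinearMap.range φ)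
    rw [h, finrank_bot] at h1
    rw [Module.finrank_self] at h2
    omega
  have hba : f (b : ι → F) a = 0 := congrArg Subtype.val (LinearMap.mem_ker.1 hb)
  have hab : f a (b : ι → F) = 0 := (eq_zero_comm hf).1 hba
  by_cases hbb : f (b : ι → F) b = 0
  · exact ⟨b, b.2, fun h => hb0 (Subtype.ext h), hbb⟩
  obtain ⟨t, ht⟩ := exists_norm_eq (σ := σ₀) hne₀ (fun x => Subtype.ext (hf.involutive x))
    (b := ⟨-f a a / f (b : ι → F) b, div_mem (neg_mem (hrat a (hS ha) a (hS ha))) (hrat b (hS b.2) b (hS b.2))⟩)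
    (Subtype.ext (by
      rw [happ]
      show σ (-f a a / f (b : ι → F) b) = _
      rw [map_div₀, map_neg, self_fixed hf, self_fixed hf]))
  have ht' : (t : F) * σ (t : F) = -f a a / f (b : ι → F) b := congrArg Subtype.val ht
  refine ⟨a + (t : F) • (b : ι → F), S.add_mem ha (smul_mem_rat t.2 b.2), fun h => haa ?_, ?_⟩
  · have := congrArg (fun v => f v a) h
    simpa [hf.add_left, hf.smul_left, hba, zero_left' hf] using this
  · rw [eq_div_iff hbb] at ht'
    simp only [hf.add_left, add_right' hf, hf.smul_left, smul_right' hf, hab, hba]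
    linear_combination ht'

/-- Isotropic vectors in three-dimensional rational spaces, symmetric case. -/
theorem iso3_of_fixed (hf : Cfsg.Geo.IsUnitaryForm σ f) (hfix : ∀ c ∈ F₀, σ c = c)
    (hrat : ∀ a ∈ R₀, ∀ b ∈ R₀, f a b ∈ F₀) (S : Submodule F₀ (ι → F)) (hS : S ≤ R₀)
    (hd : 3 ≤ Module.finrank F₀ S) : ∃ u ∈ S, u ≠ 0 ∧ f u u = 0 := by
  let bl : LinearMap.BilinForm F₀ S :=
    LinearMap.mk₂ F₀ (fun v w => (⟨f v w, hrat v (hS v.2) w (hS w.2)⟩ : F₀))
      (fun v v' w => Subtype.ext (hf.add_left v v' w))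
      (fun c v w => Subtype.ext (by
        show f ((c • v : S) : ι → F) w = _
        rw [Submodule.coe_smul, coe_smul_eq, hf.smul_left]; rfl))
      (fun v w w' => Subtype.ext (add_right' hf v w w'))
      (fun c v w => Subtype.ext (by
        show f v ((c • w : S) : ι → F) = _
        rw [Submodule.coe_smul, coe_smul_eq, smul_right' hf, hfix c c.2]; rfl))
  haveI : Fintype F₀ := Fintype.ofFinite _
  obtain ⟨u, -, hu0, hu⟩ := CfsgLib.Classical22.exists_singular_mem bl.toQuadraticMap (C := (⊤ : Submodule F₀ S))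
    (by rwa [finrank_top])
  exact ⟨u, u.2, fun h => hu0 (Subtype.ext h), congrArg Subtype.val hu⟩

end Conditions

variable {F : Type*} [Field F] [Fintype F] {n q : ℕ} {σ : F ≃+* F}

/-- The elements fixed by the Frobenius of a subfield lie in it. -/
theorem mem_of_pow_card {F : Type*} [Field F] [Fintype F] (F₀ : Subfield F) (μ : F) (h : μ ^ Nat.card F₀ = μ) :
    μ ∈ F₀ := by
  classical
  haveI : Fintype F₀ := Fintype.ofFinite _
  rw [Nat.card_eq_fintype_card] at h
  by_contra hμ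
  let S : Finset F := (Finset.univ : Finset F₀).map ⟨Subtype.val, Subtype.val_injective⟩
  have hS : S.card = Fintype.card F₀ := Finset.card_map _
  have hroot : ∀ a ∈ insert μ S, a ∈ (Polynomial.X ^ Fintype.card F₀ - Polynomial.X : Polynomial F).roots.toFinset := by
    intro a ha
    rw [Multiset.mem_toFinset, Polynomial.mem_roots (FiniteField.X_pow_card_sub_X_ne_zero F Fintype.one_lt_card),
      Polynomial.IsRoot, Polynomial.eval_sub, Polynomial.eval_pow, Polynomial.eval_X, sub_eq_zero]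
    rcases Finset.mem_insert.1 ha with rfl | ha
    · exact h
    · obtain ⟨b, -, rfl⟩ := Finset.mem_map.1 ha
      exact congrArg Subtype.val (FiniteField.pow_card b)
  have h1 := (Finset.card_le_card hroot).trans (Multiset.toFinset_card_le _)
  have h2 := h1.trans (Polynomial.card_roots' _)
  rw [FiniteField.X_pow_card_sub_X_natDegree_eq F Fintype.one_lt_card,
    Finset.card_insert_of_notMem (fun hm => hμ (by obtain ⟨b, -, rfl⟩ := Finset.mem_map.1 hm; exact b.2)), hS] at h2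
  omega

/-- The rational vectors attached to a change of basis. -/
noncomputable def ratSpace (F₀ : Subfield F) (P : GL (Fin n) F) : Submodule F₀ (Fin n → F) :=
  LinearMap.range
    ({ toFun := fun u => (P : Matrix (Fin n) (Fin n) F) *ᵥ coeVec F₀ u
       map_add' := fun a b => by rw [coeVec_add, mulVec_add]
       map_smul' := fun c a => by rw [coeVec_smul, mulVec_smul]; rfl } :
      (Fin n → F₀) →ₗ[F₀] (Fin n → F))

theorem mem_ratSpace {F₀ : Subfield F} {P : GL (Fin n) F} {v : Fin n → F} :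
    v ∈ ratSpace F₀ P ↔ ∃ u : Fin n → F₀, (P : Matrix (Fin n) (Fin n) F) *ᵥ coeVec F₀ u = v := Iff.rfl

theorem setting_ratSpace (hσ : ∀ x, σ x = x ^ q) (hinv : ∀ x, σ (σ x) = x) (hne : σ ≠ RingEquiv.refl F)
    (hn : 6 ≤ n) (F₀ : Subfield F) (P : GL (Fin n) F)
    (hP : Cfsg.Geo.IsFormRationalStructure (Cfsg.hermForm n F q) F₀ 1 P)
    (htrace : ∀ b ∈ F₀, σ b = b → ∃ a ∈ F₀, a + σ a = b)
    (hiso : ∀ S ≤ ratSpace F₀ P, 3 ≤ Module.finrank F₀ S →
      ∃ u ∈ S, u ≠ 0 ∧ Cfsg.hermForm n F q u u = 0) :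
    Setting σ (Cfsg.hermForm n F q) F₀ (ratSpace F₀ P) where
  uni := isUnitaryForm_hermForm hσ hinv hne
  stable c hc := by rw [hσ]; exact pow_mem hc q
  rat a ha b hb := by
    obtain ⟨u, rfl⟩ := mem_ratSpace.1 ha
    obtain ⟨w, rfl⟩ := mem_ratSpace.1 hb
    have := hP (coeVec F₀ u) (coeVec F₀ w) (fun i => (u i).2) fun i => (w i).2
    rwa [one_mul] at this
  span v := by
    refine Submodule.span_mono ?_ (mem_span_rational (F₀ := F₀) (P := P) v)
    rintro _ ⟨u, rfl⟩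
    exact ⟨u, rfl⟩
  trace := htrace
  iso3 := hiso
  dim := by
    rw [ratSpace, LinearMap.finrank_range_of_inj, Module.finrank_fin_fun]
    · exact hn
    · exact fun a b h => coeVec_injective (mulVec_injective P h)

theorem mem_subfield_of_preserve {F₀ : Subfield F} {P : GL (Fin n) F} (g : GL (Fin n) F) (l : F)
    (h : ∀ r ∈ ratSpace F₀ P, ∃ r' ∈ ratSpace F₀ P, (g : Matrix (Fin n) (Fin n) F) *ᵥ r = l • r') :
    g ∈ Cfsg.Geo.subfieldSubgroup F₀ P := by
  refine mem_subfieldSubgroup_of_lines g fun u => ?_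
  obtain ⟨_, ⟨w, rfl⟩, hr⟩ := h _ (mem_ratSpace.2 ⟨u, rfl⟩)
  exact ⟨l, w, hr⟩

theorem isMaximalIn_subfield (hσ : ∀ x, σ x = x ^ q) (hinv : ∀ x, σ (σ x) = x) (hne : σ ≠ RingEquiv.refl F)
    (hn : 6 ≤ n) {F₀ : Subfield F} (hne₀ : F₀ ≠ ⊤) (hgen : ∀ K : Subfield F, F₀ < K → K = ⊤) {P : GL (Fin n) F}
    (E : Setting σ (Cfsg.hermForm n F q) F₀ (ratSpace F₀ P))
    (hkind : Module.finrank F₀ F = 2 ∨ ∀ S ≤ ratSpace F₀ P, 2 ≤ Module.finrank F₀ S →
      ∃ u ∈ S, u ≠ 0 ∧ Cfsg.hermForm n F q u u = 0)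
    (himg : ∀ M : Subgroup (GL (Fin n) F), Over σ (Cfsg.hermForm n F q) (ratSpace F₀ P) M →
      Tight σ (Cfsg.hermForm n F q) (ratSpace F₀ P) M →
      Cfsg.Geo.subfieldSubgroup F₀ P ⊓ (Cfsg.GU n F q ⊓ Cfsg.Geo.specialLinear (Fin n) F) ≤ M →
      ∀ g ∈ M, ∀ x ∈ ratSpace F₀ P, x ≠ 0 → Cfsg.hermForm n F q x x = 0 →
        IsPoint (ratSpace F₀ P) ((g : Matrix (Fin n) (Fin n) F) *ᵥ x)) :
    Cfsg.Geo.IsMaximalIn (Cfsg.GU n F q ⊓ Cfsg.Geo.specialLinear (Fin n) F)
      (Cfsg.Geo.subfieldSubgroup F₀ P ⊓ (Cfsg.GU n F q ⊓ Cfsg.Geo.specialLinear (Fin n) F)) := by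
  have hf := isUnitaryForm_hermForm (n := n) hσ hinv hne
  obtain ⟨x, hx, hx0, hxx⟩ := E.iso3 _ le_rfl (by have := E.dim; omega)
  refine ⟨lt_of_le_not_ge inf_le_right fun hle => ?_, fun M hHM hMK => ?_⟩
  · obtain ⟨θ, -, hθ⟩ := SetLike.exists_of_lt (lt_top_iff_ne_top.2 hne₀)
    have hxP : Submodule.span F₀ {x} ≤ ratSpace F₀ P := Submodule.span_le.2 (Set.singleton_subset_iff.2 hx)
    obtain ⟨a, b, ha, -, haa, -, -, -, haP⟩ := E.exists_pair_perp_one hx
    have hxa : Cfsg.hermForm n F q x a = 0 :=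
      (eq_zero_comm hf).1 (ha.2 x (Submodule.mem_span_singleton_self x))
    obtain ⟨y, hy, hyP, hya⟩ := E.exists_sep hxP ha.1 haP
    obtain ⟨y', hy', hy'x⟩ := E.exists_dual hx hx0
    have hk : uX σ (Cfsg.hermForm n F q) x a θ ∈ Cfsg.GU n F q ⊓ Cfsg.Geo.specialLinear (Fin n) F :=
      ⟨iso_uX hf hxx haa hxa θ,
        (Cfsg.Geo.specialLinear (Fin n) F).mul_mem (transv_mem_specialLinear _ _) (transv_mem_specialLinear _ _)⟩
    obtain ⟨u, rfl⟩ := mem_ratSpace.1 hy
    obtain ⟨l, w, hlr⟩ := lines_of_mem_subfieldSubgroup (hle hk).1 u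
    rw [uX_mulVec hf haa hxa, hya, hyP x (Submodule.mem_span_singleton_self x), mul_one, mul_zero, zero_smul,
      sub_zero] at hlr
    obtain ⟨r, hr⟩ : ∃ r, r = (P : Matrix (Fin n) (Fin n) F) *ᵥ coeVec F₀ w := ⟨_, rfl⟩
    rw [← hr] at hlr
    have hrR : r ∈ ratSpace F₀ P := mem_ratSpace.2 ⟨w, hr.symm⟩
    have h1 := congrArg (fun z => Cfsg.hermForm n F q z a) hlr
    simp only [hf.add_left, hf.smul_left, hya, hxa, mul_zero, add_zero] at h1
    have hl : l ∈ F₀ := by
      rw [eq_inv_of_mul_eq_one_left h1.symm]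
      exact inv_mem (E.rat r hrR a ha.1)
    have h2 := congrArg (fun z => Cfsg.hermForm n F q z y') hlr
    simp only [hf.add_left, hf.smul_left, show Cfsg.hermForm n F q x y' = 1 by
      rw [hf.herm, hy'x, map_one], mul_one] at h2
    refine hθ ?_
    rw [eq_sub_of_add_eq' h2]
    exact sub_mem (mul_mem hl (E.rat r hrR y' hy')) (E.rat _ hy y' hy')
  have O : Over σ (Cfsg.hermForm n F q) (ratSpace F₀ P) M := by
    refine ⟨fun a ha b hb haa hbb hab => hHM ⟨?_, iso_uX hf haa hbb hab 1,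
      (Cfsg.Geo.specialLinear (Fin n) F).mul_mem (transv_mem_specialLinear _ _) (transv_mem_specialLinear _ _)⟩,
      fun g hg => (hMK hg).1⟩
    refine mem_subfield_of_preserve _ 1 fun r hr => ⟨_, ?_, (one_smul F _).symm⟩
    rw [uX_mulVec hf hbb hab]
    exact (ratSpace F₀ P).sub_mem ((ratSpace F₀ P).add_mem hr
      (smul_mem_rat (mul_mem (one_mem F₀) (E.rat r hr b hb)) ha))
      (smul_mem_rat (mul_mem (E.stable 1 (one_mem F₀)) (E.rat r hr a ha)) hb)
  by_cases hT : Tight σ (Cfsg.hermForm n F q) (ratSpace F₀ P) M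
  · refine Or.inl (le_antisymm (le_inf (fun g hg => ?_) hMK) hHM)
    obtain ⟨l, hl⟩ := E.preserve_of_point O hT hg hx hx0 hxx (himg M O hT hHM g hg x hx hx0 hxx)
    exact mem_subfield_of_preserve g l hl
  · exact Or.inr (le_antisymm hMK (SU_le_of_transv hσ hinv hne (by omega)
      (E.transv_mem_of_not_tight O hgen hkind hT)))

theorem isMaximalIn_subfield_odd {q : ℕ} (hF : Fintype.card F = q ^ 2) (hn : 6 ≤ n) (F₀ : Subfield F) {r : ℕ}
    (hr : r.Prime) (hro : Odd r) (hcard : Fintype.card F = Nat.card F₀ ^ r) (P : GL (Fin n) F)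
    (hP : Cfsg.Geo.IsFormRationalStructure (Cfsg.hermForm n F q) F₀ 1 P) :
    Cfsg.Geo.IsMaximalIn (Cfsg.GU n F q ⊓ Cfsg.Geo.specialLinear (Fin n) F)
      (Cfsg.Geo.subfieldSubgroup F₀ P ⊓ (Cfsg.GU n F q ⊓ Cfsg.Geo.specialLinear (Fin n) F)) := by
  obtain ⟨σ, hσ, hinv, hne⟩ := exists_frob hF
  have hf := isUnitaryForm_hermForm (n := n) hσ hinv hne
  obtain ⟨hne₀, hgen⟩ := OrthSubfield.eq_top_of_prime_degree F₀ hr hcard
  have hstable : ∀ c ∈ F₀, σ c ∈ F₀ := fun c hc => by rw [hσ]; exact pow_mem hc q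
  have hmoves : ∃ a ∈ F₀, σ a ≠ a := by
    by_contra hcon
    simp only [not_exists, not_and, not_not] at hcon
    let K : Subfield F := RingHom.eqLocusField (σ : F →+* F) (RingHom.id F)
    have hle : F₀ ≤ K := hcon
    have hKtop : K ≠ ⊤ := fun h => hne (RingEquiv.ext fun a => by
      have : a ∈ K := h ▸ Subfield.mem_top a
      exact this)
    have hK : K = F₀ := by
      by_contra hne'
      exact hKtop (hgen K (lt_of_le_of_ne hle (Ne.symm hne')))
    -- every element satisfies a quadratic equation over the fixed field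
    obtain ⟨c, hc0, hc⟩ := exists_skew hne hinv
    obtain ⟨e, he⟩ := exists_trace_eq hne hinv (map_one σ)
    have hfin : Module.finrank F₀ F ≤ 2 := by
      let S : Submodule F₀ F := Submodule.span F₀ (Set.range ![e, c])
      have htop : S = ⊤ := by
        refine top_unique fun y _ => ?_
        have hfix1 : y + σ y ∈ F₀ := hK ▸ (show σ (y + σ y) = y + σ y by rw [map_add, hinv]; ring)
        obtain ⟨d, hd⟩ : ∃ d, d = y - (y + σ y) * e := ⟨_, rfl⟩
        have hσe : σ e = 1 - e := by linear_combination he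
        have hd2 : σ d = -d := by
          rw [hd, map_sub, map_mul, map_add, hinv, hσe]; ring
        have hfix2 : d / c ∈ F₀ := hK ▸ (show σ (d / c) = d / c by
          rw [map_div₀, hd2, show σ c = -c by linear_combination hc, neg_div_neg_eq])
        have ey : y = (⟨_, hfix1⟩ : F₀) • e + (⟨_, hfix2⟩ : F₀) • c := by
          rw [Subfield.smul_def, Subfield.smul_def, smul_eq_mul, smul_eq_mul, div_mul_cancel₀ _ hc0, hd]
          ring
        rw [ey]
        exact S.add_mem (S.smul_mem _ (Submodule.subset_span ⟨0, rfl⟩))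
          (S.smul_mem _ (Submodule.subset_span ⟨1, rfl⟩))
      have := finrank_range_le_card (R := F₀) (b := ![e, c])
      rw [Set.finrank, show Submodule.span F₀ (Set.range ![e, c]) = ⊤ from htop, finrank_top,
        Fintype.card_fin] at this
      exact this
    have h1 := Module.natCard_eq_pow_finrank (K := F₀) (V := F)
    rw [Nat.card_eq_fintype_card, hcard] at h1
    have h2 := Nat.pow_right_injective (Nat.succ_le_of_lt Finite.one_lt_card) h1
    have := hr.two_le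
    obtain ⟨k, hk⟩ := hro
    omega
  have hiso2 : ∀ S ≤ ratSpace F₀ P, 2 ≤ Module.finrank F₀ S →
      ∃ u ∈ S, u ≠ 0 ∧ Cfsg.hermForm n F q u u = 0 := by
    intro S hS hd
    refine iso3_of_moves hf hstable hmoves ?_ S hS hd
    intro a ha b hb
    obtain ⟨u, rfl⟩ := mem_ratSpace.1 ha
    obtain ⟨w, rfl⟩ := mem_ratSpace.1 hb
    have := hP (coeVec F₀ u) (coeVec F₀ w) (fun i => (u i).2) fun i => (w i).2
    rwa [one_mul] at this
  have E := setting_ratSpace hσ hinv hne hn F₀ P hP (trace_of_moves hstable hinv hmoves)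
    fun S hS hd => hiso2 S hS (by omega)
  obtain ⟨c, hcF, hc0, hc⟩ := exists_skew_mem hstable hinv hmoves
  have h9 : ∀ μ : F, μ ∉ F₀ → ∃ τ : F ≃+* F, (∀ a ∈ F₀, τ a = a) ∧ τ μ ≠ μ ∧ τ (τ μ) ≠ μ := by
    intro μ hμ
    haveI : Fintype F₀ := Fintype.ofFinite _
    let τ' : Gal(F/F₀) := FiniteField.frobeniusAlgEquivOfAlgebraic F₀ F
    have hτ : ∀ a, τ' a = a ^ Nat.card F₀ := fun a => by
      rw [Nat.card_eq_fintype_card]; rfl
    refine ⟨τ'.toRingEquiv, fun a ha => τ'.commutes (⟨a, ha⟩ : F₀), fun h => hμ ?_, fun h => ?_⟩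
    · exact (mem_of_pow_card F₀ μ) (by rw [← hτ]; exact h)
    · refine hμ ((mem_of_pow_card F₀ μ) ?_)
      change τ' (τ' μ) = μ at h
      rw [hτ, hτ, ← pow_mul] at h
      have hiter : ∀ k : ℕ, μ ^ ((Nat.card F₀ * Nat.card F₀) ^ k) = μ := fun k => by
        induction k with
        | zero => rw [pow_zero, pow_one]
        | succ k ih => rw [pow_succ, pow_mul, ih, h]
      obtain ⟨k, hk⟩ := hro
      have h1 : μ ^ (Nat.card F₀ ^ r * Nat.card F₀) = μ := by
        rw [show Nat.card F₀ ^ r * Nat.card F₀ = (Nat.card F₀ * Nat.card F₀) ^ (k + 1) by rw [hk]; ring]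
        exact hiter _
      rwa [← hcard, pow_mul, FiniteField.pow_card] at h1
  refine isMaximalIn_subfield hσ hinv hne hn hne₀ hgen E (Or.inr hiso2) fun M O hT hHM g hg x hx hx0 hxx =>
    E.isPoint_of_transv O hT h9 hc0 hcF hc hiso2 (fun z hz hzz => hHM ⟨?_, uT_mem_SU hσ hinv hne hzz hc⟩) hg hx hx0 hxx
  refine mem_subfield_of_preserve _ 1 fun w hw => ⟨_, ?_, (one_smul F _).symm⟩
  rw [uT_mulVec hf hzz]
  exact (ratSpace F₀ P).add_mem hw (smul_mem_rat (mul_mem hcF (E.rat w hw z hz)) hz)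

theorem isMaximalIn_subfield_two {q : ℕ} (hF : Fintype.card F = q ^ 2) (hn : 6 ≤ n) (hodd : Odd q)
    (F₀ : Subfield F) (hcard : Fintype.card F = Nat.card F₀ ^ 2) (P : GL (Fin n) F)
    (hP : Cfsg.Geo.IsFormRationalStructure (Cfsg.hermForm n F q) F₀ 1 P) :
    Cfsg.Geo.IsMaximalIn (Cfsg.GU n F q ⊓ Cfsg.Geo.specialLinear (Fin n) F)
      (Cfsg.Geo.subfieldSubgroup F₀ P ⊓ (Cfsg.GU n F q ⊓ Cfsg.Geo.specialLinear (Fin n) F)) := by
  obtain ⟨σ, hσ, hinv, hne⟩ := exists_frob hF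
  have hf := isUnitaryForm_hermForm (n := n) hσ hinv hne
  obtain ⟨hne₀, hgen⟩ := OrthSubfield.eq_top_of_prime_degree F₀ Nat.prime_two hcard
  haveI : Fintype F₀ := Fintype.ofFinite _
  have hq : Fintype.card F₀ = q := by
    rw [← Nat.card_eq_fintype_card]
    exact Nat.pow_left_injective two_ne_zero (hcard.symm.trans hF)
  have hfix : ∀ c ∈ F₀, σ c = c := fun c hc => by
    rw [hσ, ← hq]
    exact congrArg Subtype.val (FiniteField.pow_card (⟨c, hc⟩ : F₀))
  have h2 : (2 : F) ≠ 0 := fun h => by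
    haveI : CharP F 2 := CharTwo.of_one_ne_zero_of_two_eq_zero one_ne_zero h
    have := FiniteField.even_card_of_char_two (ringChar.eq F 2)
    rw [hF] at this
    exact Nat.not_even_iff_odd.2 (hodd.pow) (Nat.even_iff.2 this)
  have E := setting_ratSpace hσ hinv hne hn F₀ P hP
    (fun b hb _ => ⟨b / 2, div_mem hb (ofNat_mem F₀ 2), by
      rw [hfix _ (div_mem hb (ofNat_mem F₀ 2))]; field_simp; ring⟩) (by
    intro S hS hd
    refine iso3_of_fixed hf hfix ?_ S hS hd
    intro a ha b hb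
    obtain ⟨u, rfl⟩ := mem_ratSpace.1 ha
    obtain ⟨w, rfl⟩ := mem_ratSpace.1 hb
    have := hP (coeVec F₀ u) (coeVec F₀ w) (fun i => (u i).2) fun i => (w i).2
    rwa [one_mul] at this)
  have hfin : Module.finrank F₀ F = 2 := by
    have h1 := Module.natCard_eq_pow_finrank (K := F₀) (V := F)
    rw [Nat.card_eq_fintype_card, hcard] at h1
    exact (Nat.pow_right_injective (Nat.succ_le_of_lt Finite.one_lt_card) h1).symm
  exact isMaximalIn_subfield hσ hinv hne hn hne₀ hgen E (Or.inl hfin) fun M O hT _ g hg x hx _ hxx =>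
    E.isPoint_of_quadratic O hT hfin hg hx hxx

end CfsgLib.Classical22.UnitSubfield
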