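import Mathlib.GroupTheory.SpecificGroups.Alternating
import Mathlib.GroupTheory.GroupAction.Primitive

/-!
Second maximal subgroups below a maximal point stabilizer in an action of odd degree whose
image contains the alternating group: only 3-cycles and blocks are used.
-/

namespace CfsgLib.Classical22.SecondMaximal

variable {G Ω : Type*} [Group G] [MulAction G Ω]

/-- The elements preserving a set of points (in both directions). -/
def setStab (B : Set Ω) : Subgroup G where
  carrier := {g | ∀ x, g • x ∈ B ↔ x ∈ B}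
  mul_mem' := by
    intro g h hg hh x
    rw [mul_smul]
    exact (hg _).trans (hh x)
  one_mem' := by intro x; simp
  inv_mem' := by
    intro g hg x
    have := hg (g⁻¹ • x)
    rw [smul_inv_smul] at this
    exact this.symm

theorem mem_setStab {B : Set Ω} {g : G} : g ∈ setStab B ↔ ∀ x, g • x ∈ B ↔ x ∈ B := Iff.rfl

variable [Fintype Ω] [DecidableEq Ω]

theorem exists_cycle
    (halt : ∀ σ : Equiv.Perm Ω, σ ∈ alternatingGroup Ω → ∃ g : G, ∀ x, g • x = σ x)
    {b c d : Ω} (hbc : b ≠ c) (hbd : b ≠ d) (hcd : c ≠ d) :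
    ∃ g : G, g • b = c ∧ g • c = d ∧ g • d = b ∧ ∀ x, x ≠ b → x ≠ c → x ≠ d → g • x = x := by
  have hmem : Equiv.swap b c * Equiv.swap c d ∈ alternatingGroup Ω := by
    rw [Equiv.Perm.mem_alternatingGroup, map_mul, Equiv.Perm.sign_swap hbc,
      Equiv.Perm.sign_swap hcd]
    rfl
  obtain ⟨g, hg⟩ := halt _ hmem
  refine ⟨g, ?_, ?_, ?_, ?_⟩
  · rw [hg, Equiv.Perm.mul_apply, Equiv.swap_apply_of_ne_of_ne hbc hbd, Equiv.swap_apply_left]
  · rw [hg, Equiv.Perm.mul_apply, Equiv.swap_apply_left,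
      Equiv.swap_apply_of_ne_of_ne hbd.symm hcd.symm]
  · rw [hg, Equiv.Perm.mul_apply, Equiv.swap_apply_right, Equiv.swap_apply_right]
  · intro x hb hc hd
    rw [hg, Equiv.Perm.mul_apply, Equiv.swap_apply_of_ne_of_ne hc hd,
      Equiv.swap_apply_of_ne_of_ne hb hc]

theorem eq_or_eq_of_between (hodd : Odd (Fintype.card Ω))
    (halt : ∀ σ : Equiv.Perm Ω, σ ∈ alternatingGroup Ω → ∃ g : G, ∀ x, g • x = σ x)
    (a : Ω) (K : Subgroup G) (hK : IsCoatom K)
    (hmax : ∀ S : Subgroup G, K ⊓ MulAction.stabilizer G a ≤ S → S ≤ MulAction.stabilizer G a →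
      S = K ⊓ MulAction.stabilizer G a ∨ S = MulAction.stabilizer G a)
    (L : Subgroup G) (hHL : K ⊓ MulAction.stabilizer G a ≤ L) (hLK : L ≤ K) :
    L = K ⊓ MulAction.stabilizer G a ∨ L = K := by
  classical
  by_contra hcon
  rw [not_or] at hcon
  obtain ⟨hne1, hne2⟩ := hcon
  set B : Set Ω := {x | ∃ l ∈ L, l • a = x} with hB
  set O : Set Ω := {x | ∃ k ∈ K, k • a = x} with hO
  have haB : a ∈ B := ⟨1, L.one_mem, one_smul _ _⟩
  have hBO : B ⊆ O := by
    rintro x ⟨l, hl, rfl⟩
    exact ⟨l, hLK hl, rfl⟩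
  have hOK : ∀ k ∈ K, ∀ x ∈ O, k • x ∈ O := by
    rintro k hk x ⟨k', hk', rfl⟩
    exact ⟨k * k', K.mul_mem hk hk', mul_smul _ _ _⟩
  have hblock : ∀ k ∈ K, ∀ x ∈ B, k • x ∈ B → k ∈ L := by
    rintro k hk x ⟨l, hl, rfl⟩ ⟨l', hl', hl'eq⟩
    have h1 : l'⁻¹ * k * l ∈ K ⊓ MulAction.stabilizer G a := by
      refine ⟨K.mul_mem (K.mul_mem (K.inv_mem (hLK hl')) hk) (hLK hl), ?_⟩
      show (l'⁻¹ * k * l) • a = a
      rw [mul_smul, mul_smul, ← hl'eq, inv_smul_smul]
    have h2 := L.mul_mem (L.mul_mem hl' (hHL h1)) (L.inv_mem hl)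
    simpa [mul_assoc] using h2
  have hLB : ∀ l ∈ L, ∀ x, l • x ∈ B ↔ x ∈ B := by
    intro l hl x
    constructor
    · rintro ⟨m, hm, hmx⟩
      exact ⟨l⁻¹ * m, L.mul_mem (L.inv_mem hl) hm, by rw [mul_smul, hmx, inv_smul_smul]⟩
    · rintro ⟨m, hm, rfl⟩
      exact ⟨l * m, L.mul_mem hl hm, mul_smul _ _ _⟩
  -- a second point of `B`
  obtain ⟨b, hbB, hba⟩ : ∃ b ∈ B, b ≠ a := by
    by_contra h
    push_neg at h
    apply hne1
    refine le_antisymm (fun l hl => ⟨hLK hl, ?_⟩) hHL
    exact h _ ⟨l, hl, rfl⟩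
  -- a point of `O` outside `B`
  obtain ⟨k, hk, hkL⟩ : ∃ k ∈ K, k ∉ L := by
    by_contra h
    push_neg at h
    exact hne2 (le_antisymm hLK h)
  have hka : k • a ∉ B := fun h => hkL (hblock k hk a haB h)
  have hkb : k • b ∉ B := fun h => hkL (hblock k hk b hbB h)
  have hkab : k • a ≠ k • b := fun h => hba ((MulAction.injective k) h).symm
  have hkaa : k • a ≠ a := fun h => hka (by rw [h]; exact haB)
  have hkba : k • b ≠ a := fun h => hkb (by rw [h]; exact haB)
  have hbka : b ≠ k • a := fun h => hka (h ▸ hbB)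
  have hbkb : b ≠ k • b := fun h => hkb (h ▸ hbB)
  have hkaO : k • a ∈ O := hOK k hk a (hBO haB)
  have hkbO : k • b ∈ O := hOK k hk b (hBO hbB)
  -- a three-cycle moving `b` out of `B` and fixing `a`
  obtain ⟨g, hgb, hgc, hgd, hgfix⟩ := exists_cycle halt hbka hbkb hkab
  have hga : g • a = a := hgfix a hba.symm hkaa.symm hkba.symm
  by_cases htr : ∀ x, x ∈ O
  · -- the transitive case: a point outside `B` and `k • B`
    obtain ⟨d, hdB, hdk⟩ : ∃ d, d ∉ B ∧ ∀ x ∈ B, k • x ≠ d := by
      by_contra h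
      push_neg at h
      have hdisj : Disjoint B.toFinset (B.toFinset.image fun x => k • x) := by
        rw [Finset.disjoint_left]
        intro x hx hx'
        rw [Finset.mem_image] at hx'
        obtain ⟨y, hy, rfl⟩ := hx'
        rw [Set.mem_toFinset] at hx hy
        exact hkL (hblock k hk y hy hx)
      have huniv : B.toFinset ∪ (B.toFinset.image fun x => k • x) = Finset.univ := by
        refine Finset.eq_univ_of_forall fun x => ?_
        rw [Finset.mem_union, Finset.mem_image]
        by_cases hx : x ∈ B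
        · exact Or.inl (Set.mem_toFinset.mpr hx)
        · obtain ⟨y, hy, hxy⟩ := h x hx
          exact Or.inr ⟨y, Set.mem_toFinset.mpr hy, hxy⟩
      have := congrArg Finset.card huniv
      rw [Finset.card_union_of_disjoint hdisj,
        Finset.card_image_of_injective _ (MulAction.injective k), Finset.card_univ] at this
      obtain ⟨j, hj⟩ := hodd
      omega
    have hd1 : k • a ≠ d := hdk a haB
    have hd2 : k • b ≠ d := hdk b hbB
    obtain ⟨g₂, h1, h2, h3, h4⟩ := exists_cycle halt hkab hd1 hd2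
    have h2a : g₂ • a = a := h4 a hkaa.symm hkba.symm (fun h => hdB (h ▸ haB))
    -- `g₂` fixes `a` and preserves `B`, so it lies in `K`
    have hS1 : K ⊓ MulAction.stabilizer G a ≤ MulAction.stabilizer G a ⊓ setStab B :=
      fun x hx => ⟨hx.2, hLB x (hHL hx)⟩
    rcases hmax _ hS1 inf_le_left with hS | hS
    · have hfixB : ∀ x ∈ B, g₂ • x = x := fun x hx =>
        h4 x (fun h => hka (h ▸ hx)) (fun h => hkb (h ▸ hx)) (fun h => hdB (h ▸ hx))
      have hg₂S : g₂ ∈ MulAction.stabilizer G a ⊓ setStab B := by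
        refine ⟨h2a, fun x => ⟨fun hx => ?_, fun hx => by rw [hfixB x hx]; exact hx⟩⟩
        have := hfixB _ hx
        rw [(MulAction.injective g₂) this] at hx
        exact hx
      rw [hS] at hg₂S
      have hmem : k⁻¹ * g₂ * k ∈ K := K.mul_mem (K.mul_mem (K.inv_mem hk) hg₂S.1) hk
      have hL2 : k⁻¹ * g₂ * k ∈ L := hblock _ hmem a haB
        (by rw [mul_smul, mul_smul, h1, inv_smul_smul]; exact hbB)
      have := (hLB _ hL2 b).mpr hbB
      rw [mul_smul, mul_smul, h2] at this
      exact hdk _ this (smul_inv_smul _ _)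
    · have hgS : g ∈ MulAction.stabilizer G a ⊓ setStab B := hS.symm ▸ hga
      have := (hgS.2 b).mpr hbB
      rw [hgb] at this
      exact hka this
  · -- the intransitive case: `K` is the stabilizer of `O`
    push_neg at htr
    obtain ⟨z, hz⟩ := htr
    have hKS : K ≤ setStab O := fun x hx y => by
      refine ⟨fun hy => ?_, hOK x hx y⟩
      have := hOK _ (K.inv_mem hx) _ hy
      rwa [inv_smul_smul] at this
    have hSne : setStab (G := G) O ≠ ⊤ := by
      intro htop
      have haz : a ≠ z := fun h => hz (h ▸ hBO haB)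
      have hbz : z ≠ b := fun h => hz (h ▸ hBO hbB)
      obtain ⟨g₁, h1, _, _, _⟩ := exists_cycle halt haz hba.symm hbz
      have hm : g₁ ∈ setStab (G := G) O := htop ▸ Subgroup.mem_top g₁
      have := (hm a).mpr (hBO haB)
      rw [h1] at this
      exact hz this
    have hKeq : setStab O = K := by
      rcases hKS.lt_or_eq with h | h
      · exact absurd (hK.2 _ h) hSne
      · exact h.symm
    have hgK : g ∈ K := by
      rw [← hKeq, mem_setStab]
      intro x
      rcases eq_or_ne x b with rfl | hxb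
      · rw [hgb]; exact iff_of_true hkaO (hBO hbB)
      rcases eq_or_ne x (k • a) with rfl | hxc
      · rw [hgc]; exact iff_of_true hkbO hkaO
      rcases eq_or_ne x (k • b) with rfl | hxd
      · rw [hgd]; exact iff_of_true (hBO hbB) hkbO
      rw [hgfix x hxb hxc hxd]
    have := (hLB g (hHL ⟨hgK, hga⟩) b).mpr hbB
    rw [hgb] at this
    exact hka this

end CfsgLib.Classical22.SecondMaximal
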