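/-
Elements of odd prime order of `PSL_n` with no conjugate among the symplectic similitudes.
-/
import Cfsg.Agent.Lib.Classical22.PrimeOrderWitness
import Cfsg.Agent.Lib.Classical22.PrimeOrderSubspaces
import Cfsg.Agent.Lib.Classical.SpOrder
import Cfsg.Agent.Lib.Classical.AltBasis
import Cfsg.Agent.Lib.Classical.GLOrder
import Cfsg.Prelude.Def_GeometricClasses

set_option autoImplicit false

namespace CfsgLib.Classical22.SimilitudeDerange

open Matrix

variable {F : Type*} [Field F] {n : ℕ}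

theorem to_bilin {f : (Fin n → F) → (Fin n → F) → F} (hf : Cfsg.Geo.IsSymplecticForm f) :
    ∃ B : (Fin n → F) →ₗ[F] (Fin n → F) →ₗ[F] F, (∀ u v, B u v = f u v) ∧ (∀ u, B u u = 0) ∧
      (∀ u v, B u v = - B v u) ∧ ∀ u, (∀ v, B u v = 0) → u = 0 := by
  refine ⟨LinearMap.mk₂ F f hf.bilinear.add_left hf.bilinear.smul_left hf.bilinear.add_right hf.bilinear.smul_right,
    fun u v => rfl, hf.alternating, hf.skew, fun u hu => by_contra fun h => ?_⟩
  obtain ⟨x, hx⟩ := (hf.nondegenerate u h).2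
  exact hx (hu x)

/-- A similitude in a conjugate: the transported form and the multiplier. -/
theorem transported {f : (Fin n → F) → (Fin n → F) → F} (hf : Cfsg.Geo.IsSymplecticForm f) {r : ℕ}
    {x : SpecialLinearGroup (Fin n) F} (hxr : (x : Matrix (Fin n) (Fin n) F) ^ r = 1) (hn : 0 < n)
    (P : SpecialLinearGroup (Fin n) F)
    (h : P⁻¹ * x * P ∈ (Cfsg.Geo.similarityGroup f).comap
      (SpecialLinearGroup.toGL : SpecialLinearGroup (Fin n) F →* GL (Fin n) F)) :
    ∃ (B : (Fin n → F) →ₗ[F] (Fin n → F) →ₗ[F] F) (c : Fˣ), c ^ r = 1 ∧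
      (∀ u, B u u = 0) ∧ (∀ u v, B u v = - B v u) ∧ (∀ u, (∀ v, B u v = 0) → u = 0) ∧
      ∀ u v, B ((x : Matrix (Fin n) (Fin n) F) *ᵥ u) ((x : Matrix (Fin n) (Fin n) F) *ᵥ v) = (c : F) * B u v := by
  obtain ⟨c, hc⟩ := h
  obtain ⟨G, hG⟩ : ∃ G : GL (Fin n) F, G = SpecialLinearGroup.toGL P := ⟨_, rfl⟩
  rw [map_mul, map_mul, map_inv, ← hG] at hc
  obtain ⟨B₀, hB, halt, hskew, hnd⟩ := to_bilin hf
  obtain ⟨T, hT⟩ : ∃ T : (Fin n → F) →ₗ[F] (Fin n → F),
      ∀ u, T u = ((G⁻¹ : GL (Fin n) F) : Matrix (Fin n) (Fin n) F) *ᵥ u := ⟨Matrix.toLin' _, fun u => rfl⟩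
  have hsurj : ∀ w, T ((G : Matrix (Fin n) (Fin n) F) *ᵥ w) = w := fun w => by
    rw [hT, mulVec_mulVec, ← Units.val_mul, inv_mul_cancel, Units.val_one, one_mulVec]
  refine ⟨(B₀ ∘ₗ T).compl₂ T, c, ?_, fun u => halt _, fun u v => hskew _ _, fun u hu => ?_, fun u v => ?_⟩
  swap
  · have h0 : T u = 0 := hnd _ fun w => by
      have := hu ((G : Matrix (Fin n) (Fin n) F) *ᵥ w)
      simpa [hsurj] using this
    have h1 := congrArg ((G : Matrix (Fin n) (Fin n) F) *ᵥ ·) h0
    simpa [hT, mulVec_mulVec, ← Units.val_mul] using h1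
  swap
  · simp only [LinearMap.compl₂_apply, LinearMap.comp_apply, hB]
    rw [← hc (T u) (T v), hT, hT, hT u, hT v]
    simp only [mulVec_mulVec, ← Units.val_mul, mul_inv_cancel_right]
    simp only [Units.val_mul]
    rfl
  · haveI : Nonempty (Fin n) := ⟨⟨0, hn⟩⟩
    obtain ⟨v₀, hv₀⟩ := exists_ne (0 : Fin n → F)
    obtain ⟨w₀, hw₀⟩ : ∃ w, f v₀ w ≠ 0 := (hf.nondegenerate v₀ hv₀).2
    obtain ⟨y, hy⟩ : ∃ y, y = G⁻¹ * SpecialLinearGroup.toGL x * G := ⟨_, rfl⟩
    rw [← hy] at hc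
    have hk : ∀ k : ℕ, ∀ u v, f (((y ^ k : GL (Fin n) F) : Matrix (Fin n) (Fin n) F) *ᵥ u)
        (((y ^ k : GL (Fin n) F) : Matrix (Fin n) (Fin n) F) *ᵥ v) = ((c ^ k : Fˣ) : F) * f u v := by
      intro k
      induction k with
      | zero => intro u v; simp
      | succ k ih =>
        intro u v
        rw [pow_succ', Units.val_mul, ← mulVec_mulVec, ← mulVec_mulVec, hc, ih, pow_succ', Units.val_mul, mul_assoc]
    have hyr : y ^ r = 1 := by
      have hx1 : SpecialLinearGroup.toGL x ^ r = 1 := Units.ext (by rw [Units.val_pow_eq_pow_val]; exact hxr)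
      have h := conj_pow (a := G⁻¹) (b := SpecialLinearGroup.toGL x) (i := r)
      rw [inv_inv, hx1, mul_one, inv_mul_cancel] at h
      rw [hy, h]
    have h := hk r v₀ w₀
    rw [hyr, Units.val_one, one_mulVec, one_mulVec] at h
    exact Units.ext (mul_right_cancel₀ hw₀ (by rw [Units.val_one, one_mul, ← h]))

/-- The two-step unipotent element. -/
theorem unipotent_witness {p : ℕ} [hp : Fact p.Prime] [CharP F p] (hp2 : p ≠ 2) (hn : 4 ≤ n)
    (f : (Fin n → F) → (Fin n → F) → F) (hf : Cfsg.Geo.IsSymplecticForm f) :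
    ∃ x : SpecialLinearGroup (Fin n) F, (x : Matrix (Fin n) (Fin n) F) ^ p = 1 ∧
      (∀ z : F, (x : Matrix (Fin n) (Fin n) F) ≠ z • (1 : Matrix (Fin n) (Fin n) F)) ∧
      ∀ P : SpecialLinearGroup (Fin n) F, P⁻¹ * x * P ∉ (Cfsg.Geo.similarityGroup f).comap
        (SpecialLinearGroup.toGL : SpecialLinearGroup (Fin n) F →* GL (Fin n) F) := by
  classical
  obtain ⟨a, ha⟩ : ∃ a : Fin n, a.val = 0 := ⟨⟨0, by omega⟩, rfl⟩
  obtain ⟨b, hb⟩ : ∃ b : Fin n, b.val = 1 := ⟨⟨1, by omega⟩, rfl⟩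
  obtain ⟨d, hd⟩ : ∃ d : Fin n, d.val = 2 := ⟨⟨2, by omega⟩, rfl⟩
  have hab : a ≠ b := fun h => by rw [h] at ha; omega
  have had : a ≠ d := fun h => by rw [h] at ha; omega
  have hbd : b ≠ d := fun h => by rw [h] at hb; omega
  obtain ⟨N, hN⟩ : ∃ N : Matrix (Fin n) (Fin n) F, N = Matrix.single a b 1 + Matrix.single b d 1 + Matrix.single a d 1 :=
    ⟨_, rfl⟩
  have hdet : (Matrix.transvection a b (1 : F) * Matrix.transvection b d 1).det = 1 := by
    rw [det_mul, Matrix.det_transvection_of_ne _ _ hab, Matrix.det_transvection_of_ne _ _ hbd, one_mul]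
  have hxN : Matrix.transvection a b (1 : F) * Matrix.transvection b d 1 = 1 + N := by
    rw [hN, Matrix.transvection, Matrix.transvection, mul_add, add_mul, add_mul, one_mul, one_mul, mul_one,
      Matrix.single_mul_single_same, mul_one]
    abel
  have hN2 : N * N = Matrix.single a d 1 := by
    rw [hN]
    simp [add_mul, mul_add, Matrix.single_mul_single_same, Matrix.single_mul_single_of_ne, hab, hab.symm, had, had.symm,
      hbd, hbd.symm]
  have hN3 : N * N * N = 0 := by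
    rw [hN2, hN]
    simp [mul_add, Matrix.single_mul_single_of_ne, hbd.symm, had.symm]
  have hNp : N ^ p = 0 := by
    have h3 : 3 ≤ p := by have := hp.out.two_le; omega
    rw [show p = 3 + (p - 3) by omega, pow_add, pow_succ, pow_two, hN3, zero_mul]
  obtain ⟨x, hx⟩ : ∃ x : SpecialLinearGroup (Fin n) F, (x : Matrix (Fin n) (Fin n) F) = 1 + N := ⟨⟨_, hdet⟩, hxN⟩
  have hxp : (x : Matrix (Fin n) (Fin n) F) ^ p = 1 := by
    haveI : Nonempty (Fin n) := ⟨a⟩
    rw [hx, add_pow_char_of_commute _ (Commute.one_left N), one_pow, hNp, add_zero]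
  refine ⟨x, hxp, fun z hz => ?_, fun P hP => ?_⟩
  · have h := congrFun (congrFun hz a) b
    rw [hx, hN] at h
    simp [hab, hbd, hbd.symm, hab.symm, Matrix.single_apply] at h
  obtain ⟨B, c, hcp, halt, hskew, hnd, hBx⟩ := transported hf hxp (by omega) P hP
  have hc1 : (c : F) = 1 := by
    refine frobenius_inj F p ?_
    simp only [frobenius_def, one_pow]
    rw [← Units.val_pow_eq_pow_val, hcp, Units.val_one]
  obtain ⟨M, hM⟩ : ∃ M : Matrix (Fin n) (Fin n) F, M = -N + N * N := ⟨_, rfl⟩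
  have hxM : (x : Matrix (Fin n) (Fin n) F) * (1 + M) = 1 := by
    rw [hx, hM, add_mul, one_mul, mul_add, mul_one, mul_add, mul_neg, ← mul_assoc, hN3]
    abel
  have hadj : ∀ u v, B (N *ᵥ u) v = B u (M *ᵥ v) := by
    intro u v
    have h := hBx u ((1 + M) *ᵥ v)
    rw [mulVec_mulVec, hxM, one_mulVec, hc1, one_mul, hx, add_mulVec, one_mulVec, add_mulVec, one_mulVec, map_add,
      LinearMap.add_apply, map_add] at h
    exact add_left_cancel h
  have hzero : ∀ u, B ((N * N) *ᵥ u) u = 0 := by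
    intro u
    have hMN : M * (N * N) = 0 := by
      rw [hM, add_mul, neg_mul, ← mul_assoc N N N, mul_assoc N N (N * N), ← mul_assoc N N N, hN3, mul_zero]
      simp
    have h1 : M *ᵥ u = -(N *ᵥ u) + (N * N) *ᵥ u := by rw [hM, add_mulVec, neg_mulVec]
    rw [← mulVec_mulVec, hadj, h1, map_add, map_neg, halt, neg_zero, zero_add, hadj, mulVec_mulVec, hMN, zero_mulVec,
      map_zero]
  have hNu : ∀ u, (N * N) *ᵥ u = Pi.single a (u d) := by
    intro u
    rw [hN2, Matrix.single_mulVec]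
    funext i
    by_cases hi : i = a
    · subst hi; simp
    · simp [hi]
  have h0 : B (Pi.single a 1) (Pi.single d 1) = 0 := by
    have h := hzero (Pi.single d 1)
    rwa [hNu, Pi.single_eq_same] at h
  have hall : ∀ i, B (Pi.single a 1) (Pi.single i 1) = 0 := by
    intro i
    by_cases hi : i = d
    · rw [hi, h0]
    · have h := hzero (Pi.single d 1 + Pi.single i 1)
      rw [hNu, Pi.add_apply, Pi.single_eq_same, Pi.single_eq_of_ne (Ne.symm hi), add_zero, map_add, h0, zero_add] at h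
      exact h
  have := hnd (Pi.single a 1) fun v => by
    rw [pi_eq_sum_univ' v, map_sum]
    exact Finset.sum_eq_zero fun i _ => by rw [map_smul, hall, smul_zero]
  simpa using congrFun this a

/-- Diagonal similitudes: the eigenvalue multiplicities are symmetric. -/
theorem card_le_partner {ι : Type} [Fintype ι] [DecidableEq ι] (B : (ι → F) →ₗ[F] (ι → F) →ₗ[F] F)
    (hnd : ∀ u, (∀ v, B u v = 0) → u = 0) (a : ι → F) {c l m : F} (hlm : ∀ i j, a i = l → a i * a j = c → a j = m)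
    (hB : ∀ i j, B (Pi.single i 1) (Pi.single j 1) * (a i * a j - c) = 0) [DecidablePred fun i => a i = l]
    [DecidablePred fun i => a i = m] : Fintype.card {i // a i = l} ≤ Fintype.card {i // a i = m} := by
  obtain ⟨E, hE⟩ : ∃ E : ({i // a i = l} → F) →ₗ[F] (ι → F), ∀ w i, E w i = if h : a i = l then w ⟨i, h⟩ else 0 :=
    ⟨LinearMap.pi fun i => if h : a i = l then LinearMap.proj ⟨i, h⟩ else 0, fun w i => by
      by_cases h : a i = l <;> simp [h]⟩
  obtain ⟨T, hT⟩ : ∃ T : ({i // a i = l} → F) →ₗ[F] ({i // a i = m} → F),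
      ∀ w j, T w j = B (E w) (Pi.single j.1 1) :=
    ⟨LinearMap.pi fun j => (B.flip (Pi.single j.1 1)) ∘ₗ E, fun w j => rfl⟩
  have hinj : Function.Injective T := by
    rw [← LinearMap.ker_eq_bot, LinearMap.ker_eq_bot']
    intro w hw
    have hEw : E w = 0 := by
      refine hnd _ fun v => ?_
      rw [pi_eq_sum_univ' v, map_sum]
      refine Finset.sum_eq_zero fun j _ => ?_
      rw [map_smul]
      by_cases hj : a j = m
      · have h := congrFun hw ⟨j, hj⟩
        rw [hT] at h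
        rw [h]; simp
      · rw [pi_eq_sum_univ' (E w), map_sum, LinearMap.sum_apply]
        refine smul_eq_zero_of_right _ (Finset.sum_eq_zero fun i _ => ?_)
        rw [map_smul, LinearMap.smul_apply, hE]
        by_cases hi : a i = l
        · rw [(mul_eq_zero.1 (hB i j)).resolve_right fun h => hj (hlm i j hi (sub_eq_zero.1 h)), smul_zero]
        · rw [dif_neg hi, zero_smul]
    funext i
    have := congrFun hEw i.1
    rw [hE, dif_pos i.2] at this
    exact this
  have := LinearMap.finrank_le_finrank_of_injective hinj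
  simpa using this

theorem counts_contra [DecidableEq F] {r : ℕ} (hr : r.Prime) (hr2 : r ≠ 2) {n : ℕ} (hn : 4 ≤ n) (he : Even n)
    (hgap : ¬ (n = 6 ∧ r = 3)) {ζ : Fˣ} (hζ : orderOf ζ = r) (N : Fˣ → ℕ) (c : Fˣ)
    (hN : ∀ l, N l = (if l = ζ then 2 else 0) + (if l = (ζ ^ 2)⁻¹ then 1 else 0) + (if l = 1 then n - 3 else 0))
    (hsym : ∀ l, N l = N (c * l⁻¹)) : False := by
  classical
  obtain ⟨A, hA⟩ : ∃ A, A = ζ := ⟨_, rfl⟩
  obtain ⟨B, hB⟩ : ∃ B, B = (ζ ^ 2)⁻¹ := ⟨_, rfl⟩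
  have key : ∀ k : ℕ, 0 < k → k < 5 → k ≠ r → ζ ^ k ≠ 1 := by
    intro k hk hk5 hkr h
    have hd := hζ ▸ orderOf_dvd_of_pow_eq_one h
    have hle := Nat.le_of_dvd hk hd
    interval_cases k
    · exact hr.one_lt.ne' (Nat.dvd_one.1 hd)
    · exact hkr ((Nat.prime_dvd_prime_iff_eq hr Nat.prime_two).1 hd).symm
    · exact hkr ((Nat.prime_dvd_prime_iff_eq hr Nat.prime_three).1 hd).symm
    · exact hr2 ((Nat.prime_dvd_prime_iff_eq hr Nat.prime_two).1 (hr.dvd_of_dvd_pow (n := 2) (by simpa using hd)))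
  have hA1 : A ≠ 1 := hA ▸ fun h => key 1 one_pos (by omega) hr.one_lt.ne (by rw [pow_one, h])
  have hB1 : B ≠ 1 := hB ▸ fun h => key 2 two_pos (by omega) (Ne.symm hr2) (inv_eq_one.1 h)
  rw [← hB, ← hA] at hN
  have hN1 : N 1 = n - 3 := by simp [hN, Ne.symm hA1, Ne.symm hB1]
  have hNA : 2 ≤ N A := by simp [hN]; omega
  have hc : N c = n - 3 := by have := hsym 1; rw [inv_one, mul_one, hN1] at this; exact this.symm
  have hcmem : c = A ∨ c = B ∨ c = 1 := by
    by_contra! h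
    rw [hN, if_neg h.1, if_neg h.2.1, if_neg h.2.2] at hc
    omega
  rcases hcmem with h | h | h <;> subst c
  · by_cases hAB : A = B
    · simp [hN A, hA1, ← hAB] at hc
      have h3 : r = 3 := by
        rw [hA, hB] at hAB
        by_contra h3
        exact key 3 (by omega) (by omega) (fun h => h3 h.symm) (by rw [pow_succ', ← eq_inv_iff_mul_eq_one]; exact hAB)
      exact hgap ⟨by omega, h3⟩
    · simp [hN A, hA1, hAB] at hc
      obtain ⟨j, hj⟩ := he
      omega
  · by_cases hAB : A = B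
    · rw [← hAB] at hc
      simp [hN A, hA1, ← hAB] at hc
      have h3 : r = 3 := by
        rw [hA, hB] at hAB
        by_contra h3
        exact key 3 (by omega) (by omega) (fun h => h3 h.symm) (by rw [pow_succ', ← eq_inv_iff_mul_eq_one]; exact hAB)
      exact hgap ⟨by omega, h3⟩
    · simp [hN B, hB1, Ne.symm hAB] at hc
      have h := hsym A
      have hne1 : B * A⁻¹ ≠ A := by
        intro h4
        rw [hA, hB, _root_.mul_inv_eq_iff_eq_mul, inv_eq_iff_mul_eq_one] at h4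
        exact key 4 (by omega) (by omega) (fun h5 => hr2 ((Nat.prime_dvd_prime_iff_eq hr Nat.prime_two).1
          (hr.dvd_of_dvd_pow (n := 2) (by simp [← h5])))) (by rw [← h4, sq, pow_succ, pow_succ, pow_two]; group)
      have hne2 : B * A⁻¹ ≠ 1 := fun h4 => hAB (mul_inv_eq_one.1 h4).symm
      have hne3 : B * A⁻¹ ≠ B := fun h4 => hA1 (by simpa using h4)
      rw [hN (B * A⁻¹), if_neg hne1, if_neg hne2, if_neg hne3] at h
      omega
  · have h := hsym A
    rw [one_mul] at h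
    have hne1 : A⁻¹ ≠ A := by
      intro h4
      rw [hA, inv_eq_iff_mul_eq_one, ← sq] at h4
      exact key 2 two_pos (by omega) (Ne.symm hr2) h4
    have hne2 : A⁻¹ ≠ 1 := by simpa using hA1
    have hne3 : A⁻¹ ≠ B := by
      intro h4
      rw [hA, hB, _root_.inv_inj, sq, eq_comm, mul_eq_left] at h4
      exact hA1 (hA.trans h4)
    rw [hN A⁻¹, if_neg hne1, if_neg hne2, if_neg hne3] at h
    omega

theorem diag_witness [Fintype F] {r : ℕ} [hr : Fact r.Prime] (hr2 : r ≠ 2) (hn : 4 ≤ n) (he : Even n)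
    (hgap : ¬ (n = 6 ∧ r = 3)) (hd : r ∣ Fintype.card F - 1)
    (f : (Fin n → F) → (Fin n → F) → F) (hf : Cfsg.Geo.IsSymplecticForm f) :
    ∃ x : SpecialLinearGroup (Fin n) F, (x : Matrix (Fin n) (Fin n) F) ^ r = 1 ∧
      (∀ z : F, (x : Matrix (Fin n) (Fin n) F) ≠ z • (1 : Matrix (Fin n) (Fin n) F)) ∧
      ∀ P : SpecialLinearGroup (Fin n) F, P⁻¹ * x * P ∉ (Cfsg.Geo.similarityGroup f).comap
        (SpecialLinearGroup.toGL : SpecialLinearGroup (Fin n) F →* GL (Fin n) F) := by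
  classical
  obtain ⟨ζ, hζ⟩ := exists_prime_orderOf_dvd_card' (G := Fˣ) r (by
    rw [Nat.card_units, Nat.card_eq_fintype_card]; exact hd)
  obtain ⟨k, rfl⟩ : ∃ k, n = 3 + k := ⟨n - 3, by omega⟩
  obtain ⟨a, ha⟩ : ∃ a : Fin (3 + k) → Fˣ, a = Fin.append ![ζ, ζ, (ζ ^ 2)⁻¹] (fun _ => 1) := ⟨_, rfl⟩
  have hζr : ζ ^ r = 1 := hζ ▸ pow_orderOf_eq_one ζ
  have har : ∀ i, a i ^ r = 1 := by
    intro i
    rw [ha]
    refine Fin.addCases (fun j => ?_) (fun j => ?_) i
    · rw [Fin.append_left]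
      fin_cases j <;> simp [hζr, ← pow_mul, mul_comm 2 r, pow_mul ζ r 2]
    · rw [Fin.append_right, one_pow]
  have hdet : (diagonal fun i => ((a i : Fˣ) : F)).det = 1 := by
    rw [det_diagonal, Fin.prod_univ_add, ha]
    simp only [Fin.append_left, Fin.append_right, Fin.prod_univ_three]
    simp only [Matrix.cons_val_zero, Matrix.cons_val_one, Matrix.cons_val_two, Matrix.tail_cons, Matrix.head_cons,
      Units.val_one, Finset.prod_const_one, mul_one, ← Units.val_mul, ← sq, mul_inv_cancel]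
    rw [← Units.val_pow_eq_pow_val, Units.mul_inv]
  obtain ⟨x, hx⟩ : ∃ x : SpecialLinearGroup (Fin (3 + k)) F,
      (x : Matrix (Fin (3 + k)) (Fin (3 + k)) F) = diagonal fun i => ((a i : Fˣ) : F) := ⟨⟨_, hdet⟩, rfl⟩
  have hxr : (x : Matrix (Fin (3 + k)) (Fin (3 + k)) F) ^ r = 1 := by
    rw [hx, diagonal_pow, ← diagonal_one]
    congr 1
    funext i
    rw [Pi.pow_apply, ← Units.val_pow_eq_pow_val, har, Units.val_one]
  refine ⟨x, hxr, fun z hz => ?_, fun P hP => ?_⟩
  · rw [hx, Matrix.smul_one_eq_diagonal] at hz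
    have h1 := congrFun (diagonal_injective hz) (Fin.castAdd k 0)
    have h2 := congrFun (diagonal_injective hz) (Fin.natAdd 3 ⟨0, by omega⟩)
    simp only [ha, Fin.append_left, Fin.append_right, Matrix.cons_val_zero, Units.val_one] at h1 h2
    have h3 : ζ = 1 := Units.ext (by rw [h1, ← h2, Units.val_one])
    rw [h3, orderOf_one] at hζ
    exact hr.out.one_lt.ne hζ
  obtain ⟨B, c, hc, halt, hskew, hnd, hBx⟩ := transported hf hxr (by omega) P hP
  have hB : ∀ i j, B (Pi.single i 1) (Pi.single j 1) * (((a i : Fˣ) : F) * a j - c) = 0 := by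
    intro i j
    have h := hBx (Pi.single i 1) (Pi.single j 1)
    have e : ∀ (i : Fin (3 + k)) (y : F), (Pi.single i (y * 1) : Fin (3 + k) → F) = y • Pi.single i 1 := fun i y => by
      rw [← Pi.single_smul, smul_eq_mul]
    rw [hx, diagonal_mulVec_single, diagonal_mulVec_single, e, e] at h
    simp only [map_smul, LinearMap.smul_apply, smul_eq_mul, mul_one] at h
    linear_combination h
  have hle : ∀ l : Fˣ, Fintype.card {i // a i = l} ≤ Fintype.card {i // a i = c * l⁻¹} := by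
    intro l
    have key := card_le_partner B hnd (fun i => ((a i : Fˣ) : F)) (c := (c : F)) (l := (l : F)) (m := ((c * l⁻¹ : Fˣ) : F))
      (fun i j hi hij => by
        rw [Units.val_mul, Units.val_inv_eq_inv_val, ← hij]
        rw [hi, mul_comm (l : F), mul_inv_cancel_right₀ l.ne_zero])
      hB
    rw [Fintype.card_congr (Equiv.subtypeEquivRight (p := fun i => a i = l) (q := fun i => ((a i : Fˣ) : F) = l)
      fun i => Units.ext_iff), Fintype.card_congr (Equiv.subtypeEquivRight (p := fun i => a i = c * l⁻¹)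
      (q := fun i => ((a i : Fˣ) : F) = ((c * l⁻¹ : Fˣ) : F)) fun i => Units.ext_iff)]
    exact key
  refine counts_contra hr.out hr2 hn he hgap hζ (fun l => Fintype.card {i // a i = l}) c (fun l => ?_)
    (fun l => le_antisymm (hle l) ?_)
  · rw [Fintype.card_subtype, Finset.card_filter, Fin.sum_univ_add, ha]
    simp only [Fin.append_left, Fin.append_right, Fin.sum_univ_three, Finset.sum_const, Finset.card_univ,
      Fintype.card_fin, smul_eq_mul, Matrix.cons_val_zero, Matrix.cons_val_one, Matrix.cons_val_two, Matrix.tail_cons,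
      Matrix.head_cons, eq_comm (b := l), Nat.add_sub_cancel_left]
    by_cases h : l = ζ
    · subst h; simp
    · simp [h]
  · have h := hle (c * l⁻¹)
    rwa [_root_.mul_inv_rev, inv_inv, ← mul_assoc, mul_comm c l, mul_assoc, mul_inv_cancel, mul_one] at h

/-- A single block of odd dimension with no fixed vector, plus the identity. -/
theorem block_witness [Fintype F] {r : ℕ} [hr : Fact r.Prime] (hrF : (r : F) ≠ 0) {e : ℕ}
    (heq : orderOf (Fintype.card F : ZMod r) = e) (he1 : 2 ≤ e) (hen : e < n) (heo : Odd e) (he : Even n)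
    (f : (Fin n → F) → (Fin n → F) → F) (hf : Cfsg.Geo.IsSymplecticForm f) :
    ∃ x : SpecialLinearGroup (Fin n) F, (x : Matrix (Fin n) (Fin n) F) ^ r = 1 ∧
      (∀ z : F, (x : Matrix (Fin n) (Fin n) F) ≠ z • (1 : Matrix (Fin n) (Fin n) F)) ∧
      ∀ P : SpecialLinearGroup (Fin n) F, P⁻¹ * x * P ∉ (Cfsg.Geo.similarityGroup f).comap
        (SpecialLinearGroup.toGL : SpecialLinearGroup (Fin n) F →* GL (Fin n) F) := by
  classical
  subst heq
  obtain ⟨e, hedef⟩ : ∃ e, e = orderOf (Fintype.card F : ZMod r) := ⟨_, rfl⟩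
  rw [← hedef] at he1 hen heo
  obtain ⟨A, hAr, hAd, -, hAfix⟩ := PrimeMaps.exists_order_matrix (n := e) hrF (by omega) hedef.ge
  rw [← hedef, Nat.mod_self, Nat.le_zero, Submodule.finrank_eq_zero] at hAfix
  obtain ⟨k, rfl⟩ : ∃ k, n = e + k := ⟨n - e, by omega⟩
  obtain ⟨X, hX⟩ : ∃ X, X = Matrix.reindexAlgEquiv F F finSumFinEquiv (fromBlocks A 0 0 (1 : Matrix (Fin k) (Fin k) F)) :=
    ⟨_, rfl⟩
  have hXr : X ^ r = 1 := by
    rw [hX, ← map_pow, fromBlocks_diagonal_pow, hAr, one_pow, fromBlocks_one, map_one]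
  have hXd : X.det = 1 := by
    rw [hX, Matrix.reindexAlgEquiv_apply, Matrix.det_reindex_self, det_fromBlocks_zero₂₁, hAd, det_one, one_mul]
  obtain ⟨x, hx⟩ : ∃ x : SpecialLinearGroup (Fin (e + k)) F, (x : Matrix (Fin (e + k)) (Fin (e + k)) F) = X :=
    ⟨⟨_, hXd⟩, rfl⟩
  have hXv : ∀ v, (X *ᵥ v) ∘ finSumFinEquiv = Sum.elim (A *ᵥ (v ∘ finSumFinEquiv ∘ Sum.inl))
      (v ∘ finSumFinEquiv ∘ Sum.inr) := by
    intro v
    rw [hX, Matrix.reindexAlgEquiv_apply, Matrix.reindex_apply, Matrix.submatrix_mulVec_equiv, Equiv.symm_symm,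
      fromBlocks_mulVec]
    funext i
    simp [Function.comp_assoc]
  have hfix : ∀ v, X *ᵥ v = v ↔ v ∘ finSumFinEquiv ∘ Sum.inl = 0 := by
    intro v
    constructor
    · intro h
      have h' := congrArg (· ∘ Sum.inl) ((hXv v).symm.trans (by rw [h]))
      simp only [Sum.elim_comp_inl, Function.comp_assoc] at h'
      exact (Submodule.mem_bot F).1 (hAfix ▸ (PrimeMaps.mem_fixed.2 (by rw [Matrix.toLin'_apply]; exact h') :
        v ∘ finSumFinEquiv ∘ Sum.inl ∈ PrimeMaps.fixed (Matrix.toLin' A)))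
    · intro h
      funext i
      obtain ⟨y, rfl⟩ := finSumFinEquiv.surjective i
      have h1 := congrFun (hXv v) y
      rw [Function.comp_apply, h, mulVec_zero] at h1
      rw [h1]
      rcases y with y | y
      · exact (congrFun h y).symm
      · rfl
  refine ⟨x, hx ▸ hXr, fun z hz => ?_, fun P hP => ?_⟩
  · rw [hx] at hz
    obtain ⟨v, hv⟩ : ∃ v : Fin (e + k) → F, v = Pi.single (finSumFinEquiv (.inr ⟨0, by omega⟩)) 1 := ⟨_, rfl⟩
    have h1 : X *ᵥ v = v := by
      refine (hfix v).2 (funext fun j => ?_)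
      rw [hv, Function.comp_apply, Function.comp_apply, Pi.single_eq_of_ne (finSumFinEquiv.injective.ne (by simp))]
      rfl
    rw [hz, smul_mulVec, one_mulVec] at h1
    have h2 := congrFun h1 (finSumFinEquiv (.inr ⟨0, by omega⟩))
    simp [hv] at h2
    rw [h2, one_smul] at hz
    have h3 := (hfix (Pi.single (finSumFinEquiv (.inl ⟨0, by omega⟩)) 1)).1 (by rw [hz, one_mulVec])
    have h4 := congrFun h3 ⟨0, by omega⟩
    rw [Function.comp_apply, Function.comp_apply, Pi.single_eq_same] at h4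
    exact one_ne_zero h4
  obtain ⟨B, c, hc, halt, hskew, hnd, hBx⟩ := transported hf (hx ▸ hXr) (by omega) P hP
  rw [hx] at hBx
  have hc1 : (c : F) = 1 := by
    by_contra hne
    have hc' : c ≠ 1 := fun h => hne (by rw [h, Units.val_one])
    have hd : r ∣ Fintype.card F - 1 := by
      rw [← orderOf_eq_prime hc hc', ← Fintype.card_units]
      exact orderOf_dvd_card
    have : orderOf (Fintype.card F : ZMod r) = 1 := by
      rw [orderOf_eq_one_iff, ← Nat.sub_add_cancel (Fintype.card_pos (α := F)), Nat.cast_add,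
        (ZMod.natCast_eq_zero_iff _ _).2 hd, zero_add, Nat.cast_one]
    omega
  obtain ⟨ι, hι⟩ : ∃ ι : (Fin e → F) →ₗ[F] (Fin (e + k) → F), ∀ w, ι w ∘ finSumFinEquiv ∘ Sum.inl = w ∧
      ι w ∘ finSumFinEquiv ∘ Sum.inr = 0 :=
    ⟨(LinearMap.funLeft F F finSumFinEquiv.symm).comp
      ((LinearEquiv.sumArrowLequivProdArrow _ _ F F).symm.toLinearMap.comp (LinearMap.inl F _ _)), fun w => by
        constructor <;> funext j <;> simp⟩
  have hsurj : ∀ w : Fin e → F, ∃ u, A *ᵥ u - u = w := by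
    have hinj : Function.Injective (Matrix.toLin' A - (1 : Module.End F (Fin e → F))) := by
      rw [← LinearMap.ker_eq_bot]; exact hAfix
    intro w
    obtain ⟨u, hu⟩ := LinearMap.injective_iff_surjective.1 hinj w
    exact ⟨u, by simpa using hu⟩
  have hperp : ∀ w v, X *ᵥ v = v → B (ι w) v = 0 := by
    intro w v hv
    obtain ⟨u, hu⟩ := hsurj w
    have h1 : X *ᵥ ι u - ι u = ι w := by
      funext i
      obtain ⟨y, rfl⟩ := finSumFinEquiv.surjective i
      have h := congrFun (hXv (ι u)) y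
      rw [Function.comp_apply] at h
      rw [Pi.sub_apply, h]
      rcases y with y | y
      · rw [Sum.elim_inl, (hι u).1]
        have e1 := congrFun (hι u).1 y
        have e2 := congrFun (hι w).1 y
        simp only [Function.comp_apply] at e1 e2
        rw [e1, e2, ← hu]; rfl
      · rw [Sum.elim_inr, Function.comp_apply, Function.comp_apply, sub_self]
        exact (congrFun (hι w).2 y).symm
    rw [← h1, map_sub, LinearMap.sub_apply]
    have := hBx (ι u) v
    rw [hv, hc1, one_mul] at this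
    rw [this, sub_self]
  have hnd' : ∀ w, (∀ w', B (ι w) (ι w') = 0) → w = 0 := by
    intro w hw
    have h0 : ι w = 0 := hnd _ fun v => by
      have h1 : X *ᵥ (v - ι (v ∘ finSumFinEquiv ∘ Sum.inl)) = v - ι (v ∘ finSumFinEquiv ∘ Sum.inl) := by
        refine (hfix _).2 (funext fun j => ?_)
        have := congrFun (hι (v ∘ finSumFinEquiv ∘ Sum.inl)).1 j
        simp only [Function.comp_apply] at this ⊢
        rw [Pi.sub_apply, this, sub_self]; rfl
      have h2 := hperp w _ h1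
      rw [map_sub, hw, sub_zero] at h2
      exact h2
    have h1 := (hι w).1
    rw [h0] at h1
    exact h1.symm
  obtain ⟨m, hm, -⟩ := CfsgLib.Classical.exists_symp_equiv ((B ∘ₗ ι).compl₂ ι) (fun w => halt _) hnd'
  rw [Module.finrank_fin_fun] at hm
  obtain ⟨j, hj⟩ := heo
  omega

theorem odd_exponent [Fintype F] {q r : ℕ} (hq : Fintype.card F = q) (hr : r.Prime) (hrq : ¬ r ∣ q)
    (hn : 0 < n) (f : (Fin n → F) → (Fin n → F) → F) (hf : Cfsg.Geo.IsSymplecticForm f)
    (hΩ : r ∣ ((Cfsg.Geo.similarityGroup f).comap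
      (SpecialLinearGroup.toGL : SpecialLinearGroup (Fin n) F →* GL (Fin n) F)).index) :
    ∃ j, Odd j ∧ j < n ∧ r ∣ q ^ j - 1 := by
  classical
  haveI : Nonempty (Fin n) := ⟨⟨0, hn⟩⟩
  obtain ⟨B, hB, halt, -, hnd⟩ := to_bilin hf
  obtain ⟨m, hm, e, he⟩ := CfsgLib.Classical.exists_symp_equiv B halt hnd
  rw [Module.finrank_fin_fun] at hm
  obtain ⟨φ, hφ⟩ : ∃ φ : Matrix (Fin m ⊕ Fin m) (Fin m ⊕ Fin m) F ≃ₐ[F] Matrix (Fin n) (Fin n) F,
      ∀ M u, φ M *ᵥ u = e (M *ᵥ e.symm u) :=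
    ⟨(Matrix.toLinAlgEquiv'.trans (e.conjAlgEquiv F)).trans LinearMap.toMatrixAlgEquiv', fun M u => by
      rw [← Matrix.toLinAlgEquiv'_apply]
      simp [LinearEquiv.conjAlgEquiv_apply]⟩
  obtain ⟨ψ, hψ⟩ : ∃ ψ : Matrix.symplecticGroup (Fin m) F →* GL (Fin n) F,
      ∀ g, (ψ g : Matrix (Fin n) (Fin n) F) = φ g.1 :=
    ⟨MonoidHom.toHomUnits (φ.toAlgHom.toRingHom.toMonoidHom.comp (Matrix.symplecticGroup (Fin m) F).subtype),
      fun g => rfl⟩
  have hψi : Function.Injective ψ := fun g h hgh => Subtype.ext (φ.injective (by rw [← hψ, ← hψ, hgh]))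
  have hψm : ψ.range ≤ Cfsg.Geo.similarityGroup f := by
    rintro _ ⟨g, rfl⟩
    refine ⟨1, fun u v => ?_⟩
    rw [hψ, hφ, hφ, ← hB, he, CfsgLib.Classical.sp_form, ← he, LinearEquiv.apply_symm_apply,
      LinearEquiv.apply_symm_apply, hB, Units.val_one, one_mul]
  obtain ⟨H, hH⟩ : ∃ H, H = (Cfsg.Geo.similarityGroup f).comap
      (SpecialLinearGroup.toGL : SpecialLinearGroup (Fin n) F →* GL (Fin n) F) := ⟨_, rfl⟩
  obtain ⟨t, ht⟩ : Nat.card (Matrix.symplecticGroup (Fin m) F) ∣ Nat.card H * (q - 1) := by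
    rw [Nat.card_congr (MonoidHom.ofInjective hψi).toEquiv]
    refine (Subgroup.card_dvd_of_le hψm).trans ?_
    obtain ⟨δ, hδ⟩ : ∃ δ, δ = (GeneralLinearGroup.det : GL (Fin n) F →* Fˣ).comp
        (Cfsg.Geo.similarityGroup f).subtype := ⟨_, rfl⟩
    rw [← Subgroup.card_mul_index δ.ker, Subgroup.index_ker]
    refine mul_dvd_mul (dvd_of_eq ?_) ?_
    · refine (Nat.card_congr ?_).symm
      refine Equiv.ofBijective (fun g => ⟨⟨SpecialLinearGroup.toGL g.1, by
        exact Subgroup.mem_comap.1 (hH ▸ g.2)⟩, ?_⟩) ⟨?_, ?_⟩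
      · rw [MonoidHom.mem_ker, hδ]
        exact Units.ext (by simp)
      · intro g h hgh
        exact Subtype.ext (SpecialLinearGroup.toGL_injective (congrArg Subtype.val (congrArg Subtype.val hgh)))
      · rintro ⟨⟨g, hg⟩, hg1⟩
        rw [MonoidHom.mem_ker, hδ] at hg1
        obtain ⟨s, hs⟩ : ∃ s : SpecialLinearGroup (Fin n) F, SpecialLinearGroup.toGL s = g :=
          ⟨⟨g, by simpa using congrArg Units.val hg1⟩, Units.ext rfl⟩
        exact ⟨⟨s, by rw [hH, Subgroup.mem_comap, hs]; exact hg⟩, Subtype.ext (Subtype.ext hs)⟩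
    · rw [← CfsgLib.Classical.card_units_eq hq]
      exact Subgroup.card_subgroup_dvd_card _
  rw [← hH] at hΩ
  have hGL : Nat.card (GL (Fin n) F) = (∏ i ∈ Finset.range n, q ^ i) *
      ∏ i ∈ Finset.range n, (q ^ (i + 1) - 1) := by
    rw [Matrix.card_GL_field, hq, Fin.prod_univ_eq_prod_range (fun i => q ^ n - q ^ i) n,
      ← Finset.prod_range_reflect (fun i => q ^ (i + 1) - 1) n, ← Finset.prod_mul_distrib]
    refine Finset.prod_congr rfl fun i hi => ?_
    rw [Finset.mem_range] at hi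
    rw [Nat.mul_sub, mul_one, ← pow_add]
    congr 2
    omega
  have hsplit : ∀ m : ℕ, ∏ i ∈ Finset.range (2 * m), (q ^ (i + 1) - 1) =
      (∏ i ∈ Finset.range m, (q ^ (2 * i + 1) - 1)) * ∏ i ∈ Finset.range m, (q ^ (2 * (i + 1)) - 1) := by
    intro m
    induction m with
    | zero => simp
    | succ m ih =>
      rw [Finset.prod_range_succ (fun i => q ^ (2 * i + 1) - 1), Finset.prod_range_succ (fun i => q ^ (2 * (i + 1)) - 1),
        show 2 * (m + 1) = 2 * m + 1 + 1 by ring, Finset.prod_range_succ, Finset.prod_range_succ, ih]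
      ring
  have hC : 0 < ∏ i ∈ Finset.range m, (q ^ (2 * (i + 1)) - 1) := Finset.prod_pos fun i _ => by
    have : 1 < q ^ (2 * (i + 1)) := Nat.one_lt_pow (by omega) (hq ▸ Fintype.one_lt_card)
    omega
  have hmain : H.index * t * q ^ m ^ 2 =
      (∏ i ∈ Finset.range n, q ^ i) * ∏ i ∈ Finset.range m, (q ^ (2 * i + 1) - 1) := by
    refine Nat.eq_of_mul_eq_mul_right hC ?_
    have h := hGL
    rw [← CfsgLib.Classical.card_units_mul_card_SL, CfsgLib.Classical.card_units_eq hq,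
      ← Subgroup.index_mul_card H] at h
    rw [CfsgLib.Classical.card_sp, hq] at ht
    conv_rhs at h => arg 2; rw [hm, hsplit]
    rw [show (q - 1) * (H.index * Nat.card H) = H.index * (Nat.card H * (q - 1)) by ring, ht] at h
    linear_combination h
  have hdvd : r ∣ (∏ i ∈ Finset.range n, q ^ i) * ∏ i ∈ Finset.range m, (q ^ (2 * i + 1) - 1) :=
    hmain ▸ dvd_mul_of_dvd_left (dvd_mul_of_dvd_left hΩ _) _
  rcases hr.dvd_mul.1 hdvd with h | h
  · obtain ⟨i, -, hi⟩ := hr.prime.exists_mem_finset_dvd h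
    exact absurd (hr.dvd_of_dvd_pow hi) hrq
  · obtain ⟨i, hi, hd⟩ := hr.prime.exists_mem_finset_dvd h
    rw [Finset.mem_range] at hi
    exact ⟨2 * i + 1, odd_two_mul_add_one i, by omega, hd⟩

theorem exists_derangement [Fintype F] {p q r : ℕ} [hp : Fact p.Prime] [CharP F p] [hr : Fact r.Prime]
    (hq : Fintype.card F = q) (hn : 4 ≤ n) (he : Even n) (hr2 : r ≠ 2) (hgap : ¬ (n = 6 ∧ r = 3))
    (f : (Fin n → F) → (Fin n → F) → F) (hf : Cfsg.Geo.IsSymplecticForm f)
    (hΩ : r ∣ ((Cfsg.Geo.similarityGroup f).comap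
      (SpecialLinearGroup.toGL : SpecialLinearGroup (Fin n) F →* GL (Fin n) F)).index) :
    ∃ x : SpecialLinearGroup (Fin n) F, (x : Matrix (Fin n) (Fin n) F) ^ r = 1 ∧
      (∀ z : F, (x : Matrix (Fin n) (Fin n) F) ≠ z • (1 : Matrix (Fin n) (Fin n) F)) ∧
      ∀ P : SpecialLinearGroup (Fin n) F, P⁻¹ * x * P ∉ (Cfsg.Geo.similarityGroup f).comap
        (SpecialLinearGroup.toGL : SpecialLinearGroup (Fin n) F →* GL (Fin n) F) := by
  by_cases hrp : r = p
  · subst hrp
    exact unipotent_witness hr2 hn f hf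
  obtain ⟨he0, he1⟩ := PrimeMaps.order_facts (F := F) (p := p) (r := r) hq hrp
  have hrq : ¬ r ∣ q := by
    obtain ⟨a, -, ha⟩ := FiniteField.card F p
    rw [← hq, ha]
    exact fun h => hrp ((Nat.prime_dvd_prime_iff_eq hr.out hp.out).1 (hr.out.dvd_of_dvd_pow h))
  obtain ⟨j, hj, hjn, hjd⟩ := odd_exponent hq hr.out hrq (by omega) f hf hΩ
  by_cases h1 : orderOf (q : ZMod r) = 1
  · exact diag_witness hr2 hn he hgap (hq ▸ he1.1 h1) f hf
  have hdj : orderOf (q : ZMod r) ∣ j := by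
    refine orderOf_dvd_of_pow_eq_one ?_
    rw [← sub_eq_zero, ← Nat.cast_pow, ← Nat.cast_one (R := ZMod r), ← Nat.cast_sub (Nat.one_le_pow _ _ (hq ▸ Fintype.card_pos))]
    exact (ZMod.natCast_eq_zero_iff _ _).2 hjd
  refine block_witness (PrimeMaps.natCast_ne_zero_of_ne (p := p) hrp) (by rw [hq]) (by omega) ?_ (hj.of_dvd_nat hdj) he f hf
  exact lt_of_le_of_lt (Nat.le_of_dvd (hj.pos) hdj) hjn

end CfsgLib.Classical22.SimilitudeDerange
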