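import Mathlib

set_option autoImplicit false

/-!
# The Singer group of a finite field extension and its normaliser
-/

namespace CfsgLib.Classical22

variable {F K : Type*} [Field F] [Field K] [Algebra F K]

/-- The Singer group. -/
abbrev singer (F K : Type*) [Field F] [Field K] [Algebra F K] : Subgroup (Module.End F K)ˣ :=
  (Units.map ((Algebra.lmul F K : K →ₐ[F] Module.End F K) : K →* Module.End F K)).range

/-- Multiplication by a non-zero element. -/
abbrev mulUnit (F : Type*) {K : Type*} [Field F] [Field K] [Algebra F K] : Kˣ →* (Module.End F K)ˣ :=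
  Units.map ((Algebra.lmul F K : K →ₐ[F] Module.End F K) : K →* Module.End F K)

theorem mulUnit_apply (a : Kˣ) (x : K) : (mulUnit F a : Module.End F K) x = a * x := rfl

theorem mulUnit_injective : Function.Injective (mulUnit F : Kˣ →* (Module.End F K)ˣ) := fun a b h => by
  have := congrArg (fun u : (Module.End F K)ˣ => (u : Module.End F K) 1) h
  simpa [mulUnit_apply] using Units.ext_iff.mpr (by simpa [mulUnit_apply] using this)

/-- An `F`-automorphism of `K`, as a unit of the endomorphism ring. -/
def autUnit (σ : K ≃ₐ[F] K) : (Module.End F K)ˣ :=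
  ⟨σ.toLinearMap, σ.symm.toLinearMap, LinearMap.ext fun x => σ.apply_symm_apply x, LinearMap.ext fun x => σ.symm_apply_apply x⟩

theorem autUnit_apply (σ : K ≃ₐ[F] K) (x : K) : (autUnit σ : Module.End F K) x = σ x := rfl

theorem autUnit_conj (σ : K ≃ₐ[F] K) (a : Kˣ) :
    autUnit σ * mulUnit F a * (autUnit σ)⁻¹ = mulUnit F (Units.map (σ : K →* K) a) :=
  Units.ext (LinearMap.ext fun x => by
    change σ (a * σ.symm x) = σ a * x
    rw [map_mul, AlgEquiv.apply_symm_apply])

/-- The normaliser consists of the semilinear scalings. -/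
theorem mem_normalizer_singer [Finite K] {φ : (Module.End F K)ˣ} :
    φ ∈ Subgroup.normalizer (singer F K : Set (Module.End F K)ˣ) ↔
      ∃ (a : Kˣ) (σ : K ≃ₐ[F] K), φ = mulUnit F a * autUnit σ := by
  constructor
  · intro hφ
    have h : ∀ a : Kˣ, ∃ b : Kˣ, ∀ x, (φ : Module.End F K) (a * x) = b * (φ : Module.End F K) x := by
      intro a
      obtain ⟨b, hb⟩ := (Subgroup.mem_normalizer_iff.mp hφ _).mp ⟨a, rfl⟩
      refine ⟨b, fun x => ?_⟩
      have hb' : φ * mulUnit F a = mulUnit F b * φ := by rw [← mul_inv_eq_iff_eq_mul]; exact hb.symm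
      exact congrArg (fun u : (Module.End F K)ˣ => (u : Module.End F K) x) hb'
    have hinj : Function.Injective (φ : Module.End F K) := fun x y e => by
      have := congrArg ((↑φ⁻¹ : Module.End F K)) e
      rwa [← Module.End.mul_apply, ← Module.End.mul_apply, Units.inv_mul, Module.End.one_apply, Module.End.one_apply] at this
    have hne : (φ : Module.End F K) 1 ≠ 0 := fun h0 => one_ne_zero (hinj (h0.trans (map_zero _).symm))
    set c := (φ : Module.End F K) 1 with hc
    have hmul : ∀ x y : K, c * (φ : Module.End F K) (x * y) = (φ : Module.End F K) x * (φ : Module.End F K) y := by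
      intro x y
      rcases eq_or_ne x 0 with rfl | hx
      · simp
      obtain ⟨b, hb⟩ := h (Units.mk0 x hx)
      have h1 := hb 1
      rw [Units.val_mk0, mul_one, ← hc] at h1
      have h2 := hb y
      rw [Units.val_mk0] at h2
      rw [h2, h1]; ring
    let f : K →ₐ[F] K := AlgHom.ofLinearMap ((c⁻¹ : K) • (φ : Module.End F K)) (by
      simp [← hc, inv_mul_cancel₀ hne]) fun x y => by
        simp only [LinearMap.smul_apply, smul_eq_mul]
        have := hmul x y
        field_simp
        linear_combination this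
    have hf : Function.Bijective f := Finite.injective_iff_bijective.mp fun x y e => f.toRingHom.injective e
    refine ⟨Units.mk0 c hne, AlgEquiv.ofBijective f hf, Units.ext (LinearMap.ext fun x => ?_)⟩
    change _ = c * (c⁻¹ * (φ : Module.End F K) x)
    rw [mul_inv_cancel_left₀ hne]
  · rintro ⟨a, σ, rfl⟩
    refine Subgroup.mul_mem _ (Subgroup.le_normalizer ⟨a, rfl⟩) (Subgroup.mem_normalizer_iff.mpr fun ψ => ⟨?_, ?_⟩)
    · rintro ⟨b, rfl⟩; exact ⟨_, (autUnit_conj σ b).symm⟩
    · rintro ⟨b, hb⟩
      refine ⟨Units.map (σ.symm : K →* K) b, ?_⟩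
      have h1 : autUnit σ * mulUnit F (Units.map (σ.symm : K →* K) b) * (autUnit σ)⁻¹ = autUnit σ * ψ * (autUnit σ)⁻¹ := by
        rw [autUnit_conj, ← hb]
        refine congrArg (mulUnit F) (Units.ext ?_)
        exact σ.apply_symm_apply _
      exact mul_left_cancel (mul_right_cancel h1)

theorem card_normalizer_singer [Finite F] [Finite K] :
    Nat.card (Subgroup.normalizer (singer F K : Set (Module.End F K)ˣ)) = Module.finrank F K * Nat.card Kˣ := by
  haveI : FiniteDimensional F K := Module.Finite.of_finite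
  haveI : Finite (Module.End F K) := Finite.of_injective (fun f => (f : K → K)) DFunLike.coe_injective
  rw [← IsGalois.card_aut_eq_finrank F K, ← Nat.card_prod]
  refine (Nat.card_eq_of_bijective (fun p : (K ≃ₐ[F] K) × Kˣ =>
    (⟨mulUnit F p.2 * autUnit p.1, mem_normalizer_singer.mpr ⟨p.2, p.1, rfl⟩⟩ :
      Subgroup.normalizer (singer F K : Set (Module.End F K)ˣ))) ⟨?_, ?_⟩).symm
  · rintro ⟨σ, a⟩ ⟨τ, b⟩ h
    have h' : ∀ x, (a : K) * σ x = b * τ x := fun x =>
      congrArg (fun u : (Module.End F K)ˣ => (u : Module.End F K) x) (Subtype.ext_iff.mp h)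
    have hab : (a : K) = b := by simpa using h' 1
    refine Prod.ext (AlgEquiv.ext fun x => ?_) (Units.ext hab)
    have := h' x
    rw [hab] at this
    exact mul_left_cancel₀ b.ne_zero this
  · rintro ⟨φ, hφ⟩
    obtain ⟨a, σ, rfl⟩ := mem_normalizer_singer.mp hφ
    exact ⟨(σ, a), rfl⟩

/-- Two different conjugates of the Singer group meet in the units of a proper subfield. -/
theorem card_singer_inter_conj [Finite F] [Finite K] {g : (Module.End F K)ˣ}
    (hg : (singer F K).map (MulAut.conj g).toMonoidHom ≠ singer F K) :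
    ∃ L : Subalgebra F K, L ≠ ⊤ ∧
      Nat.card ↥((singer F K).map (MulAut.conj g).toMonoidHom ⊓ singer F K) + 1 = Nat.card L := by
  classical
  haveI : FiniteDimensional F K := Module.Finite.of_finite
  haveI : Finite (Module.End F K) := Finite.of_injective (fun f => (f : K → K)) DFunLike.coe_injective
  -- `a` such that `g⁻¹ a g` is a multiplication
  let ψ : K →ₐ[F] Module.End F K :=
    { toFun := fun a => (↑g⁻¹ : Module.End F K) * Algebra.lmul F K a * (g : Module.End F K)
      map_one' := by rw [map_one, mul_one, Units.inv_mul]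
      map_mul' := fun a b => by simp only [map_mul, mul_assoc, Units.mul_inv_cancel_left]
      map_zero' := by simp
      map_add' := fun a b => by simp only [map_add, mul_add, add_mul]
      commutes' := fun r => by
        rw [AlgHom.commutes]
        rw [← Algebra.commutes, mul_assoc, Units.inv_mul, mul_one] }
  let L : Subalgebra F K := (Algebra.lmul F K).range.comap ψ
  have hmem : ∀ a : Kˣ, mulUnit F a ∈ (singer F K).map (MulAut.conj g).toMonoidHom ↔ (a : K) ∈ L := by
    intro a
    constructor
    · rintro ⟨_, ⟨b, rfl⟩, hb⟩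
      refine ⟨b, ?_⟩
      change Algebra.lmul F K b = (↑g⁻¹ : Module.End F K) * Algebra.lmul F K a * (g : Module.End F K)
      have hb' : mulUnit F b = g⁻¹ * mulUnit F a * g := by rw [← hb]; simp [mul_assoc]
      exact congrArg Units.val hb'
    · rintro ⟨b, hb⟩
      have hb0 : b ≠ 0 := by
        rintro rfl
        rw [map_zero] at hb
        have h1 := congrArg (fun T => (g : Module.End F K) * T * (↑g⁻¹ : Module.End F K)) hb
        simp only [mul_zero, zero_mul] at h1
        change 0 = (g : Module.End F K) * ((↑g⁻¹ : Module.End F K) * Algebra.lmul F K a * (g : Module.End F K)) * ↑g⁻¹ at h1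
        rw [mul_assoc (↑g⁻¹ : Module.End F K), Units.mul_inv_cancel_left, mul_assoc, Units.mul_inv, mul_one] at h1
        exact a.ne_zero (by simpa using (congrArg (fun T : Module.End F K => T 1) h1).symm)
      refine ⟨mulUnit F (Units.mk0 b hb0), ⟨_, rfl⟩, ?_⟩
      have hb' : mulUnit F (Units.mk0 b hb0) = g⁻¹ * mulUnit F a * g := Units.ext hb
      rw [MulEquiv.coe_toMonoidHom, MulAut.conj_apply, hb']; group
  refine ⟨L, fun htop => hg ?_, ?_⟩
  · refine (Subgroup.eq_of_le_of_card_ge (fun φ hφ => ?_) (le_of_eq ?_)).symm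
    swap
    · exact Subgroup.card_map_of_injective (f := (MulAut.conj g).toMonoidHom) (MulAut.conj g).injective
    · obtain ⟨a, rfl⟩ := hφ
      exact (hmem a).mpr (htop ▸ Algebra.mem_top)
  · rw [← Finite.card_option]
    refine Nat.card_congr ((Equiv.optionCongr (Equiv.symm (Equiv.ofBijective
      (fun a : {a : L // a ≠ 0} => (⟨mulUnit F (Units.mk0 (a.1 : K) (fun h => a.2 (Subtype.ext h))),
        (hmem _).mpr a.1.2, ⟨_, rfl⟩⟩ : ↥((singer F K).map (MulAut.conj g).toMonoidHom ⊓ singer F K)))
      ⟨fun a b e => ?_, ?_⟩))).trans (Equiv.optionSubtypeNe (0 : L)))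
    · have := mulUnit_injective (Subtype.ext_iff.mp e)
      exact Subtype.ext (Subtype.ext (congrArg Units.val this))
    · rintro ⟨φ, hφ, a, rfl⟩
      exact ⟨⟨⟨a, (hmem a).mp hφ⟩, fun h => a.ne_zero (congrArg Subtype.val h)⟩, Subtype.ext (congrArg (mulUnit F) (Units.ext rfl))⟩

end CfsgLib.Classical22
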