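/-
Abelian subgroups of `GL_F(K)` of order `|K| - 1` are conjugate to the Singer group.
-/
import Mathlib

set_option autoImplicit false

namespace CfsgLib.Classical22

variable {F K : Type*} [Field F] [Fintype F] [Field K] [Fintype K] [Algebra F K]

theorem pow_card_eq_self_of_mem_adjoin {R : Type*} [CommRing R] [Algebra F R] [Nontrivial R] (Q p : ℕ) [Fact p.Prime]
    [CharP F p] (hQ : ∃ N, Q = p ^ N) (hF : ∀ c : F, c ^ Q = c) (s : Set R) (hs : ∀ x ∈ s, x ^ Q = x) :
    ∀ x ∈ Algebra.adjoin F s, x ^ Q = x := by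
  haveI : CharP R p := charP_of_injective_algebraMap (algebraMap F R).injective p
  obtain ⟨N, rfl⟩ := hQ
  intro x hx
  induction hx using Algebra.adjoin_induction with
  | mem x hx => exact hs x hx
  | algebraMap c => rw [← map_pow, hF]
  | add x y _ _ hx hy => rw [add_pow_char_pow, hx, hy]
  | mul x y _ _ hx hy => rw [mul_pow, hx, hy]

theorem exists_faithful_vector {R V : Type*} [CommRing R] [Finite R] [AddCommGroup V] [Module R V] [FaithfulSMul R V]
    (Q : ℕ) (hQ : 2 ≤ Q) (hR : ∀ b : R, b ^ Q = b) : ∃ v : V, ∀ b : R, b • v = 0 → b = 0 := by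
  classical
  haveI := Fintype.ofFinite R
  obtain ⟨m, hm⟩ : ∃ m, m = sInf (Set.range fun v : V => Nat.card {b : R // b • v = 0}) := ⟨_, rfl⟩
  obtain ⟨v, hv⟩ : ∃ v : V, Nat.card {b : R // b • v = 0} = m := by
    obtain ⟨v, hv⟩ := Nat.sInf_mem (Set.range_nonempty fun v : V => Nat.card {b : R // b • v = 0})
    exact ⟨v, hv.trans hm.symm⟩
  refine ⟨v, fun b hb => by_contra fun hb0 => ?_⟩
  obtain ⟨e, he⟩ : ∃ e, e = b ^ (Q - 1) := ⟨_, rfl⟩
  have hbe : b * e = b := by
    rw [he, ← pow_succ', Nat.sub_add_cancel (by omega), hR]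
  have he0 : e ≠ 0 := fun h => hb0 (by rw [← hbe, h, mul_zero])
  have hee : e * e = e := by
    obtain ⟨c, hc⟩ : ∃ c, Q - 1 = c + 1 := ⟨Q - 2, by omega⟩
    calc e * e = b ^ c * (b * e) := by rw [he, hc, pow_succ]; ring
      _ = b ^ c * b := by rw [hbe]
      _ = e := by rw [he, hc, pow_succ]
  have hev : e • v = 0 := by
    obtain ⟨c, hc⟩ : ∃ c, Q - 1 = c + 1 := ⟨Q - 2, by omega⟩
    rw [he, hc, pow_succ, mul_smul, hb, smul_zero]
  obtain ⟨w, hw⟩ : ∃ w : V, e • w ≠ 0 := by
    by_contra! h
    exact he0 (FaithfulSMul.eq_of_smul_eq_smul (α := V) fun w => by rw [h w, zero_smul])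
  have hlt : Nat.card {c : R // c • (v + e • w) = 0} < Nat.card {c : R // c • v = 0} := by
    rw [Nat.card_eq_fintype_card, Nat.card_eq_fintype_card, Fintype.card_subtype, Fintype.card_subtype]
    refine Finset.card_lt_card (Finset.ssubset_iff_of_subset (fun c hc => ?_) |>.2 ⟨e, by simpa using hev, ?_⟩)
    · simp only [Finset.mem_filter, Finset.mem_univ, true_and] at hc ⊢
      have h1 : c • v = (1 - e) • c • (v + e • w) := by
        rw [smul_add, smul_add, ← mul_smul (1 - e) c (e • w), ← mul_smul ((1 - e) * c) e,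
          show (1 - e) * c * e = c * (e - e * e) by ring, hee, sub_self, mul_zero, zero_smul, add_zero,
          ← mul_smul, show (1 - e) * c = c - c * e by ring, sub_smul, mul_smul c e, hev, smul_zero, sub_zero]
      rw [h1, hc, smul_zero]
    · simp only [Finset.mem_filter, Finset.mem_univ, true_and, smul_add, hev, zero_add]
      rw [← mul_smul, hee]
      exact hw
  have := Nat.sInf_le (s := Set.range fun v : V => Nat.card {b : R // b • v = 0}) ⟨v + e • w, rfl⟩
  simp only at this
  omega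

theorem abelian_singer_conj (U : Subgroup (Module.End F K)ˣ) (hU : IsMulCommutative U)
    (hcard : Nat.card U = Fintype.card K - 1) :
    ∃ g : (Module.End F K)ˣ, U.map (MulAut.conj g).toMonoidHom =
      (Units.map ((Algebra.lmul F K : K →ₐ[F] Module.End F K) : K →* Module.End F K)).range := by
  classical
  obtain ⟨p, hpF⟩ := CharP.exists F
  haveI : Fact p.Prime := ⟨CharP.char_is_prime F p⟩
  haveI : Module.Finite F K := Module.Finite.of_finite
  haveI : CharP K p := charP_of_injective_algebraMap (algebraMap F K).injective p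
  have hQp : ∃ N, Fintype.card K = p ^ N := by
    obtain ⟨N, -, hN⟩ := FiniteField.card K p
    exact ⟨N, hN⟩
  have hQ2 : 2 ≤ Fintype.card K := Fintype.one_lt_card
  have hcF : ∀ c : F, c ^ Fintype.card K = c := fun c => (algebraMap F K).injective (by
    rw [map_pow, FiniteField.pow_card])
  obtain ⟨S, hSdef⟩ : ∃ S : Set (Module.End F K), S = Units.val '' (U : Set (Module.End F K)ˣ) := ⟨_, rfl⟩
  have hcomm : ∀ x ∈ S, ∀ y ∈ S, x * y = y * x := by
    rintro x hx y hy
    rw [hSdef] at hx hy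
    obtain ⟨a, ha, rfl⟩ := hx
    obtain ⟨b, hb, rfl⟩ := hy
    have h := congrArg Subtype.val (hU.is_comm.comm (⟨a, ha⟩ : U) ⟨b, hb⟩)
    exact congrArg Units.val h
  obtain ⟨B, hB⟩ : ∃ B : Subalgebra F (Module.End F K), B = Algebra.adjoin F S := ⟨_, rfl⟩
  have hc2 : ∀ x ∈ B, ∀ y ∈ B, x * y = y * x := by
    rw [hB]
    intro x hx y hy
    exact (Algebra.commute_of_mem_adjoin_of_forall_mem_commute hy fun b hb =>
      (Algebra.commute_of_mem_adjoin_of_forall_mem_commute hx fun a ha => hcomm b hb a ha).symm).eq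
  letI : CommRing B := { (inferInstance : Ring B) with mul_comm := fun x y => Subtype.ext (hc2 x x.2 y y.2) }
  letI : Algebra F B := B.algebra
  have hUB : ∀ u ∈ U, (u : Module.End F K) ∈ B := fun u hu => hB ▸ Algebra.subset_adjoin (hSdef ▸ ⟨u, hu, rfl⟩)
  have hBpow : ∀ b : B, b ^ Fintype.card K = b := by
    have hgen : Algebra.adjoin F {x : B | (x : Module.End F K) ∈ S} = ⊤ := by
      subst hB
      exact Algebra.adjoin_adjoin_coe_preimage
    intro b
    refine pow_card_eq_self_of_mem_adjoin (F := F) (Fintype.card K) p hQp hcF _ (fun x hx => ?_) b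
      (hgen ▸ Algebra.mem_top)
    rw [Set.mem_setOf_eq, hSdef] at hx
    obtain ⟨u, hu, hux⟩ := hx
    have h1 : u ^ Fintype.card K = u := by
      have h := congrArg Subtype.val (pow_card_eq_one' (x := (⟨u, hu⟩ : U)))
      rw [hcard] at h
      rw [← Nat.sub_add_cancel (show 1 ≤ Fintype.card K by omega), pow_succ]
      rw [show u ^ (Fintype.card K - 1) = 1 from h, one_mul]
    exact Subtype.ext (by rw [SubmonoidClass.coe_pow, ← hux, ← Units.val_pow_eq_pow_val, h1])
  haveI : Finite (Module.End F K) := Module.finite_of_finite F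
  haveI : FaithfulSMul B K := ⟨fun h => Subtype.ext (LinearMap.ext fun w => h w)⟩
  obtain ⟨v, hv⟩ := exists_faithful_vector (R := B) (V := K) (Fintype.card K) hQ2 hBpow
  have hinj : Function.Injective fun b : B => (b : Module.End F K) v := fun a b h =>
    sub_eq_zero.1 (hv _ (by
      change (a : Module.End F K) v - (b : Module.End F K) v = 0
      exact sub_eq_zero.2 h))
  obtain ⟨f, hf⟩ : ∃ f : U → {b : B // b ≠ 0}, f = fun u =>
      ⟨⟨((u : (Module.End F K)ˣ) : Module.End F K), hUB _ u.2⟩, fun h =>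
        (u : (Module.End F K)ˣ).ne_zero (congrArg Subtype.val h)⟩ := ⟨_, rfl⟩
  have hfi : Function.Injective f := fun a b h => by
    rw [hf] at h
    exact Subtype.ext (Units.ext (congrArg (fun z : {b : B // b ≠ 0} => ((z : B) : Module.End F K)) h))
  haveI := Fintype.ofFinite B
  have hB1 : Fintype.card {b : B // b ≠ 0} = Fintype.card B - 1 := by
    rw [Fintype.card_subtype_compl, Fintype.card_subtype_eq]
  have hBle : Fintype.card B ≤ Fintype.card K := Fintype.card_le_of_injective _ hinj
  have hUle : Nat.card U ≤ Fintype.card {b : B // b ≠ 0} := by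
    rw [← Nat.card_eq_fintype_card]; exact Nat.card_le_card_of_injective f hfi
  have hBc : Fintype.card B = Fintype.card K := by omega
  have hfs : Function.Surjective f := ((Nat.bijective_iff_injective_and_card f).2
    ⟨hfi, by rw [Nat.card_eq_fintype_card (α := {b : B // b ≠ 0})]; omega⟩).2
  have hfield : IsField B := by
    refine ⟨⟨0, 1, fun h => ?_⟩, mul_comm, fun {b} hb => ?_⟩
    · exact zero_ne_one (congrArg Subtype.val h)
    · obtain ⟨u, hu⟩ := hfs ⟨b, hb⟩
      obtain ⟨w, hw⟩ : ∃ w : B, (w : Module.End F K) = ((u : (Module.End F K)ˣ)⁻¹ : (Module.End F K)ˣ) :=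
        ⟨⟨_, hUB _ (inv_mem u.2)⟩, rfl⟩
      have hb' : (b : Module.End F K) = ((u : (Module.End F K)ˣ) : Module.End F K) := by
        rw [hf] at hu; exact (congrArg (fun z : {b : B // b ≠ 0} => ((z : B) : Module.End F K)) hu).symm
      exact ⟨w, Subtype.ext (by rw [MulMemClass.coe_mul, hw, hb', Units.mul_inv, OneMemClass.coe_one])⟩
  letI : Field B := hfield.toField
  obtain ⟨σ⟩ : Nonempty (K ≃ₐ[F] B) := by
    haveI : NeZero (Module.finrank F K) := ⟨Module.finrank_pos.ne'⟩
    refine ⟨(FiniteField.algEquivExtension F p (Module.finrank F K) K rfl).trans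
      (FiniteField.algEquivExtension F p (Module.finrank F K) B ?_).symm⟩
    refine Nat.pow_right_injective (a := Fintype.card F) Fintype.one_lt_card ?_
    show Fintype.card F ^ _ = Fintype.card F ^ _
    rw [← Module.card_eq_pow_finrank, ← Module.card_eq_pow_finrank, hBc]
  let ψ : K →ₗ[F] K := (LinearMap.applyₗ v).comp (B.val.toLinearMap.comp σ.toLinearMap)
  have hψ : ∀ k, ψ k = (σ k : Module.End F K) v := fun k => rfl
  have hψb : Function.Bijective ψ :=
    Finite.injective_iff_bijective.1 (hinj.comp σ.injective)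
  let G := LinearEquiv.ofBijective ψ hψb
  have hG : ∀ k, G k = (σ k : Module.End F K) v := fun k => rfl
  let g : (Module.End F K)ˣ := (LinearMap.GeneralLinearGroup.ofLinearEquiv G)⁻¹
  have key : ∀ (u : U), ∀ k : K, G (σ.symm (f u) * k) = ((u : (Module.End F K)ˣ) : Module.End F K) (G k) := by
    intro u k
    rw [hG, hG, map_mul, AlgEquiv.apply_symm_apply, MulMemClass.coe_mul, hf]
    rfl
  refine ⟨g, ?_⟩
  ext x
  simp only [Subgroup.mem_map, MonoidHom.mem_range]
  constructor
  · rintro ⟨u, hu, rfl⟩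
    refine ⟨Units.mk0 (σ.symm (f ⟨u, hu⟩)) fun h => (f ⟨u, hu⟩).2 (σ.symm.injective (h.trans (map_zero _).symm)),
      Units.ext (LinearMap.ext fun k => ?_)⟩
    change σ.symm (f ⟨u, hu⟩) * k = G.symm ((u : Module.End F K) (G k))
    rw [← key ⟨u, hu⟩, LinearEquiv.symm_apply_apply]
  · rintro ⟨k₀, rfl⟩
    obtain ⟨⟨u, hu⟩, hu'⟩ := hfs ⟨σ k₀, fun h => k₀.ne_zero (σ.injective (h.trans (map_zero _).symm))⟩
    refine ⟨u, hu, Units.ext (LinearMap.ext fun k => ?_)⟩
    change G.symm ((u : Module.End F K) (G k)) = (k₀ : K) * k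
    rw [← key ⟨u, hu⟩, LinearEquiv.symm_apply_apply, hu', AlgEquiv.symm_apply_apply]

end CfsgLib.Classical22
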