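/-
Elements of order `n` in the normaliser of a Singer cycle, `n` prime.
-/
import Cfsg.Agent.Lib.Classical22.PrimeOrderWitness
import Cfsg.Agent.Lib.Classical22.PrimeOrderSubspaces
import Cfsg.Prelude.Def_GeometricClasses

set_option autoImplicit false

namespace CfsgLib.Classical22.SingerOrder

open Polynomial Matrix
open CfsgLib.Classical22.PrimeMaps

variable {F : Type*} [Field F] {n : ℕ}

/-- No nonzero polynomial of degree below `n` annihilates `A`. -/
def NoAnn (A : Matrix (Fin n) (Fin n) F) : Prop := ∀ g : F[X], g.natDegree < n → aeval A g = 0 → g = 0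

theorem irr_noAnn (hn : 0 < n) {c : F} (hirr : Irreducible (X ^ n - C c : F[X])) {A : Matrix (Fin n) (Fin n) F}
    (hA : A ^ n = c • 1) : NoAnn A := by
  intro g hg hg0
  by_contra hne
  have hnd : ¬ (X ^ n - C c : F[X]) ∣ g := fun h => by
    have := natDegree_le_of_dvd h hne
    rw [natDegree_X_pow_sub_C] at this
    omega
  obtain ⟨a, b, hab⟩ := hirr.coprime_iff_not_dvd.2 hnd
  have h := congrArg (aeval A) hab
  rw [map_add, map_mul, map_mul, map_one, hg0, mul_zero, add_zero, map_sub, map_pow, aeval_X, aeval_C, hA,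
    Algebra.algebraMap_eq_smul_one, sub_self, mul_zero] at h
  exact one_ne_zero (α := F) (by simpa using (congrFun (congrFun h ⟨0, hn⟩) ⟨0, hn⟩).symm)

theorem exists_cyclic_vec (hn : 0 < n) {c : F} (hsq : Squarefree (X ^ n - C c : F[X]))
    {A : Matrix (Fin n) (Fin n) F} (hA : A ^ n = c • 1) (hno : NoAnn A) :
    ∃ v, ∀ g : F[X], g.natDegree < n → aeval A g *ᵥ v = 0 → g = 0 := by
  classical
  obtain ⟨μ, hμ⟩ : ∃ μ : F[X], μ = X ^ n - C c := ⟨_, rfl⟩
  have hμ0 : μ ≠ 0 := hμ ▸ X_pow_sub_C_ne_zero hn c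
  have hμA : aeval A μ = 0 := by
    rw [hμ, map_sub, map_pow, aeval_X, aeval_C, hA, Algebra.algebraMap_eq_smul_one, sub_self]
  suffices H : ∀ m : F[X], m ∣ μ → ∃ v, aeval A m *ᵥ v = 0 ∧ ∀ g : F[X], aeval A g *ᵥ v = 0 → m ∣ g by
    obtain ⟨v, -, hv⟩ := H μ dvd_rfl
    refine ⟨v, fun g hg h => by_contra fun hne => ?_⟩
    have h1 := natDegree_le_of_dvd (hv g h) hne
    rw [hμ, natDegree_X_pow_sub_C] at h1
    omega
  intro m
  induction m using UniqueFactorizationMonoid.induction_on_prime with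
  | h₁ => exact fun h => absurd (zero_dvd_iff.1 h) hμ0
  | h₂ u hu =>
    exact fun _ => ⟨0, Matrix.mulVec_zero _, fun g _ => hu.dvd⟩
  | h₃ m P hm hP ih =>
    intro hd
    obtain ⟨v', hv'0, hv'⟩ := ih (dvd_trans (dvd_mul_left m P) hd)
    obtain ⟨R, hR⟩ := dvd_trans (dvd_mul_right P m) hd
    have hR0 : R ≠ 0 := fun h => hμ0 (by rw [hR, h, mul_zero])
    have hRA : aeval A R ≠ 0 := fun h => by
      refine hR0 (hno R ?_ h)
      have h1 := congrArg natDegree hR
      rw [natDegree_mul hP.ne_zero hR0, hμ, natDegree_X_pow_sub_C] at h1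
      have := hP.irreducible.natDegree_pos
      omega
    obtain ⟨w, hw⟩ : ∃ w, aeval A R *ᵥ w ≠ 0 := by
      by_contra hc
      push Not at hc
      exact hRA (Matrix.ext_iff_mulVec.2 fun w => by rw [hc, Matrix.zero_mulVec])
    obtain ⟨u, hu⟩ : ∃ u, u = aeval A R *ᵥ w := ⟨_, rfl⟩
    have hPu : aeval A P *ᵥ u = 0 := by
      rw [hu, Matrix.mulVec_mulVec, ← map_mul, ← hR, hμA, Matrix.zero_mulVec]
    have hcop : IsCoprime m P := by
      refine ((hP.irreducible.coprime_iff_not_dvd).2 fun h => ?_).symm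
      obtain ⟨m', rfl⟩ := h
      exact hP.not_unit ((hμ ▸ hsq) P (dvd_trans ⟨m', by ring⟩ hd))
    refine ⟨v' + u, ?_, fun g hg => ?_⟩
    · rw [Matrix.mulVec_add, map_mul, ← Matrix.mulVec_mulVec, hv'0, Matrix.mulVec_zero, zero_add, ← map_mul,
        mul_comm, map_mul, ← Matrix.mulVec_mulVec, hPu, Matrix.mulVec_zero]
    · have h1 : aeval A (P * g) *ᵥ v' = 0 := by
        have h := congrArg (fun x => aeval A P *ᵥ x) hg
        simp only [Matrix.mulVec_zero] at h
        rw [Matrix.mulVec_add, Matrix.mulVec_add, Matrix.mulVec_mulVec u (aeval A P) (aeval A g), ← map_mul,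
          mul_comm P g, map_mul, ← Matrix.mulVec_mulVec u, hPu, Matrix.mulVec_zero, add_zero,
          Matrix.mulVec_mulVec, ← map_mul] at h
        exact h
      have hmg : m ∣ g := hcop.dvd_of_dvd_mul_left (hv' _ h1)
      have h2 : aeval A g *ᵥ v' = 0 := by
        obtain ⟨k, rfl⟩ := hmg
        rw [mul_comm, map_mul, ← Matrix.mulVec_mulVec, hv'0, Matrix.mulVec_zero]
      rw [Matrix.mulVec_add, h2, zero_add] at hg
      refine hcop.symm.mul_dvd ?_ hmg
      by_contra hPg
      obtain ⟨a, b, hab⟩ := hP.irreducible.coprime_iff_not_dvd.2 hPg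
      have h3 := congrArg (fun p : F[X] => aeval A p *ᵥ u) hab
      simp only [map_add, map_mul, map_one, Matrix.add_mulVec, ← Matrix.mulVec_mulVec, hPu, hg, Matrix.mulVec_zero,
        add_zero, Matrix.one_mulVec] at h3
      exact hw (hu ▸ h3.symm)

/-- The companion matrix of `X ^ n - c`. -/
def comp (n : ℕ) (c : F) : Matrix (Fin n) (Fin n) F :=
  fun i j => if j.val + 1 < n then (if i.val = j.val + 1 then 1 else 0) else (if i.val = 0 then c else 0)

theorem exists_frame (hn : 0 < n) {c : F} {A : Matrix (Fin n) (Fin n) F} (hA : A ^ n = c • 1) {v : Fin n → F}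
    (hv : ∀ g : F[X], g.natDegree < n → aeval A g *ᵥ v = 0 → g = 0) :
    ∃ M : GL (Fin n) F, A * M = M * comp n c := by
  obtain ⟨M, hM⟩ : ∃ M : Matrix (Fin n) (Fin n) F, ∀ i j, M i j = (A ^ j.val *ᵥ v) i := ⟨fun i j => _, fun i j => rfl⟩
  have hinj : Function.Injective M.mulVec := by
    intro a b hab
    obtain ⟨g, hg⟩ : ∃ g : F[X], g = ∑ j : Fin n, monomial j.val (a j - b j) := ⟨_, rfl⟩
    have h1 : g = 0 := by
      refine hv g ?_ ?_
      · rw [hg]
        refine lt_of_le_of_lt (natDegree_sum_le_of_forall_le _ _ (n := n - 1) fun j _ => ?_) (by omega)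
        exact (natDegree_monomial_le _).trans (by omega)
      · rw [hg, map_sum, Matrix.sum_mulVec]
        funext i
        have h2 := congrFun hab i
        simp only [Matrix.mulVec, dotProduct, hM] at h2
        rw [Finset.sum_apply, Pi.zero_apply]
        rw [← sub_eq_zero, ← Finset.sum_sub_distrib] at h2
        refine Eq.trans (Finset.sum_congr rfl fun j _ => ?_) h2
        rw [aeval_monomial, ← Algebra.smul_def, Matrix.smul_mulVec, Pi.smul_apply, smul_eq_mul]
        change _ = (A ^ j.val *ᵥ v) i * a j - (A ^ j.val *ᵥ v) i * b j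
        ring
    funext j
    have h3 := congrArg (fun p : F[X] => p.coeff j.val) h1
    rw [hg] at h3
    simp only [finset_sum_coeff, coeff_monomial, Polynomial.coeff_zero] at h3
    rw [Finset.sum_eq_single j (fun b _ hb => if_neg (fun h => hb (Fin.ext h))) (fun h => absurd (Finset.mem_univ _) h),
      if_pos rfl] at h3
    exact sub_eq_zero.1 h3
  refine ⟨(Matrix.mulVec_injective_iff_isUnit.1 hinj).unit, ?_⟩
  rw [IsUnit.unit_spec]
  ext i j
  have hcol : (A * M) i j = (A ^ (j.val + 1) *ᵥ v) i := by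
    rw [pow_succ', ← Matrix.mulVec_mulVec, Matrix.mul_apply]
    simp only [hM]
    rfl
  rw [hcol, Matrix.mul_apply]
  by_cases hj : j.val + 1 < n
  · rw [Finset.sum_eq_single ⟨j.val + 1, hj⟩ (fun l _ hl => ?_) (fun h => absurd (Finset.mem_univ _) h)]
    · rw [comp, if_pos hj, if_pos rfl, mul_one, hM]
    · rw [comp, if_pos hj, if_neg (fun h => hl (Fin.ext h)), mul_zero]
  · rw [Finset.sum_eq_single ⟨0, hn⟩ (fun l _ hl => ?_) (fun h => absurd (Finset.mem_univ _) h)]
    · rw [comp, if_neg hj, if_pos rfl, hM, show j.val + 1 = n by omega, hA, pow_zero, Matrix.smul_mulVec,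
        Pi.smul_apply, smul_eq_mul, mul_comm]
    · rw [comp, if_neg hj, if_neg (fun h => hl (Fin.ext h)), mul_zero]

variable {K : Subalgebra F (Matrix (Fin n) (Fin n) F)}

theorem isField (hn : 0 < n) {r : ℕ} (hK : Cfsg.Geo.IsFieldSubalgebra r K) : IsField K where
  exists_pair_ne := ⟨0, 1, fun h => one_ne_zero (α := F)
    (by simpa using (congrFun (congrFun (congrArg Subtype.val h) ⟨0, hn⟩) ⟨0, hn⟩).symm)⟩
  mul_comm := fun a b => Subtype.ext (hK.comm _ a.2 _ b.2)
  mul_inv_cancel := fun {a} ha => by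
    obtain ⟨y, hy, h⟩ := hK.inv _ a.2 (fun h0 => ha (Subtype.ext h0))
    exact ⟨⟨y, hy⟩, Subtype.ext h⟩

theorem act_bijective (hK : Cfsg.Geo.IsFieldSubalgebra n K) {v : Fin n → F} (hv : v ≠ 0) :
    ∃ j : K ≃ₗ[F] (Fin n → F), ∀ k : K, j k = (k : Matrix (Fin n) (Fin n) F) *ᵥ v := by
  obtain ⟨j, hj⟩ : ∃ j : K →ₗ[F] (Fin n → F), ∀ k : K, j k = (k : Matrix (Fin n) (Fin n) F) *ᵥ v :=
    ⟨{ toFun := fun k => (k : Matrix (Fin n) (Fin n) F) *ᵥ v
       map_add' := fun a b => by rw [Subalgebra.coe_add, Matrix.add_mulVec]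
       map_smul' := fun c a => by rw [Subalgebra.coe_smul, Matrix.smul_mulVec, RingHom.id_apply] }, fun k => rfl⟩
  have hi : Function.Injective j := by
    rw [← LinearMap.ker_eq_bot, LinearMap.ker_eq_bot']
    intro k hk
    rw [hj] at hk
    by_contra hk0
    obtain ⟨y, hy, hy1⟩ := hK.inv _ k.2 (fun h0 => hk0 (Subtype.ext h0))
    apply hv
    have h1 := congrArg (y *ᵥ ·) hk
    simpa [Matrix.mulVec_mulVec, hK.comm y hy _ k.2, hy1] using h1
  exact ⟨LinearEquiv.ofBijective j ⟨hi, (LinearMap.injective_iff_surjective_of_finrank_eq_finrank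
    (hK.finrank_eq.trans (Module.finrank_fin_fun F).symm)).1 hi⟩, hj⟩

theorem unit_mem (hn : 0 < n) {r : ℕ} (hK : Cfsg.Geo.IsFieldSubalgebra r K) {g : GL (Fin n) F}
    (hg : (g : Matrix (Fin n) (Fin n) F) ∈ K) : g ∈ Cfsg.Geo.subalgebraNormalizer K := by
  have hinv : ((g⁻¹ : GL (Fin n) F) : Matrix (Fin n) (Fin n) F) ∈ K := by
    haveI : Nonempty (Fin n) := ⟨⟨0, hn⟩⟩
    obtain ⟨y, hy, hy1⟩ := hK.inv _ hg g.ne_zero
    rwa [show ((g⁻¹ : GL (Fin n) F) : Matrix (Fin n) (Fin n) F) = y from Units.inv_eq_of_mul_eq_one_right hy1]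
  intro k
  constructor
  · exact fun h => K.mul_mem (K.mul_mem hg h) hinv
  · intro h
    have := K.mul_mem (K.mul_mem hinv h) hg
    simpa [mul_assoc] using this

/-- An element of the normaliser with an eigenvector and small annihilator is scalar. -/
theorem norm_scalar [Finite F] (hn : n.Prime) (hK : Cfsg.Geo.IsFieldSubalgebra n K) {g : GL (Fin n) F}
    (hg : g ∈ Cfsg.Geo.subalgebraNormalizer K) {v : Fin n → F} (hv : v ≠ 0) {s : F}
    (hgv : (g : Matrix (Fin n) (Fin n) F) *ᵥ v = s • v) {P : F[X]} (hP0 : P ≠ 0) (hP : P.natDegree < n)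
    (hPg : aeval (g : Matrix (Fin n) (Fin n) F) P = 0) : ∃ z : F, (g : Matrix (Fin n) (Fin n) F) = z • 1 := by
  classical
  letI : Field K := (isField hn.pos hK).toField
  haveI : Finite K := Module.finite_of_finite F
  have hginv : g⁻¹ ∈ Cfsg.Geo.subalgebraNormalizer K := inv_mem hg
  obtain ⟨τ, hτ⟩ : ∃ τ : K ≃ₐ[F] K, ∀ k : K,
      (g : Matrix (Fin n) (Fin n) F) * k = (τ k : Matrix (Fin n) (Fin n) F) * g := by
    refine ⟨
      { toFun := fun k => ⟨(g : Matrix (Fin n) (Fin n) F) * k * ((g⁻¹ : GL (Fin n) F) : Matrix (Fin n) (Fin n) F), (hg k).mp k.2⟩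
        invFun := fun k => ⟨((g⁻¹ : GL (Fin n) F) : Matrix (Fin n) (Fin n) F) * k * g, by
          have := (hginv k).mp k.2; rwa [inv_inv] at this⟩
        left_inv := fun k => Subtype.ext (by simp [mul_assoc])
        right_inv := fun k => Subtype.ext (by simp [mul_assoc])
        map_mul' := fun a b => Subtype.ext (by simp [mul_assoc])
        map_add' := fun a b => Subtype.ext (by simp [mul_add, add_mul])
        commutes' := fun c => Subtype.ext (by
          change (g : Matrix (Fin n) (Fin n) F) * algebraMap F (Matrix (Fin n) (Fin n) F) c *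
            ((g⁻¹ : GL (Fin n) F) : Matrix (Fin n) (Fin n) F) = algebraMap F (Matrix (Fin n) (Fin n) F) c
          rw [← Algebra.commutes, mul_assoc, Units.mul_inv, mul_one]) }, fun k => ?_⟩
    simp [mul_assoc]
  obtain ⟨j, hj⟩ := act_bijective hK hv
  by_cases h1 : τ = 1
  · refine ⟨s, Matrix.ext_iff_mulVec.2 fun w => ?_⟩
    obtain ⟨k, rfl⟩ := j.surjective w
    rw [hj, Matrix.mulVec_mulVec, hτ, h1, AlgEquiv.one_apply, ← Matrix.mulVec_mulVec, hgv, Matrix.mulVec_smul,
      Matrix.smul_mulVec, Matrix.one_mulVec]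
  · exfalso
    have hs : s ≠ 0 := fun h0 => hv (by
      have h := congrArg (((g⁻¹ : GL (Fin n) F) : Matrix (Fin n) (Fin n) F) *ᵥ ·) hgv
      simpa [Matrix.mulVec_mulVec, h0] using h)
    have hcard : Nat.card (K ≃ₐ[F] K) = n := (IsGalois.card_aut_eq_finrank F K).trans hK.finrank_eq
    haveI := Fact.mk hn
    have hord : orderOf τ = n := orderOf_eq_prime (by have := pow_card_eq_one' (x := τ); rwa [hcard] at this) h1
    have hpow : ∀ (i : ℕ) (k : K), ((g : Matrix (Fin n) (Fin n) F) ^ i) *ᵥ (j k) = s ^ i • j ((τ ^ i) k) := by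
      intro i
      induction i with
      | zero => intro k; simp
      | succ i ih =>
        intro k
        rw [pow_succ', ← Matrix.mulVec_mulVec, ih, Matrix.mulVec_smul, hj, hj, Matrix.mulVec_mulVec, hτ,
          ← Matrix.mulVec_mulVec, hgv, Matrix.mulVec_smul, smul_smul, ← pow_succ, pow_succ' τ, AlgEquiv.mul_apply]
    have hli := (linearIndependent_monoidHom K K).comp
      (fun i : Fin n => ((τ ^ (i : ℕ) : K ≃ₐ[F] K) : K →* K)) (fun a b h => Fin.ext (pow_injOn_Iio_orderOf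
        (by rw [hord]; exact a.2) (by rw [hord]; exact b.2) (AlgEquiv.ext fun k => DFunLike.congr_fun h k)))
    have h0 := Fintype.linearIndependent_iff.1 hli
      (fun i : Fin n => algebraMap F K (P.coeff i * s ^ (i : ℕ))) (funext fun k => ?_)
    · apply hP0
      ext i
      rw [Polynomial.coeff_zero]
      by_cases hi : i < n
      · exact (mul_eq_zero.1 ((map_eq_zero _).1 (h0 ⟨i, hi⟩))).resolve_right (pow_ne_zero _ hs)
      · exact coeff_eq_zero_of_natDegree_lt (by omega)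
    · rw [Finset.sum_apply, Pi.zero_apply]
      apply j.injective
      have h := congrArg (fun M : Matrix (Fin n) (Fin n) F => M *ᵥ j k) hPg
      rw [aeval_eq_sum_range' hP, Matrix.zero_mulVec, Matrix.sum_mulVec, Finset.sum_range] at h
      rw [map_sum, map_zero]
      refine (Finset.sum_congr rfl fun i _ => ?_).trans h
      rw [Matrix.smul_mulVec, hpow, smul_smul, ← map_smul]
      exact congrArg j (Algebra.smul_def _ _).symm

/-- Elements with an eigenvector and a small annihilator are derangements. -/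
theorem derangement [Finite F] (hn : n.Prime) (hK : Cfsg.Geo.IsFieldSubalgebra n K)
    (x : SpecialLinearGroup (Fin n) F) (hx : ∀ z : F, (x : Matrix (Fin n) (Fin n) F) ≠ z • 1) {v : Fin n → F}
    (hv : v ≠ 0) {s : F} (hxv : (x : Matrix (Fin n) (Fin n) F) *ᵥ v = s • v) {P : F[X]} (hP0 : P ≠ 0)
    (hP : P.natDegree < n) (hPx : aeval (x : Matrix (Fin n) (Fin n) F) P = 0) :
    ¬ ∃ Q : SpecialLinearGroup (Fin n) F, Q⁻¹ * x * Q ∈
      (Cfsg.Geo.subalgebraNormalizer K).comap (SpecialLinearGroup.toGL : SpecialLinearGroup (Fin n) F →* GL (Fin n) F) := by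
  rintro ⟨Q, hQ⟩
  rw [Subgroup.mem_comap] at hQ
  have e1 : (Q : Matrix (Fin n) (Fin n) F) * (Q⁻¹ : SpecialLinearGroup (Fin n) F) = 1 :=
    congrArg Subtype.val (mul_inv_cancel Q)
  have e2 : ((Q⁻¹ : SpecialLinearGroup (Fin n) F) : Matrix (Fin n) (Fin n) F) * Q = 1 :=
    congrArg Subtype.val (inv_mul_cancel Q)
  obtain ⟨g, hg⟩ : ∃ g : GL (Fin n) F, g = SpecialLinearGroup.toGL (Q⁻¹ * x * Q) := ⟨_, rfl⟩
  have hgm : (g : Matrix (Fin n) (Fin n) F) =
      ((Q⁻¹ : SpecialLinearGroup (Fin n) F) : Matrix (Fin n) (Fin n) F) * x * Q := by rw [hg]; rfl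
  let φ : Matrix (Fin n) (Fin n) F ≃ₐ[F] Matrix (Fin n) (Fin n) F :=
    MulSemiringAction.toAlgEquiv F _ (ConjAct.toConjAct (SpecialLinearGroup.toGL (Q⁻¹) : GL (Fin n) F))
  have hφ : ∀ M, φ M = ((Q⁻¹ : SpecialLinearGroup (Fin n) F) : Matrix (Fin n) (Fin n) F) * M * Q := by
    intro M
    change ((SpecialLinearGroup.toGL (Q⁻¹) : GL (Fin n) F) : Matrix (Fin n) (Fin n) F) * M *
      (((SpecialLinearGroup.toGL (Q⁻¹))⁻¹ : GL (Fin n) F) : Matrix (Fin n) (Fin n) F) = _
    rw [← map_inv, inv_inv]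
    rfl
  obtain ⟨z, hz⟩ := norm_scalar hn hK (hg ▸ hQ) (v := (Q⁻¹ : SpecialLinearGroup (Fin n) F).1 *ᵥ v)
    (fun h => hv (by
      have h' : (Q : Matrix (Fin n) (Fin n) F) *ᵥ ((Q⁻¹ : SpecialLinearGroup (Fin n) F).1 *ᵥ v) = 0 := by
        rw [h, Matrix.mulVec_zero]
      rwa [Matrix.mulVec_mulVec, e1, Matrix.one_mulVec] at h'))
    (s := s)
    (by rw [hgm, Matrix.mulVec_mulVec, mul_assoc, e1, mul_one, ← Matrix.mulVec_mulVec, hxv, Matrix.mulVec_smul])
    hP0 hP (by rw [hgm, ← hφ, aeval_algHom_apply, hPx, map_zero])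
  refine hx z ?_
  have h := congrArg (fun M => (Q : Matrix (Fin n) (Fin n) F) * M * (Q⁻¹ : SpecialLinearGroup (Fin n) F)) (hgm.symm.trans hz)
  rwa [← mul_assoc, ← mul_assoc, e1, one_mul, mul_assoc, e1, mul_one, Matrix.mul_smul, mul_one, Matrix.smul_mul, e1] at h

end CfsgLib.Classical22.SingerOrder
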