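/-
Conjugating elements of order `n` into the normaliser of a Singer cycle, `n` prime.
-/
import Cfsg.Agent.Lib.Classical22.SingerOrder

set_option autoImplicit false

namespace CfsgLib.Classical22.SingerOrder

open Polynomial Matrix
open CfsgLib.Classical22.PrimeMaps

variable {F : Type*} [Field F] {n : ℕ} {K : Subalgebra F (Matrix (Fin n) (Fin n) F)}

theorem conj_into (hn : 0 < n) {c : F} (hsq : Squarefree (X ^ n - C c : F[X])) (x : SpecialLinearGroup (Fin n) F)
    (hx : (x : Matrix (Fin n) (Fin n) F) ^ n = c • 1) (hxno : NoAnn (x : Matrix (Fin n) (Fin n) F))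
    {N : Subgroup (GL (Fin n) F)} (y : GL (Fin n) F) (hy : y ∈ N)
    (hyn : (y : Matrix (Fin n) (Fin n) F) ^ n = c • 1) (hyno : NoAnn (y : Matrix (Fin n) (Fin n) F))
    (hdet : ∀ d : Fˣ, ∃ u ∈ N, Matrix.GeneralLinearGroup.det u = d) :
    ∃ P : SpecialLinearGroup (Fin n) F, P⁻¹ * x * P ∈
      N.comap (SpecialLinearGroup.toGL : SpecialLinearGroup (Fin n) F →* GL (Fin n) F) := by
  obtain ⟨v, hv⟩ := exists_cyclic_vec hn hsq hx hxno
  obtain ⟨w, hw⟩ := exists_cyclic_vec hn hsq hyn hyno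
  obtain ⟨M, hM⟩ := exists_frame hn hx hv
  obtain ⟨M', hM'⟩ := exists_frame hn hyn hw
  obtain ⟨C₀, hC₀⟩ : ∃ C₀, C₀ = M * M'⁻¹ := ⟨_, rfl⟩
  have hconj : SpecialLinearGroup.toGL x * C₀ = C₀ * y := by
    refine Units.ext ?_
    simp only [hC₀, Units.val_mul]
    change (x : Matrix (Fin n) (Fin n) F) * ((M : Matrix (Fin n) (Fin n) F) * ((M'⁻¹ : GL (Fin n) F) : Matrix (Fin n) (Fin n) F)) =
      (M : Matrix (Fin n) (Fin n) F) * ((M'⁻¹ : GL (Fin n) F) : Matrix (Fin n) (Fin n) F) * (y : Matrix (Fin n) (Fin n) F)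
    have h2 : ((M'⁻¹ : GL (Fin n) F) : Matrix (Fin n) (Fin n) F) * (y : Matrix (Fin n) (Fin n) F) =
        comp n c * ((M'⁻¹ : GL (Fin n) F) : Matrix (Fin n) (Fin n) F) := by
      rw [Units.inv_mul_eq_iff_eq_mul, ← mul_assoc, Units.eq_mul_inv_iff_mul_eq]
      exact hM'
    rw [← mul_assoc, hM, mul_assoc, mul_assoc, h2]
  obtain ⟨u, hu, hud⟩ := hdet (Matrix.GeneralLinearGroup.det C₀)⁻¹
  obtain ⟨Q, hQ⟩ : ∃ Q : SpecialLinearGroup (Fin n) F, SpecialLinearGroup.toGL Q = C₀ * u := by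
    have h : Matrix.GeneralLinearGroup.det (C₀ * u) = 1 := by rw [map_mul, hud, mul_inv_cancel]
    exact ⟨⟨((C₀ * u : GL (Fin n) F) : Matrix (Fin n) (Fin n) F), congrArg Units.val h⟩, Units.ext rfl⟩
  refine ⟨Q, Subgroup.mem_comap.2 ?_⟩
  rw [map_mul, map_mul, map_inv, hQ, _root_.mul_inv_rev,
    show u⁻¹ * C₀⁻¹ * SpecialLinearGroup.toGL x * (C₀ * u) = u⁻¹ * (C₀⁻¹ * (SpecialLinearGroup.toGL x * C₀)) * u by group,
    hconj, inv_mul_cancel_left]
  exact N.mul_mem (N.mul_mem (N.inv_mem hu) hy) hu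

theorem exists_frob [Finite F] (hn : n.Prime) (hK : Cfsg.Geo.IsFieldSubalgebra n K) :
    ∃ y : GL (Fin n) F, y ∈ Cfsg.Geo.subalgebraNormalizer K ∧ (y : Matrix (Fin n) (Fin n) F) ^ n = (1 : F) • 1 ∧
      NoAnn (y : Matrix (Fin n) (Fin n) F) := by
  classical
  haveI : NeZero n := ⟨hn.ne_zero⟩
  letI : Field K := (isField hn.pos hK).toField
  haveI : Finite K := Module.finite_of_finite F
  haveI := Fact.mk hn
  have hcard : Nat.card (K ≃ₐ[F] K) = n := (IsGalois.card_aut_eq_finrank F K).trans hK.finrank_eq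
  obtain ⟨σ, hσ⟩ := exists_prime_orderOf_dvd_card' (G := K ≃ₐ[F] K) n (by rw [hcard])
  obtain ⟨v, hv⟩ : ∃ v : Fin n → F, v ≠ 0 := exists_ne _
  obtain ⟨j, hj⟩ := act_bijective hK hv
  obtain ⟨S, hS⟩ : ∃ S : (Fin n → F) →ₗ[F] (Fin n → F), ∀ k, S (j k) = j (σ k) :=
    ⟨j.toLinearMap.comp (σ.toLinearMap.comp j.symm.toLinearMap), fun k => by simp⟩
  have hpow : ∀ i k, ((LinearMap.toMatrix' S) ^ i) *ᵥ j k = j ((σ ^ i) k) := by
    intro i
    induction i with
    | zero => intro k; simp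
    | succ i ih =>
      intro k
      rw [pow_succ', ← Matrix.mulVec_mulVec, ih, LinearMap.toMatrix'_mulVec, hS, pow_succ' σ, AlgEquiv.mul_apply]
  have hSn : (LinearMap.toMatrix' S) ^ n = 1 := Matrix.ext_iff_mulVec.2 fun w => by
    obtain ⟨k, rfl⟩ := j.surjective w
    rw [hpow, show σ ^ n = 1 from (orderOf_dvd_iff_pow_eq_one (x := σ)).1 hσ.dvd, AlgEquiv.one_apply, Matrix.one_mulVec]
  obtain ⟨y, hy⟩ : ∃ y : GL (Fin n) F, (y : Matrix (Fin n) (Fin n) F) = LinearMap.toMatrix' S :=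
    ⟨(IsUnit.of_pow_eq_one hSn hn.ne_zero).unit, rfl⟩
  have key : ∀ k : K, (y : Matrix (Fin n) (Fin n) F) * k = (σ k : Matrix (Fin n) (Fin n) F) * y := by
    intro k
    refine Matrix.ext_iff_mulVec.2 fun w => ?_
    obtain ⟨k', rfl⟩ := j.surjective w
    have e : ∀ a b : K, (a : Matrix (Fin n) (Fin n) F) *ᵥ j b = j (a * b) := fun a b => by
      rw [hj, hj, Matrix.mulVec_mulVec]; rfl
    rw [← Matrix.mulVec_mulVec, ← Matrix.mulVec_mulVec, e, hy, LinearMap.toMatrix'_mulVec, hS,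
      LinearMap.toMatrix'_mulVec, hS, e, map_mul]
  have hyN : y ∈ Cfsg.Geo.subalgebraNormalizer K := by
    intro M
    constructor
    · intro hM
      rw [key ⟨M, hM⟩, mul_assoc, Units.mul_inv, mul_one]
      exact (σ ⟨M, hM⟩).2
    · intro hM
      obtain ⟨k, hk⟩ := σ.surjective ⟨_, hM⟩
      have h := key k
      rw [hk] at h
      simp only [mul_assoc, Units.inv_mul, mul_one] at h
      rw [← show (k : Matrix (Fin n) (Fin n) F) = M from (Units.isUnit y).mul_left_cancel h]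
      exact k.2
  refine ⟨y, hyN, by rw [hy, hSn, one_smul], fun g hg hga => by_contra fun hne => ?_⟩
  have hfix : (y : Matrix (Fin n) (Fin n) F) *ᵥ v = (1 : F) • v := by
    rw [show v = j 1 by rw [hj, Subalgebra.coe_one, Matrix.one_mulVec], hy, LinearMap.toMatrix'_mulVec, hS, map_one,
      one_smul]
  obtain ⟨z, hz⟩ := norm_scalar hn hK hyN hv hfix hne hg hga
  have hσ1 : σ = 1 := by
    have hz1 : z = 1 := by
      rw [hz, Matrix.smul_mulVec, Matrix.one_mulVec, one_smul] at hfix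
      exact smul_left_injective F hv (by simpa using hfix)
    refine AlgEquiv.ext fun k => j.injective ?_
    rw [← hS, ← LinearMap.toMatrix'_mulVec S, ← hy, hz, hz1, one_smul, Matrix.one_mulVec, AlgEquiv.one_apply]
  rw [hσ1, orderOf_one] at hσ
  exact hn.ne_one hσ.symm

theorem scalar_unit_mem (hn : 0 < n) (hK : Cfsg.Geo.IsFieldSubalgebra n K) (a : Fˣ) :
    ∃ u ∈ Cfsg.Geo.subalgebraNormalizer K, Matrix.GeneralLinearGroup.det u = a ^ n := by
  refine ⟨Units.map (algebraMap F (Matrix (Fin n) (Fin n) F)).toMonoidHom a, unit_mem hn hK (K.algebraMap_mem _),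
    Units.ext ?_⟩
  change (algebraMap F (Matrix (Fin n) (Fin n) F) a).det = _
  rw [Algebra.algebraMap_eq_smul_one, Matrix.det_smul, Matrix.det_one, mul_one, Fintype.card_fin, Units.val_pow_eq_pow_val]

theorem det_surj_of_coprime [Fintype F] (hn : n.Prime) (hK : Cfsg.Geo.IsFieldSubalgebra n K)
    (h : ¬ n ∣ Fintype.card F - 1) (d : Fˣ) :
    ∃ u ∈ Cfsg.Geo.subalgebraNormalizer K, Matrix.GeneralLinearGroup.det u = d := by
  obtain ⟨a, rfl⟩ := (powCoprime (G := Fˣ) (n := n) (by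
    rw [Nat.card_units, Nat.card_eq_fintype_card, Nat.coprime_comm]
    exact hn.coprime_iff_not_dvd.2 h)).surjective d
  exact scalar_unit_mem hn.pos hK a

/-- Order `n` elements have no small annihilator when the order of `q` is `n - 1`. -/
theorem order_noAnn [Fintype F] (hn : n.Prime) (h3 : 3 ≤ n) (hnF : (n : F) ≠ 0)
    (hi : orderOf (Fintype.card F : ZMod n) = n - 1) {A : Matrix (Fin n) (Fin n) F} (hA : A ^ n = 1) (hA1 : A ≠ 1) :
    NoAnn A := by
  classical
  haveI := Fact.mk hn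
  have hf : ∀ v, (Matrix.toLin' A ^ n) v = v := fun v => by rw [← Matrix.toLin'_pow, hA, Matrix.toLin'_one]; rfl
  have htop : Inv (Matrix.toLin' A) ⊤ := fun _ _ => Submodule.mem_top
  obtain ⟨h1, h2⟩ := order_spec hnF hf htop
  rw [finrank_top, Module.finrank_fin_fun, top_inf_eq, hi] at h1 h2
  obtain ⟨k, hk⟩ : ∃ k, k = Module.finrank F (fixed (Matrix.toLin' A)) := ⟨_, rfl⟩
  rw [← hk] at h1 h2
  have hkn : k < n := by
    refine lt_of_le_of_ne (hk ▸ (Submodule.finrank_le _).trans_eq (Module.finrank_fin_fun F)) fun h => hA1 ?_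
    have htop' : fixed (Matrix.toLin' A) = ⊤ := Submodule.eq_top_of_finrank_eq (by rw [← hk, h, Module.finrank_fin_fun])
    refine Matrix.ext_iff_mulVec.2 fun v => ?_
    rw [← Matrix.toLin'_apply, mem_fixed.1 (htop' ▸ Submodule.mem_top : v ∈ fixed (Matrix.toLin' A)), Matrix.one_mulVec]
  have hk1 : k = 1 := by
    obtain ⟨m, hm⟩ := h1
    rcases Nat.lt_or_ge m 2 with hm2 | hm2
    · interval_cases m <;> omega
    · have := Nat.mul_le_mul_left (n - 1) hm2
      omega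
  obtain ⟨W, hW, -, hW0, hWd⟩ := h2 0 1 (by omega) (by omega)
  rw [zero_add, one_mul] at hWd
  have hWne : W ≠ ⊥ := fun h => by rw [h, finrank_bot] at hWd; omega
  have hfix : ∀ w ∈ W, Matrix.toLin' A w = w → w = 0 := fun w hw hw' => by
    have : w ∈ W ⊓ fixed (Matrix.toLin' A) := ⟨hw, mem_fixed.2 hw'⟩
    rwa [Submodule.finrank_eq_zero.1 hW0, Submodule.mem_bot] at this
  obtain ⟨S, hS, hSW, hS0, hSm⟩ := exists_simple (Matrix.toLin' A) hW hWne
  have hSd := simple_dim_order (Matrix.toLin' A) hf hS hS0 hSm hnF (fun w hw => hfix w (hSW hw))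
  obtain ⟨P, hP, -, hPd, hPS⟩ := simple_minpoly (Matrix.toLin' A) hS hS0 hSm
    (X_pow_sub_C_ne_zero hn.pos (1 : F)) (fun w _ => by simp [hf])
  intro g hg hga
  have hgl : aeval (Matrix.toLin' A) g = 0 := by
    rw [show Matrix.toLin' A = Matrix.toLinAlgEquiv' A from rfl, aeval_algHom_apply, hga, map_zero]
  obtain ⟨v, hv, hv0⟩ := (fixed (Matrix.toLin' A)).exists_mem_ne_zero_of_ne_bot
    (fun h => by rw [h, finrank_bot] at hk; omega)
  have hg1 : g.IsRoot 1 := by
    have h := congrArg (fun f : Module.End F (Fin n → F) => f v) hgl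
    rw [LinearMap.zero_apply] at h
    have hev : Module.End.HasEigenvector (Matrix.toLin' A) 1 v :=
      ⟨Module.End.mem_eigenspace_iff.2 (by rw [mem_fixed.1 hv, one_smul]), hv0⟩
    rw [Module.End.aeval_apply_of_hasEigenvector hev, smul_eq_zero] at h
    exact h.resolve_right hv0
  have hPg : P ∣ g := by
    by_contra hc
    obtain ⟨a, b, hab⟩ := hP.coprime_iff_not_dvd.2 hc
    obtain ⟨w, hw, hw0⟩ := S.exists_mem_ne_zero_of_ne_bot hS0
    have h := congrArg (fun p : F[X] => aeval (Matrix.toLin' A) p w) hab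
    simp only [map_add, map_mul, map_one, LinearMap.add_apply, Module.End.mul_apply, Module.End.one_apply,
      hPS w hw, hgl, LinearMap.zero_apply, map_zero, add_zero] at h
    exact hw0 h.symm
  have hcop : IsCoprime (X - C (1 : F)) P := by
    refine (hP.coprime_iff_not_dvd.2 fun h => ?_).symm
    have := natDegree_le_of_dvd h (X_sub_C_ne_zero 1)
    rw [natDegree_X_sub_C, hPd, hSd, hi] at this
    omega
  by_contra hne
  have := natDegree_le_of_dvd (hcop.mul_dvd (dvd_iff_isRoot.2 hg1) hPg) hne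
  rw [natDegree_mul (X_sub_C_ne_zero 1) hP.ne_zero, natDegree_X_sub_C, hPd, hSd, hi] at this
  omega

end CfsgLib.Classical22.SingerOrder
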