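import Mathlib

set_option autoImplicit false

/-!
# Solvable maximal subgroups of large derived length in perfect groups

The preimage of a Borel subgroup in `SL₂(ℤ/5^k)`.
-/

namespace CfsgLib.Classical22.SolvableMax

open Matrix
open scoped MatrixGroups

variable {k : ℕ}

local notation "R" => ZMod (5 ^ k)
local notation "S" => SpecialLinearGroup (Fin 2) (ZMod (5 ^ k))

/-- Upper transvection. -/
def e12 (b : R) : S := ⟨!![1, b; 0, 1], by simp [det_fin_two]⟩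

/-- Lower transvection. -/
def e21 (b : R) : S := ⟨!![1, 0; b, 1], by simp [det_fin_two]⟩

/-- Diagonal element. -/
def hdiag (u : Rˣ) : S := ⟨!![(u : R), 0; 0, ((u⁻¹ : Rˣ) : R)], by simp [det_fin_two]⟩

theorem coe_e12 (b : R) : (e12 b : Matrix (Fin 2) (Fin 2) R) = !![1, b; 0, 1] := rfl
theorem coe_e21 (b : R) : (e21 b : Matrix (Fin 2) (Fin 2) R) = !![1, 0; b, 1] := rfl
theorem coe_hdiag (u : Rˣ) : (hdiag u : Matrix (Fin 2) (Fin 2) R) = !![(u : R), 0; 0, ((u⁻¹ : Rˣ) : R)] := rfl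

theorem e12_mul (a b : R) : e12 a * e12 b = e12 (a + b) := by
  apply Subtype.ext; simp [coe_e12, add_comm]

theorem e21_mul (a b : R) : e21 a * e21 b = e21 (a + b) := by
  apply Subtype.ext; simp [coe_e21]

theorem e12_zero : e12 (0 : R) = 1 := by
  apply Subtype.ext; simp [coe_e12, Matrix.one_fin_two]

theorem e21_zero : e21 (0 : R) = 1 := by
  apply Subtype.ext; simp [coe_e21, Matrix.one_fin_two]

theorem e12_inv (a : R) : (e12 a)⁻¹ = e12 (-a) := inv_eq_of_mul_eq_one_right (by rw [e12_mul, add_neg_cancel, e12_zero])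
theorem e21_inv (a : R) : (e21 a)⁻¹ = e21 (-a) := inv_eq_of_mul_eq_one_right (by rw [e21_mul, add_neg_cancel, e21_zero])

theorem e21_pow (a : R) (n : ℕ) : e21 a ^ n = e21 ((n : R) * a) := by
  induction n with
  | zero => simp [e21_zero]
  | succ n ih => rw [pow_succ, ih, e21_mul, Nat.cast_succ, add_mul, one_mul]

theorem hdiag_inv (u : Rˣ) : (hdiag u)⁻¹ = hdiag u⁻¹ := by
  refine inv_eq_of_mul_eq_one_right (Subtype.ext ?_)
  simp [coe_hdiag, Matrix.one_fin_two]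

theorem comm_e12 (u : Rˣ) (b : R) : hdiag u * e12 b * (hdiag u)⁻¹ * (e12 b)⁻¹ = e12 (((u : R) ^ 2 - 1) * b) := by
  rw [hdiag_inv, e12_inv]
  apply Subtype.ext
  ext i j
  fin_cases i <;> fin_cases j <;> simp [coe_hdiag, coe_e12, Matrix.mul_apply, Fin.sum_univ_two]
  ring

theorem comm_e21 (u : Rˣ) (b : R) : hdiag u⁻¹ * e21 b * (hdiag u⁻¹)⁻¹ * (e21 b)⁻¹ = e21 (((u : R) ^ 2 - 1) * b) := by
  rw [hdiag_inv, inv_inv, e21_inv]
  apply Subtype.ext
  ext i j
  fin_cases i <;> fin_cases j <;> simp [coe_hdiag, coe_e21, Matrix.mul_apply, Fin.sum_univ_two]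
  ring

theorem hdiag_eq (x y : R) (u : Rˣ) (hu : (u : R) = 1 + x * y) :
    hdiag u = e12 x * e21 y * e12 (-(x * ((u⁻¹ : Rˣ) : R))) * e21 (-(y * (u : R))) := by
  have h := Units.mul_inv u
  apply Subtype.ext
  ext i j
  fin_cases i <;> fin_cases j <;> simp [coe_hdiag, coe_e12, coe_e21, Matrix.mul_apply, Fin.sum_univ_two]
  · linear_combination (1 + x * ((u⁻¹ : Rˣ) : R) * y * (u : R)) * hu - x * y * (u : R) * h
  · linear_combination x * h - x * ((u⁻¹ : Rˣ) : R) * hu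
  · linear_combination y * hu - x * y * y * h
  · linear_combination -((u⁻¹ : Rˣ) : R) * hu + h

/-- Reduction modulo 5. -/
def red (hk : k ≠ 0) : R →+* ZMod 5 := ZMod.castHom (dvd_pow_self 5 hk) (ZMod 5)

theorem isUnit_iff (hk : k ≠ 0) (x : R) : IsUnit x ↔ red hk x ≠ 0 := by
  haveI : NeZero (5 ^ k) := ⟨pow_ne_zero _ (by norm_num)⟩
  have e : x = (x.val : R) := (ZMod.natCast_zmod_val x).symm
  rw [e, map_natCast, ZMod.isUnit_iff_coprime, Ne, ZMod.natCast_eq_zero_iff, Nat.coprime_pow_right_iff (Nat.pos_of_ne_zero hk), Nat.coprime_comm, (Nat.Prime.coprime_iff_not_dvd (by norm_num))]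

theorem red_surj (hk : k ≠ 0) (a : ℕ) : red hk (a : R) = (a : ZMod 5) := map_natCast _ a

theorem red_five (hk : k ≠ 0) : red hk (5 : R) = 0 := by
  rw [show (5 : R) = ((5 : ℕ) : R) by norm_num, map_natCast]; rfl

/-- The preimage of the Borel subgroup. -/
def borel (hk : k ≠ 0) : Subgroup S where
  carrier := {g | red hk ((g : Matrix (Fin 2) (Fin 2) R) 1 0) = 0}
  one_mem' := by change red hk ((1 : Matrix (Fin 2) (Fin 2) R) 1 0) = 0; simp
  mul_mem' := fun {g h} hg hh => by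
    change red hk (((g : Matrix (Fin 2) (Fin 2) R) * (h : Matrix (Fin 2) (Fin 2) R)) 1 0) = 0
    have hg' : red hk ((g : Matrix (Fin 2) (Fin 2) R) 1 0) = 0 := hg
    have hh' : red hk ((h : Matrix (Fin 2) (Fin 2) R) 1 0) = 0 := hh
    simp [Matrix.mul_apply, Fin.sum_univ_two, hg', hh']
  inv_mem' := fun {g} hg => by
    change red hk (((g⁻¹ : S) : Matrix (Fin 2) (Fin 2) R) 1 0) = 0
    have hg' : red hk ((g : Matrix (Fin 2) (Fin 2) R) 1 0) = 0 := hg
    show red hk (Matrix.adjugate (g : Matrix (Fin 2) (Fin 2) R) 1 0) = 0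
    rw [Matrix.adjugate_fin_two]
    simp [hg']

theorem e12_mem_borel (hk : k ≠ 0) (b : R) : e12 b ∈ borel hk := by
  change red hk (((e12 b : S) : Matrix (Fin 2) (Fin 2) R) 1 0) = 0; simp [coe_e12]

theorem e21_mem_borel (hk : k ≠ 0) (b : R) : e21 (5 * b) ∈ borel hk := by
  change red hk (((e21 (5 * b) : S) : Matrix (Fin 2) (Fin 2) R) 1 0) = 0; simp [coe_e21, red_five hk]

theorem eq_three (g : S) (hc : IsUnit ((g : Matrix (Fin 2) (Fin 2) R) 1 0)) :
    g = e12 (((g : Matrix (Fin 2) (Fin 2) R) 0 0 - 1) * ((hc.unit⁻¹ : Rˣ) : R)) * e21 ((g : Matrix (Fin 2) (Fin 2) R) 1 0) * e12 (((g : Matrix (Fin 2) (Fin 2) R) 1 1 - 1) * ((hc.unit⁻¹ : Rˣ) : R)) := by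
  have h : (g : Matrix (Fin 2) (Fin 2) R) 1 0 * ((hc.unit⁻¹ : Rˣ) : R) = 1 := hc.mul_val_inv
  have hd : (g : Matrix (Fin 2) (Fin 2) R) 0 0 * (g : Matrix (Fin 2) (Fin 2) R) 1 1 - (g : Matrix (Fin 2) (Fin 2) R) 0 1 * (g : Matrix (Fin 2) (Fin 2) R) 1 0 = 1 := by rw [← Matrix.det_fin_two]; exact g.2
  generalize ((hc.unit⁻¹ : Rˣ) : R) = v at h ⊢
  apply Subtype.ext
  ext i j
  fin_cases i <;> fin_cases j <;> simp [coe_e12, coe_e21, Matrix.mul_apply, Fin.sum_univ_two]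
  · linear_combination -((g : Matrix (Fin 2) (Fin 2) R) 0 0 - 1) * h
  · linear_combination -v * hd - (g : Matrix (Fin 2) (Fin 2) R) 0 1 * h - ((g : Matrix (Fin 2) (Fin 2) R) 0 0 - 1) * ((g : Matrix (Fin 2) (Fin 2) R) 1 1 - 1) * v * h
  · linear_combination -((g : Matrix (Fin 2) (Fin 2) R) 1 1 - 1) * h

/-- The transvections generate. -/
theorem eq_top_of_transv (hk : k ≠ 0) {K : Subgroup S} (h12 : ∀ b, e12 b ∈ K) (h21 : ∀ b, e21 b ∈ K) : K = ⊤ := by
  rw [eq_top_iff]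
  intro g _
  have key : ∀ g : S, IsUnit ((g : Matrix (Fin 2) (Fin 2) R) 1 0) → g ∈ K := fun g hc => by
    rw [eq_three g hc]; exact K.mul_mem (K.mul_mem (h12 _) (h21 _)) (h12 _)
  by_cases hc : IsUnit ((g : Matrix (Fin 2) (Fin 2) R) 1 0)
  · exact key g hc
  have h1 : IsUnit (((e21 (1 : R) * g : S) : Matrix (Fin 2) (Fin 2) R) 1 0) := by
    rw [isUnit_iff hk] at hc ⊢
    have hd : (g : Matrix (Fin 2) (Fin 2) R) 0 0 * (g : Matrix (Fin 2) (Fin 2) R) 1 1 - (g : Matrix (Fin 2) (Fin 2) R) 0 1 * (g : Matrix (Fin 2) (Fin 2) R) 1 0 = 1 := by rw [← Matrix.det_fin_two]; exact g.2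
    have hc' : red hk ((g : Matrix (Fin 2) (Fin 2) R) 1 0) = 0 := not_not.mp hc
    show red hk ((((e21 (1 : R) : S) : Matrix (Fin 2) (Fin 2) R) * (g : Matrix (Fin 2) (Fin 2) R)) 1 0) ≠ 0
    rw [coe_e21]
    intro h
    have h2 := congrArg (red hk) hd
    simp [Matrix.mul_apply, Fin.sum_univ_two, hc'] at h h2
    simp [h] at h2
    exact absurd h2 (by decide : (0 : ZMod 5) ≠ 1)
  have h2 := K.mul_mem (K.inv_mem (h21 1)) (key _ h1)
  rwa [inv_mul_cancel_left] at h2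

theorem isCoatom_borel (hk : k ≠ 0) : IsCoatom (borel (k := k) hk) := by
  refine ⟨fun h => ?_, fun K hK => ?_⟩
  · have h1 : red hk (((e21 (1 : R) : S) : Matrix (Fin 2) (Fin 2) R) 1 0) = 0 := (h ▸ Subgroup.mem_top (e21 (1 : R)) :)
    simp [coe_e21] at h1
    exact absurd h1 (by decide : (1 : ZMod 5) ≠ 0)
  obtain ⟨g, hgK, hg⟩ := SetLike.exists_of_lt hK
  have hc : IsUnit ((g : Matrix (Fin 2) (Fin 2) R) 1 0) := (isUnit_iff hk _).mpr hg
  have he : e21 ((g : Matrix (Fin 2) (Fin 2) R) 1 0) ∈ K := by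
    have e := eq_three g hc
    have hA := hK.le (e12_mem_borel hk (((g : Matrix (Fin 2) (Fin 2) R) 0 0 - 1) * ((hc.unit⁻¹ : Rˣ) : R)))
    have hB := hK.le (e12_mem_borel hk (((g : Matrix (Fin 2) (Fin 2) R) 1 1 - 1) * ((hc.unit⁻¹ : Rˣ) : R)))
    have h3 : e21 ((g : Matrix (Fin 2) (Fin 2) R) 1 0) = (e12 (((g : Matrix (Fin 2) (Fin 2) R) 0 0 - 1) * ((hc.unit⁻¹ : Rˣ) : R)))⁻¹ * g * (e12 (((g : Matrix (Fin 2) (Fin 2) R) 1 1 - 1) * ((hc.unit⁻¹ : Rˣ) : R)))⁻¹ := by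
      conv_rhs => arg 1; arg 2; rw [e]
      group
    rw [h3]; exact K.mul_mem (K.mul_mem (K.inv_mem hA) hgK) (K.inv_mem hB)
  refine eq_top_of_transv hk (fun b => hK.le (e12_mem_borel hk b)) fun b => ?_
  haveI : NeZero (5 ^ k) := ⟨pow_ne_zero _ (by norm_num)⟩
  have h4 := K.pow_mem he (b * ((hc.unit⁻¹ : Rˣ) : R)).val
  rwa [e21_pow, ZMod.natCast_zmod_val, mul_assoc, hc.val_inv_mul, mul_one] at h4

theorem commutator_eq_top (hk : k ≠ 0) : commutator S = ⊤ := by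
  have h2u : IsUnit (2 : R) := by
    rw [isUnit_iff hk, show (2 : R) = ((2 : ℕ) : R) by norm_num, map_natCast]; decide
  have h3 : IsUnit ((h2u.unit : R) ^ 2 - 1) := by
    rw [isUnit_iff hk, h2u.unit_spec, show (2 : R) ^ 2 - 1 = ((3 : ℕ) : R) by norm_num, map_natCast]; decide
  refine eq_top_of_transv hk (fun b => ?_) fun b => ?_
  · have := Subgroup.commutator_mem_commutator (Subgroup.mem_top (hdiag h2u.unit)) (Subgroup.mem_top (e12 (((h3.unit⁻¹ : Rˣ) : R) * b)))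
    rw [commutatorElement_def, comm_e12, ← mul_assoc, h3.mul_val_inv, one_mul] at this
    rwa [commutator_def]
  · have := Subgroup.commutator_mem_commutator (Subgroup.mem_top (hdiag h2u.unit⁻¹)) (Subgroup.mem_top (e21 (((h3.unit⁻¹ : Rˣ) : R) * b)))
    rw [commutatorElement_def, comm_e21, ← mul_assoc, h3.mul_val_inv, one_mul] at this
    rwa [commutator_def]

theorem upper_pow (x : ZMod 5) (n : ℕ) : (!![1, x; 0, 1] : Matrix (Fin 2) (Fin 2) (ZMod 5)) ^ n = !![1, (n : ZMod 5) * x; 0, 1] := by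
  induction n with
  | zero => simp [Matrix.one_fin_two]
  | succ n ih =>
    rw [pow_succ, ih, Matrix.mul_fin_two]
    simp [add_mul, add_comm]

/-- The principal congruence subgroup modulo 5 has 5-power order. -/
theorem congr_pow_one (hk : k ≠ 0) (A : Matrix (Fin 2) (Fin 2) R) :
    ∃ B : Matrix (Fin 2) (Fin 2) R, (1 + (5 : R) • A) ^ 5 ^ k = 1 + ((5 : R) ^ k) • B := by
  have step : ∀ (i : ℕ) (A : Matrix (Fin 2) (Fin 2) R), 1 ≤ i →
      ∃ B : Matrix (Fin 2) (Fin 2) R, (1 + (5 : R) ^ i • A) ^ 5 = 1 + (5 : R) ^ (i + 1) • B := by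
    intro i A hi
    obtain ⟨j, rfl⟩ : ∃ j, i = j + 1 := ⟨i - 1, by omega⟩
    set c : R := (5 : R) ^ (j + 1) with hc
    refine ⟨A + ((2 : R) * c) • (A * A) + ((2 : R) * c ^ 2) • (A * A * A) + (c ^ 3) • (A * A * A * A) + ((5 : R) ^ j * c ^ 3) • (A * A * A * A * A), ?_⟩
    have e : (1 + c • A) ^ 5 = 1 + ((5 : R) * c) • A + ((10 : R) * c ^ 2) • (A * A) + ((10 : R) * c ^ 3) • (A * A * A)
        + ((5 : R) * c ^ 4) • (A * A * A * A) + (c ^ 5) • (A * A * A * A * A) := by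
      simp only [pow_succ, pow_zero, one_mul, mul_add, add_mul, mul_one, smul_mul_assoc, mul_smul_comm, smul_smul, mul_assoc]
      module
    rw [e, pow_succ (5 : R) (j + 1), ← hc]
    simp only [smul_add, smul_smul]
    have e5 : c ^ 5 = c * 5 * ((5 : R) ^ j * c ^ 3) := by
      rw [hc, pow_succ (5 : R) j]; ring
    rw [e5]
    module
  have key : ∀ i : ℕ, ∃ B : Matrix (Fin 2) (Fin 2) R, (1 + (5 : R) • A) ^ 5 ^ i = 1 + (5 : R) ^ (i + 1) • B := by
    intro i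
    induction i with
    | zero => exact ⟨A, by simp⟩
    | succ i ih =>
      obtain ⟨B, hB⟩ := ih
      rw [pow_succ, pow_mul, hB]
      exact step (i + 1) B (by omega)
  obtain ⟨B, hB⟩ := key k
  exact ⟨(5 : R) • B, by rw [hB, smul_smul, pow_succ]⟩

theorem five_pow_k : (5 : R) ^ k = 0 := by
  rw [show (5 : R) = ((5 : ℕ) : R) by norm_num, ← Nat.cast_pow, ZMod.natCast_self]

/-- The upper left entry modulo 5 is a homomorphism on the Borel subgroup. -/
def diagHom (hk : k ≠ 0) : borel (k := k) hk →* ZMod 5 where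
  toFun g := red hk (((g : S) : Matrix (Fin 2) (Fin 2) R) 0 0)
  map_one' := by simp
  map_mul' g h := by
    have hh : red hk (((h : S) : Matrix (Fin 2) (Fin 2) R) 1 0) = 0 := h.2
    simp [Matrix.mul_apply, Fin.sum_univ_two, hh]

theorem isSolvable_borel (hk : k ≠ 0) : Group.IsSolvable (borel (k := k) hk) := by
  haveI : NeZero (5 ^ k) := ⟨pow_ne_zero _ (by norm_num)⟩
  haveI : Fact (Nat.Prime 5) := ⟨by norm_num⟩
  let φ := (diagHom (k := k) hk).toHomUnits
  have hP : IsPGroup 5 φ.ker := by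
    intro ⟨⟨g, hg⟩, hker⟩
    -- `g` is unipotent modulo 5
    have h00 : red hk ((g : Matrix (Fin 2) (Fin 2) R) 0 0) = 1 := congrArg Units.val hker
    have h10 : red hk ((g : Matrix (Fin 2) (Fin 2) R) 1 0) = 0 := hg
    have h11 : red hk ((g : Matrix (Fin 2) (Fin 2) R) 1 1) = 1 := by
      have hd : (g : Matrix (Fin 2) (Fin 2) R) 0 0 * (g : Matrix (Fin 2) (Fin 2) R) 1 1 - (g : Matrix (Fin 2) (Fin 2) R) 0 1 * (g : Matrix (Fin 2) (Fin 2) R) 1 0 = 1 := by rw [← Matrix.det_fin_two]; exact g.2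
      have h2 := congrArg (red hk) hd
      simpa [h00, h10] using h2
    have hmap : ∀ i j, red hk (((g : Matrix (Fin 2) (Fin 2) R) ^ 5 : Matrix (Fin 2) (Fin 2) R) i j - (1 : Matrix (Fin 2) (Fin 2) R) i j) = 0 := by
      intro i j
      have e : (red hk).mapMatrix ((g : Matrix (Fin 2) (Fin 2) R) ^ 5) = 1 := by
        rw [map_pow]
        have e1 : (red hk).mapMatrix (g : Matrix (Fin 2) (Fin 2) R) = !![1, red hk ((g : Matrix (Fin 2) (Fin 2) R) 0 1); 0, 1] := by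
          ext a b; fin_cases a <;> fin_cases b <;> simp [h00, h10, h11]
        rw [e1, upper_pow, show ((5 : ℕ) : ZMod 5) = 0 from rfl, zero_mul, ← Matrix.one_fin_two]
      have e2 := congrFun (congrFun e i) j
      simp only [RingHom.mapMatrix_apply, Matrix.map_apply] at e2
      rw [map_sub, e2]
      rcases eq_or_ne i j with rfl | hne <;> simp [*]
    have hdiv : ∀ x : R, red hk x = 0 → ∃ y, x = 5 * y := fun x hx => by
      have e : x = (x.val : R) := (ZMod.natCast_zmod_val x).symm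
      rw [e, map_natCast, ZMod.natCast_eq_zero_iff] at hx
      obtain ⟨y, hy⟩ := hx
      exact ⟨(y : R), by rw [e, hy]; push_cast; ring⟩
    choose A hA using fun i j => hdiv _ (hmap i j)
    have hg5 : (g : Matrix (Fin 2) (Fin 2) R) ^ 5 = 1 + (5 : R) • Matrix.of A := by
      ext i j
      simp only [Matrix.add_apply, Matrix.smul_apply, Matrix.of_apply, smul_eq_mul, ← hA i j]
      ring
    refine ⟨k + 1, Subtype.ext (Subtype.ext ?_)⟩
    obtain ⟨B, hB⟩ := congr_pow_one hk (Matrix.of A)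
    simp only [SubmonoidClass.coe_pow, OneMemClass.coe_one]
    refine Subtype.ext ?_
    show (g : Matrix (Fin 2) (Fin 2) R) ^ 5 ^ (k + 1) = 1
    rw [pow_succ', pow_mul, hg5, hB, five_pow_k, zero_smul, add_zero]
  haveI : Group.IsNilpotent φ.ker := hP.isNilpotent
  exact solvable_of_ker_le_range φ.ker.subtype φ (by rw [Subgroup.range_subtype])

theorem derived_mem (hk : k ≠ 0) : ∀ (d : ℕ) (b : R),
    (∀ g : borel (k := k) hk, (g : S) = e12 ((5 : R) ^ 3 ^ d * b) → g ∈ derivedSeries (borel (k := k) hk) d) ∧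
    (∀ g : borel (k := k) hk, (g : S) = e21 ((5 : R) ^ 3 ^ d * b) → g ∈ derivedSeries (borel (k := k) hk) d) := by
  intro d
  induction d with
  | zero => intro b; exact ⟨fun g _ => by simp, fun g _ => by simp⟩
  | succ d ih =>
    intro b
    set N := 3 ^ d
    obtain ⟨M, hM⟩ : ∃ M, N = M + 1 := ⟨N - 1, by have : 0 < N := pow_pos (by norm_num) d; omega⟩
    have hm12 : ∀ b, e12 ((5 : R) ^ N * b) ∈ borel hk := fun b => e12_mem_borel hk _
    have hm21 : ∀ b, e21 ((5 : R) ^ N * b) ∈ borel hk := fun b => by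
      rw [hM, pow_succ', mul_assoc]; exact e21_mem_borel hk _
    have h5 : red hk (5 : R) = 0 := red_five hk
    obtain ⟨u, hu⟩ : IsUnit (1 + (5 : R) ^ N * (5 : R) ^ N) := by
      rw [isUnit_iff hk, hM]; simp [h5]; decide
    obtain ⟨v, hv⟩ : IsUnit (2 + (5 : R) ^ N * (5 : R) ^ N) := by
      rw [isUnit_iff hk, hM, map_add, map_ofNat, map_mul, map_pow, h5]; simp; decide
    have huH : hdiag u ∈ borel hk := by
      change red hk (((hdiag u : S) : Matrix (Fin 2) (Fin 2) R) 1 0) = 0; simp [coe_hdiag]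
    have huD : (⟨hdiag u, huH⟩ : borel (k := k) hk) ∈ derivedSeries (borel (k := k) hk) d := by
      have e := hdiag_eq ((5 : R) ^ N) ((5 : R) ^ N) u hu
      rw [show -((5 : R) ^ N * ((u⁻¹ : Rˣ) : R)) = (5 : R) ^ N * (-((u⁻¹ : Rˣ) : R)) by ring,
        show -((5 : R) ^ N * (u : R)) = (5 : R) ^ N * (-(u : R)) by ring] at e
      have h1 := Subgroup.mul_mem _ (Subgroup.mul_mem _ (Subgroup.mul_mem _ ((ih 1).1 ⟨_, hm12 1⟩ rfl) ((ih 1).2 ⟨_, hm21 1⟩ rfl))
        ((ih (-((u⁻¹ : Rˣ) : R))).1 ⟨_, hm12 _⟩ rfl)) ((ih (-(u : R))).2 ⟨_, hm21 _⟩ rfl)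
      convert h1 using 1
      refine Subtype.ext (e.trans ?_)
      simp only [Subgroup.coe_mul, mul_one]
    have hsq : ((u : R) ^ 2 - 1) * ((5 : R) ^ N * (((v⁻¹ : Rˣ) : R) * b)) = (5 : R) ^ 3 ^ (d + 1) * b := by
      have hvv := v.mul_inv
      rw [pow_succ 3 d]
      linear_combination ((5 : R) ^ (N * 3) * b) * hvv + (((u : R) + 1 + (5 : R) ^ N * (5 : R) ^ N) * ((5 : R) ^ N * (((v⁻¹ : Rˣ) : R) * b))) * hu
        - ((5 : R) ^ N * (5 : R) ^ N * ((5 : R) ^ N * (((v⁻¹ : Rˣ) : R) * b))) * hv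
    refine ⟨fun g hg => ?_, fun g hg => ?_⟩
    · have hmem := Subgroup.commutator_mem_commutator huD ((ih (((v⁻¹ : Rˣ) : R) * b)).1 ⟨_, hm12 _⟩ rfl)
      rw [derivedSeries_succ]
      convert hmem using 1
      refine Subtype.ext ?_
      simp only [commutatorElement_def, Subgroup.coe_mul, InvMemClass.coe_inv]
      rw [comm_e12, hsq, hg]
    · have hmem := Subgroup.commutator_mem_commutator (Subgroup.inv_mem _ huD) ((ih (((v⁻¹ : Rˣ) : R) * b)).2 ⟨_, hm21 _⟩ rfl)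
      rw [derivedSeries_succ]
      convert hmem using 1
      refine Subtype.ext ?_
      simp only [commutatorElement_def, Subgroup.coe_mul, InvMemClass.coe_inv]
      rw [hdiag_inv, comm_e21, hsq, hg]

theorem exists_solvable_maximal (d : ℕ) :
    ∃ (G : Type) (_ : Group G) (_ : Finite G) (H : Subgroup G), commutator G = ⊤ ∧ IsCoatom H ∧ Group.IsSolvable H ∧
      derivedSeries H d ≠ ⊥ := by
  obtain ⟨k, hkd⟩ : ∃ k, k = 3 ^ d + 1 := ⟨_, rfl⟩
  have hk : k ≠ 0 := by rw [hkd]; exact Nat.succ_ne_zero _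
  haveI : NeZero (5 ^ k) := ⟨pow_ne_zero _ (by norm_num)⟩
  refine ⟨SpecialLinearGroup (Fin 2) (ZMod (5 ^ k)), inferInstance, inferInstance, borel hk, commutator_eq_top hk,
    isCoatom_borel hk, isSolvable_borel hk, fun h => ?_⟩
  have hm := (derived_mem hk d (1 : ZMod (5 ^ k))).1 ⟨_, e12_mem_borel hk _⟩ rfl
  rw [h, Subgroup.mem_bot] at hm
  have h1 := congrArg (fun g : borel (k := k) hk => ((g : SpecialLinearGroup (Fin 2) (ZMod (5 ^ k)))).1 0 1) hm
  simp [coe_e12] at h1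
  rw [show (5 : ZMod (5 ^ k)) = ((5 : ℕ) : ZMod (5 ^ k)) by norm_num, ← Nat.cast_pow, ZMod.natCast_eq_zero_iff,
    Nat.pow_dvd_pow_iff_le_right (by norm_num)] at h1

  omega

end CfsgLib.Classical22.SolvableMax
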