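import Mathlib.GroupTheory.Solvable
import Mathlib.GroupTheory.Commutator.Basic
import Mathlib.Order.Preorder.Finite
import Mathlib.Data.Fintype.Pi
import Cfsg.Agent.Lib.Classical22.HomogeneousAbelian

/-!
Fixed-point spaces in soluble primitive linear groups.
-/

namespace CfsgLib.Classical22.SolvablePrimitiveFix

open Matrix CfsgLib.Classical22.HomogeneousAbelian

variable {F : Type*} [Field F] {n : ℕ}

local notation "MGL" => Matrix.GeneralLinearGroup (Fin n) F
local notation "Mat" => Matrix (Fin n) (Fin n) F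

/-- The fixed space of an invertible matrix. -/
def fixSpace (g : MGL) : Submodule F (Fin n → F) :=
  LinearMap.ker (Matrix.toLin' ((g : Mat) - 1))

theorem mem_fixSpace {g : MGL} {v : Fin n → F} : v ∈ fixSpace g ↔ (g : Mat) *ᵥ v = v := by
  rw [fixSpace, LinearMap.mem_ker, Matrix.toLin'_apply, Matrix.sub_mulVec, Matrix.one_mulVec,
    sub_eq_zero]

theorem finrank_inf_img_lb (g b : MGL) :
    Module.finrank F (fixSpace g) + Module.finrank F (fixSpace g) ≤
      n + Module.finrank F ↥(fixSpace g ⊓ img b (fixSpace g)) := by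
  have h := Submodule.finrank_sup_add_finrank_inf_eq (fixSpace g) (img b (fixSpace g))
  have h2 := Submodule.finrank_le (fixSpace g ⊔ img b (fixSpace g))
  rw [finrank_img b] at h
  rw [Module.finrank_fin_fun] at h2
  omega

/-- The iterated commutator subgroups of a subgroup, inside the whole group. -/
def series {H : Type*} [Group H] (D : Subgroup H) : ℕ → Subgroup H
  | 0 => D
  | k + 1 => ⁅series D k, series D k⁆

theorem series_le {H : Type*} [Group H] {G D : Subgroup H} (hD : D ≤ G) :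
    ∀ k, series D k ≤ (derivedSeries G k).map G.subtype
  | 0 => by
    rw [derivedSeries_zero, ← MonoidHom.range_eq_map, Subgroup.range_subtype]
    exact hD
  | k + 1 => by
    rw [derivedSeries_succ, Subgroup.map_commutator]
    exact Subgroup.commutator_mono (series_le hD k) (series_le hD k)

theorem series_le_base {H : Type*} [Group H] (D : Subgroup H) : ∀ k, series D k ≤ D
  | 0 => le_rfl
  | k + 1 => (Subgroup.commutator_mono (series_le_base D k) (series_le_base D k)).trans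
      D.commutator_le_self

theorem series_conj {H : Type*} [Group H] {D : Subgroup H} {g : H}
    (hg : ∀ d ∈ D, g * d * g⁻¹ ∈ D) :
    ∀ k, ∀ d ∈ series D k, g * d * g⁻¹ ∈ series D k := by
  suffices h : ∀ k, (series D k).map (MulAut.conj g).toMonoidHom ≤ series D k by
    exact fun k d hd => h k ⟨d, hd, rfl⟩
  intro k
  induction k with
  | zero =>
    rintro _ ⟨d, hd, rfl⟩
    exact hg d hd
  | succ k ih =>
    rw [series, Subgroup.map_commutator]
    exact Subgroup.commutator_mono ih ih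

variable [Fintype F]

theorem four_mul_finrank_le (G : Subgroup MGL) (hsol : IsSolvable G)
    (hirr : Cfsg.Geo.ActsIrreducibly (Cfsg.Geo.matrixSet G))
    (hprim : ∀ (m t : ℕ) (D : Fin t → Submodule F (Fin n → F)), 2 ≤ t →
      Cfsg.Geo.IsMDecomposition m D → ¬ G ≤ Cfsg.Geo.decompositionStabilizer D)
    (g : MGL) (hg : g ∈ G) (hg1 : g ≠ 1) :
    4 * Module.finrank F (fixSpace g) ≤ 3 * n := by
  classical
  by_contra hbig
  push_neg at hbig
  -- non-identity elements of abelian normal subgroups fix no vector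
  have hfpf : ∀ A : Subgroup MGL, (∀ a ∈ A, ∀ b ∈ A, a * b = b * a) →
      (∀ x ∈ G, ∀ a ∈ A, x * a * x⁻¹ ∈ A) → ∀ a ∈ A, ∀ v : Fin n → F, v ≠ 0 →
      (a : Mat) *ᵥ v = v → a = 1 := by
    intro A hA hnorm a ha v hv0 hv
    by_contra ha1
    exact hv0 (fixedPointFree G A hirr hprim hA hnorm ha ha1 hv)
  -- a commutator with `g` fixes more than half of the space
  let c : MGL → MGL := fun b => g * b * g⁻¹ * b⁻¹
  have hcfix : ∀ b, n < 2 * Module.finrank F (fixSpace (c b)) := by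
    intro b
    have hle : fixSpace g ⊓ img b (fixSpace g) ≤ fixSpace (c b) := by
      rintro v ⟨hv1, hv2⟩
      rw [SetLike.mem_coe] at hv1 hv2
      rw [mem_img] at hv2
      rw [mem_fixSpace] at hv1 hv2 ⊢
      have h3 : (g⁻¹ : MGL).val *ᵥ ((b⁻¹ : MGL).val *ᵥ v) = (b⁻¹ : MGL).val *ᵥ v := by
        conv_lhs => rw [← hv2]
        rw [Matrix.mulVec_mulVec, Units.inv_mul, Matrix.one_mulVec]
      simp only [c, Units.val_mul]
      rw [← Matrix.mulVec_mulVec, ← Matrix.mulVec_mulVec, h3, ← Matrix.mulVec_mulVec,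
        Matrix.mulVec_mulVec v (b : Mat), Units.mul_inv, Matrix.one_mulVec, hv1]
    have := finrank_inf_img_lb g b
    have := Submodule.finrank_mono hle
    omega
  have hexfix : ∀ b, ∃ v : Fin n → F, v ≠ 0 ∧ ((c b : MGL) : Mat) *ᵥ v = v := by
    intro b
    have hne : fixSpace (c b) ≠ ⊥ := by
      intro h
      have := hcfix b
      rw [h, finrank_bot] at this
      omega
    obtain ⟨v, hv, hv0⟩ := Submodule.exists_mem_ne_zero_of_ne_bot hne
    exact ⟨v, hv0, mem_fixSpace.mp hv⟩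
  have hcent : ∀ A : Subgroup MGL, (∀ a ∈ A, ∀ b ∈ A, a * b = b * a) →
      (∀ x ∈ G, ∀ a ∈ A, x * a * x⁻¹ ∈ A) → ∀ a ∈ A, g * a = a * g := by
    intro A hA hnorm a ha
    obtain ⟨v, hv0, hv⟩ := hexfix a
    have h1 := hfpf A hA hnorm (c a) (A.mul_mem (hnorm g hg a ha) (A.inv_mem ha)) v hv0 hv
    have h2 : g * a * g⁻¹ = a := mul_inv_eq_one.mp h1
    exact mul_inv_eq_iff_eq_mul.mp h2
  haveI : Finite (Subgroup MGL) := Finite.of_injective
    (fun U => (U : Set MGL)) SetLike.coe_injective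
  -- a maximal abelian normal subgroup
  obtain ⟨A, ⟨hAG, hAc, hAn⟩, hAmax⟩ := Set.Finite.exists_maximal
    (s := {A : Subgroup MGL | A ≤ G ∧ (∀ a ∈ A, ∀ b ∈ A, a * b = b * a) ∧
      ∀ x ∈ G, ∀ a ∈ A, x * a * x⁻¹ ∈ A}) (Set.toFinite _)
    ⟨⊥, bot_le, fun a ha b hb => by simp_all [Subgroup.mem_bot], fun x _ a ha => by
      simp_all [Subgroup.mem_bot]⟩
  let C : Subgroup MGL := G ⊓ Subgroup.centralizer (A : Set MGL)
  -- normality of centralizers
  have hnc : ∀ X : Subgroup MGL, (∀ x ∈ G, ∀ a ∈ X, x * a * x⁻¹ ∈ X) → ∀ x ∈ G,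
      ∀ y ∈ Subgroup.centralizer (X : Set MGL), x * y * x⁻¹ ∈ Subgroup.centralizer (X : Set MGL) := by
    intro X hX x hx y hy
    rw [Subgroup.mem_centralizer_iff] at hy ⊢
    intro a ha
    have ha' : x⁻¹ * a * x ∈ X := by
      have := hX x⁻¹ (G.inv_mem hx) a ha
      rwa [inv_inv] at this
    calc a * (x * y * x⁻¹) = x * ((x⁻¹ * a * x) * y) * x⁻¹ := by group
      _ = x * (y * (x⁻¹ * a * x)) * x⁻¹ := by rw [hy _ ha']
      _ = x * y * x⁻¹ * a := by group
  -- a maximal normal subgroup of class at most two in `C`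
  obtain ⟨B, ⟨hAB, hBC, hBn, hBcl⟩, hBmax⟩ := Set.Finite.exists_maximal
    (s := {B : Subgroup MGL | A ≤ B ∧ B ≤ C ∧ (∀ x ∈ G, ∀ a ∈ B, x * a * x⁻¹ ∈ B) ∧
      ∀ a ∈ B, ∀ b ∈ B, a * b * a⁻¹ * b⁻¹ ∈ A}) (Set.toFinite _)
    ⟨A, le_rfl, le_inf hAG fun a ha b hb => hAc b hb a ha, hAn, fun a ha b hb =>
      A.mul_mem (A.mul_mem (A.mul_mem ha hb) (A.inv_mem ha)) (A.inv_mem hb)⟩
  let D : Subgroup MGL := C ⊓ Subgroup.centralizer (B : Set MGL)
  have hDn : ∀ x ∈ G, ∀ d ∈ D, x * d * x⁻¹ ∈ D := fun x hx d hd =>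
    ⟨⟨G.mul_mem (G.mul_mem hx hd.1.1) (G.inv_mem hx), hnc A hAn x hx d hd.1.2⟩,
      hnc B hBn x hx d hd.2⟩
  have hAD : A ≤ D := fun a ha => ⟨⟨hAG ha, fun b hb => hAc b hb a ha⟩, fun b hb =>
    ((hBC hb).2 a ha).symm⟩
  -- `B ⊓ D = A`
  have hBD : ∀ x ∈ B, x ∈ D → x ∈ A := by
    intro x hxB hxD
    have hmem : B ⊓ D ∈ {A : Subgroup MGL | A ≤ G ∧ (∀ a ∈ A, ∀ b ∈ A, a * b = b * a) ∧
        ∀ x ∈ G, ∀ a ∈ A, x * a * x⁻¹ ∈ A} :=
      ⟨inf_le_right.trans (inf_le_left.trans inf_le_left),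
        fun a ha b hb => hb.2.2 a ha.1,
        fun y hy a ha => ⟨hBn y hy a ha.1, hDn y hy a ha.2⟩⟩
    exact hAmax hmem (le_inf hAB hAD) ⟨hxB, hxD⟩
  -- `g` lies in `D`
  have hgC : g ∈ C := ⟨hg, fun a ha => (hcent A hAc hAn a ha).symm⟩
  have hgD : g ∈ D := by
    refine ⟨hgC, fun b hb => ?_⟩
    obtain ⟨v, hv0, hv⟩ := hexfix b
    have hcB : c b ∈ B := B.mul_mem (hBn g hg b hb) (B.inv_mem hb)
    by_cases hcA : c b ∈ A
    · have h1 := hfpf A hAc hAn (c b) hcA v hv0 hv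
      have h2 : g * b * g⁻¹ = b := mul_inv_eq_one.mp h1
      exact (mul_inv_eq_iff_eq_mul.mp h2).symm
    · exfalso
      apply hcA
      refine hBD _ hcB ⟨hBC hcB, fun y hy => ?_⟩
      have hz : y * c b * y⁻¹ * (c b)⁻¹ ∈ A := hBcl y hy _ hcB
      obtain ⟨w, hw, hw0⟩ : ∃ w ∈ fixSpace (c b) ⊓ img y (fixSpace (c b)), w ≠ 0 := by
        refine Submodule.exists_mem_ne_zero_of_ne_bot fun h => ?_
        have := finrank_inf_img_lb (c b) y
        rw [h, finrank_bot] at this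
        have := hcfix b
        omega
      obtain ⟨hw1, hw2⟩ := hw
      rw [SetLike.mem_coe] at hw1 hw2
      rw [mem_img] at hw2
      rw [mem_fixSpace] at hw1 hw2
      have hcinv : ((c b)⁻¹ : MGL).val *ᵥ w = w := by
        conv_lhs => rw [← hw1]
        rw [Matrix.mulVec_mulVec, Units.inv_mul, Matrix.one_mulVec]
      have h1 := hfpf A hAc hAn _ hz w hw0 (by
        rw [Units.val_mul, Units.val_mul, Units.val_mul, ← Matrix.mulVec_mulVec, hcinv,
          ← Matrix.mulVec_mulVec, ← Matrix.mulVec_mulVec, hw2, Matrix.mulVec_mulVec,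
          Units.mul_inv, Matrix.one_mulVec])
      have h2 : y * c b * y⁻¹ = c b := mul_inv_eq_one.mp h1
      exact mul_inv_eq_iff_eq_mul.mp h2
  -- `D = A` by solubility
  have hDA : D ≤ A := by
    by_contra hDA
    obtain ⟨N, hN⟩ := hsol.solvable
    have hex : ∃ k, series D k ≤ A := by
      refine ⟨N, (series_le (G := G) (inf_le_left.trans inf_le_left) N).trans ?_⟩
      rw [hN, Subgroup.map_bot]
      exact bot_le
    obtain ⟨k, hk⟩ : ∃ k, Nat.find hex = k + 1 := ⟨Nat.find hex - 1, by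
      have : Nat.find hex ≠ 0 := fun h => hDA (by
        have := Nat.find_spec hex
        rwa [h] at this)
      omega⟩
    let X : Subgroup MGL := series D k
    have hXA : ¬ X ≤ A := Nat.find_min hex (by omega)
    have hXX : ⁅X, X⁆ ≤ A := by
      have := Nat.find_spec hex
      rwa [hk] at this
    have hXD : X ≤ D := series_le_base D k
    have hcomm : ∀ b ∈ B, ∀ x ∈ X, b * x = x * b := fun b hb x hx => (hXD hx).2 b hb
    let B' : Subgroup MGL :=
      { carrier := {z | ∃ b ∈ B, ∃ x ∈ X, z = b * x}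
        one_mem' := ⟨1, B.one_mem, 1, X.one_mem, (mul_one _).symm⟩
        mul_mem' := by
          rintro _ _ ⟨b, hb, x, hx, rfl⟩ ⟨b', hb', x', hx', rfl⟩
          exact ⟨b * b', B.mul_mem hb hb', x * x', X.mul_mem hx hx', by
            rw [mul_assoc, ← mul_assoc x, ← hcomm b' hb' x hx]; simp only [mul_assoc]⟩
        inv_mem' := by
          rintro _ ⟨b, hb, x, hx, rfl⟩
          exact ⟨b⁻¹, B.inv_mem hb, x⁻¹, X.inv_mem hx, by
            rw [_root_.mul_inv_rev, hcomm b⁻¹ (B.inv_mem hb) x⁻¹ (X.inv_mem hx)]⟩ }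
    have hmemB' : ∀ z, z ∈ B' ↔ ∃ b ∈ B, ∃ x ∈ X, z = b * x := fun z => Iff.rfl
    have hBB' : B ≤ B' := fun b hb => ⟨b, hb, 1, X.one_mem, (mul_one _).symm⟩
    have hXB' : X ≤ B' := fun x hx => ⟨1, B.one_mem, x, hx, (one_mul _).symm⟩
    have hgood : B' ∈ {B : Subgroup MGL | A ≤ B ∧ B ≤ C ∧ (∀ x ∈ G, ∀ a ∈ B, x * a * x⁻¹ ∈ B) ∧
        ∀ a ∈ B, ∀ b ∈ B, a * b * a⁻¹ * b⁻¹ ∈ A} := by
      refine ⟨hAB.trans hBB', ?_, ?_, ?_⟩
      · intro z hz
        obtain ⟨b, hb, x, hx, rfl⟩ := (hmemB' z).mp hz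
        exact C.mul_mem (hBC hb) (hXD hx).1
      · intro y hy z hz
        obtain ⟨b, hb, x, hx, rfl⟩ := (hmemB' z).mp hz
        exact (hmemB' _).mpr ⟨y * b * y⁻¹, hBn y hy b hb, y * x * y⁻¹,
          series_conj (hDn y hy) k x hx, by group⟩
      · intro z hz z' hz'
        obtain ⟨b, hb, x, hx, rfl⟩ := (hmemB' z).mp hz
        obtain ⟨b', hb', x', hx', rfl⟩ := (hmemB' z').mp hz'
        have e : b * x * (b' * x') * (b * x)⁻¹ * (b' * x')⁻¹ =
            (b * b' * b⁻¹ * b'⁻¹) * (x * x' * x⁻¹ * x'⁻¹) := by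
          have c1 : Commute b x := hcomm b hb x hx
          have c2 : Commute b x' := hcomm b hb x' hx'
          have c3 : Commute b' x := hcomm b' hb' x hx
          have c4 : Commute b' x' := hcomm b' hb' x' hx'
          calc b * x * (b' * x') * (b * x)⁻¹ * (b' * x')⁻¹
              = b * (x * b') * x' * (x⁻¹ * b⁻¹) * (x'⁻¹ * b'⁻¹) := by group
            _ = b * (b' * x) * x' * (b⁻¹ * x⁻¹) * (b'⁻¹ * x'⁻¹) := by
                rw [c3.eq, (c1.inv_inv).eq, (c4.inv_inv).eq]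
            _ = b * b' * ((x * x') * b⁻¹) * (x⁻¹ * b'⁻¹) * x'⁻¹ := by group
            _ = b * b' * (b⁻¹ * (x * x')) * (b'⁻¹ * x⁻¹) * x'⁻¹ := by
                rw [((c1.mul_right c2).inv_left).eq, (c3.inv_inv).eq]
            _ = b * b' * b⁻¹ * ((x * x') * b'⁻¹) * x⁻¹ * x'⁻¹ := by group
            _ = b * b' * b⁻¹ * (b'⁻¹ * (x * x')) * x⁻¹ * x'⁻¹ := by
                rw [((c3.mul_right c4).inv_left).eq]
            _ = (b * b' * b⁻¹ * b'⁻¹) * (x * x' * x⁻¹ * x'⁻¹) := by group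
        rw [e]
        exact A.mul_mem (hBcl b hb b' hb') (hXX (Subgroup.commutator_mem_commutator hx hx'))
    exact hXA fun x hx => hBD x (hBmax hgood hBB' (hXB' hx)) (hXD hx)
  obtain ⟨v, hv, hv0⟩ := Submodule.exists_mem_ne_zero_of_ne_bot
    (show fixSpace g ≠ ⊥ from fun h => by rw [h, finrank_bot] at hbig; omega)
  exact hg1 (hfpf A hAc hAn g (hDA hgD) v hv0 (mem_fixSpace.mp hv))

end CfsgLib.Classical22.SolvablePrimitiveFix
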