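import Mathlib

set_option autoImplicit false

/-!
# Subgroups of small index in symmetric groups and the exceptional subgroups of `S₆`
-/

namespace CfsgLib.Classical22

open Equiv MulAction

variable {Ω : Type*} [Fintype Ω] [DecidableEq Ω]

/-- A subgroup of index above 2 in `S_n`, `n ≥ 5`, is core-free. -/
theorem normalCore_eq_bot_of_index (h5 : 5 ≤ Fintype.card Ω) {H : Subgroup (Perm Ω)} (hH : 2 < H.index) :
    H.normalCore = ⊥ := by
  by_contra h
  haveI : Nontrivial H.normalCore := H.normalCore.nontrivial_iff_ne_bot.mpr h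
  have h1 := Perm.alternatingGroup_le_of_normal (N := H.normalCore) (by rwa [Nat.card_eq_fintype_card]) inferInstance
  have h2 := Subgroup.index_dvd_of_le (h1.trans H.normalCore_le)
  haveI : Nontrivial Ω := Fintype.one_lt_card_iff_nontrivial.mp (by omega)
  rw [alternatingGroup.index_eq_two] at h2
  have := Nat.le_of_dvd two_pos h2
  omega

theorem toPermHom_injective (h5 : 5 ≤ Fintype.card Ω) {H : Subgroup (Perm Ω)} (hH : 2 < H.index) :
    Function.Injective (toPermHom (Perm Ω) (Perm Ω ⧸ H)) := by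
  rw [← MonoidHom.ker_eq_bot_iff, ← Subgroup.normalCore_eq_ker]
  exact normalCore_eq_bot_of_index h5 hH

/-- No subgroup has index strictly between 2 and `n`. -/
theorem card_le_index (h5 : 5 ≤ Fintype.card Ω) {H : Subgroup (Perm Ω)} (hH : 2 < H.index) :
    Fintype.card Ω ≤ H.index := by
  have h := Nat.card_le_card_of_injective _ (toPermHom_injective h5 hH)
  rw [Nat.card_perm, Nat.card_perm, Nat.card_eq_fintype_card] at h
  by_contra hlt
  have h2 : (Nat.card (Perm Ω ⧸ H)).factorial < (Fintype.card Ω).factorial :=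
    (Nat.factorial_lt (by rw [← Subgroup.index_eq_card]; omega)).mpr (by rw [← Subgroup.index_eq_card]; omega)
  omega

/-- A subgroup of index `n` is the preimage of a point stabiliser under an automorphism. -/
theorem exists_aut (h5 : 5 ≤ Fintype.card Ω) {H : Subgroup (Perm Ω)} (hH : H.index = Fintype.card Ω) :
    ∃ (φ : Perm Ω ≃* Perm Ω) (c : Ω), ∀ g, g ∈ H ↔ φ g c = c := by
  have e : Perm Ω ⧸ H ≃ Ω := Classical.choice (Finite.card_eq.mp (by
    rw [← Subgroup.index_eq_card, hH, Nat.card_eq_fintype_card]))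
  have hinj := toPermHom_injective h5 (H := H) (by omega)
  have hbij : Function.Bijective ((e.permCongrHom.toMonoidHom).comp (toPermHom (Perm Ω) (Perm Ω ⧸ H))) :=
    Finite.injective_iff_bijective.mp (e.permCongrHom.injective.comp hinj)
  refine ⟨MulEquiv.ofBijective _ hbij, e (QuotientGroup.mk 1), fun g => ?_⟩
  change _ ↔ e ((toPermHom (Perm Ω) (Perm Ω ⧸ H) g) (e.symm (e (QuotientGroup.mk 1)))) = _
  rw [e.symm_apply_apply, e.apply_eq_iff_eq]
  change _ ↔ g • (QuotientGroup.mk 1 : Perm Ω ⧸ H) = _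
  rw [← mem_stabilizer_iff, stabilizer_quotient]

theorem arith_two_cycles {j k : ℕ} (hk : 2 ≤ k)
    (h : j.factorial * 2 ^ k * k.factorial = 2 * (j + 2 * k - 2).factorial) : j = 0 ∧ k = 3 := by
  have hbig : ∀ k, 4 ≤ k → 2 ^ k * k.factorial < 2 * (2 * k - 2).factorial := by
    intro k hk
    induction k, hk using Nat.le_induction with
    | base => decide
    | succ k hk ih =>
      obtain ⟨i, rfl⟩ : ∃ i, k = i + 1 := ⟨k - 1, by omega⟩
      rw [show 2 * (i + 1 + 1) - 2 = 2 * i + 1 + 1 by omega, show 2 * (i + 1) - 2 = 2 * i by omega] at *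
      simp only [Nat.factorial_succ, pow_succ] at *
      calc _ = 2 * (i + 1 + 1) * (2 ^ i * 2 * ((i + 1) * i.factorial)) := by ring
        _ < 2 * (i + 1 + 1) * (2 * (2 * i).factorial) := Nat.mul_lt_mul_of_pos_left ih (by omega)
        _ ≤ (2 * i + 1 + 1) * (2 * i + 1) * (2 * (2 * i).factorial) := Nat.mul_le_mul_right _ (by nlinarith)
        _ = _ := by ring
  have hj : 0 < j.factorial := j.factorial_pos
  rcases (show k = 2 ∨ k = 3 ∨ 4 ≤ k by omega) with rfl | rfl | hk4
  · rw [show j + 2 * 2 - 2 = j + 1 + 1 by omega, Nat.factorial_succ, Nat.factorial_succ] at h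
    norm_num [Nat.factorial] at h
    have : (j + 1 + 1) * (j + 1) = 4 := Nat.eq_of_mul_eq_mul_right hj (by linarith)
    rcases (show j = 0 ∨ 1 ≤ j by omega) with rfl | h1
    · omega
    · nlinarith
  · rw [show j + 2 * 3 - 2 = j + 1 + 1 + 1 + 1 by omega] at h
    simp only [Nat.factorial_succ, Nat.factorial_zero] at h
    refine ⟨?_, rfl⟩
    have h24 : (j + 1 + 1 + 1 + 1) * ((j + 1 + 1 + 1) * ((j + 1 + 1) * (j + 1))) = 24 :=
      Nat.eq_of_mul_eq_mul_right hj (by linarith)
    by_contra hj0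
    have : 5 * (4 * (3 * 2)) ≤ 24 := h24 ▸ Nat.mul_le_mul (by omega) (Nat.mul_le_mul (by omega) (Nat.mul_le_mul (by omega) (by omega)))
    omega
  · exfalso
    have h1 := Nat.le_of_dvd (Nat.factorial_pos _) (Nat.factorial_mul_factorial_dvd_factorial_add j (2 * k - 2))
    rw [show j + (2 * k - 2) = j + 2 * k - 2 by omega] at h1
    have h2 := Nat.mul_lt_mul_of_pos_left (hbig k hk4) hj
    rw [mul_assoc] at h
    linarith

theorem swap_cycleType {g : Perm Ω} (hg : g.IsSwap) : g.cycleType = {2} := by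
  obtain ⟨a, b, hab, rfl⟩ := hg
  rw [(Perm.isCycle_swap hab).cycleType, Perm.card_support_swap hab]

theorem isSwap_of_cycleType {g : Perm Ω} (hg : g.cycleType = {2}) : g.IsSwap := by
  rw [← Perm.card_support_eq_two, ← Perm.sum_cycleType, hg, Multiset.sum_singleton]

/-- An automorphism maps transpositions to transpositions or, for `n = 6`, to triple transpositions. -/
theorem cycleType_map_swap (φ : Perm Ω ≃* Perm Ω) {g : Perm Ω} (hg : g.cycleType = {2} ∨ g.cycleType = Multiset.replicate 3 2 ∧ Fintype.card Ω = 6) :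
    (φ g).cycleType = {2} ∨ ((φ g).cycleType = Multiset.replicate 3 2 ∧ Fintype.card Ω = 6) := by
  haveI : Fact (Nat.Prime 2) := ⟨Nat.prime_two⟩
  have hcent : Nat.card (Subgroup.centralizer {φ g}) = Nat.card (Subgroup.centralizer {g}) := by
    refine (Nat.card_congr ?_).symm
    refine φ.toEquiv.subtypeEquiv fun x => ?_
    simp only [Subgroup.mem_centralizer_singleton_iff, MulEquiv.coe_toEquiv, MulEquiv.toEquiv_eq_coe, ← map_mul, EmbeddingLike.apply_eq_iff_eq]
  have hord : orderOf (φ g) = 2 := by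
    rw [φ.orderOf_eq, ← Perm.lcm_cycleType]
    rcases hg with h | ⟨h, -⟩ <;> rw [h] <;> rfl
  obtain ⟨k, hk⟩ := Perm.cycleType_prime_order (hord ▸ Nat.prime_two)
  rw [hord] at hk
  have hcard : (2 : ℕ) * (k + 1) ≤ Fintype.card Ω := by
    have := Perm.sum_cycleType (φ g) ▸ (φ g).support.card_le_univ
    rw [hk, Multiset.sum_replicate, smul_eq_mul] at this
    omega
  have hval : Nat.card (Subgroup.centralizer {g}) = 2 * (Fintype.card Ω - 2).factorial := by
    rcases hg with h | ⟨h, h6⟩
    · rw [Perm.nat_card_centralizer, h]; simp [mul_comm]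
    · rw [Perm.nat_card_centralizer, h, h6]; rfl
  rw [hval, Perm.nat_card_centralizer, hk] at hcent
  simp only [Multiset.sum_replicate, Multiset.prod_replicate, smul_eq_mul, Multiset.toFinset_replicate,
    Finset.prod_ite, if_neg (Nat.succ_ne_zero k), Finset.prod_singleton, Multiset.count_replicate_self] at hcent
  rcases Nat.eq_zero_or_pos k with rfl | hk0
  · exact Or.inl hk
  · obtain ⟨h1, h2⟩ := arith_two_cycles (j := Fintype.card Ω - (k + 1) * 2) (k := k + 1) (by omega) (by
      rw [show Fintype.card Ω - (k + 1) * 2 + 2 * (k + 1) - 2 = Fintype.card Ω - 2 by omega]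
      exact hcent)
    exact Or.inr ⟨by rw [hk, h2], by omega⟩

/-- Four or more transpositions meeting pairwise have a common point. -/
theorem exists_common_point {s : Finset (Perm Ω)} (hs : ∀ g ∈ s, g.IsSwap) (hcard : 4 ≤ s.card)
    (hmeet : ∀ g ∈ s, ∀ h ∈ s, ∃ x, g x ≠ x ∧ h x ≠ x) : ∃ a, ∀ g ∈ s, g a ≠ a := by
  have hother : ∀ {g : Perm Ω}, g.IsSwap → ∀ {x}, g x ≠ x → ∃ y, x ≠ y ∧ g = swap x y := by
    rintro g ⟨p, q, hpq, rfl⟩ x hx
    rcases (Equiv.swap_apply_ne_self_iff.mp hx).2 with rfl | rfl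
    · exact ⟨q, hpq, rfl⟩
    · exact ⟨p, hpq.symm, swap_comm p x⟩
  obtain ⟨g, hg⟩ := Finset.card_pos.mp (by omega : 0 < s.card)
  obtain ⟨h, hh, hne⟩ := Finset.exists_mem_ne (s := s) (by omega) g
  obtain ⟨a, hga, hha⟩ := hmeet g hg h hh
  obtain ⟨b, hab, rfl⟩ := hother (hs g hg) hga
  obtain ⟨d, had, rfl⟩ := hother (hs h hh) hha
  have hbd : b ≠ d := fun e => hne (e ▸ rfl)
  refine ⟨a, fun k hk => ?_⟩
  by_contra hka
  -- then the third transposition is `(b d)` and at most three exist
  have hmem : ∀ {l : Perm Ω}, l ∈ s → l a = a → l = swap b d := by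
    intro l hl hla
    obtain ⟨x, hx1, hx2⟩ := hmeet _ hg l hl
    obtain ⟨y, hy1, hy2⟩ := hmeet _ hh l hl
    have hxb : x = b := ((Equiv.swap_apply_ne_self_iff.mp hx1).2).resolve_left (fun e => hx2 (e ▸ hla))
    have hyd : y = d := ((Equiv.swap_apply_ne_self_iff.mp hy1).2).resolve_left (fun e => hy2 (e ▸ hla))
    subst hxb hyd
    obtain ⟨z, -, rfl⟩ := hother (hs l hl) hx2
    rw [((Equiv.swap_apply_ne_self_iff.mp hy2).2).resolve_left hbd.symm]
  obtain rfl := hmem hk hka
  have hsub : s ⊆ {swap a b, swap a d, swap b d} := by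
    intro l hl
    simp only [Finset.mem_insert, Finset.mem_singleton]
    by_cases hla : l a = a
    · exact Or.inr (Or.inr (hmem hl hla))
    obtain ⟨z, haz, rfl⟩ := hother (hs l hl) hla
    obtain ⟨x, hx1, hx2⟩ := hmeet _ hl _ hk
    rcases (Equiv.swap_apply_ne_self_iff.mp hx2).2 with rfl | rfl <;>
      rcases (Equiv.swap_apply_ne_self_iff.mp hx1).2 with e | e
    · exact absurd e hab.symm
    · exact Or.inl (e ▸ rfl)
    · exact absurd e had.symm
    · exact Or.inr (Or.inl (e ▸ rfl))
  have h3 := (Finset.card_le_card hsub).trans Finset.card_le_three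
  omega

/-- A transposition-preserving automorphism carries point stabilisers to point stabilisers. -/
theorem exists_stabilizer_preimage (h5 : 5 ≤ Fintype.card Ω) (φ : Perm Ω ≃* Perm Ω)
    (hφ : ∀ g : Perm Ω, g.IsSwap → (φ g).IsSwap) (c : Ω) : ∃ a, ∀ g, φ g c = c ↔ g a = a := by
  classical
  have hsymm : ∀ g : Perm Ω, g.IsSwap → (φ.symm g).IsSwap := by
    intro g hg
    have hinj : Set.InjOn φ {g : Perm Ω | g.IsSwap} := φ.injective.injOn
    have himg : φ '' {g : Perm Ω | g.IsSwap} = {g | g.IsSwap} :=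
      Set.eq_of_subset_of_ncard_le (by rintro _ ⟨x, hx, rfl⟩; exact hφ x hx) (le_of_eq (Set.ncard_image_of_injective _ φ.injective).symm)
    obtain ⟨x, hx, rfl⟩ : g ∈ φ '' {g : Perm Ω | g.IsSwap} := himg.symm ▸ hg
    rwa [φ.symm_apply_apply]
  let s : Finset (Perm Ω) := ((Finset.univ : Finset Ω).erase c).image fun y => φ.symm (swap c y)
  have hsw : ∀ g ∈ s, g.IsSwap := fun g hg => by
    obtain ⟨y, hy, rfl⟩ := Finset.mem_image.mp hg
    exact hsymm _ ⟨c, y, (Finset.ne_of_mem_erase hy).symm, rfl⟩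
  have hinjs : Set.InjOn (fun y => φ.symm (swap c y)) ((Finset.univ : Finset Ω).erase c) := fun x _ y _ e => by
    have h := congrArg (fun t : Perm Ω => t c) (φ.symm.injective e)
    simpa only [swap_apply_left] using h
  have hcard : s.card = Fintype.card Ω - 1 := by
    rw [Finset.card_image_of_injOn hinjs, Finset.card_erase_of_mem (Finset.mem_univ c), Finset.card_univ]
  obtain ⟨a, ha⟩ := exists_common_point hsw (by omega) fun g hg h hh => by
    by_contra hcon
    simp only [not_exists, not_and, not_not] at hcon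
    obtain ⟨x, hx, rfl⟩ := Finset.mem_image.mp hg
    obtain ⟨y, hy, rfl⟩ := Finset.mem_image.mp hh
    have hdis : Perm.Disjoint (φ.symm (swap c x)) (φ.symm (swap c y)) := fun z => or_iff_not_imp_left.mpr (hcon z)
    have hcomm := congrArg φ hdis.commute.eq
    simp only [map_mul, MulEquiv.apply_symm_apply] at hcomm
    have hxy : x = y := by
      by_contra hne
      have h := congrArg (fun t : Perm Ω => t x) hcomm
      simp only [Perm.mul_apply] at h
      rw [swap_apply_of_ne_of_ne (Finset.ne_of_mem_erase hx) hne, swap_apply_right, swap_apply_left] at h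
      exact (Finset.ne_of_mem_erase hy) h.symm
    subst hxy
    obtain ⟨z, w, hzw, e⟩ := hsw _ hg
    have h1 := hcon z (by rw [e, swap_apply_left]; exact hzw.symm)
    rw [e, swap_apply_left] at h1
    exact hzw h1.symm
  refine ⟨a, fun g => ⟨fun hg => ?_, fun hg => ?_⟩⟩
  · -- `φ⁻¹` of the stabiliser permutes the star
    by_contra hga
    have hperm : ∀ l ∈ s, (g⁻¹ * l * g : Perm Ω) ∈ s := by
      intro l hl
      obtain ⟨y, hy, rfl⟩ := Finset.mem_image.mp hl
      refine Finset.mem_image.mpr ⟨(φ g)⁻¹ y, Finset.mem_erase.mpr ⟨fun e => Finset.ne_of_mem_erase hy ?_, Finset.mem_univ _⟩, ?_⟩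
      · rw [← hg]; exact ((Perm.inv_eq_iff_eq).mp e)
      · apply φ.injective
        simp only [map_mul, map_inv, MulEquiv.apply_symm_apply]
        have h := swap_apply_apply (φ g)⁻¹ c y
        rw [inv_inv, Perm.inv_eq_iff_eq.mpr hg.symm] at h
        exact h
    have hall : ∀ l ∈ s, l (g a) ≠ g a := by
      intro l hl e
      apply ha _ (hperm l hl)
      rw [Perm.mul_apply, Perm.mul_apply, e]; exact g.symm_apply_apply a
    have hsub : s ⊆ {swap a (g a)} := fun l hl => by
      obtain ⟨p, q, hpq, rfl⟩ := hsw l hl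
      rcases (Equiv.swap_apply_ne_self_iff.mp (ha _ hl)).2 with h1 | h1 <;>
        rcases (Equiv.swap_apply_ne_self_iff.mp (hall _ hl)).2 with h2 | h2 <;>
        simp only [Finset.mem_singleton]
      · exact absurd (h2.trans h1.symm) hga
      · rw [← h2, ← h1]
      · rw [← h1, ← h2, swap_comm]
      · exact absurd (h2.trans h1.symm) hga
    have := Finset.card_le_card hsub
    rw [Finset.card_singleton] at this
    omega
  · by_contra hgc
    set y := φ g c
    have hmem : φ.symm (swap c y) ∈ s := Finset.mem_image.mpr ⟨y, Finset.mem_erase.mpr ⟨hgc, Finset.mem_univ _⟩, rfl⟩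
    -- every member of the star is `swap a z`; conjugation by `g` permutes them, so `φ g` permutes the star at `c`
    have hstar : ∀ l : Perm Ω, l.IsSwap → l a ≠ a → l ∈ s := by
      have hsub : s ⊆ (Finset.univ.erase a).image (fun z => swap a z) := fun l hl => by
        refine Finset.mem_image.mpr ⟨l a, Finset.mem_erase.mpr ⟨ha l hl, Finset.mem_univ _⟩, ?_⟩
        obtain ⟨p, q, hpq, rfl⟩ := hsw l hl
        rcases (Equiv.swap_apply_ne_self_iff.mp (ha _ hl)).2 with rfl | rfl
        · rw [swap_apply_left]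
        · rw [swap_apply_right, swap_comm]
      have heq := Finset.eq_of_subset_of_card_le hsub (Finset.card_image_le.trans (by
        rw [hcard, Finset.card_erase_of_mem (Finset.mem_univ a), Finset.card_univ]))
      rintro _ ⟨p, q, hpq, rfl⟩ hla
      rw [heq, Finset.mem_image]
      rcases (Equiv.swap_apply_ne_self_iff.mp hla).2 with rfl | rfl
      · exact ⟨q, Finset.mem_erase.mpr ⟨hpq.symm, Finset.mem_univ _⟩, rfl⟩
      · exact ⟨p, Finset.mem_erase.mpr ⟨hpq, Finset.mem_univ _⟩, swap_comm _ _⟩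
    obtain ⟨x, hxc, hxy⟩ : ∃ x, x ≠ c ∧ φ g x ≠ c := by
      obtain ⟨u, hu1, hu2⟩ := Fintype.exists_ne_of_one_lt_card (by omega : 1 < Fintype.card Ω) c |>.imp fun u hu => And.intro hu trivial
      by_cases h : φ g u = c
      · obtain ⟨v, hv⟩ : ∃ v, v ∉ ({c, u} : Finset Ω) := by
          by_contra hcon; simp only [not_exists, not_not] at hcon
          have := Finset.card_le_card (fun v (_ : v ∈ Finset.univ) => hcon v)
          rw [Finset.card_univ] at this
          exact absurd (this.trans Finset.card_le_two) (by omega)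
        simp only [Finset.mem_insert, Finset.mem_singleton, not_or] at hv
        exact ⟨v, hv.1, fun e => hv.2 ((φ g).injective (e.trans h.symm))⟩
      · exact ⟨u, hu1, h⟩
    obtain ⟨l, hl, hlx⟩ : ∃ l ∈ s, l = φ.symm (swap c x) :=
      ⟨_, Finset.mem_image.mpr ⟨x, Finset.mem_erase.mpr ⟨hxc, Finset.mem_univ _⟩, rfl⟩, rfl⟩
    obtain ⟨p, q, hpq, hlpq⟩ := hsw l hl
    have h1 : g * l * g⁻¹ ∈ s := by
      refine hstar _ ⟨g p, g q, g.injective.ne hpq, by rw [hlpq, ← swap_apply_apply]⟩ ?_
      intro e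
      apply ha l hl
      simp only [Perm.mul_apply] at e
      rw [show g⁻¹ a = a by rw [Perm.inv_eq_iff_eq, hg]] at e
      exact g.injective (e.trans hg.symm)
    obtain ⟨z, hz, hze⟩ := Finset.mem_image.mp h1
    have h2 := congrArg φ hze
    rw [hlx] at h2
    simp only [map_mul, map_inv, MulEquiv.apply_symm_apply] at h2
    rw [← swap_apply_apply] at h2
    have h3 := congrArg (fun t : Perm Ω => t c) h2
    simp only [swap_apply_left] at h3
    rw [swap_apply_of_ne_of_ne (Ne.symm hgc) (Ne.symm hxy)] at h3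
    exact Finset.ne_of_mem_erase hz h3

/-- For `n ≠ 6`, `n ≥ 5`, subgroups of index `n` are point stabilisers. -/
theorem eq_stabilizer_of_index (h5 : 5 ≤ Fintype.card Ω) (h6 : Fintype.card Ω ≠ 6) {H : Subgroup (Perm Ω)}
    (hH : H.index = Fintype.card Ω) : ∃ x : Ω, H = stabilizer (Perm Ω) x := by
  obtain ⟨φ, c, hc⟩ := exists_aut h5 hH
  obtain ⟨a, ha⟩ := exists_stabilizer_preimage h5 φ (fun g hg => isSwap_of_cycleType
    ((cycleType_map_swap φ (Or.inl (swap_cycleType hg))).resolve_right fun h => h6 h.2)) c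
  exact ⟨a, Subgroup.ext fun g => (hc g).trans (ha g)⟩

/-- The isomorphism of a point stabiliser with a symmetric group. -/
def stabilizerMulEquiv (a : Ω) : stabilizer (Perm Ω) a ≃* Perm {x : Ω // x ≠ a} where
  toFun g := (g : Perm Ω).subtypePerm fun x => by
    rw [not_iff_not]
    exact ⟨fun h => (g : Perm Ω).injective (h.trans g.2.symm), fun h => h.symm ▸ g.2⟩
  invFun s := ⟨Perm.ofSubtype s, Perm.ofSubtype_apply_of_not_mem s (by simp)⟩
  left_inv g := Subtype.ext (Perm.ofSubtype_subtypePerm _ fun x hx h => hx (h ▸ g.2))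
  right_inv s := by ext x; simp [Perm.ofSubtype_apply_of_mem, x.2]
  map_mul' g h := by ext x; rfl

end CfsgLib.Classical22
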