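import Cfsg.Agent.Lib.Classical22.SymIndex

set_option autoImplicit false

/-!
# The twelve subgroups of index 6 in `S₆`
-/

namespace CfsgLib.Classical22

open Equiv MulAction

variable {Ω : Type*} [Fintype Ω] [DecidableEq Ω]

theorem swap_comm_stab (a b : Ω) (g : Perm Ω) : (swap a b * g * swap a b) b = b ↔ g a = a := by
  simp only [Perm.mul_apply, swap_apply_right]
  rw [Equiv.apply_eq_iff_eq_symm_apply, symm_swap, swap_apply_right]

/-- An automorphism carrying some transposition to a triple transposition. -/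
def Outer (φ : Perm Ω ≃* Perm Ω) : Prop :=
  ∀ g : Perm Ω, g.IsSwap → (φ g).cycleType = Multiset.replicate 3 2

theorem outer_of_not_stabilizer (h6 : Fintype.card Ω = 6) {H : Subgroup (Perm Ω)} (hH : H.index = 6)
    (hne : ∀ a : Ω, H ≠ stabilizer (Perm Ω) a) :
    ∃ (φ : Perm Ω ≃* Perm Ω) (c : Ω), Outer φ ∧ ∀ g, g ∈ H ↔ φ g c = c := by
  obtain ⟨φ, c, hc⟩ := exists_aut (by omega) (hH.trans h6.symm)
  refine ⟨φ, c, fun g hg => ?_, hc⟩
  rcases cycleType_map_swap φ (Or.inl (swap_cycleType hg)) with h | h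
  · exfalso
    have hφsw : ∀ l : Perm Ω, l.IsSwap → (φ l).IsSwap := fun l hl => by
      obtain ⟨p, q, hpq, rfl⟩ := hg
      obtain ⟨r, s, hrs, rfl⟩ := hl
      obtain ⟨k, hk⟩ := isConj_iff.mp (Perm.isConj_swap hpq hrs)
      rw [← hk, map_mul, map_mul, map_inv]
      exact isSwap_of_cycleType (by rw [Perm.cycleType_conj, h])
    obtain ⟨a, ha⟩ := exists_stabilizer_preimage (by omega) φ hφsw c
    exact hne a (Subgroup.ext fun l => (hc l).trans (ha l))
  · exact h.1

/-- Outer automorphisms return triple transpositions to transpositions. -/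
theorem outer_symm (h6 : Fintype.card Ω = 6) {φ : Perm Ω ≃* Perm Ω} (hφ : Outer φ) {g : Perm Ω}
    (hg : g.cycleType = Multiset.replicate 3 2) : (φ.symm g).IsSwap := by
  haveI : Nontrivial Ω := Fintype.one_lt_card_iff_nontrivial.mp (by omega)
  obtain ⟨a, b, hab⟩ := exists_pair_ne Ω
  obtain ⟨k, hk⟩ := isConj_iff.mp (Perm.isConj_iff_cycleType_eq.mpr ((hφ _ ⟨a, b, hab, rfl⟩).trans hg.symm))
  rw [← hk, map_mul, map_mul, map_inv, φ.symm_apply_apply]
  exact isSwap_of_cycleType (by rw [Perm.cycleType_conj, swap_cycleType ⟨a, b, hab, rfl⟩])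

/-- All exceptional subgroups are preimages under one automorphism. -/
theorem outer_unique (h6 : Fintype.card Ω = 6) {φ ψ : Perm Ω ≃* Perm Ω} (hφ : Outer φ) (hψ : Outer ψ) (c : Ω) :
    ∃ a, ∀ g, ψ g c = c ↔ φ g a = a := by
  have hsw : ∀ g : Perm Ω, g.IsSwap → ((φ.symm.trans ψ) g).IsSwap := by
    intro g hg
    -- `φ⁻¹` sends transpositions to triple transpositions
    rcases cycleType_map_swap φ.symm (Or.inl (swap_cycleType hg)) with h | h
    · exfalso
      have h1 := hφ _ (isSwap_of_cycleType h)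
      rw [φ.apply_symm_apply, swap_cycleType hg] at h1
      exact absurd (congrArg Multiset.card h1) (by simp)
    · -- and `ψ` returns them to transpositions
      change (ψ (φ.symm g)).IsSwap
      rcases cycleType_map_swap ψ (Or.inr h) with h2 | h2
      · exact isSwap_of_cycleType h2
      · exfalso
        have h3 := outer_symm h6 hψ h2.1
        rw [ψ.symm_apply_apply] at h3
        exact absurd (congrArg Multiset.card ((swap_cycleType h3).symm.trans h.1)) (by simp)
  obtain ⟨a, ha⟩ := exists_stabilizer_preimage (by omega) (φ.symm.trans ψ) hsw c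
  exact ⟨a, fun g => by simpa using ha (φ g)⟩

/-- There is a transitive subgroup of index 6. -/
theorem exists_exceptional (h6 : Fintype.card Ω = 6) :
    ∃ H : Subgroup (Perm Ω), H.index = 6 ∧ ∀ a : Ω, H ≠ stabilizer (Perm Ω) a := by
  classical
  haveI : Fact (Nat.Prime 5) := ⟨by norm_num⟩
  let X := Sylow 5 (Perm (Fin 5))
  have hcard5 : Nat.card (Perm (Fin 5)) = 120 := by rw [Nat.card_perm, Nat.card_fin]; rfl
  obtain ⟨P⟩ : Nonempty X := inferInstance
  have hP5 : Nat.card (P : Subgroup (Perm (Fin 5))) = 5 := by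
    rw [P.card_eq_multiplicity, hcard5, show (120 : ℕ) = 5 * 24 by norm_num,
      Nat.factorization_mul (by norm_num) (by norm_num)]
    simp [Nat.Prime.factorization_self (by norm_num : Nat.Prime 5), Nat.factorization_eq_zero_of_not_dvd (by norm_num : ¬ 5 ∣ 24)]
  have hidx : (P : Subgroup (Perm (Fin 5))).index = 24 := by
    have := (P : Subgroup (Perm (Fin 5))).card_mul_index
    rw [hP5, hcard5] at this; omega
  have hX : Nat.card X = 6 := by
    have h1 : Nat.card X ∣ 24 := hidx ▸ P.card_dvd_index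
    have h2 : Nat.card X % 5 = 1 := card_sylow_modEq_one 5 (Perm (Fin 5))
    have h3 := Nat.le_of_dvd (by norm_num) h1
    have h4 : Nat.card X ≠ 1 := fun h => by
      haveI : Subsingleton X := (Nat.card_eq_one_iff_unique.mp h).1
      haveI : (P : Subgroup (Perm (Fin 5))).Normal := Sylow.normal_of_subsingleton P
      haveI : Nontrivial (P : Subgroup (Perm (Fin 5))) := Finite.one_lt_card_iff_nontrivial.mp (by rw [hP5]; norm_num)
      have h := Subgroup.index_dvd_of_le (Perm.alternatingGroup_le_of_normal (N := (P : Subgroup (Perm (Fin 5)))) (by simp) inferInstance)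
      rw [alternatingGroup.index_eq_two, hidx] at h
      norm_num at h
    interval_cases h : Nat.card X <;> omega
  have hinj : Function.Injective (toPermHom (Perm (Fin 5)) X) := by
    rw [← MonoidHom.ker_eq_bot_iff]
    by_contra h
    haveI : Nontrivial (toPermHom (Perm (Fin 5)) X).ker := (Subgroup.nontrivial_iff_ne_bot _).mpr h
    have hA := Perm.alternatingGroup_le_of_normal (N := (toPermHom (Perm (Fin 5)) X).ker) (by simp) inferInstance
    have h1 : alternatingGroup (Fin 5) ≤ stabilizer (Perm (Fin 5)) P := fun g hg => by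
      have := congrArg (fun t : Perm X => t P) (MonoidHom.mem_ker.mp (hA hg))
      exact this
    have h2 := Subgroup.index_dvd_of_le h1
    rw [alternatingGroup.index_eq_two, index_stabilizer_of_transitive, hX] at h2
    norm_num at h2
  let e : X ≃ Ω := Classical.choice (Finite.card_eq.mp (hX.trans (by rw [Nat.card_eq_fintype_card, h6])))
  refine ⟨((e.permCongrHom.toMonoidHom).comp (toPermHom (Perm (Fin 5)) X)).range, ?_, fun a ha => ?_⟩
  · have h := ((e.permCongrHom.toMonoidHom).comp (toPermHom (Perm (Fin 5)) X)).range.card_mul_index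
    rw [← Nat.card_congr (MonoidHom.ofInjective (f := (e.permCongrHom.toMonoidHom).comp (toPermHom (Perm (Fin 5)) X))
      (e.permCongrHom.injective.comp hinj)).toEquiv, hcard5, Nat.card_perm, Nat.card_eq_fintype_card, h6] at h
    rw [show Nat.factorial 6 = 720 from rfl] at h
    exact Nat.eq_of_mul_eq_mul_left (by norm_num : 0 < 120) (h.trans (by norm_num))
  · obtain ⟨b, hb⟩ := Fintype.exists_ne_of_one_lt_card (by omega : 1 < Fintype.card Ω) a
    obtain ⟨g, hg⟩ := exists_smul_eq (Perm (Fin 5)) (e.symm a) (e.symm b)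
    have : e.permCongrHom (toPermHom (Perm (Fin 5)) X g) ∈ stabilizer (Perm Ω) a := ha ▸ ⟨g, rfl⟩
    apply hb
    calc b = e (g • e.symm a) := by rw [hg, e.apply_symm_apply]
      _ = a := this

/-- The list of all subgroups of index 6. -/
theorem index_six_list (h6 : Fintype.card Ω = 6) :
    ∃ φ : Perm Ω ≃* Perm Ω,
      (∀ c a : Ω, (stabilizer (Perm Ω) c).comap φ.toMonoidHom ≠ stabilizer (Perm Ω) a) ∧
      ∀ H : Subgroup (Perm Ω), H.index = 6 →
        (∃ a : Ω, H = stabilizer (Perm Ω) a) ∨ ∃ c : Ω, H = (stabilizer (Perm Ω) c).comap φ.toMonoidHom := by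
  obtain ⟨H₀, hH₀, hne₀⟩ := exists_exceptional h6
  obtain ⟨φ, c₀, hφ, -⟩ := outer_of_not_stabilizer h6 hH₀ hne₀
  refine ⟨φ, fun c a h => ?_, fun (H : Subgroup (Perm Ω)) hH => ?_⟩
  · -- a transposition fixing `a` would become a permutation with a fixed point
    haveI : Nontrivial {x : Ω // x ≠ a} := by
      refine Finite.one_lt_card_iff_nontrivial.mp ?_
      rw [Nat.card_eq_fintype_card, Fintype.card_subtype_compl, Fintype.card_subtype_eq, h6]
      norm_num
    obtain ⟨⟨p, hp⟩, ⟨q, hq⟩, hpq⟩ := exists_pair_ne {x : Ω // x ≠ a}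
    have hpq' : p ≠ q := fun e => hpq (Subtype.ext e)
    have hmem : swap p q ∈ stabilizer (Perm Ω) a := swap_apply_of_ne_of_ne (Ne.symm hp) (Ne.symm hq)
    rw [← h] at hmem
    have hsupp : (φ (swap p q)).support = Finset.univ := by
      apply Finset.eq_univ_of_card
      rw [← Perm.sum_cycleType, hφ _ ⟨p, q, hpq', rfl⟩, h6]; rfl
    exact (Perm.mem_support.mp (hsupp ▸ Finset.mem_univ c)) hmem
  · by_cases hst : ∃ a : Ω, H = stabilizer (Perm Ω) a
    · exact Or.inl hst
    simp only [not_exists] at hst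
    obtain ⟨ψ, c, hψ, hc⟩ := outer_of_not_stabilizer h6 hH hst
    obtain ⟨a, ha⟩ := outer_unique h6 hφ hψ c
    exact Or.inr ⟨a, Subgroup.ext fun g => (hc g).trans (ha g)⟩

theorem index_comap_stabilizer (φ : Perm Ω ≃* Perm Ω) (c : Ω) :
    ((stabilizer (Perm Ω) c).comap φ.toMonoidHom).index = Fintype.card Ω := by
  rw [Subgroup.index_comap_of_surjective _ φ.surjective, index_stabilizer_of_transitive, Nat.card_eq_fintype_card]

theorem stabilizer_injective [Nontrivial Ω] (h3 : 3 ≤ Fintype.card Ω) :
    Function.Injective (fun a : Ω => stabilizer (Perm Ω) a) := by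
  intro a b h
  by_contra hab
  obtain ⟨x, hx⟩ : ∃ x, x ∉ ({a, b} : Finset Ω) := by
    by_contra hcon; simp only [not_exists, not_not] at hcon
    have := Finset.card_le_card (fun v (_ : v ∈ Finset.univ) => hcon v)
    rw [Finset.card_univ] at this
    exact absurd (this.trans Finset.card_le_two) (by omega)
  simp only [Finset.mem_insert, Finset.mem_singleton, not_or] at hx
  have hmem : swap b x ∈ stabilizer (Perm Ω) a := swap_apply_of_ne_of_ne hab (Ne.symm hx.1)
  rw [show stabilizer (Perm Ω) a = stabilizer (Perm Ω) b from h] at hmem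
  exact hx.2 ((swap_apply_left b x).symm.trans hmem)

end CfsgLib.Classical22
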