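/-
A tensor factor of dimension two over F₂ gives a hermitian overgroup inside Ω.
-/
import Cfsg.Agent.Lib.Classical22.TensorRefine

set_option autoImplicit false

namespace CfsgLib.Classical22.TensorPair

open Matrix CfsgLib.Classical22.TensorRefine
open scoped commutatorElement

variable {F : Type*} [Field F]

/-- Two orthogonal hyperbolic pairs. -/
theorem exists_two_pairs (h2 : (2 : F) = 0) {m : ℕ} (hm : 3 ≤ m) {f : (Fin m → F) → (Fin m → F) → F}
    (hf : Cfsg.Geo.IsSymplecticForm f) :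
    ∃ a b c d, f a b = 1 ∧ f c d = 1 ∧ f a c = 0 ∧ f a d = 0 ∧ f b c = 0 ∧ f b d = 0 := by
  have hcomm : ∀ a b, f a b = f b a := fun a b => by
    have := hf.skew a b
    linear_combination this - f b a * h2
  have hpair : ∀ a, a ≠ 0 → ∃ b, f a b = 1 := fun a ha => by
    obtain ⟨x, hx⟩ := (hf.nondegenerate a ha).2
    exact ⟨(f a x)⁻¹ • x, by rw [hf.bilinear.smul_right, inv_mul_cancel₀ hx]⟩
  obtain ⟨a, ha⟩ : ∃ a : Fin m → F, a ≠ 0 :=
    ⟨Pi.single ⟨0, by omega⟩ 1, fun h => one_ne_zero (α := F) (by simpa using congrFun h ⟨0, by omega⟩)⟩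
  obtain ⟨b, hb⟩ := hpair a ha
  obtain ⟨π, hπ⟩ : ∃ π : (Fin m → F) → Fin m → F, ∀ x, π x = x + f x b • a + f x a • b := ⟨_, fun x => rfl⟩
  have hπ0 : ∀ x, f a (π x) = 0 ∧ f b (π x) = 0 := fun x => by
    rw [hcomm a, hcomm b, hπ]
    simp only [hf.bilinear.add_left, hf.bilinear.smul_left, hf.alternating, hcomm b a, hb]
    constructor <;> ring_nf <;> simp [h2]
  obtain ⟨x, hx⟩ : ∃ x, π x ≠ 0 := by
    by_contra hh
    push Not at hh
    have htop : (⊤ : Submodule F (Fin m → F)) ≤ Submodule.span F (Set.range ![a, b]) := fun x _ => by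
      have e : x = f x b • a + f x a • b := by
        have h' := hh x
        rw [hπ, add_assoc, add_eq_zero_iff_eq_neg] at h'
        refine h'.trans ?_
        rw [← neg_one_smul F (_ + _), show (-1 : F) = 1 by linear_combination -h2, one_smul]
      rw [e]
      exact add_mem (Submodule.smul_mem _ _ (Submodule.subset_span ⟨0, rfl⟩))
        (Submodule.smul_mem _ _ (Submodule.subset_span ⟨1, rfl⟩))
    have h4 := (Submodule.finrank_mono htop).trans (finrank_range_le_card ![a, b])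
    rw [finrank_top, Module.finrank_fin_fun, Fintype.card_fin] at h4
    omega
  obtain ⟨y, hy⟩ := hpair _ hx
  refine ⟨a, b, π x, π y, hb, ?_, (hπ0 x).1, (hπ0 y).1, (hπ0 x).2, (hπ0 y).2⟩
  rw [hπ y, hf.bilinear.add_right, hf.bilinear.add_right, hf.bilinear.smul_right, hf.bilinear.smul_right,
    hcomm (π x) a, hcomm (π x) b, (hπ0 x).1, (hπ0 x).2, hy]
  ring

abbrev Pair (F : Type*) [Field F] (m : ℕ) : Type _ := (Fin m → F) × (Fin m → F)

theorem pair_not_maximal [Fintype F] {n m : ℕ} (hq : Fintype.card F = 2) (hm : 3 ≤ m) (Q : (Fin n → F) → F)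
    (hsm : ∀ (c : F) v, Q (c • v) = c ^ 2 * Q v) (e : Fin n ≃ Fin 2 × Fin m) (P : GL (Fin n) F)
    (f₁ : (Fin 2 → F) → (Fin 2 → F) → F) (f₂ : (Fin m → F) → (Fin m → F) → F)
    (hf₁ : Cfsg.Geo.IsSymplecticForm f₁) (hf₂ : Cfsg.Geo.IsSymplecticForm f₂)
    (hT : Cfsg.Geo.IsTensorFormStructure id (QuadraticMap.polar Q) f₁ f₂ e P)
    (hpure : ∀ (x₁ : Fin 2 → F) (x₂ : Fin m → F),
      Q (Matrix.mulVec (P : Matrix (Fin n) (Fin n) F) ((fun a : Fin 2 × Fin m => x₁ a.1 * x₂ a.2) ∘ e)) = 0) :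
    ∃ K : Subgroup (GL (Fin n) F), Cfsg.Geo.tensorProductSubgroup 2 m e P ⊓ Cfsg.Geo.omegaGL Q < K ∧
      K < Cfsg.Geo.omegaGL Q := by
  classical
  have hF : ∀ x : F, x = 0 ∨ x = 1 := fun x => by
    by_cases hx : x = 0
    · exact Or.inl hx
    · have := FiniteField.pow_card_sub_one_eq_one x hx
      rw [hq, pow_one] at this
      exact Or.inr this
  have h2 : (2 : F) = 0 := by
    have h := FiniteField.cast_card_eq_zero F
    rw [hq] at h
    exact_mod_cast h
  have hadd2 : ∀ v : Fin m → F, v + v = 0 := fun v => by rw [← two_smul F v, h2, zero_smul]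
  have hadd3 : ∀ u v : Fin m → F, u + (u + v) = v := fun u v => by rw [← add_assoc, hadd2, zero_add]
  obtain ⟨c, hc, hcT⟩ := hT
  -- coordinates
  obtain ⟨Φ, hΦ⟩ : ∃ Φ : Pair F m ≃ₗ[F] (Fin n → F), ∀ y z, Φ (y, z) =
      (P : Matrix (Fin n) (Fin n) F) *ᵥ ((fun p : Fin 2 × Fin m => ![y p.2, z p.2] p.1) ∘ e) := by
    obtain ⟨φ, hφ⟩ : ∃ φ : Pair F m →ₗ[F] (Fin n → F), ∀ y z, φ (y, z) =
        (P : Matrix (Fin n) (Fin n) F) *ᵥ ((fun p : Fin 2 × Fin m => ![y p.2, z p.2] p.1) ∘ e) := by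
      refine ⟨{ toFun := fun w => (P : Matrix (Fin n) (Fin n) F) *ᵥ ((fun p : Fin 2 × Fin m => ![w.1 p.2, w.2 p.2] p.1) ∘ e)
                map_add' := fun v w => ?_
                map_smul' := fun k w => ?_ }, fun y z => rfl⟩
      · rw [← mulVec_add]
        congr 1
        funext l
        simp only [Function.comp_apply, Pi.add_apply, Prod.fst_add, Prod.snd_add]
        generalize (e l).1 = u
        fin_cases u <;> simp
      · rw [← mulVec_smul, RingHom.id_apply]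
        congr 1
        funext l
        simp only [Function.comp_apply, Pi.smul_apply, Prod.smul_fst, Prod.smul_snd]
        generalize (e l).1 = u
        fin_cases u <;> simp
    have hinj : Function.Injective φ := by
      rintro ⟨y, z⟩ ⟨y', z'⟩ h
      rw [hφ, hφ] at h
      have h' := (CfsgLib.Transvec.mulVec_injective P h)
      have hy : y = y' := funext fun j => by simpa using congrFun h' (e.symm (0, j))
      have hz : z = z' := funext fun j => by simpa using congrFun h' (e.symm (1, j))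
      rw [hy, hz]
    have hdim : Module.finrank F (Pair F m) = Module.finrank F (Fin n → F) := by
      rw [Module.finrank_prod, Module.finrank_fin_fun, Module.finrank_fin_fun]
      have := Fintype.card_congr e
      simp at this
      omega
    exact ⟨LinearEquiv.ofBijective φ ⟨hinj, (LinearMap.injective_iff_surjective_of_finrank_eq_finrank hdim).1 hinj⟩,
      fun y z => hφ y z⟩
  obtain ⟨τ, hτ⟩ : ∃ τ : (Fin 2 → F) → (Fin m → F) → (Fin n → F), ∀ u y,
      τ u y = (P : Matrix (Fin n) (Fin n) F) *ᵥ ((fun p => u p.1 * y p.2) ∘ e) := ⟨_, fun u y => rfl⟩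
  have hΦτ : ∀ u y, τ u y = Φ (u 0 • y, u 1 • y) := fun u y => by
    rw [hτ, hΦ]
    congr 1
    funext l
    simp only [Function.comp_apply, Pi.smul_apply, smul_eq_mul]
    generalize (e l).1 = w
    fin_cases w <;> simp
  have hτf : ∀ u u' y y', QuadraticMap.polar Q (τ u y) (τ u' y') = c * (f₁ u u' * f₂ y y') := fun u u' y y' => by
    rw [hτ, hτ, hcT, formOfGram_kronecker id (fun _ _ => rfl),
      ← form_eq (σ := id) hf₁.bilinear.add_left hf₁.bilinear.smul_left hf₁.bilinear.add_right hf₁.bilinear.smul_right,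
      ← form_eq (σ := id) hf₂.bilinear.add_left hf₂.bilinear.smul_left hf₂.bilinear.add_right hf₂.bilinear.smul_right]
  obtain ⟨κ, hκ⟩ : ∃ κ, κ = c * f₁ ![1, 0] ![0, 1] := ⟨_, rfl⟩
  have hQ : ∀ y z, Q (Φ (y, z)) = κ * f₂ y z := fun y z => by
    have h := hτf ![1, 0] ![0, 1] y z
    rw [QuadraticMap.polar, hΦτ, hΦτ, ← map_add] at h
    have e1 := hpure ![1, 0] y
    have e2 := hpure ![0, 1] z
    rw [← hτ, hΦτ] at e1 e2
    simp at h e1 e2
    rw [e1, e2] at h
    rw [hκ]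
    linear_combination h
  -- transport of linear automorphisms
  obtain ⟨ψ, hψ⟩ : ∃ ψ : (Pair F m ≃ₗ[F] Pair F m) →* GL (Fin n) F, ∀ L w,
      (ψ L : Matrix (Fin n) (Fin n) F) *ᵥ Φ w = Φ (L w) := by
    obtain ⟨T, hT⟩ : ∃ T : (Pair F m ≃ₗ[F] Pair F m) →* Matrix (Fin n) (Fin n) F,
        ∀ L, T L = LinearMap.toMatrix' (Φ.toLinearMap.comp (L.toLinearMap.comp Φ.symm.toLinearMap)) := by
      refine ⟨{ toFun := fun L => LinearMap.toMatrix' (Φ.toLinearMap.comp (L.toLinearMap.comp Φ.symm.toLinearMap))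
                map_one' := ?_
                map_mul' := fun L L' => ?_ }, fun L => rfl⟩
      · rw [← LinearMap.toMatrix'_id]
        congr 1
        exact LinearMap.ext fun v => Φ.apply_symm_apply v
      · rw [← LinearMap.toMatrix'_comp]
        congr 1
        exact LinearMap.ext fun v => by simp [LinearEquiv.mul_apply]
    refine ⟨T.toHomUnits, fun L w => ?_⟩
    rw [MonoidHom.coe_toHomUnits, hT, LinearMap.toMatrix'_mulVec]
    simp
  have hIso : ∀ L : Pair F m ≃ₗ[F] Pair F m, (∀ y z, f₂ (L (y, z)).1 (L (y, z)).2 = f₂ y z) →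
      ψ L ∈ Cfsg.isometryGroup F Q := fun L hL v _ => by
    show Q ((ψ L : Matrix (Fin n) (Fin n) F) *ᵥ v) = Q v
    obtain ⟨⟨y, z⟩, rfl⟩ := Φ.surjective v
    rw [hψ, hQ y z, ← hL y z, ← hQ]
  have hcomm : ∀ a b, f₂ a b = f₂ b a := fun a b => by
    have := hf₂.skew a b
    linear_combination this - f₂ b a * h2
  obtain ⟨y0, y1, y2, y3, h01, h23, h02, h03, h12, h13⟩ := exists_two_pairs h2 hm hf₂
  obtain ⟨π, hπ⟩ : ∃ π : (Fin m → F) →ₗ[F] (Fin m → F), ∀ z, π z = f₂ z y1 • y0 + f₂ z y0 • y1 := by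
    refine ⟨{ toFun := fun z => f₂ z y1 • y0 + f₂ z y0 • y1
              map_add' := fun a b => ?_
              map_smul' := fun k a => ?_ }, fun z => rfl⟩
    · rw [hf₂.bilinear.add_left, hf₂.bilinear.add_left, add_smul, add_smul]; abel
    · rw [hf₂.bilinear.smul_left, hf₂.bilinear.smul_left, RingHom.id_apply, smul_add, smul_smul, smul_smul]
  have hππ : ∀ z, π (π z) = π z := fun z => by
    rw [hπ, hπ]
    simp [hf₂.bilinear.add_left, hf₂.bilinear.smul_left, hf₂.alternating, h01, hcomm y1 y0]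
  have hπadj : ∀ a b, f₂ (π a) b = f₂ a (π b) := fun a b => by
    rw [hπ, hπ, hf₂.bilinear.add_left, hf₂.bilinear.add_right, hf₂.bilinear.smul_left, hf₂.bilinear.smul_left,
      hf₂.bilinear.smul_right, hf₂.bilinear.smul_right, hcomm y0 b, hcomm y1 b]
    ring
  have hππf : ∀ a b, f₂ (π a) (π b) = f₂ (π a) b := fun a b => by rw [← hπadj, hππ]
  have hself : ∀ a, f₂ (π a) a = 0 := fun a => by
    rw [hπ, hf₂.bilinear.add_left, hf₂.bilinear.smul_left, hf₂.bilinear.smul_left, hcomm y0 a, hcomm y1 a]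
    linear_combination (f₂ a y1 * f₂ a y0) * h2
  have mk : ∀ (L L' : Pair F m →ₗ[F] Pair F m), (∀ w, L' (L w) = w) → (∀ w, L (L' w) = w) →
      ∃ E : Pair F m ≃ₗ[F] Pair F m, ∀ w, E w = L w := fun L L' hl hr =>
    ⟨LinearEquiv.ofLinear L L' (LinearMap.ext hr) (LinearMap.ext hl), fun w => rfl⟩
  have mkl : ∀ (f1 g1 f2 g2 : (Fin m → F) →ₗ[F] (Fin m → F)), ∃ L : Pair F m →ₗ[F] Pair F m,
      ∀ y z, L (y, z) = (f1 y + g1 z, f2 y + g2 z) := fun f1 g1 f2 g2 =>
    ⟨(f1.coprod g1).prod (f2.coprod g2), fun y z => rfl⟩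
  obtain ⟨θl, hθl⟩ := mkl 0 1 1 1
  obtain ⟨θl', hθl'⟩ := mkl 1 1 1 0
  obtain ⟨θ, hθ⟩ := mk θl θl'
    (by rintro ⟨y, z⟩; rw [hθl, hθl']; simp [add_assoc, add_comm, add_left_comm, hadd2, hadd3])
    (by rintro ⟨y, z⟩; rw [hθl', hθl]; simp [add_assoc, add_comm, add_left_comm, hadd2, hadd3])
  have hθv : ∀ y z, θ (y, z) = (z, y + z) := fun y z => by rw [hθ, hθl]; simp
  obtain ⟨gl, hgl⟩ := mkl (1 + π) π π 1
  obtain ⟨gl', hgl'⟩ := mkl 1 π π (1 + π)
  obtain ⟨g, hg⟩ := mk gl gl'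
    (by rintro ⟨y, z⟩; rw [hgl, hgl']; simp [map_add, hππ, add_assoc, add_comm, add_left_comm, hadd2, hadd3])
    (by rintro ⟨y, z⟩; rw [hgl', hgl]; simp [map_add, hππ, add_assoc, add_comm, add_left_comm, hadd2, hadd3])
  obtain ⟨sl, hsl⟩ := mkl (1 + π) π π (1 + π)
  obtain ⟨s, hs⟩ := mk sl sl
    (by rintro ⟨y, z⟩; rw [hsl, hsl]; simp [map_add, hππ, add_assoc, add_comm, add_left_comm, hadd2, hadd3])
    (by rintro ⟨y, z⟩; rw [hsl, hsl]; simp [map_add, hππ, add_assoc, add_comm, add_left_comm, hadd2, hadd3])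
  have hgv : ∀ y z, g (y, z) = (y + π y + π z, π y + z) := fun y z => by rw [hg, hgl]; simp [add_assoc]
  have hsv : ∀ y z, s (y, z) = (y + π y + π z, π y + (z + π z)) := fun y z => by rw [hs, hsl]; simp [add_assoc]
  have hπs : ∀ a b, f₂ a (π b) = f₂ (π a) b := fun a b => (hπadj a b).symm
  have hπc : ∀ a b, f₂ (π a) b = f₂ (π b) a := fun a b => by rw [hπadj, hcomm]
  have hgI : ψ g ∈ Cfsg.isometryGroup F Q := hIso g fun y z => by
    rw [hgv]
    simp only [hf₂.bilinear.add_left, hf₂.bilinear.add_right, hπs, hππ, hself, hπc z y]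
    linear_combination (f₂ (π y) z) * h2
  have hsI : ψ s ∈ Cfsg.isometryGroup F Q := hIso s fun y z => by
    rw [hsv]
    simp only [hf₂.bilinear.add_left, hf₂.bilinear.add_right, hπs, hππ, hself, hπc z y]
    linear_combination (2 * f₂ (π y) z) * h2
  obtain ⟨w, hw⟩ : ∃ w, w = ⁅g, s⁆ := ⟨_, rfl⟩
  have hwv : ∀ y z, w (y, z) = (y + π z, z + π y + π z) := by
    intro y z
    have hs2 : ∀ v, s (s v) = v := by
      rintro ⟨y, z⟩
      rw [hsv, hsv]
      simp [map_add, hππ, add_assoc, add_comm, add_left_comm, hadd2, hadd3]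
    have hsi : s⁻¹ = s := LinearEquiv.ext fun v => by
      rw [show s⁻¹ v = s.symm v from rfl, LinearEquiv.symm_apply_eq, hs2]
    have hgi : ∀ v : Pair F m, g⁻¹ v = (v.1 + π v.2, π v.1 + (v.2 + π v.2)) := by
      rintro ⟨y, z⟩
      rw [show g⁻¹ (y, z) = g.symm (y, z) from rfl, LinearEquiv.symm_apply_eq, hgv]
      simp [map_add, hππ, add_assoc, add_comm, add_left_comm, hadd2, hadd3]
    rw [hw, commutatorElement_def, hsi, LinearEquiv.mul_apply, LinearEquiv.mul_apply, LinearEquiv.mul_apply, hsv, hgi,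
      hsv, hgv]
    simp [map_add, hππ, add_assoc, add_comm, add_left_comm, hadd2, hadd3]
  have hΩ : ∀ a b, ψ a ∈ Cfsg.isometryGroup F Q → ψ b ∈ Cfsg.isometryGroup F Q → ψ ⁅a, b⁆ ∈ Cfsg.Geo.omegaGL Q :=
    fun a b ha hb => Subgroup.mem_map.2 ⟨⁅(⟨ψ a, ha⟩ : Cfsg.isometryGroup F Q), ⟨ψ b, hb⟩⁆,
      Subgroup.commutator_mem_commutator (Subgroup.mem_top _) (Subgroup.mem_top _), by
        rw [map_commutatorElement, map_commutatorElement]; rfl⟩
  obtain ⟨tl, htl⟩ : ∃ L : Pair F m →ₗ[F] Pair F m, ∀ y z, L (y, z) = (y + (f₂ z y0 • y2 + f₂ z y2 • y0), z) := by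
    obtain ⟨μ, hμ⟩ : ∃ μ : (Fin m → F) →ₗ[F] (Fin m → F), ∀ z, μ z = f₂ z y0 • y2 + f₂ z y2 • y0 := by
      refine ⟨{ toFun := fun z => f₂ z y0 • y2 + f₂ z y2 • y0
                map_add' := fun a b => ?_
                map_smul' := fun k a => ?_ }, fun z => rfl⟩
      · rw [hf₂.bilinear.add_left, hf₂.bilinear.add_left, add_smul, add_smul]; abel
      · rw [hf₂.bilinear.smul_left, hf₂.bilinear.smul_left, RingHom.id_apply, smul_add, smul_smul, smul_smul]
    obtain ⟨L, hL⟩ := mkl 1 μ 0 1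
    exact ⟨L, fun y z => by rw [hL]; simp [hμ]⟩
  obtain ⟨ll, hll⟩ : ∃ L : Pair F m →ₗ[F] Pair F m, ∀ y z, L (y, z) = (y + f₂ y y3 • y1, z + f₂ z y1 • y3) := by
    obtain ⟨φ, hφ⟩ : ∃ φ : (Fin m → F) → (Fin m → F) →ₗ[F] F, ∀ a z, φ a z = f₂ z a :=
      ⟨fun a => { toFun := fun z => f₂ z a
                  map_add' := fun u v => hf₂.bilinear.add_left u v a
                  map_smul' := fun k u => hf₂.bilinear.smul_left k u a }, fun a z => rfl⟩
    obtain ⟨L, hL⟩ := mkl (1 + (φ y3).smulRight y1) 0 0 (1 + (φ y1).smulRight y3)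
    exact ⟨L, fun y z => by rw [hL]; simp [hφ]⟩
  have htl2 : ∀ v, tl (tl v) = v := by
    rintro ⟨y, z⟩; rw [htl, htl]; simp [add_assoc, hadd2]
  have hll2 : ∀ v, ll (ll v) = v := by
    rintro ⟨y, z⟩
    rw [hll, hll]
    simp [hf₂.bilinear.add_left, hf₂.bilinear.smul_left, h13, hcomm y3 y1, add_assoc, hadd2]
  obtain ⟨T, hTe⟩ := mk tl tl htl2 htl2
  obtain ⟨L, hLe⟩ := mk ll ll hll2 hll2
  have hTI : ψ T ∈ Cfsg.isometryGroup F Q := hIso T fun y z => by
    rw [hTe, htl]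
    simp only [hf₂.bilinear.add_left, hf₂.bilinear.smul_left, hcomm y2 z, hcomm y0 z]
    linear_combination (f₂ z y0 * f₂ z y2) * h2
  have hLI : ψ L ∈ Cfsg.isometryGroup F Q := hIso L fun y z => by
    rw [hLe, hll]
    simp only [hf₂.bilinear.add_left, hf₂.bilinear.add_right, hf₂.bilinear.smul_left, hf₂.bilinear.smul_right, h13,
      hcomm y1 z]
    linear_combination (f₂ z y1 * f₂ y y3) * h2
  obtain ⟨h, hh⟩ : ∃ h, h = ⁅T, L⁆ := ⟨_, rfl⟩
  have hhv : ∀ y z, h (y, z) = (y + π z, z) := by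
    intro y z
    have hTi : T⁻¹ = T := LinearEquiv.ext fun v => by
      rw [show T⁻¹ v = T.symm v from rfl, LinearEquiv.symm_apply_eq, hTe, hTe, htl2]
    have hLi : L⁻¹ = L := LinearEquiv.ext fun v => by
      rw [show L⁻¹ v = L.symm v from rfl, LinearEquiv.symm_apply_eq, hLe, hLe, hll2]
    rw [hh, commutatorElement_def, hTi, hLi, LinearEquiv.mul_apply, LinearEquiv.mul_apply, LinearEquiv.mul_apply,
      hLe (y, z), hll, hTe, htl, hLe, hll, hTe, htl, hπ]
    refine Prod.ext ?_ ?_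
    · simp [hf₂.bilinear.add_left, hf₂.bilinear.smul_left, h03, h13, hcomm y2 y1, h12, hcomm y3 y0, hcomm y3 y1,
        hcomm y3 y2, h23, h02, hcomm y2 y0, hf₂.alternating]
      funext i
      simp
      linear_combination (f₂ y y3 * y1 i + f₂ z y0 * y2 i + f₂ z y2 * y0 i + f₂ z y1 * y0 i) * h2
    · simp [hf₂.bilinear.add_left, hf₂.bilinear.smul_left, h13, hcomm y3 y1, add_assoc, hadd2]
  obtain ⟨Z, hZ⟩ : ∃ Z, Z = Subgroup.zpowers (ψ θ) := ⟨_, rfl⟩
  obtain ⟨S, hS⟩ : ∃ S, S = Subgroup.normalizer (Z : Set (GL (Fin n) F)) := ⟨_, rfl⟩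
  have hSmem : ∀ x, x * ψ θ * x⁻¹ ∈ Z → x⁻¹ * ψ θ * x ∈ Z → x ∈ S := by
    intro x h1 h2'
    rw [hS, Subgroup.mem_normalizer_iff]
    intro v
    constructor
    · intro hv
      rw [hZ] at hv
      obtain ⟨j, rfl⟩ := hv
      rw [← MulAut.conj_apply, map_zpow, MulAut.conj_apply]
      exact zpow_mem h1 j
    · intro hv
      rw [hZ] at hv
      obtain ⟨j, hj⟩ := hv
      beta_reduce at hj
      have : v = x⁻¹ * ψ θ ^ j * x := by rw [hj]; group
      rw [this]
      have e : x⁻¹ * ψ θ ^ j * x = (x⁻¹ * ψ θ * x) ^ j := by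
        have := (map_zpow (MulAut.conj x⁻¹) (ψ θ) j)
        simpa [MulAut.conj_apply] using this
      rw [e]
      exact zpow_mem h2' j
  have hM : ∀ x ∈ Cfsg.Geo.tensorProductSubgroup 2 m e P, x * ψ θ * x⁻¹ ∈ Z := by
    intro x hx
    obtain ⟨A, B, hA, -, hAB⟩ := tensor_mem e P hx
    have hxv : ∀ y z, (x : Matrix (Fin n) (Fin n) F) *ᵥ Φ (y, z) =
        Φ (A ![1, 0] 0 • B y + A ![0, 1] 0 • B z, A ![1, 0] 1 • B y + A ![0, 1] 1 • B z) := by
      intro y z
      have hsplit : ((y, z) : Pair F m) = ((![1, 0] : Fin 2 → F) 0 • y, (![1, 0] : Fin 2 → F) 1 • y) +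
          ((![0, 1] : Fin 2 → F) 0 • z, (![0, 1] : Fin 2 → F) 1 • z) := by simp
      rw [hsplit, map_add, mulVec_add, ← hΦτ, ← hΦτ, hτ, hτ, hAB, hAB]
      rw [← hτ, ← hτ, hΦτ, hΦτ, ← map_add]
      rfl
    have key : (x * ψ θ = ψ θ * x) ∨ (x * ψ θ = ψ (θ * θ) * x) := by
      have hext : ∀ L, (∀ y z, (x : Matrix (Fin n) (Fin n) F) *ᵥ Φ (θ (y, z)) =
          Φ (L (A ![1, 0] 0 • B y + A ![0, 1] 0 • B z, A ![1, 0] 1 • B y + A ![0, 1] 1 • B z))) →
          x * ψ θ = ψ L * x := by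
        intro L hL
        refine Units.ext (Matrix.ext_of_mulVec_single fun i => ?_)
        obtain ⟨⟨y, z⟩, hyz⟩ := Φ.surjective (Pi.single i 1)
        rw [← hyz, Units.val_mul, Units.val_mul, ← mulVec_mulVec, ← mulVec_mulVec, hψ, hxv y z, hψ]
        exact hL y z
      have hne : ¬ (A ![1, 0] 0 = 0 ∧ A ![1, 0] 1 = 0) ∧ ¬ (A ![0, 1] 0 = 0 ∧ A ![0, 1] 1 = 0) ∧
          ¬ (A ![1, 0] 0 = A ![0, 1] 0 ∧ A ![1, 0] 1 = A ![0, 1] 1) := by
        refine ⟨fun h' => ?_, fun h' => ?_, fun h' => ?_⟩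
        · have e : A ![1, 0] = 0 := funext (Fin.forall_fin_two.2 h')
          have := congrFun (hA (e.trans (map_zero A).symm)) 0; simp at this
        · have e : A ![0, 1] = 0 := funext (Fin.forall_fin_two.2 h')
          have := congrFun (hA (e.trans (map_zero A).symm)) 1; simp at this
        · have := congrFun (hA (funext (Fin.forall_fin_two.2 h'))) 0; simp at this
      obtain ⟨hn1, hn2, hn3⟩ := hne
      rcases hF (A ![1, 0] 0) with a | a <;> rcases hF (A ![1, 0] 1) with b | b <;>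
        rcases hF (A ![0, 1] 0) with u | u <;> rcases hF (A ![0, 1] 1) with v | v
      all_goals first
        | (simp only [a, b, and_self, not_true_eq_false] at hn1; done)
        | (simp only [u, v, and_self, not_true_eq_false] at hn2; done)
        | (simp only [a, b, u, v, and_self, not_true_eq_false] at hn3; done)
        | (refine Or.inl (hext _ fun y z => ?_)
           rw [hθv, hxv, hθv]
           simp [a, b, u, v, add_assoc, add_comm, add_left_comm, hadd2, hadd3]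
           done)
        | (refine Or.inr (hext _ fun y z => ?_)
           rw [hθv, hxv, LinearEquiv.mul_apply, hθv, hθv]
           simp [a, b, u, v, add_assoc, add_comm, add_left_comm, hadd2, hadd3]
           done)
    rcases key with k | k <;> rw [k, mul_inv_cancel_right, hZ]
    · exact Subgroup.mem_zpowers _
    · rw [map_mul]; exact mul_mem (Subgroup.mem_zpowers _) (Subgroup.mem_zpowers _)
  have hle : Cfsg.Geo.tensorProductSubgroup 2 m e P ⊓ Cfsg.Geo.omegaGL Q ≤ S ⊓ Cfsg.Geo.omegaGL Q := by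
    rintro x ⟨hx, hxI⟩
    refine ⟨hSmem x (hM x hx) ?_, hxI⟩
    simpa using hM x⁻¹ (inv_mem hx)
  have hπ0' : π y0 = y0 := by rw [hπ, h01, hf₂.alternating]; simp
  have hπ2 : π y2 = 0 := by rw [hπ, hcomm y2 y1, h12, hcomm y2 y0, h02]; simp
  have hy0 : y0 ≠ 0 := fun h0 => by
    have := hf₂.bilinear.smul_left 0 y0 y1
    rw [zero_smul, zero_mul, ← h0] at this
    rw [h01] at this
    exact one_ne_zero this
  have hy2 : y2 ≠ 0 := fun h0 => by
    have := hf₂.bilinear.smul_left 0 y2 y3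
    rw [zero_smul, zero_mul, ← h0] at this
    rw [h23] at this
    exact one_ne_zero this
  refine ⟨S ⊓ Cfsg.Geo.omegaGL Q, lt_of_le_of_ne hle fun heq => ?_, lt_of_le_of_ne inf_le_right fun heq => ?_⟩
  · have hwS : ψ w ∈ S := by
      have hc : w * θ = θ * w := LinearEquiv.ext fun ⟨y, z⟩ => by
        rw [LinearEquiv.mul_apply, LinearEquiv.mul_apply, hθv, hwv, hwv, hθv]
        simp [map_add, add_assoc, add_comm, add_left_comm, hadd2, hadd3]
      have hc' : ψ w * ψ θ = ψ θ * ψ w := by rw [← map_mul, hc, map_mul]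
      refine hSmem _ ?_ ?_
      · rw [hc', mul_inv_cancel_right, hZ]; exact Subgroup.mem_zpowers _
      · rw [mul_assoc, ← hc', inv_mul_cancel_left, hZ]; exact Subgroup.mem_zpowers _
    have hwM := (heq ▸ Subgroup.mem_inf.2 ⟨hwS, hw ▸ hΩ g s hgI hsI⟩ :
      ψ w ∈ Cfsg.Geo.tensorProductSubgroup 2 m e P ⊓ Cfsg.Geo.omegaGL Q)
    obtain ⟨A, B, hA, hB, hAB⟩ := tensor_mem e P hwM.1
    have hval : ∀ y, Φ (A ![1, 0] 0 • B y, A ![1, 0] 1 • B y) = Φ (y, π y) := fun y => by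
      have h1 := hAB ![1, 0] y
      rw [← hτ, ← hτ, hΦτ, hΦτ, hψ, hwv] at h1
      simpa using h1.symm
    have h0 := Prod.ext_iff.1 (Φ.injective (hval y0))
    have h2' := Prod.ext_iff.1 (Φ.injective (hval y2))
    rw [hπ2] at h2'
    have hb : B y2 ≠ 0 := fun hb => hy2 (hB (hb.trans (map_zero B).symm))
    have ha1 : A ![1, 0] 1 = 0 := (smul_eq_zero.1 h2'.2).resolve_right hb
    rw [ha1, zero_smul, hπ0'] at h0
    exact hy0 h0.2.symm
  · have hhI : ψ h ∈ Cfsg.Geo.omegaGL Q := hh ▸ hΩ T L hTI hLI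
    have hhS : ψ h ∈ S := (heq.symm ▸ hhI : ψ h ∈ S ⊓ Cfsg.Geo.omegaGL Q).1
    rw [hS, Subgroup.mem_normalizer_iff] at hhS
    have hcz := (hhS (ψ θ)).1 (by rw [hZ]; exact Subgroup.mem_zpowers _)
    rw [hZ, ← map_inv, ← map_mul, ← map_mul] at hcz
    have h3 : θ ^ 3 = 1 := LinearEquiv.ext fun ⟨y, z⟩ => by
      rw [pow_succ, pow_two, LinearEquiv.mul_apply, LinearEquiv.mul_apply, hθv, hθv, hθv]
      simp [add_assoc, add_comm, add_left_comm, hadd2, hadd3]
    obtain ⟨j, hj⟩ := hcz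
    beta_reduce at hj
    have h3' : ψ θ ^ (3 : ℤ) = 1 := by
      rw [show (3 : ℤ) = ((3 : ℕ) : ℤ) from rfl, zpow_natCast, ← map_pow, h3, map_one]
    rw [← Int.emod_add_mul_ediv j 3, _root_.zpow_add, _root_.zpow_mul, h3', _root_.one_zpow, mul_one] at hj
    have hhi : ∀ y z, h⁻¹ (y, z) = (y + π z, z) := fun y z => by
      rw [show h⁻¹ (y, z) = h.symm (y, z) from rfl, LinearEquiv.symm_apply_eq, hhv, add_assoc, hadd2, add_zero]
    have hv : ∀ y z, ((ψ θ ^ (j % 3) : GL (Fin n) F) : Matrix (Fin n) (Fin n) F) *ᵥ Φ (y, z) =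
        Φ (h (θ (h⁻¹ (y, z)))) := fun y z => by
      rw [hj, hψ, LinearEquiv.mul_apply, LinearEquiv.mul_apply]
    have hz3 : j % 3 = 0 ∨ j % 3 = 1 ∨ j % 3 = 2 := by omega
    rcases hz3 with k | k | k
    · have := hv y0 0
      rw [k, zpow_zero, Units.val_one, one_mulVec, hhi, hθv, hhv] at this
      have := congrArg Prod.snd (Φ.injective this)
      simp at this
      exact hy0 this.symm
    · have := hv y0 0
      rw [k, zpow_one, hψ, hhi, hθv, hθv, hhv] at this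
      have := congrArg Prod.fst (Φ.injective this)
      simp [hπ0'] at this
      exact hy0 this.symm
    · have := hv 0 y2
      rw [k, show (2 : ℤ) = ((2 : ℕ) : ℤ) from rfl, zpow_natCast, pow_two, Units.val_mul, ← mulVec_mulVec, hψ, hψ, hhi,
        hθv] at this
      have := congrArg Prod.snd (Φ.injective this)
      simp [hπ2, hθv, hhv, hadd2] at this
      exact hy2 this.symm

end CfsgLib.Classical22.TensorPair
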