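/-
Elements of prime order of `PSL_n` and stabilisers of tensor decompositions with different factors.
-/
import Cfsg.Agent.Lib.Classical22.InvolPairing
import Cfsg.Agent.Lib.Classical22.PrimeOrderWitness
import Cfsg.Agent.Lib.Classical22.PrimeOrderSubspaces
import Cfsg.Agent.Lib.Classical.GLOrder

set_option autoImplicit false

namespace CfsgLib.Classical22.TensorPrime

open Matrix Kronecker CfsgLib.Classical22.Monomial CfsgLib.Classical22.InvolClasses

variable {F : Type*} [Field F]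

theorem rank_one_kron {a b : ℕ} (M : Matrix (Fin b) (Fin b) F) :
    ((1 : Matrix (Fin a) (Fin a) F) ⊗ₖ M).rank = a * M.rank := by
  obtain ⟨Φ, hΦ⟩ : ∃ Φ : (Fin a → LinearMap.range M.mulVecLin) →ₗ[F] (Fin a × Fin b → F),
      ∀ w p, Φ w p = (w p.1 : Fin b → F) p.2 :=
    ⟨LinearMap.pi fun p => (LinearMap.proj p.2).comp ((LinearMap.range M.mulVecLin).subtype.comp (LinearMap.proj p.1)),
      fun w p => rfl⟩
  have hinj : Function.Injective Φ := fun w w' h => by
    funext i
    refine Subtype.ext (funext fun j => ?_)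
    rw [← hΦ w (i, j), ← hΦ w' (i, j), h]
  have key : ∀ v : Fin a × Fin b → F, ∀ p,
      ((1 : Matrix (Fin a) (Fin a) F) ⊗ₖ M *ᵥ v) p = (M *ᵥ fun j => v (p.1, j)) p.2 := fun v p => by
    simp [Matrix.mulVec, dotProduct, Fintype.sum_prod_type, Matrix.kroneckerMap_apply, Matrix.one_apply, ite_mul]
  have hrange : LinearMap.range ((1 : Matrix (Fin a) (Fin a) F) ⊗ₖ M).mulVecLin = LinearMap.range Φ := by
    ext v
    constructor
    · rintro ⟨u, rfl⟩
      exact ⟨fun i => ⟨M *ᵥ fun j => u (i, j), ⟨_, rfl⟩⟩, funext fun p => (hΦ _ _).trans (key u p).symm⟩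
    · rintro ⟨w, rfl⟩
      choose u hu using fun i => (w i).2
      refine ⟨fun p => u p.1 p.2, funext fun p => ?_⟩
      rw [hΦ, Matrix.mulVecLin_apply, key, ← hu p.1]
      rfl
  rw [Matrix.rank, hrange, LinearMap.finrank_range_of_inj hinj, Module.finrank_pi_fintype, Finset.sum_const,
    Finset.card_univ, Fintype.card_fin, smul_eq_mul]
  rfl

theorem exists_noneigen {a : ℕ} (A : Matrix (Fin a) (Fin a) F) (h : ∀ l : F, A ≠ l • 1) :
    ∃ v : Fin a → F, v ≠ 0 ∧ ∀ l : F, A *ᵥ v ≠ l • v := by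
  by_contra! hc
  rcases Nat.eq_zero_or_pos a with rfl | ha
  · exact h 0 (Subsingleton.elim _ _)
  obtain ⟨l₀, hl₀⟩ := hc (Pi.single ⟨0, ha⟩ 1) (by simp)
  refine h l₀ (Matrix.ext_of_mulVec_single fun i => ?_)
  rw [smul_mulVec, one_mulVec]
  by_cases hi : i = ⟨0, ha⟩
  · rw [hi, hl₀]
  obtain ⟨l₁, hl₁⟩ := hc (Pi.single i 1) (by simp)
  obtain ⟨l₂, hl₂⟩ := hc (Pi.single ⟨0, ha⟩ 1 + Pi.single i 1) (by
    intro h0
    simpa [hi] using congrFun h0 i)
  rw [mulVec_add, hl₀, hl₁] at hl₂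
  have h0 := congrFun hl₂ ⟨0, ha⟩
  have h1 := congrFun hl₂ i
  simp [hi, Ne.symm hi] at h0 h1
  rw [hl₁, h1, h0]

/-- The two possibilities for an element of a tensor stabiliser. -/
theorem member {n a b : ℕ} (e : Fin n ≃ Fin a × Fin b) (P : GL (Fin n) F) {g : GL (Fin n) F}
    (hg : g ∈ Cfsg.Geo.tensorProductSubgroup a b e P) (ha : 0 < a) (hb : 0 < b) {r : ℕ}
    (hgr : (g : Matrix (Fin n) (Fin n) F) ^ r = 1) :
    (∃ M : Matrix (Fin b) (Fin b) F, M ^ r = 1 ∧
        ∀ c : F, ((g : Matrix (Fin n) (Fin n) F) - c • 1).rank = a * (M - c • 1).rank) ∨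
      ((∀ c : F, b ≤ ((g : Matrix (Fin n) (Fin n) F) - c • 1).rank) ∧
        ∃ (A : Matrix (Fin a) (Fin a) F) (μ : F), (∀ l : F, A ≠ l • 1) ∧ μ ≠ 0 ∧ A ^ r = μ • 1) := by
  obtain ⟨_, ⟨z, ⟨A, B, hz⟩, rfl⟩, rfl⟩ := hg
  have hval : ((MulAut.conj P) ((Cfsg.Geo.glReindex e.symm) z) : GL (Fin n) F).1 =
      (P : Matrix (Fin n) (Fin n) F) *
        Matrix.reindexAlgEquiv F F e.symm ((A : Matrix (Fin a) (Fin a) F) ⊗ₖ (B : Matrix (Fin b) (Fin b) F)) *
        ((P⁻¹ : GL (Fin n) F) : Matrix (Fin n) (Fin n) F) := by rw [← hz]; rfl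
  simp only [MulEquiv.coe_toMonoidHom, hval] at hgr ⊢
  obtain ⟨K, hK⟩ : ∃ K, K = (A : Matrix (Fin a) (Fin a) F) ⊗ₖ (B : Matrix (Fin b) (Fin b) F) := ⟨_, rfl⟩
  rw [← hK] at hgr ⊢
  have hKr : K ^ r = 1 := by
    rw [Units.conj_pow, ← map_pow] at hgr
    refine (Matrix.reindexAlgEquiv F F e.symm).injective ?_
    rw [map_one]
    have h := congrArg (fun X => ((P⁻¹ : GL (Fin n) F) : Matrix (Fin n) (Fin n) F) * X * (P : Matrix (Fin n) (Fin n) F)) hgr
    simpa [mul_assoc] using h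
  have hrank : ∀ c : F, ((P : Matrix (Fin n) (Fin n) F) * Matrix.reindexAlgEquiv F F e.symm K *
      ((P⁻¹ : GL (Fin n) F) : Matrix (Fin n) (Fin n) F) - c • 1).rank = (K - c • 1).rank := by
    intro c
    have e1 : (P : Matrix (Fin n) (Fin n) F) * Matrix.reindexAlgEquiv F F e.symm K *
        ((P⁻¹ : GL (Fin n) F) : Matrix (Fin n) (Fin n) F) - c • 1 =
        (P : Matrix (Fin n) (Fin n) F) * Matrix.reindexAlgEquiv F F e.symm (K - c • 1) *
        ((P⁻¹ : GL (Fin n) F) : Matrix (Fin n) (Fin n) F) := by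
      rw [map_sub, map_smul, map_one, mul_sub, sub_mul, mul_smul_comm, mul_one, smul_mul_assoc, Units.mul_inv]
    rw [e1, Matrix.rank_mul_eq_left_of_isUnit_det _ _ ((Matrix.isUnit_iff_isUnit_det _).1 (P⁻¹).isUnit),
      Matrix.rank_mul_eq_right_of_isUnit_det _ _ ((Matrix.isUnit_iff_isUnit_det _).1 P.isUnit),
      Matrix.reindexAlgEquiv_apply, Matrix.rank_reindex]
  simp only [hrank]
  by_cases hA : ∃ l : F, (A : Matrix (Fin a) (Fin a) F) = l • 1
  · left
    obtain ⟨l, hl⟩ := hA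
    have hK1 : K = (1 : Matrix (Fin a) (Fin a) F) ⊗ₖ (l • (B : Matrix (Fin b) (Fin b) F)) := by
      rw [hK, hl, Matrix.smul_kronecker, Matrix.kronecker_smul]
    refine ⟨l • (B : Matrix (Fin b) (Fin b) F), ?_, fun c => ?_⟩
    · obtain ⟨M, hM⟩ : ∃ M, M = l • (B : Matrix (Fin b) (Fin b) F) := ⟨_, rfl⟩
      rw [← hM] at hK1 ⊢
      have hpow : ∀ k : ℕ, K ^ k = (1 : Matrix (Fin a) (Fin a) F) ⊗ₖ (M ^ k) := by
        intro k
        induction k with
        | zero => rw [pow_zero, pow_zero, Matrix.one_kronecker_one]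
        | succ k ih => rw [pow_succ, pow_succ, ih, hK1, ← Matrix.mul_kronecker_mul, one_mul]
      have h := (hpow r).symm.trans hKr
      ext i j
      have := congrFun (congrFun h (⟨0, ha⟩, i)) (⟨0, ha⟩, j)
      simpa [Matrix.kroneckerMap_apply, Matrix.one_apply] using this
    · rw [← rank_one_kron, hK1]
      congr 1
      rw [show (c • 1 : Matrix (Fin a × Fin b) (Fin a × Fin b) F) =
        (1 : Matrix (Fin a) (Fin a) F) ⊗ₖ (c • (1 : Matrix (Fin b) (Fin b) F)) by
          rw [Matrix.kronecker_smul, Matrix.one_kronecker_one]]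
      ext i j
      simp [Matrix.kroneckerMap_apply, mul_sub]
  · right
    push Not at hA
    refine ⟨fun c => ?_, A, ?_⟩
    · obtain ⟨v, hv, hvA⟩ := exists_noneigen _ hA
      obtain ⟨T, hT⟩ : ∃ T : (Fin b → F) →ₗ[F] (Fin a × Fin b → F), ∀ w p, T w p = v p.1 * w p.2 :=
        ⟨LinearMap.pi fun p => v p.1 • LinearMap.proj p.2, fun w p => rfl⟩
      have hinj : Function.Injective ((K - c • 1).mulVecLin ∘ₗ T) := by
        rw [← LinearMap.ker_eq_bot, LinearMap.ker_eq_bot']
        intro w hw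
        by_contra hw0
        obtain ⟨j, hj⟩ := Function.ne_iff.1 hw0
        have key : ∀ i j, ((A : Matrix (Fin a) (Fin a) F) *ᵥ v) i * ((B : Matrix (Fin b) (Fin b) F) *ᵥ w) j =
            c * (v i * w j) := by
          intro i j
          have h := congrFun hw (i, j)
          rw [LinearMap.comp_apply, Matrix.mulVecLin_apply, sub_mulVec, smul_mulVec, one_mulVec, Pi.sub_apply,
            Pi.smul_apply, smul_eq_mul, hT, Pi.zero_apply, sub_eq_zero] at h
          rw [← h, hK]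
          simp only [Matrix.mulVec, dotProduct, Matrix.kroneckerMap_apply, Fintype.sum_prod_type, hT, Finset.sum_mul_sum]
          exact Finset.sum_congr rfl fun i _ => Finset.sum_congr rfl fun j _ => by ring
        obtain ⟨i, hi⟩ := Function.ne_iff.1 hv
        obtain ⟨l, hl⟩ : ∃ l, ((B : Matrix (Fin b) (Fin b) F) *ᵥ w) l ≠ 0 := Function.ne_iff.1 fun h =>
          hw0 (Matrix.mulVec_injective_iff_isUnit.2 B.isUnit (by rw [h, mulVec_zero]; rfl))
        refine hvA (c * w l / ((B : Matrix (Fin b) (Fin b) F) *ᵥ w) l) (funext fun i => ?_)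
        rw [Pi.smul_apply, smul_eq_mul]
        field_simp
        linear_combination key i l
      calc b = Module.finrank F (LinearMap.range ((K - c • 1).mulVecLin ∘ₗ T)) := by
            rw [LinearMap.finrank_range_of_inj hinj, Module.finrank_fin_fun]
        _ ≤ (K - c • 1).rank := Submodule.finrank_mono (LinearMap.range_comp_le_range _ _)
    · have hpow : ∀ k : ℕ, K ^ k = ((A : Matrix (Fin a) (Fin a) F) ^ k) ⊗ₖ ((B : Matrix (Fin b) (Fin b) F) ^ k) := by
        intro k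
        induction k with
        | zero => rw [pow_zero, pow_zero, pow_zero, Matrix.one_kronecker_one]
        | succ k ih => rw [pow_succ, pow_succ, pow_succ, ih, hK, ← Matrix.mul_kronecker_mul]
      have h := (hpow r).symm.trans hKr
      obtain ⟨i₀, j₀, hij⟩ : ∃ i j, ((B : Matrix (Fin b) (Fin b) F) ^ r) i j ≠ 0 := by
        by_contra! h0
        have : ((B : Matrix (Fin b) (Fin b) F) ^ r) = 0 := Matrix.ext h0
        rw [this, Matrix.kronecker_zero] at h
        simpa using congrFun (congrFun h (⟨0, ha⟩, ⟨0, hb⟩)) (⟨0, ha⟩, ⟨0, hb⟩)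
      refine ⟨(1 : Matrix (Fin b) (Fin b) F) i₀ j₀ / ((B : Matrix (Fin b) (Fin b) F) ^ r) i₀ j₀, hA, ?_, ?_⟩
      · intro h0
        have h' := congrFun (congrFun h (⟨0, ha⟩, i₀)) (⟨0, ha⟩, j₀)
        have h1 : ∀ i j, ((A : Matrix (Fin a) (Fin a) F) ^ r) i j * ((B : Matrix (Fin b) (Fin b) F) ^ r) i₀ j₀ =
            (1 : Matrix (Fin a) (Fin a) F) i j * (1 : Matrix (Fin b) (Fin b) F) i₀ j₀ := fun i j => by
          have := congrFun (congrFun h (i, i₀)) (j, j₀)
          rw [Matrix.kroneckerMap_apply] at this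
          rw [this]
          by_cases hi : i = j <;> by_cases hl : i₀ = j₀ <;> simp [hi, hl, Matrix.one_apply]
        rw [div_eq_zero_iff] at h0
        have hz0 : ((A : Matrix (Fin a) (Fin a) F) ^ r) = 0 := Matrix.ext fun i j => by
          have := h1 i j
          rw [h0.resolve_right hij, mul_zero] at this
          exact (mul_eq_zero.1 this).resolve_right hij
        haveI : Nonempty (Fin a) := ⟨⟨0, ha⟩⟩
        have := (A ^ r : GL (Fin a) F).ne_zero
        rw [Units.val_pow_eq_pow_val] at this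
        exact this hz0
      · ext i j
        have := congrFun (congrFun h (i, i₀)) (j, j₀)
        rw [Matrix.kroneckerMap_apply] at this
        rw [Matrix.smul_apply, smul_eq_mul, div_mul_eq_mul_div, eq_div_iff hij, this]
        by_cases hi : i = j <;> by_cases hl : i₀ = j₀ <;> simp [hi, hl, Matrix.one_apply]

/-- Conjugates by elements of determinant one of a tensor element. -/
theorem not_mem_of_ranks [Fintype F] {n a b : ℕ} (e : Fin n ≃ Fin a × Fin b) (P : GL (Fin n) F) (ha : 0 < a) (hb : 0 < b) {r : ℕ}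
    {X : Matrix (Fin n) (Fin n) F} (hXr : X ^ r = 1) (x : GL (Fin n) F) (hx : (x : Matrix (Fin n) (Fin n) F) = X)
    (hscal : ∀ M : Matrix (Fin b) (Fin b) F, M ^ r = 1 → ∃ c : F, (X - c • 1).rank ≠ a * (M - c • 1).rank)
    (hnon : ∀ (A : Matrix (Fin a) (Fin a) F) (μ : F), (∀ l : F, A ≠ l • 1) → μ ≠ 0 → A ^ r = μ • 1 →
      ∃ c : F, (X - c • 1).rank < b) (g : GL (Fin n) F) :
    g⁻¹ * x * g ∉ Cfsg.Geo.tensorProductSubgroup a b e P := by
  intro hmem
  have hr : ∀ c : F, ((g⁻¹ * x * g : GL (Fin n) F) : Matrix (Fin n) (Fin n) F) - c • 1 =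
      ((g⁻¹ : GL (Fin n) F) : Matrix (Fin n) (Fin n) F) * (X - c • 1) * (g : Matrix (Fin n) (Fin n) F) := fun c => by
    rw [Units.val_mul, Units.val_mul, hx, mul_sub, sub_mul, mul_smul_comm, mul_one, smul_mul_assoc, Units.inv_mul]
  have hrk : ∀ c : F, (((g⁻¹ * x * g : GL (Fin n) F) : Matrix (Fin n) (Fin n) F) - c • 1).rank = (X - c • 1).rank :=
    fun c => by
      rw [hr, Matrix.rank_mul_eq_left_of_isUnit_det _ _ ((Matrix.isUnit_iff_isUnit_det _).1 g.isUnit),
        Matrix.rank_mul_eq_right_of_isUnit_det _ _ ((Matrix.isUnit_iff_isUnit_det _).1 (g⁻¹).isUnit)]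
  rcases member e P hmem ha hb (r := r) (by rw [Units.val_mul, Units.val_mul, hx, Units.conj_pow', hXr]; simp) with
    ⟨M, hM, h⟩ | ⟨h, A, μ, hA, hμ, hAr⟩
  · obtain ⟨c, hc⟩ := hscal M hM
    exact hc (by rw [← hrk]; exact h c)
  · obtain ⟨c, hc⟩ := hnon A μ hA hμ hAr
    have := h c
    rw [hrk] at this
    omega

/-- Being conjugate to a reindexed Kronecker product puts an element in a conjugate of the stabiliser. -/
theorem mem_of_kron {n a b : ℕ} (e e' : Fin n ≃ Fin a × Fin b) (P : GL (Fin n) F) {g Q : GL (Fin n) F}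
    (A : GL (Fin a) F) (B : GL (Fin b) F)
    (h : ((Q⁻¹ * g * Q : GL (Fin n) F) : Matrix (Fin n) (Fin n) F) =
      ((A : Matrix (Fin a) (Fin a) F) ⊗ₖ (B : Matrix (Fin b) (Fin b) F)).submatrix e' e') :
    ∃ R : GL (Fin n) F, R⁻¹ * g * R ∈ Cfsg.Geo.tensorProductSubgroup a b e P := by
  obtain ⟨τ, hτ⟩ : ∃ τ : Equiv.Perm (Fin n), τ = e.trans e'.symm := ⟨_, rfl⟩
  obtain ⟨T, hT⟩ : ∃ T : GL (Fin n) F, T = mono τ 1 := ⟨_, rfl⟩
  refine ⟨Q * T * P⁻¹, ?_⟩
  obtain ⟨z, hz⟩ : ∃ z : GL (Fin a × Fin b) F, (z : Matrix (Fin a × Fin b) (Fin a × Fin b) F) =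
      (A : Matrix (Fin a) (Fin a) F) ⊗ₖ (B : Matrix (Fin b) (Fin b) F) :=
    have h1 : ((A : Matrix (Fin a) (Fin a) F) ⊗ₖ (B : Matrix (Fin b) (Fin b) F)) *
        (((A⁻¹ : GL (Fin a) F) : Matrix (Fin a) (Fin a) F) ⊗ₖ ((B⁻¹ : GL (Fin b) F) : Matrix (Fin b) (Fin b) F)) = 1 :=
      by rw [← Matrix.mul_kronecker_mul, Units.mul_inv, Units.mul_inv, Matrix.one_kronecker_one]
    have h2 : (((A⁻¹ : GL (Fin a) F) : Matrix (Fin a) (Fin a) F) ⊗ₖ ((B⁻¹ : GL (Fin b) F) : Matrix (Fin b) (Fin b) F)) *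
        ((A : Matrix (Fin a) (Fin a) F) ⊗ₖ (B : Matrix (Fin b) (Fin b) F)) = 1 :=
      by rw [← Matrix.mul_kronecker_mul, Units.inv_mul, Units.inv_mul, Matrix.one_kronecker_one]
    ⟨⟨_, _, h1, h2⟩, rfl⟩
  refine ⟨_, ⟨z, ⟨A, B, hz⟩, rfl⟩, ?_⟩
  show P * Cfsg.Geo.glReindex e.symm z * P⁻¹ = (Q * T * P⁻¹)⁻¹ * g * (Q * T * P⁻¹)
  rw [show (Q * T * P⁻¹)⁻¹ * g * (Q * T * P⁻¹) = P * (T⁻¹ * (Q⁻¹ * g * Q) * T) * P⁻¹ by group]
  congr 2
  rw [mul_assoc, eq_inv_mul_iff_mul_eq]
  refine Units.ext ?_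
  rw [Units.val_mul, Units.val_mul, h]
  show (T : Matrix (Fin n) (Fin n) F) * Matrix.reindexAlgEquiv F F e.symm (z : Matrix (Fin a × Fin b) (Fin a × Fin b) F) = _
  rw [hz, Matrix.reindexAlgEquiv_apply, Matrix.reindex_apply, Equiv.symm_symm, hT]
  refine Matrix.ext_of_mulVec_single fun j => funext fun i => ?_
  rw [← mulVec_mulVec, ← mulVec_mulVec, mono_mulVec_single]
  obtain ⟨k, rfl⟩ := τ.surjective i
  rw [mono_mulVec]
  simp [Matrix.mulVec_single_one, Matrix.col_apply, hτ]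

variable [Fintype F]

theorem rank_transvection_like {n : ℕ} {s : F} (hs : s ≠ 0) (X : Matrix (Fin n) (Fin n) F)
    (v φ : Fin n → F) (hv : v ≠ 0) (hφ : φ ≠ 0) (hX : X = s • (1 + vecMulVec v φ)) : (X - s • 1).rank = 1 := by
  have e : X - s • 1 = vecMulVec (s • v) φ := by
    rw [hX, smul_add, add_sub_cancel_left]
    ext i j; simp [vecMulVec_apply]; ring
  rw [e]
  refine le_antisymm (Matrix.rank_vecMulVec_le _ _) ?_
  obtain ⟨i, hi⟩ := Function.ne_iff.1 hv
  obtain ⟨j, hj⟩ := Function.ne_iff.1 hφ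
  rw [Nat.one_le_iff_ne_zero, Ne, Matrix.rank, Submodule.finrank_eq_zero, LinearMap.range_eq_bot]
  intro h0
  have := congrFun (LinearMap.congr_fun h0 (Pi.single j 1)) i
  rw [Matrix.mulVecLin_apply, Matrix.mulVec_single_one, Matrix.col_apply, vecMulVec_apply] at this
  exact mul_ne_zero (mul_ne_zero hs hi) hj (by simpa using this)

theorem exists_block_witness {n : ℕ} {r : ℕ} [hr : Fact r.Prime] (hrF : (r : F) ≠ 0) {e : ℕ}
    (heq : orderOf (Fintype.card F : ZMod r) = e) (he1 : 2 ≤ e) (hen : e ≤ n) :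
    ∃ X : Matrix (Fin n) (Fin n) F, X ^ r = 1 ∧ X.det = 1 ∧ (X - (1 : F) • 1).rank = e ∧
      ∀ z : F, X ≠ z • 1 := by
  classical
  subst heq
  obtain ⟨e, hedef⟩ : ∃ e, e = orderOf (Fintype.card F : ZMod r) := ⟨_, rfl⟩
  rw [← hedef] at he1 hen ⊢
  obtain ⟨A, hAr, hAd, hAs, hAfix⟩ := PrimeMaps.exists_order_matrix (n := e) hrF (by omega) hedef.ge
  rw [← hedef, Nat.mod_self, Nat.le_zero, Submodule.finrank_eq_zero] at hAfix
  obtain ⟨k, rfl⟩ : ∃ k, n = e + k := ⟨n - e, by omega⟩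
  have hU : IsUnit (A - 1) := by
    rw [← Matrix.mulVec_injective_iff_isUnit]
    intro u v h
    have h0 : Matrix.toLin' A (u - v) = u - v := by
      simp only [sub_mulVec, one_mulVec] at h
      rw [map_sub, Matrix.toLin'_apply, Matrix.toLin'_apply]
      exact sub_eq_sub_iff_sub_eq_sub.1 h
    have h1 := PrimeMaps.mem_fixed.2 h0
    rw [hAfix] at h1
    exact sub_eq_zero.1 ((Submodule.mem_bot F).1 h1)
  refine ⟨Matrix.reindexAlgEquiv F F finSumFinEquiv (fromBlocks A 0 0 (1 : Matrix (Fin k) (Fin k) F)), ?_, ?_, ?_, ?_⟩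
  · rw [← map_pow, fromBlocks_diagonal_pow, hAr, one_pow, fromBlocks_one, map_one]
  · rw [Matrix.reindexAlgEquiv_apply, Matrix.det_reindex_self, det_fromBlocks_zero₂₁, hAd, det_one, one_mul]
  · rw [one_smul, ← map_one (Matrix.reindexAlgEquiv F F (finSumFinEquiv : Fin e ⊕ Fin k ≃ Fin (e + k))), ← map_sub,
      Matrix.reindexAlgEquiv_apply, Matrix.rank_reindex]
    have e1 : fromBlocks A 0 0 (1 : Matrix (Fin k) (Fin k) F) - 1 =
        fromBlocks (A - 1) 0 0 (1 : Matrix (Fin k) (Fin k) F) *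
          diagonal (Sum.elim (fun _ => (1 : F)) (fun _ => 0)) := by
      ext (i | i) (j | j) <;> simp [Matrix.mul_diagonal, Matrix.one_apply]
    rw [e1, Matrix.rank_mul_eq_right_of_isUnit_det _ _ (by
      rw [det_fromBlocks_zero₂₁, det_one, mul_one]; exact (Matrix.isUnit_iff_isUnit_det _).1 hU), Matrix.rank_diagonal,
      Fintype.card_subtype, Finset.card_filter, Fintype.sum_sum_type]
    simp
  · intro z hz
    refine hAs z ?_
    ext i j
    have := congrFun (congrFun hz (finSumFinEquiv (.inl i))) (finSumFinEquiv (.inl j))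
    simpa [Matrix.one_apply] using this

theorem order_dvd_rank {b r : ℕ} [hr : Fact r.Prime] (hrF : (r : F) ≠ 0) (M : Matrix (Fin b) (Fin b) F)
    (hM : M ^ r = 1) : orderOf (Fintype.card F : ZMod r) ∣ (M - (1 : F) • 1).rank := by
  have hf : ∀ v, (Matrix.toLin' M ^ r) v = v := fun v => by rw [← Matrix.toLin'_pow, hM]; simp
  have h := (PrimeMaps.order_spec hrF hf (X := ⊤) fun _ _ => Submodule.mem_top).1
  rw [top_inf_eq, finrank_top] at h
  have e : PrimeMaps.fixed (Matrix.toLin' M) = LinearMap.ker (M - (1 : F) • 1).mulVecLin := by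
    ext v
    rw [PrimeMaps.mem_fixed, LinearMap.mem_ker, Matrix.mulVecLin_apply, Matrix.toLin'_apply, sub_mulVec, one_smul,
      one_mulVec, sub_eq_zero]
  have hn := LinearMap.finrank_range_add_finrank_ker (M - (1 : F) • 1).mulVecLin
  rw [e] at h
  rw [Matrix.rank]
  rwa [show Module.finrank F (LinearMap.range (M - (1 : F) • 1).mulVecLin) = Module.finrank F (Fin b → F) -
    Module.finrank F (LinearMap.ker (M - (1 : F) • 1).mulVecLin) by omega]

theorem order_le_of_nonscalar {a r : ℕ} [hr : Fact r.Prime] (hrF : (r : F) ≠ 0) (hr1 : ¬ r ∣ Fintype.card F - 1)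
    (A : Matrix (Fin a) (Fin a) F) {μ : F} (hA : ∀ l : F, A ≠ l • 1) (hμ : μ ≠ 0) (hAr : A ^ r = μ • 1) :
    orderOf (Fintype.card F : ZMod r) ≤ a := by
  classical
  have hinj : Function.Injective (fun u : Fˣ => u ^ r) := by
    intro u v h
    by_contra hne
    refine hr1 ?_
    have h1 : (u * v⁻¹) ^ r = 1 := by
      rw [mul_pow, show u ^ r = v ^ r from h, _root_.inv_pow, mul_inv_cancel]
    rw [← Fintype.card_units, ← orderOf_eq_prime h1 (fun h => hne (mul_inv_eq_one.1 h))]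
    exact orderOf_dvd_card
  obtain ⟨ν, hν⟩ := (Finite.injective_iff_bijective.1 hinj).2 (Units.mk0 μ hμ)
  have hν' : (ν : F) ^ r = μ := by rw [← Units.val_pow_eq_pow_val, show ν ^ r = Units.mk0 μ hμ from hν]; rfl
  obtain ⟨M, hMd⟩ : ∃ M, M = (ν : F)⁻¹ • A := ⟨_, rfl⟩
  have hM : M ^ r = 1 := by
    rw [hMd, _root_.smul_pow, hAr, smul_smul, _root_.inv_pow, hν', inv_mul_cancel₀ hμ, one_smul]
  have hd := order_dvd_rank hrF M hM
  refine (Nat.le_of_dvd (Nat.pos_of_ne_zero fun h0 => ?_) hd).trans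
    ((Matrix.rank_le_card_width _).trans (Fintype.card_fin a).le)
  rw [Matrix.rank, Submodule.finrank_eq_zero, LinearMap.range_eq_bot] at h0
  refine hA ν ?_
  have : M = 1 := Matrix.ext_of_mulVec_single fun i => by
    have := LinearMap.congr_fun h0 (Pi.single i 1)
    rw [Matrix.mulVecLin_apply, LinearMap.zero_apply, sub_mulVec, one_smul, one_mulVec, sub_eq_zero] at this
    rw [this, one_mulVec]
  rw [hMd] at this
  rw [← this, smul_smul, mul_inv_cancel₀ ν.ne_zero, one_smul]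

/-- Derangements in all cases but involutions with a factor of dimension two. -/
theorem exists_derangement {p q n a b r : ℕ} [hp : Fact p.Prime] [CharP F p] [hr : Fact r.Prime]
    (hq : Fintype.card F = q) (hab : n = a * b) (ha : 2 ≤ a) (hlt : a < b) (e : Fin n ≃ Fin a × Fin b)
    (P : GL (Fin n) F) (hΩ : r ∣ (Cfsg.Geo.tensorProductSubgroup a b e P).relIndex (Cfsg.Geo.specialLinear (Fin n) F))
    (hcase : ¬ (r = 2 ∧ a = 2 ∧ Odd q ∧ padicValNat 2 (q - 1) ≤ padicValNat 2 n)) :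
    ∃ X : SpecialLinearGroup (Fin n) F,
      (∃ z : F, (X : Matrix (Fin n) (Fin n) F) ^ r = z • 1) ∧ (∀ z : F, (X : Matrix (Fin n) (Fin n) F) ≠ z • 1) ∧
      ∀ g : GL (Fin n) F, g⁻¹ * SpecialLinearGroup.toGL X * g ∉ Cfsg.Geo.tensorProductSubgroup a b e P := by
  classical
  have hn6 : 6 ≤ n := by
    have : 2 * 3 ≤ a * b := Nat.mul_le_mul ha (by omega)
    omega
  have hdvdn : ¬ a ∣ 1 := fun h => by have := Nat.le_of_dvd one_pos h; omega
  obtain ⟨i₀, hi₀⟩ : ∃ i : Fin n, i.val = 0 := ⟨⟨0, by omega⟩, rfl⟩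
  obtain ⟨i₁, hi₁⟩ : ∃ i : Fin n, i.val = 1 := ⟨⟨1, by omega⟩, rfl⟩
  have hi01 : i₀ ≠ i₁ := fun h => by rw [h] at hi₀; omega
  have one_rank : ∀ (X : SpecialLinearGroup (Fin n) F) (s : F) (v φ : Fin n → F), s ≠ 0 → v ≠ 0 → φ ≠ 0 →
      (X : Matrix (Fin n) (Fin n) F) = s • (1 + vecMulVec v φ) → (∃ z : F, (X : Matrix (Fin n) (Fin n) F) ^ r = z • 1) →
      ∀ g : GL (Fin n) F, g⁻¹ * SpecialLinearGroup.toGL X * g ∉ Cfsg.Geo.tensorProductSubgroup a b e P := by
    intro X s v φ hs hv hφ hX ⟨z, hz⟩ g hg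
    obtain ⟨_, ⟨w, ⟨A, B, hw⟩, rfl⟩, hc⟩ := hg
    -- pass to the projective statement
    have hrk : (((g⁻¹ * SpecialLinearGroup.toGL X * g : GL (Fin n) F) : Matrix (Fin n) (Fin n) F) - s • 1).rank = 1 := by
      rw [Units.val_mul, Units.val_mul, show (SpecialLinearGroup.toGL X : Matrix (Fin n) (Fin n) F) = X from rfl]
      rw [show ((g⁻¹ : GL (Fin n) F) : Matrix (Fin n) (Fin n) F) * (X : Matrix (Fin n) (Fin n) F) * g - s • 1 =
        ((g⁻¹ : GL (Fin n) F) : Matrix (Fin n) (Fin n) F) * ((X : Matrix (Fin n) (Fin n) F) - s • 1) * g by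
          rw [mul_sub, sub_mul, mul_smul_comm, mul_one, smul_mul_assoc, Units.inv_mul]]
      rw [Matrix.rank_mul_eq_left_of_isUnit_det _ _ ((Matrix.isUnit_iff_isUnit_det _).1 g.isUnit),
        Matrix.rank_mul_eq_right_of_isUnit_det _ _ ((Matrix.isUnit_iff_isUnit_det _).1 (g⁻¹).isUnit),
        rank_transvection_like hs _ v φ hv hφ hX]
    rw [← hc] at hrk
    have hval : ((MulAut.conj P) ((Cfsg.Geo.glReindex e.symm) w) : GL (Fin n) F).1 =
      (P : Matrix (Fin n) (Fin n) F) *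
        Matrix.reindexAlgEquiv F F e.symm ((A : Matrix (Fin a) (Fin a) F) ⊗ₖ (B : Matrix (Fin b) (Fin b) F)) *
        ((P⁻¹ : GL (Fin n) F) : Matrix (Fin n) (Fin n) F) := by rw [← hw]; rfl
    simp only [MulEquiv.coe_toMonoidHom, hval] at hrk
    obtain ⟨K, hK⟩ : ∃ K, K = (A : Matrix (Fin a) (Fin a) F) ⊗ₖ (B : Matrix (Fin b) (Fin b) F) := ⟨_, rfl⟩
    rw [← hK, show (P : Matrix (Fin n) (Fin n) F) * Matrix.reindexAlgEquiv F F e.symm K *
        ((P⁻¹ : GL (Fin n) F) : Matrix (Fin n) (Fin n) F) - s • 1 =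
        (P : Matrix (Fin n) (Fin n) F) * Matrix.reindexAlgEquiv F F e.symm (K - s • 1) *
        ((P⁻¹ : GL (Fin n) F) : Matrix (Fin n) (Fin n) F) by
      rw [map_sub, map_smul, map_one, mul_sub, sub_mul, mul_smul_comm, mul_one, smul_mul_assoc, Units.mul_inv],
      Matrix.rank_mul_eq_left_of_isUnit_det _ _ ((Matrix.isUnit_iff_isUnit_det _).1 (P⁻¹).isUnit),
      Matrix.rank_mul_eq_right_of_isUnit_det _ _ ((Matrix.isUnit_iff_isUnit_det _).1 P.isUnit),
      Matrix.reindexAlgEquiv_apply, Matrix.rank_reindex] at hrk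
    by_cases hA : ∃ l : F, (A : Matrix (Fin a) (Fin a) F) = l • 1
    · obtain ⟨l, hl⟩ := hA
      have hK1 : K - s • 1 = (1 : Matrix (Fin a) (Fin a) F) ⊗ₖ (l • (B : Matrix (Fin b) (Fin b) F) - s • 1) := by
        rw [hK, hl, Matrix.smul_kronecker, ← Matrix.kronecker_smul]
        ext i j
        simp only [Matrix.sub_apply, Matrix.smul_apply, Matrix.kroneckerMap_apply, Matrix.one_apply, Prod.ext_iff]
        by_cases h1 : i.1 = j.1 <;> by_cases h2 : i.2 = j.2 <;> simp [h1, h2]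
      rw [hK1, rank_one_kron] at hrk
      exact hdvdn ⟨_, hrk.symm⟩
    · push Not at hA
      obtain ⟨v', hv', hvA⟩ := exists_noneigen _ hA
      obtain ⟨T, hT⟩ : ∃ T : (Fin b → F) →ₗ[F] (Fin a × Fin b → F), ∀ w p, T w p = v' p.1 * w p.2 :=
        ⟨LinearMap.pi fun p => v' p.1 • LinearMap.proj p.2, fun w p => rfl⟩
      have hinj : Function.Injective ((K - s • 1).mulVecLin ∘ₗ T) := by
        rw [← LinearMap.ker_eq_bot, LinearMap.ker_eq_bot']
        intro y hy
        by_contra hy0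
        obtain ⟨l, hl⟩ : ∃ l, ((B : Matrix (Fin b) (Fin b) F) *ᵥ y) l ≠ 0 := Function.ne_iff.1 fun h =>
          hy0 (Matrix.mulVec_injective_iff_isUnit.2 B.isUnit (by rw [h, mulVec_zero]; rfl))
        refine hvA (s * y l / ((B : Matrix (Fin b) (Fin b) F) *ᵥ y) l) (funext fun i => ?_)
        have h := congrFun hy (i, l)
        rw [LinearMap.comp_apply, Matrix.mulVecLin_apply, sub_mulVec, smul_mulVec, one_mulVec, Pi.sub_apply,
          Pi.smul_apply, smul_eq_mul, hT, Pi.zero_apply, sub_eq_zero] at h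
        have key : ((A : Matrix (Fin a) (Fin a) F) *ᵥ v') i * ((B : Matrix (Fin b) (Fin b) F) *ᵥ y) l =
            s * (v' i * y l) := by
          rw [← h, hK]
          simp only [Matrix.mulVec, dotProduct, Matrix.kroneckerMap_apply, Fintype.sum_prod_type, hT, Finset.sum_mul_sum]
          exact Finset.sum_congr rfl fun i _ => Finset.sum_congr rfl fun j _ => by ring
        rw [Pi.smul_apply, smul_eq_mul]
        field_simp
        linear_combination key
      have hle : b ≤ (K - s • 1).rank := by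
        calc b = Module.finrank F (LinearMap.range ((K - s • 1).mulVecLin ∘ₗ T)) := by
              rw [LinearMap.finrank_range_of_inj hinj, Module.finrank_fin_fun]
          _ ≤ (K - s • 1).rank := Submodule.finrank_mono (LinearMap.range_comp_le_range _ _)
      omega
  by_cases hrp : r = p
  · obtain ⟨X, hX⟩ : ∃ X : SpecialLinearGroup (Fin n) F, (X : Matrix (Fin n) (Fin n) F) = Matrix.transvection i₀ i₁ 1 :=
      ⟨⟨_, Matrix.det_transvection_of_ne _ _ hi01 1⟩, rfl⟩
    have hv : Matrix.transvection i₀ i₁ (1 : F) = (1 : F) • (1 + vecMulVec (Pi.single i₀ 1) (Pi.single i₁ 1)) := by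
      rw [one_smul, Matrix.transvection]
      congr 1
      ext i j
      rw [vecMulVec_apply, Matrix.single_apply]
      split_ifs with h
      · simp [← h.1, ← h.2]
      · rcases not_and_or.1 h with h | h <;> simp [Ne.symm h]
    have hXr : (X : Matrix (Fin n) (Fin n) F) ^ r = (1 : F) • 1 := by
      haveI : Nonempty (Fin n) := ⟨i₀⟩
      rw [hX, Matrix.transvection, hrp, add_pow_char_of_commute p (Commute.one_left _), one_pow, one_smul, add_eq_left,
        show p = 2 + (p - 2) by have := hp.out.two_le; omega, pow_add, pow_two,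
        Matrix.single_mul_single_of_ne _ _ _ _ hi01.symm, zero_mul]
    refine ⟨X, ⟨1, hXr⟩, fun z hz => ?_, one_rank X 1 _ _ one_ne_zero (by simp) (by simp) (hX.trans hv) ⟨1, hXr⟩⟩
    have h := congrFun (congrFun hz i₀) i₁
    simp [hX, Matrix.transvection, hi01] at h
  have hrF : (r : F) ≠ 0 := PrimeMaps.natCast_ne_zero_of_ne (p := p) hrp
  obtain ⟨he0, he1⟩ := PrimeMaps.order_facts (F := F) (p := p) (r := r) hq hrp
  have diag_case : ∀ d : Fin n → F, (∏ i, d i = 1) → (∀ i, d i ^ r = 1) →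
      (∀ z : F, (diagonal d) ≠ z • (1 : Matrix (Fin n) (Fin n) F)) →
      (∀ M : Matrix (Fin b) (Fin b) F, M ^ r = 1 → ∃ c : F, Fintype.card {i // d i ≠ c} ≠ a * (M - c • 1).rank) →
      (∃ c : F, Fintype.card {i // d i ≠ c} < b) →
      ∃ X : SpecialLinearGroup (Fin n) F,
      (∃ z : F, (X : Matrix (Fin n) (Fin n) F) ^ r = z • 1) ∧ (∀ z : F, (X : Matrix (Fin n) (Fin n) F) ≠ z • 1) ∧
      ∀ g : GL (Fin n) F, g⁻¹ * SpecialLinearGroup.toGL X * g ∉ Cfsg.Geo.tensorProductSubgroup a b e P := by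
    intro d hd hdr hds hsc hns
    have hrk : ∀ c : F, (diagonal d - c • 1).rank = Fintype.card {i // d i ≠ c} := fun c => by
      rw [Matrix.smul_one_eq_diagonal, diagonal_sub, Matrix.rank_diagonal]
      exact Fintype.card_congr (Equiv.subtypeEquivRight fun i => by simp [sub_eq_zero])
    refine ⟨⟨diagonal d, by rw [det_diagonal, hd]⟩, ⟨1, ?_⟩, hds, fun g => ?_⟩
    · show (diagonal d) ^ r = _
      rw [diagonal_pow, one_smul, ← diagonal_one]
      exact congrArg _ (funext fun i => hdr i)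
    · refine not_mem_of_ranks e P (by omega) (by omega) (X := diagonal d) (r := r) ?_ _ rfl (fun M hM => ?_) (fun A μ _ _ _ => ?_) g
      · rw [diagonal_pow, ← diagonal_one]; exact congrArg _ (funext fun i => hdr i)
      · obtain ⟨c, hc⟩ := hsc M hM; exact ⟨c, by rw [hrk]; exact hc⟩
      · obtain ⟨c, hc⟩ := hns; exact ⟨c, by rw [hrk]; exact hc⟩
  by_cases hr1 : r ∣ q - 1
  · by_cases hr2 : r = 2
    · have hodd : Odd q := by
        rw [hr2] at hr1
        have : 1 < q := hq ▸ Fintype.one_lt_card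
        exact Nat.odd_iff.2 (by omega)
      have h2 := InvolArith.two_ne_zero_of_odd hq hodd
      by_cases ha2 : a = 2
      · have hv : padicValNat 2 n < padicValNat 2 (q - 1) := by
          by_contra h
          exact hcase ⟨hr2, ha2, hodd, not_lt.1 h⟩
        obtain ⟨s, X, hX, hX'⟩ := InvolPairing.exists_bad hq hodd (by omega) hv
        have hX2 : (X : Matrix (Fin n) (Fin n) F) ^ r = ((s : F) ^ 2) • 1 := by
          rw [hr2, hX', diagonal_pow, Matrix.smul_one_eq_diagonal]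
          congr 1; funext i
          rw [Pi.pow_apply]; split_ifs <;> ring
        refine ⟨X, ⟨_, hX2⟩, fun z hz => ?_,
          one_rank X s _ _ s.ne_zero (by simpa using h2) (by simp) hX ⟨_, hX2⟩⟩
        rw [hX', Matrix.smul_one_eq_diagonal] at hz
        have h := diagonal_injective hz
        have h0 := congrFun h ⟨0, by omega⟩
        have h1 := congrFun h ⟨1, by omega⟩
        simp at h0 h1
        exact h2 ((mul_eq_zero.1 (show (2 : F) * s = 0 by linear_combination h1 - h0)).resolve_right s.ne_zero)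
      · refine diag_case (fun i => if i = i₀ ∨ i = i₁ then -1 else 1) ?_ ?_ ?_ (fun M _ => ⟨1, ?_⟩) ⟨1, ?_⟩
        · rw [Finset.prod_ite, Finset.prod_const, Finset.prod_const_one, mul_one,
            show (Finset.univ.filter fun i => i = i₀ ∨ i = i₁) = {i₀, i₁} by ext i; simp,
            Finset.card_pair hi01]
          norm_num
        · intro i; rw [hr2]; split_ifs <;> norm_num
        · intro z hz
          rw [Matrix.smul_one_eq_diagonal] at hz
          have h0 := congrFun (diagonal_injective hz) i₀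
          have h1 := congrFun (diagonal_injective hz) ⟨2, by omega⟩
          simp [Fin.ext_iff, hi₀, hi₁] at h0 h1
          rw [← h1] at h0
          exact h2 (by linear_combination -h0)
        all_goals
          have hc : Fintype.card {i // (if i = i₀ ∨ i = i₁ then (-1 : F) else 1) ≠ 1} = 2 := by
            rw [Fintype.card_subtype, show (Finset.univ.filter fun i =>
              (if i = i₀ ∨ i = i₁ then (-1 : F) else 1) ≠ 1) = {i₀, i₁} by
                ext i
                have hne : (-1 : F) ≠ 1 := fun h => h2 (by linear_combination -h)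
                by_cases h : i = i₀ ∨ i = i₁ <;> simp [h, hne] <;> tauto,
              Finset.card_pair hi01]
          rw [hc]
        · intro h
          have := Nat.le_of_dvd two_pos ⟨_, h⟩
          omega
        · omega
    · obtain ⟨ζ, hζ⟩ := exists_prime_orderOf_dvd_card' (G := Fˣ) r (by
        rw [Nat.card_units, Nat.card_eq_fintype_card, hq]; exact hr1)
      have hζr : ζ ^ r = 1 := hζ ▸ pow_orderOf_eq_one ζ
      have hζ1 : (ζ : F) ≠ 1 := fun h => by
        have : ζ = 1 := Units.ext h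
        rw [this, orderOf_one] at hζ
        exact hr.out.one_lt.ne hζ
      have hζ2 : (ζ : F) ≠ ((ζ⁻¹ : Fˣ) : F) := fun h => by
        have h' : ζ ^ 2 = 1 := by rw [sq]; nth_rewrite 2 [Units.ext h]; rw [mul_inv_cancel]
        exact hr2 ((Nat.prime_dvd_prime_iff_eq hr.out Nat.prime_two).1 (hζ ▸ orderOf_dvd_of_pow_eq_one h'))
      have hζi1 : ((ζ⁻¹ : Fˣ) : F) ≠ 1 := fun h => hζ1 (by
        have : ζ⁻¹ = 1 := Units.ext h
        rw [inv_eq_one.1 this, Units.val_one])
      refine diag_case (fun i => if i = i₀ then (ζ : F) else if i = i₁ then ((ζ⁻¹ : Fˣ) : F) else 1) ?_ ?_ ?_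
        (fun M _ => ⟨ζ, ?_⟩) ⟨1, ?_⟩
      · rw [← Finset.mul_prod_erase _ _ (Finset.mem_univ i₀), ← Finset.mul_prod_erase _ _
          (Finset.mem_erase.2 ⟨hi01.symm, Finset.mem_univ i₁⟩), if_pos rfl, if_neg hi01.symm, if_pos rfl,
          Finset.prod_eq_one fun i hi => by
            simp only [Finset.mem_erase] at hi
            rw [if_neg hi.2.1, if_neg hi.1], mul_one, Units.mul_inv]
      · intro i
        split_ifs
        · rw [← Units.val_pow_eq_pow_val, hζr, Units.val_one]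
        · rw [← Units.val_pow_eq_pow_val, _root_.inv_pow, hζr, inv_one, Units.val_one]
        · rw [one_pow]
      · intro z hz
        rw [Matrix.smul_one_eq_diagonal] at hz
        have h0 := congrFun (diagonal_injective hz) i₀
        have h1 := congrFun (diagonal_injective hz) ⟨2, by omega⟩
        simp [Fin.ext_iff, hi₀, hi₁] at h0 h1
        exact hζ1 (h0.trans h1.symm)
      · rw [Fintype.card_subtype, show (Finset.univ.filter fun i => (if i = i₀ then (ζ : F) else if i = i₁ then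
          ((ζ⁻¹ : Fˣ) : F) else 1) ≠ ζ) = Finset.univ.erase i₀ by
            ext i
            by_cases h : i = i₀
            · simp [h]
            · by_cases h' : i = i₁
              · subst h'; simp [h]; simpa using Ne.symm hζ2
              · simp [h, h', Ne.symm hζ1],
          Finset.card_erase_of_mem (Finset.mem_univ _), Finset.card_univ, Fintype.card_fin]
        intro h
        refine hdvdn ((Nat.dvd_sub (⟨b, hab⟩ : a ∣ n) (⟨_, h⟩ : a ∣ n - 1)).trans (dvd_of_eq ?_))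
        omega
      · rw [Fintype.card_subtype, show (Finset.univ.filter fun i => (if i = i₀ then (ζ : F) else if i = i₁ then
          ((ζ⁻¹ : Fˣ) : F) else 1) ≠ 1) = {i₀, i₁} by
            ext i
            by_cases h : i = i₀
            · simp [h, hζ1]
            · by_cases h' : i = i₁
              · subst h'; simp [h]; exact fun h => hζ1 (by rw [h]; rfl)
              · simp [h, h'],
          Finset.card_pair hi01]
        omega
  -- single block
  have hqn : ∃ i, 1 ≤ i ∧ i ≤ n ∧ r ∣ q ^ i - 1 := by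
    haveI : Nonempty (Fin n) := ⟨i₀⟩
    have hd : r ∣ Nat.card (GL (Fin n) F) :=
      hΩ.trans ((Subgroup.relIndex_dvd_card _ _).trans (Subgroup.card_subgroup_dvd_card _))
    rw [Matrix.card_GL_field, hq] at hd
    obtain ⟨i, -, hi⟩ := hr.out.prime.exists_mem_finset_dvd hd
    refine ⟨n - i.val, by omega, by omega, ?_⟩
    rw [show q ^ n = q ^ i.val * q ^ (n - i.val) by rw [← pow_add]; congr 1; omega, ← Nat.mul_sub_one] at hi
    refine (hr.out.dvd_mul.1 hi).resolve_left fun h => ?_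
    obtain ⟨k, -, hk⟩ := FiniteField.card F p
    rw [← hq, hk] at h
    exact hrp ((Nat.prime_dvd_prime_iff_eq hr.out hp.out).1 (hr.out.dvd_of_dvd_pow (hr.out.dvd_of_dvd_pow h)))
  obtain ⟨i, hi1, hin, hid⟩ := hqn
  have hdi : orderOf (q : ZMod r) ∣ i := by
    refine orderOf_dvd_of_pow_eq_one ?_
    rw [← sub_eq_zero, ← Nat.cast_pow, ← Nat.cast_one (R := ZMod r),
      ← Nat.cast_sub (Nat.one_le_pow _ _ (hq ▸ Fintype.card_pos))]
    exact (ZMod.natCast_eq_zero_iff _ _).2 hid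
  have hen : orderOf (q : ZMod r) ≤ n := (Nat.le_of_dvd hi1 hdi).trans hin
  have he2 : 2 ≤ orderOf (q : ZMod r) := by
    by_contra h
    exact hr1 (he1.1 (by omega))
  obtain ⟨X, hXr, hXd, hXrk, hXs⟩ := exists_block_witness (F := F) hrF (by rw [hq]) he2 hen
  refine ⟨⟨X, hXd⟩, ⟨1, by rw [one_smul]; exact hXr⟩, hXs, fun g => ?_⟩
  refine not_mem_of_ranks e P (by omega) (by omega) hXr _ rfl (fun M hM => ⟨1, ?_⟩) (fun A μ hA hμ hAr => ⟨1, ?_⟩) g
  · rw [hXrk]
    intro h
    have h' := order_dvd_rank hrF M hM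
    rw [hq] at h'
    obtain ⟨k, hk⟩ := h'
    rw [hk, ← mul_assoc, mul_comm a, mul_assoc] at h
    have : a * k = 1 := (mul_eq_left₀ (by omega)).1 h.symm
    exact hdvdn ⟨k, this.symm⟩
  · rw [hXrk]
    have := order_le_of_nonscalar hrF (hq ▸ hr1) A hA hμ hAr
    rw [hq] at this
    omega

end CfsgLib.Classical22.TensorPrime
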