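/-
Tensor stabilisers with a factor of dimension three over F₃ are not maximal in Ω.
-/
import Cfsg.Agent.Lib.Classical22.TensorRefineOrth
import Cfsg.Agent.S5667

set_option autoImplicit false

namespace CfsgLib.Classical22.TensorRefine

open Matrix CfsgLib.Transvec

variable {F : Type*} [Field F]

/-- Three mutually orthogonal vectors, the first two of equal non-zero norm. -/
theorem exists_triple [Fintype F] (hq : Fintype.card F = 3) {b : ℕ} (hb : 4 ≤ b) {f : (Fin b → F) → (Fin b → F) → F}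
    (hf : Cfsg.Geo.IsSymmetricForm f) :
    ∃ y₀ y₁ y₂, f y₀ y₀ = f y₁ y₁ ∧ f y₀ y₀ ≠ 0 ∧ f y₂ y₂ ≠ 0 ∧ f y₀ y₁ = 0 ∧ f y₂ y₀ = 0 ∧ f y₂ y₁ = 0 := by
  classical
  have h3 : (3 : F) = 0 := by
    have h := FiniteField.cast_card_eq_zero F
    rw [hq] at h
    simpa using h
  have h2 : (2 : F) ≠ 0 := fun h => one_ne_zero (α := F) (by linear_combination h3 - h)
  haveI : Invertible (2 : F) := invertibleOfNonzero h2
  obtain ⟨B, hB⟩ : ∃ B : (Fin b → F) →ₗ[F] (Fin b → F) →ₗ[F] F, ∀ x y, B x y = f x y :=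
    ⟨LinearMap.mk₂ F f hf.bilinear.add_left hf.bilinear.smul_left hf.bilinear.add_right hf.bilinear.smul_right,
      fun x y => rfl⟩
  have hS : LinearMap.IsSymm B := ⟨fun x y => by simp [hB, hf.symm x y]⟩
  obtain ⟨w, hw⟩ := LinearMap.BilinForm.exists_orthogonal_basis hS
  have hne : ∀ i, f (w i) (w i) ≠ 0 := fun i h0 => by
    obtain ⟨x, hx⟩ := (hf.nondegenerate (w i) (w.ne_zero i)).2
    apply hx
    rw [← hB, ← w.sum_repr x, map_sum]
    refine Finset.sum_eq_zero fun j _ => ?_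
    by_cases hij : i = j
    · subst hij; rw [map_smul, hB, h0, smul_zero]
    · rw [map_smul, hw hij, smul_zero]
  have horth : ∀ i j, i ≠ j → f (w i) (w j) = 0 := fun i j h => (hB _ _).symm.trans (hw h)
  have hd : 3 ≤ Module.finrank F (Fin b → F) := by rw [Module.finrank_fin_fun]; omega
  obtain ⟨i, j, l, hij, hil, hjl⟩ : ∃ i j l : Fin (Module.finrank F (Fin b → F)), i ≠ j ∧ i ≠ l ∧ j ≠ l :=
    ⟨⟨0, by omega⟩, ⟨1, by omega⟩, ⟨2, by omega⟩, by simp, by simp, by simp⟩
  have hval : ∀ i, f (w i) (w i) = 1 ∨ f (w i) (w i) = -1 := fun i => by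
    have h := FiniteField.pow_card_sub_one_eq_one _ (hne i)
    rw [hq] at h
    exact sq_eq_one_iff.1 h
  have pick : ∀ p q r, p ≠ q → p ≠ r → q ≠ r → f (w p) (w p) = f (w q) (w q) →
      ∃ y₀ y₁ y₂, f y₀ y₀ = f y₁ y₁ ∧ f y₀ y₀ ≠ 0 ∧ f y₂ y₂ ≠ 0 ∧ f y₀ y₁ = 0 ∧ f y₂ y₀ = 0 ∧ f y₂ y₁ = 0 :=
    fun p q r hpq hpr hqr he => ⟨w p, w q, w r, he, hne p, hne r, horth _ _ hpq, horth _ _ hpr.symm, horth _ _ hqr.symm⟩
  rcases hval i with ei | ei <;> rcases hval j with ej | ej <;> rcases hval l with el | el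
  all_goals first
    | exact pick i j l hij hil hjl (ei.trans ej.symm)
    | exact pick i l j hil hij hjl.symm (ei.trans el.symm)
    | exact pick j l i hjl hij.symm hil.symm (ej.trans el.symm)

theorem exists_overgroup_three [Fintype F] {ι : Type} [Fintype ι] [DecidableEq ι] (hq : Fintype.card F = 3)
    (Q : (ι → F) → F) (hsm : ∀ (c : F) v, Q (c • v) = c ^ 2 * Q v)
    (hbil : Cfsg.Geo.IsBilinearForm (QuadraticMap.polar Q)) {n₂ : ℕ} (h4 : 4 ≤ n₂)
    (e : ι ≃ Fin 3 × Fin n₂) (P : GL ι F) (f₁ : (Fin 3 → F) → (Fin 3 → F) → F)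
    (f₂ : (Fin n₂ → F) → (Fin n₂ → F) → F) (hf₁ : Cfsg.Geo.IsSymmetricForm f₁) (hf₂ : Cfsg.Geo.IsSymmetricForm f₂)
    (hT : Cfsg.Geo.IsTensorFormStructure id (QuadraticMap.polar Q) f₁ f₂ e P) :
    ∃ K : Subgroup (GL ι F), Cfsg.Geo.tensorProductSubgroup 3 n₂ e P ⊓ Cfsg.Geo.omegaGL Q < K ∧
      K < Cfsg.Geo.omegaGL Q := by
  classical
  have h3 : (3 : F) = 0 := by
    have h := FiniteField.cast_card_eq_zero F
    rw [hq] at h
    simpa using h
  have h2 : (2 : F) ≠ 0 := fun h => one_ne_zero (α := F) (by linear_combination h3 - h)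
  have hsq : ∀ a : F, a ≠ 0 → a ^ 2 = 1 := fun a ha => by
    have := FiniteField.pow_card_sub_one_eq_one a ha
    rwa [hq] at this
  obtain ⟨c, hc, hcT⟩ := hT
  obtain ⟨ε, u, hε, hu⟩ := Cfsg.Agent.S5667.equal_norm_basis hq hf₁
  obtain ⟨τ, hτ⟩ : ∃ τ : (Fin 3 → F) →ₗ[F] (Fin n₂ → F) →ₗ[F] (ι → F), ∀ u y,
      τ u y = (P : Matrix ι ι F) *ᵥ ((fun p => u p.1 * y p.2) ∘ e) := by
    refine ⟨LinearMap.mk₂ F (fun u y => (P : Matrix ι ι F) *ᵥ ((fun p => u p.1 * y p.2) ∘ e)) ?_ ?_ ?_ ?_,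
      fun u y => rfl⟩
    · intro a b y; rw [← Matrix.mulVec_add]; congr 1; funext l; simp [add_mul]
    · intro k a y; rw [← Matrix.mulVec_smul]; congr 1; funext l; simp [mul_assoc]
    · intro a y z; rw [← Matrix.mulVec_add]; congr 1; funext l; simp [mul_add]
    · intro k a y; rw [← Matrix.mulVec_smul]; congr 1; funext l; simp [mul_left_comm]
  obtain ⟨y₀, y₁, y₂, h11, h00, h22, h01, h20, h21⟩ := exists_triple hq h4 hf₂
  refine exists_overgroup_orth (show 2 ≤ 3 by norm_num) h2 Q hsm hbil (fun x y => ε * f₁ x y) f₂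
    (fun k x v => by rw [hf₁.bilinear.smul_left]; ring) (fun k v x => by rw [hf₁.bilinear.smul_right]; ring)
    hf₂.bilinear.smul_left (fun y hy => (hf₂.nondegenerate y hy).2) τ (mul_ne_zero hc hε) ?_ _ ?_ u (fun i j => ?_) ?_
    h11 h00 h22 h01 h20 h21
  · intro a a' y y'
    rw [hτ, hτ, hcT, formOfGram_kronecker id (fun _ _ => rfl),
      ← form_eq (σ := id) hf₁.bilinear.add_left hf₁.bilinear.smul_left hf₁.bilinear.add_right hf₁.bilinear.smul_right,
      ← form_eq (σ := id) hf₂.bilinear.add_left hf₂.bilinear.smul_left hf₂.bilinear.add_right hf₂.bilinear.smul_right]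
    linear_combination (-(c * f₁ a a' * f₂ y y')) * hsq ε hε
  · intro g hg
    obtain ⟨A, B, hA, hB, hAB⟩ := tensor_mem e P hg
    exact ⟨A, B, hA, hB, fun a y => by rw [hτ, hτ, hAB]⟩
  · simp only [hu]
    split_ifs
    · rw [← sq, hsq ε hε]
    · rw [mul_zero]
  · intro v s hs hv i
    have hu' : ∀ i j, ε * f₁ (u i) (u j) = if i = j then 1 else 0 := fun i j => by
      rw [hu]
      split_ifs
      · rw [← sq, hsq ε hε]
      · rw [mul_zero]
    obtain ⟨L, hL⟩ : ∃ L : (Fin 3 → F) →ₗ[F] (Fin 3 → F), ∀ α, L α = α 0 • u 0 + α 1 • u 1 + α 2 • u 2 :=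
      ⟨(LinearMap.proj 0).smulRight (u 0) + (LinearMap.proj 1).smulRight (u 1) + (LinearMap.proj 2).smulRight (u 2),
        fun α => rfl⟩
    have hLu : ∀ α k, ε * f₁ (L α) (u k) = α k := fun α k => by
      rw [hL, hf₁.bilinear.add_left, hf₁.bilinear.add_left, hf₁.bilinear.smul_left, hf₁.bilinear.smul_left,
        hf₁.bilinear.smul_left, mul_add, mul_add, mul_left_comm, hu', mul_left_comm, hu', mul_left_comm, hu']
      fin_cases k <;> simp
    have hLi : Function.Injective L := fun α β h => funext fun k => by rw [← hLu α k, ← hLu β k, h]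
    choose α hα using fun i => LinearMap.injective_iff_surjective.1 hLi (v i)
    have hdot : ∀ i j, α i 0 * α j 0 + α i 1 * α j 1 + α i 2 * α j 2 = if i = j then s else 0 := by
      intro i j
      have h := hv i j
      rw [← h, ← hα i, ← hα j, hL (α j), hf₁.bilinear.add_right, hf₁.bilinear.add_right, hf₁.bilinear.smul_right,
        hf₁.bilinear.smul_right, hf₁.bilinear.smul_right, mul_add, mul_add, mul_left_comm ε, hLu, mul_left_comm ε, hLu,
        mul_left_comm ε, hLu]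
      ring
    have hs1 : s = 1 := by
      have hM : Matrix.of α * (Matrix.of α)ᵀ = Matrix.diagonal fun _ => s := by
        ext i j
        simp [Matrix.mul_apply, Fin.sum_univ_three, hdot, Matrix.diagonal_apply]
      have h := congrArg Matrix.det hM
      rw [Matrix.det_mul, Matrix.det_transpose, Matrix.det_diagonal, Finset.prod_const, Finset.card_univ,
        Fintype.card_fin, ← sq] at h
      have hd : (Matrix.of α).det ≠ 0 := fun h0 => by
        rw [h0, zero_pow (by norm_num)] at h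
        exact pow_ne_zero 3 hs h.symm
      rw [hsq _ hd] at h
      linear_combination (-h) - s * hsq s hs
    have hnorm : α i 0 ^ 2 + α i 1 ^ 2 + α i 2 ^ 2 = 1 := by
      have := hdot i i
      rw [if_pos rfl, hs1] at this
      linear_combination this
    have hvi : v i = α i 0 • u 0 + α i 1 • u 1 + α i 2 • u 2 := by rw [← hα, hL]
    by_cases h0 : α i 0 = 0 <;> by_cases h1 : α i 1 = 0 <;> by_cases h2 : α i 2 = 0
    · rw [h0, h1, h2] at hnorm; norm_num at hnorm
    · exact ⟨2, α i 2, by rw [hvi, h0, h1]; simp⟩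
    · exact ⟨1, α i 1, by rw [hvi, h0, h2]; simp⟩
    · rw [h0, hsq _ h1, hsq _ h2] at hnorm
      exact absurd (show (1 : F) = 0 by linear_combination hnorm) one_ne_zero
    · exact ⟨0, α i 0, by rw [hvi, h1, h2]; simp⟩
    · rw [h1, hsq _ h0, hsq _ h2] at hnorm
      exact absurd (show (1 : F) = 0 by linear_combination hnorm) one_ne_zero
    · rw [h2, hsq _ h0, hsq _ h1] at hnorm
      exact absurd (show (1 : F) = 0 by linear_combination hnorm) one_ne_zero
    · rw [hsq _ h0, hsq _ h1, hsq _ h2] at hnorm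
      exact absurd (show (1 : F) = 0 by linear_combination h3 - hnorm) one_ne_zero

end CfsgLib.Classical22.TensorRefine
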