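/-
Elements of prime order of symplectic groups and stabilisers of tensor decompositions `Sp_a ⊗ O_b`.
-/
import Cfsg.Agent.Lib.Classical22.TensorPrimeOrder
import Cfsg.Agent.Lib.Classical22.TensorRefine
import Cfsg.Agent.Lib.Classical.AltBasis
import Cfsg.Agent.Lib.Classical.SpSimple
import Cfsg.Agent.Lib.Classical.SpOrder
import Cfsg.Agent.Lib.KnownSimple.SpSpectrum

set_option autoImplicit false

namespace CfsgLib.Classical22.TensorSpPrime

open Matrix Kronecker

variable {F : Type*} [Field F]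

theorem kron_rank_swap {a b : ℕ} (A : Matrix (Fin a) (Fin a) F) (B : Matrix (Fin b) (Fin b) F) :
    (A ⊗ₖ B - 1).rank = (B ⊗ₖ A - 1).rank := by
  rw [← Matrix.rank_reindex (Equiv.prodComm (Fin a) (Fin b)) (Equiv.prodComm (Fin a) (Fin b)) (A ⊗ₖ B - 1)]
  congr 1
  ext ⟨i, j⟩ ⟨k, l⟩
  simp only [Matrix.reindex_apply, Matrix.submatrix_apply, Matrix.sub_apply, Matrix.kroneckerMap_apply,
    Equiv.prodComm_symm, Equiv.prodComm_apply, Prod.swap_prod_mk, Matrix.one_apply, Prod.mk.injEq, and_comm]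
  rw [mul_comm]

theorem rank_kron_cyclic {a b s : ℕ} (A : Matrix (Fin a) (Fin a) F) (B : Matrix (Fin b) (Fin b) F)
    (w : Fin b → F) (hw : LinearIndependent F fun j : Fin (s + 1) => (B ^ (j : ℕ)) *ᵥ w) :
    a * s ≤ (A ⊗ₖ B - 1).rank := by
  obtain ⟨T, hT⟩ : ∃ T : (Fin s → Fin a → F) →ₗ[F] (Fin a × Fin b → F),
      ∀ U p, T U p = ∑ j : Fin s, U j p.1 * ((B ^ (j : ℕ)) *ᵥ w) p.2 :=
    ⟨LinearMap.pi fun p => ∑ j : Fin s, (((B ^ (j : ℕ)) *ᵥ w) p.2) •
      ((LinearMap.proj p.1).comp (LinearMap.proj j : (Fin s → Fin a → F) →ₗ[F] _)), fun U p => by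
        simp [mul_comm]⟩
  have hinj : Function.Injective ((A ⊗ₖ B - 1).mulVecLin ∘ₗ T) := by
    rw [← LinearMap.ker_eq_bot, LinearMap.ker_eq_bot']
    intro U hU
    obtain ⟨V, hV⟩ : ∃ V : Fin s → Fin a → F, ∀ j, V j = A *ᵥ U j := ⟨_, fun j => rfl⟩
    have hK : ∀ k l, ((A ⊗ₖ B) *ᵥ T U) (k, l) = ∑ j : Fin s, V j k * ((B ^ ((j : ℕ) + 1)) *ᵥ w) l := by
      intro k l
      have e1 : T U = ∑ j : Fin s, fun p : Fin a × Fin b => U j p.1 * ((B ^ (j : ℕ)) *ᵥ w) p.2 := by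
        funext p; rw [hT, Finset.sum_apply]
      rw [e1, Matrix.mulVec_sum, Finset.sum_apply]
      refine Finset.sum_congr rfl fun j _ => ?_
      rw [TensorRefine.kronecker_mulVec, hV, pow_succ', ← Matrix.mulVec_mulVec]
    have hzero : ∀ (k : Fin a) (j : Fin (s + 1)),
        (Fin.cons 0 (fun i => V i k) : Fin (s + 1) → F) j = (Fin.snoc (fun i => U i k) 0 : Fin (s + 1) → F) j := by
      intro k
      have h := Fintype.linearIndependent_iff.1 hw
        (fun j => (Fin.cons 0 (fun i => V i k) : Fin (s + 1) → F) j -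
          (Fin.snoc (fun i => U i k) 0 : Fin (s + 1) → F) j) (funext fun l => ?_)
      · exact fun j => sub_eq_zero.1 (h j)
      have h1 := congrFun hU (k, l)
      rw [LinearMap.comp_apply, Matrix.mulVecLin_apply, sub_mulVec, one_mulVec, Pi.sub_apply, Pi.zero_apply, hK,
        hT] at h1
      simp only [sub_smul, Finset.sum_sub_distrib]
      rw [Pi.sub_apply, Fin.sum_univ_succ, Fin.sum_univ_castSucc]
      simp only [Fin.cons_zero, Fin.cons_succ, Fin.snoc_castSucc, Fin.snoc_last, zero_smul, add_zero, zero_add,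
        Finset.sum_apply, Pi.smul_apply, smul_eq_mul, Fin.val_succ, Fin.val_castSucc, Pi.zero_apply]
      exact h1
    have hall : ∀ (j : ℕ) (hj : j < s), U ⟨j, hj⟩ = 0 := by
      intro j
      induction j with
      | zero =>
        intro hj
        funext k
        have := hzero k (Fin.castSucc ⟨0, hj⟩)
        rw [Fin.snoc_castSucc, show (Fin.castSucc ⟨0, hj⟩ : Fin (s + 1)) = 0 from rfl, Fin.cons_zero] at this
        exact this.symm
      | succ j ih =>
        intro hj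
        funext k
        have := hzero k (Fin.castSucc ⟨j + 1, hj⟩)
        rw [Fin.snoc_castSucc, show (Fin.castSucc ⟨j + 1, hj⟩ : Fin (s + 1)) = Fin.succ ⟨j, by omega⟩ from rfl,
          Fin.cons_succ, hV, ih (by omega), Matrix.mulVec_zero] at this
        exact this.symm
    funext j
    exact hall j.1 j.2
  calc a * s = Module.finrank F (LinearMap.range ((A ⊗ₖ B - 1).mulVecLin ∘ₗ T)) := by
        rw [LinearMap.finrank_range_of_inj hinj, Module.finrank_pi_fintype]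
        simp [mul_comm]
    _ ≤ (A ⊗ₖ B - 1).rank := Submodule.finrank_mono (LinearMap.range_comp_le_range _ _)

theorem nonscalar_bound {a b : ℕ} (A : Matrix (Fin a) (Fin a) F) (B : Matrix (Fin b) (Fin b) F)
    (hA : ∀ l : F, A ≠ l • 1) : b ≤ (A ⊗ₖ B - 1).rank := by
  obtain ⟨v, hv, hvA⟩ := TensorPrime.exists_noneigen A hA
  rw [kron_rank_swap]
  refine (mul_one b).symm.le.trans (rank_kron_cyclic B A v ?_)
  rw [show (fun j : Fin (1 + 1) => (A ^ (j : ℕ)) *ᵥ v) = ![v, A *ᵥ v] by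
    funext j; fin_cases j <;> simp, LinearIndependent.pair_iff' hv]
  exact fun c h => hvA c h.symm

theorem rank_kron_one {a b : ℕ} (M : Matrix (Fin a) (Fin a) F) :
    (M ⊗ₖ (1 : Matrix (Fin b) (Fin b) F) - 1).rank = b * (M - 1).rank := by
  rw [kron_rank_swap, ← TensorPrime.rank_one_kron]
  congr 1
  ext ⟨i, j⟩ ⟨k, l⟩
  by_cases h : i = k <;> by_cases h' : j = l <;>
    simp [Matrix.kroneckerMap_apply, Matrix.one_apply, h, h']

theorem split_powers {a b : ℕ} (ha : 0 < a) (hb : 0 < b) {A : Matrix (Fin a) (Fin a) F} {B : Matrix (Fin b) (Fin b) F}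
    (h : A ⊗ₖ B = 1) : ∃ μ : F, μ ≠ 0 ∧ A = μ • 1 ∧ B = μ⁻¹ • 1 := by
  have key : ∀ i j k l, A i j * B k l =
      (1 : Matrix (Fin a) (Fin a) F) i j * (1 : Matrix (Fin b) (Fin b) F) k l := fun i j k l => by
    have := congrFun (congrFun h (i, k)) (j, l)
    rw [Matrix.kroneckerMap_apply] at this
    rw [this]
    by_cases hi : i = j <;> by_cases hk : k = l <;> simp [hi, hk, Matrix.one_apply]
  have h0 := key ⟨0, ha⟩ ⟨0, ha⟩ ⟨0, hb⟩ ⟨0, hb⟩
  simp only [Matrix.one_apply_eq, mul_one] at h0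
  have hμ : A ⟨0, ha⟩ ⟨0, ha⟩ ≠ 0 := fun h1 => by rw [h1, zero_mul] at h0; exact zero_ne_one h0
  have hB : B = (A ⟨0, ha⟩ ⟨0, ha⟩)⁻¹ • 1 := by
    ext k l
    rw [Matrix.smul_apply, smul_eq_mul, eq_inv_mul_iff_mul_eq₀ hμ, key]
    simp
  refine ⟨_, hμ, ?_, hB⟩
  ext i j
  have := key i j ⟨0, hb⟩ ⟨0, hb⟩
  rw [Matrix.one_apply_eq, mul_one, hB, Matrix.smul_apply, smul_eq_mul, Matrix.one_apply_eq, mul_one,
    mul_inv_eq_iff_eq_mul₀ hμ] at this
  rw [this, Matrix.smul_apply, smul_eq_mul, mul_comm]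

theorem isometry_even_rank {b : ℕ} (h2 : (2 : F) ≠ 0) {f : (Fin b → F) → (Fin b → F) → F}
    (hf : Cfsg.Geo.IsSymmetricForm f) (M : Matrix (Fin b) (Fin b) F) {r : ℕ} (hr : Odd r) (hM : M ^ r = 1)
    (hiso : ∀ u v, f (M *ᵥ u) (M *ᵥ v) = f u v) : Even (M - 1).rank := by
  obtain ⟨B, hB⟩ : ∃ B : (Fin b → F) →ₗ[F] (Fin b → F) →ₗ[F] F, ∀ x y, B x y = f (M *ᵥ x) y - f x (M *ᵥ y) := by
    refine ⟨LinearMap.mk₂ F (fun x y => f (M *ᵥ x) y - f x (M *ᵥ y)) ?_ ?_ ?_ ?_, fun x y => rfl⟩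
    · intro x y v; rw [mulVec_add, hf.bilinear.add_left, hf.bilinear.add_left]; ring
    · intro c x v; rw [mulVec_smul, hf.bilinear.smul_left, hf.bilinear.smul_left, smul_eq_mul]; ring
    · intro v x y; rw [mulVec_add, hf.bilinear.add_right, hf.bilinear.add_right]; ring
    · intro c v x; rw [mulVec_smul, hf.bilinear.smul_right, hf.bilinear.smul_right, smul_eq_mul]; ring
  have halt : ∀ v, B v v = 0 := fun v => by rw [hB, hf.symm, sub_self]
  obtain ⟨R, hR⟩ : ∃ R, R = LinearMap.ker (M - 1).mulVecLin := ⟨_, rfl⟩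
  have hmemR : ∀ v, v ∈ R ↔ M *ᵥ v = v := fun v => by
    rw [hR, LinearMap.mem_ker, Matrix.mulVecLin_apply, sub_mulVec, one_mulVec, sub_eq_zero]
  have hrad : ∀ v, (∀ y, B v y = 0) → v ∈ R := by
    intro v hv
    have h2v : M *ᵥ (M *ᵥ v) = v := by
      refine sub_eq_zero.1 (by_contra fun h0 => ?_)
      obtain ⟨y, hy⟩ := (hf.nondegenerate _ h0).2
      refine hy ?_
      obtain ⟨z, rfl⟩ : ∃ z, M *ᵥ z = y :=
        ⟨(M ^ (r - 1)) *ᵥ y, by
          rw [mulVec_mulVec, ← pow_succ', Nat.sub_add_cancel hr.pos, hM, one_mulVec]⟩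
      rw [sub_eq_add_neg, hf.bilinear.add_left, hiso, ← neg_one_smul F v, hf.bilinear.smul_left]
      have := hv z
      rw [hB] at this
      linear_combination this
    obtain ⟨j, hj⟩ := hr
    have hpow : ∀ k, (M ^ (2 * k)) *ᵥ v = v := by
      intro k
      induction k with
      | zero => simp
      | succ k ih => rw [show 2 * (k + 1) = 2 * k + 1 + 1 by ring, pow_succ, pow_succ, ← mulVec_mulVec, ← mulVec_mulVec, h2v, ih]
    rw [hmemR]
    conv_rhs => rw [← one_mulVec v, ← hM, hj, pow_succ', ← mulVec_mulVec, hpow]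
  have hRrad : ∀ v ∈ R, ∀ y, B y v = 0 := fun v hv y => by
    rw [hB, (hmemR v).1 hv]
    have h := hiso y v
    rw [(hmemR v).1 hv] at h
    rw [h, sub_self]
  obtain ⟨C, hC⟩ := Submodule.exists_isCompl R
  obtain ⟨m, hm, -⟩ := CfsgLib.Classical.exists_symp_equiv (B.compl₁₂ C.subtype C.subtype) (fun x => halt x) (by
    intro v hv
    have hvR : (v : Fin b → F) ∈ R := hrad _ fun y => by
      obtain ⟨x, hx, c, hc, rfl⟩ := Submodule.mem_sup.1 (hC.sup_eq_top ▸ Submodule.mem_top : y ∈ R ⊔ C)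
      rw [map_add, hRrad x hx, zero_add]
      exact hv ⟨c, hc⟩
    exact Subtype.ext ((Submodule.disjoint_def.1 hC.disjoint) _ hvR v.2))
  have h1 := Submodule.finrank_add_eq_of_isCompl hC
  have h3 := LinearMap.finrank_range_add_finrank_ker (M - 1).mulVecLin
  rw [← hR] at h3
  exact ⟨m, by rw [Matrix.rank]; omega⟩

theorem cyclic_li [Fintype F] {n r : ℕ} [hr : Fact r.Prime] (hrF : (r : F) ≠ 0) {M : Matrix (Fin n) (Fin n) F}
    (hM : M ^ r = 1) (h1 : M ≠ 1) :
    ∃ w, LinearIndependent F fun j : Fin (orderOf (Fintype.card F : ZMod r)) => (M ^ (j : ℕ)) *ᵥ w := by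
  obtain ⟨w, hw⟩ : ∃ w, M *ᵥ w ≠ w := by
    by_contra! h
    exact h1 (Matrix.ext_of_mulVec_single fun i => by rw [h, one_mulVec])
  refine ⟨w, ?_⟩
  obtain ⟨e, he⟩ : ∃ e, orderOf (Fintype.card F : ZMod r) = e := ⟨_, rfl⟩
  rw [he]
  suffices h : ∀ j, j ≤ e → LinearIndependent F fun i : Fin j => (M ^ (i : ℕ)) *ᵥ w from h e le_rfl
  intro j
  induction j with
  | zero => exact fun _ => linearIndependent_empty_type
  | succ j ih =>
    intro hj
    have hL := ih (by omega)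
    rw [linearIndependent_fin_succ']
    refine ⟨hL, fun hmem => ?_⟩
    obtain ⟨X, hX⟩ : ∃ X, X = Submodule.span F (Set.range fun i : Fin j => (M ^ (i : ℕ)) *ᵥ w) := ⟨_, rfl⟩
    have hmem' : (M ^ j) *ᵥ w ∈ X := by rw [hX]; exact hmem
    have hinv : PrimeMaps.Inv (Matrix.toLin' M) X := by
      intro v hv
      rw [hX] at hv ⊢
      induction hv using Submodule.span_induction with
      | mem x hx =>
        obtain ⟨i, rfl⟩ := hx
        rw [Matrix.toLin'_apply, mulVec_mulVec, ← pow_succ']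
        by_cases hi : (i : ℕ) + 1 < j
        · exact Submodule.subset_span ⟨⟨_, hi⟩, rfl⟩
        · rw [show (i : ℕ) + 1 = j by omega, ← hX]; exact hmem'
      | zero => rw [map_zero]; exact Submodule.zero_mem _
      | add x y _ _ hx hy => rw [map_add]; exact Submodule.add_mem _ hx hy
      | smul c x _ hx => rw [map_smul]; exact Submodule.smul_mem _ _ hx
    have hwX : w ∈ X := by
      rcases Nat.eq_zero_or_pos j with rfl | hj0
      · simpa using hmem'
      · rw [hX]; exact Submodule.subset_span ⟨⟨0, hj0⟩, by simp⟩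
    have hf : ∀ v, (Matrix.toLin' M ^ r) v = v := fun v => by rw [← Matrix.toLin'_pow, hM]; simp
    have hd := (PrimeMaps.order_spec hrF hf hinv).1
    rw [he] at hd
    have hXd : Module.finrank F X ≤ j := by
      rw [hX]; exact (finrank_range_le_card _).trans (Fintype.card_fin j).le
    have hle := Submodule.finrank_mono (inf_le_left : X ⊓ PrimeMaps.fixed (Matrix.toLin' M) ≤ X)
    have hzero := Nat.eq_zero_of_dvd_of_lt hd (by omega)
    have heq := Submodule.eq_of_le_of_finrank_eq (inf_le_left : X ⊓ PrimeMaps.fixed (Matrix.toLin' M) ≤ X) (by omega)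
    have := PrimeMaps.mem_fixed.1 ((show w ∈ X ⊓ PrimeMaps.fixed (Matrix.toLin' M) by rw [heq]; exact hwX).2)
    rw [Matrix.toLin'_apply] at this
    exact hw this

/-- Lower bound for the moved space of a non-scalar tensor element. -/
theorem nonscalar_lt [Fintype F] {a b r e : ℕ} [hr : Fact r.Prime] (hrF : (r : F) ≠ 0) (ha : Even a) (hb : 3 ≤ b)
    (he : orderOf (Fintype.card F : ZMod r) = e) (he3 : 3 ≤ e) (A : Matrix (Fin a) (Fin a) F)
    (B : Matrix (Fin b) (Fin b) F) (hA : ∀ l : F, A ≠ l • 1) (h : (A ⊗ₖ B) ^ r = 1) :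
    2 * e < (A ⊗ₖ B - 1).rank := by
  classical
  have ha0 : 0 < a := Nat.pos_of_ne_zero fun h0 => hA 0 (by subst h0; exact Subsingleton.elim _ _)
  have hr1 : ¬ r ∣ Fintype.card F - 1 := fun hd => by
    have h1 : (Fintype.card F : ZMod r) = 1 := by
      rw [← sub_eq_zero, ← Nat.cast_one (R := ZMod r), ← Nat.cast_sub Fintype.card_pos]
      exact (ZMod.natCast_eq_zero_iff _ _).2 hd
    rw [h1, orderOf_one] at he
    omega
  have hpow : ∀ k, (A ⊗ₖ B) ^ k = (A ^ k) ⊗ₖ (B ^ k) := by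
    intro k
    induction k with
    | zero => rw [pow_zero, pow_zero, pow_zero, Matrix.one_kronecker_one]
    | succ k ih => rw [pow_succ, pow_succ, pow_succ, ih, ← Matrix.mul_kronecker_mul]
  rw [hpow] at h
  obtain ⟨μ, hμ, hAr, hBr⟩ := split_powers ha0 (by omega) h
  have hinj : Function.Injective (fun u : Fˣ => u ^ r) := by
    intro u v huv
    by_contra hne
    refine hr1 ?_
    have h1 : (u * v⁻¹) ^ r = 1 := by
      rw [mul_pow, show u ^ r = v ^ r from huv, _root_.inv_pow, mul_inv_cancel]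
    rw [← Fintype.card_units, ← orderOf_eq_prime h1 (fun h => hne (mul_inv_eq_one.1 h))]
    exact orderOf_dvd_card
  obtain ⟨ν, hν⟩ := (Finite.injective_iff_bijective.1 hinj).2 (Units.mk0 μ hμ)
  have hν' : (ν : F) ^ r = μ := by rw [← Units.val_pow_eq_pow_val, show ν ^ r = Units.mk0 μ hμ from hν]; rfl
  obtain ⟨A', hA'⟩ : ∃ A', A' = (ν : F)⁻¹ • A := ⟨_, rfl⟩
  obtain ⟨B', hB'⟩ : ∃ B', B' = (ν : F) • B := ⟨_, rfl⟩
  have hK : A ⊗ₖ B = A' ⊗ₖ B' := by
    rw [hA', hB', Matrix.smul_kronecker, Matrix.kronecker_smul, smul_smul, inv_mul_cancel₀ ν.ne_zero, one_smul]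
  have hA'r : A' ^ r = 1 := by
    rw [hA', _root_.smul_pow, hAr, smul_smul, _root_.inv_pow, hν', inv_mul_cancel₀ hμ, one_smul]
  have hB'r : B' ^ r = 1 := by
    rw [hB', _root_.smul_pow, hBr, smul_smul, hν', mul_inv_cancel₀ hμ, one_smul]
  have hA'1 : A' ≠ 1 := fun h1 => hA ν (by rw [← h1, hA', smul_smul, mul_inv_cancel₀ ν.ne_zero, one_smul])
  have hdA : e ∣ (A' - 1).rank := by
    have := TensorPrime.order_dvd_rank hrF A' hA'r
    rwa [he, one_smul] at this
  have hApos : 0 < (A' - 1).rank := by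
    refine Nat.pos_of_ne_zero fun h0 => hA'1 (sub_eq_zero.1 ?_)
    rw [Matrix.rank, Submodule.finrank_eq_zero, LinearMap.range_eq_bot] at h0
    exact Matrix.ext_of_mulVec_single fun i => by
      rw [← Matrix.mulVecLin_apply, h0]; funext k; simp
  have heA : e ≤ (A' - 1).rank := Nat.le_of_dvd hApos hdA
  have hea : e ≤ a := heA.trans ((Matrix.rank_le_card_width _).trans (Fintype.card_fin a).le)
  rw [hK]
  by_cases hB1 : B' = 1
  · rw [hB1, rank_kron_one]
    calc 2 * e < 3 * e := by omega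
      _ ≤ b * (A' - 1).rank := Nat.mul_le_mul hb heA
  · obtain ⟨w, hw⟩ := cyclic_li hrF hB'r hB1
    rw [he] at hw
    obtain ⟨s, rfl⟩ : ∃ s, e = s + 1 := ⟨e - 1, by omega⟩
    have := rank_kron_cyclic A' B' w hw
    obtain ⟨k, rfl⟩ := ha
    rcases Nat.lt_or_ge s 3 with hs | hs
    · have : s = 2 := by omega
      subst this
      omega
    · have : (k + k) * 3 ≤ (k + k) * s := Nat.mul_le_mul le_rfl hs
      omega

section Main

variable {d a b : ℕ} {e : (Fin d ⊕ Fin d) ≃ Fin a × Fin b} {P : GL (Fin d ⊕ Fin d) F}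
  {f₁ : (Fin a → F) → (Fin a → F) → F} {f₂ : (Fin b → F) → (Fin b → F) → F}

/-- The factors of an element of the stabiliser. -/
theorem factors (hf₁ : Cfsg.Geo.IsSymplecticForm f₁) (hf₂ : Cfsg.Geo.IsSymmetricForm f₂)
    (hS : Cfsg.Geo.IsTensorFormStructure id (Cfsg.sympForm d F) f₁ f₂ e P) {g : GL (Fin d ⊕ Fin d) F}
    (hg : g ∈ Cfsg.Geo.tensorProductSubgroup a b e P) (hgI : g ∈ Cfsg.spGL d F) :
    ∃ (A : GL (Fin a) F) (B : GL (Fin b) F),
      ((g : Matrix (Fin d ⊕ Fin d) (Fin d ⊕ Fin d) F) - 1).rank =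
        ((A : Matrix (Fin a) (Fin a) F) ⊗ₖ (B : Matrix (Fin b) (Fin b) F) - 1).rank ∧
      (∀ r : ℕ, (g : Matrix (Fin d ⊕ Fin d) (Fin d ⊕ Fin d) F) ^ r = 1 →
        ((A : Matrix (Fin a) (Fin a) F) ⊗ₖ (B : Matrix (Fin b) (Fin b) F)) ^ r = 1) ∧
      ∀ u u' y y', f₁ ((A : Matrix (Fin a) (Fin a) F) *ᵥ u) ((A : Matrix (Fin a) (Fin a) F) *ᵥ u') *
        f₂ ((B : Matrix (Fin b) (Fin b) F) *ᵥ y) ((B : Matrix (Fin b) (Fin b) F) *ᵥ y') = f₁ u u' * f₂ y y' := by
  obtain ⟨_, ⟨z, ⟨A, B, hz⟩, rfl⟩, rfl⟩ := hg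
  obtain ⟨K, hK⟩ : ∃ K, K = (A : Matrix (Fin a) (Fin a) F) ⊗ₖ (B : Matrix (Fin b) (Fin b) F) := ⟨_, rfl⟩
  have hval : ((MulAut.conj P) ((Cfsg.Geo.glReindex e.symm) z) : GL (Fin d ⊕ Fin d) F).1 =
      (P : Matrix (Fin d ⊕ Fin d) (Fin d ⊕ Fin d) F) * Matrix.reindexAlgEquiv F F e.symm K *
        ((P⁻¹ : GL (Fin d ⊕ Fin d) F) : Matrix (Fin d ⊕ Fin d) (Fin d ⊕ Fin d) F) := by rw [hK, ← hz]; rfl
  simp only [MulEquiv.coe_toMonoidHom] at hgI ⊢
  refine ⟨A, B, ?_, fun r hr => ?_, fun u u' y y' => ?_⟩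
  · rw [hval, ← hK]
    have e1 : (P : Matrix (Fin d ⊕ Fin d) (Fin d ⊕ Fin d) F) * Matrix.reindexAlgEquiv F F e.symm K *
        ((P⁻¹ : GL (Fin d ⊕ Fin d) F) : Matrix (Fin d ⊕ Fin d) (Fin d ⊕ Fin d) F) - 1 =
        (P : Matrix (Fin d ⊕ Fin d) (Fin d ⊕ Fin d) F) * Matrix.reindexAlgEquiv F F e.symm (K - 1) *
        ((P⁻¹ : GL (Fin d ⊕ Fin d) F) : Matrix (Fin d ⊕ Fin d) (Fin d ⊕ Fin d) F) := by
      rw [map_sub, map_one, mul_sub, sub_mul, mul_one, Units.mul_inv]
    rw [e1, Matrix.rank_mul_eq_left_of_isUnit_det _ _ ((Matrix.isUnit_iff_isUnit_det _).1 (P⁻¹).isUnit),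
      Matrix.rank_mul_eq_right_of_isUnit_det _ _ ((Matrix.isUnit_iff_isUnit_det _).1 P.isUnit),
      Matrix.reindexAlgEquiv_apply, Matrix.rank_reindex]
  · rw [hval, Units.conj_pow, ← map_pow] at hr
    rw [← hK]
    refine (Matrix.reindexAlgEquiv F F e.symm).injective ?_
    rw [map_one]
    have h := congrArg (fun X => ((P⁻¹ : GL (Fin d ⊕ Fin d) F) : Matrix (Fin d ⊕ Fin d) (Fin d ⊕ Fin d) F) * X *
      (P : Matrix (Fin d ⊕ Fin d) (Fin d ⊕ Fin d) F)) hr
    simpa [mul_assoc] using h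
  · obtain ⟨c, hc, hS⟩ := hS
    have hact : ∀ u y, ((MulAut.conj P) ((Cfsg.Geo.glReindex e.symm) z) : GL (Fin d ⊕ Fin d) F).1 *ᵥ
        ((P : Matrix (Fin d ⊕ Fin d) (Fin d ⊕ Fin d) F) *ᵥ ((fun p => u p.1 * y p.2) ∘ e)) =
        (P : Matrix (Fin d ⊕ Fin d) (Fin d ⊕ Fin d) F) *ᵥ ((fun p => ((A : Matrix (Fin a) (Fin a) F) *ᵥ u) p.1 *
          ((B : Matrix (Fin b) (Fin b) F) *ᵥ y) p.2) ∘ e) := fun u y => by
      rw [hval, ← Matrix.mulVec_mulVec, Matrix.mulVec_mulVec ((fun p => u p.1 * y p.2) ∘ e), Units.inv_mul,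
        Matrix.one_mulVec, ← Matrix.mulVec_mulVec, Matrix.reindexAlgEquiv_apply, Matrix.reindex_apply,
        Equiv.symm_symm, Matrix.submatrix_mulVec_equiv, hK]
      simp only [Function.comp_assoc, Equiv.self_comp_symm, Function.comp_id, TensorRefine.kronecker_mulVec]
    have hform : ∀ u u' y y', Cfsg.sympForm d F
        ((P : Matrix (Fin d ⊕ Fin d) (Fin d ⊕ Fin d) F) *ᵥ ((fun p => u p.1 * y p.2) ∘ e))
        ((P : Matrix (Fin d ⊕ Fin d) (Fin d ⊕ Fin d) F) *ᵥ ((fun p => u' p.1 * y' p.2) ∘ e)) =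
          c * (f₁ u u' * f₂ y y') := fun u u' y y' => by
      rw [hS, TensorRefine.formOfGram_kronecker id (fun _ _ => rfl),
        ← TensorRefine.form_eq (σ := id) hf₁.bilinear.add_left hf₁.bilinear.smul_left hf₁.bilinear.add_right
          hf₁.bilinear.smul_right,
        ← TensorRefine.form_eq (σ := id) hf₂.bilinear.add_left hf₂.bilinear.smul_left hf₂.bilinear.add_right
          hf₂.bilinear.smul_right]
    have h := hgI ((P : Matrix (Fin d ⊕ Fin d) (Fin d ⊕ Fin d) F) *ᵥ ((fun p => u p.1 * y p.2) ∘ e))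
      ((P : Matrix (Fin d ⊕ Fin d) (Fin d ⊕ Fin d) F) *ᵥ ((fun p => u' p.1 * y' p.2) ∘ e))
    change Cfsg.sympForm d F (((MulAut.conj P) ((Cfsg.Geo.glReindex e.symm) z) : GL (Fin d ⊕ Fin d) F).1 *ᵥ _)
      (((MulAut.conj P) ((Cfsg.Geo.glReindex e.symm) z) : GL (Fin d ⊕ Fin d) F).1 *ᵥ _) = _ at h
    rw [hact, hact, hform, hform] at h
    exact mul_left_cancel₀ hc h

/-- An element whose fixed space has a dimension no tensor element has. -/
theorem no_conjugate (ha : 0 < a) (hb : 0 < b) (hf₁ : Cfsg.Geo.IsSymplecticForm f₁) (hf₂ : Cfsg.Geo.IsSymmetricForm f₂)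
    (hS : Cfsg.Geo.IsTensorFormStructure id (Cfsg.sympForm d F) f₁ f₂ e P) {r : ℕ}
    (x : GL (Fin d ⊕ Fin d) F) (hx : x ∈ Cfsg.spGL d F)
    (hxr : (x : Matrix (Fin d ⊕ Fin d) (Fin d ⊕ Fin d) F) ^ r = 1)
    (hscal : ∀ M : Matrix (Fin b) (Fin b) F, M ^ r = 1 → (∀ u v, f₂ (M *ᵥ u) (M *ᵥ v) = f₂ u v) →
      ((x : Matrix (Fin d ⊕ Fin d) (Fin d ⊕ Fin d) F) - 1).rank ≠ a * (M - 1).rank)
    (hnon : ∀ (A : Matrix (Fin a) (Fin a) F) (B : Matrix (Fin b) (Fin b) F), (∀ l : F, A ≠ l • 1) →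
      (A ⊗ₖ B) ^ r = 1 → ((x : Matrix (Fin d ⊕ Fin d) (Fin d ⊕ Fin d) F) - 1).rank < (A ⊗ₖ B - 1).rank)
    (g : GL (Fin d ⊕ Fin d) F) (hg : g ∈ Cfsg.spGL d F) :
    g⁻¹ * x * g ∉ Cfsg.Geo.tensorProductSubgroup a b e P := by
  intro hmem
  obtain ⟨A, B, hrk, hpow, hform⟩ := factors hf₁ hf₂ hS hmem (mul_mem (mul_mem (inv_mem hg) hx) hg)
  have hrk' : (((g⁻¹ * x * g : GL (Fin d ⊕ Fin d) F) : Matrix (Fin d ⊕ Fin d) (Fin d ⊕ Fin d) F) - 1).rank =
      ((x : Matrix (Fin d ⊕ Fin d) (Fin d ⊕ Fin d) F) - 1).rank := by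
    rw [show ((g⁻¹ * x * g : GL (Fin d ⊕ Fin d) F) : Matrix (Fin d ⊕ Fin d) (Fin d ⊕ Fin d) F) - 1 =
      ((g⁻¹ : GL (Fin d ⊕ Fin d) F) : Matrix (Fin d ⊕ Fin d) (Fin d ⊕ Fin d) F) * ((x : Matrix _ _ F) - 1) * (g : Matrix (Fin d ⊕ Fin d) (Fin d ⊕ Fin d) F) by
        rw [Units.val_mul, Units.val_mul, mul_sub, sub_mul, mul_one, Units.inv_mul],
      Matrix.rank_mul_eq_left_of_isUnit_det _ _ ((Matrix.isUnit_iff_isUnit_det _).1 g.isUnit),
      Matrix.rank_mul_eq_right_of_isUnit_det _ _ ((Matrix.isUnit_iff_isUnit_det _).1 (g⁻¹).isUnit)]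
  rw [hrk'] at hrk
  have hKr := hpow r (by rw [Units.val_mul, Units.val_mul, Units.conj_pow', hxr]; simp)
  by_cases hA : ∃ l : F, (A : Matrix (Fin a) (Fin a) F) = l • 1
  · obtain ⟨l, hl⟩ := hA
    obtain ⟨M, hM⟩ : ∃ M, M = l • (B : Matrix (Fin b) (Fin b) F) := ⟨_, rfl⟩
    have hK : (A : Matrix (Fin a) (Fin a) F) ⊗ₖ (B : Matrix (Fin b) (Fin b) F) =
        (1 : Matrix (Fin a) (Fin a) F) ⊗ₖ M := by
      rw [hM, hl, Matrix.smul_kronecker, Matrix.kronecker_smul]
    rw [hK] at hKr hrk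
    refine hscal M ?_ ?_ ?_
    · have hp : ∀ k, ((1 : Matrix (Fin a) (Fin a) F) ⊗ₖ M) ^ k = (1 : Matrix (Fin a) (Fin a) F) ⊗ₖ (M ^ k) := by
        intro k
        induction k with
        | zero => rw [pow_zero, pow_zero, Matrix.one_kronecker_one]
        | succ k ih => rw [pow_succ, pow_succ, ih, ← Matrix.mul_kronecker_mul, one_mul]
      rw [hp] at hKr
      obtain ⟨μ, hμ, h1, h2⟩ := split_powers ha hb hKr
      have : μ = 1 := by simpa using (congrFun (congrFun h1 ⟨0, ha⟩) ⟨0, ha⟩).symm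
      rw [h2, this, inv_one, one_smul]
    · intro u v
      obtain ⟨u₀, hu₀⟩ : ∃ u₀ : Fin a → F, u₀ ≠ 0 := ⟨Pi.single ⟨0, ha⟩ 1, by simp⟩
      obtain ⟨w₀, hw₀⟩ := (hf₁.nondegenerate u₀ hu₀).2
      have h := hform u₀ w₀ u v
      rw [hl, smul_mulVec, smul_mulVec, one_mulVec, one_mulVec, hf₁.bilinear.smul_left,
        hf₁.bilinear.smul_right] at h
      rw [hM, smul_mulVec, smul_mulVec, hf₂.bilinear.smul_left, hf₂.bilinear.smul_right]
      exact mul_left_cancel₀ hw₀ (by linear_combination h)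
    · rw [hrk, ← TensorPrime.rank_one_kron]
      congr 1
      ext ⟨i, j⟩ ⟨k, m⟩
      by_cases h : i = k <;> by_cases h' : j = m <;> simp [Matrix.kroneckerMap_apply, Matrix.one_apply, h, h']
  · push Not at hA
    exact (hnon _ _ hA hKr).ne hrk

end Main

theorem exists_block [Fintype F] {q r : ℕ} [hr : Fact r.Prime] (hq : Fintype.card F = q) (hrF : (r : F) ≠ 0)
    (hr2 : r ≠ 2) (hrq : ¬ r ∣ q) :
    ∃ (i : ℕ) (y : symplecticGroup (Fin i) F), 1 ≤ i ∧ (∀ j, 1 ≤ j → r ∣ q ^ (2 * j) - 1 → i ≤ j) ∧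
      2 * i ≤ 2 * orderOf (q : ZMod r) ∧ (Odd (orderOf (q : ZMod r)) → i = orderOf (q : ZMod r)) ∧
      (Even (orderOf (q : ZMod r)) → 2 * i = orderOf (q : ZMod r)) ∧
      y ^ r = 1 ∧ ∀ v, y.1 *ᵥ v = v → v = 0 := by
  classical
  obtain ⟨e, he⟩ : ∃ e, orderOf (q : ZMod r) = e := ⟨_, rfl⟩
  rw [he]
  have he0 : 0 < e := by
    rw [← he, orderOf_pos_iff, isOfFinOrder_iff_pow_eq_one]
    refine ⟨r - 1, by have := hr.out.two_le; omega, ZMod.pow_card_sub_one_eq_one fun h => hrq ?_⟩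
    exact (ZMod.natCast_eq_zero_iff _ _).1 h
  have hdiv : ∀ k, r ∣ q ^ k - 1 → e ∣ k := fun k hk => by
    rw [← he]
    refine orderOf_dvd_of_pow_eq_one ?_
    rw [← sub_eq_zero, ← Nat.cast_pow, ← Nat.cast_one (R := ZMod r),
      ← Nat.cast_sub (Nat.one_le_pow _ _ (hq ▸ Fintype.card_pos))]
    exact (ZMod.natCast_eq_zero_iff _ _).2 hk
  rcases Nat.even_or_odd e with ⟨i, hi⟩ | ho
  · have hqi : (q : ZMod r) ^ i = -1 := by
      have h1 : ((q : ZMod r) ^ i) * ((q : ZMod r) ^ i) = 1 := by rw [← pow_add, ← hi, ← he, pow_orderOf_eq_one]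
      refine (mul_self_eq_one_iff.1 h1).resolve_left fun h => ?_
      have := Nat.le_of_dvd (by omega) (he ▸ orderOf_dvd_of_pow_eq_one h)
      omega
    obtain ⟨Y, hY⟩ := (CfsgLib.KnownSimple.exists_sp_orderOf_torus (F := F) (show 1 ≤ i by omega)).2
    rw [hq] at hY
    have hri : r ∣ q ^ i + 1 := by
      rw [← ZMod.natCast_eq_zero_iff, Nat.cast_add, Nat.cast_pow, Nat.cast_one, hqi, neg_add_cancel]
    obtain ⟨y, hy⟩ : ∃ y : symplecticGroup (Fin i) F, orderOf y = r :=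
      ⟨Y ^ ((q ^ i + 1) / r), by rw [← hY]; exact orderOf_pow_orderOf_div (by rw [hY]; omega) (hY ▸ hri)⟩
    refine ⟨i, y, by omega, fun j hj hd => ?_, by omega, fun h => ?_, fun _ => by omega,
      hy ▸ pow_orderOf_eq_one y, fun v hv => ?_⟩
    · have := Nat.le_of_dvd (by omega) (hdiv _ hd)
      omega
    · rw [Nat.odd_iff] at h; omega
    · have hf : ∀ v, (Matrix.toLin' y.1 ^ r) v = v := fun v => by
        rw [← Matrix.toLin'_pow, ← SubmonoidClass.coe_pow, show y ^ r = 1 from hy ▸ pow_orderOf_eq_one y]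
        simp
      have h := (PrimeMaps.order_spec hrF hf (X := ⊤) fun _ _ => Submodule.mem_top).1
      rw [top_inf_eq, finrank_top, hq, he, Module.finrank_pi, Fintype.card_sum, Fintype.card_fin] at h
      by_contra hv0
      have hne : PrimeMaps.fixed (Matrix.toLin' y.1) ≠ ⊥ := fun h0 => hv0 (by
        have : v ∈ PrimeMaps.fixed (Matrix.toLin' y.1) := PrimeMaps.mem_fixed.2 (by rw [Matrix.toLin'_apply]; exact hv)
        rw [h0] at this
        exact this)
      have h1 := Submodule.one_le_finrank_iff.2 hne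
      have h0 := Nat.eq_zero_of_dvd_of_lt h (by omega)
      have hle := Submodule.finrank_le (PrimeMaps.fixed (Matrix.toLin' y.1))
      rw [Module.finrank_pi, Fintype.card_sum, Fintype.card_fin] at hle
      have htop := Submodule.eq_top_of_finrank_eq (S := PrimeMaps.fixed (Matrix.toLin' y.1))
        (by rw [Module.finrank_pi, Fintype.card_sum, Fintype.card_fin]; omega)
      have hy1 : y = 1 := Subtype.ext (Matrix.ext_of_mulVec_single fun j => by
        have := PrimeMaps.mem_fixed.1 (htop ▸ Submodule.mem_top :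
          Pi.single j 1 ∈ PrimeMaps.fixed (Matrix.toLin' y.1))
        rw [Matrix.toLin'_apply] at this
        rw [Submonoid.coe_one, one_mulVec]; exact this)
      rw [hy1, orderOf_one] at hy
      exact hr.out.one_lt.ne hy
  · obtain ⟨A, hA, hfix⟩ : ∃ A : Matrix (Fin e) (Fin e) F, A ^ r = 1 ∧ ∀ v, A *ᵥ v = v → v = 0 := by
      rcases Nat.lt_or_ge e 2 with h1 | h2
      · obtain rfl : e = 1 := by omega
        have hd : r ∣ Fintype.card Fˣ := by
          rw [orderOf_eq_one_iff] at he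
          rw [Fintype.card_units, ← ZMod.natCast_eq_zero_iff, Nat.cast_sub Fintype.card_pos, hq, he, Nat.cast_one,
            sub_self]
        obtain ⟨ζ, hζ⟩ := exists_prime_orderOf_dvd_card r hd
        refine ⟨(ζ : F) • 1, by
          rw [_root_.smul_pow, one_pow, ← Units.val_pow_eq_pow_val,
            show ζ ^ r = 1 from hζ ▸ pow_orderOf_eq_one ζ, Units.val_one, one_smul], fun v hv => ?_⟩
        rw [smul_mulVec, one_mulVec] at hv
        by_contra h0
        have : (ζ : F) = 1 := smul_left_injective F h0 (hv.trans (one_smul F v).symm)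
        rw [Units.val_eq_one] at this
        rw [this, orderOf_one] at hζ
        exact hr.out.one_lt.ne hζ
      · obtain ⟨A, hA, -, -, hfix⟩ := PrimeMaps.exists_order_matrix (n := e) hrF (by rw [hq, he]; exact h2)
          (by rw [hq, he])
        rw [hq, he, Nat.mod_self, Nat.le_zero, Submodule.finrank_eq_zero] at hfix
        refine ⟨A, hA, fun v hv => ?_⟩
        have : v ∈ PrimeMaps.fixed (Matrix.toLin' A) := PrimeMaps.mem_fixed.2 (by rw [Matrix.toLin'_apply]; exact hv)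
        rw [hfix] at this
        exact this
    obtain ⟨C, hC⟩ : ∃ C, C = A ^ (r - 1) := ⟨_, rfl⟩
    have hCA : C * A = 1 := by rw [hC, ← pow_succ, Nat.sub_add_cancel hr.out.one_le, hA]
    have hAC : A * C = 1 := by rw [hC, ← pow_succ', Nat.sub_add_cancel hr.out.one_le, hA]
    have hmem : fromBlocks A 0 0 Cᵀ ∈ symplecticGroup (Fin e) F := by
      rw [SymplecticGroup.mem_iff, Matrix.J, fromBlocks_transpose, fromBlocks_multiply, fromBlocks_multiply]
      have : Cᵀ * Aᵀ = 1 := by rw [← transpose_mul, hAC, transpose_one]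
      simp [hAC, this]
    refine ⟨e, ⟨_, hmem⟩, by omega, fun j hj hd => ?_, by omega, fun _ => rfl, fun h => ?_, ?_, fun v hv => ?_⟩
    · exact Nat.le_of_dvd hj ((Nat.Coprime.dvd_mul_left (Nat.coprime_two_right.2 ho)).1 (hdiv _ hd))
    · rw [Nat.odd_iff] at ho; rw [Nat.even_iff] at h; omega
    · refine Subtype.ext ?_
      rw [SubmonoidClass.coe_pow, Submonoid.coe_one]
      show (fromBlocks A 0 0 Cᵀ) ^ r = 1
      rw [fromBlocks_diagonal_pow, hA, ← transpose_pow, hC, ← pow_mul, mul_comm, pow_mul, hA, one_pow, transpose_one,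
        fromBlocks_one]
    · change fromBlocks A 0 0 Cᵀ *ᵥ v = v at hv
      rw [fromBlocks_mulVec] at hv
      have h1 : A *ᵥ (v ∘ Sum.inl) = v ∘ Sum.inl := funext fun j => by simpa using congrFun hv (Sum.inl j)
      have h2 : Cᵀ *ᵥ (v ∘ Sum.inr) = v ∘ Sum.inr := funext fun j => by simpa using congrFun hv (Sum.inr j)
      have hl := hfix _ h1
      have hrr : v ∘ Sum.inr = 0 := by
        have hinj : Function.Injective (A - 1).mulVec := fun u w h => by
          simp only [sub_mulVec, one_mulVec] at h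
          exact sub_eq_zero.1 (hfix _ (by rw [mulVec_sub]; exact sub_eq_sub_iff_sub_eq_sub.1 h))
        have hU : IsUnit (A - 1) := Matrix.mulVec_injective_iff_isUnit.1 hinj
        have hUt : IsUnit (A - 1)ᵀ := by
          rw [Matrix.isUnit_iff_isUnit_det, det_transpose, ← Matrix.isUnit_iff_isUnit_det]; exact hU
        refine Matrix.mulVec_injective_iff_isUnit.2 hUt ?_
        rw [mulVec_zero, transpose_sub, transpose_one, sub_mulVec, one_mulVec]
        nth_rewrite 1 [← h2]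
        rw [mulVec_mulVec, ← transpose_mul, hCA, transpose_one, one_mulVec, sub_self]
      funext j
      rcases j with j | j
      · exact congrFun hl j
      · exact congrFun hrr j

theorem block_embed {i d r : ℕ} (hi : 1 ≤ i) (hid : i ≤ d) (hri : i < d ∨ Odd r) (y : symplecticGroup (Fin i) F)
    (hyr : y ^ r = 1) (hfix : ∀ v, y.1 *ᵥ v = v → v = 0) :
    ∃ x : symplecticGroup (Fin d) F, x.1 ^ r = 1 ∧ (x.1 - 1).rank = 2 * i ∧ ∀ z : F, x.1 ≠ z • 1 := by
  classical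
  obtain ⟨k, hk⟩ : ∃ k, i + k = d := ⟨d - i, by omega⟩
  obtain ⟨x, hx⟩ : ∃ x, x = CfsgLib.KnownSimple.spSum (F := F) hk (y, 1) := ⟨_, rfl⟩
  have hval : x.1 = Matrix.reindexAlgEquiv F F (CfsgLib.KnownSimple.spSumEquiv hk)
      (fromBlocks y.1 0 0 (1 : Matrix (Fin k ⊕ Fin k) (Fin k ⊕ Fin k) F)) := by rw [hx]; rfl
  have hyr' : y.1 ^ r = 1 := by rw [← SubmonoidClass.coe_pow, hyr]; rfl
  have hU : IsUnit (y.1 - 1) := by
    rw [← Matrix.mulVec_injective_iff_isUnit]
    intro u v h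
    simp only [sub_mulVec, one_mulVec] at h
    exact sub_eq_zero.1 (hfix _ (by rw [mulVec_sub]; exact sub_eq_sub_iff_sub_eq_sub.1 h))
  refine ⟨x, by rw [hval, ← map_pow, fromBlocks_diagonal_pow, hyr', one_pow, fromBlocks_one, map_one], ?_, fun z hz => ?_⟩
  · rw [hval, ← map_one (Matrix.reindexAlgEquiv F F (CfsgLib.KnownSimple.spSumEquiv hk)), ← map_sub,
      Matrix.reindexAlgEquiv_apply, Matrix.rank_reindex]
    have e1 : fromBlocks y.1 0 0 (1 : Matrix (Fin k ⊕ Fin k) (Fin k ⊕ Fin k) F) - 1 =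
        fromBlocks (y.1 - 1) 0 0 (1 : Matrix (Fin k ⊕ Fin k) (Fin k ⊕ Fin k) F) *
          diagonal (Sum.elim (fun _ => (1 : F)) (fun _ => 0)) := by
      ext (u | u) (v | v) <;> simp [Matrix.mul_diagonal, Matrix.one_apply]
    rw [e1, Matrix.rank_mul_eq_right_of_isUnit_det _ _ (by
      rw [det_fromBlocks_zero₂₁, det_one, mul_one]; exact (Matrix.isUnit_iff_isUnit_det _).1 hU),
      Matrix.rank_diagonal, Fintype.card_subtype, Finset.card_filter, Fintype.sum_sum_type]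
    simp [two_mul]
  · rw [hval] at hz
    have hy : y.1 = z • 1 := by
      ext u v
      have := congrFun (congrFun hz (CfsgLib.KnownSimple.spSumEquiv hk (.inl u)))
        (CfsgLib.KnownSimple.spSumEquiv hk (.inl v))
      simpa [Matrix.one_apply] using this
    have hz1 : z = 1 := by
      rcases hri with h | h
      · have := congrFun (congrFun hz (CfsgLib.KnownSimple.spSumEquiv hk (.inr (.inl ⟨0, by omega⟩))))
          (CfsgLib.KnownSimple.spSumEquiv hk (.inr (.inl ⟨0, by omega⟩)))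
        simpa [eq_comm] using this
      · have h2 := CfsgLib.Classical.sp_form y (Pi.single (Sum.inr ⟨0, hi⟩) 1) (Pi.single (Sum.inl ⟨0, hi⟩) 1)
        rw [hy, smul_mulVec, one_mulVec, smul_mulVec, one_mulVec, CfsgLib.Classical.sympForm_smul_left,
          CfsgLib.Classical.sympForm_smul_right, CfsgLib.Classical.sympForm_single_inl] at h2
        simp at h2
        have hzr : z ^ r = 1 := by
          have h' := congrFun (congrFun hyr' (Sum.inl ⟨0, hi⟩)) (Sum.inl ⟨0, hi⟩)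
          rw [hy, _root_.smul_pow, one_pow] at h'
          simpa using h'
        obtain ⟨j, hj⟩ := h
        rw [hj, pow_succ, pow_mul, sq, h2, one_pow, one_mul] at hzr
        exact hzr
    have := hfix (Pi.single (Sum.inl ⟨0, hi⟩) 1) (by rw [hy, hz1, one_smul, one_mulVec])
    simp at this

/-- Derangements in all cases but involutions with a symplectic factor of dimension two. -/
theorem exists_derangement [Fintype F] {p q d a b r : ℕ} [hp : Fact p.Prime] [CharP F p] [hr : Fact r.Prime]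
    (hq : Fintype.card F = q) (hodd : Odd q) (hd : 2 ≤ d) (hab : 2 * d = a * b) (ha : Even a) (ha2 : 2 ≤ a)
    (hb : 3 ≤ b) (e : (Fin d ⊕ Fin d) ≃ Fin a × Fin b) (P : GL (Fin d ⊕ Fin d) F)
    (f₁ : (Fin a → F) → (Fin a → F) → F) (f₂ : (Fin b → F) → (Fin b → F) → F)
    (hf₁ : Cfsg.Geo.IsSymplecticForm f₁) (hf₂ : Cfsg.Geo.IsSymmetricForm f₂)
    (hS : Cfsg.Geo.IsTensorFormStructure id (Cfsg.sympForm d F) f₁ f₂ e P)
    (hΩ : r ∣ (Cfsg.Geo.tensorProductSubgroup a b e P).relIndex (Cfsg.spGL d F)) (hcase : ¬ (r = 2 ∧ a = 2)) :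
    ∃ x ∈ Cfsg.spGL d F, (x : Matrix (Fin d ⊕ Fin d) (Fin d ⊕ Fin d) F) ^ r = 1 ∧
      (∀ z : F, (x : Matrix (Fin d ⊕ Fin d) (Fin d ⊕ Fin d) F) ≠ z • 1) ∧
      ∀ g ∈ Cfsg.spGL d F, g⁻¹ * x * g ∉ Cfsg.Geo.tensorProductSubgroup a b e P := by
  classical
  have hd0 : 6 ≤ 2 * d := by
    have : 2 * 3 ≤ a * b := Nat.mul_le_mul ha2 hb
    omega
  have h2 := InvolArith.two_ne_zero_of_odd hq hodd
  have use_sp : ∀ x : symplecticGroup (Fin d) F, ∃ X : GL (Fin d ⊕ Fin d) F, X ∈ Cfsg.spGL d F ∧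
      (X : Matrix (Fin d ⊕ Fin d) (Fin d ⊕ Fin d) F) = x.1 :=
    fun x => ⟨(CfsgLib.Classical.spToSpGL x).1, (CfsgLib.Classical.spToSpGL x).2, rfl⟩
  by_cases hr2 : r = 2
  · have ha4 : 4 ≤ a := by
      obtain ⟨k, rfl⟩ := ha
      have : k + k ≠ 2 := fun h => hcase ⟨hr2, h⟩
      omega
    obtain ⟨y, hy⟩ : ∃ y : symplecticGroup (Fin 1) F, y.1 = -1 := by
      refine ⟨⟨-1, ?_⟩, rfl⟩
      rw [SymplecticGroup.mem_iff]; simp
    obtain ⟨x, hxr, hxk, hxs⟩ := block_embed (d := d) (r := r) le_rfl (by omega) (Or.inl (by omega)) y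
      (Subtype.ext (by rw [SubmonoidClass.coe_pow, hy, hr2]; simp)) (fun v hv => by
        rw [hy, neg_mulVec, one_mulVec] at hv
        funext j
        have := congrFun hv j
        simp at this
        exact (mul_eq_zero.1 (show (2 : F) * v j = 0 by linear_combination -this)).resolve_left h2)
    obtain ⟨X, hX, hXv⟩ := use_sp x
    refine ⟨X, hX, by rw [hXv]; exact hxr, by rw [hXv]; exact hxs,
      no_conjugate (r := r) (by omega) (by omega) hf₁ hf₂ hS X hX (by rw [hXv]; exact hxr) (fun M _ _ h => ?_)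
        (fun A B hA _ => ?_)⟩
    · rw [hXv, hxk] at h
      have := Nat.le_of_dvd two_pos ⟨_, h⟩
      omega
    · rw [hXv, hxk]
      have := nonscalar_bound A B hA
      omega
  have hro : Odd r := hr.out.odd_of_ne_two hr2
  by_cases hrp : r = p
  · obtain ⟨v, hv⟩ : ∃ v : Fin d ⊕ Fin d → F, v = Pi.single (Sum.inl ⟨0, by omega⟩) 1 := ⟨_, rfl⟩
    obtain ⟨x, hx⟩ : ∃ x, x = CfsgLib.Classical.spT v (1 : F) := ⟨_, rfl⟩
    have hpow : ∀ k : ℕ, x ^ k = CfsgLib.Classical.spT v (k : F) := by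
      intro k
      induction k with
      | zero => rw [pow_zero, Nat.cast_zero, CfsgLib.Classical.spT_zero]
      | succ k ih => rw [pow_succ, ih, hx, CfsgLib.Classical.spT_mul, Nat.cast_succ]
    have hxr : x.1 ^ r = 1 := by
      rw [← SubmonoidClass.coe_pow, hpow, hrp, CharP.cast_eq_zero, CfsgLib.Classical.spT_zero]; rfl
    have hact : ∀ u, x.1 *ᵥ u = u + (Cfsg.sympForm d F u v) • v := fun u => by
      rw [hx, CfsgLib.Classical.spT_apply, one_mul]
    obtain ⟨w, hw⟩ := CfsgLib.Classical.exists_sympForm_ne_zero (show v ≠ 0 by simp [hv])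
    have hw' : Cfsg.sympForm d F w v ≠ 0 := by rw [CfsgLib.Classical.sympForm_swap, neg_ne_zero]; exact hw
    have hxk : (x.1 - 1).rank = 1 := by
      rw [Matrix.rank]
      have : LinearMap.range (x.1 - 1).mulVecLin = Submodule.span F {v} := by
        ext u
        rw [Submodule.mem_span_singleton]
        constructor
        · rintro ⟨u, rfl⟩
          exact ⟨Cfsg.sympForm d F u v, by
            rw [Matrix.mulVecLin_apply, sub_mulVec, one_mulVec, hact, add_sub_cancel_left]⟩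
        · rintro ⟨c, rfl⟩
          refine ⟨(c / Cfsg.sympForm d F w v) • w, ?_⟩
          rw [map_smul, Matrix.mulVecLin_apply, sub_mulVec, one_mulVec, hact, add_sub_cancel_left, smul_smul,
            div_mul_cancel₀ _ hw']
      rw [this, finrank_span_singleton (by simp [hv])]
    obtain ⟨X, hX, hXv⟩ := use_sp x
    refine ⟨X, hX, by rw [hXv]; exact hxr, fun z hz => ?_,
      no_conjugate (r := r) (by omega) (by omega) hf₁ hf₂ hS X hX (by rw [hXv]; exact hxr) (fun M _ _ h => ?_)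
        (fun A B hA _ => ?_)⟩
    · rw [hXv] at hz
      have hvv := hact v
      rw [hz, smul_mulVec, one_mulVec, CfsgLib.Classical.sympForm_self, zero_smul, add_zero] at hvv
      have hz1 : z = 1 := smul_left_injective F (show v ≠ 0 by simp [hv]) (hvv.trans (one_smul F v).symm)
      have hww := hact w
      rw [hz, hz1, one_smul, one_mulVec, left_eq_add, smul_eq_zero] at hww
      exact hww.elim hw' (by simp [hv])
    · rw [hXv, hxk] at h
      have := Nat.eq_one_of_mul_eq_one_right h.symm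
      omega
    · rw [hXv, hxk]
      have := nonscalar_bound A B hA
      omega
  have hrF : (r : F) ≠ 0 := PrimeMaps.natCast_ne_zero_of_ne (p := p) hrp
  have hrq : ¬ r ∣ q := fun h => by
    obtain ⟨k, -, hk⟩ := FiniteField.card F p
    rw [← hq, hk] at h
    exact hrp ((Nat.prime_dvd_prime_iff_eq hr.out hp.out).1 (hr.out.dvd_of_dvd_pow h))
  obtain ⟨i, y, hi1, hmin, -, hiodd, hieven, hyr, hfix⟩ := exists_block hq hrF hr2 hrq
  have hid : i ≤ d := by
    have h1 : r ∣ Nat.card (symplecticGroup (Fin d) F) := by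
      refine hΩ.trans ((Subgroup.relIndex_dvd_card _ _).trans ?_)
      refine Subgroup.card_dvd_of_surjective (CfsgLib.Classical.spToSpGL (F := F) (m := d)) fun g => ?_
      exact ⟨⟨(g.1 : Matrix (Fin d ⊕ Fin d) (Fin d ⊕ Fin d) F), CfsgLib.Classical.mem_sp_iff.2 g.2⟩,
        Subtype.ext (Units.ext rfl)⟩
    rw [CfsgLib.Classical.card_sp, hq] at h1
    rcases hr.out.dvd_mul.1 h1 with h | h
    · exact absurd (hr.out.dvd_of_dvd_pow h) hrq
    · obtain ⟨j, hj, hjd⟩ := hr.out.prime.exists_mem_finset_dvd h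
      rw [Finset.mem_range] at hj
      have := hmin (j + 1) (by omega) hjd
      omega
  obtain ⟨x, hxr, hxk, hxs⟩ := block_embed hi1 hid (Or.inr hro) y hyr hfix
  obtain ⟨X, hX, hXv⟩ := use_sp x
  obtain ⟨e', he'⟩ : ∃ e', orderOf (q : ZMod r) = e' := ⟨_, rfl⟩
  rw [he'] at hiodd hieven
  refine ⟨X, hX, by rw [hXv]; exact hxr, by rw [hXv]; exact hxs,
    no_conjugate (r := r) (by omega) (by omega) hf₁ hf₂ hS X hX (by rw [hXv]; exact hxr) (fun M hM hiso h => ?_)
      (fun A B hA hK => ?_)⟩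
  · rw [hXv, hxk] at h
    have hdvd := TensorPrime.order_dvd_rank hrF M hM
    rw [hq, he', one_smul] at hdvd
    obtain ⟨k, hk⟩ := hdvd
    obtain ⟨m, hm⟩ := isometry_even_rank h2 hf₂ M hro hM hiso
    rcases Nat.even_or_odd e' with he | he
    · rw [hk, hieven he] at h
      rcases Nat.eq_zero_or_pos k with rfl | hk0
      · rw [mul_zero, mul_zero] at h
        have := hieven he
        omega
      · have : 2 * (e' * 1) ≤ a * (e' * k) := Nat.mul_le_mul ha2 (Nat.mul_le_mul le_rfl hk0)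
        have := hieven he
        omega
    · have hev : Even (e' * k) := hk ▸ ⟨m, hm⟩
      obtain ⟨l, rfl⟩ := (Nat.even_mul.1 hev).resolve_left (Nat.not_even_iff_odd.2 he)
      rw [hk, hiodd he] at h
      rcases Nat.eq_zero_or_pos l with rfl | hl0
      · simp at h; have := hiodd he; omega
      · have : 2 * (e' * 2) ≤ a * (e' * (l + l)) := Nat.mul_le_mul ha2 (Nat.mul_le_mul le_rfl (by omega))
        have := hiodd he
        omega
  · rw [hXv, hxk]
    rcases Nat.lt_or_ge i 2 with h | h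
    · have := nonscalar_bound A B hA
      omega
    · have he3 : 3 ≤ e' := by
        rcases Nat.even_or_odd e' with he | he
        · have := hieven he; omega
        · have := hiodd he; rw [Nat.odd_iff] at he; omega
      have := nonscalar_lt hrF ha hb (hq.symm ▸ he') he3 A B hA hK
      rcases Nat.even_or_odd e' with he | he
      · have := hieven he; omega
      · have := hiodd he; omega

end CfsgLib.Classical22.TensorSpPrime
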