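/-
Tensor wreath stabilisers of symplectic factors in characteristic two lie in spin-type subgroups.
-/
import Cfsg.Agent.Lib.Classical22.TensorMonomialProd

set_option autoImplicit false

namespace CfsgLib.Classical22.TensorSpin

open Matrix CfsgLib.Classical22.TensorMono
open scoped commutatorElement

variable {F : Type*} [Field F]

abbrev Blk (s : ℕ) : Type := Fin s → Fin 2
abbrev Idx (t s : ℕ) : Type := Fin t → Blk s

def upE : Matrix (Fin 2) (Fin 2) F := !![0, 1; 0, 0]
def downE : Matrix (Fin 2) (Fin 2) F := !![0, 0; 1, 0]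
def swapJ : Matrix (Fin 2) (Fin 2) F := !![0, 1; 1, 0]

/-- The product over all positions. -/
def pos (t s : ℕ) (X : Fin t × Fin s → Matrix (Fin 2) (Fin 2) F) : Matrix (Idx t s) (Idx t s) F :=
  wr 1 fun i => wr 1 fun l => X (i, l)

/-- The generators of one block. -/
def gamma {s : ℕ} (c : Fin s × Fin 2) : Matrix (Blk s) (Blk s) F := inj c.1 (![upE, downE] c.2)

/-- The invariant space of one block. -/
def blockSpace (F : Type*) [Field F] (s : ℕ) : Submodule F (Matrix (Blk s) (Blk s) F) :=
  Submodule.span F (insert 1 (Set.range (gamma (F := F) (s := s))))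

/-- The gram matrix of one block. -/
def blockGram (F : Type*) [Field F] (s : ℕ) : Matrix (Blk s) (Blk s) F := wr 1 fun _ => swapJ

/-- The spin-type space. -/
def space (F : Type*) [Field F] (t s : ℕ) : Submodule F (Matrix (Idx t s) (Idx t s) F) :=
  Submodule.span F (insert 1 (Set.range fun q : Fin t × (Fin s × Fin 2) => inj q.1 (gamma (F := F) q.2)))

variable {t s : ℕ}

theorem pos_one : pos t s (fun _ => (1 : Matrix (Fin 2) (Fin 2) F)) = 1 := by
  simp only [pos, wr_one]

theorem pos_mul (X Y : Fin t × Fin s → Matrix (Fin 2) (Fin 2) F) :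
    pos t s X * pos t s Y = pos t s fun p => X p * Y p := by
  simp only [pos, wr_mul_one]
  rfl

theorem pos_zero (X : Fin t × Fin s → Matrix (Fin 2) (Fin 2) F) {p : Fin t × Fin s} (h : X p = 0) : pos t s X = 0 :=
  wr_eq_zero _ _ (i := p.1) (wr_eq_zero _ _ (i := p.2) h)

theorem pos_apply (X : Fin t × Fin s → Matrix (Fin 2) (Fin 2) F) (x y : Idx t s) :
    pos t s X x y = ∏ p : Fin t × Fin s, X p (x p.1 p.2) (y p.1 p.2) := by
  rw [Fintype.prod_prod_type]; rfl

theorem pos_transpose (X : Fin t × Fin s → Matrix (Fin 2) (Fin 2) F) :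
    (pos t s X)ᵀ = pos t s fun p => (X p)ᵀ := by
  refine Matrix.ext fun x y => ?_
  rw [transpose_apply, pos_apply, pos_apply]
  rfl

theorem pos_update_apply (X : Fin t × Fin s → Matrix (Fin 2) (Fin 2) F) (p : Fin t × Fin s)
    (A : Matrix (Fin 2) (Fin 2) F) (x y : Idx t s) :
    pos t s (Function.update X p A) x y =
      A (x p.1 p.2) (y p.1 p.2) * ∏ i ∈ Finset.univ.erase p, X i (x i.1 i.2) (y i.1 i.2) := by
  rw [pos_apply, ← Finset.mul_prod_erase _ _ (Finset.mem_univ p), Function.update_self]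
  congr 1
  exact Finset.prod_congr rfl fun i hi => by rw [Function.update_of_ne (Finset.ne_of_mem_erase hi)]

theorem pos_update_add (X : Fin t × Fin s → Matrix (Fin 2) (Fin 2) F) (p : Fin t × Fin s)
    (A B : Matrix (Fin 2) (Fin 2) F) :
    pos t s (Function.update X p A) + pos t s (Function.update X p B) = pos t s (Function.update X p (A + B)) := by
  refine Matrix.ext fun x y => ?_
  simp only [Matrix.add_apply, pos_update_apply, add_mul]

theorem inj_gamma_eq (i : Fin t) (c : Fin s × Fin 2) :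
    inj i (gamma (F := F) c) = pos t s (Function.update (fun _ => 1) (i, c.1) (![upE, downE] c.2)) := by
  rw [inj_apply, pos]
  congr 1
  funext i'
  by_cases h : i' = i
  · subst h
    rw [Function.update_self, gamma, inj_apply]
    congr 1
    funext l
    by_cases hl : l = c.1
    · subst hl; rw [Function.update_self, Function.update_self]
    · rw [Function.update_of_ne hl, Function.update_of_ne (fun hh => hl (Prod.ext_iff.1 hh).2)]
  · rw [Function.update_of_ne h]
    rw [show (fun l => Function.update (fun _ => (1 : Matrix (Fin 2) (Fin 2) F)) (i, c.1) (![upE, downE] c.2) (i', l)) =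
      fun _ => 1 from funext fun l => Function.update_of_ne (fun hh => h (Prod.ext_iff.1 hh).1) _ _, wr_one]

theorem inj_space (i : Fin t) {X : Matrix (Blk s) (Blk s) F} (hX : X ∈ blockSpace F s) : inj i X ∈ space F t s := by
  have h : blockSpace F s ≤ (space F t s).comap (inj i) := Submodule.span_le.2 (by
    rintro _ (rfl | ⟨c, rfl⟩)
    · show inj i (1 : Matrix (Blk s) (Blk s) F) ∈ space F t s
      rw [inj_one]
      exact Submodule.subset_span (Set.mem_insert _ _)
    · exact Submodule.subset_span (Set.mem_insert_of_mem _ ⟨(i, c), rfl⟩))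
  exact h hX

/-- A value among `1`, `upE`, `downE`. -/
def Simple (f : Fin t × Fin s → Matrix (Fin 2) (Fin 2) F) : Prop :=
  ∀ p, f p = 1 ∨ f p = upE ∨ f p = downE

theorem simple_sq (h2 : (2 : F) = 0) {f : Fin t × Fin s → Matrix (Fin 2) (Fin 2) F} (hf : Simple f) {p : Fin t × Fin s}
    (hp : f p ≠ 1) : pos t s f * pos t s f = 0 := by
  rw [pos_mul]
  refine pos_zero _ (p := p) ?_
  rcases hf p with h | h | h
  · exact absurd h hp
  all_goals (rw [h]; ext i j; fin_cases i <;> fin_cases j <;> simp [upE, downE, Matrix.mul_apply, Fin.sum_univ_two])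

/-- The polar form of the transported quadratic form. -/
def gramAll (F : Type*) [Field F] (t s : ℕ) : Matrix (Idx t s) (Idx t s) F := wr 1 fun _ => blockGram F s

theorem gramAll_eq : gramAll F t s = pos t s fun _ => swapJ := rfl

theorem simple_isometry (h2 : (2 : F) = 0) {κ : F} (Q : (Idx t s → F) → F) (hsm : ∀ (c : F) v, Q (c • v) = c ^ 2 * Q v)
    (hpol : ∀ x y, Q (x + y) = Q x + Q y + κ * (x ⬝ᵥ gramAll F t s *ᵥ y)) (hbase : ∀ a, Q (Pi.single a 1) = 0)
    {f : Fin t × Fin s → Matrix (Fin 2) (Fin 2) F} (hf : Simple f) {p p' : Fin t × Fin s} (hp : f p ≠ 1)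
    (hp' : f p' = 1) :
    ∃ h : GL (Idx t s) F, (h : Matrix (Idx t s) (Idx t s) F) = 1 + pos t s f ∧ h * h = 1 ∧
      ∀ v, Q ((h : Matrix (Idx t s) (Idx t s) F) *ᵥ v) = Q v := by
  classical
  obtain ⟨N, hN⟩ : ∃ N, N = pos t s f := ⟨_, rfl⟩
  obtain ⟨G, hG⟩ : ∃ G, G = gramAll F t s := ⟨_, rfl⟩
  rw [← hN]
  rw [← hG] at hpol
  have hN2 : N * N = 0 := hN ▸ simple_sq h2 hf hp
  have htwo : N + N = 0 := by
    rw [← two_smul F N, h2, zero_smul]
  have hsq : (1 + N) * (1 + N) = 1 := by
    rw [mul_add, mul_one, add_mul, one_mul, hN2, add_zero, add_assoc, htwo, add_zero]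
  have hadj : Nᵀ * G = G * N := by
    rw [hG, hN, gramAll_eq, pos_transpose, pos_mul, pos_mul]
    congr 1
    funext p
    rcases hf p with h | h | h <;> rw [h] <;> ext i j <;> fin_cases i <;> fin_cases j <;>
      simp [upE, downE, swapJ, Matrix.mul_apply, Fin.sum_univ_two, Matrix.one_apply]
  have hinv : (1 + N)ᵀ * G * (1 + N) = G := by
    rw [transpose_add, transpose_one, add_mul, one_mul, hadj,
      show (G + G * N) = G * (1 + N) by rw [mul_add, mul_one], mul_assoc, hsq, mul_one]
  obtain ⟨B, hB⟩ : ∃ B : (Idx t s → F) → (Idx t s → F) → F, ∀ x y, B x y = κ * (x ⬝ᵥ G *ᵥ y) :=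
    ⟨_, fun x y => rfl⟩
  have hBL : ∀ x y, B ((1 + N) *ᵥ x) ((1 + N) *ᵥ y) = B x y := fun x y => by
    rw [hB, hB, ← vecMul_transpose, dotProduct_mulVec, vecMul_vecMul, dotProduct_mulVec, vecMul_vecMul, hinv,
      ← dotProduct_mulVec]
  obtain ⟨D, hD⟩ : ∃ D : (Idx t s → F) →+ F, ∀ x, D x = Q ((1 + N) *ᵥ x) - Q x := by
    refine ⟨AddMonoidHom.mk' (fun x => Q ((1 + N) *ᵥ x) - Q x) fun x y => ?_, fun x => rfl⟩
    simp only [mulVec_add, hpol, ← hB, hBL]
    ring
  have huniq : ∀ a x x', N x a ≠ 0 → N x' a ≠ 0 → x = x' := by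
    intro a x x' hx hx'
    rw [hN, pos_apply, Finset.prod_ne_zero_iff] at hx hx'
    funext i l
    have e := hx (i, l) (Finset.mem_univ _)
    have e' := hx' (i, l) (Finset.mem_univ _)
    dsimp only at e e'
    revert e e'
    generalize x i l = u
    generalize x' i l = u'
    generalize a i l = w
    rcases hf (i, l) with h | h | h <;> rw [h] <;> fin_cases u <;> fin_cases u' <;> fin_cases w <;>
      simp [upE, downE, Matrix.one_apply]
  have hzero : ∀ a b, N b a * G a b = 0 := by
    intro a b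
    rw [hN, hG, gramAll_eq, pos_apply, pos_apply, ← Finset.prod_mul_distrib]
    refine Finset.prod_eq_zero (Finset.mem_univ p') ?_
    rw [hp']
    generalize a p'.1 p'.2 = u
    generalize b p'.1 p'.2 = w
    fin_cases u <;> fin_cases w <;> simp [swapJ, Matrix.one_apply]
  have hb : ∀ a, Q ((1 + N) *ᵥ Pi.single a 1) = 0 := fun a => by
    rw [add_mulVec, one_mulVec, hpol, hbase, zero_add, mulVec_single_one]
    by_cases hex : ∃ b, N b a ≠ 0
    · obtain ⟨b, hb⟩ := hex
      have hcol : N.col a = N b a • Pi.single b (1 : F) := funext fun x => by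
        by_cases hxb : x = b
        · subst hxb; simp
        · rw [Pi.smul_apply, Pi.single_eq_of_ne hxb, smul_zero]
          by_contra hx
          exact hxb (huniq a x b hx hb)
      rw [hcol, hsm, hbase, mul_zero, zero_add, mulVec_smul, dotProduct_smul, single_one_dotProduct,
        mulVec_single_one, Matrix.col_apply, smul_eq_mul, hzero, mul_zero]
    · push Not at hex
      rw [show N.col a = (0 : F) • Pi.single a (1 : F) from funext fun x => by simp [hex x], hsm, zero_smul, mulVec_zero,
        dotProduct_zero]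
      ring
  refine ⟨⟨1 + N, 1 + N, hsq, hsq⟩, rfl, Units.ext hsq, fun v => sub_eq_zero.1 ?_⟩
  show Q ((1 + N) *ᵥ v) - Q v = 0
  rw [← hD, pi_eq_sum_univ' v, map_sum]
  refine Finset.sum_eq_zero fun a _ => ?_
  rw [hD, mulVec_smul, hsm, hsm, hb, hbase, mul_zero, sub_zero]

/-- The commutator of two elementary elements. -/
theorem simple_commutator (h2 : (2 : F) = 0) {f g : Fin t × Fin s → Matrix (Fin 2) (Fin 2) F} {p p₁ : Fin t × Fin s}
    (hf : Simple f) (hg : Simple g) (hp : f p = upE) (hgp : g p = 1) (hf1 : f p₁ = upE) (hg1 : g p₁ = downE)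
    {p₂ : Fin t × Fin s} (hp2 : p₂ ≠ p₁) (hg2 : g p₂ = upE)
    (hother : ∀ x, x ≠ p₁ → f x = 1 ∨ g x = 1)
    {u v : GL (Idx t s) F} (hu : (u : Matrix (Idx t s) (Idx t s) F) = 1 + pos t s f)
    (hv : (v : Matrix (Idx t s) (Idx t s) F) = 1 + pos t s g) (hu2 : u * u = 1) (hv2 : v * v = 1) :
    ((⁅u, v⁆ : GL (Idx t s) F) : Matrix (Idx t s) (Idx t s) F) =
      1 + pos t s (Function.update (fun x => f x * g x) p₁ 1) := by
  obtain ⟨A, hA⟩ : ∃ A, A = pos t s f := ⟨_, rfl⟩
  obtain ⟨B, hB⟩ : ∃ B, B = pos t s g := ⟨_, rfl⟩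
  have hne : (upE : Matrix (Fin 2) (Fin 2) F) ≠ 1 := fun h => by
    simpa [upE] using congrArg (fun M : Matrix (Fin 2) (Fin 2) F => M 0 1) h
  have hne' : (downE : Matrix (Fin 2) (Fin 2) F) ≠ 1 := fun h => by
    simpa [downE] using congrArg (fun M : Matrix (Fin 2) (Fin 2) F => M 1 0) h
  have hA2 : A * A = 0 := hA ▸ simple_sq h2 hf (p := p) (hp ▸ hne)
  have hB2 : B * B = 0 := hB ▸ simple_sq h2 hg (p := p₁) (hg1 ▸ hne')
  have hABA : A * B * A = 0 := by
    rw [hA, hB, pos_mul, pos_mul]
    refine pos_zero _ (p := p) ?_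
    rw [hp, hgp]
    ext i j; fin_cases i <;> fin_cases j <;> simp [upE, Matrix.mul_apply, Fin.sum_univ_two]
  have hC : A * B + B * A = pos t s (Function.update (fun x => f x * g x) p₁ 1) := by
    rw [hA, hB, pos_mul, pos_mul]
    have e1 : (fun x => f x * g x) = Function.update (fun x => f x * g x) p₁ (f p₁ * g p₁) :=
      (Function.update_eq_self p₁ _).symm
    have e2 : (fun x => g x * f x) = Function.update (fun x => f x * g x) p₁ (g p₁ * f p₁) := funext fun x => by
      by_cases hx : x = p₁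
      · subst hx; rw [Function.update_self]
      · rw [Function.update_of_ne hx]
        rcases hother x hx with h | h <;> simp [h]
    conv_lhs => rw [e1, e2]
    rw [pos_update_add, hf1, hg1]
    congr 2
    ext i j; fin_cases i <;> fin_cases j <;> simp [upE, downE, Matrix.mul_apply, Fin.sum_univ_two]
  have hui : u⁻¹ = u := inv_eq_of_mul_eq_one_right hu2
  have hvi : v⁻¹ = v := inv_eq_of_mul_eq_one_right hv2
  rw [commutatorElement_def, hui, hvi, Units.val_mul, Units.val_mul, Units.val_mul, hu, hv, ← hA, ← hB, ← hC]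
  have h4 : ∀ M : Matrix (Idx t s) (Idx t s) F, M + M = 0 := fun M => by rw [← two_smul F M, h2, zero_smul]
  calc (1 + A) * (1 + B) * (1 + A) * (1 + B)
      = 1 + (A + A) + (B + B) + A * A + B * B + (A * B + A * B) + B * A + A * B + A * A * B + A * B * A + A * B * B
          + B * A * B + A * B * A * B := by noncomm_ring
    _ = 1 + (A * B + B * A) + B * A * B := by
          rw [h4, h4, h4, hA2, hB2, hABA, zero_mul, mul_assoc A B B, hB2, mul_zero]
          abel
    _ = 1 + (A * B + B * A) := by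
          have hBAB : B * A * B = 0 := by
            rw [hA, hB, pos_mul, pos_mul]
            refine pos_zero _ (p := p₂) ?_
            rw [(hother p₂ hp2).resolve_right (hg2 ▸ hne), hg2]
            ext i j; fin_cases i <;> fin_cases j <;> simp [upE, Matrix.mul_apply, Fin.sum_univ_two]
          rw [hBAB, add_zero]

end CfsgLib.Classical22.TensorSpin
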