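/-
The intermediate group between a tensor wreath stabiliser and Ω in characteristic two.
-/
import Cfsg.Agent.Lib.Classical22.TensorWreathCharTwo

set_option autoImplicit false

namespace CfsgLib.Classical22.TensorSpin

open Matrix CfsgLib.Classical22.TensorMono
open scoped commutatorElement

variable {F : Type*} [Field F] {t s : ℕ}

theorem upE_ne_one : (upE : Matrix (Fin 2) (Fin 2) F) ≠ 1 := fun h => by
  simpa [upE] using congrArg (fun M : Matrix (Fin 2) (Fin 2) F => M 0 1) h

/-- `h a' h = a' + (N a' + a' N)` for an elementary element. -/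
theorem conj_single (h2 : (2 : F) = 0) {f : Fin t × Fin s → Matrix (Fin 2) (Fin 2) F} (hf : Simple f)
    (q : Fin t × Fin s) (c : Fin 2) :
    (1 + pos t s f) * pos t s (Function.update (fun _ => 1) q (![upE, downE] c)) * (1 + pos t s f) =
      pos t s (Function.update (fun _ => 1) q (![upE, downE] c)) * (1 + pos t s f) * (1 + pos t s f) ∨
    (f q * ![upE, downE] c + ![upE, downE] c * f q = 1 ∧
      ((1 : Matrix (Idx t s) (Idx t s) F) + pos t s f) * pos t s (Function.update (fun _ => 1) q (![upE, downE] c)) *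
          (1 + pos t s f) =
        pos t s (Function.update (fun _ => 1) q (![upE, downE] c)) + pos t s (Function.update f q 1) +
          pos t s f * pos t s (Function.update (fun _ => 1) q (![upE, downE] c)) * pos t s f) := by
  obtain ⟨E, hE⟩ : ∃ E, E = (![upE, downE] c : Matrix (Fin 2) (Fin 2) F) := ⟨_, rfl⟩
  rw [← hE]
  by_cases hc : f q * E = E * f q
  · left
    have : pos t s f * pos t s (Function.update (fun _ => 1) q E) =
        pos t s (Function.update (fun _ => 1) q E) * pos t s f := by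
      rw [pos_mul, pos_mul]
      congr 1
      funext x
      by_cases hx : x = q
      · subst hx; rw [Function.update_self, hc]
      · rw [Function.update_of_ne hx, mul_one, one_mul]
    rw [add_mul (1 : Matrix (Idx t s) (Idx t s) F), one_mul, this, mul_add (pos t s (Function.update (fun _ => 1) q E)), mul_one]
  · right
    have hsum : f q * E + E * f q = 1 := by
      rcases hf q with h | h | h
      · exact absurd (by rw [h, one_mul, mul_one]) hc
      all_goals
        rw [hE] at hc ⊢
        rw [h] at hc ⊢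
        fin_cases c
      all_goals first
        | exact absurd rfl hc
        | (ext i j; fin_cases i <;> fin_cases j <;> simp [upE, downE, Matrix.mul_apply, Fin.sum_univ_two])
    refine ⟨hsum, ?_⟩
    have e : pos t s f * pos t s (Function.update (fun _ => 1) q E) +
        pos t s (Function.update (fun _ => 1) q E) * pos t s f = pos t s (Function.update f q 1) := by
      rw [pos_mul, pos_mul,
        show (fun x => f x * Function.update (fun _ => (1 : Matrix (Fin 2) (Fin 2) F)) q E x) = Function.update f q (f q * E) from funext fun x => by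
          by_cases hx : x = q
          · subst hx; rw [Function.update_self, Function.update_self]
          · rw [Function.update_of_ne hx, Function.update_of_ne hx, mul_one],
        show (fun x => Function.update (fun _ => (1 : Matrix (Fin 2) (Fin 2) F)) q E x * f x) = Function.update f q (E * f q) from funext fun x => by
          by_cases hx : x = q
          · subst hx; rw [Function.update_self, Function.update_self]
          · rw [Function.update_of_ne hx, Function.update_of_ne hx, one_mul],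
        pos_update_add, hsum]
    rw [← e]
    noncomm_ring

/-- Entries of the invariant space vanish off the diagonal cross. -/
theorem space_entry {x y : Idx t s} {p p' : Fin t × Fin s} (hpp : p ≠ p') (hp : x p.1 p.2 ≠ y p.1 p.2)
    (hp' : x p'.1 p'.2 ≠ y p'.1 p'.2) {X : Matrix (Idx t s) (Idx t s) F} (hX : X ∈ space F t s) : X x y = 0 := by
  have h : space F t s ≤ LinearMap.ker (Matrix.entryLinearMap F F x y) := Submodule.span_le.2 (by
    rintro _ (rfl | ⟨⟨i, c⟩, rfl⟩)
    · show (1 : Matrix (Idx t s) (Idx t s) F) x y = 0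
      exact one_apply_ne fun h => hp (by rw [h])
    · show inj i (gamma (F := F) c) x y = 0
      rw [inj_gamma_eq, pos_apply]
      obtain ⟨r, hr, hne⟩ : ∃ r, r ≠ (i, c.1) ∧ x r.1 r.2 ≠ y r.1 r.2 := by
        by_cases h : p = (i, c.1)
        · exact ⟨p', fun h' => hpp (h.trans h'.symm), hp'⟩
        · exact ⟨p, h, hp⟩
      exact Finset.prod_eq_zero (Finset.mem_univ r) (by rw [Function.update_of_ne hr]; exact one_apply_ne hne))
  exact h hX

theorem exists_overgroup {n : ℕ} (h2 : (2 : F) = 0) [Fintype F] (ht : 2 ≤ t) (hs : 0 < s) (hts : 4 ≤ t * s)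
    (Q : (Fin n → F) → F) (hsm : ∀ (c : F) v, Q (c • v) = c ^ 2 * Q v)
    (R : Matrix (Fin n) (Idx t s) F) (R' : Matrix (Idx t s) (Fin n) F) (hR : R * R' = 1) (hR' : R' * R = 1) {κ : F} (hκ : κ ≠ 0)
    (hpol : ∀ x y, Q (R *ᵥ (x + y)) = Q (R *ᵥ x) + Q (R *ᵥ y) + κ * (x ⬝ᵥ gramAll F t s *ᵥ y))
    (hbase : ∀ a, Q (R *ᵥ Pi.single a 1) = 0) (M : Subgroup (GL (Fin n) F))
    (hM : ∀ g ∈ M, ∃ (π : Equiv.Perm (Fin t)) (A : Fin t → GL (Blk s) F),
      R' * (g : Matrix (Fin n) (Fin n) F) * R = wr π fun i => (A i : Matrix (Blk s) (Blk s) F))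
    (hblock : ∀ (g : GL (Blk s) F) (c : F),
      (g : Matrix (Blk s) (Blk s) F)ᵀ * blockGram F s * (g : Matrix (Blk s) (Blk s) F) = c • blockGram F s →
        ∀ d : Fin s × Fin 2,
          (g : Matrix (Blk s) (Blk s) F) * gamma d * ((g⁻¹ : GL (Blk s) F) : Matrix (Blk s) (Blk s) F) ∈ blockSpace F s) :
    ∃ K : Subgroup (GL (Fin n) F), M ⊓ Cfsg.Geo.omegaGL Q < K ∧ K < Cfsg.Geo.omegaGL Q := by
  classical
  -- the transport
  obtain ⟨ψ, hψ⟩ : ∃ ψ : GL (Idx t s) F →* GL (Fin n) F, ∀ g, (ψ g : Matrix (Fin n) (Fin n) F) = R * g.val * R' := by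
    refine ⟨Units.map
      { toFun := fun X : Matrix (Idx t s) (Idx t s) F => R * X * R'
        map_one' := by rw [Matrix.mul_one, hR]
        map_mul' := fun X Y => ?_ }, fun g => rfl⟩
    calc R * (X * Y) * R' = R * X * (R' * R) * Y * R' := by rw [hR', Matrix.mul_one, Matrix.mul_assoc R X Y]
      _ = (R * X * R') * (R * Y * R') := by simp only [Matrix.mul_assoc]
  have hQ' : ∀ v, Q v = Q (R *ᵥ (R' *ᵥ v)) := fun v => by rw [mulVec_mulVec, hR, one_mulVec]
  have hiso : ∀ {f : Fin t × Fin s → Matrix (Fin 2) (Fin 2) F}, Simple f → ∀ {p p'}, f p ≠ 1 → f p' = 1 →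
      ∃ h : GL (Idx t s) F, h.val = 1 + pos t s f ∧ h * h = 1 ∧ ψ h ∈ Cfsg.isometryGroup F Q := by
    intro f hf p p' hp hp'
    obtain ⟨h, hv, hh, hq⟩ := simple_isometry h2 (fun x => Q (R *ᵥ x)) (κ := κ)
      (fun c v => by rw [mulVec_smul, hsm]) hpol hbase hf hp hp'
    refine ⟨h, hv, hh, fun v _ => ?_⟩
    show Q ((ψ h : Matrix (Fin n) (Fin n) F) *ᵥ v) = Q v
    rw [hψ, ← mulVec_mulVec, ← mulVec_mulVec, hQ' v]
    exact hq (R' *ᵥ v) |>.trans rfl
  have hin : ∀ {f g : Fin t × Fin s → Matrix (Fin 2) (Fin 2) F}, Simple f → Simple g → ∀ {p p₁ p₂ f1 g1},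
      f p = upE → g p = 1 → f p₁ = upE → g p₁ = downE → p₂ ≠ p₁ → g p₂ = upE →
      (∀ x, x ≠ p₁ → f x = 1 ∨ g x = 1) → f f1 = 1 → g g1 = 1 →
      ∃ h : GL (Idx t s) F, h.val = 1 + pos t s (Function.update (fun x => f x * g x) p₁ 1) ∧
        ψ h ∈ Cfsg.Geo.omegaGL Q := by
    intro f g hf hg p p₁ p₂ f1 g1 hp hgp hf1 hg1 hp2 hg2 hoth hfo hgo
    obtain ⟨u, hu, hu2, huI⟩ := hiso hf (p := p) (p' := f1) (hp ▸ upE_ne_one) hfo
    obtain ⟨v, hv, hv2, hvI⟩ := hiso hg (p := p₂) (p' := g1) (hg2 ▸ upE_ne_one) hgo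
    refine ⟨⁅u, v⁆, simple_commutator h2 hf hg hp hgp hf1 hg1 hp2 hg2 hoth hu hv hu2 hv2,
      Subgroup.mem_map.2 ⟨⁅(⟨ψ u, huI⟩ : Cfsg.isometryGroup F Q), ⟨ψ v, hvI⟩⁆,
        Subgroup.commutator_mem_commutator (Subgroup.mem_top _) (Subgroup.mem_top _), ?_⟩⟩
    rw [map_commutatorElement, map_commutatorElement]
    rfl
  obtain ⟨W, hW⟩ : ∃ W, W = space F t s := ⟨_, rfl⟩
  -- K is the stabiliser of W
  obtain ⟨cj, hcj⟩ : ∃ cj : GL (Fin n) F → Matrix (Idx t s) (Idx t s) F → Matrix (Idx t s) (Idx t s) F,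
      ∀ g X, cj g X = R' * g.val * R * X * (R' * (g⁻¹ : GL (Fin n) F).val * R) := ⟨_, fun g X => rfl⟩
  have hcj1 : ∀ X, cj 1 X = X := fun X => by
    rw [hcj, inv_one, Units.val_one, Matrix.mul_one, hR', Matrix.one_mul, Matrix.mul_one]
  have hsand : ∀ a b : Matrix (Fin n) (Fin n) F, R' * (a * b) * R = (R' * a * R) * (R' * b * R) := fun a b => by
    calc R' * (a * b) * R = R' * a * (R * R') * b * R := by rw [hR, Matrix.mul_one, Matrix.mul_assoc R' a b]
      _ = (R' * a * R) * (R' * b * R) := by simp only [Matrix.mul_assoc]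
  have hcjm : ∀ g g' X, cj (g * g') X = cj g (cj g' X) := fun g g' X => by
    rw [hcj, hcj, hcj, _root_.mul_inv_rev, Units.val_mul, Units.val_mul, hsand, hsand]
    simp only [Matrix.mul_assoc]
  obtain ⟨S, hS⟩ : ∃ S : Subgroup (GL (Fin n) F), ∀ g, g ∈ S ↔ ∀ X, X ∈ W ↔ cj g X ∈ W := by
    refine ⟨{ carrier := {g | ∀ X, X ∈ W ↔ cj g X ∈ W}
              one_mem' := fun X => by rw [hcj1]
              mul_mem' := fun {a b} ha hb X => by rw [hcjm, ← ha, ← hb]
              inv_mem' := fun {a} ha X => by rw [ha (cj a⁻¹ X), ← hcjm, mul_inv_cancel, hcj1] }, fun g => Iff.rfl⟩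
  obtain ⟨I, hI⟩ : ∃ I, I = Cfsg.Geo.omegaGL Q := ⟨_, rfl⟩
  rw [← hI] at hin ⊢
  -- isometries preserve the gram matrix
  have hgram : ∀ g ∈ I, (R' * (g : GL (Fin n) F).val * R)ᵀ * gramAll F t s * (R' * g.val * R) = gramAll F t s := by
    intro g hg
    rw [hI] at hg
    obtain ⟨g', -, rfl⟩ := hg
    obtain ⟨N, hN⟩ : ∃ N, N = R' * ((g' : GL (Fin n) F)).val * R := ⟨_, rfl⟩
    have hQg : ∀ x, Q (R *ᵥ (N *ᵥ x)) = Q (R *ᵥ x) := fun x => by
      have : R *ᵥ (N *ᵥ x) = ((g' : GL (Fin n) F)).val *ᵥ (R *ᵥ x) := by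
        rw [hN, mulVec_mulVec, mulVec_mulVec, ← Matrix.mul_assoc R, ← Matrix.mul_assoc R, hR, Matrix.one_mul]
      rw [this]
      exact g'.2 (R *ᵥ x) (R *ᵥ x)
    show (R' * ((g' : GL (Fin n) F)).val * R)ᵀ * gramAll F t s * (R' * ((g' : GL (Fin n) F)).val * R) = gramAll F t s
    rw [← hN]
    refine Matrix.ext fun a b => mul_left_cancel₀ hκ ?_
    have h := hQg (Pi.single a 1 + Pi.single b 1)
    rw [mulVec_add N, hpol, hpol, hQg, hQg] at h
    have h' := add_left_cancel h
    rw [← vecMul_transpose, dotProduct_mulVec, vecMul_vecMul, dotProduct_mulVec, vecMul_vecMul] at h'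
    simpa [← dotProduct_mulVec, single_one_dotProduct, mulVec_single_one] using h'
  have hle : M ⊓ I ≤ S := by
    have key : ∀ g ∈ M ⊓ I, ∀ X ∈ W, cj g X ∈ W := by
      rintro g ⟨hgM, hgI⟩
      obtain ⟨π, A, hA⟩ := hM g hgM
      have hbl : ∀ i, ∃ c : F, (A i : Matrix (Blk s) (Blk s) F)ᵀ * blockGram F s * (A i : Matrix (Blk s) (Blk s) F) =
          c • blockGram F s := by
        intro i
        have h := hgram g hgI
        rw [hA, wr_transpose, show gramAll F t s = wr 1 fun _ => blockGram F s from rfl, wr_mul_one, wr_mul,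
          Equiv.symm_trans_self] at h
        obtain ⟨c, hc⟩ := factor_of_eq _ _ h (fun _ _ => 0) (fun _ _ => 1) (fun _ => by
          rw [blockGram, wr_apply]
          simp [swapJ]) (π i)
        exact ⟨c, by simpa using hc⟩
      have hinv : (R' * g.val * R) * (R' * (g⁻¹ : GL (Fin n) F).val * R) = 1 := by
        rw [← hsand, ← Units.val_mul, mul_inv_cancel, Units.val_one, Matrix.mul_one, hR']
      intro X hX
      have hlin : W ≤ W.comap ((LinearMap.mulLeft F (R' * g.val * R)).comp
          (LinearMap.mulRight F (R' * (g⁻¹ : GL (Fin n) F).val * R))) := by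
        conv_lhs => rw [hW]
        refine Submodule.span_le.2 ?_
        rintro _ (rfl | ⟨⟨i, d⟩, rfl⟩)
        · show (R' * g.val * R) * (1 * (R' * (g⁻¹ : GL (Fin n) F).val * R)) ∈ W
          rw [Matrix.one_mul, hinv, hW]
          exact Submodule.subset_span (Set.mem_insert _ _)
        · show (R' * g.val * R) * (inj i (gamma (F := F) d) * (R' * (g⁻¹ : GL (Fin n) F).val * R)) ∈ W
          rw [← Matrix.mul_assoc, hA, wr_conj, ← hA, Matrix.mul_assoc, hinv, Matrix.mul_one, hW]
          obtain ⟨c, hc⟩ := hbl (π.symm i)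
          exact inj_space _ (hblock _ c hc d)
      rw [hcj, Matrix.mul_assoc]
      exact hlin hX
    intro g hg
    rw [hS]
    exact fun X => ⟨key g hg X, fun hX => by simpa [← hcjm, hcj1] using key g⁻¹ (inv_mem hg) _ hX⟩
  -- four positions
  obtain ⟨i₀, i₁, hi⟩ : ∃ i₀ i₁ : Fin t, i₀ ≠ i₁ := ⟨⟨0, by omega⟩, ⟨1, by omega⟩, by simp⟩
  obtain ⟨p0, hp0⟩ : ∃ p0 : Fin t × Fin s, p0 = (i₀, ⟨0, hs⟩) := ⟨_, rfl⟩
  obtain ⟨p2, hp2⟩ : ∃ p2 : Fin t × Fin s, p2 = (i₁, ⟨0, hs⟩) := ⟨_, rfl⟩
  have h02 : p0 ≠ p2 := by rw [hp0, hp2]; exact fun h => hi (Prod.ext_iff.1 h).1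
  obtain ⟨p1, hp1, p3, hp3, h13⟩ : ∃ p1 ∈ ({p0, p2} : Finset (Fin t × Fin s))ᶜ, ∃ p3 ∈ ({p0, p2} : Finset (Fin t × Fin s))ᶜ,
      p1 ≠ p3 := by
    refine Finset.one_lt_card.1 ?_
    rw [Finset.card_compl, Finset.card_pair h02, Fintype.card_prod, Fintype.card_fin, Fintype.card_fin]
    omega
  simp only [Finset.mem_compl, Finset.mem_insert, Finset.mem_singleton, not_or] at hp1 hp3
  obtain ⟨h10, h12⟩ := hp1
  obtain ⟨h30, h32⟩ := hp3
  obtain ⟨fAB, hfAB⟩ : ∃ f : Fin t × Fin s → Matrix (Fin 2) (Fin 2) F,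
      f = Function.update (Function.update (fun _ => 1) p0 upE) p1 upE := ⟨_, rfl⟩
  obtain ⟨gBC, hgBC⟩ : ∃ f : Fin t × Fin s → Matrix (Fin 2) (Fin 2) F,
      f = Function.update (Function.update (fun _ => 1) p1 downE) p2 upE := ⟨_, rfl⟩
  obtain ⟨gBCD, hgBCD⟩ : ∃ f : Fin t × Fin s → Matrix (Fin 2) (Fin 2) F,
      f = Function.update gBC p3 upE := ⟨_, rfl⟩
  have sAB : Simple fAB := fun x => by
    rw [hfAB]; simp only [Function.update_apply]; split_ifs <;> simp
  have sBC : Simple gBC := fun x => by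
    rw [hgBC]; simp only [Function.update_apply]; split_ifs <;> simp
  have sBCD : Simple gBCD := fun x => by
    rw [hgBCD, hgBC]; simp only [Function.update_apply]; split_ifs <;> simp
  have a0 : fAB p0 = upE := by rw [hfAB, Function.update_of_ne (Ne.symm h10), Function.update_self]
  have a1 : fAB p1 = upE := by rw [hfAB, Function.update_self]
  have a2 : fAB p2 = 1 := by rw [hfAB, Function.update_of_ne (Ne.symm h12), Function.update_of_ne h02.symm]
  have aother : ∀ x, x ≠ p0 → x ≠ p1 → fAB x = 1 := fun x hx hx' => by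
    rw [hfAB, Function.update_of_ne hx', Function.update_of_ne hx]
  have b0 : gBC p0 = 1 := by rw [hgBC, Function.update_of_ne h02, Function.update_of_ne (Ne.symm h10)]
  have b1 : gBC p1 = downE := by rw [hgBC, Function.update_of_ne h12, Function.update_self]
  have b2 : gBC p2 = upE := by rw [hgBC, Function.update_self]
  have b3 : gBC p3 = 1 := by rw [hgBC, Function.update_of_ne h32, Function.update_of_ne (Ne.symm h13)]
  have c0 : gBCD p0 = 1 := by rw [hgBCD, Function.update_of_ne (Ne.symm h30), b0]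
  have c1 : gBCD p1 = downE := by rw [hgBCD, Function.update_of_ne h13, b1]
  have c2 : gBCD p2 = upE := by rw [hgBCD, Function.update_of_ne (Ne.symm h32), b2]
  have c3 : gBCD p3 = upE := by rw [hgBCD, Function.update_self]
  obtain ⟨h, hhv, hhI⟩ := hin sAB sBC (p := p0) (p₁ := p1) (p₂ := p2) (f1 := p2) (g1 := p0) a0 b0 a1 b1 (Ne.symm h12) b2
    (fun x hx => by
      by_cases hx0 : x = p0
      · exact Or.inr (hx0 ▸ b0)
      · exact Or.inl (aother x hx0 hx)) a2 b0
  obtain ⟨h3, hh3v, hh3I⟩ := hin sAB sBCD (p := p0) (p₁ := p1) (p₂ := p2) (f1 := p2) (g1 := p0) a0 c0 a1 c1 (Ne.symm h12) c2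
    (fun x hx => by
      by_cases hx0 : x = p0
      · exact Or.inr (hx0 ▸ c0)
      · exact Or.inl (aother x hx0 hx)) a2 c0
  obtain ⟨fAC, hfAC⟩ : ∃ f, f = Function.update (fun x => fAB x * gBC x) p1 1 := ⟨_, rfl⟩
  obtain ⟨fACD, hfACD⟩ : ∃ f, f = Function.update (fun x => fAB x * gBCD x) p1 1 := ⟨_, rfl⟩
  rw [← hfAC] at hhv
  rw [← hfACD] at hh3v
  have eAC : fAC = Function.update (Function.update (fun _ => 1) p0 upE) p2 upE := by
    funext x
    rw [hfAC, hfAB, hgBC]
    simp only [Function.update_apply]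
    by_cases hx1 : x = p1
    · subst hx1; simp [h12, h10]
    · by_cases hx0 : x = p0
      · subst hx0; simp [hx1, h02]
      · by_cases hx2 : x = p2 <;> simp [hx0, hx1, hx2, h02.symm, Ne.symm h12]
  have eACD : fACD = Function.update fAC p3 upE := by
    funext x
    rw [hfACD, hfAC, hgBCD]
    by_cases hx3 : x = p3
    · subst hx3
      rw [Function.update_of_ne (Ne.symm h13), Function.update_self, Function.update_self, aother _ h30 (Ne.symm h13), one_mul]
    · rw [Function.update_of_ne hx3]
      by_cases hx1 : x = p1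
      · subst hx1; rw [Function.update_self, Function.update_self]
      · rw [Function.update_of_ne hx1, Function.update_of_ne hx1, Function.update_of_ne hx3]
  have sAC : Simple fAC := fun x => by
    rw [eAC]; simp only [Function.update_apply]; split_ifs <;> simp
  have sACD : Simple fACD := fun x => by
    rw [eACD, eAC]; simp only [Function.update_apply]; split_ifs <;> simp
  have hval : ∀ (e : GL (Idx t s) F), R' * (ψ e).val * R = e.val := fun e => by
    rw [hψ, ← Matrix.mul_assoc, ← Matrix.mul_assoc, hR', Matrix.one_mul, Matrix.mul_assoc, hR', Matrix.mul_one]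
  have hcjval : ∀ (e : GL (Idx t s) F), e * e = 1 → ∀ X, cj (ψ e) X = e.val * X * e.val := fun e he X => by
    rw [hcj, ← map_inv, inv_eq_of_mul_eq_one_right he, hval]
  have sq1 : ∀ {f : Fin t × Fin s → Matrix (Fin 2) (Fin 2) F}, Simple f → ∀ {p}, f p ≠ 1 →
      ((1 : Matrix (Idx t s) (Idx t s) F) + pos t s f) * (1 + pos t s f) = 1 := fun {f} hf {p} hp => by
    rw [mul_add, mul_one, add_mul, one_mul, simple_sq h2 hf hp, add_zero, add_assoc,
      show pos t s f + pos t s f = 0 by rw [← two_smul F (pos t s f), h2, zero_smul], add_zero]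
  have hACp0 : fAC p0 = upE := by rw [eAC, Function.update_of_ne h02, Function.update_self]
  have hACp2 : fAC p2 = upE := by rw [eAC, Function.update_self]
  have hACDp0 : fACD p0 = upE := by rw [eACD, Function.update_of_ne (Ne.symm h30), hACp0]
  have hACDp2 : fACD p2 = upE := by rw [eACD, Function.update_of_ne (Ne.symm h32), hACp2]
  have hh2 : h * h = 1 := Units.ext (by rw [Units.val_mul, hhv, sq1 sAC (p := p0) (hACp0 ▸ upE_ne_one), Units.val_one])
  have hh32 : h3 * h3 = 1 := Units.ext (by
    rw [Units.val_mul, hh3v, sq1 sACD (p := p0) (hACDp0 ▸ upE_ne_one), Units.val_one])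
  -- the image of the lowering operator at p0
  have himg : ∀ {f : Fin t × Fin s → Matrix (Fin 2) (Fin 2) F}, Simple f → ∀ {p}, p ≠ p0 → f p ≠ 1 → f p0 = upE →
      ((1 : Matrix (Idx t s) (Idx t s) F) + pos t s f) * pos t s (Function.update (fun _ => 1) p0 downE) * (1 + pos t s f) =
        pos t s (Function.update (fun _ => 1) p0 downE) + pos t s (Function.update f p0 1) := by
    intro f hf p hpne hp hf0
    rcases conj_single h2 hf p0 1 with h' | ⟨-, h'⟩ <;> simp only [Matrix.cons_val_one, Matrix.cons_val_zero] at h'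
    · exfalso
      have hu := sq1 hf (p := p0) (hf0 ▸ upE_ne_one)
      rw [Matrix.mul_assoc _ (1 + pos t s f), hu, Matrix.mul_one] at h'
      have h'' := congrArg ((1 + pos t s f) * ·) h'
      beta_reduce at h''
      rw [← Matrix.mul_assoc, ← Matrix.mul_assoc, hu, Matrix.one_mul] at h''
      have hzero : pos t s f * pos t s (Function.update (fun _ => 1) p0 downE) =
          pos t s (Function.update (fun _ => 1) p0 downE) * pos t s f := by
        rw [add_mul (1 : Matrix (Idx t s) (Idx t s) F), one_mul, mul_add, mul_one] at h''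
        exact (add_left_cancel h'').symm
      rw [pos_mul, pos_mul] at hzero
      obtain ⟨x, hx⟩ : ∃ x : Idx t s, ∀ q : Fin t × Fin s, x q.1 q.2 = (if f q = downE then 1 else 0) :=
        ⟨fun i l => if f (i, l) = downE then 1 else 0, fun q => rfl⟩
      obtain ⟨y, hy⟩ : ∃ y : Idx t s, ∀ q : Fin t × Fin s,
          y q.1 q.2 = (if q = p0 then 0 else if f q = upE then 1 else 0) :=
        ⟨fun i l => if (i, l) = p0 then 0 else if f (i, l) = upE then 1 else 0, fun q => rfl⟩
      have he := congrArg (fun N : Matrix (Idx t s) (Idx t s) F => N x y) hzero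
      simp only [pos_apply] at he
      have hne2 : (upE : Matrix (Fin 2) (Fin 2) F) ≠ downE := fun h => by
        simpa [upE, downE] using congrArg (fun M : Matrix (Fin 2) (Fin 2) F => M 0 1) h
      have hzero' : (∏ q : Fin t × Fin s,
          (Function.update (fun _ => (1 : Matrix (Fin 2) (Fin 2) F)) p0 downE q * f q) (x q.1 q.2) (y q.1 q.2)) = 0 := by
        refine Finset.prod_eq_zero (Finset.mem_univ p0) ?_
        rw [Function.update_self, hf0, hx, hy, if_pos rfl, if_neg (hf0 ▸ hne2)]
        simp [upE, downE, Matrix.mul_apply, Fin.sum_univ_two]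
      rw [hzero'] at he
      refine Finset.prod_ne_zero_iff.2 (fun q _ => ?_) he
      rw [hx, hy]
      by_cases hq : q = p0
      · subst hq
        rw [Function.update_self, hf0, if_neg hne2, if_pos rfl]
        simp [upE, downE, Matrix.mul_apply, Fin.sum_univ_two]
      · rw [Function.update_of_ne hq, mul_one, if_neg hq]
        rcases hf q with h | h | h <;> rw [h]
        · have e1 : (1 : Matrix (Fin 2) (Fin 2) F) ≠ downE := fun h => by
            simpa [downE] using congrArg (fun M : Matrix (Fin 2) (Fin 2) F => M 0 0) h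
          rw [if_neg e1, if_neg upE_ne_one.symm]
          simp
        · rw [if_neg hne2, if_pos rfl]; simp [upE]
        · rw [if_pos rfl, if_neg hne2.symm]; simp [downE]
    · rw [h', pos_mul, pos_mul, pos_zero (fun x => f x * Function.update (fun _ => (1 : Matrix (Fin 2) (Fin 2) F)) p0 downE x * f x) (p := p), add_zero]
      rw [Function.update_of_ne hpne, mul_one]
      rcases hf p with h | h | h
      · exact absurd h hp
      all_goals (rw [h]; ext i j; fin_cases i <;> fin_cases j <;> simp [upE, downE, Matrix.mul_apply, Fin.sum_univ_two])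
  refine ⟨S ⊓ I, lt_of_le_of_ne (le_inf hle inf_le_right) fun heq => ?_, lt_of_le_of_ne inf_le_right fun heq => ?_⟩
  · -- h lies in S but not in M
    have hhS : ψ h ∈ S := by
      rw [hS]
      have key : ∀ X ∈ W, cj (ψ h) X ∈ W := by
        intro X hX
        have hlin : W ≤ W.comap ((LinearMap.mulLeft F h.val).comp (LinearMap.mulRight F h.val)) := by
          conv_lhs => rw [hW]
          refine Submodule.span_le.2 ?_
          rintro _ (rfl | ⟨⟨i, d⟩, rfl⟩)
          · show h.val * (1 * h.val) ∈ W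
            rw [Matrix.one_mul, ← Units.val_mul, hh2, hW]
            exact Submodule.subset_span (Set.mem_insert _ _)
          · show h.val * (inj i (gamma (F := F) d) * h.val) ∈ W
            rw [← Matrix.mul_assoc, inj_gamma_eq, hhv, hW]
            have hmem : pos t s (Function.update (fun _ => 1) (i, d.1) (![upE, downE] d.2)) ∈ space F t s := by
              rw [← inj_gamma_eq]
              exact Submodule.subset_span (Set.mem_insert_of_mem _ ⟨(i, d), rfl⟩)
            rcases conj_single h2 sAC (i, d.1) d.2 with h' | ⟨hsum, h'⟩ <;> rw [h']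
            · rw [Matrix.mul_assoc, sq1 sAC (p := p0) (hACp0 ▸ upE_ne_one), Matrix.mul_one]
              exact hmem
            · obtain ⟨q, hq, hq'⟩ : ∃ q, fAC q = upE ∧ q ≠ (i, d.1) := by
                by_cases hc : p0 = (i, d.1)
                · exact ⟨p2, hACp2, fun h => h02 (hc.trans h.symm)⟩
                · exact ⟨p0, hACp0, hc⟩
              have hz : pos t s fAC * pos t s (Function.update (fun _ => 1) (i, d.1) (![upE, downE] d.2)) * pos t s fAC = 0 := by
                rw [pos_mul, pos_mul]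
                refine pos_zero _ (p := q) ?_
                rw [Function.update_of_ne hq', mul_one, hq]
                ext a b; fin_cases a <;> fin_cases b <;> simp [upE, Matrix.mul_apply, Fin.sum_univ_two]
              rw [hz, add_zero]
              refine add_mem hmem ?_
              have hfq : fAC (i, d.1) ≠ 1 := fun hh => by
                rw [hh, one_mul, mul_one, ← two_smul F, h2, zero_smul] at hsum
                exact zero_ne_one hsum
              have hcase : (i, d.1) = p0 ∨ (i, d.1) = p2 := by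
                by_contra hc
                rw [not_or] at hc
                exact hfq (by rw [eAC, Function.update_of_ne hc.2, Function.update_of_ne hc.1])
              obtain ⟨r, hr⟩ : ∃ r : Fin t × Fin s, Function.update fAC (i, d.1) 1 =
                  Function.update (fun _ => 1) r upE := by
                rcases hcase with hc | hc <;> rw [hc, eAC]
                · exact ⟨p2, by rw [Function.update_comm h02.symm, Function.update_idem, Function.update_eq_self_iff.2 rfl]⟩
                · exact ⟨p0, by rw [Function.update_idem, Function.update_eq_self_iff.2 (by rw [Function.update_of_ne h02.symm])]⟩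
              rw [hr]
              have hg := inj_gamma_eq (F := F) (s := s) r.1 (r.2, 0)
              simp only [Matrix.cons_val_zero, Prod.mk.eta] at hg
              rw [← hg]
              exact Submodule.subset_span (Set.mem_insert_of_mem _ ⟨(r.1, r.2, 0), rfl⟩)
        rw [hcjval h hh2, Matrix.mul_assoc]
        exact hlin hX
      refine fun X => ⟨key X, fun hX => ?_⟩
      have := key _ hX
      rwa [← hcjm, ← map_mul, hh2, map_one, hcj1] at this
    have hhM : ψ h ∈ M ⊓ I := heq ▸ Subgroup.mem_inf.2 ⟨hhS, hhI⟩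
    obtain ⟨π, A, hA⟩ := hM _ hhM.1
    rw [hval] at hA
    obtain ⟨X, hX⟩ : ∃ X, X = ((A (π.symm i₀) : Matrix (Blk s) (Blk s) F) * gamma ((⟨0, hs⟩ : Fin s), (1 : Fin 2)) *
        (((A (π.symm i₀))⁻¹ : GL (Blk s) F) : Matrix (Blk s) (Blk s) F)) := ⟨_, rfl⟩
    have hc := wr_conj π A i₀ (gamma ((⟨0, hs⟩ : Fin s), (1 : Fin 2)))
    rw [← hA, ← hX] at hc
    have hc' : inj (π.symm i₀) X = pos t s (Function.update (fun _ => 1) p0 downE) + pos t s (Function.update fAC p0 1) := by
      rw [← himg sAC (p := p2) h02.symm (hACp2 ▸ upE_ne_one) hACp0, ← hhv]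
      have hg := inj_gamma_eq (F := F) (s := s) i₀ (⟨0, hs⟩, 1)
      simp only [Matrix.cons_val_one, Matrix.cons_val_zero, ← hp0] at hg
      rw [← hg, hc, Matrix.mul_assoc, ← Units.val_mul, hh2, Units.val_one, Matrix.mul_one]
    obtain ⟨o, ho⟩ : ∃ o : Idx t s, ∀ q : Fin t × Fin s, o q.1 q.2 = 0 := ⟨fun _ _ => 0, fun q => rfl⟩
    obtain ⟨u, hu⟩ : ∃ u : Fin t × Fin s → Idx t s, ∀ (r q : Fin t × Fin s), u r q.1 q.2 = if q = r then 1 else 0 :=
      ⟨fun r i l => if (i, l) = r then 1 else 0, fun r q => rfl⟩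
    have hupd : Function.update fAC p0 1 = Function.update (fun _ => 1) p2 upE := by
      funext x
      rw [eAC]
      simp only [Function.update_apply]
      by_cases hx : x = p0
      · subst hx; simp [h02]
      · simp [hx]
    rw [hupd] at hc'
    by_cases hj : π.symm i₀ = i₀
    · have he := congrArg (fun N : Matrix (Idx t s) (Idx t s) F => N o (u p2)) hc'
      simp only [Matrix.add_apply] at he
      rw [inj_eq_zero_entry (i := i₁) (by rw [hj]; exact hi.symm) X o (u p2) (fun hh => by
          have := congrFun hh ⟨0, hs⟩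
          rw [show o i₁ ⟨0, hs⟩ = 0 from ho (i₁, ⟨0, hs⟩), show u p2 i₁ ⟨0, hs⟩ = if (i₁, (⟨0, hs⟩ : Fin s)) = p2 then 1 else 0
            from hu p2 (i₁, ⟨0, hs⟩), if_pos hp2.symm] at this
          exact absurd this (by decide)), pos_apply, pos_apply,
        Finset.prod_eq_zero (Finset.mem_univ p2) (by
          rw [Function.update_of_ne h02.symm, ho, hu, if_pos rfl, one_apply_ne]; decide), zero_add] at he
      refine Finset.prod_ne_zero_iff.2 (fun q _ => ?_) he.symm
      rw [ho, hu]
      by_cases hq : q = p2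
      · subst hq; rw [Function.update_self, if_pos rfl]; simp [upE]
      · rw [Function.update_of_ne hq, if_neg hq, one_apply_eq]; exact one_ne_zero
    · have he := congrArg (fun N : Matrix (Idx t s) (Idx t s) F => N (u p0) o) hc'
      simp only [Matrix.add_apply] at he
      rw [inj_eq_zero_entry (i := i₀) (Ne.symm hj) X (u p0) o (fun hh => by
          have := congrFun hh ⟨0, hs⟩
          rw [show o i₀ ⟨0, hs⟩ = 0 from ho (i₀, ⟨0, hs⟩), show u p0 i₀ ⟨0, hs⟩ = if (i₀, (⟨0, hs⟩ : Fin s)) = p0 then 1 else 0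
            from hu p0 (i₀, ⟨0, hs⟩), if_pos hp0.symm] at this
          exact absurd this (by decide)), pos_apply, pos_apply,
        Finset.prod_eq_zero (s := Finset.univ) (f := fun q => Function.update (fun _ => (1 : Matrix (Fin 2) (Fin 2) F)) p2 upE q
          (u p0 q.1 q.2) (o q.1 q.2)) (Finset.mem_univ p0) (by
          rw [Function.update_of_ne h02, ho, hu, if_pos rfl, one_apply_ne]; decide), add_zero] at he
      refine Finset.prod_ne_zero_iff.2 (fun q _ => ?_) he.symm
      rw [ho, hu]
      by_cases hq : q = p0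
      · subst hq; rw [Function.update_self, if_pos rfl]; simp [downE]
      · rw [Function.update_of_ne hq, if_neg hq, one_apply_eq]; exact one_ne_zero
  · -- h3 lies in Ω but not in S
    have hh3 : ψ h3 ∈ S := (Subgroup.mem_inf.1 (heq.symm ▸ hh3I)).1
    rw [hS] at hh3
    have ha : pos t s (Function.update (fun _ => (1 : Matrix (Fin 2) (Fin 2) F)) p0 downE) ∈ W := by
      have hg := inj_gamma_eq (F := F) (s := s) i₀ (⟨0, hs⟩, 1)
      simp only [Matrix.cons_val_one, Matrix.cons_val_zero, ← hp0] at hg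
      rw [← hg, hW]
      exact Submodule.subset_span (Set.mem_insert_of_mem _ ⟨(i₀, ⟨0, hs⟩, 1), rfl⟩)
    have hb := (hh3 _).1 ha
    rw [hcjval h3 hh32, hh3v, himg sACD (p := p2) h02.symm (hACDp2 ▸ upE_ne_one) hACDp0, hW] at hb
    rw [hW] at ha
    have hc := (Submodule.add_mem_iff_right _ ha).1 hb
    obtain ⟨o, ho⟩ : ∃ o : Idx t s, ∀ q : Fin t × Fin s, o q.1 q.2 = 0 := ⟨fun _ _ => 0, fun q => rfl⟩
    obtain ⟨u, hu⟩ : ∃ u : Idx t s, ∀ q : Fin t × Fin s, u q.1 q.2 = if q = p2 ∨ q = p3 then 1 else 0 :=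
      ⟨fun i l => if (i, l) = p2 ∨ (i, l) = p3 then 1 else 0, fun q => rfl⟩
    have hz := space_entry (x := o) (y := u) (Ne.symm h32) (by rw [ho, hu, if_pos (Or.inl rfl)]; decide)
      (by rw [ho, hu, if_pos (Or.inr rfl)]; decide) hc
    rw [pos_apply] at hz
    refine Finset.prod_ne_zero_iff.2 (fun q _ => ?_) hz
    rw [ho, hu, eACD, eAC]
    simp only [Function.update_apply]
    by_cases hq0 : q = p0
    · subst hq0; rw [if_neg (Ne.symm h30), if_pos rfl, if_neg (not_or_intro h02 (Ne.symm h30)), one_apply_eq]; exact one_ne_zero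
    · by_cases hq3 : q = p3
      · subst hq3; simp [hq0, upE]
      · by_cases hq2 : q = p2
        · subst hq2; simp [hq0, hq3, upE]
        · rw [if_neg hq0, if_neg hq3, if_neg hq2, if_neg hq0, if_neg (not_or_intro hq2 hq3), one_apply_eq]; exact one_ne_zero

end CfsgLib.Classical22.TensorSpin
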