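/-
Blocks of dimension two and four in characteristic two.
-/
import Cfsg.Agent.Lib.Classical22.TensorWreathOvergroup

set_option autoImplicit false

namespace CfsgLib.Classical22.TensorSpin

open Matrix CfsgLib.Classical22.TensorMono

variable {F : Type*} [Field F]

theorem sq_inj (h2 : (2 : F) = 0) {a b : F} (h : a * a = b * b) : a = b := by
  have h1 : (a - b) * (a - b) = 0 := by linear_combination h - b * (a - b) * h2
  exact sub_eq_zero.1 (mul_self_eq_zero.1 h1)

theorem gamma_sq {s : ℕ} (d : Fin s × Fin 2) : gamma (F := F) d * gamma d = 0 := by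
  rw [gamma, inj_apply, wr_one_mul]
  refine wr_eq_zero _ _ (i := d.1) ?_
  rw [Function.update_self]
  obtain ⟨l, c⟩ := d
  fin_cases c <;> ext i j <;> fin_cases i <;> fin_cases j <;> simp [upE, downE, Matrix.mul_apply, Fin.sum_univ_two]

theorem conj_sq {s : ℕ} (g : GL (Blk s) F) (d : Fin s × Fin 2) :
    ((g : Matrix (Blk s) (Blk s) F) * gamma d * ((g⁻¹ : GL (Blk s) F) : Matrix (Blk s) (Blk s) F)) *
      ((g : Matrix (Blk s) (Blk s) F) * gamma d * ((g⁻¹ : GL (Blk s) F) : Matrix (Blk s) (Blk s) F)) = 0 := by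
  rw [Matrix.mul_assoc _ _ (_ * _ * _), ← Matrix.mul_assoc ((g⁻¹ : GL (Blk s) F) : Matrix (Blk s) (Blk s) F),
    ← Matrix.mul_assoc ((g⁻¹ : GL (Blk s) F) : Matrix (Blk s) (Blk s) F), Units.inv_mul, Matrix.one_mul,
    ← Matrix.mul_assoc, Matrix.mul_assoc (g : Matrix (Blk s) (Blk s) F), gamma_sq, Matrix.mul_zero, Matrix.zero_mul]

theorem gamma_mem {s : ℕ} (d : Fin s × Fin 2) : gamma d ∈ blockSpace F s :=
  Submodule.subset_span (Set.mem_insert_of_mem _ ⟨d, rfl⟩)

theorem one_mem_block {s : ℕ} : (1 : Matrix (Blk s) (Blk s) F) ∈ blockSpace F s :=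
  Submodule.subset_span (Set.mem_insert _ _)

theorem block_one (h2 : (2 : F) = 0) (g : GL (Blk 1) F) (d : Fin 1 × Fin 2) :
    (g : Matrix (Blk 1) (Blk 1) F) * gamma d * ((g⁻¹ : GL (Blk 1) F) : Matrix (Blk 1) (Blk 1) F) ∈ blockSpace F 1 := by
  obtain ⟨X, hX⟩ : ∃ X, X = (g : Matrix (Blk 1) (Blk 1) F) * gamma d * ((g⁻¹ : GL (Blk 1) F) : Matrix (Blk 1) (Blk 1) F) :=
    ⟨_, rfl⟩
  have hsq : X * X = 0 := hX ▸ conj_sq g d
  rw [← hX]
  let e : Fin 2 ≃ Blk 1 := (Equiv.funUnique (Fin 1) (Fin 2)).symm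
  have he : ∀ a, X (e a) (e 0) * X (e 0) (e a) + X (e a) (e 1) * X (e 1) (e a) = 0 := fun a => by
    have h := congrArg (fun N : Matrix (Blk 1) (Blk 1) F => N (e a) (e a)) hsq
    simp only [Matrix.mul_apply, Matrix.zero_apply] at h
    rwa [← e.sum_comp, Fin.sum_univ_two] at h
  have hdiag : X (e 0) (e 0) = X (e 1) (e 1) := sq_inj h2 (by linear_combination he 0 - he 1)
  have hsum : X = X (e 0) (e 0) • 1 + X (e 0) (e 1) • gamma (0, 0) + X (e 1) (e 0) • gamma (0, 1) := by
    ext x y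
    obtain ⟨a, rfl⟩ := e.surjective x
    obtain ⟨b, rfl⟩ := e.surjective y
    simp only [gamma, inj_apply, Matrix.add_apply, Matrix.smul_apply, wr_apply, Fin.prod_univ_one,
      Equiv.Perm.one_apply]
    fin_cases a <;> fin_cases b <;> simp [e, upE, downE, Matrix.one_apply, hdiag, Equiv.funUnique, uniqueElim_const,
      funext_iff] <;> exact hdiag.symm
  rw [hsum]
  exact add_mem (add_mem (Submodule.smul_mem _ _ one_mem_block) (Submodule.smul_mem _ _ (gamma_mem _)))
    (Submodule.smul_mem _ _ (gamma_mem _))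

theorem block_two (h2 : (2 : F) = 0) (g : GL (Blk 2) F) (c : F)
    (hg : (g : Matrix (Blk 2) (Blk 2) F)ᵀ * blockGram F 2 * (g : Matrix (Blk 2) (Blk 2) F) = c • blockGram F 2)
    (d : Fin 2 × Fin 2) :
    (g : Matrix (Blk 2) (Blk 2) F) * gamma d * ((g⁻¹ : GL (Blk 2) F) : Matrix (Blk 2) (Blk 2) F) ∈ blockSpace F 2 := by
  obtain ⟨X, hX⟩ : ∃ X, X = (g : Matrix (Blk 2) (Blk 2) F) * gamma d * ((g⁻¹ : GL (Blk 2) F) : Matrix (Blk 2) (Blk 2) F) :=
    ⟨_, rfl⟩
  have hsq : X * X = 0 := hX ▸ conj_sq g d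
  obtain ⟨G, hG⟩ : ∃ G, G = blockGram F 2 := ⟨_, rfl⟩
  rw [← hG] at hg
  let e : Fin 4 ≃ Blk 2 :=
    { toFun := ![![0, 0], ![0, 1], ![1, 0], ![1, 1]]
      invFun := fun x => ![![0, 1], ![2, 3]] (x 0) (x 1)
      left_inv := fun a => by fin_cases a <;> rfl
      right_inv := fun x => by
        funext i
        generalize hu : x 0 = u
        generalize hw : x 1 = w
        fin_cases i <;> fin_cases u <;> fin_cases w <;> simp [hu, hw] }
  -- the alternating condition
  have hself : ∀ v, v ⬝ᵥ (G * X) *ᵥ v = 0 := by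
    intro v
    have hGg : ∀ w, w ⬝ᵥ (G * gamma d) *ᵥ w = 0 := by
      intro w
      rw [hG, blockGram, gamma, inj_apply, wr_one_mul]
      simp only [dotProduct, Matrix.mulVec, ← e.sum_comp, Fin.sum_univ_four, wr_apply, Fin.prod_univ_two,
        Equiv.Perm.one_apply]
      obtain ⟨l, k⟩ := d
      fin_cases l <;> fin_cases k <;>
        simp [e, upE, downE, swapJ, Matrix.mul_apply, Fin.sum_univ_two, Matrix.one_apply] <;>
        ring_nf <;> simp [h2]
    have h1 := hGg ((((g⁻¹ : GL (Blk 2) F)) : Matrix (Blk 2) (Blk 2) F) *ᵥ v)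
    have e1 : (((g⁻¹ : GL (Blk 2) F)) : Matrix (Blk 2) (Blk 2) F)ᵀ * (c • (G * gamma d)) *
        (((g⁻¹ : GL (Blk 2) F)) : Matrix (Blk 2) (Blk 2) F) = G * X := by
      rw [← Matrix.smul_mul, ← hg, ← Matrix.mul_assoc, ← Matrix.mul_assoc, ← Matrix.mul_assoc _ _ G,
        ← Matrix.transpose_mul, Units.mul_inv, Matrix.transpose_one, Matrix.one_mul, hX]
      simp only [Matrix.mul_assoc]
    rw [← e1, ← mulVec_mulVec, ← mulVec_mulVec, dotProduct_mulVec, vecMul_transpose, smul_mulVec, dotProduct_smul, h1,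
      smul_zero]
  have hGX : ∀ a b : Fin 4, (G * X) (e a) (e b) = X (e (3 - a)) (e b) := fun a b => by
    rw [Matrix.mul_apply, ← e.sum_comp, hG, blockGram]
    simp only [Fin.sum_univ_four, wr_apply, Fin.prod_univ_two, Equiv.Perm.one_apply]
    fin_cases a <;> simp [e, swapJ]
  have hdiag : ∀ a : Fin 4, X (e (3 - a)) (e a) = 0 := fun a => by
    rw [← hGX]
    have := hself (Pi.single (e a) 1)
    rwa [mulVec_single_one, single_one_dotProduct] at this
  have hsym : ∀ a b : Fin 4, X (e (3 - a)) (e b) = X (e (3 - b)) (e a) := fun a b => by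
    rw [← hGX, ← hGX]
    have h := hself (Pi.single (e a) 1 + Pi.single (e b) 1)
    rw [mulVec_add, dotProduct_add, add_dotProduct, add_dotProduct, hself, hself, mulVec_single_one, mulVec_single_one,
      single_one_dotProduct, single_one_dotProduct] at h
    simp only [Matrix.col_apply, zero_add, add_zero] at h
    linear_combination h - (G * X) (e b) (e a) * h2
  have hmul : ∀ a : Fin 4, X (e a) (e 0) * X (e 0) (e a) + X (e a) (e 1) * X (e 1) (e a) + X (e a) (e 2) * X (e 2) (e a) +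
      X (e a) (e 3) * X (e 3) (e a) = 0 := fun a => by
    have h := congrArg (fun N : Matrix (Blk 2) (Blk 2) F => N (e a) (e a)) hsq
    simp only [Matrix.mul_apply, Matrix.zero_apply] at h
    rwa [← e.sum_comp, Fin.sum_univ_four] at h
  have r03 : X (e 3) (e 0) = 0 := hdiag 0
  have r12 : X (e 2) (e 1) = 0 := hdiag 1
  have r21 : X (e 1) (e 2) = 0 := hdiag 2
  have r30 : X (e 0) (e 3) = 0 := hdiag 3
  have s01 : X (e 3) (e 1) = X (e 2) (e 0) := hsym 0 1
  have s02 : X (e 3) (e 2) = X (e 1) (e 0) := hsym 0 2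
  have s03 : X (e 3) (e 3) = X (e 0) (e 0) := hsym 0 3
  have s12 : X (e 2) (e 2) = X (e 1) (e 1) := hsym 1 2
  have s13 : X (e 2) (e 3) = X (e 0) (e 1) := hsym 1 3
  have s23 : X (e 1) (e 3) = X (e 0) (e 2) := hsym 2 3
  have hd : X (e 0) (e 0) = X (e 1) (e 1) := sq_inj h2 (by
    have h0 := hmul 0
    have h1 := hmul 1
    rw [r30, zero_mul, add_zero] at h0
    rw [r12, mul_zero, add_zero, s23, s01] at h1
    linear_combination h0 - h1)
  rw [← hX]
  have hsum : X = X (e 0) (e 0) • 1 + X (e 0) (e 1) • gamma (1, 0) + X (e 1) (e 0) • gamma (1, 1) +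
      X (e 0) (e 2) • gamma (0, 0) + X (e 2) (e 0) • gamma (0, 1) := by
    ext x y
    obtain ⟨a, rfl⟩ := e.surjective x
    obtain ⟨b, rfl⟩ := e.surjective y
    simp only [gamma, inj_apply, Matrix.add_apply, Matrix.smul_apply, wr_apply, Fin.prod_univ_two,
      Equiv.Perm.one_apply]
    fin_cases a <;> fin_cases b <;>
      simp [e, upE, downE, Matrix.one_apply, funext_iff, Fin.forall_fin_two] at * <;>
      simp_all
  rw [hsum]
  exact add_mem (add_mem (add_mem (add_mem (Submodule.smul_mem _ _ one_mem_block) (Submodule.smul_mem _ _ (gamma_mem _)))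
    (Submodule.smul_mem _ _ (gamma_mem _))) (Submodule.smul_mem _ _ (gamma_mem _))) (Submodule.smul_mem _ _ (gamma_mem _))

end CfsgLib.Classical22.TensorSpin
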