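/-
Non-maximality of tensor wreath stabilisers in Ω in characteristic two.
-/
import Cfsg.Agent.Lib.Classical22.TensorWreathBlocks
import Cfsg.Agent.Lib.Classical22.TensorRefine

set_option autoImplicit false

namespace CfsgLib.Classical22.TensorSpin

open Matrix CfsgLib.Classical22.TensorMono

variable {F : Type*} [Field F]

theorem formOfGram_eq {κ : Type} [Fintype κ] (G : Matrix κ κ F) (x y : κ → F) :
    Cfsg.Geo.formOfGram id G x y = x ⬝ᵥ G *ᵥ y := by
  simp only [Cfsg.Geo.formOfGram, dotProduct, Matrix.mulVec, id, Finset.mul_sum, mul_assoc]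

/-- The basis adapted to a block. -/
theorem exists_standard {k : ℕ} (h2 : (2 : F) = 0) (hk : k ≤ 4) (hk1 : 2 ≤ k) {f : (Fin k → F) → (Fin k → F) → F}
    (hf : Cfsg.Geo.IsSymplecticForm f) :
    ∃ s, 0 < s ∧ s ≤ 2 ∧ k = 2 ^ s ∧ ∃ v : Blk s → (Fin k → F), ∀ x y, f (v x) (v y) = blockGram F s x y := by
  have hcomm : ∀ a b, f a b = f b a := fun a b => by
    have := hf.skew a b
    linear_combination this - f b a * h2
  have hpair : ∀ a, a ≠ 0 → ∃ b, f a b = 1 := fun a ha => by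
    obtain ⟨x, hx⟩ := (hf.nondegenerate a ha).2
    exact ⟨(f a x)⁻¹ • x, by rw [hf.bilinear.smul_right, inv_mul_cancel₀ hx]⟩
  rcases (show k = 2 ∨ k = 3 ∨ k = 4 by omega) with rfl | rfl | rfl
  · refine ⟨1, one_pos, one_le_two, rfl, ?_⟩
    obtain ⟨b, hb⟩ := hpair (Pi.single 0 1) (fun h => one_ne_zero (α := F) (by simpa using congrFun h 0))
    refine ⟨fun x => ![Pi.single 0 1, b] (x 0), fun x y => ?_⟩
    rw [blockGram, wr_apply, Fin.prod_univ_one]
    generalize hu : x 0 = u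
    generalize hw : y 0 = w
    fin_cases u <;> fin_cases w <;> simp [hu, hw, swapJ, hb, hf.alternating, hcomm b]
  · exfalso
    obtain ⟨G, hG⟩ : ∃ G, G = Cfsg.Geo.gramMatrix f := ⟨_, rfl⟩
    have hfG : ∀ x y, f x y = Cfsg.Geo.formOfGram id G x y := fun x y => by
      rw [hG]
      exact TensorRefine.form_eq (σ := id) hf.bilinear.add_left hf.bilinear.smul_left hf.bilinear.add_right
        hf.bilinear.smul_right x y
    obtain ⟨v, hv⟩ : ∃ v : Fin 3 → F, v = ![G 1 2, G 0 2, G 0 1] := ⟨_, rfl⟩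
    have hd : ∀ i, G i i = 0 := fun i => by rw [hG]; exact hf.alternating _
    have hs : ∀ i j, G i j = G j i := fun i j => by rw [hG]; exact hcomm _ _
    have hker : ∀ x, f x v = 0 := fun x => by
      rw [hfG, hv]
      simp only [Cfsg.Geo.formOfGram, Fin.sum_univ_three, id, Matrix.cons_val_zero, Matrix.cons_val_one,
        Matrix.cons_val_two, Matrix.tail_cons, Matrix.head_cons, hd, hs 1 0, hs 2 0, hs 2 1]
      linear_combination (x 0 * G 0 1 * G 0 2 + x 1 * G 0 1 * G 1 2 + x 2 * G 0 2 * G 1 2) * h2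
    by_cases hv0 : v = 0
    · obtain ⟨b, hb⟩ := hpair (Pi.single 0 1) (fun h => one_ne_zero (α := F) (by simpa using congrFun h 0))
      have e0 := congrFun hv0 0
      have e1 := congrFun hv0 1
      have e2 := congrFun hv0 2
      rw [hv] at e0 e1 e2
      simp at e0 e1 e2
      rw [hfG] at hb
      simp [Cfsg.Geo.formOfGram, Fin.sum_univ_three, hd, hs 1 0, hs 2 0, hs 2 1, e0, e1, e2] at hb
    · obtain ⟨x, hx⟩ := (hf.nondegenerate v hv0).1
      exact hx (hker x)
  · refine ⟨2, two_pos, le_rfl, rfl, ?_⟩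
    obtain ⟨a, ha⟩ : ∃ a : Fin 4 → F, a ≠ 0 := ⟨Pi.single 0 1, fun h => one_ne_zero (α := F) (by simpa using congrFun h 0)⟩
    obtain ⟨b, hb⟩ := hpair a ha
    obtain ⟨π, hπ⟩ : ∃ π : (Fin 4 → F) → Fin 4 → F, ∀ x, π x = x + f x b • a + f x a • b := ⟨_, fun x => rfl⟩
    have hπ0 : ∀ x, f (π x) a = 0 ∧ f (π x) b = 0 := fun x => by
      rw [hπ]
      simp only [hf.bilinear.add_left, hf.bilinear.smul_left, hf.alternating, hcomm b a, hb]
      constructor <;> ring_nf <;> simp [h2]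
    have hfa : ∀ y z, f z a = 0 → f z b = 0 → f z (π y) = f z y := fun y z ha hb => by
      rw [hπ, hf.bilinear.add_right, hf.bilinear.add_right, hf.bilinear.smul_right, hf.bilinear.smul_right, ha, hb]
      ring
    obtain ⟨x, hx⟩ : ∃ x, π x ≠ 0 := by
      by_contra hh
      push Not at hh
      have htop : (⊤ : Submodule F (Fin 4 → F)) ≤ Submodule.span F (Set.range ![a, b]) := fun x _ => by
        have e : x = f x b • a + f x a • b := by
          have h' := hh x
          rw [hπ, add_assoc, add_eq_zero_iff_eq_neg] at h'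
          refine h'.trans ?_
          rw [← neg_one_smul F (_ + _), show (-1 : F) = 1 by linear_combination -h2, one_smul]
        rw [e]
        exact add_mem (Submodule.smul_mem _ _ (Submodule.subset_span ⟨0, rfl⟩))
          (Submodule.smul_mem _ _ (Submodule.subset_span ⟨1, rfl⟩))
      have h4 := (Submodule.finrank_mono htop).trans (finrank_range_le_card ![a, b])
      rw [finrank_top, Module.finrank_fin_fun, Fintype.card_fin] at h4
      omega
    obtain ⟨y, hy⟩ := hpair _ hx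
    obtain ⟨c, hc, hca, hcb⟩ : ∃ c, f (π x) c = 1 ∧ f c a = 0 ∧ f c b = 0 :=
      ⟨π y, by rw [hfa y _ (hπ0 x).1 (hπ0 x).2, hy], hπ0 y⟩
    obtain ⟨hxa, hxb⟩ := hπ0 x
    refine ⟨fun z => ![![a, π x], ![c, b]] (z 0) (z 1), fun z w => ?_⟩
    rw [blockGram, wr_apply, Fin.prod_univ_two]
    generalize hu : z 0 = u
    generalize hu' : z 1 = u'
    generalize hw : w 0 = v
    generalize hw' : w 1 = v'
    fin_cases u <;> fin_cases u' <;> fin_cases v <;> fin_cases v' <;>
      simp [hu, hu', hw, hw', swapJ, hf.alternating, hb, hc, hca, hcb, hxa, hxb, hcomm b a, hcomm c (π x), hcomm a (π x),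
        hcomm b (π x), hcomm a c, hcomm b c]

theorem wreath_not_maximal [Fintype F] (h2 : (2 : F) = 0) {n : ℕ} (hn : 13 ≤ n) (Q : (Fin n → F) → F)
    (hsm : ∀ (c : F) v, Q (c • v) = c ^ 2 * Q v) (k t : ℕ) (ht : 2 ≤ t) (hk : k ≤ 4) (e : Fin n ≃ (Fin t → Fin k))
    (P : GL (Fin n) F) (f : (Fin k → F) → (Fin k → F) → F) (hf : Cfsg.Geo.IsSymplecticForm f)
    (hT : Cfsg.Geo.IsTensorPowerFormStructure id (QuadraticMap.polar Q) f e P)
    (hpure : ∀ xs : Fin t → (Fin k → F),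
      Q (Matrix.mulVec (P : Matrix (Fin n) (Fin n) F) ((fun a : Fin t → Fin k => ∏ i, xs i (a i)) ∘ e)) = 0) :
    ∃ K : Subgroup (GL (Fin n) F), Cfsg.Geo.tensorWreathSubgroup k t e P ⊓ Cfsg.Geo.omegaGL Q < K ∧
      K < Cfsg.Geo.omegaGL Q := by
  classical
  have hcard : n = k ^ t := by simpa using Fintype.card_congr e
  have hk2 : 2 ≤ k := by
    by_contra hh
    have : k ^ t ≤ 1 ^ t := Nat.pow_le_pow_left (by omega) t
    rw [one_pow] at this
    omega
  obtain ⟨s, hs, hs2, hks, v, hv⟩ := exists_standard h2 hk hk2 hf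
  have hts : 4 ≤ t * s := by
    by_contra hh
    have h8 : 2 ^ (t * s) ≤ 2 ^ 3 := Nat.pow_le_pow_right two_pos (by omega)
    rw [hks, ← pow_mul, mul_comm] at hcard
    omega
  obtain ⟨C, hC⟩ : ∃ C : Matrix (Fin k) (Blk s) F, ∀ a y, C a y = v y a := ⟨fun a y => v y a, fun a y => rfl⟩
  obtain ⟨G₁, hG₁⟩ : ∃ G, G = Cfsg.Geo.gramMatrix f := ⟨_, rfl⟩
  have hcol : ∀ y, C.col y = v y := fun y => funext fun a => hC a y
  have hCG : Cᵀ * G₁ * C = blockGram F s := by
    refine Matrix.ext fun x y => ?_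
    rw [← hv, TensorRefine.form_eq (σ := id) hf.bilinear.add_left hf.bilinear.smul_left hf.bilinear.add_right
      hf.bilinear.smul_right, ← hG₁, formOfGram_eq, ← hcol, ← hcol, dotProduct_mulVec]
    simp only [Matrix.mul_apply, dotProduct, Matrix.vecMul, Matrix.transpose_apply, Matrix.col_apply]
  have hJ : blockGram F s * blockGram F s = 1 := by
    rw [blockGram, wr_one_mul,
      show (fun _ : Fin s => (swapJ : Matrix (Fin 2) (Fin 2) F) * swapJ) = fun _ => 1 from funext fun _ => by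
        ext i j; fin_cases i <;> fin_cases j <;> simp [swapJ, Matrix.mul_apply, Fin.sum_univ_two], wr_one]
  obtain ⟨C', hC'⟩ : ∃ C', C' = blockGram F s * Cᵀ * G₁ := ⟨_, rfl⟩
  have h1 : C' * C = 1 := by rw [hC', Matrix.mul_assoc, Matrix.mul_assoc, ← Matrix.mul_assoc Cᵀ, hCG, hJ]
  have h1' : C * C' = 1 := by
    refine (Matrix.mul_eq_one_comm_of_equiv ?_).1 h1
    exact Fintype.equivOfCardEq (by simp [hks])
  obtain ⟨U, hU⟩ : ∃ U : Matrix (Fin t → Fin k) (Idx t s) F, U = wr 1 fun _ => C := ⟨_, rfl⟩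
  obtain ⟨U', hU'⟩ : ∃ U' : Matrix (Idx t s) (Fin t → Fin k) F, U' = wr 1 fun _ => C' := ⟨_, rfl⟩
  have hUU' : U * U' = 1 := by rw [hU, hU', wr_one_mul, ← wr_one]; simp [h1']
  have hU'U : U' * U = 1 := by rw [hU, hU', wr_one_mul, ← wr_one]; simp [h1]
  obtain ⟨R, hR⟩ : ∃ R, R = (P : Matrix (Fin n) (Fin n) F) * U.submatrix e id := ⟨_, rfl⟩
  obtain ⟨R', hR'⟩ : ∃ R', R' = U'.submatrix id e * ((P⁻¹ : GL (Fin n) F) : Matrix (Fin n) (Fin n) F) := ⟨_, rfl⟩
  have hRR' : R * R' = 1 := by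
    rw [hR, hR', Matrix.mul_assoc, ← Matrix.mul_assoc (U.submatrix e id),
      ← Matrix.submatrix_mul _ _ _ _ _ Function.bijective_id, hUU', submatrix_one_equiv, Matrix.one_mul, Units.mul_inv]
  have hR'R : R' * R = 1 := by
    rw [hR, hR', Matrix.mul_assoc, ← Matrix.mul_assoc _ (P : Matrix (Fin n) (Fin n) F), Units.inv_mul, Matrix.one_mul,
      ← Matrix.submatrix_mul _ _ _ _ _ e.bijective, hU'U, submatrix_id_id]
  have hRx : ∀ x, R *ᵥ x = (P : Matrix (Fin n) (Fin n) F) *ᵥ ((U *ᵥ x) ∘ e) := fun x => by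
    rw [hR, ← mulVec_mulVec]; rfl
  obtain ⟨κ, hκ, hκT⟩ := hT
  have hpol : ∀ x y, Q (R *ᵥ (x + y)) = Q (R *ᵥ x) + Q (R *ᵥ y) + κ * (x ⬝ᵥ gramAll F t s *ᵥ y) := by
    intro x y
    have h := hκT (U *ᵥ x) (U *ᵥ y)
    rw [← hRx, ← hRx, QuadraticMap.polar, ← mulVec_add] at h
    have hG : (∑ a, ∑ b, (U *ᵥ x) a * (∏ i, Cfsg.Geo.gramMatrix f (a i) (b i)) * id ((U *ᵥ y) b)) =
        x ⬝ᵥ gramAll F t s *ᵥ y := by
      rw [show (∑ a, ∑ b, (U *ᵥ x) a * (∏ i, Cfsg.Geo.gramMatrix f (a i) (b i)) * id ((U *ᵥ y) b)) =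
          (U *ᵥ x) ⬝ᵥ (wr 1 fun _ => G₁) *ᵥ (U *ᵥ y) from ?_,
        ← vecMul_transpose, mulVec_mulVec, dotProduct_mulVec, vecMul_vecMul, ← Matrix.mul_assoc, hU, wr_transpose,
        wr_mul_one, wr_mul_one, ← dotProduct_mulVec]
      · simp only [Equiv.Perm.one_symm, Equiv.Perm.one_apply, hCG]
        rfl
      · rw [← formOfGram_eq, hG₁]
        rfl
    rw [hG] at h
    linear_combination h
  have hbase : ∀ a, Q (R *ᵥ Pi.single a 1) = 0 := fun a => by
    rw [hRx, mulVec_single_one]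
    have := hpure fun i => C.col (a i)
    convert this using 4
    funext z
    rw [hU, Matrix.col_apply, wr_apply]
    rfl
  refine exists_overgroup h2 ht hs hts Q hsm R R' hRR' hR'R hκ hpol hbase _ ?_ ?_
  · rintro _ ⟨_, ⟨z, hz, rfl⟩, rfl⟩
    obtain ⟨π, A, hA⟩ := standard_form hz
    refine ⟨π, fun i => ⟨C' * (A i : Matrix (Fin k) (Fin k) F) * C, C' * ((A i)⁻¹ : GL (Fin k) F).val * C, ?_, ?_⟩, ?_⟩
    · calc C' * (A i).val * C * (C' * ((A i)⁻¹ : GL (Fin k) F).val * C)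
          = C' * (A i).val * (C * C') * ((A i)⁻¹ : GL (Fin k) F).val * C := by simp only [Matrix.mul_assoc]
        _ = C' * ((A i).val * ((A i)⁻¹ : GL (Fin k) F).val) * C := by rw [h1', Matrix.mul_one, Matrix.mul_assoc C']
        _ = 1 := by rw [Units.mul_inv, Matrix.mul_one, h1]
    · calc C' * ((A i)⁻¹ : GL (Fin k) F).val * C * (C' * (A i).val * C)
          = C' * ((A i)⁻¹ : GL (Fin k) F).val * (C * C') * (A i).val * C := by simp only [Matrix.mul_assoc]
        _ = C' * (((A i)⁻¹ : GL (Fin k) F).val * (A i).val) * C := by rw [h1', Matrix.mul_one, Matrix.mul_assoc C']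
        _ = 1 := by rw [Units.inv_mul, Matrix.mul_one, h1]
    show R' * ((P : Matrix (Fin n) (Fin n) F) * Matrix.reindexAlgEquiv F F e.symm
      (z : Matrix (Fin t → Fin k) (Fin t → Fin k) F) * ((P⁻¹ : GL (Fin n) F) : Matrix (Fin n) (Fin n) F)) * R = _
    rw [hR, hR', Matrix.reindexAlgEquiv_apply, Matrix.reindex_apply, Equiv.symm_symm]
    calc U'.submatrix id e * (P⁻¹ : GL (Fin n) F).val * (P.val * z.val.submatrix e e * (P⁻¹ : GL (Fin n) F).val) *
          (P.val * U.submatrix e id)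
        = U'.submatrix id e * ((P⁻¹ : GL (Fin n) F).val * P.val) * z.val.submatrix e e *
            ((P⁻¹ : GL (Fin n) F).val * P.val) * U.submatrix e id := by simp only [Matrix.mul_assoc]
      _ = (U' * z.val * U).submatrix id id := by
          rw [Units.inv_mul, Matrix.mul_one, Matrix.mul_one, Matrix.submatrix_mul _ _ id e id e.bijective,
            Matrix.submatrix_mul _ _ id e e e.bijective]
      _ = _ := by
          rw [submatrix_id_id, hA, hU, hU', wr_one_mul, wr_mul_one]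
  · intro g c hg d
    interval_cases s
    · exact block_one h2 g d
    · exact block_two h2 g c hg d

end CfsgLib.Classical22.TensorSpin
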