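import Cfsg.Agent.Lib.Cores.Layer2
import Cfsg.Agent.Lib.Cores.Coprime
import Cfsg.Agent.Lib.LocalEven.ChainStab
import Cfsg.Agent.Lib.Solvable.Basic

/-!
The iterated cores of two conjugate core-free maximal subgroups (Thompson–Wielandt).
-/

set_option autoImplicit false

namespace CfsgLib.Classical22.TWCores

open Subgroup Cfsg CfsgLib.Cores

variable {G : Type*} [Group G]

/-- The core in `M` of `Y`, as a subgroup of the ambient group. -/
abbrev coreIn (M Y : Subgroup G) : Subgroup G := ((Y.subgroupOf M).normalCore).map M.subtype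

theorem mem_coreIn {M Y : Subgroup G} {x : G} :
    x ∈ coreIn M Y ↔ x ∈ M ∧ ∀ m ∈ M, m * x * m⁻¹ ∈ Y := by
  constructor
  · rintro ⟨⟨x, hx⟩, h, rfl⟩
    exact ⟨hx, fun m hm => mem_subgroupOf.1 (h ⟨m, hm⟩)⟩
  · rintro ⟨hx, h⟩
    exact ⟨⟨x, hx⟩, fun m => mem_subgroupOf.2 (h m m.2), rfl⟩

theorem coreIn_le_left (M Y : Subgroup G) : coreIn M Y ≤ M := map_subtype_le _

theorem coreIn_le (M Y : Subgroup G) : coreIn M Y ≤ Y := fun x hx => by
  have h := (mem_coreIn.1 hx).2 1 (one_mem _)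
  simpa using h

theorem conj_mem_coreIn {M Y : Subgroup G} {m x : G} (hm : m ∈ M) (hx : x ∈ coreIn M Y) :
    m * x * m⁻¹ ∈ coreIn M Y := by
  obtain ⟨h1, h2⟩ := mem_coreIn.1 hx
  refine mem_coreIn.2 ⟨mul_mem (mul_mem hm h1) (inv_mem hm), fun a ha => ?_⟩
  rw [show a * (m * x * m⁻¹) * a⁻¹ = a * m * x * (a * m)⁻¹ by group]
  exact h2 _ (mul_mem ha hm)

theorem le_normalizer_of_conj {M K : Subgroup G} (h : ∀ m ∈ M, ∀ x ∈ K, m * x * m⁻¹ ∈ K) :
    M ≤ normalizer (K : Set G) := fun m hm => mem_normalizer_iff.2 fun x => ⟨h m hm x, fun hx => by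
  have := h _ (inv_mem hm) _ hx
  rwa [inv_inv, show m⁻¹ * (m * x * m⁻¹) * m = x by group] at this⟩

theorem le_normalizer_coreIn (M Y : Subgroup G) : M ≤ normalizer (coreIn M Y : Set G) :=
  le_normalizer_of_conj fun _ hm _ hx => conj_mem_coreIn hm hx

theorem coreIn_mono {M Y Y' : Subgroup G} (h : Y ≤ Y') : coreIn M Y ≤ coreIn M Y' := fun x hx =>
  mem_coreIn.2 ⟨(mem_coreIn.1 hx).1, fun m hm => h ((mem_coreIn.1 hx).2 m hm)⟩

/-- The image of `O_p(K)`. -/
abbrev coreP (p : ℕ) (K : Subgroup G) : Subgroup G := (pCore p K).map K.subtype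

/-- The image of `E(K)`. -/
abbrev coreE (K : Subgroup G) : Subgroup G := (layer K).map K.subtype

theorem le_normalizer_map {M : Subgroup G} {K : Subgroup M} (hK : K.Normal) :
    M ≤ normalizer (K.map M.subtype : Set G) := le_normalizer_of_conj fun m hm => by
  rintro _ ⟨y, hy, rfl⟩
  exact ⟨⟨m, hm⟩ * y * ⟨m, hm⟩⁻¹, hK.conj_mem y hy _, rfl⟩

theorem le_normalizer_coreP (p : ℕ) (M : Subgroup G) : M ≤ normalizer (coreP p M : Set G) :=
  le_normalizer_map (@normal_of_characteristic _ _ _ (pCore_characteristic p))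

theorem le_normalizer_coreE (M : Subgroup G) : M ≤ normalizer (coreE M : Set G) :=
  le_normalizer_map layer_normal

/-- Subnormality of `A` inside `K`. -/
abbrev SubnormalIn (A K : Subgroup G) : Prop := A ≤ K ∧ (A.subgroupOf K).IsSubnormal

theorem subnormalIn_of_normalized {A K : Subgroup G} (hAK : A ≤ K) (h : K ≤ normalizer (A : Set G)) :
    SubnormalIn A K :=
  ⟨hAK, ((normal_subgroupOf_iff_le_normalizer hAK).2 h).isSubnormal⟩

theorem subnormalIn_trans {A B K : Subgroup G} (h1 : SubnormalIn A B) (hB : B ≤ K)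
    (h2 : K ≤ normalizer (B : Set G)) : SubnormalIn A K := by
  refine ⟨h1.1.trans hB, ?_⟩
  have e : A.subgroupOf K = ((A.subgroupOf B).map (subgroupOfEquivOfLe hB).symm.toMonoidHom).map
      (B.subgroupOf K).subtype := by
    ext x
    constructor
    · intro hx
      exact ⟨⟨x, mem_subgroupOf.2 (h1.1 hx)⟩, ⟨⟨(x : G), h1.1 hx⟩, hx, rfl⟩, rfl⟩
    · rintro ⟨y, ⟨z, hz, rfl⟩, rfl⟩
      exact hz
  rw [e]
  exact (h1.2.map (subgroupOfEquivOfLe hB).symm.surjective).trans'
    (subnormalIn_of_normalized hB h2).2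

variable [Finite G]

theorem isPGroup_coreP (p : ℕ) (K : Subgroup G) : IsPGroup p (coreP p K) := (isPGroup_pCore p).map _

theorem le_coreP {p : ℕ} {A K : Subgroup G} (hA : SubnormalIn A K) (hp : IsPGroup p A) : A ≤ coreP p K := by
  have h := le_pCore_of_isSubnormal hA.2 (hp.comap_subtype : IsPGroup p (A.subgroupOf K))
  exact (map_subgroupOf_eq_of_le hA.1).symm.le.trans (map_mono h)

theorem coreE_mono {A K : Subgroup G} (hA : SubnormalIn A K) : coreE A ≤ coreE K := by
  have h := map_mono (f := K.subtype) (map_subtype_layer_le hA.2)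
  rw [← map_layer_equiv (subgroupOfEquivOfLe hA.1).symm, map_map, map_map] at h
  exact h

theorem coreE_eq {A K : Subgroup G} (hA : SubnormalIn A K) (h : coreE K ≤ A) : coreE A = coreE K := by
  have h' := congrArg (Subgroup.map K.subtype) (map_subtype_layer_of_le hA.2 (fun x hx =>
    mem_subgroupOf.2 (h ⟨x, hx, rfl⟩)))
  rw [← map_layer_equiv (subgroupOfEquivOfLe hA.1).symm, map_map, map_map] at h'
  exact h'

theorem subnormalIn_coreE_le {S K : Subgroup G} (hS : SubnormalIn S K) :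
    coreE K ≤ normalizer (S : Set G) := by
  rintro _ ⟨x, hx, rfl⟩
  have h : layer K ≤ normalizer ((S.subgroupOf K : Subgroup K) : Set K) := by
    refine layer_le_iff.2 fun L hL => ?_
    rcases component_le_or_commutator_eq_bot hL hS.2 with h | h
    · exact h.trans le_normalizer
    · exact (commutator_eq_bot_iff_le_centralizer.1 h).trans (centralizer_le_normalizer _)
  have h2 := h hx
  rwa [← subgroupOf_normalizer_eq hS.1] at h2

theorem subnormalIn_coreP_le {p : ℕ} [Fact p.Prime] {S K : Subgroup G} (hS : SubnormalIn S K) :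
    coreP p K ≤ normalizer (pPrimeElemClosure p S : Set G) := by
  refine le_normalizer_of_conj fun v hv x hx => ?_
  obtain ⟨v, hv', rfl⟩ := hv
  suffices h : pPrimeElemClosure p S ≤ (pPrimeElemClosure p S).comap (MulAut.conj (v : G)).toMonoidHom from h hx
  refine (closure_le _).2 fun y hy => mem_pPrimeElemClosure ?_ ?_
  · haveI : (pCore p K).Normal := @normal_of_characteristic _ _ _ (pCore_characteristic p)
    exact mem_subgroupOf.1 (LocalEven.Chain.conj_mem_of_pGroup hS.2 (isPGroup_pCore p)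
      (le_top.trans (normalizer_eq_top_iff.2 inferInstance).ge) hv' (x := ⟨y, hS.1 hy.1⟩) hy.1
      (by rw [orderOf_mk]; exact hy.2))
  · rw [orderOf_injective (MulAut.conj (v : G)).toMonoidHom (MulAut.conj (v : G)).injective]
    exact hy.2

theorem isPGroup_of_pPrimeElemClosure_eq_bot {p : ℕ} [Fact p.Prime] {M : Subgroup G}
    (h : pPrimeElemClosure p M = ⊥) : IsPGroup p M :=
  LocalEven.Chain.isPGroup_of_coprime_eq_one fun x hx hc => by
    have := mem_pPrimeElemClosure (p := p) hx hc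
    rwa [h, mem_bot] at this

theorem normalizer_eq_of_core {M K : Subgroup G} (hM : IsCoatom M) (hc : M.normalCore = ⊥) (hKM : K ≤ M)
    (hK : K ≠ ⊥) (hn : M ≤ normalizer (K : Set G)) : normalizer (K : Set G) = M := by
  refine (hM.le_iff.1 hn).resolve_left fun htop => hK ?_
  haveI : K.Normal := normalizer_eq_top_iff.1 htop
  exact le_bot_iff.1 (hc ▸ normal_le_normalCore.2 hKM)

section Pair

variable {M N : Subgroup G}

/-- An `M`-invariant subgroup of `B₁` and its `N`-translates control `B₁`. -/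
theorem le_coreIn_of_translates (hM : IsCoatom M) (hc : M.normalCore = ⊥) {K : Subgroup G} (hKM : K ≤ M)
    (hK : K ≠ ⊥) (hn : M ≤ normalizer (K : Set G)) {X : Subgroup G} (hX : X ≤ N)
    (h : ∀ m ∈ N, X ≤ normalizer (K.map (MulAut.conj m).toMonoidHom : Set G)) :
    X ≤ coreIn N (M ⊓ N) := by
  intro x hx
  refine mem_coreIn.2 ⟨hX hx, fun m hm => Subgroup.mem_inf.2 ⟨?_, mul_mem (mul_mem hm (hX hx)) (inv_mem hm)⟩⟩
  rw [← normalizer_eq_of_core hM hc hKM hK hn]
  have hx' := mem_normalizer_iff.1 (h m⁻¹ (inv_mem hm) hx)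
  refine mem_normalizer_iff.2 fun y => ?_
  have e : ∀ z, z ∈ K.map (MulAut.conj m⁻¹).toMonoidHom ↔ m * z * m⁻¹ ∈ K := fun z => by
    constructor
    · rintro ⟨w, hw, rfl⟩
      simpa [mul_assoc] using hw
    · exact fun hz => ⟨_, hz, by simp [mul_assoc]⟩
  have h1 := hx' (m⁻¹ * y * m)
  rw [e, e, show m * (m⁻¹ * y * m) * m⁻¹ = y by group,
    show m * (x * (m⁻¹ * y * m) * x⁻¹) * m⁻¹ = m * x * m⁻¹ * y * (m * x * m⁻¹)⁻¹ by group] at h1
  exact h1

variable {a : Subgroup G}

/-- The facts about a nontrivial `M`-invariant subgroup of `B₁`. -/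
theorem side (hM : IsCoatom M) (hc : M.normalCore = ⊥) (ha : a ≠ ⊥) (haB : a ≤ coreIn N (M ⊓ N))
    (haM : M ≤ normalizer (a : Set G)) :
    coreE N = coreE (M ⊓ N) ∧ SubnormalIn a (M ⊓ N) ∧
      ∀ q : ℕ, q.Prime → ¬ IsPGroup q a → coreP q N = coreP q (M ⊓ N) := by
  obtain ⟨B, hB⟩ : ∃ B, B = coreIn N (M ⊓ N) := ⟨_, rfl⟩
  obtain ⟨H, hH⟩ : ∃ H, H = M ⊓ N := ⟨_, rfl⟩
  rw [← hB] at haB
  have hBH : B ≤ H := hB ▸ hH ▸ coreIn_le N (M ⊓ N)
  have hHM : H ≤ M := hH ▸ inf_le_left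
  have hHN : H ≤ N := hH ▸ inf_le_right
  have hBM : B ≤ M := hBH.trans hHM
  have hBN : B ≤ N := hBH.trans hHN
  have hNB : N ≤ normalizer (B : Set G) := hB ▸ le_normalizer_coreIn N (M ⊓ N)
  have haMle : a ≤ M := haB.trans hBM
  have htr : ∀ m ∈ N, SubnormalIn (a.map (MulAut.conj m).toMonoidHom) B := by
    intro m hm
    refine subnormalIn_of_normalized ?_ (le_normalizer_of_conj ?_)
    · rintro _ ⟨y, hy, rfl⟩
      exact (mem_normalizer_iff.1 (hNB hm) y).1 (haB hy)
    · rintro b hb _ ⟨y, hy, rfl⟩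
      have hb' : m⁻¹ * b * m ∈ B := by
        simpa using (mem_normalizer_iff.1 (hNB (inv_mem hm)) b).1 hb
      exact ⟨m⁻¹ * b * m * y * (m⁻¹ * b * m)⁻¹, (mem_normalizer_iff.1 (haM (hBM hb')) y).1 hy, by
        simp [mul_assoc]⟩
  have hH' : ∀ m ∈ N, SubnormalIn (a.map (MulAut.conj m).toMonoidHom) H := fun m hm =>
    subnormalIn_trans (htr m hm) hBH (hHN.trans hNB)
  have haone : a.map (MulAut.conj (1 : G)).toMonoidHom = a := by
    ext x; simp
  have haH : SubnormalIn a H := haone ▸ hH' 1 (one_mem N)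
  have haN : SubnormalIn a N := subnormalIn_trans (haone ▸ htr 1 (one_mem N)) hBN hNB
  have hNa := normalizer_eq_of_core hM hc haMle ha haM
  refine ⟨le_antisymm ?_ ?_, hH ▸ haH, fun q hq hna => le_antisymm ?_ ?_⟩ <;> rw [← hH]
  · have h1 : coreE N ≤ H := hH ▸ le_inf ((subnormalIn_coreE_le haN).trans hNa.le) (map_subtype_le _)
    exact (coreE_eq (subnormalIn_of_normalized (map_subtype_le _) (le_normalizer_coreE N)) le_rfl).ge.trans
      (coreE_mono (subnormalIn_of_normalized h1 (hHN.trans (le_normalizer_coreE N))))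
  · have h1 : coreE H ≤ B := hB ▸ le_coreIn_of_translates hM hc haMle ha haM ((map_subtype_le _).trans hHN)
      fun m hm => subnormalIn_coreE_le (hH' m hm)
    exact (coreE_eq (subnormalIn_of_normalized hBH (hHN.trans hNB)) h1).ge.trans
      (coreE_mono (subnormalIn_of_normalized hBN hNB))
  all_goals haveI : Fact q.Prime := ⟨hq⟩
  all_goals
    have hK : pPrimeElemClosure q a ≠ ⊥ := fun h => hna (isPGroup_of_pPrimeElemClosure_eq_bot h)
    have hKM : pPrimeElemClosure q a ≤ M := (pPrimeElemClosure_le q a).trans haMle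
    have hKn : M ≤ normalizer (pPrimeElemClosure q a : Set G) :=
      haM.trans (normalizer_le_normalizer_pPrimeElemClosure q a)
  · have h1 : coreP q N ≤ H := hH ▸ le_inf
      ((subnormalIn_coreP_le haN).trans (normalizer_eq_of_core hM hc hKM hK hKn).le) (map_subtype_le _)
    exact le_coreP (subnormalIn_of_normalized h1 (hHN.trans (le_normalizer_coreP q N))) (isPGroup_coreP q N)
  · have h1 : coreP q H ≤ B := hB ▸ le_coreIn_of_translates hM hc hKM hK hKn ((map_subtype_le _).trans hHN)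
      fun m hm => by rw [map_pPrimeElemClosure]; exact subnormalIn_coreP_le (hH' m hm)
    exact le_coreP (subnormalIn_trans (subnormalIn_of_normalized h1 (hBH.trans (le_normalizer_coreP q H))) hBN hNB)
      (isPGroup_coreP q H)

/-- If `O_q(M) = O_q(M ∩ N)` and the two cores have equal order they are trivial. -/
theorem coreP_eq_bot (hM : IsCoatom M) (hN : IsCoatom N) (hne : M ≠ N) (hcM : M.normalCore = ⊥)
    (hcN : N.normalCore = ⊥) {q : ℕ} [Fact q.Prime] (h : coreP q M = coreP q (M ⊓ N))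
    (hcard : Nat.card (coreP q N) = Nat.card (coreP q M)) : coreP q M = ⊥ ∧ coreP q N = ⊥ := by
  obtain ⟨P, hP⟩ : ∃ P, P = coreP q M := ⟨_, rfl⟩
  obtain ⟨X, hX⟩ : ∃ X, X = coreP q N := ⟨_, rfl⟩
  rw [← hP] at h hcard ⊢
  rw [← hX] at hcard ⊢
  by_cases hb : P = ⊥
  · refine ⟨hb, eq_bot_of_card_eq _ ?_⟩
    rw [hcard, hb, card_bot]
  exfalso
  have hPN : P ≤ N := h ▸ (map_subtype_le _).trans inf_le_right
  have hPM : P ≤ M := hP ▸ map_subtype_le _
  have hXN : X ≤ N := hX ▸ map_subtype_le _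
  have hNX : N ≤ normalizer (X : Set G) := hX ▸ le_normalizer_coreP q N
  have hnP := normalizer_eq_of_core hM hcM hPM hb (hP ▸ le_normalizer_coreP q M)
  have hsmall : X ⊓ normalizer (P : Set G) ≤ P := by
    rw [hnP, h]
    refine le_coreP (subnormalIn_of_normalized (le_inf inf_le_right (inf_le_left.trans hXN)) ?_)
      (IsPGroup.to_le (hX ▸ isPGroup_coreP q N) inf_le_left)
    exact CfsgLib.Solvable.le_normalizer_inf (inf_le_right.trans hNX) (inf_le_left.trans le_normalizer)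
  have hXP : IsPGroup q ↥(X ⊔ P : Subgroup G) :=
    IsPGroup.to_sup_of_normal_left' (hX ▸ isPGroup_coreP q N) (hP ▸ isPGroup_coreP q M) (hPN.trans hNX)
  haveI : Group.IsNilpotent ↥(X ⊔ P : Subgroup G) := hXP.isNilpotent
  have htop : P.subgroupOf (X ⊔ P) = ⊤ := by
    refine normalizerCondition_iff_only_full_group_self_normalizing.1 normalizerCondition_of_isNilpotent _ ?_
    refine le_antisymm (fun y hy => mem_subgroupOf.2 ?_) le_normalizer
    rw [← subgroupOf_normalizer_eq le_sup_right] at hy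
    have hy2 : (y : G) ∈ ((X ⊔ P : Subgroup G) : Set G) := y.2
    rw [coe_mul_of_right_le_normalizer_left X P (hPN.trans hNX)] at hy2
    obtain ⟨u, hu, v, hv, huv⟩ := hy2
    have hu' : u ∈ normalizer (P : Set G) := by
      rw [show u = (y : G) * v⁻¹ by rw [← huv, mul_inv_cancel_right]]
      exact mul_mem hy (inv_mem (le_normalizer hv))
    rw [← huv]
    exact mul_mem (hsmall ⟨hu, hu'⟩) hv
  have hle : X ≤ P := le_sup_left.trans (subgroupOf_eq_top.1 htop)
  have heq : X = P := eq_of_le_of_card_ge hle hcard.ge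
  refine hne ((hN.le_iff.1 ?_).resolve_left hM.1)
  rw [← hnP, ← heq]; exact hNX

end Pair

theorem generalizedFitting_eq_pCore {p : ℕ} [Fact p.Prime] (K : Subgroup G) (hE : coreE K = ⊥)
    (hq : ∀ q : ℕ, q.Prime → q ≠ p → coreP q K = ⊥) : generalizedFittingSubgroup K = pCore p K := by
  rw [generalizedFittingSubgroup, (map_eq_bot_iff_of_injective _ K.subtype_injective).1 hE, bot_sup_eq]
  refine le_antisymm ?_ (pCore_le_fittingSubgroup p)
  rw [fittingSubgroup_eq_iSup_pCore]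
  refine iSup_le fun r => ?_
  by_cases hr : (r : ℕ) = p
  · rw [hr]
  · rw [(map_eq_bot_iff_of_injective _ K.subtype_injective).1 (hq r (Nat.prime_of_mem_primeFactors r.2) hr)]
    exact bot_le

theorem main {M N : Subgroup G} (hM : IsCoatom M) (hN : IsCoatom N) (hne : M ≠ N) (hcM : M.normalCore = ⊥)
    (hcN : N.normalCore = ⊥) (hcard : ∀ q, Nat.card (coreP q N) = Nat.card (coreP q M))
    {a b : Subgroup G} (ha : a ≠ ⊥) (hb : b ≠ ⊥) (haB : a ≤ coreIn N (M ⊓ N)) (hbA : b ≤ coreIn M (M ⊓ N))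
    (haM : M ≤ normalizer (a : Set G)) (hbN : N ≤ normalizer (b : Set G)) :
    ∃ p : ℕ, p.Prime ∧ IsPGroup p ↥(a ⊔ b) ∧
      generalizedFittingSubgroup M = pCore p M ∧
      generalizedFittingSubgroup ↥(coreIn M (M ⊓ N)) = pCore p ↥(coreIn M (M ⊓ N)) ∧
      generalizedFittingSubgroup N = pCore p N ∧
      generalizedFittingSubgroup ↥(coreIn N (M ⊓ N)) = pCore p ↥(coreIn N (M ⊓ N)) := by
  obtain ⟨hEa, haH, hPa⟩ := side hM hcM ha haB haM
  obtain ⟨hEb, hbH, hPb⟩ := side hN hcN hb (inf_comm M N ▸ hbA) hbN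
  rw [inf_comm N M] at hEb hbH hPb
  have hEM : coreE M = ⊥ := by
    by_contra h
    refine hne ((hN.le_iff.1 ?_).resolve_left hM.1)
    rw [← normalizer_eq_of_core (K := coreE M) hM hcM (map_subtype_le _) h (le_normalizer_coreE M), hEb, ← hEa]
    exact le_normalizer_coreE N
  have hEN : coreE N = ⊥ := by rw [hEa, ← hEb, hEM]
  have hbnot : ∀ q, q.Prime → ¬ IsPGroup q b → coreP q M = ⊥ ∧ coreP q N = ⊥ := fun q hq hn => by
    haveI : Fact q.Prime := ⟨hq⟩
    exact coreP_eq_bot hM hN hne hcM hcN (hPb q hq hn) (hcard q)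
  have hanot : ∀ q, q.Prime → ¬ IsPGroup q a → coreP q M = ⊥ ∧ coreP q N = ⊥ := fun q hq hn => by
    haveI : Fact q.Prime := ⟨hq⟩
    have h := hPa q hq hn
    rw [inf_comm] at h
    exact (coreP_eq_bot hN hM (Ne.symm hne) hcN hcM h (hcard q).symm).symm
  have haMle : a ≤ M := haB.trans ((coreIn_le _ _).trans inf_le_left)
  haveI : Nontrivial M := (nontrivial_iff_ne_bot M).2 fun h => ha (le_bot_iff.1 (h ▸ haMle))
  obtain ⟨p, hp, hpM⟩ : ∃ p : ℕ, p.Prime ∧ coreP p M ≠ ⊥ := by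
    by_contra! h
    refine generalizedFittingSubgroup_ne_bot (G := M) ?_
    rw [generalizedFittingSubgroup, (map_eq_bot_iff_of_injective _ M.subtype_injective).1 hEM, bot_sup_eq,
      fittingSubgroup_eq_iSup_pCore]
    exact iSup_eq_bot.2 fun r =>
      (map_eq_bot_iff_of_injective _ M.subtype_injective).1 (h r (Nat.prime_of_mem_primeFactors r.2))
  haveI : Fact p.Prime := ⟨hp⟩
  have hap : IsPGroup p a := by
    by_contra h; exact hpM (hanot p hp h).1
  have hbp : IsPGroup p b := by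
    by_contra h; exact hpM (hbnot p hp h).1
  have hoff : ∀ q, q.Prime → q ≠ p → coreP q M = ⊥ ∧ coreP q N = ⊥ := fun q hq hqp => hanot q hq fun h => by
    haveI : Fact q.Prime := ⟨hq⟩
    exact ha ((eq_bot_iff_forall a).2 fun x hx => Subgroup.mem_bot.1
      ((IsPGroup.disjoint_of_ne p q (Ne.symm hqp) a a hap h).le_bot ⟨hx, hx⟩))
  have hsub : ∀ K L : Subgroup G, K ≤ normalizer (coreIn K L : Set G) → SubnormalIn (coreIn K L) K :=
    fun K L h => subnormalIn_of_normalized (coreIn_le_left K L) h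
  have hfirst : ∀ K L : Subgroup G, coreE K = ⊥ → (∀ q : ℕ, q.Prime → q ≠ p → coreP q K = ⊥) →
      generalizedFittingSubgroup ↥(coreIn K L) = pCore p ↥(coreIn K L) := fun K L h1 h2 => by
    have hs := hsub K L (le_normalizer_coreIn K L)
    refine generalizedFitting_eq_pCore _ (le_bot_iff.1 ((coreE_mono hs).trans h1.le)) fun q hq hqp => ?_
    haveI : Fact q.Prime := ⟨hq⟩
    refine le_bot_iff.1 (le_trans (le_coreP ?_ (isPGroup_coreP q _)) (h2 q hq hqp).le)
    exact subnormalIn_trans (subnormalIn_of_normalized (map_subtype_le _) (le_normalizer_coreP q _))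
      (coreIn_le_left K L) (le_normalizer_coreIn K L)
  refine ⟨p, hp, (isPGroup_coreP p (M ⊓ N)).to_le (sup_le (le_coreP haH hap) (le_coreP hbH hbp)),
    generalizedFitting_eq_pCore M hEM fun q hq hqp => (hoff q hq hqp).1,
    hfirst M _ hEM fun q hq hqp => (hoff q hq hqp).1,
    generalizedFitting_eq_pCore N hEN fun q hq hqp => (hoff q hq hqp).2,
    hfirst N _ hEN fun q hq hqp => (hoff q hq hqp).2⟩

theorem card_coreP_conj (q : ℕ) (M : Subgroup G) (g : G) :
    Nat.card (coreP q (M.map (MulAut.conj g).toMonoidHom)) = Nat.card (coreP q M) := by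
  rw [card_map_of_injective (subtype_injective _), card_map_of_injective (subtype_injective _),
    ← map_pCore_equiv (M.equivMapOfInjective (MulAut.conj g).toMonoidHom (MulAut.conj g).injective),
    card_map_of_injective (MulEquiv.injective _)]

theorem main' (M₁ M₂ : Subgroup G) (hmax : IsCoatom M₁) (g : G)
    (hconj : M₂ = M₁.map (MulAut.conj g).toMonoidHom) (hne : M₁ ≠ M₂) (hcore : M₁.normalCore = ⊥)
    (A B : ℕ → Subgroup G) (hA0 : A 0 = M₁) (hB0 : B 0 = M₂)
    (hA : ∀ i, A (i + 1) = ((A i ⊓ B i).subgroupOf M₁).normalCore.map M₁.subtype)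
    (hB : ∀ i, B (i + 1) = ((A i ⊓ B i).subgroupOf M₂).normalCore.map M₂.subtype) (hA2 : A 2 ≠ ⊥) (hB2 : B 2 ≠ ⊥) :
    ∃ p : ℕ, p.Prime ∧ IsPGroup p ↥(A 2 ⊔ B 2) ∧
      generalizedFittingSubgroup ↥M₁ = pCore p ↥M₁ ∧ generalizedFittingSubgroup ↥(A 1) = pCore p ↥(A 1) ∧
      generalizedFittingSubgroup ↥M₂ = pCore p ↥M₂ ∧ generalizedFittingSubgroup ↥(B 1) = pCore p ↥(B 1) := by
  have hN : IsCoatom M₂ := by
    rw [hconj]
    exact (OrderIso.isCoatom_iff (MulEquiv.mapSubgroup (MulAut.conj g)) M₁).2 hmax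
  have hcN : M₂.normalCore = ⊥ := by
    refine le_bot_iff.1 (fun x hx => ?_)
    have hx' : g * x * g⁻¹ ∈ M₂.normalCore := (inferInstance : M₂.normalCore.Normal).conj_mem x hx g
    have h : M₂.normalCore ≤ M₁ := fun y hy => by
      have hy' : g * y * g⁻¹ ∈ M₂ := normalCore_le _ ((inferInstance : M₂.normalCore.Normal).conj_mem y hy g)
      rw [hconj] at hy'
      obtain ⟨z, hz, hze⟩ := hy'
      have hzy : z = y := (MulAut.conj g).injective hze
      exact hzy ▸ hz
    rw [← hcore]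
    exact normal_le_normalCore.2 h hx
  have hA1 : A 1 = coreIn M₁ (M₁ ⊓ M₂) := by rw [hA 0, hA0, hB0]
  have hB1 : B 1 = coreIn M₂ (M₁ ⊓ M₂) := by rw [hB 0, hA0, hB0]
  have hcard : ∀ q, Nat.card (coreP q M₂) = Nat.card (coreP q M₁) := fun q => by
    rw [hconj]; exact card_coreP_conj q M₁ g
  rw [hA1, hB1]
  refine main hmax hN hne hcore hcN hcard hA2 hB2 ?_ ?_ ?_ ?_
  · rw [hA 1, ← hB1]; exact (coreIn_le _ _).trans inf_le_right
  · rw [hB 1, ← hA1]; exact (coreIn_le _ _).trans inf_le_left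
  · rw [hA 1]; exact le_normalizer_coreIn _ _
  · rw [hB 1]; exact le_normalizer_coreIn _ _

end CfsgLib.Classical22.TWCores
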