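/-
Elements of order three in characteristic three and subfield subgroups.
-/
import Cfsg.Agent.Lib.Classical22.InvolSubfield
import Cfsg.Agent.Lib.Classical22.NilpotentPartition

set_option autoImplicit false

namespace CfsgLib.Classical22.UnipotentSubfield

open Matrix CfsgLib.Classical22.NilPart CfsgLib.Classical22.PrimeMaps

/-- A nilpotent map has a basis on which it acts as a partial map. -/
theorem exists_jordan {F V : Type*} [Field F] [AddCommGroup V] [Module F V] [FiniteDimensional F V] {N : V →ₗ[F] V}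
    {X : Submodule F V} (hX : Inv N X) {p : ℕ} (hN : ∀ v ∈ X, (N ^ p) v = 0) :
    ∃ (ι : Type) (_ : Fintype ι) (b : ι → V), LinearIndependent F b ∧ Submodule.span F (Set.range b) = X ∧
      ∀ i, N (b i) = 0 ∨ ∃ j, N (b i) = b j := by
  obtain ⟨d, hd⟩ : ∃ d, Module.finrank F X = d := ⟨_, rfl⟩
  induction d using Nat.strong_induction_on generalizing X with
  | _ d ih =>
    by_cases h0 : X = ⊥
    · subst h0
      exact ⟨Empty, inferInstance, Empty.elim, linearIndependent_empty_type, by simp, fun i => i.elim⟩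
    obtain ⟨e, Z, C, he, -, hZ, hC, hd', hs, hZd, -, v, hv, hve, hZs⟩ := exists_cyclic_vec hX h0 hN
    have hadd := Submodule.finrank_sup_add_finrank_inf_eq Z C
    rw [hd', hs, finrank_bot, add_zero, hZd] at hadd
    obtain ⟨ι, hι, b, hb, hbs, hbN⟩ := ih _ (by omega) hC (fun v hv => hN v (hs ▸ Submodule.mem_sup_right hv)) rfl
    refine ⟨Fin e ⊕ ι, inferInstance, Sum.elim (fun j : Fin e => (N ^ (j : ℕ)) v) b, ?_, ?_, ?_⟩
    · refine linearIndependent_sum.2 ⟨by rw [Sum.elim_comp_inl]; exact hv, by rw [Sum.elim_comp_inr]; exact hb, ?_⟩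
      rw [Sum.elim_comp_inl, Sum.elim_comp_inr, ← hZs, hbs, disjoint_iff, hd']
    · rw [Set.Sum.elim_range, Submodule.span_union, ← hZs, hbs, hs]
    · rintro (j | i)
      · rcases Nat.lt_or_ge (j.val + 1) e with h | h
        · right
          exact ⟨.inl ⟨j + 1, h⟩, by simp only [Sum.elim_inl]; rw [pow_succ', Module.End.mul_apply]⟩
        · left
          simp only [Sum.elim_inl]
          rw [← Module.End.mul_apply, ← pow_succ', show j.val + 1 = e by omega, hve]
      · rcases hbN i with h | ⟨l, h⟩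
        · exact Or.inl h
        · exact Or.inr ⟨.inr l, h⟩

/-- A nilpotent of square zero whose kernel is its image, in a basis of pairs. -/
theorem exists_pairs {F V : Type*} [Field F] [AddCommGroup V] [Module F V] [FiniteDimensional F V] {N : V →ₗ[F] V}
    (h2 : ∀ v, N (N v) = 0) (hk : ∀ v, N v = 0 → v ∈ LinearMap.range N) :
    ∃ (k : ℕ) (b : Module.Basis (Fin k ⊕ Fin k) F V), ∀ i, N (b (.inl i)) = b (.inr i) ∧ N (b (.inr i)) = 0 := by
  obtain ⟨C, hC⟩ := (LinearMap.ker N).exists_isCompl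
  obtain ⟨k, hkd⟩ : ∃ k, Module.finrank F C = k := ⟨_, rfl⟩
  let c := Module.finBasisOfFinrankEq F C hkd
  have hinj : ∀ x : C, N x = 0 → x = 0 := fun x hx =>
    Subtype.ext (Submodule.disjoint_def.1 hC.disjoint _ (LinearMap.mem_ker.2 hx) x.2)
  have hrange : ∀ w, N w = 0 → ∃ x : C, N x = w := fun w hw => by
    obtain ⟨u, hu⟩ := hk w hw
    obtain ⟨a, ha, x, hx, rfl⟩ := Submodule.mem_sup.1 (hC.sup_eq_top ▸ Submodule.mem_top (x := u))
    exact ⟨⟨x, hx⟩, by rw [map_add, LinearMap.mem_ker.1 ha, zero_add] at hu; exact hu⟩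
  let v : Fin k ⊕ Fin k → V := Sum.elim (fun i => (c i : V)) (fun i => N (c i))
  have hv : LinearIndependent F v := by
    rw [Fintype.linearIndependent_iff]
    intro g hg
    simp only [Fintype.sum_sum_type, v, Sum.elim_inl, Sum.elim_inr] at hg
    have h1 : ∑ i, g (.inl i) • c i = 0 := hinj _ (by
      have := congrArg N hg
      simp only [map_add, map_sum, map_smul, h2, smul_zero, Finset.sum_const_zero, add_zero, map_zero] at this
      simpa [map_sum] using this)
    have g1 := Fintype.linearIndependent_iff.1 c.linearIndependent _ h1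
    simp only [g1, zero_smul, Finset.sum_const_zero, zero_add] at hg
    have h2' : ∑ i, g (.inr i) • c i = 0 := hinj _ (by simpa [map_sum] using hg)
    have g2 := Fintype.linearIndependent_iff.1 c.linearIndependent _ h2'
    rintro (i | i)
    exacts [g1 i, g2 i]
  have hspan : ⊤ ≤ Submodule.span F (Set.range v) := by
    intro w _
    have hCs : ∀ x : C, (x : V) ∈ Submodule.span F (Set.range v) ∧ N x ∈ Submodule.span F (Set.range v) := by
      intro x
      rw [← c.sum_repr x]
      constructor <;> simp only [Submodule.coe_sum, Submodule.coe_smul, map_sum, map_smul] <;>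
        refine Submodule.sum_mem _ fun i _ => Submodule.smul_mem _ _ (Submodule.subset_span ?_)
      exacts [⟨.inl i, rfl⟩, ⟨.inr i, rfl⟩]
    obtain ⟨a, ha, x, hx, rfl⟩ := Submodule.mem_sup.1 (hC.sup_eq_top ▸ Submodule.mem_top (x := w))
    obtain ⟨y, rfl⟩ := hrange a (LinearMap.mem_ker.1 ha)
    exact Submodule.add_mem _ (hCs y).2 (hCs ⟨x, hx⟩).1
  exact ⟨k, Module.Basis.mk hv hspan, fun i => by simp [v, h2]⟩

variable {F : Type*} [Field F] {n : ℕ}

/-- Change of basis matrix. -/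
theorem exists_gl_of_basis (b : Module.Basis (Fin n) F (Fin n → F)) :
    ∃ P : GL (Fin n) F, ∀ x, (P : Matrix (Fin n) (Fin n) F) *ᵥ x = ∑ j, x j • b j := by
  obtain ⟨U, hU⟩ : ∃ U : Matrix (Fin n) (Fin n) F, ∀ x, U *ᵥ x = ∑ j, x j • b j := by
    refine ⟨Matrix.of fun i j => b j i, fun x => funext fun i => ?_⟩
    rw [Finset.sum_apply]
    simp [Matrix.mulVec, dotProduct, mul_comm]
  have hinj : Function.Injective U.mulVec := fun x y hxy => by
    simp only [hU, ← Module.Basis.equivFun_symm_apply] at hxy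
    exact b.equivFun.symm.injective hxy
  exact ⟨(Matrix.mulVec_injective_iff_isUnit.1 hinj).unit, hU⟩

/-- A nilpotent of index at most three is conjugate to one with entries `0` and `1`. -/
theorem nilpotent_rational {N : Matrix (Fin n) (Fin n) F} {p : ℕ} (hN : N ^ p = 0) :
    ∃ (P : GL (Fin n) F) (M : Matrix (Fin n) (Fin n) F), (∀ i j, M i j = 0 ∨ M i j = 1) ∧
      N * (P : Matrix (Fin n) (Fin n) F) = (P : Matrix (Fin n) (Fin n) F) * M := by
  classical
  have hNp : ∀ v ∈ (⊤ : Submodule F (Fin n → F)), (Matrix.toLin' N ^ p) v = 0 := fun v _ => by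
    rw [← Matrix.toLin'_pow, hN]; simp
  obtain ⟨ι, hι, b, hb, hbs, hbN⟩ := exists_jordan (N := Matrix.toLin' N) (fun _ _ => Submodule.mem_top) hNp
  let B : Module.Basis ι F (Fin n → F) := Module.Basis.mk hb hbs.ge
  let e : ι ≃ Fin n := Fintype.equivFinOfCardEq (by rw [← Module.finrank_eq_card_basis B]; simp)
  obtain ⟨P, hP⟩ := exists_gl_of_basis (B.reindex e)
  have hP1 : ∀ i, (P : Matrix (Fin n) (Fin n) F) *ᵥ Pi.single (e i) 1 = b i := fun i => by
    rw [hP, Finset.sum_eq_single (e i)]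
    · simp [B]
    · intro j _ hj; rw [Pi.single_eq_of_ne hj, zero_smul]
    · simp
  obtain ⟨M, hM⟩ : ∃ M : Matrix (Fin n) (Fin n) F, ∀ l i, M l (e i) =
      if ∃ j, e j = l ∧ N *ᵥ b i = b j then 1 else 0 :=
    ⟨Matrix.of fun l i => if ∃ j, e j = l ∧ N *ᵥ b (e.symm i) = b j then 1 else 0, fun l i => by simp⟩
  refine ⟨P, M, fun l i => ?_, Matrix.ext_of_mulVec_single fun i => ?_⟩
  · obtain ⟨i, rfl⟩ := e.surjective i
    rw [hM]; split_ifs <;> simp
  · obtain ⟨i, rfl⟩ := e.surjective i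
    rw [← mulVec_mulVec, ← mulVec_mulVec, hP1]
    rcases hbN i with h | ⟨j, h⟩
    · rw [Matrix.toLin'_apply] at h
      rw [h, show M *ᵥ Pi.single (e i) 1 = 0 from funext fun l => by
        rw [Matrix.mulVec_single_one, Matrix.col_apply, hM, if_neg]
        · rfl
        · rintro ⟨j, -, hj⟩; exact hb.ne_zero j (hj.symm.trans h), mulVec_zero]
    · rw [Matrix.toLin'_apply] at h
      rw [h, show M *ᵥ Pi.single (e i) 1 = Pi.single (e j) 1 from funext fun l => by
        rw [Matrix.mulVec_single_one, Matrix.col_apply, hM]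
        by_cases hl : l = e j
        · rw [if_pos ⟨j, hl.symm, h⟩, hl, Pi.single_eq_same]
        · rw [if_neg, Pi.single_eq_of_ne hl]
          rintro ⟨j', hj', hj''⟩
          exact hl (by rw [← hj', hb.injective (hj''.symm.trans h)]), hP1]

theorem scalar_det {U W : Submodule F (Fin n → F)} (hc : IsCompl U W) {N : Matrix (Fin n) (Fin n) F}
    (hU : Inv (Matrix.toLin' N) U) (hW : Inv (Matrix.toLin' N) W) {d : ℕ} (hd : Module.finrank F U = d) (t : Fˣ) :
    ∃ C : GL (Fin n) F, (C : Matrix (Fin n) (Fin n) F) * N = N * C ∧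
      Matrix.GeneralLinearGroup.det C = t ^ d := by
  classical
  obtain ⟨g, hg⟩ : ∃ g : (U × W) ≃ₗ[F] (Fin n → F), g = Submodule.prodEquivOfIsCompl U W hc := ⟨_, rfl⟩
  let f : (U × W) →ₗ[F] (U × W) := LinearMap.prodMap ((t : F) • LinearMap.id) LinearMap.id
  obtain ⟨T, hT⟩ : ∃ T : (Fin n → F) →ₗ[F] (Fin n → F), T = g.toLinearMap ∘ₗ f ∘ₗ g.symm.toLinearMap := ⟨_, rfl⟩
  have hTd : LinearMap.det T = (t : F) ^ d := by
    rw [hT, LinearMap.det_conj]
    show LinearMap.det (LinearMap.prodMap ((t : F) • (LinearMap.id : U →ₗ[F] U)) (LinearMap.id : W →ₗ[F] W)) = _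
    rw [LinearMap.det_prodMap, LinearMap.det_smul, LinearMap.det_id, LinearMap.det_id, hd]
    ring
  have hTuw : ∀ u ∈ U, ∀ w ∈ W, T (u + w) = (t : F) • u + w := by
    intro u hu w hw
    have : g.symm (u + w) = (⟨u, hu⟩, ⟨w, hw⟩) := by
      rw [LinearEquiv.symm_apply_eq, hg]
      simp
    rw [hT]
    show g (f (g.symm (u + w))) = _
    rw [this, hg]
    simp [f]
  obtain ⟨C, hC⟩ : ∃ C : GL (Fin n) F, (C : Matrix (Fin n) (Fin n) F) = LinearMap.toMatrix' T :=
    ⟨Matrix.GeneralLinearGroup.mkOfDetNeZero _ (by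
      rw [LinearMap.det_toMatrix', hTd]; exact pow_ne_zero _ t.ne_zero), rfl⟩
  refine ⟨C, ?_, Units.ext ?_⟩
  · refine Matrix.toLin'.injective (LinearMap.ext fun v => ?_)
    rw [hC, Matrix.toLin'_mul, Matrix.toLin'_mul, Matrix.toLin'_toMatrix', LinearMap.comp_apply, LinearMap.comp_apply]
    obtain ⟨u, hu, w, hw, rfl⟩ := Submodule.mem_sup.1 (hc.sup_eq_top ▸ Submodule.mem_top (x := v))
    rw [map_add, hTuw _ (hU u hu) _ (hW w hw), hTuw u hu w hw, map_add, map_smul]
  · rw [Matrix.GeneralLinearGroup.val_det_apply, hC, LinearMap.det_toMatrix', hTd, Units.val_pow_eq_pow_val]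

variable [Fintype F]

/-- The standard nilpotent with all blocks of size two. -/
def pairNil (F : Type*) [Field F] {k : ℕ} (e : Fin k ⊕ Fin k ≃ Fin n) : Matrix (Fin n) (Fin n) F :=
  Matrix.reindex e e (fromBlocks 0 0 1 0)

omit [Fintype F] in
theorem pairs_conj {N : Matrix (Fin n) (Fin n) F} (h2 : N * N = 0) (hk : ∀ v, N *ᵥ v = 0 → ∃ u, N *ᵥ u = v)
    {k : ℕ} (e : Fin k ⊕ Fin k ≃ Fin n) :
    ∃ P : GL (Fin n) F, N * (P : Matrix (Fin n) (Fin n) F) = (P : Matrix (Fin n) (Fin n) F) * pairNil F e := by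
  obtain ⟨k', b, hb⟩ := exists_pairs (N := Matrix.toLin' N) (fun v => by
      rw [Matrix.toLin'_apply, Matrix.toLin'_apply, mulVec_mulVec, h2, zero_mulVec])
    (fun v hv => by
      obtain ⟨u, hu⟩ := hk v (by rwa [Matrix.toLin'_apply] at hv)
      exact ⟨u, by rw [Matrix.toLin'_apply, hu]⟩)
  obtain rfl : k = k' := by
    have h1 := Module.finrank_eq_card_basis b
    have h2 := Fintype.card_congr e
    simp at h1 h2
    omega
  obtain ⟨P, hP⟩ := exists_gl_of_basis (b.reindex e)
  have hP1 : ∀ i, (P : Matrix (Fin n) (Fin n) F) *ᵥ Pi.single (e i) 1 = b i := fun i => by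
    rw [hP, Finset.sum_eq_single (e i)]
    · simp
    · intro j _ hj; rw [Pi.single_eq_of_ne hj, zero_smul]
    · simp
  refine ⟨P, Matrix.ext_of_mulVec_single fun i => ?_⟩
  obtain ⟨i, rfl⟩ := e.surjective i
  rw [← mulVec_mulVec, ← mulVec_mulVec, hP1, ← Matrix.toLin'_apply N]
  have hcol : ∀ x, pairNil F e *ᵥ x = ((fromBlocks 0 0 1 0 : Matrix (Fin k ⊕ Fin k) (Fin k ⊕ Fin k) F) *ᵥ (x ∘ e)) ∘ e.symm :=
    fun x => by rw [pairNil, Matrix.reindex_apply, Matrix.submatrix_mulVec_equiv, Equiv.symm_symm]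
  rcases i with i | i
  · rw [(hb i).1, show pairNil F e *ᵥ Pi.single (e (.inl i)) 1 = Pi.single (e (.inr i)) 1 from ?_, hP1]
    rw [hcol]
    funext l
    obtain ⟨l, rfl⟩ := e.surjective l
    rcases l with l | l <;>
      simp [fromBlocks_mulVec, Function.comp_def, Pi.single_apply, e.injective.eq_iff, Matrix.mulVec, dotProduct]
  · rw [(hb i).2, show pairNil F e *ᵥ Pi.single (e (.inr i)) 1 = 0 from ?_, mulVec_zero]
    rw [hcol]
    funext l
    obtain ⟨l, rfl⟩ := e.surjective l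
    rcases l with l | l <;>
      simp [fromBlocks_mulVec, Function.comp_def, Pi.single_apply, e.injective.eq_iff, Matrix.mulVec, dotProduct]

omit [Fintype F] in
theorem coe_cube (x : SpecialLinearGroup (Fin n) F) :
    ((x ^ 3 : SpecialLinearGroup (Fin n) F) : Matrix (Fin n) (Fin n) F) = (x : Matrix (Fin n) (Fin n) F) ^ 3 := by
  simp [pow_succ]

theorem cube_bij [CharP F 3] : Function.Bijective (fun a : F => a ^ 3) :=
  haveI : Fact (Nat.Prime 3) := ⟨Nat.prime_three⟩
  Finite.injective_iff_bijective.1 (frobenius_inj F 3)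

theorem three_iff [CharP F 3] {q q₀ k : ℕ} (hq : Fintype.card F = q) (hn : 2 ≤ n) (F₀ : Subfield F) (hk : k.Prime)
    (hF₀ : Nat.card F₀ = q₀) (hqk : q = q₀ ^ k) :
    (∀ x : Matrix.SpecialLinearGroup (Fin n) F,
      (∃ z : F, ((x ^ 3 : Matrix.SpecialLinearGroup (Fin n) F) : Matrix (Fin n) (Fin n) F) =
        z • (1 : Matrix (Fin n) (Fin n) F)) →
      (∀ z : F, (x : Matrix (Fin n) (Fin n) F) ≠ z • (1 : Matrix (Fin n) (Fin n) F)) →
      ∃ P : Matrix.SpecialLinearGroup (Fin n) F, P⁻¹ * x * P ∈ ((Cfsg.Geo.subfieldSubgroup F₀ 1).comap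
        (Matrix.SpecialLinearGroup.toGL : Matrix.SpecialLinearGroup (Fin n) F →* GL (Fin n) F))) ↔
    (Odd n ∨ (Even n ∧ 2 < k)) := by
  classical
  haveI : Fact (Nat.Prime 3) := ⟨Nat.prime_three⟩
  haveI : Nonempty (Fin n) := ⟨⟨0, by omega⟩⟩
  letI := Fintype.ofFinite F₀
  haveI : CharP F₀ 3 := (F₀.subtype : F₀ →+* F).charP F₀.subtype.injective 3
  rw [Nat.card_eq_fintype_card] at hF₀
  have h2 : (2 : F) ≠ 0 := fun h => by
    have := (CharP.cast_eq_zero_iff F 3 2).1 (by exact_mod_cast h)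
    omega
  have hr : ringChar F ≠ 2 := by rw [ringChar.eq F 3]; omega
  have hodd : Odd q := hq ▸ Nat.odd_iff.2 (FiniteField.odd_card_of_char_ne_two hr)
  have hodd0 : Odd q₀ := (Nat.odd_pow_iff hk.ne_zero).1 (hqk ▸ hodd)
  constructor
  · intro hall
    by_contra hcon
    push Not at hcon
    obtain ⟨hne, hk2'⟩ := hcon
    rw [Nat.not_odd_iff_even] at hne
    obtain rfl : k = 2 := le_antisymm (hk2' hne) hk.two_le
    obtain ⟨m, rfl⟩ := hne
    obtain ⟨e, -⟩ : ∃ e : Fin m ⊕ Fin m ≃ Fin (m + m), True := ⟨finSumFinEquiv, trivial⟩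
    obtain ⟨u₀, hu₀⟩ : ∃ u : Matrix (Fin (m + m)) (Fin (m + m)) F, u = 1 + pairNil F e := ⟨_, rfl⟩
    have hu₀b : u₀ = Matrix.reindex e e (fromBlocks 1 0 1 1) := by
      rw [hu₀, pairNil, Matrix.reindex_apply, Matrix.reindex_apply, ← Matrix.submatrix_one_equiv e.symm, ← fromBlocks_one]
      ext i j
      rw [Matrix.add_apply, Matrix.submatrix_apply, Matrix.submatrix_apply, Matrix.submatrix_apply, ← Matrix.add_apply,
        fromBlocks_add]
      simp
    obtain ⟨t, ht⟩ := FiniteField.exists_nonsquare hr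
    have ht0 : t ≠ 0 := fun h => ht (h ▸ IsSquare.zero)
    obtain ⟨D, hD⟩ : ∃ D : GL (Fin (m + m)) F, D = CfsgLib.Classical22.Monomial.diagGL
        (Function.update 1 ⟨0, by omega⟩ (Units.mk0 t ht0)) := ⟨_, rfl⟩
    have hDd : (Matrix.GeneralLinearGroup.det D : F) = t := by
      rw [Matrix.GeneralLinearGroup.val_det_apply, hD, CfsgLib.Classical22.Monomial.det_diag,
        Finset.prod_eq_single ⟨0, by omega⟩]
      · simp
      · intro i _ hi; simp [Function.update_of_ne hi]
      · simp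
    obtain ⟨X, hX⟩ : ∃ X, X = (D : Matrix (Fin (m + m)) (Fin (m + m)) F) * u₀ *
        ((D⁻¹ : GL (Fin (m + m)) F) : Matrix (Fin (m + m)) (Fin (m + m)) F) := ⟨_, rfl⟩
    have hXd : X.det = 1 := by
      rw [hX, det_mul, det_mul, mul_right_comm, ← det_mul, ← Units.val_mul, mul_inv_cancel, Units.val_one, det_one,
        one_mul, hu₀b, Matrix.reindex_apply, Matrix.det_submatrix_equiv_self, det_fromBlocks_zero₁₂, det_one, one_mul]
    have hN2 : pairNil F e * pairNil F e = 0 := by
      rw [pairNil, Matrix.reindex_apply, Matrix.submatrix_mul_equiv, fromBlocks_multiply]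
      simp
    have hu3 : u₀ ^ 3 = 1 := by
      rw [hu₀, add_pow_char_of_commute 3 (Commute.one_left _), one_pow, pow_succ, pow_two, hN2, zero_mul, add_zero]
    obtain ⟨x, hx⟩ : ∃ x : SpecialLinearGroup (Fin (m + m)) F, (x : Matrix (Fin (m + m)) (Fin (m + m)) F) = X :=
      ⟨⟨_, hXd⟩, rfl⟩
    have hX3 : X ^ 3 = 1 := by
      rw [hX, Units.conj_pow, hu3, mul_one, ← Units.val_mul, mul_inv_cancel, Units.val_one]
    obtain ⟨P, hP⟩ := hall x ⟨1, by rw [coe_cube, hx, hX3, one_smul]⟩ (fun z hz => by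
      rw [hx, hX] at hz
      have h : u₀ = z • 1 := by
        have h' := congrArg (fun A => ((D⁻¹ : GL (Fin (m + m)) F) : Matrix (Fin (m + m)) (Fin (m + m)) F) * A *
          (D : Matrix (Fin (m + m)) (Fin (m + m)) F)) hz
        simpa [mul_assoc] using h'
      have h1 := congrFun (congrFun h (e (.inr ⟨0, by omega⟩))) (e (.inl ⟨0, by omega⟩))
      rw [hu₀b] at h1
      simp [e.injective.eq_iff] at h1)
    rw [Subgroup.mem_comap, map_mul, map_mul, map_inv, InvolSubfield.subfieldSubgroup_one] at hP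
    haveI : (Cfsg.Geo.scalars (Fin (m + m)) F).Normal := ⟨by
      rintro _ ⟨a, rfl⟩ b
      have e : Commute b (Units.map (Matrix.scalar (Fin (m + m)) : F →+* Matrix (Fin (m + m)) (Fin (m + m)) F).toMonoidHom a) := by
        refine Units.ext ?_
        simp only [Units.val_mul, Units.coe_map]
        exact (Matrix.scalar_commute _ (fun r => Commute.all _ r) _).symm.eq
      rw [e.eq, mul_inv_cancel_right]
      exact ⟨a, rfl⟩⟩
    rw [Subgroup.mem_sup_of_normal_right] at hP
    obtain ⟨_, ⟨g₀, rfl⟩, _, ⟨a, rfl⟩, hP⟩ := hP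
    obtain ⟨G, hG⟩ : ∃ G, G = SpecialLinearGroup.toGL P := ⟨_, rfl⟩
    rw [← hG] at hP
    have hav : ((Units.map (Matrix.scalar (Fin (m + m)) : F →+* Matrix (Fin (m + m)) (Fin (m + m)) F).toMonoidHom a : GL (Fin (m + m)) F) :
        Matrix (Fin (m + m)) (Fin (m + m)) F) = (a : F) • 1 := by rw [Matrix.smul_one_eq_diagonal]; rfl
    obtain ⟨T, hT⟩ : ∃ T : GL (Fin (m + m)) F, T = D⁻¹ * G := ⟨_, rfl⟩
    have hTu : ((T⁻¹ : GL (Fin (m + m)) F) : Matrix (Fin (m + m)) (Fin (m + m)) F) * u₀ * T =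
        (a : F) • (Matrix.GeneralLinearGroup.map (F₀.subtype : F₀ →+* F) g₀ : Matrix (Fin (m + m)) (Fin (m + m)) F) := by
      have h := congrArg Units.val hP
      rw [Units.val_mul, Units.val_mul, Units.val_mul, hav, mul_smul_comm, mul_one,
        show (SpecialLinearGroup.toGL x : Matrix (Fin (m + m)) (Fin (m + m)) F) = x from rfl, hx, hX] at h
      rw [h, hT, _root_.mul_inv_rev, inv_inv]
      simp only [Units.val_mul, mul_assoc]
    have hab : ∃ b : F₀, (b : F) = a := by
      have h : ((T⁻¹ : GL (Fin (m + m)) F) : Matrix (Fin (m + m)) (Fin (m + m)) F) * u₀ ^ 3 * T =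
          ((a : F) ^ 3) • (Matrix.GeneralLinearGroup.map (F₀.subtype : F₀ →+* F) (g₀ ^ 3) :
            Matrix (Fin (m + m)) (Fin (m + m)) F) := by
        rw [← Units.conj_pow', hTu, _root_.smul_pow, map_pow, Units.val_pow_eq_pow_val]
      rw [hu3, mul_one, ← Units.val_mul, inv_mul_cancel, Units.val_one] at h
      obtain ⟨c, hc⟩ : ∃ c : F₀, (c : F) * (a : F) ^ 3 = 1 :=
        ⟨((g₀ ^ 3 : GL (Fin (m + m)) F₀) : Matrix (Fin (m + m)) (Fin (m + m)) F₀) ⟨0, by omega⟩ ⟨0, by omega⟩, by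
          have h' := congrFun (congrFun h ⟨0, by omega⟩) ⟨0, by omega⟩
          simp only [Matrix.one_apply_eq, Matrix.smul_apply, Matrix.GeneralLinearGroup.map_apply, smul_eq_mul] at h'
          rw [mul_comm]; exact h'.symm⟩
      obtain ⟨b, hb⟩ := (cube_bij (F := F₀)).2 c
      refine ⟨b⁻¹, (cube_bij (F := F)).1 ?_⟩
      show ((b⁻¹ : F₀) : F) ^ 3 = (a : F) ^ 3
      rw [← SubmonoidClass.coe_pow, _root_.inv_pow, show b ^ 3 = c from hb]
      push_cast
      exact inv_eq_of_mul_eq_one_right hc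
    obtain ⟨b, hb⟩ := hab
    obtain ⟨N₀, hN₀⟩ : ∃ N₀, N₀ = b • (g₀ : Matrix (Fin (m + m)) (Fin (m + m)) F₀) - 1 := ⟨_, rfl⟩
    obtain ⟨φ, hφ⟩ : ∃ φ : F₀ →+* F, φ = F₀.subtype := ⟨_, rfl⟩
    have hmapN : N₀.map φ = ((T⁻¹ : GL (Fin (m + m)) F) : Matrix (Fin (m + m)) (Fin (m + m)) F) * pairNil F e * T := by
      have h1 : ((T⁻¹ : GL (Fin (m + m)) F) : Matrix (Fin (m + m)) (Fin (m + m)) F) * u₀ * T =
          1 + ((T⁻¹ : GL (Fin (m + m)) F) : Matrix (Fin (m + m)) (Fin (m + m)) F) * pairNil F e * T := by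
        rw [hu₀, mul_add, mul_one, add_mul, ← Units.val_mul, inv_mul_cancel, Units.val_one]
      rw [hTu] at h1
      rw [hN₀, Matrix.map_sub φ (map_sub φ), Matrix.map_one φ (map_zero φ) (map_one φ), sub_eq_iff_eq_add', ← h1]
      ext i j
      simp [hφ, ← hb]
    have hN₀2 : N₀ * N₀ = 0 := by
      refine Matrix.map_injective φ.injective ?_
      show (N₀ * N₀).map φ = (0 : Matrix (Fin (m + m)) (Fin (m + m)) F₀).map φ
      rw [Matrix.map_mul, hmapN, Matrix.map_zero φ (map_zero φ)]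
      simp only [mul_assoc, Units.mul_inv_cancel_left]
      rw [← mul_assoc (pairNil F e), hN2, zero_mul, mul_zero]
    have hker : ∀ v, N₀ *ᵥ v = 0 → ∃ u, N₀ *ᵥ u = v := by
      intro v hv
      have hv' : N₀.map φ *ᵥ (φ ∘ v) = 0 := by
        funext i
        rw [← RingHom.map_mulVec, hv]
        simp
      rw [hmapN, ← mulVec_mulVec, ← mulVec_mulVec] at hv'
      have hv'' : pairNil F e *ᵥ ((T : Matrix (Fin (m + m)) (Fin (m + m)) F) *ᵥ (φ ∘ v)) = 0 := by
        have := congrArg ((T : Matrix (Fin (m + m)) (Fin (m + m)) F) *ᵥ ·) hv'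
        simpa [mulVec_mulVec, ← Units.val_mul] using this
      obtain ⟨w, hw⟩ : ∃ w, pairNil F e *ᵥ w = (T : Matrix (Fin (m + m)) (Fin (m + m)) F) *ᵥ (φ ∘ v) := by
        obtain ⟨y, hy⟩ : ∃ y, y = (T : Matrix (Fin (m + m)) (Fin (m + m)) F) *ᵥ (φ ∘ v) := ⟨_, rfl⟩
        rw [← hy] at hv'' ⊢
        refine ⟨Sum.elim (y ∘ e ∘ Sum.inr) 0 ∘ e.symm, ?_⟩
        funext l
        obtain ⟨l, rfl⟩ := e.surjective l
        rw [pairNil, Matrix.reindex_apply, Matrix.submatrix_mulVec_equiv, Equiv.symm_symm]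
        rcases l with l | l
        · have := congrFun hv'' (e (.inr l))
          rw [pairNil, Matrix.reindex_apply, Matrix.submatrix_mulVec_equiv, Equiv.symm_symm] at this
          simp [fromBlocks_mulVec, Function.comp_def] at this ⊢
          exact this.symm
        · simp [fromBlocks_mulVec, Function.comp_def]
      obtain ⟨w', hw'⟩ : ∃ w', N₀.map φ *ᵥ w' = φ ∘ v := by
        refine ⟨((T⁻¹ : GL (Fin (m + m)) F) : Matrix (Fin (m + m)) (Fin (m + m)) F) *ᵥ w, ?_⟩
        rw [hmapN, mulVec_mulVec, mul_assoc, ← Units.val_mul, mul_inv_cancel, Units.val_one, mul_one, ← mulVec_mulVec,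
          hw, mulVec_mulVec, ← Units.val_mul, inv_mul_cancel, Units.val_one, one_mulVec]
      obtain ⟨π, hπ⟩ := LinearMap.exists_leftInverse_of_injective (Algebra.linearMap F₀ F)
        (LinearMap.ker_eq_bot.2 (algebraMap F₀ F).injective)
      refine ⟨π ∘ w', funext fun i => ?_⟩
      have h := congrArg π (congrFun hw' i)
      have hπ' : ∀ c : F₀, π (φ c) = c := fun c => by
        rw [hφ]
        exact LinearMap.congr_fun hπ c
      rw [Function.comp_apply, hπ'] at h
      rw [← h]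
      simp only [Matrix.mulVec, dotProduct, Matrix.map_apply, map_sum, Function.comp_apply, hφ]
      refine Finset.sum_congr rfl fun j _ => ?_
      rw [show (F₀.subtype (N₀ i j)) * w' j = N₀ i j • w' j from rfl, map_smul, smul_eq_mul]
    obtain ⟨Q₀, hQ₀⟩ := pairs_conj hN₀2 hker e
    obtain ⟨Q, hQ⟩ : ∃ Q, Q = Matrix.GeneralLinearGroup.map φ Q₀ := ⟨_, rfl⟩
    have hQv : (Q : Matrix (Fin (m + m)) (Fin (m + m)) F) = (Q₀ : Matrix (Fin (m + m)) (Fin (m + m)) F₀).map φ := by rw [hQ]; rfl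
    have hNQ : N₀.map φ * (Q : Matrix (Fin (m + m)) (Fin (m + m)) F) =
        (Q : Matrix (Fin (m + m)) (Fin (m + m)) F) * pairNil F e := by
      rw [hQv, ← Matrix.map_mul, hQ₀, Matrix.map_mul]
      congr 1
      ext i j
      simp [pairNil, fromBlocks, Matrix.one_apply]
      rcases e.symm i with a | a <;> rcases e.symm j with c | c <;> simp [Matrix.one_apply] <;> split_ifs <;> simp
    obtain ⟨S, hS⟩ : ∃ S : GL (Fin (m + m)) F, S = T * Q := ⟨_, rfl⟩
    have hSN : pairNil F e * (S : Matrix (Fin (m + m)) (Fin (m + m)) F) =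
        (S : Matrix (Fin (m + m)) (Fin (m + m)) F) * pairNil F e := by
      rw [hS, Units.val_mul, mul_assoc, ← hNQ, hmapN]
      simp only [← mul_assoc, Units.mul_inv, one_mul]
    obtain ⟨R, hR⟩ : ∃ R : Matrix (Fin m ⊕ Fin m) (Fin m ⊕ Fin m) F,
        (S : Matrix (Fin (m + m)) (Fin (m + m)) F) = Matrix.reindex e e R :=
      ⟨(Matrix.reindex e e).symm S, ((Matrix.reindex e e).apply_symm_apply _).symm⟩
    rw [hR, pairNil, Matrix.reindex_apply, Matrix.reindex_apply, Matrix.submatrix_mul_equiv,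
      Matrix.submatrix_mul_equiv] at hSN
    have hRN := (Matrix.reindex e e).injective (a₁ := fromBlocks 0 0 1 0 * R) (a₂ := R * fromBlocks 0 0 1 0) hSN
    rw [← fromBlocks_toBlocks R, fromBlocks_multiply, fromBlocks_multiply, fromBlocks_inj] at hRN
    simp at hRN
    have hdet : (Matrix.GeneralLinearGroup.det S : F) = R.toBlocks₁₁.det * R.toBlocks₁₁.det := by
      rw [Matrix.GeneralLinearGroup.val_det_apply, hR, Matrix.det_reindex_self]
      conv_lhs => rw [← fromBlocks_toBlocks R]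
      obtain ⟨-, h11, h12⟩ := hRN
      rw [h12, det_fromBlocks_zero₁₂, ← h11]
    rw [hS, hT, map_mul, map_mul, map_inv, hG, show Matrix.GeneralLinearGroup.det (SpecialLinearGroup.toGL P) = 1 from
      Units.ext (by simp), mul_one, Units.val_mul] at hdet
    obtain ⟨c, hc⟩ : ∃ c : F₀, (Matrix.GeneralLinearGroup.det Q : F) = c :=
      ⟨(Q₀ : Matrix (Fin (m + m)) (Fin (m + m)) F₀).det, by
        rw [Matrix.GeneralLinearGroup.val_det_apply, hQv, ← RingHom.mapMatrix_apply, ← RingHom.map_det, hφ]; rfl⟩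
    rw [hc, Units.val_inv_eq_inv_val, hDd] at hdet
    have hc0 : c ≠ 0 := fun h => (Matrix.GeneralLinearGroup.det Q).ne_zero (by rw [hc, h]; rfl)
    have hcsq : IsSquare (c : F) := by
      have hc0' : (c : F) ≠ 0 := fun h => hc0 (Subtype.ext h)
      refine (FiniteField.isSquare_iff hr hc0').2 ?_
      obtain ⟨j, hj⟩ := hodd0
      have hhalf : q / 2 = (q₀ - 1) * (j + 1) := by
        rw [hqk, hj, Nat.add_sub_cancel, show (2 * j + 1) ^ 2 = 2 * (2 * j * (j + 1)) + 1 by ring]
        omega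
      have h := FiniteField.pow_card_sub_one_eq_one c hc0
      rw [hF₀] at h
      rw [hq, hhalf, pow_mul, ← SubmonoidClass.coe_pow, h]
      simp
    obtain ⟨s, hs⟩ := hcsq
    obtain ⟨a', ha'⟩ : ∃ a', a' = R.toBlocks₁₁.det := ⟨_, rfl⟩
    rw [← ha'] at hdet
    refine ht ⟨s / a', ?_⟩
    have ha0 : a' ≠ 0 := fun h => by
      rw [h, mul_zero] at hdet
      exact mul_ne_zero (inv_ne_zero ht0) (fun h => hc0 (Subtype.ext h)) hdet
    field_simp at hdet ⊢
    linear_combination (-1 : F) * hdet + hs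
  · intro hcond x ⟨z, hz⟩ _
    rw [coe_cube] at hz
    obtain ⟨s, hs⟩ := (cube_bij (F := F)).2 z
    have hx0 : (x : Matrix (Fin n) (Fin n) F).det = 1 := x.2
    have hs0 : s ≠ 0 := by
      rintro rfl
      have h := congrArg Matrix.det hz
      rw [← hs, det_pow, hx0, one_pow] at h
      simp [show n ≠ 0 by omega] at h
    obtain ⟨N, hN⟩ : ∃ N, N = s⁻¹ • (x : Matrix (Fin n) (Fin n) F) - 1 := ⟨_, rfl⟩
    have hN3 : N ^ 3 = 0 := by
      rw [hN, sub_pow_char_of_commute 3 (Commute.one_right _), one_pow, _root_.smul_pow, hz, ← hs, smul_smul, _root_.inv_pow,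
        inv_mul_cancel₀ (pow_ne_zero 3 hs0), one_smul, sub_self]
    obtain ⟨P, M, hM, hPM⟩ := nilpotent_rational hN3
    -- centraliser determinants
    obtain ⟨C, g, hC, hCg⟩ : ∃ (C : GL (Fin n) F) (g : GL (Fin n) F₀), (C : Matrix (Fin n) (Fin n) F) * N = N * C ∧
        Matrix.GeneralLinearGroup.det C *
          Units.map (F₀.subtype : F₀ →+* F).toMonoidHom (Matrix.GeneralLinearGroup.det g) =
            (Matrix.GeneralLinearGroup.det P)⁻¹ := by
      obtain ⟨μ, hμ, hμs, -, hμU⟩ := exists_partition (N := Matrix.toLin' N) (X := ⊤) (fun _ _ => Submodule.mem_top)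
        (p := 3) (fun v _ => by rw [← Matrix.toLin'_pow, hN3]; simp)
      rw [finrank_top, Module.finrank_fin_fun] at hμs
      by_cases hodd' : ∃ a ∈ μ, a ≠ 2
      · obtain ⟨a, ha, ha2⟩ := hodd'
        obtain ⟨U, W, hU, hW, hi, hsup, hUd⟩ := hμU {a} (Multiset.singleton_le.2 ha)
        rw [Multiset.sum_singleton] at hUd
        obtain ⟨t, ht⟩ : ∃ t : Fˣ, t ^ a = (Matrix.GeneralLinearGroup.det P)⁻¹ := by
          rcases (show a = 1 ∨ a = 3 by have := hμ a ha; omega) with rfl | rfl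
          · exact ⟨_, pow_one _⟩
          · obtain ⟨t, ht⟩ := (cube_bij (F := F)).2 (((Matrix.GeneralLinearGroup.det P)⁻¹ : Fˣ) : F)
            have ht0 : t ≠ 0 := fun h => ((Matrix.GeneralLinearGroup.det P)⁻¹).ne_zero (by rw [← ht, h]; simp)
            exact ⟨Units.mk0 t ht0, Units.ext (by rw [Units.val_pow_eq_pow_val, Units.val_mk0]; exact ht)⟩
        obtain ⟨C, hC, hCd⟩ := scalar_det ⟨disjoint_iff.2 hi, codisjoint_iff.2 hsup⟩ hU hW hUd t
        exact ⟨C, 1, hC, by rw [hCd, ht, map_one, map_one, mul_one]⟩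
      · push Not at hodd'
        have hn2 : Even n := by
          rw [← hμs, Multiset.eq_replicate.2 ⟨rfl, hodd'⟩, Multiset.sum_replicate, smul_eq_mul]
          exact ⟨Multiset.card μ, by omega⟩
        have hk2 : Odd k := by
          rcases hcond with h | ⟨-, h⟩
          · exact absurd hn2 (Nat.not_even_iff_odd.2 h)
          · exact hk.odd_of_ne_two (by omega)
        obtain ⟨c, hc⟩ := FiniteField.exists_nonsquare (F := F₀) (by rw [ringChar.eq F₀ 3]; omega)
        have hc0 : c ≠ 0 := fun h => hc (h ▸ IsSquare.zero)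
        have hc0' : (c : F) ≠ 0 := fun h => hc0 (Subtype.ext h)
        have hcF : ¬ IsSquare (c : F) := by
          intro h
          rw [FiniteField.isSquare_iff hr hc0', hq] at h
          obtain ⟨O, hO, hOe⟩ := InvolSubfield.geom_odd hodd0 k hk2
          have h0 : c ^ (q₀ / 2) = -1 := by
            rw [← hF₀]
            refine (FiniteField.pow_dichotomy (by rw [ringChar.eq F₀ 3]; omega) hc0).resolve_left fun h1 => hc ?_
            exact (FiniteField.isSquare_iff (by rw [ringChar.eq F₀ 3]; omega) hc0).2 h1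
          have hhalf : q / 2 = q₀ / 2 * O := by
            rw [← hqk] at hOe
            obtain ⟨j, hj⟩ := hodd0
            obtain ⟨l, hl⟩ := hodd
            rw [hj, Nat.add_sub_cancel, hl, Nat.add_sub_cancel] at hOe
            rw [hl, hj, show (2 * l + 1) / 2 = l by omega, show (2 * j + 1) / 2 = j by omega]
            linarith
          rw [hhalf, pow_mul, ← SubmonoidClass.coe_pow, h0] at h
          push_cast at h
          rw [hO.neg_one_pow] at h
          exact h2 (by linear_combination -h)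
        have hμ2 : ({2} : Multiset ℕ) ≤ μ := by
          refine Multiset.singleton_le.2 ?_
          rcases Multiset.empty_or_exists_mem μ with rfl | ⟨a, ha⟩
          · simp at hμs; omega
          · exact hodd' a ha ▸ ha
        obtain ⟨U, W, hU, hW, hi, hsup, hUd⟩ := hμU {2} hμ2
        rw [Multiset.sum_singleton] at hUd
        obtain ⟨d, hd⟩ : ∃ d : Fˣ, d = (Matrix.GeneralLinearGroup.det P)⁻¹ := ⟨_, rfl⟩
        rw [← hd]
        by_cases hdsq : IsSquare (d : F)
        · obtain ⟨t, ht⟩ := hdsq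
          have ht0 : t ≠ 0 := fun h => d.ne_zero (by rw [ht, h, mul_zero])
          obtain ⟨C, hC, hCd⟩ := scalar_det ⟨disjoint_iff.2 hi, codisjoint_iff.2 hsup⟩ hU hW hUd (Units.mk0 t ht0)
          exact ⟨C, 1, hC, by rw [hCd, map_one, map_one, mul_one]; exact Units.ext (by simp [ht, sq])⟩
        · obtain ⟨t, ht⟩ : IsSquare ((d : F) / c) := by
            rw [FiniteField.isSquare_iff hr (div_ne_zero d.ne_zero hc0'), div_pow,
              (FiniteField.pow_dichotomy hr d.ne_zero).resolve_left (mt (FiniteField.isSquare_iff hr d.ne_zero).2 hdsq),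
              (FiniteField.pow_dichotomy hr hc0').resolve_left (mt (FiniteField.isSquare_iff hr hc0').2 hcF)]
            simp
          have ht0 : t ≠ 0 := fun h => div_ne_zero d.ne_zero hc0' (by rw [ht, h, mul_zero])
          obtain ⟨C, hC, hCd⟩ := scalar_det ⟨disjoint_iff.2 hi, codisjoint_iff.2 hsup⟩ hU hW hUd (Units.mk0 t ht0)
          refine ⟨C, CfsgLib.Classical22.Monomial.diagGL (Function.update 1 ⟨0, by omega⟩ (Units.mk0 c hc0)), hC,
            Units.ext ?_⟩
          rw [hCd]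
          simp only [Units.val_mul, Units.val_pow_eq_pow_val, Units.val_mk0, Units.coe_map,
            RingHom.toMonoidHom_eq_coe, MonoidHom.coe_coe, Matrix.GeneralLinearGroup.val_det_apply,
            CfsgLib.Classical22.Monomial.det_diag]
          rw [Finset.prod_eq_single ⟨0, by omega⟩]
          · rw [Function.update_self, Units.val_mk0, sq, ← ht]
            exact div_mul_cancel₀ _ hc0'
          · intro i _ hi; simp [Function.update_of_ne hi]
          · simp
    -- the conjugate lies in the subfield subgroup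
    obtain ⟨M₀, hM₀⟩ : ∃ M₀ : Matrix (Fin n) (Fin n) F₀, M₀.map (F₀.subtype : F₀ →+* F) = M := by
      refine ⟨Matrix.of fun i j => if M i j = 0 then 0 else 1, ?_⟩
      ext i j
      rcases hM i j with h | h <;> simp [h]
    have hxP : (x : Matrix (Fin n) (Fin n) F) * (P : Matrix (Fin n) (Fin n) F) =
        (P : Matrix (Fin n) (Fin n) F) * (s • (1 + M₀).map (F₀.subtype : F₀ →+* F)) := by
      have hx' : (x : Matrix (Fin n) (Fin n) F) = s • (1 + N) := by
        rw [hN, add_sub_cancel, smul_smul, mul_inv_cancel₀ hs0, one_smul]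
      rw [Matrix.map_add _ (map_add _), hM₀, Matrix.map_one _ (map_zero _) (map_one _), mul_smul_comm, mul_add, mul_one,
        ← hPM, hx', smul_mul_assoc, add_mul, one_mul]
    have hdetP : ((C * P * Matrix.GeneralLinearGroup.map (F₀.subtype : F₀ →+* F) g : GL (Fin n) F) :
        Matrix (Fin n) (Fin n) F).det = 1 := by
      have e : Matrix.GeneralLinearGroup.det (Matrix.GeneralLinearGroup.map (F₀.subtype : F₀ →+* F) g) =
          Units.map (F₀.subtype : F₀ →+* F).toMonoidHom (Matrix.GeneralLinearGroup.det g) := by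
        refine Units.ext ?_
        rw [Matrix.GeneralLinearGroup.val_det_apply, Units.coe_map]
        exact (RingHom.map_det _ _).symm
      rw [← Matrix.GeneralLinearGroup.val_det_apply, map_mul, map_mul, e, mul_right_comm, hCg, inv_mul_cancel,
        Units.val_one]
    obtain ⟨P', hP'⟩ : ∃ P' : SpecialLinearGroup (Fin n) F,
        SpecialLinearGroup.toGL P' = C * P * Matrix.GeneralLinearGroup.map (F₀.subtype : F₀ →+* F) g :=
      ⟨⟨_, hdetP⟩, Units.ext rfl⟩
    refine ⟨P', ?_⟩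
    rw [Subgroup.mem_comap, map_mul, map_mul, map_inv, hP', InvolSubfield.subfieldSubgroup_one]
    have hgm : Matrix.GeneralLinearGroup.map (F₀.subtype : F₀ →+* F) g ∈
        (Matrix.GeneralLinearGroup.map (n := Fin n) (F₀.subtype : F₀ →+* F)).range ⊔ Cfsg.Geo.scalars (Fin n) F :=
      Subgroup.mem_sup_left ⟨g, rfl⟩
    rw [show (C * P * Matrix.GeneralLinearGroup.map (F₀.subtype : F₀ →+* F) g)⁻¹ * SpecialLinearGroup.toGL x *
        (C * P * Matrix.GeneralLinearGroup.map (F₀.subtype : F₀ →+* F) g) =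
      (Matrix.GeneralLinearGroup.map (F₀.subtype : F₀ →+* F) g)⁻¹ * (P⁻¹ * (C⁻¹ * SpecialLinearGroup.toGL x * C) * P) *
        Matrix.GeneralLinearGroup.map (F₀.subtype : F₀ →+* F) g by group]
    refine Subgroup.mul_mem _ (Subgroup.mul_mem _ (Subgroup.inv_mem _ hgm) ?_) hgm
    have hCx : C⁻¹ * SpecialLinearGroup.toGL x * C = SpecialLinearGroup.toGL x := by
      rw [mul_assoc, inv_mul_eq_iff_eq_mul]
      refine Units.ext ?_
      rw [Units.val_mul, Units.val_mul]
      show (x : Matrix (Fin n) (Fin n) F) * (C : Matrix (Fin n) (Fin n) F) = C * (x : Matrix (Fin n) (Fin n) F)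
      have hx' : (x : Matrix (Fin n) (Fin n) F) = s • (1 + N) := by
        rw [hN, add_sub_cancel, smul_smul, mul_inv_cancel₀ hs0, one_smul]
      rw [hx', smul_mul_assoc, mul_smul_comm, mul_add, add_mul, mul_one, one_mul, hC]
    rw [hCx]
    have hM3 : M₀ ^ 3 = 0 := by
      refine Matrix.map_injective F₀.subtype.injective ?_
      show (M₀ ^ 3).map (F₀.subtype : F₀ →+* F) = (0 : Matrix _ _ F₀).map (F₀.subtype : F₀ →+* F)
      rw [Matrix.map_pow, hM₀, Matrix.map_zero _ (map_zero _)]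
      have hM' : M = ((P⁻¹ : GL (Fin n) F) : Matrix (Fin n) (Fin n) F) * N * P := by
        rw [mul_assoc, hPM, Units.inv_mul_cancel_left]
      rw [hM', Units.conj_pow', hN3]
      simp
    obtain ⟨g₀, hg₀⟩ : ∃ g₀ : GL (Fin n) F₀, (g₀ : Matrix (Fin n) (Fin n) F₀) = 1 + M₀ :=
      ⟨(Units.ofPowEqOne (1 + M₀) 3 (by
        rw [add_pow_char_of_commute 3 (Commute.one_left _), one_pow, hM3, add_zero]) (by norm_num)), rfl⟩
    have : P⁻¹ * SpecialLinearGroup.toGL x * P = Matrix.GeneralLinearGroup.map (F₀.subtype : F₀ →+* F) g₀ *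
        Units.map (Matrix.scalar (Fin n) : F →+* Matrix (Fin n) (Fin n) F).toMonoidHom (Units.mk0 s hs0) := by
      rw [mul_assoc, inv_mul_eq_iff_eq_mul]
      refine Units.ext ?_
      rw [Units.val_mul, Units.val_mul, Units.val_mul]
      show (x : Matrix (Fin n) (Fin n) F) * (P : Matrix (Fin n) (Fin n) F) = P * ((g₀ : Matrix (Fin n) (Fin n) F₀).map
        (F₀.subtype : F₀ →+* F) * Matrix.scalar (Fin n) s)
      rw [hxP, hg₀, Matrix.scalar_apply, ← Matrix.smul_one_eq_diagonal, mul_smul_comm _ (_ : Matrix _ _ F) (1 : Matrix _ _ F),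
        mul_one]
    rw [this]
    exact Subgroup.mul_mem_sup ⟨_, rfl⟩ ⟨_, rfl⟩

end CfsgLib.Classical22.UnipotentSubfield
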