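import Mathlib

set_option autoImplicit false

/-!
# Stabilisers of uniform partitions are maximal in the symmetric group
-/

namespace CfsgLib.Classical22

open Equiv

variable {Ω β : Type*}

/-- The permutations preserving the fibres of `f`. -/
def blockStab (f : Ω → β) : Subgroup (Perm Ω) where
  carrier := {g | ∀ x y, f x = f y ↔ f (g x) = f (g y)}
  one_mem' := fun _ _ => Iff.rfl
  mul_mem' := fun {g h} hg hh x y => (hh x y).trans (hg (h x) (h y))
  inv_mem' := fun {g} hg x y => by simpa using (hg (g⁻¹ x) (g⁻¹ y)).symm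

theorem mem_blockStab {f : Ω → β} {g : Perm Ω} : g ∈ blockStab f ↔ ∀ x y, f x = f y ↔ f (g x) = f (g y) := Iff.rfl

theorem closure_eq_blockStab (f : Ω → β) :
    Subgroup.closure {g : Perm Ω | ∀ x y : Ω, f x = f y ↔ f (g x) = f (g y)} = blockStab f :=
  Subgroup.closure_eq (blockStab f)

/-- Any permutation of blocks of equal size lifts. -/
theorem exists_lift [Finite Ω] {f : Ω → β} {a : ℕ} (hf : ∀ i, Nat.card {x : Ω // f x = i} = a) (σ : Perm β) :
    ∃ g ∈ blockStab f, ∀ x, f (g x) = σ (f x) := by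
  have e : ∀ i, {x : Ω // f x = i} ≃ {x : Ω // f x = σ i} := fun i =>
    Classical.choice (Finite.card_eq.mp ((hf i).trans (hf (σ i)).symm))
  let g : Perm Ω := (sigmaFiberEquiv f).symm.trans ((Equiv.sigmaCongr σ e).trans (sigmaFiberEquiv f))
  have hg : ∀ x, f (g x) = σ (f x) := fun x => (e (f x) ⟨x, rfl⟩).2
  exact ⟨g, fun x y => by rw [hg, hg, σ.apply_eq_iff_eq], hg⟩

theorem swap_mem_blockStab [DecidableEq Ω] {f : Ω → β} {x y : Ω} (h : f x = f y) : swap x y ∈ blockStab f := by
  have h' : ∀ z, f (swap x y z) = f z := fun z => by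
    rcases eq_or_ne z x with rfl | hx
    · rw [swap_apply_left, h]
    · rcases eq_or_ne z y with rfl | hy
      · rw [swap_apply_right, h]
      · rw [swap_apply_of_ne_of_ne hx hy]
  intro u v; rw [h', h']

/-- The stabiliser of a uniform partition is maximal. -/
theorem isCoatom_blockStab [Finite Ω] {f : Ω → β} {a : ℕ} (ha : 2 ≤ a)
    (hf : ∀ i, Nat.card {x : Ω // f x = i} = a) (hβ : ∃ i j : β, i ≠ j) : IsCoatom (blockStab f) := by
  classical
  have hsurj : ∀ i, ∃ x, f x = i := fun i => by
    obtain ⟨⟨x, hx⟩⟩ := (Nat.card_pos_iff.mp (by rw [hf i]; omega : 0 < Nat.card {x : Ω // f x = i})).1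
    exact ⟨x, hx⟩
  refine ⟨fun h => ?_, fun K hK => ?_⟩
  · obtain ⟨i, j, hij⟩ := hβ
    obtain ⟨y, hy⟩ := hsurj j
    haveI : Nontrivial {x : Ω // f x = i} := Finite.one_lt_card_iff_nontrivial.mp (by rw [hf i]; omega)
    obtain ⟨⟨x, hx⟩, ⟨z, hz⟩, hxz⟩ := exists_pair_ne {x : Ω // f x = i}
    have h1 := (mem_blockStab.mp (h ▸ Subgroup.mem_top (swap x y)) x z).mp (hx.trans hz.symm)
    rw [swap_apply_left, swap_apply_of_ne_of_ne (fun e => hxz (Subtype.ext e.symm)) (fun e => hij (hz.symm.trans ((congrArg f e).trans hy)))] at h1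
    exact hij (hz.symm.trans (h1.symm.trans hy))
  obtain ⟨g, hgK, hg⟩ := SetLike.exists_of_lt hK
  -- a transposition across two blocks
  obtain ⟨u, v, huv, hsw⟩ : ∃ u v, f u ≠ f v ∧ swap u v ∈ K := by
    simp only [mem_blockStab, not_forall] at hg
    obtain ⟨x, y, hxy⟩ := hg
    by_cases h : f x = f y
    · refine ⟨g x, g y, fun h' => hxy (iff_of_true h h'), ?_⟩
      rw [swap_apply_apply]
      exact K.mul_mem (K.mul_mem hgK (hK.le (swap_mem_blockStab h))) (K.inv_mem hgK)
    · have h' : f (g x) = f (g y) := by by_contra h'; exact hxy (iff_of_false h h')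
      refine ⟨x, y, h, ?_⟩
      have e : swap x y = g⁻¹ * swap (g x) (g y) * g := by rw [swap_apply_apply]; group
      rw [e]
      exact K.mul_mem (K.mul_mem (K.inv_mem hgK) (hK.le (swap_mem_blockStab h'))) hgK
  have hsame : ∀ p q, f p = f q → swap p q ∈ K := fun p q h => hK.le (swap_mem_blockStab h)
  -- the same two blocks
  have hpair : ∀ {u v : Ω}, f u ≠ f v → swap u v ∈ K → ∀ p q, f p = f u → f q = f v → swap p q ∈ K := by
    intro u v huv hsw p q hp hq
    have h1 : swap p v ∈ K := by
      rcases eq_or_ne p u with rfl | hpu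
      · exact hsw
      have h := K.mul_mem (K.mul_mem (hsame p u hp) hsw) (hsame p u hp)
      have e : swap p u * swap u v * swap p u = swap p v := by
        conv_lhs => arg 2; rw [← swap_inv p u]
        rw [← swap_apply_apply, swap_apply_right, swap_apply_of_ne_of_ne (fun e => huv (by rw [e, hp])) (fun e => huv (by rw [e]))]
      rwa [e] at h
    rcases eq_or_ne q v with rfl | hqv
    · exact h1
    have h := K.mul_mem (K.mul_mem (hsame q v hq) h1) (hsame q v hq)
    have e : swap q v * swap p v * swap q v = swap p q := by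
      conv_lhs => arg 2; rw [← swap_inv q v]
      rw [← swap_apply_apply, swap_apply_of_ne_of_ne (fun e => huv (by rw [← hp, e, hq])) (fun e => huv (by rw [← hp, e])), swap_apply_right]
    rwa [e] at h
  rw [eq_top_iff, ← Perm.closure_isSwap, Subgroup.closure_le]
  rintro _ ⟨p, q, hpq, rfl⟩
  by_cases h : f p = f q
  · exact hsame p q h
  -- move the pair of blocks
  let σ : Perm β := (swap (f u) (f p)).trans (swap (swap (f u) (f p) (f v)) (f q))
  have hne : f p ≠ swap (f u) (f p) (f v) := fun e => huv ((swap (f u) (f p)).injective (by rw [swap_apply_left]; exact e))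
  have hσu : σ (f u) = f p := by
    change swap _ _ (swap (f u) (f p) (f u)) = f p
    rw [swap_apply_left, swap_apply_of_ne_of_ne hne h]
  have hσv : σ (f v) = f q := swap_apply_left _ _
  obtain ⟨k, hk, hkf⟩ := exists_lift hf σ
  refine hpair (u := k u) (v := k v) (by rw [hkf, hkf, hσu, hσv]; exact h) ?_ p q (by rw [hkf, hσu]) (by rw [hkf, hσv])
  rw [swap_apply_apply]
  exact K.mul_mem (K.mul_mem (hK.le hk) hsw) (K.inv_mem (hK.le hk))

end CfsgLib.Classical22
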