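import Cfsg.Agent.Lib.Classical22.Wreath

set_option autoImplicit false

/-!
# Uniform partition stabilisers are maximal in the alternating group (`n ≠ 8`)
-/

namespace CfsgLib.Classical22

open Equiv

variable {Ω β : Type*} [Fintype Ω] [DecidableEq Ω] [Fintype β] [DecidableEq β]

theorem apply_swap_same {f : Ω → β} {x y : Ω} (h : f x = f y) (z : Ω) : f (swap x y z) = f z := by
  rcases eq_or_ne z x with rfl | hx
  · rw [swap_apply_left, h]
  · rcases eq_or_ne z y with rfl | hy
    · rw [swap_apply_right, h]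
    · rw [swap_apply_of_ne_of_ne hx hy]

/-- A second point in each block, off a prescribed one. -/
theorem exists_fibre_ne {f : Ω → β} {a : ℕ} (ha : 2 ≤ a) (hf : ∀ i, Nat.card {x : Ω // f x = i} = a) (i : β) (x : Ω) :
    ∃ y, y ≠ x ∧ f y = i := by
  haveI : Nontrivial {x : Ω // f x = i} := Finite.one_lt_card_iff_nontrivial.mp (by rw [hf i]; omega)
  obtain ⟨u, v, huv⟩ := exists_pair_ne {x : Ω // f x = i}
  by_cases h : (u : Ω) = x
  · exact ⟨v, fun h' => huv (Subtype.ext (h.trans h'.symm)), v.2⟩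
  · exact ⟨u, h, u.2⟩

/-- Parity can be repaired inside one block without moving two prescribed points. -/
theorem exists_spare {f : Ω → β} {a b : ℕ} (ha : 2 ≤ a) (hb : 2 ≤ b) (hab : 5 ≤ a * b)
    (hf : ∀ i, Nat.card {x : Ω // f x = i} = a) (hcard : Fintype.card β = b) {x z : Ω} (hxz : f x ≠ f z) :
    ∃ u v, u ≠ v ∧ f u = f v ∧ u ≠ x ∧ u ≠ z ∧ v ≠ x ∧ v ≠ z := by
  by_cases hb3 : 3 ≤ b
  · obtain ⟨i, hi⟩ : ∃ i, i ∉ ({f x, f z} : Finset β) := by
      by_contra hcon; simp only [not_exists, not_not] at hcon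
      have := Finset.card_le_card (fun v (_ : v ∈ Finset.univ) => hcon v)
      rw [Finset.card_univ, hcard] at this
      exact absurd (this.trans Finset.card_le_two) (by omega)
    simp only [Finset.mem_insert, Finset.mem_singleton, not_or] at hi
    obtain ⟨u, -, hu⟩ := exists_fibre_ne ha hf i x
    obtain ⟨v, hv1, hv⟩ := exists_fibre_ne ha hf i u
    exact ⟨u, v, hv1.symm, hu.trans hv.symm, fun e => hi.1 (e ▸ hu).symm, fun e => hi.2 (e ▸ hu).symm,
      fun e => hi.1 (e ▸ hv).symm, fun e => hi.2 (e ▸ hv).symm⟩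
  · obtain ⟨u, hux, hu⟩ := exists_fibre_ne ha hf (f x) x
    have ha3 : 3 ≤ a := by interval_cases b; omega
    obtain ⟨v, hv, hvx, hvu⟩ : ∃ v, f v = f x ∧ v ≠ x ∧ v ≠ u := by
      by_contra hcon
      have hsub : (Finset.univ.filter fun v => f v = f x) ⊆ {x, u} := fun v hv => by
        simp only [Finset.mem_insert, Finset.mem_singleton]
        by_contra h; simp only [not_or] at h
        exact hcon ⟨v, (Finset.mem_filter.mp hv).2, h.1, h.2⟩
      have := Finset.card_le_card hsub
      rw [← Fintype.card_subtype, ← Nat.card_eq_fintype_card, hf] at this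
      exact absurd (this.trans Finset.card_le_two) (by omega)
    exact ⟨u, v, hvu.symm, hu.trans hv.symm, hux, fun e => hxz (e ▸ hu).symm, hvx, fun e => hxz (e ▸ hv).symm⟩

/-- An even lift of a block permutation fixing a point and moving another one as prescribed. -/
theorem exists_even_move {f : Ω → β} {a b : ℕ} (ha : 2 ≤ a) (hb : 2 ≤ b) (hab : 5 ≤ a * b)
    (hf : ∀ i, Nat.card {x : Ω // f x = i} = a) (hcard : Fintype.card β = b) {x y z : Ω} (hy : f y ≠ f x) (hz : f z ≠ f x) :
    ∃ g ∈ blockStab f ⊓ alternatingGroup Ω, g x = x ∧ g y = z := by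
  obtain ⟨g0, hg0, hg0f⟩ := exists_lift hf (swap (f y) (f z))
  have hxx : f (g0 x) = f x := by rw [hg0f, swap_apply_of_ne_of_ne hy.symm hz.symm]
  have hyz : f (g0 y) = f z := by rw [hg0f, swap_apply_left]
  let g1 := swap (g0 y) z * (swap (g0 x) x * g0)
  have hg1 : g1 ∈ blockStab f := mul_mem (swap_mem_blockStab hyz) (mul_mem (swap_mem_blockStab hxx) hg0)
  have h1x : g1 x = x := by
    simp only [g1, Perm.mul_apply, swap_apply_left]
    exact swap_apply_of_ne_of_ne (fun e => hz (by rw [← hyz, ← e])) (fun e => hz (e ▸ rfl))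
  have h1y : g1 y = z := by
    simp only [g1, Perm.mul_apply]
    rw [swap_apply_of_ne_of_ne (a := g0 x) (fun e => hy (congrArg f (g0.injective e))) (fun e => hz (by rw [← hyz, e])), swap_apply_left]
  rcases Int.units_eq_one_or (Perm.sign g1) with hs | hs
  · exact ⟨g1, ⟨hg1, hs⟩, h1x, h1y⟩
  · obtain ⟨u, v, huv, hf', hux, huz, hvx, hvz⟩ := exists_spare ha hb hab hf hcard hz.symm
    refine ⟨swap u v * g1, ⟨mul_mem (swap_mem_blockStab hf') hg1, ?_⟩, ?_, ?_⟩
    · show Perm.sign _ = 1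
      rw [map_mul, Perm.sign_swap huv, hs]; rfl
    · rw [Perm.mul_apply, h1x, swap_apply_of_ne_of_ne hux.symm hvx.symm]
    · rw [Perm.mul_apply, h1y, swap_apply_of_ne_of_ne huz.symm hvz.symm]

/-- Some even element moves any point anywhere. -/
theorem exists_even_trans {f : Ω → β} {a : ℕ} (ha : 2 ≤ a) (hf : ∀ i, Nat.card {x : Ω // f x = i} = a)
    (hβ : 2 ≤ Fintype.card β) (x y : Ω) : ∃ g ∈ blockStab f ⊓ alternatingGroup Ω, g x = y := by
  obtain ⟨g0, hg0, hg0f⟩ := exists_lift hf (swap (f x) (f y))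
  have hxy : f (g0 x) = f y := by rw [hg0f, swap_apply_left]
  let g1 := swap (g0 x) y * g0
  have hg1 : g1 ∈ blockStab f := mul_mem (swap_mem_blockStab hxy) hg0
  have h1 : g1 x = y := by simp [g1]
  rcases Int.units_eq_one_or (Perm.sign g1) with hs | hs
  · exact ⟨g1, ⟨hg1, hs⟩, h1⟩
  · obtain ⟨i, hi⟩ := Fintype.exists_ne_of_one_lt_card (by omega : 1 < Fintype.card β) (f y)
    obtain ⟨u, huy, hu⟩ := exists_fibre_ne ha hf i y
    obtain ⟨v, hv1, hv⟩ := exists_fibre_ne ha hf i u
    refine ⟨swap u v * g1, ⟨mul_mem (swap_mem_blockStab (hu.trans hv.symm)) hg1, ?_⟩, ?_⟩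
    · show Perm.sign _ = 1
      rw [map_mul, Perm.sign_swap hv1.symm, hs]; rfl
    · rw [Perm.mul_apply, h1, swap_apply_of_ne_of_ne huy.symm (fun e => hi (by rw [← hv, ← e]))]

/-- An overgroup inside `A_n` moving some block apart is primitive. -/
theorem isPreprimitive_over {f : Ω → β} {a b : ℕ} (ha : 2 ≤ a) (hb : 2 ≤ b) (hab : 5 ≤ a * b)
    (hf : ∀ i, Nat.card {x : Ω // f x = i} = a) (hcard : Fintype.card β = b) {K : Subgroup (Perm Ω)}
    (hle : blockStab f ⊓ alternatingGroup Ω ≤ K) {g : Perm Ω} (hgK : g ∈ K) {p q : Ω} (hpq : f p = f q)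
    (hg : f (g p) ≠ f (g q)) : MulAction.IsPreprimitive K Ω := by
  haveI : MulAction.IsPretransitive K Ω := ⟨fun x y => by
    obtain ⟨h, hh, he⟩ := exists_even_trans ha hf (by omega) x y
    exact ⟨⟨h, hle hh⟩, he⟩⟩
  refine ⟨fun {B} hB => ?_⟩
  have htr : ∀ (h : Perm Ω), h ∈ K → ∀ {x}, x ∈ B → h x ∈ B → ∀ {y}, y ∈ B → h y ∈ B := by
    intro h hh x hx hhx y hy
    have h' := hB.smul_eq_of_mem (g := (⟨h, hh⟩ : K)) hx hhx
    exact h' ▸ ⟨y, hy, rfl⟩
  by_cases hsub : B.Subsingleton
  · exact Or.inl hsub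
  rw [Set.not_subsingleton_iff] at hsub
  by_cases hout : ∃ x ∈ B, ∃ y ∈ B, f y ≠ f x
  · right
    obtain ⟨x, hx, y, hy, hxy⟩ := hout
    have hall : ∀ x ∈ B, ∀ y ∈ B, f y ≠ f x → ∀ z, f z ≠ f x → z ∈ B := by
      intro x hx y hy hxy z hz
      obtain ⟨h, hh, h1, h2⟩ := exists_even_move ha hb hab hf hcard hxy hz
      exact h2 ▸ htr h (hle hh) hx (h1.symm ▸ hx) hy
    refine Set.eq_univ_of_forall fun z => ?_
    by_cases hz : f z = f x
    · exact hall y hy x hx hxy.symm z (by rw [hz]; exact hxy.symm)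
    · exact hall x hx y hy hxy z hz
  exfalso
  simp only [not_exists, not_and, not_not] at hout
  obtain ⟨x, hx, y, hy, hxy⟩ := hsub
  -- `B` is a whole block
  have hfull : ∀ z, f z = f x → z ∈ B := by
    intro z hz
    by_cases hzx : z = x
    · exact hzx ▸ hx
    obtain ⟨i, hi⟩ := Fintype.exists_ne_of_one_lt_card (by omega : 1 < Fintype.card β) (f x)
    obtain ⟨u, -, hu⟩ := exists_fibre_ne ha hf i x
    obtain ⟨v, hv1, hv⟩ := exists_fibre_ne ha hf i u
    have hyx : f y = f x := hout x hx y hy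
    rcases eq_or_ne y z with rfl | hyz
    · exact hy
    have hmem : swap y z * swap u v ∈ K := hle ⟨mul_mem (swap_mem_blockStab (hyx.trans hz.symm)) (swap_mem_blockStab (hu.trans hv.symm)), by
      show Perm.sign _ = 1
      rw [map_mul, Perm.sign_swap hyz, Perm.sign_swap hv1.symm]; rfl⟩
    have hfix : (swap y z * swap u v) x = x := by
      rw [Perm.mul_apply, swap_apply_of_ne_of_ne (a := u) (fun e => hi (by rw [← hu, ← e])) (fun e => hi (by rw [← hv, ← e])),
        swap_apply_of_ne_of_ne hxy (Ne.symm hzx)]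
    have := htr _ hmem hx (hfix.symm ▸ hx) hy
    rwa [Perm.mul_apply, swap_apply_of_ne_of_ne (a := u) (fun e => hi (by rw [← hu, ← e, hyx])) (fun e => hi (by rw [← hv, ← e, hyx])),
      swap_apply_left] at this
  -- translates of `B` are the blocks, so `g` preserves the partition
  obtain ⟨h1, hh1, e1⟩ := exists_even_trans ha hf (by omega) x p
  obtain ⟨h2, hh2, e2⟩ := exists_even_trans ha hf (by omega) (g p) x
  obtain ⟨q', hq'⟩ : ∃ q', h1 q' = q := ⟨h1⁻¹ q, h1.apply_symm_apply q⟩
  have hq'B : q' ∈ B := hfull q' ((hh1.1 q' x).mpr (by rw [hq', e1, hpq]))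
  have hmem : h2 * g * h1 ∈ K := mul_mem (mul_mem (hle hh2) hgK) (hle hh1)
  have := htr _ hmem hx (by rw [Perm.mul_apply, Perm.mul_apply, e1, e2]; exact hx) hq'B
  rw [Perm.mul_apply, Perm.mul_apply, hq'] at this
  exact hg ((hh2.1 _ _).mpr (by rw [e2]; exact (hout x hx _ this).symm))

theorem isThreeCycle_of_swaps {u v w : Ω} (huv : u ≠ v) (huw : u ≠ w) (hvw : v ≠ w) :
    (swap u v * swap u w).IsThreeCycle := Perm.isThreeCycle_swap_mul_swap_same huv huw hvw

/-- With blocks of size two, a three-cycle appears. -/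
theorem exists_threeCycle_pairs {f : Ω → β} {b : ℕ} (hb : 3 ≤ b) (hb4 : b ≠ 4)
    (hf : ∀ i, Nat.card {x : Ω // f x = i} = 2) (hcard : Fintype.card β = b) {K : Subgroup (Perm Ω)}
    (hle : blockStab f ⊓ alternatingGroup Ω ≤ K) {g : Perm Ω} (hgK : g ∈ K) {x y : Ω} (hxy : f x = f y)
    (hg : f (g x) ≠ f (g y)) : ∃ t ∈ K, t.IsThreeCycle := by
  have hmate : ∀ {u v w : Ω}, f v = f u → f w = f u → v ≠ u → w ≠ u → v = w := by
    intro u v w hv hw hvu hwu
    by_contra hvw
    have hsub : ({u, v, w} : Finset Ω) ⊆ Finset.univ.filter fun z => f z = f u := by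
      intro z hz
      simp only [Finset.mem_insert, Finset.mem_singleton] at hz
      rcases hz with rfl | rfl | rfl <;> simp [hv, hw]
    have := Finset.card_le_card hsub
    rw [← Fintype.card_subtype, ← Nat.card_eq_fintype_card, hf] at this
    rw [Finset.card_insert_of_notMem (by simp [Ne.symm hvu, Ne.symm hwu]), Finset.card_pair hvw] at this
    omega
  have hflip : ∀ {u v w z : Ω}, f u = f v → f w = f z → u ≠ v → w ≠ z → swap u v * swap w z ∈ K := fun h1 h2 n1 n2 =>
    hle ⟨mul_mem (swap_mem_blockStab h1) (swap_mem_blockStab h2), by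
      show Perm.sign _ = 1
      rw [map_mul, Perm.sign_swap n1, Perm.sign_swap n2]; rfl⟩
  have hxne : x ≠ y := fun e => hg (e ▸ rfl)
  set p := g x
  set q := g y
  obtain ⟨p', hp'1, hp'⟩ := exists_fibre_ne le_rfl hf (f p) p
  obtain ⟨q', hq'1, hq'⟩ := exists_fibre_ne le_rfl hf (f q) q
  -- a second pair whose image is not `{p', q'}`
  obtain ⟨u, v, huv, hfuv, hfu, hgood⟩ : ∃ u v, u ≠ v ∧ f u = f v ∧ f u ≠ f x ∧ ¬ (g u = p' ∧ g v = q' ∨ g u = q' ∧ g v = p') := by
    obtain ⟨i, hi, j, hj, hij⟩ := (Finset.one_lt_card (s := (Finset.univ : Finset β).erase (f x))).mp (by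
      rw [Finset.card_erase_of_mem (Finset.mem_univ _), Finset.card_univ, hcard]; omega)
    obtain ⟨u, -, hu⟩ := exists_fibre_ne le_rfl hf i x
    obtain ⟨v, hv1, hv⟩ := exists_fibre_ne le_rfl hf i u
    by_cases hbad : g u = p' ∧ g v = q' ∨ g u = q' ∧ g v = p'
    · obtain ⟨u2, -, hu2⟩ := exists_fibre_ne le_rfl hf j x
      obtain ⟨v2, hv2', hv2⟩ := exists_fibre_ne le_rfl hf j u2
      refine ⟨u2, v2, hv2'.symm, hu2.trans hv2.symm, hu2 ▸ Finset.ne_of_mem_erase hj, fun h => hij ?_⟩
      have key : f u = f u2 := by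
        rcases hbad with ⟨a1, a2⟩ | ⟨a1, a2⟩ <;> rcases h with ⟨b1, b2⟩ | ⟨b1, b2⟩
        · rw [g.injective (a1.trans b1.symm)]
        · rw [g.injective (a1.trans b2.symm), hv2, hu2]
        · rw [g.injective (a1.trans b2.symm), hv2, hu2]
        · rw [g.injective (a1.trans b1.symm)]
      rwa [hu, hu2] at key
    · exact ⟨u, v, hv1.symm, hu.trans hv.symm, hu ▸ Finset.ne_of_mem_erase hi, hbad⟩
  set r := g u
  set s := g v
  have hrs : r ≠ s := g.injective.ne huv
  have hrp : r ≠ p := g.injective.ne fun e => hfu (e ▸ rfl)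
  have hrq : r ≠ q := g.injective.ne fun e => hfu (by rw [e, hxy])
  have hsp : s ≠ p := g.injective.ne fun e => hfu (by rw [hfuv, e])
  have hsq : s ≠ q := g.injective.ne fun e => hfu (by rw [hfuv, e, hxy])
  have he : swap p q * swap r s ∈ K := by
    have e : swap p q * swap r s = g * (swap x y * swap u v) * g⁻¹ := by
      rw [swap_apply_apply, swap_apply_apply]; group
    rw [e]; exact mul_mem (mul_mem hgK (hflip hxy hfuv hxne huv)) (inv_mem hgK)
  have hPQ : f p ≠ f q := hg
  have hpq : p ≠ q := fun e => hPQ (e ▸ rfl)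
  have hp'q : p' ≠ q := fun e => hPQ (by rw [← hp', e])
  have hq'p : q' ≠ p := fun e => hPQ (by rw [← hq', e])
  have hp'q' : p' ≠ q' := fun e => hPQ (by rw [← hp', e, hq'])
  -- swapping the blocks of `p` and `q`
  have hw : swap p q * swap p' q' ∈ K := by
    refine hle ⟨?_, ?_⟩
    · intro c d
      have key : ∀ c, f ((swap p q * swap p' q') c) = swap (f p) (f q) (f c) := by
        intro c
        rw [Perm.mul_apply]
        by_cases hcP : f c = f p
        · rw [hcP, swap_apply_left]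
          rcases eq_or_ne c p with rfl | hcp
          · rw [swap_apply_of_ne_of_ne hp'1.symm hq'p.symm, swap_apply_left]
          · rw [hmate hcP hp' hcp hp'1, swap_apply_left, swap_apply_of_ne_of_ne hq'p hq'1, hq']
        · by_cases hcQ : f c = f q
          · rw [hcQ, swap_apply_right]
            rcases eq_or_ne c q with rfl | hcq
            · rw [swap_apply_of_ne_of_ne hp'q.symm hq'1.symm, swap_apply_right]
            · rw [hmate hcQ hq' hcq hq'1, swap_apply_right, swap_apply_of_ne_of_ne hp'1 hp'q, hp']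
          · rw [swap_apply_of_ne_of_ne (a := p') (b := q') (x := c) (fun e => hcP ((congrArg f e).trans hp')) (fun e => hcQ ((congrArg f e).trans hq')),
              swap_apply_of_ne_of_ne (a := p) (b := q) (x := c) (fun e => hcP (congrArg f e)) (fun e => hcQ (congrArg f e)), swap_apply_of_ne_of_ne hcP hcQ]
      rw [key, key, (swap (f p) (f q)).apply_eq_iff_eq]
    · show Perm.sign _ = 1
      rw [map_mul, Perm.sign_swap hpq, Perm.sign_swap hp'q']; rfl
  have hdis : ∀ {i j k l : Ω}, i ≠ k → i ≠ l → j ≠ k → j ≠ l → swap i j * swap k l = swap k l * swap i j := by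
    intro i j k l a1 a2 a3 a4
    rw [mul_swap_eq_swap_mul, swap_apply_of_ne_of_ne a1.symm a3.symm, swap_apply_of_ne_of_ne a2.symm a4.symm]
  have hprod : swap p q * swap r s * (swap p q * swap p' q') = swap r s * swap p' q' := by
    rw [hdis hrp.symm hsp.symm hrq.symm hsq.symm, mul_assoc, ← mul_assoc (swap p q), swap_mul_self, one_mul]
  by_cases h1 : r = p' ∨ r = q' ∨ s = p' ∨ s = q'
  · -- exactly one common point
    refine ⟨swap r s * swap p' q', hprod ▸ mul_mem he hw, ?_⟩
    rcases h1 with h | h | h | h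
    · rw [h] at hgood hrs ⊢
      exact isThreeCycle_of_swaps hrs hp'q' (fun e => hgood (Or.inl ⟨rfl, e⟩))
    · rw [h] at hgood hrs ⊢
      rw [swap_comm p' q']
      exact isThreeCycle_of_swaps hrs hp'q'.symm (fun e => hgood (Or.inr ⟨rfl, e⟩))
    · rw [h] at hgood hrs ⊢
      rw [swap_comm r p']
      exact isThreeCycle_of_swaps hrs.symm hp'q' (fun e => hgood (Or.inr ⟨e, rfl⟩))
    · rw [h] at hgood hrs ⊢
      rw [swap_comm r q', swap_comm p' q']
      exact isThreeCycle_of_swaps hrs.symm hp'q'.symm (fun e => hgood (Or.inl ⟨e, rfl⟩))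
  simp only [not_or] at h1
  obtain ⟨hrp', hrq', hsp', hsq'⟩ := h1
  have hout : ∀ {z}, z ≠ p → z ≠ p' → z ≠ q → z ≠ q' → f z ≠ f p ∧ f z ≠ f q := fun a1 a2 a3 a4 =>
    ⟨fun e => a2 (hmate e hp' a1 hp'1), fun e => a4 (hmate e hq' a3 hq'1)⟩
  obtain ⟨hrP, hrQ⟩ := hout hrp hrp' hrq hrq'
  obtain ⟨hsP, hsQ⟩ := hout hsp hsp' hsq hsq'
  -- a block preserved by the conjugated element
  obtain ⟨c, c', hcc, hfc, hcP, hcQ, hpres⟩ : ∃ c c', c ≠ c' ∧ f c = f c' ∧ f c ≠ f p ∧ f c ≠ f q ∧
      ((c = r ∧ c' = s) ∨ (f c ≠ f r ∧ f c ≠ f s)) := by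
    by_cases hsame : f r = f s
    · exact ⟨r, s, hrs, hsame, hrP, hrQ, Or.inl ⟨rfl, rfl⟩⟩
    obtain ⟨i, hi⟩ : ∃ i, i ∉ ({f p, f q, f r, f s} : Finset β) := by
      have h4 : ({f p, f q, f r, f s} : Finset β).card = 4 := by
        rw [Finset.card_insert_of_notMem (by simp [hPQ, Ne.symm hrP, Ne.symm hsP]),
          Finset.card_insert_of_notMem (by simp [Ne.symm hrQ, Ne.symm hsQ]), Finset.card_pair hsame]
      have h4' := Finset.card_le_univ ({f p, f q, f r, f s} : Finset β)
      by_contra hcon; simp only [not_exists, not_not] at hcon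
      have := Finset.card_le_card (fun v (_ : v ∈ Finset.univ) => hcon v)
      rw [Finset.card_univ] at this
      omega
    simp only [Finset.mem_insert, Finset.mem_singleton, not_or] at hi
    obtain ⟨c, -, hc⟩ := exists_fibre_ne le_rfl hf i p
    obtain ⟨c', hc1, hc'⟩ := exists_fibre_ne le_rfl hf i c
    exact ⟨c, c', hc1.symm, hc.trans hc'.symm, hc ▸ hi.1, hc ▸ hi.2.1, Or.inr ⟨hc ▸ hi.2.2.1, hc ▸ hi.2.2.2⟩⟩
  set e := swap p q * swap r s
  have hep : e p = q := by
    simp only [e, Perm.mul_apply, swap_apply_of_ne_of_ne hrp.symm hsp.symm, swap_apply_left]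
  have hep' : e p' = p' := by
    simp only [e, Perm.mul_apply, swap_apply_of_ne_of_ne (Ne.symm hrp') (Ne.symm hsp'), swap_apply_of_ne_of_ne hp'1 hp'q]
  have hecc : swap (e c) (e c') = swap c c' := by
    rcases hpres with ⟨rfl, rfl⟩ | ⟨h1, h2⟩
    · have e1 : e r = s := by simp only [e, Perm.mul_apply, swap_apply_left, swap_apply_of_ne_of_ne hsp hsq]
      have e2 : e s = r := by simp only [e, Perm.mul_apply, swap_apply_right, swap_apply_of_ne_of_ne hrp hrq]
      rw [e1, e2, swap_comm]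
    · have e1 : e c = c := by
        simp only [e, Perm.mul_apply]
        rw [swap_apply_of_ne_of_ne (a := r) (fun z => h1 (z ▸ rfl)) (fun z => h2 (z ▸ rfl)), swap_apply_of_ne_of_ne (a := p) (b := q) (x := c) (fun z => hcP (congrArg f z)) (fun z => hcQ (congrArg f z))]
      have e2 : e c' = c' := by
        simp only [e, Perm.mul_apply]
        rw [swap_apply_of_ne_of_ne (a := r) (fun z => h1 (hfc.trans (z ▸ rfl))) (fun z => h2 (hfc.trans (z ▸ rfl))),
          swap_apply_of_ne_of_ne (a := p) (b := q) (x := c') (fun z => hcP (hfc.trans (congrArg f z))) (fun z => hcQ (hfc.trans (congrArg f z)))]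
      rw [e1, e2]
  refine ⟨swap q p' * swap p p', ?_, ?_⟩
  · have hT : swap p p' * swap c c' ∈ K := hflip hp'.symm hfc hp'1.symm hcc
    have key : e * (swap p p' * swap c c') * e⁻¹ = swap q p' * swap c c' := by
      have e3 : e * (swap p p' * swap c c') * e⁻¹ = (e * swap p p' * e⁻¹) * (e * swap c c' * e⁻¹) := by group
      rw [e3, ← swap_apply_apply, ← swap_apply_apply, hep, hep', hecc]
    have hcomm : swap c c' * swap p p' = swap p p' * swap c c' :=
      (hdis (fun z => hcP (z ▸ rfl)) (fun z => hcP (z ▸ hp'.symm ▸ rfl)) (fun z => hcP (hfc.trans (z ▸ rfl))) (fun z => hcP (hfc.trans (z ▸ hp'))))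
    have hfinal : swap q p' * swap p p' = e * (swap p p' * swap c c') * e⁻¹ * (swap p p' * swap c c') := by
      rw [key, mul_assoc, ← mul_assoc (swap c c'), hcomm, mul_assoc, swap_mul_self, mul_one]
    rw [hfinal]
    exact mul_mem (mul_mem (mul_mem he hT) (inv_mem he)) hT
  · rw [swap_comm q p', swap_comm p p']
    exact isThreeCycle_of_swaps hp'q hp'1 hpq.symm

/-- Uniform partition stabilisers are maximal in the alternating group. -/
theorem isCoatom_blockStab_alt {f : Ω → β} {a b : ℕ} (ha : 2 ≤ a) (hb : 2 ≤ b)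
    (hf : ∀ i, Nat.card {x : Ω // f x = i} = a) (hcard : Fintype.card β = b) (h8 : a * b ≠ 8) :
    IsCoatom ((blockStab f ⊓ alternatingGroup Ω).subgroupOf (alternatingGroup Ω)) := by
  have hn : Fintype.card Ω = a * b := by
    rw [← Fintype.card_congr (sigmaFiberEquiv f), Fintype.card_sigma,
      Finset.sum_congr rfl fun i _ => (Nat.card_eq_fintype_card (α := {x : Ω // f x = i})).symm.trans (hf i),
      Finset.sum_const, Finset.card_univ, hcard, smul_eq_mul, mul_comm]
  have hβ : 2 ≤ Fintype.card β := hcard ▸ hb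
  obtain ⟨i, j, hij⟩ : ∃ i j : β, i ≠ j := Fintype.exists_pair_of_one_lt_card (by omega)
  obtain ⟨x, y, hxy, hfxy⟩ : ∃ x y : Ω, x ≠ y ∧ f x = f y := by
    haveI : Nontrivial {x : Ω // f x = i} := Finite.one_lt_card_iff_nontrivial.mp (by rw [hf i]; omega)
    obtain ⟨u, v, huv⟩ := exists_pair_ne {x : Ω // f x = i}
    exact ⟨u, v, fun h => huv (Subtype.ext h), u.2.trans v.2.symm⟩
  obtain ⟨i', hi'⟩ := Fintype.exists_ne_of_one_lt_card (by omega : 1 < Fintype.card β) (f x)
  obtain ⟨z, hzx, hz⟩ := exists_fibre_ne ha hf i' x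
  have hfz : f z ≠ f x := hz ▸ hi'
  have hyz : y ≠ z := fun e => hfz (e ▸ hfxy.symm)
  have h3c : (swap x y * swap x z).IsThreeCycle := isThreeCycle_of_swaps hxy hzx.symm hyz
  refine ⟨fun h => ?_, fun L hL => ?_⟩
  · have h1 := (Subgroup.subgroupOf_eq_top.mp h h3c.mem_alternatingGroup).1
    have h2 := (h1 x y).mp hfxy
    rw [Perm.mul_apply, Perm.mul_apply, swap_apply_left, swap_apply_of_ne_of_ne hzx hyz.symm,
      swap_apply_of_ne_of_ne hxy.symm hyz, swap_apply_right] at h2
    exact hfz h2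
  obtain ⟨g0, hgL, hg0⟩ := SetLike.exists_of_lt hL
  set K := L.map (alternatingGroup Ω).subtype with hK
  have hle : blockStab f ⊓ alternatingGroup Ω ≤ K := fun h hh => ⟨⟨h, hh.2⟩, hL.le hh, rfl⟩
  have hgK : (g0 : Perm Ω) ∈ K := ⟨g0, hgL, rfl⟩
  suffices hA : alternatingGroup Ω ≤ K by
    rw [eq_top_iff]
    intro w _
    obtain ⟨w', hw', e⟩ := hA w.2
    exact (Subtype.ext e : w' = w) ▸ hw'
  -- an element separating some block
  obtain ⟨g, hg, p, q, hpq, hsep⟩ : ∃ g ∈ K, ∃ p q, f p = f q ∧ f (g p) ≠ f (g q) := by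
    have hg0' : (g0 : Perm Ω) ∉ blockStab f := fun h => hg0 ⟨h, g0.2⟩
    simp only [mem_blockStab, not_forall] at hg0'
    obtain ⟨u, v, huv⟩ := hg0'
    by_cases h : f u = f v
    · exact ⟨_, hgK, u, v, h, fun h' => huv (iff_of_true h h')⟩
    · have h' : f ((g0 : Perm Ω) u) = f ((g0 : Perm Ω) v) := by by_contra h'; exact huv (iff_of_false h h')
      exact ⟨_, inv_mem hgK, _, _, h', by simpa using h⟩
  rcases Nat.lt_or_ge (a * b) 5 with hsmall | hab
  · -- four points
    obtain ⟨rfl, rfl⟩ : a = 2 ∧ b = 2 := by constructor <;> nlinarith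
    haveI : Fact (Nat.Prime 3) := ⟨Nat.prime_three⟩
    haveI : Nontrivial Ω := Fintype.one_lt_card_iff_nontrivial.mp (by omega)
    have hA12 : Nat.card (alternatingGroup Ω) = 12 := by
      have h := (alternatingGroup Ω).card_mul_index
      rw [alternatingGroup.index_eq_two, Nat.card_perm, Nat.card_eq_fintype_card (α := Ω), hn] at h
      rw [show Nat.factorial (2 * 2) = 24 from rfl] at h
      omega
    have hKle : K ≤ alternatingGroup Ω := Subgroup.map_subtype_le L
    have h4 : 4 ∣ Nat.card K := by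
      haveI : MulAction.IsPretransitive K Ω := ⟨fun u v => by
        obtain ⟨h, hh, e⟩ := exists_even_trans ha hf hβ u v
        exact ⟨⟨h, hle hh⟩, e⟩⟩
      have h := (MulAction.stabilizer K x).index_dvd_card
      rwa [MulAction.index_stabilizer_of_transitive, Nat.card_eq_fintype_card (α := Ω), hn] at h
    have h3 : 3 ∣ Nat.card K := by
      by_contra h3
      have hdvd := Subgroup.card_dvd_of_le hKle
      rw [hA12] at hdvd
      obtain ⟨c, hc⟩ := h4
      have hK4 : Nat.card K = 4 := by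
        have := Nat.le_of_dvd (by norm_num) hdvd
        rcases (show c = 0 ∨ c = 1 ∨ c = 2 ∨ c = 3 by omega) with rfl | rfl | rfl | rfl
        · have := Nat.card_pos (α := K); omega
        · omega
        · rw [hc] at hdvd; omega
        · rw [hc] at h3; exact absurd (dvd_mul_left 3 4) h3
      have hH4 : 4 ∣ Nat.card (blockStab f ⊓ alternatingGroup Ω : Subgroup (Perm Ω)) := by
        haveI : MulAction.IsPretransitive (blockStab f ⊓ alternatingGroup Ω : Subgroup (Perm Ω)) Ω := ⟨fun u v => by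
          obtain ⟨h, hh, e⟩ := exists_even_trans ha hf hβ u v
          exact ⟨⟨h, hh⟩, e⟩⟩
        have h := (MulAction.stabilizer (blockStab f ⊓ alternatingGroup Ω : Subgroup (Perm Ω)) x).index_dvd_card
        rwa [MulAction.index_stabilizer_of_transitive, Nat.card_eq_fintype_card (α := Ω), hn] at h
      have heq := Subgroup.eq_of_le_of_card_ge hle (by rw [hK4]; exact Nat.le_of_dvd Nat.card_pos hH4)
      rw [← heq] at hg
      exact hsep ((hg.1 p q).mp hpq)
    rw [Subgroup.eq_of_le_of_card_ge hKle (by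
      rw [hA12]; exact Nat.le_of_dvd Nat.card_pos ((Nat.Coprime.mul_dvd_of_dvd_of_dvd (by norm_num : Nat.Coprime 4 3) h4 h3) : 4 * 3 ∣ _))]
  have hprim := isPreprimitive_over ha hb hab hf hcard hle hg hpq hsep
  rcases Nat.lt_or_ge 2 a with ha3 | ha2
  · -- a three-cycle inside one block
    obtain ⟨w, hw, hwx, hwy⟩ : ∃ w, f w = f x ∧ w ≠ x ∧ w ≠ y := by
      by_contra hcon
      have hsub : (Finset.univ.filter fun v => f v = f x) ⊆ {x, y} := fun v hv => by
        simp only [Finset.mem_insert, Finset.mem_singleton]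
        by_contra h; simp only [not_or] at h
        exact hcon ⟨v, (Finset.mem_filter.mp hv).2, h.1, h.2⟩
      have := Finset.card_le_card hsub
      rw [← Fintype.card_subtype, ← Nat.card_eq_fintype_card, hf] at this
      exact absurd (this.trans Finset.card_le_two) (by omega)
    have h3 : (swap x y * swap x w).IsThreeCycle := isThreeCycle_of_swaps hxy hwx.symm hwy.symm
    exact Perm.alternatingGroup_le_of_isPreprimitive_of_isThreeCycle_mem hprim h3
      (hle ⟨mul_mem (swap_mem_blockStab hfxy) (swap_mem_blockStab hw.symm), h3.mem_alternatingGroup⟩)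
  · obtain rfl : a = 2 := by omega
    obtain ⟨t, htK, ht⟩ := exists_threeCycle_pairs (f := f) (b := b) (by omega) (by omega) hf hcard hle hg hpq hsep
    exact Perm.alternatingGroup_le_of_isPreprimitive_of_isThreeCycle_mem hprim ht htK

end CfsgLib.Classical22
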